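import Mathlib

set_option autoImplicit false

namespace Cfsg.Agent.Lib.H2

open Matrix
open scoped commutatorElement

variable {ι : Type*} [DecidableEq ι] [Fintype ι] {F : Type*} [Field F]

/-- The matrix which is `[[a, b], [c, d]]` on the rows and columns `i`, `j` and the identity
elsewhere. -/
def M4 (i j : ι) (a b c d : F) : Matrix ι ι F :=
  1 + single i i (a - 1) + single i j b + single j i c + single j j (d - 1)

theorem M4_one (i j : ι) : M4 i j (1 : F) 0 0 1 = 1 := by
  simp [M4]

theorem M4_mul_transvection {i j : ι} (hij : i ≠ j) (a b c d t : F) :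
    M4 i j a b c d * (1 + single i j t) = M4 i j a (b + a * t) c (d + c * t) := by
  unfold M4
  have e1 : b + a * t = b + t + (a - 1) * t := by ring
  have e2 : d + c * t - 1 = (d - 1) + c * t := by ring
  rw [e1, e2, single_add, single_add, single_add]
  simp only [mul_add, add_mul, mul_one, one_mul, single_mul_single_same,
    single_mul_single_of_ne _ _ _ _ hij.symm, add_zero]
  abel

theorem M4_mul_transvection' {i j : ι} (hij : i ≠ j) (a b c d t : F) :
    M4 i j a b c d * (1 + single j i t) = M4 i j (a + b * t) b (c + d * t) d := by
  unfold M4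
  have e1 : c + d * t = c + t + (d - 1) * t := by ring
  have e2 : a + b * t - 1 = (a - 1) + b * t := by ring
  rw [e1, e2, single_add, single_add, single_add]
  simp only [mul_add, add_mul, mul_one, one_mul, single_mul_single_same,
    single_mul_single_of_ne _ _ _ _ hij, add_zero]
  abel

theorem diag2n_eq_M4 {i j : ι} (hij : i ≠ j) (a : F) (ha : a ≠ 0) :
    (SpecialLinearGroup.diag2n hij a ha : Matrix ι ι F) = M4 i j a 0 0 a⁻¹ := by
  rw [SpecialLinearGroup.diag2n_coe]
  unfold M4
  ext k l
  simp only [Matrix.add_apply, single_zero, add_zero]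
  by_cases hkl : k = l
  · subst hkl
    rw [diagonal_apply_eq, one_apply_eq]
    by_cases hki : k = i
    · subst hki
      rw [if_pos rfl, single_apply_same, single_apply_of_row_ne hij.symm]
      ring
    · rw [if_neg hki, single_apply_of_row_ne (Ne.symm hki)]
      by_cases hkj : k = j
      · subst hkj
        rw [if_pos rfl, single_apply_same]
        ring
      · rw [if_neg hkj, single_apply_of_row_ne (Ne.symm hkj)]
        ring
  · rw [diagonal_apply_ne _ hkl, one_apply_ne hkl,
      single_apply_of_ne, single_apply_of_ne]
    · ring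
    · intro h
      exact hkl (h.1.symm.trans h.2)
    · intro h
      exact hkl (h.1.symm.trans h.2)

/-- `diag2n` is a product of transvections -/
theorem diag2n_decompose {i j : ι} (hij : i ≠ j) (a : F) (ha : a ≠ 0) :
    SpecialLinearGroup.diag2n hij a ha =
      SpecialLinearGroup.transvection hij a *
      SpecialLinearGroup.transvection hij.symm (-a⁻¹) *
      SpecialLinearGroup.transvection hij a *
      SpecialLinearGroup.transvection hij (-1) *
      SpecialLinearGroup.transvection hij.symm 1 *
      SpecialLinearGroup.transvection hij (-1) := by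
  apply SpecialLinearGroup.coeMonoidHom_injective
  simp only [map_mul, SpecialLinearGroup.coeMonoidHom_apply, SpecialLinearGroup.transvection_coe]
  rw [diag2n_eq_M4]
  have h0 : (1 + single i j a : Matrix ι ι F) = M4 i j 1 a 0 1 := by
    have := M4_mul_transvection hij (1 : F) 0 0 1 a
    rw [M4_one, one_mul] at this
    rw [this]
    simp
  nth_rewrite 1 [h0]
  rw [M4_mul_transvection' hij, M4_mul_transvection hij, M4_mul_transvection hij,
    M4_mul_transvection' hij, M4_mul_transvection hij]
  congr 1 <;> field_simp <;> ring

/-- induction principle: transvections generate `SL` -/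
theorem SL_transvection_induction [Nontrivial ι] (P : SpecialLinearGroup ι F → Prop)
    (htransvec : ∀ (i j : ι) (h : i ≠ j) (c : F), P (SpecialLinearGroup.transvection h c))
    (hmul : ∀ A B, P A → P B → P (A * B)) (A : SpecialLinearGroup ι F) : P A := by
  refine SpecialLinearGroup.diagonal_transvection_induction' P _ (fun i j hij c hc ↦ ?_) htransvec hmul
  rw [diag2n_decompose hij c hc]
  refine hmul _ _ (hmul _ _ (hmul _ _ (hmul _ _ (hmul _ _ ?_ ?_) ?_) ?_) ?_) ?_
  all_goals exact htransvec _ _ _ _

/-- transvections generate `SL` (closure form) -/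
theorem SL_closure_transvection [Nontrivial ι] :
    Subgroup.closure {A : SpecialLinearGroup ι F |
      ∃ (i j : ι) (h : i ≠ j) (c : F), A = SpecialLinearGroup.transvection h c} = ⊤ := by
  rw [eq_top_iff]
  intro A _
  refine SL_transvection_induction _ (fun i j h c => ?_) (fun A B hA hB => mul_mem hA hB) A
  exact Subgroup.subset_closure ⟨i, j, h, c, rfl⟩

/-- Steinberg relation: `T_ij(c) = ⁅T_ik(c), T_kj(1)⁆` for distinct `i, j, k`. -/
theorem transvection_eq_commutator {i j k : ι} (hij : i ≠ j) (hik : i ≠ k) (hkj : k ≠ j) (c : F) :
    SpecialLinearGroup.transvection hij c =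
      ⁅SpecialLinearGroup.transvection hik c, SpecialLinearGroup.transvection hkj (1 : F)⁆ := by
  rw [commutatorElement_def, SpecialLinearGroup.transvection_inv,
    SpecialLinearGroup.transvection_inv]
  apply SpecialLinearGroup.coeMonoidHom_injective
  simp only [map_mul, SpecialLinearGroup.coeMonoidHom_apply, SpecialLinearGroup.transvection_coe]
  simp only [mul_add, add_mul, mul_one, one_mul, single_mul_single_same,
    single_mul_single_of_ne _ _ _ _ hik.symm, single_mul_single_of_ne _ _ _ _ hij.symm,
    single_mul_single_of_ne _ _ _ _ hkj.symm, add_zero, ← single_neg, mul_neg, neg_mul]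
  abel

/-- `SL(ι, F)` is perfect when `ι` has at least three elements -/
theorem SL_commutator_eq_top (h3 : 3 ≤ Fintype.card ι) :
    commutator (SpecialLinearGroup ι F) = ⊤ := by
  have : Nontrivial ι := Fintype.one_lt_card_iff_nontrivial.mp (by omega)
  rw [eq_top_iff]
  intro A _
  refine SL_transvection_induction _ (fun i j h c => ?_) (fun A B hA hB => mul_mem hA hB) A
  obtain ⟨k, hk⟩ : ∃ k, k ∉ ({i, j} : Finset ι) := by
    by_contra hcon
    push Not at hcon
    have : Fintype.card ι ≤ ({i, j} : Finset ι).card := by
      rw [← Finset.card_univ]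
      exact Finset.card_le_card (fun x _ => hcon x)
    have h2 : ({i, j} : Finset ι).card ≤ 2 := Finset.card_le_two
    omega
  simp only [Finset.mem_insert, Finset.mem_singleton, not_or] at hk
  rw [transvection_eq_commutator h (Ne.symm hk.1) hk.2 c]
  exact Subgroup.commutator_mem_commutator (Subgroup.mem_top _) (Subgroup.mem_top _)

end Cfsg.Agent.Lib.H2
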