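import Mathlib
import Cfsg.Agent.Lib.H4.Symp

set_option autoImplicit false

/-!
# `Sp_{2m}(F)` is transitive on non-zero vectors
-/

namespace Cfsg.Agent.Lib.H2.Sp

open Matrix Cfsg.Agent.Lib.H4

variable {F : Type*} [Field F] (m : ℕ)

/-- non-degeneracy of the symplectic form -/
theorem exists_sympForm_ne_zero (v : Fin m ⊕ Fin m → F) (hv : v ≠ 0) :
    ∃ z : Fin m ⊕ Fin m → F, Cfsg.sympForm m F v z ≠ 0 := by
  classical
  have h1 : v ᵥ* Matrix.J (Fin m) F ≠ 0 := by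
    intro h0
    apply hv
    have h2 : (v ᵥ* Matrix.J (Fin m) F) ᵥ* Matrix.J (Fin m) F = 0 := by
      rw [h0, Matrix.zero_vecMul]
    rw [Matrix.vecMul_vecMul, Matrix.J_squared, Matrix.vecMul_neg, Matrix.vecMul_one,
      neg_eq_zero] at h2
    exact h2
  obtain ⟨i, hi⟩ : ∃ i, (v ᵥ* Matrix.J (Fin m) F) i ≠ 0 := by
    by_contra hcon
    push Not at hcon
    exact h1 (funext hcon)
  refine ⟨Pi.single i 1, ?_⟩
  unfold Cfsg.sympForm
  rw [Matrix.dotProduct_mulVec, dotProduct_single, mul_one]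
  exact hi

/-- a vector not orthogonal to either of two given non-zero vectors -/
theorem exists_sympForm_ne_zero_two (v w : Fin m ⊕ Fin m → F) (hv : v ≠ 0) (hw : w ≠ 0) :
    ∃ z : Fin m ⊕ Fin m → F, Cfsg.sympForm m F v z ≠ 0 ∧ Cfsg.sympForm m F w z ≠ 0 := by
  obtain ⟨z₁, h1⟩ := exists_sympForm_ne_zero m v hv
  obtain ⟨z₂, h2⟩ := exists_sympForm_ne_zero m w hw
  by_cases h3 : Cfsg.sympForm m F w z₁ = 0
  · by_cases h4 : Cfsg.sympForm m F v z₂ = 0
    · refine ⟨z₁ + z₂, ?_, ?_⟩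
      · rw [sympForm_add_right, h4, add_zero]; exact h1
      · rw [sympForm_add_right, h3, zero_add]; exact h2
    · exact ⟨z₂, h4, h2⟩
  · exact ⟨z₁, h1, h3⟩

/-- one transvection suffices for non-orthogonal vectors -/
theorem exists_of_sympForm_ne_zero (v w : Fin m ⊕ Fin m → F) (h : Cfsg.sympForm m F v w ≠ 0) :
    ∃ g : Matrix.symplecticGroup (Fin m) F,
      (g : Matrix (Fin m ⊕ Fin m) (Fin m ⊕ Fin m) F).mulVec v = w := by
  refine ⟨⟨Cfsg.sympTransvection m (w - v) (Cfsg.sympForm m F v w)⁻¹,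
    sympTransvection_mem m _ _⟩, ?_⟩
  show Cfsg.sympTransvection m (w - v) (Cfsg.sympForm m F v w)⁻¹ *ᵥ v = w
  rw [sympTransvection_mulVec]
  have h1 : Cfsg.sympForm m F v (w - v) = Cfsg.sympForm m F v w := by
    have : w - v = w + (-1 : F) • v := by
      rw [neg_smul, one_smul, sub_eq_add_neg]
    rw [this, sympForm_add_right, sympForm_smul_right, sympForm_self, mul_zero, add_zero]
  rw [h1, inv_mul_cancel₀ h, one_smul, add_sub_cancel]

theorem transitive (v w : Fin m ⊕ Fin m → F) (hv : v ≠ 0) (hw : w ≠ 0) :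
    ∃ g : Matrix.symplecticGroup (Fin m) F,
      (g : Matrix (Fin m ⊕ Fin m) (Fin m ⊕ Fin m) F).mulVec v = w := by
  obtain ⟨z, h1, h2⟩ := exists_sympForm_ne_zero_two m v w hv hw
  obtain ⟨g₁, hg₁⟩ := exists_of_sympForm_ne_zero m v z h1
  have h2' : Cfsg.sympForm m F z w ≠ 0 := by
    rw [sympForm_swap, neg_ne_zero]; exact h2
  obtain ⟨g₂, hg₂⟩ := exists_of_sympForm_ne_zero m z w h2'
  refine ⟨g₂ * g₁, ?_⟩
  rw [Submonoid.coe_mul, ← Matrix.mulVec_mulVec, hg₁, hg₂]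

end Cfsg.Agent.Lib.H2.Sp
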