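import Mathlib
import Cfsg.Agent.Lib.H2.SpTrans

set_option autoImplicit false
set_option linter.unusedSectionVars false
set_option linter.unusedVariables false

/-!
# Symplectic transvections: transitivity on hyperbolic pairs
-/

namespace Cfsg.Agent.Lib.H2.Sp

open Matrix Cfsg.Agent.Lib.H4

variable {F : Type*} [Field F] (m : ℕ)

/-- a transvection as an element of the symplectic group -/
def tv (v : Fin m ⊕ Fin m → F) (c : F) : Matrix.symplecticGroup (Fin m) F :=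
  ⟨Cfsg.sympTransvection m v c, sympTransvection_mem m v c⟩

theorem tv_val (v : Fin m ⊕ Fin m → F) (c : F) :
    ((tv m v c : Matrix.symplecticGroup (Fin m) F) : Matrix (Fin m ⊕ Fin m) (Fin m ⊕ Fin m) F) =
      Cfsg.sympTransvection m v c := rfl

/-- the subgroup generated by the transvections -/
def TS (F : Type*) [Field F] (m : ℕ) : Subgroup (Matrix.symplecticGroup (Fin m) F) :=
  Subgroup.closure {g | ∃ v c, g = tv m v c}

theorem tv_mem_TS (v : Fin m ⊕ Fin m → F) (c : F) : tv m v c ∈ TS F m :=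
  Subgroup.subset_closure ⟨v, c, rfl⟩

theorem tv_mulVec (v : Fin m ⊕ Fin m → F) (c : F) (x : Fin m ⊕ Fin m → F) :
    ((tv m v c : Matrix.symplecticGroup (Fin m) F) : Matrix (Fin m ⊕ Fin m) (Fin m ⊕ Fin m) F) *ᵥ x
      = x + (c * Cfsg.sympForm m F x v) • v := sympTransvection_mulVec m v c x

theorem sympForm_sub_right (u v w : Fin m ⊕ Fin m → F) :
    Cfsg.sympForm m F u (v - w) = Cfsg.sympForm m F u v - Cfsg.sympForm m F u w := by
  have : v - w = v + (-1 : F) • w := by rw [neg_smul, one_smul, sub_eq_add_neg]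
  rw [this, sympForm_add_right, sympForm_smul_right]; ring

/-- one transvection maps `v` to `w` when they are not orthogonal, fixing everything orthogonal
to `w - v` -/
theorem exists_tv_of_ne_zero (v w : Fin m ⊕ Fin m → F) (h : Cfsg.sympForm m F v w ≠ 0) :
    ∃ g ∈ TS F m, (g : Matrix (Fin m ⊕ Fin m) (Fin m ⊕ Fin m) F) *ᵥ v = w ∧
      ∀ u, Cfsg.sympForm m F u v = Cfsg.sympForm m F u w →
        (g : Matrix (Fin m ⊕ Fin m) (Fin m ⊕ Fin m) F) *ᵥ u = u := by
  refine ⟨tv m (w - v) (Cfsg.sympForm m F v w)⁻¹, tv_mem_TS m _ _, ?_, ?_⟩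
  · rw [tv_mulVec, sympForm_sub_right, sympForm_self, sub_zero, inv_mul_cancel₀ h, one_smul,
      add_sub_cancel]
  · intro u hu
    rw [tv_mulVec, sympForm_sub_right, hu, sub_self, mul_zero, zero_smul, add_zero]

/-- the transvection subgroup is transitive on non-zero vectors -/
theorem TS_transitive (v w : Fin m ⊕ Fin m → F) (hv : v ≠ 0) (hw : w ≠ 0) :
    ∃ g ∈ TS F m, (g : Matrix (Fin m ⊕ Fin m) (Fin m ⊕ Fin m) F) *ᵥ v = w := by
  obtain ⟨z, h1, h2⟩ := exists_sympForm_ne_zero_two m v w hv hw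
  obtain ⟨g₁, hg₁m, hg₁, -⟩ := exists_tv_of_ne_zero m v z h1
  have h2' : Cfsg.sympForm m F z w ≠ 0 := by
    rw [sympForm_swap, neg_ne_zero]; exact h2
  obtain ⟨g₂, hg₂m, hg₂, -⟩ := exists_tv_of_ne_zero m z w h2'
  refine ⟨g₂ * g₁, mul_mem hg₂m hg₁m, ?_⟩
  rw [Submonoid.coe_mul, ← Matrix.mulVec_mulVec, hg₁, hg₂]

/-- fixing `u`, the transvection subgroup is transitive on `{v | f(u, v) = 1}` -/
theorem TS_pair_step (u v w : Fin m ⊕ Fin m → F) (hv : Cfsg.sympForm m F u v = 1)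
    (hw : Cfsg.sympForm m F u w = 1) :
    ∃ g ∈ TS F m, (g : Matrix (Fin m ⊕ Fin m) (Fin m ⊕ Fin m) F) *ᵥ u = u ∧
      (g : Matrix (Fin m ⊕ Fin m) (Fin m ⊕ Fin m) F) *ᵥ v = w := by
  by_cases h : Cfsg.sympForm m F v w = 0
  · -- go through `v + u`
    have h1 : Cfsg.sympForm m F v (v + u) ≠ 0 := by
      rw [sympForm_add_right, sympForm_self, zero_add, sympForm_swap, hv]
      simp
    have h2 : Cfsg.sympForm m F (v + u) w ≠ 0 := by
      rw [sympForm_add_left, h, hw, zero_add]; exact one_ne_zero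
    obtain ⟨g₁, hg₁m, hg₁, hg₁f⟩ := exists_tv_of_ne_zero m v (v + u) h1
    obtain ⟨g₂, hg₂m, hg₂, hg₂f⟩ := exists_tv_of_ne_zero m (v + u) w h2
    refine ⟨g₂ * g₁, mul_mem hg₂m hg₁m, ?_, ?_⟩
    · rw [Submonoid.coe_mul, ← Matrix.mulVec_mulVec, hg₁f u, hg₂f u]
      · rw [sympForm_add_right, sympForm_self, add_zero, hv, hw]
      · rw [sympForm_add_right, sympForm_self, add_zero]
    · rw [Submonoid.coe_mul, ← Matrix.mulVec_mulVec, hg₁, hg₂]
  · obtain ⟨g, hgm, hg, hgf⟩ := exists_tv_of_ne_zero m v w h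
    exact ⟨g, hgm, hgf u (by rw [hv, hw]), hg⟩

/-- the transvection subgroup is transitive on hyperbolic pairs -/
theorem TS_pair_transitive (u v u' v' : Fin m ⊕ Fin m → F) (h : Cfsg.sympForm m F u v = 1)
    (h' : Cfsg.sympForm m F u' v' = 1) :
    ∃ g ∈ TS F m, (g : Matrix (Fin m ⊕ Fin m) (Fin m ⊕ Fin m) F) *ᵥ u = u' ∧
      (g : Matrix (Fin m ⊕ Fin m) (Fin m ⊕ Fin m) F) *ᵥ v = v' := by
  have hu : u ≠ 0 := by
    rintro rfl
    have : Cfsg.sympForm m F (0 : Fin m ⊕ Fin m → F) v = 0 := by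
      have := sympForm_smul_left m (0 : F) (0 : Fin m ⊕ Fin m → F) v
      rwa [zero_smul, zero_mul] at this
    rw [this] at h; exact zero_ne_one h
  have hu' : u' ≠ 0 := by
    rintro rfl
    have : Cfsg.sympForm m F (0 : Fin m ⊕ Fin m → F) v' = 0 := by
      have := sympForm_smul_left m (0 : F) (0 : Fin m ⊕ Fin m → F) v'
      rwa [zero_smul, zero_mul] at this
    rw [this] at h'; exact zero_ne_one h'
  obtain ⟨g₁, hg₁m, hg₁⟩ := TS_transitive m u u' hu hu'
  have hg₁S := (mem_symplecticGroup_iff_sympForm m g₁.1).1 g₁.2 u v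
  rw [hg₁, h] at hg₁S
  obtain ⟨g₂, hg₂m, hg₂u, hg₂v⟩ := TS_pair_step m u' _ v' hg₁S h'
  refine ⟨g₂ * g₁, mul_mem hg₂m hg₁m, ?_, ?_⟩
  · rw [Submonoid.coe_mul, ← Matrix.mulVec_mulVec, hg₁, hg₂u]
  · rw [Submonoid.coe_mul, ← Matrix.mulVec_mulVec, hg₂v]

end Cfsg.Agent.Lib.H2.Sp
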