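import Mathlib
import Cfsg.Agent.Lib.H2.SpGen

set_option autoImplicit false
set_option linter.unusedSectionVars false
set_option linter.unusedVariables false

/-!
# The embedding `Sp_{2m} → Sp_{2m+2}` and the stabilizer of a hyperbolic pair
-/

namespace Cfsg.Agent.Lib.H2.Sp

open Matrix Cfsg.Agent.Lib.H4

variable {F : Type*} [Field F] {m : ℕ}

/-- index type of `F^{2m}` -/
abbrev K (m : ℕ) : Type := Fin m ⊕ Fin m

/-- embedding of index types -/
def emb : K m → K (m + 1) := Sum.map Fin.castSucc Fin.castSucc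

/-- the two new indices -/
def ia : K (m + 1) := Sum.inl (Fin.last m)
def ib : K (m + 1) := Sum.inr (Fin.last m)

/-- partial inverse of `emb` -/
def dec : K (m + 1) → Option (K m) :=
  Sum.elim (Fin.lastCases none (fun i => some (Sum.inl i)))
    (Fin.lastCases none (fun i => some (Sum.inr i)))

@[simp] theorem dec_emb (i : K m) : dec (emb i) = some i := by
  rcases i with i | i <;> simp [dec, emb]

@[simp] theorem dec_ia : dec (ia : K (m + 1)) = none := by simp [dec, ia]

@[simp] theorem dec_ib : dec (ib : K (m + 1)) = none := by simp [dec, ib]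

theorem emb_ne_ia (i : K m) : emb i ≠ ia := by
  intro h
  have := congrArg dec h
  simp at this

theorem emb_ne_ib (i : K m) : emb i ≠ ib := by
  intro h
  have := congrArg dec h
  simp at this

theorem ia_ne_ib : (ia : K (m + 1)) ≠ ib := by simp [ia, ib]

theorem vec_ext (u v : K (m + 1) → F) (h : ∀ i, u (emb i) = v (emb i)) (ha : u ia = v ia)
    (hb : u ib = v ib) : u = v := by
  funext i'
  rcases i' with i | i
  · refine Fin.lastCases ?_ (fun j => ?_) i
    · exact ha
    · exact h (Sum.inl j)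
  · refine Fin.lastCases ?_ (fun j => ?_) i
    · exact hb
    · exact h (Sum.inr j)

theorem sum_split {M : Type*} [AddCommMonoid M] (f : K (m + 1) → M) :
    ∑ i', f i' = ∑ i, f (emb i) + f ia + f ib := by
  rw [Fintype.sum_sum_type, Fintype.sum_sum_type, Fin.sum_univ_castSucc, Fin.sum_univ_castSucc]
  simp only [emb, ia, ib, Sum.map_inl, Sum.map_inr]
  abel

theorem sympForm_eq (u v : K m → F) :
    Cfsg.sympForm m F u v = ∑ i : Fin m, (u (.inr i) * v (.inl i) - u (.inl i) * v (.inr i)) := by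
  unfold Cfsg.sympForm
  simp only [Matrix.J, dotProduct, Fintype.sum_sum_type, Matrix.mulVec, Matrix.fromBlocks_apply₁₁,
    Matrix.fromBlocks_apply₁₂, Matrix.fromBlocks_apply₂₁, Matrix.fromBlocks_apply₂₂,
    Matrix.zero_apply, zero_mul, Finset.sum_const_zero, zero_add, add_zero, Matrix.neg_apply,
    Matrix.one_apply, neg_mul, ite_mul, one_mul, Finset.sum_neg_distrib, Finset.sum_ite_eq,
    Finset.mem_univ, if_true, mul_neg]
  rw [Finset.sum_sub_distrib]
  ring

/-- decomposition of the form -/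
theorem sympForm_succ (u v : K (m + 1) → F) :
    Cfsg.sympForm (m + 1) F u v =
      Cfsg.sympForm m F (u ∘ emb) (v ∘ emb) + (u ib * v ia - u ia * v ib) := by
  rw [sympForm_eq, sympForm_eq, Fin.sum_univ_castSucc]
  rfl


/-- the extension of a linear map by the identity on the new coordinates -/
def L (B : Matrix (K m) (K m) F) : (K (m + 1) → F) →ₗ[F] (K (m + 1) → F) where
  toFun u := fun i' => (dec i').elim (u i') (fun i => (B *ᵥ (u ∘ emb)) i)
  map_add' u v := by
    funext i'
    rcases h : dec i' with _ | i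
    · simp [h]
    · have : (u + v) ∘ emb = u ∘ emb + v ∘ emb := rfl
      simp [h, this, Matrix.mulVec_add]
  map_smul' c u := by
    funext i'
    rcases h : dec i' with _ | i
    · simp [h]
    · have : (c • u) ∘ emb = c • (u ∘ emb) := rfl
      simp [h, this, Matrix.mulVec_smul]

theorem L_emb (B : Matrix (K m) (K m) F) (u : K (m + 1) → F) (i : K m) :
    L B u (emb i) = (B *ᵥ (u ∘ emb)) i := by
  simp [L]

theorem L_comp_emb (B : Matrix (K m) (K m) F) (u : K (m + 1) → F) :
    (L B u) ∘ emb = B *ᵥ (u ∘ emb) := funext (L_emb B u)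

theorem L_ia (B : Matrix (K m) (K m) F) (u : K (m + 1) → F) : L B u ia = u ia := by
  simp [L]

theorem L_ib (B : Matrix (K m) (K m) F) (u : K (m + 1) → F) : L B u ib = u ib := by
  simp [L]

/-- the extended matrix -/
def ext (B : Matrix (K m) (K m) F) : Matrix (K (m + 1)) (K (m + 1)) F :=
  LinearMap.toMatrix' (L B)

theorem ext_mulVec (B : Matrix (K m) (K m) F) (u : K (m + 1) → F) : ext B *ᵥ u = L B u :=
  LinearMap.toMatrix'_mulVec _ _

theorem ext_mul (B C : Matrix (K m) (K m) F) : ext (B * C) = ext B * ext C := by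
  rw [Matrix.ext_iff_mulVec]
  intro u
  rw [← Matrix.mulVec_mulVec, ext_mulVec, ext_mulVec, ext_mulVec]
  apply vec_ext
  · intro i
    rw [L_emb, L_emb, L_comp_emb, Matrix.mulVec_mulVec]
  · rw [L_ia, L_ia, L_ia]
  · rw [L_ib, L_ib, L_ib]

theorem ext_one : ext (1 : Matrix (K m) (K m) F) = 1 := by
  rw [Matrix.ext_iff_mulVec]
  intro u
  rw [ext_mulVec, Matrix.one_mulVec]
  apply vec_ext
  · intro i
    rw [L_emb, Matrix.one_mulVec]; rfl
  · rw [L_ia]
  · rw [L_ib]

/-- zero extension of vectors -/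
def zext (x : K m → F) : K (m + 1) → F := fun i' => (dec i').elim 0 x

theorem zext_comp_emb (x : K m → F) : zext x ∘ emb = x := by
  funext i; simp [zext]

theorem zext_ia (x : K m → F) : zext x ia = 0 := by simp [zext]

theorem zext_ib (x : K m → F) : zext x ib = 0 := by simp [zext]

theorem ext_injective : Function.Injective (ext (F := F) (m := m)) := by
  intro B C h
  rw [Matrix.ext_iff_mulVec]
  intro x
  have h1 := congrArg (fun M => (M *ᵥ zext x) ∘ emb) h
  simp only [ext_mulVec, L_comp_emb, zext_comp_emb] at h1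
  exact h1

theorem ext_mem (B : Matrix (K m) (K m) F) (hB : B ∈ Matrix.symplecticGroup (Fin m) F) :
    ext B ∈ Matrix.symplecticGroup (Fin (m + 1)) F := by
  rw [mem_symplecticGroup_iff_sympForm] at hB ⊢
  intro u v
  rw [sympForm_succ, sympForm_succ u v, ext_mulVec, ext_mulVec, L_comp_emb, L_comp_emb, hB,
    L_ia, L_ia, L_ib, L_ib]

/-- the block embedding `Sp_{2m} → Sp_{2m+2}` -/
def psi : Matrix.symplecticGroup (Fin m) F →* Matrix.symplecticGroup (Fin (m + 1)) F :=
  MonoidHom.mk' (fun B => ⟨ext B.1, ext_mem B.1 B.2⟩) (by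
    intro B C
    apply Subtype.ext
    exact ext_mul B.1 C.1)

theorem psi_val (B : Matrix.symplecticGroup (Fin m) F) :
    ((psi B : Matrix.symplecticGroup (Fin (m + 1)) F) : Matrix (K (m + 1)) (K (m + 1)) F) =
      ext B.1 := rfl

theorem psi_injective : Function.Injective (psi (F := F) (m := m)) := by
  intro B C h
  apply Subtype.ext
  apply ext_injective
  rw [← psi_val, ← psi_val, h]


/-- hyperbolic pairs -/
abbrev HypPair (m : ℕ) (F : Type*) [Field F] : Type _ :=
  {p : (K m → F) × (K m → F) // Cfsg.sympForm m F p.1 p.2 = 1}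

/-- the action of `Sp_{2m}` on hyperbolic pairs -/
@[instance_reducible]
def actHyp : MulAction (Matrix.symplecticGroup (Fin m) F) (HypPair m F) where
  smul g p := ⟨((g : Matrix (K m) (K m) F) *ᵥ p.1.1, (g : Matrix (K m) (K m) F) *ᵥ p.1.2), by
    rw [(mem_symplecticGroup_iff_sympForm m g.1).1 g.2]; exact p.2⟩
  one_smul p := by
    apply Subtype.ext
    apply Prod.ext
    · show ((1 : Matrix.symplecticGroup (Fin m) F) : Matrix (K m) (K m) F) *ᵥ p.1.1 = p.1.1
      rw [OneMemClass.coe_one, Matrix.one_mulVec]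
    · show ((1 : Matrix.symplecticGroup (Fin m) F) : Matrix (K m) (K m) F) *ᵥ p.1.2 = p.1.2
      rw [OneMemClass.coe_one, Matrix.one_mulVec]
  mul_smul g h p := by
    apply Subtype.ext
    apply Prod.ext
    · show ((g * h : Matrix.symplecticGroup (Fin m) F) : Matrix (K m) (K m) F) *ᵥ p.1.1 =
        (g : Matrix (K m) (K m) F) *ᵥ ((h : Matrix (K m) (K m) F) *ᵥ p.1.1)
      rw [Submonoid.coe_mul, Matrix.mulVec_mulVec]
    · show ((g * h : Matrix.symplecticGroup (Fin m) F) : Matrix (K m) (K m) F) *ᵥ p.1.2 =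
        (g : Matrix (K m) (K m) F) *ᵥ ((h : Matrix (K m) (K m) F) *ᵥ p.1.2)
      rw [Submonoid.coe_mul, Matrix.mulVec_mulVec]

attribute [local instance] actHyp

theorem smul_fst (g : Matrix.symplecticGroup (Fin m) F) (p : HypPair m F) :
    (g • p).1.1 = (g : Matrix (K m) (K m) F) *ᵥ p.1.1 := rfl

theorem smul_snd (g : Matrix.symplecticGroup (Fin m) F) (p : HypPair m F) :
    (g • p).1.2 = (g : Matrix (K m) (K m) F) *ᵥ p.1.2 := rfl

theorem isPretransitive : MulAction.IsPretransitive (Matrix.symplecticGroup (Fin m) F) (HypPair m F) := by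
  constructor
  intro p p'
  obtain ⟨g, -, h1, h2⟩ := TS_pair_transitive m p.1.1 p.1.2 p'.1.1 p'.1.2 p.2 p'.2
  exact ⟨g, Subtype.ext (Prod.ext h1 h2)⟩

theorem sympForm_single_ia (w : K (m + 1) → F) :
    Cfsg.sympForm (m + 1) F w (Pi.single ia 1) = w ib := by
  rw [sympForm_succ]
  have h0 : (Pi.single (ia : K (m + 1)) (1 : F)) ∘ emb = 0 := by
    funext i
    simp [emb_ne_ia i]
  rw [h0]
  have : Cfsg.sympForm m F (w ∘ emb) 0 = 0 := by
    have := sympForm_smul_right m (0 : F) (w ∘ emb) 0
    rwa [zero_smul, zero_mul] at this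
  rw [this, Pi.single_eq_same, Pi.single_eq_of_ne (Ne.symm ia_ne_ib)]
  ring

theorem sympForm_single_ib (w : K (m + 1) → F) :
    Cfsg.sympForm (m + 1) F w (Pi.single ib 1) = - w ia := by
  rw [sympForm_succ]
  have h0 : (Pi.single (ib : K (m + 1)) (1 : F)) ∘ emb = 0 := by
    funext i
    simp [emb_ne_ib i]
  rw [h0]
  have : Cfsg.sympForm m F (w ∘ emb) 0 = 0 := by
    have := sympForm_smul_right m (0 : F) (w ∘ emb) 0
    rwa [zero_smul, zero_mul] at this
  rw [this, Pi.single_eq_same, Pi.single_eq_of_ne ia_ne_ib]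
  ring

/-- the base hyperbolic pair `(e_b, e_a)` -/
def basePair : HypPair (m + 1) F :=
  ⟨(Pi.single ib 1, Pi.single ia 1), by
    show Cfsg.sympForm (m + 1) F (Pi.single ib 1) (Pi.single ia 1) = 1
    rw [sympForm_single_ia, Pi.single_eq_same]⟩

theorem ext_mulVec_single_ia (B : Matrix (K m) (K m) F) :
    ext B *ᵥ (Pi.single ia 1) = Pi.single ia 1 := by
  rw [ext_mulVec]
  apply vec_ext
  · intro i
    rw [L_emb]
    have h0 : (Pi.single (ia : K (m + 1)) (1 : F)) ∘ emb = 0 := by
      funext i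
      simp [emb_ne_ia i]
    rw [h0, Matrix.mulVec_zero, Pi.single_eq_of_ne (emb_ne_ia i)]
    rfl
  · rw [L_ia]
  · rw [L_ib]

theorem ext_mulVec_single_ib (B : Matrix (K m) (K m) F) :
    ext B *ᵥ (Pi.single ib 1) = Pi.single ib 1 := by
  rw [ext_mulVec]
  apply vec_ext
  · intro i
    rw [L_emb]
    have h0 : (Pi.single (ib : K (m + 1)) (1 : F)) ∘ emb = 0 := by
      funext i
      simp [emb_ne_ib i]
    rw [h0, Matrix.mulVec_zero, Pi.single_eq_of_ne (emb_ne_ib i)]
    rfl
  · rw [L_ia]
  · rw [L_ib]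

/-- a symplectic matrix fixing `e_a` and `e_b` is an extension -/
theorem eq_ext_of_fix (A : Matrix (K (m + 1)) (K (m + 1)) F)
    (hA : A ∈ Matrix.symplecticGroup (Fin (m + 1)) F)
    (ha : A *ᵥ (Pi.single ia 1) = Pi.single ia 1) (hb : A *ᵥ (Pi.single ib 1) = Pi.single ib 1) :
    A = ext (A.submatrix emb emb) ∧ A.submatrix emb emb ∈ Matrix.symplecticGroup (Fin m) F := by
  have hA' := (mem_symplecticGroup_iff_sympForm (m + 1) A).1 hA
  have hib : ∀ u, (A *ᵥ u) ib = u ib := by
    intro u
    have := hA' u (Pi.single ia 1)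
    rw [ha, sympForm_single_ia, sympForm_single_ia] at this
    exact this
  have hia : ∀ u, (A *ᵥ u) ia = u ia := by
    intro u
    have := hA' u (Pi.single ib 1)
    rw [hb, sympForm_single_ib, sympForm_single_ib] at this
    exact neg_injective this
  have hcola : ∀ i, A (emb i) ia = 0 := by
    intro i
    have := congrFun ha (emb i)
    rw [Matrix.mulVec_single_one, Pi.single_eq_of_ne (emb_ne_ia i)] at this
    exact this
  have hcolb : ∀ i, A (emb i) ib = 0 := by
    intro i
    have := congrFun hb (emb i)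
    rw [Matrix.mulVec_single_one, Pi.single_eq_of_ne (emb_ne_ib i)] at this
    exact this
  have hmv : ∀ u, A *ᵥ u = L (A.submatrix emb emb) u := by
    intro u
    apply vec_ext
    · intro i
      rw [L_emb]
      show ∑ j', A (emb i) j' * u j' = ∑ j, A (emb i) (emb j) * u (emb j)
      rw [sum_split, hcola, hcolb, zero_mul, zero_mul, add_zero, add_zero]
    · rw [L_ia, hia]
    · rw [L_ib, hib]
  have h1 : A = ext (A.submatrix emb emb) := by
    rw [Matrix.ext_iff_mulVec]
    intro u
    rw [ext_mulVec, hmv]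
  refine ⟨h1, ?_⟩
  rw [mem_symplecticGroup_iff_sympForm]
  intro x y
  have h2 := hA' (zext x) (zext y)
  rw [hmv, hmv, sympForm_succ, sympForm_succ (zext x), L_comp_emb, L_comp_emb, L_ia, L_ia, L_ib,
    L_ib, zext_comp_emb, zext_comp_emb] at h2
  exact add_right_cancel h2

theorem stabilizer_eq_range :
    MulAction.stabilizer (Matrix.symplecticGroup (Fin (m + 1)) F) (basePair (F := F) (m := m)) =
      (psi (F := F) (m := m)).range := by
  ext g
  rw [MulAction.mem_stabilizer_iff, MonoidHom.mem_range]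
  constructor
  · intro hg
    have hb : (g : Matrix (K (m + 1)) (K (m + 1)) F) *ᵥ (Pi.single ib 1) = Pi.single ib 1 :=
      congrArg (fun p : HypPair (m + 1) F => p.1.1) hg
    have ha : (g : Matrix (K (m + 1)) (K (m + 1)) F) *ᵥ (Pi.single ia 1) = Pi.single ia 1 :=
      congrArg (fun p : HypPair (m + 1) F => p.1.2) hg
    obtain ⟨h1, h2⟩ := eq_ext_of_fix g.1 g.2 ha hb
    refine ⟨⟨_, h2⟩, ?_⟩
    apply Subtype.ext
    rw [psi_val]
    exact h1.symm
  · rintro ⟨B, rfl⟩
    apply Subtype.ext
    apply Prod.ext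
    · show ((psi B : Matrix.symplecticGroup (Fin (m + 1)) F) : Matrix (K (m + 1)) (K (m + 1)) F) *ᵥ
        (Pi.single ib 1) = Pi.single ib 1
      rw [psi_val, ext_mulVec_single_ib]
    · show ((psi B : Matrix.symplecticGroup (Fin (m + 1)) F) : Matrix (K (m + 1)) (K (m + 1)) F) *ᵥ
        (Pi.single ia 1) = Pi.single ia 1
      rw [psi_val, ext_mulVec_single_ia]

theorem card_Sp_succ [Finite F] :
    Nat.card (Matrix.symplecticGroup (Fin (m + 1)) F) =
      Nat.card (Matrix.symplecticGroup (Fin m) F) * Nat.card (HypPair (m + 1) F) := by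
  have := isPretransitive (F := F) (m := m + 1)
  have h1 := Subgroup.card_mul_index
    (MulAction.stabilizer (Matrix.symplecticGroup (Fin (m + 1)) F) (basePair (F := F) (m := m)))
  rw [MulAction.index_stabilizer_of_transitive, stabilizer_eq_range,
    ← Nat.card_congr (MonoidHom.ofInjective psi_injective).toEquiv] at h1
  exact h1.symm

end Cfsg.Agent.Lib.H2.Sp
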