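import Mathlib
import Cfsg.Agent.Lib.H2.SpExt

set_option autoImplicit false
set_option linter.unusedSectionVars false
set_option linter.unusedVariables false

/-!
# `Sp_{2m}(F)` is generated by transvections, and is perfect (with three exceptions)
-/

namespace Cfsg.Agent.Lib.H2.Sp

open Matrix Cfsg.Agent.Lib.H4

variable {F : Type*} [Field F] {m : ℕ}

attribute [local instance] actHyp

theorem psi_tv (v : K m → F) (c : F) : psi (tv m v c) = tv (m + 1) (zext v) c := by
  apply Subtype.ext
  rw [psi_val, tv_val, Matrix.ext_iff_mulVec]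
  intro u
  rw [ext_mulVec, tv_val, sympTransvection_mulVec, sympForm_succ, zext_comp_emb, zext_ia, zext_ib]
  apply vec_ext
  · intro i
    rw [L_emb, sympTransvection_mulVec]
    simp only [Pi.add_apply, Pi.smul_apply, Function.comp_apply, smul_eq_mul]
    have : zext v (emb i) = v i := congrFun (zext_comp_emb v) i
    rw [this]
    ring
  · rw [L_ia]
    simp only [Pi.add_apply, Pi.smul_apply, smul_eq_mul, zext_ia]
    ring
  · rw [L_ib]
    simp only [Pi.add_apply, Pi.smul_apply, smul_eq_mul, zext_ib]
    ring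

theorem map_psi_TS_le : (TS F m).map psi ≤ TS F (m + 1) := by
  unfold TS
  rw [MonoidHom.map_closure, Subgroup.closure_le]
  rintro _ ⟨g, ⟨v, c, rfl⟩, rfl⟩
  rw [psi_tv]
  exact Subgroup.subset_closure ⟨_, _, rfl⟩

/-- the symplectic group is generated by transvections -/
theorem TS_eq_top (m : ℕ) : TS F m = ⊤ := by
  induction m with
  | zero =>
    rw [eq_top_iff]
    intro g _
    have : g = 1 := by
      apply Subtype.ext
      ext i j
      rcases i with i | i <;> exact i.elim0
    rw [this]
    exact Subgroup.one_mem _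
  | succ m ih =>
    rw [eq_top_iff]
    intro g _
    obtain ⟨t, ht, h1, h2⟩ := TS_pair_transitive (m + 1) (g • (basePair (F := F) (m := m))).1.1
      (g • (basePair (F := F) (m := m))).1.2 (basePair (F := F) (m := m)).1.1
      (basePair (F := F) (m := m)).1.2 (g • (basePair (F := F) (m := m))).2
      (basePair (F := F) (m := m)).2
    have hstab : t * g ∈ MulAction.stabilizer (Matrix.symplecticGroup (Fin (m + 1)) F)
        (basePair (F := F) (m := m)) := by
      rw [MulAction.mem_stabilizer_iff, mul_smul]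
      exact Subtype.ext (Prod.ext h1 h2)
    rw [stabilizer_eq_range] at hstab
    obtain ⟨B, hB⟩ := hstab
    have hB' : psi B ∈ TS F (m + 1) := by
      apply map_psi_TS_le
      exact ⟨B, by rw [ih]; exact Subgroup.mem_top _, rfl⟩
    have : g = t⁻¹ * psi B := by rw [hB]; group
    rw [this]
    exact mul_mem (inv_mem ht) hB'


theorem conj_tv (g : Matrix.symplecticGroup (Fin m) F) (v : K m → F) (c : F) :
    g * tv m v c * g⁻¹ = tv m ((g : Matrix (K m) (K m) F) *ᵥ v) c := by
  rw [mul_inv_eq_iff_eq_mul]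
  apply Subtype.ext
  rw [Submonoid.coe_mul, Submonoid.coe_mul, Matrix.ext_iff_mulVec]
  intro x
  rw [← Matrix.mulVec_mulVec, ← Matrix.mulVec_mulVec, tv_mulVec, tv_mulVec, Matrix.mulVec_add,
    Matrix.mulVec_smul, (mem_symplecticGroup_iff_sympForm m g.1).1 g.2]

theorem tv_zero_right (v : K m → F) : tv m v 0 = 1 := by
  apply Subtype.ext
  rw [tv_val, Matrix.ext_iff_mulVec]
  intro x
  rw [sympTransvection_mulVec, zero_mul, zero_smul, add_zero]
  simp

theorem tv_mul (v : K m → F) (a b : F) : tv m v a * tv m v b = tv m v (a + b) := by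
  apply Subtype.ext
  rw [Submonoid.coe_mul, tv_val, tv_val, tv_val, sympTransvection_mul]

theorem tv_smul (a : F) (v : K m → F) (c : F) : tv m (a • v) c = tv m v (c * a ^ 2) := by
  apply Subtype.ext
  rw [tv_val, tv_val, Matrix.ext_iff_mulVec]
  intro x
  rw [sympTransvection_mulVec, sympTransvection_mulVec, sympForm_smul_right, smul_smul]
  congr 2
  ring

section ab

open Abelianization

theorem of_tv_eq (v w : K m → F) (hv : v ≠ 0) (hw : w ≠ 0) (c : F) :
    Abelianization.of (tv m v c) = Abelianization.of (tv m w c) := by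
  obtain ⟨g, -, hg⟩ := TS_transitive m v w hv hw
  rw [← hg, ← conj_tv, map_mul, map_mul, map_inv, mul_comm, ← mul_assoc, inv_mul_cancel, one_mul]

theorem of_tv_neg (v : K m → F) (c : F) :
    Abelianization.of (tv m v (-c)) = (Abelianization.of (tv m v c))⁻¹ := by
  rw [eq_inv_iff_mul_eq_one, ← map_mul, tv_mul, neg_add_cancel, tv_zero_right, map_one]

theorem commutator_eq_top_of (h : ∀ (v : K m → F) (c : F), v ≠ 0 → Abelianization.of (tv m v c) = 1) :
    commutator (Matrix.symplecticGroup (Fin m) F) = ⊤ := by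
  rw [← Abelianization.ker_of, eq_top_iff, ← TS_eq_top m]
  unfold TS
  rw [Subgroup.closure_le]
  rintro _ ⟨v, c, rfl⟩
  rw [SetLike.mem_coe, MonoidHom.mem_ker]
  by_cases hv : v = 0
  · have : tv m v c = 1 := by
      apply Subtype.ext
      rw [tv_val, Matrix.ext_iff_mulVec]
      intro x
      rw [sympTransvection_mulVec, hv, smul_zero, add_zero]
      simp
    rw [this, map_one]
  · exact h v c hv

/-- case `|F| ≥ 4` -/
theorem perfect_of_four_le [Fintype F] (hq : 4 ≤ Fintype.card F) :
    commutator (Matrix.symplecticGroup (Fin m) F) = ⊤ := by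
  classical
  obtain ⟨a, ha⟩ : ∃ a : F, a ∉ ({0, 1, -1} : Finset F) := by
    by_contra hcon
    push Not at hcon
    have h1 : (Finset.univ : Finset F) ⊆ {0, 1, -1} := fun a _ => hcon a
    have h2 := Finset.card_le_card h1
    rw [Finset.card_univ] at h2
    have h3 : ({0, 1, -1} : Finset F).card ≤ 3 := Finset.card_le_three
    omega
  simp only [Finset.mem_insert, Finset.mem_singleton, not_or] at ha
  obtain ⟨ha0, ha1, ham1⟩ := ha
  have ha2 : a ^ 2 - 1 ≠ 0 := by
    intro h
    have : (a - 1) * (a + 1) = 0 := by linear_combination h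
    rcases mul_eq_zero.1 this with h | h
    · exact ha1 (sub_eq_zero.1 h)
    · exact ham1 (eq_neg_of_add_eq_zero_left h)
  apply commutator_eq_top_of
  intro v c hv
  have hav : a • v ≠ 0 := smul_ne_zero ha0 hv
  have h1 : ∀ c' : F, Abelianization.of (tv m v (c' * a ^ 2)) = Abelianization.of (tv m v c') := by
    intro c'
    rw [← tv_smul]
    exact of_tv_eq _ _ hav hv c'
  have h2 : c = (c / (a ^ 2 - 1)) * a ^ 2 + -(c / (a ^ 2 - 1)) := by
    field_simp
    ring
  rw [h2, ← tv_mul, map_mul, h1, of_tv_neg, mul_inv_cancel]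


/-- vectors supported on the first Lagrangian -/
def Lag (u : K m → F) : Prop := ∀ i, u (Sum.inr i) = 0

theorem sympForm_Lag (u w : K m → F) (hu : Lag u) (hw : Lag w) : Cfsg.sympForm m F u w = 0 := by
  rw [sympForm_eq]
  apply Finset.sum_eq_zero
  intro i _
  rw [hu i, hw i]; ring

theorem Lag.add {u w : K m → F} (hu : Lag u) (hw : Lag w) : Lag (u + w) := by
  intro i; rw [Pi.add_apply, hu i, hw i, add_zero]

theorem Lag.sub {u w : K m → F} (hu : Lag u) (hw : Lag w) : Lag (u - w) := by
  intro i; rw [Pi.sub_apply, hu i, hw i, sub_zero]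

theorem Lag.smul {u : K m → F} (a : F) (hu : Lag u) : Lag (a • u) := by
  intro i; rw [Pi.smul_apply, hu i, smul_zero]

theorem Lag.zero : Lag (0 : K m → F) := fun _ => rfl

theorem Lag.single (j : Fin m) (a : F) : Lag (Pi.single (Sum.inl j) a : K m → F) := by
  intro i
  rw [Pi.single_eq_of_ne]
  simp

/-- products of transvections along vectors of a Lagrangian -/
theorem prod_tv_mulVec (l : List ((K m → F) × F)) (hl : ∀ p ∈ l, Lag p.1) (x : K m → F) :
    (((l.map (fun p => tv m p.1 p.2)).prod : Matrix.symplecticGroup (Fin m) F) :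
        Matrix (K m) (K m) F) *ᵥ x =
      x + (l.map (fun p => (p.2 * Cfsg.sympForm m F x p.1) • p.1)).sum ∧
    Lag ((l.map (fun p => (p.2 * Cfsg.sympForm m F x p.1) • p.1)).sum) := by
  induction l with
  | nil => simp [Lag.zero]
  | cons p l ih =>
    obtain ⟨ih1, ih2⟩ := ih (fun p hp => hl p (List.mem_cons_of_mem _ hp))
    have hp : Lag p.1 := hl p List.mem_cons_self
    constructor
    · rw [List.map_cons, List.prod_cons, Submonoid.coe_mul, ← Matrix.mulVec_mulVec, ih1, tv_mulVec,
        sympForm_add_left, sympForm_Lag _ _ ih2 hp, add_zero, List.map_cons, List.sum_cons]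
      abel
    · rw [List.map_cons, List.sum_cons]
      exact (hp.smul _).add ih2

theorem prod_tv_eq (l l' : List ((K m → F) × F)) (hl : ∀ p ∈ l, Lag p.1) (hl' : ∀ p ∈ l', Lag p.1)
    (h : ∀ x, (l.map (fun p => (p.2 * Cfsg.sympForm m F x p.1) • p.1)).sum =
      (l'.map (fun p => (p.2 * Cfsg.sympForm m F x p.1) • p.1)).sum) :
    (l.map (fun p => tv m p.1 p.2)).prod = (l'.map (fun p => tv m p.1 p.2)).prod := by
  apply Subtype.ext
  rw [Matrix.ext_iff_mulVec]
  intro x
  rw [(prod_tv_mulVec l hl x).1, (prod_tv_mulVec l' hl' x).1, h]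

theorem single_add_ne_zero {i j : K m} (hij : i ≠ j) (a : F) (w : K m → F) (hw : w i = 0) :
    (Pi.single i 1 + w : K m → F) ≠ 0 := by
  intro h
  have := congrFun h i
  simp [hw] at this

/-- case of characteristic three (`|F| = 3`), `m ≥ 2` -/
theorem perfect_of_three [Fintype F] (hq : Fintype.card F = 3) (hm : 2 ≤ m) :
    commutator (Matrix.symplecticGroup (Fin m) F) = ⊤ := by
  have h3 : (3 : F) = 0 := by
    have := Nat.cast_card_eq_zero F
    rw [hq] at this
    exact_mod_cast this
  let v : K m → F := Pi.single (Sum.inl ⟨0, by omega⟩) 1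
  let w : K m → F := Pi.single (Sum.inl ⟨1, by omega⟩) 1
  have hv : Lag v := Lag.single _ _
  have hw : Lag w := Lag.single _ _
  have hvw0 : v (Sum.inl ⟨1, by omega⟩) = 0 := by
    simp [v, Pi.single_apply, Fin.ext_iff]
  have hwv0 : w (Sum.inl ⟨0, by omega⟩) = 0 := by
    simp [w, Pi.single_apply, Fin.ext_iff]
  have hv0 : v ≠ 0 := by
    intro h; have := congrFun h (Sum.inl ⟨0, by omega⟩); simp [v] at this
  have hw0 : w ≠ 0 := by
    intro h; have := congrFun h (Sum.inl ⟨1, by omega⟩); simp [w] at this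
  have hp0 : v + w ≠ 0 := by
    intro h; have := congrFun h (Sum.inl ⟨0, by omega⟩)
    simp [v, hwv0] at this
  have hm0 : v - w ≠ 0 := by
    intro h; have := congrFun h (Sum.inl ⟨0, by omega⟩)
    simp [v, hwv0] at this
  apply commutator_eq_top_of
  intro u c hu
  -- the relation
  have hrel : ([(v + w, c), (v - w, c)].map (fun p => tv m p.1 p.2)).prod =
      ([(v, 2 * c), (w, 2 * c)].map (fun p => tv m p.1 p.2)).prod := by
    apply prod_tv_eq
    · intro p hp
      simp only [List.mem_cons, List.not_mem_nil, or_false] at hp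
      rcases hp with rfl | rfl
      · exact hv.add hw
      · exact hv.sub hw
    · intro p hp
      simp only [List.mem_cons, List.not_mem_nil, or_false] at hp
      rcases hp with rfl | rfl
      · exact hv
      · exact hw
    · intro x
      simp only [List.map_cons, List.map_nil, List.sum_cons, List.sum_nil, add_zero]
      rw [sympForm_add_right, sympForm_sub_right]
      module
  simp only [List.map_cons, List.map_nil, List.prod_cons, List.prod_nil, mul_one] at hrel
  have h1 := congrArg Abelianization.of hrel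
  rw [map_mul, map_mul, of_tv_eq _ _ hp0 hu, of_tv_eq _ _ hm0 hu, of_tv_eq _ _ hv0 hu,
    of_tv_eq _ _ hw0 hu] at h1
  have h2c : (2 : F) * c = -c := by linear_combination c * h3
  rw [h2c, of_tv_neg] at h1
  -- τ² = τ⁻², τ³ = 1
  have h4 : Abelianization.of (tv m u c) ^ 3 = 1 := by
    rw [← map_pow]
    have : tv m u c ^ 3 = tv m u (c + c + c) := by
      rw [pow_succ, pow_succ, pow_one, tv_mul, tv_mul]
    rw [this]
    have : c + c + c = 0 := by linear_combination c * h3
    rw [this, tv_zero_right, map_one]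
  set τ := Abelianization.of (tv m u c) with hτ
  have h5 : τ ^ 4 = 1 := by
    have : τ * τ * (τ * τ) = 1 := by
      nth_rewrite 2 [h1]
      group
    rw [← this, pow_succ, pow_succ, pow_succ, pow_one]; simp only [mul_assoc]
  calc τ = τ ^ 4 * (τ ^ 3)⁻¹ := by group
    _ = 1 := by rw [h4, h5]; group


/-- case `|F| = 2`, `m ≥ 3` -/
theorem perfect_of_two [Fintype F] (hq : Fintype.card F = 2) (hm : 3 ≤ m) :
    commutator (Matrix.symplecticGroup (Fin m) F) = ⊤ := by
  have h2 : (2 : F) = 0 := by
    have := Nat.cast_card_eq_zero F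
    rw [hq] at this
    exact_mod_cast this
  let i1 : K m := Sum.inl ⟨0, by omega⟩
  let i2 : K m := Sum.inl ⟨1, by omega⟩
  let i3 : K m := Sum.inl ⟨2, by omega⟩
  have h12 : i1 ≠ i2 := by simp [i1, i2, Fin.ext_iff]
  have h13 : i1 ≠ i3 := by simp [i1, i3, Fin.ext_iff]
  have h23 : i2 ≠ i3 := by simp [i2, i3, Fin.ext_iff]
  let v1 : K m → F := Pi.single i1 1
  let v2 : K m → F := Pi.single i2 1
  let v3 : K m → F := Pi.single i3 1
  have hv1 : Lag v1 := Lag.single _ _
  have hv2 : Lag v2 := Lag.single _ _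
  have hv3 : Lag v3 := Lag.single _ _
  have e11 : v1 i1 = 1 := Pi.single_eq_same _ _
  have e21 : v2 i1 = 0 := Pi.single_eq_of_ne h12 _
  have e31 : v3 i1 = 0 := Pi.single_eq_of_ne h13 _
  have e12 : v1 i2 = 0 := Pi.single_eq_of_ne (Ne.symm h12) _
  have e22 : v2 i2 = 1 := Pi.single_eq_same _ _
  have e32 : v3 i2 = 0 := Pi.single_eq_of_ne h23 _
  have e33 : v3 i3 = 1 := Pi.single_eq_same _ _
  have n1 : v1 + v2 + v3 ≠ 0 := by
    intro h; have := congrFun h i1
    simp only [Pi.add_apply, e11, e21, e31, Pi.zero_apply] at this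
    simp at this
  have n2 : v2 + v3 ≠ 0 := by
    intro h; have := congrFun h i2
    simp only [Pi.add_apply, e22, e32, Pi.zero_apply] at this
    simp at this
  have n3 : v1 ≠ 0 := by
    intro h; have := congrFun h i1
    simp only [e11, Pi.zero_apply] at this
    simp at this
  have n4 : v1 + v3 ≠ 0 := by
    intro h; have := congrFun h i1
    simp only [Pi.add_apply, e11, e31, Pi.zero_apply] at this
    simp at this
  have n5 : v1 + v2 ≠ 0 := by
    intro h; have := congrFun h i1
    simp only [Pi.add_apply, e11, e21, Pi.zero_apply] at this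
    simp at this
  have n6 : v2 ≠ 0 := by
    intro h; have := congrFun h i2
    simp only [e22, Pi.zero_apply] at this
    simp at this
  have n7 : v3 ≠ 0 := by
    intro h; have := congrFun h i3
    simp only [e33, Pi.zero_apply] at this
    simp at this
  apply commutator_eq_top_of
  intro u c hu
  have hrel : ([(v1 + v2 + v3, c), (v2 + v3, c), (v1, c), (v1 + v3, c)].map
        (fun p => tv m p.1 p.2)).prod =
      ([(v1 + v2, c), (v1, c), (v2, c), (v3, c), (v1, c)].map (fun p => tv m p.1 p.2)).prod := by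
    apply prod_tv_eq
    · intro p hp
      simp only [List.mem_cons, List.not_mem_nil, or_false] at hp
      rcases hp with rfl | rfl | rfl | rfl
      · exact (hv1.add hv2).add hv3
      · exact hv2.add hv3
      · exact hv1
      · exact hv1.add hv3
    · intro p hp
      simp only [List.mem_cons, List.not_mem_nil, or_false] at hp
      rcases hp with rfl | rfl | rfl | rfl | rfl
      · exact hv1.add hv2
      · exact hv1
      · exact hv2
      · exact hv3
      · exact hv1
    · intro x
      simp only [List.map_cons, List.map_nil, List.sum_cons, List.sum_nil, add_zero]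
      simp only [sympForm_add_right]
      set y1 := Cfsg.sympForm m F x v1
      set y2 := Cfsg.sympForm m F x v2
      set y3 := Cfsg.sympForm m F x v3
      have key : (c * (y1 + y2 + y3)) • (v1 + v2 + v3) + ((c * (y2 + y3)) • (v2 + v3) +
          ((c * y1) • v1 + (c * (y1 + y3)) • (v1 + v3))) =
          ((c * (y1 + y2)) • (v1 + v2) + ((c * y1) • v1 + ((c * y2) • v2 + ((c * y3) • v3 +
            (c * y1) • v1)))) +
          (2 : F) • ((c * y3) • v1 + (c * y3) • v2 + (c * (y1 + y2 + y3)) • v3) := by
        module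
      rw [key, h2, zero_smul, add_zero]
  simp only [List.map_cons, List.map_nil, List.prod_cons, List.prod_nil, mul_one] at hrel
  have h1 := congrArg Abelianization.of hrel
  simp only [map_mul] at h1
  rw [of_tv_eq _ _ n1 hu, of_tv_eq _ _ n2 hu, of_tv_eq _ _ n3 hu, of_tv_eq _ _ n4 hu,
    of_tv_eq _ _ n5 hu, of_tv_eq _ _ n6 hu, of_tv_eq _ _ n7 hu] at h1
  set τ := Abelianization.of (tv m u c) with hτ
  have h5 : τ * τ * τ * τ * τ = τ * τ * τ * τ := by
    simp only [mul_assoc] at h1 ⊢
    exact h1.symm
  calc τ = (τ * τ * τ * τ)⁻¹ * (τ * τ * τ * τ * τ) := by group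
    _ = 1 := by rw [h5]; group


/-- `Sp_{2m}(q)` is perfect except for `Sp_2(2)`, `Sp_2(3)`, `Sp_4(2)` -/
theorem perfect [Fintype F] (m : ℕ)
    (h : 3 ≤ m ∨ (m = 2 ∧ 3 ≤ Fintype.card F) ∨ 4 ≤ Fintype.card F) :
    commutator (Matrix.symplecticGroup (Fin m) F) = ⊤ := by
  have hq : 1 < Fintype.card F := Fintype.one_lt_card
  by_cases h4 : 4 ≤ Fintype.card F
  · exact perfect_of_four_le h4
  · have : Fintype.card F = 2 ∨ Fintype.card F = 3 := by omega
    rcases this with h2 | h3
    · apply perfect_of_two h2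
      rcases h with h | ⟨-, h⟩ | h <;> omega
    · apply perfect_of_three h3
      rcases h with h | ⟨h, -⟩ | h <;> omega

end ab

end Cfsg.Agent.Lib.H2.Sp
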