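import Mathlib
import Cfsg.Prelude.Def_LieExceptional

set_option autoImplicit false

/-!
# (B,N)-pairs: basic calculus of double cosets, words and the length function
(following Bourbaki, Lie IV §2, at the level of representatives in `N`)
-/

namespace Cfsg.Agent.Lib.H2.BN

open Cfsg DoubleCoset

variable {G : Type*} [Group G] (P : BNPair G)

/-- the double coset `B n B` -/
abbrev C (n : G) : Set G := doubleCoset n (P.B : Set G) P.B

/-- `x` and `y` lie in the same left coset of `B` -/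
def Eqv (x y : G) : Prop := x⁻¹ * y ∈ P.B

variable {P}

theorem mem_C_iff {g n : G} : g ∈ C P n ↔ ∃ b ∈ P.B, ∃ b' ∈ P.B, g = b * n * b' :=
  mem_doubleCoset

theorem mem_C_self (n : G) : n ∈ C P n := mem_doubleCoset_self _ _ _

theorem C_eq_of_mem {g n : G} (h : g ∈ C P n) : C P g = C P n := doubleCoset_eq_of_mem h

theorem mem_C_symm {g n : G} (h : g ∈ C P n) : n ∈ C P g := by
  rw [C_eq_of_mem h]; exact mem_C_self n

theorem mem_C_trans {g n m : G} (h : g ∈ C P n) (h' : n ∈ C P m) : g ∈ C P m := by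
  rw [← C_eq_of_mem h']; exact h

theorem mul_left_mem_C {g n b : G} (hb : b ∈ P.B) (h : g ∈ C P n) : b * g ∈ C P n := by
  obtain ⟨b₁, hb₁, b₂, hb₂, rfl⟩ := mem_C_iff.1 h
  exact mem_C_iff.2 ⟨b * b₁, P.B.mul_mem hb hb₁, b₂, hb₂, by group⟩

theorem mul_right_mem_C {g n b : G} (hb : b ∈ P.B) (h : g ∈ C P n) : g * b ∈ C P n := by
  obtain ⟨b₁, hb₁, b₂, hb₂, rfl⟩ := mem_C_iff.1 h
  exact mem_C_iff.2 ⟨b₁, hb₁, b₂ * b, P.B.mul_mem hb₂ hb, by group⟩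

theorem inv_mem_C {g n : G} (h : g ∈ C P n) : g⁻¹ ∈ C P n⁻¹ := by
  obtain ⟨b₁, hb₁, b₂, hb₂, rfl⟩ := mem_C_iff.1 h
  exact mem_C_iff.2 ⟨b₂⁻¹, P.B.inv_mem hb₂, b₁⁻¹, P.B.inv_mem hb₁, by group⟩

theorem mem_C_one_iff {g : G} : g ∈ C P 1 ↔ g ∈ P.B := by
  constructor
  · intro h
    obtain ⟨b₁, hb₁, b₂, hb₂, rfl⟩ := mem_C_iff.1 h
    simpa using P.B.mul_mem hb₁ hb₂
  · intro h
    exact mem_C_iff.2 ⟨g, h, 1, P.B.one_mem, by group⟩

theorem mem_C_of_mem_B {g b : G} (hb : b ∈ P.B) : g ∈ C P b ↔ g ∈ P.B := by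
  have : C P b = C P 1 := C_eq_of_mem (mem_C_one_iff.2 hb)
  rw [this, mem_C_one_iff]

/-! ### the relation `Eqv` -/

theorem Eqv.refl (x : G) : Eqv P x x := by simp [Eqv, P.B.one_mem]

theorem Eqv.symm {x y : G} (h : Eqv P x y) : Eqv P y x := by
  have := P.B.inv_mem h
  simpa [Eqv] using this

theorem Eqv.trans {x y z : G} (h : Eqv P x y) (h' : Eqv P y z) : Eqv P x z := by
  have := P.B.mul_mem h h'
  simpa [Eqv, mul_assoc] using this

theorem Eqv.mul_left {x y : G} (g : G) (h : Eqv P x y) : Eqv P (g * x) (g * y) := by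
  simpa [Eqv, mul_assoc] using h

theorem Eqv.mem_C {x y : G} (h : Eqv P x y) : y ∈ C P x :=
  mem_C_iff.2 ⟨1, P.B.one_mem, x⁻¹ * y, h, by group⟩

theorem Eqv.C_eq {x y : G} (h : Eqv P x y) : C P x = C P y := (C_eq_of_mem h.mem_C).symm

theorem Eqv.mem_B {x y : G} (h : Eqv P x y) (hx : x ∈ P.B) : y ∈ P.B := by
  have := P.B.mul_mem hx h
  simpa [Eqv] using this

theorem Eqv.of_mem_B {x y : G} (hx : x ∈ P.B) (hy : y ∈ P.B) : Eqv P x y :=
  P.B.mul_mem (P.B.inv_mem hx) hy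

theorem Eqv.mul_right_B {x b : G} (hb : b ∈ P.B) : Eqv P x (x * b) := by
  simpa [Eqv] using hb

/-! ### normality of `T = B ⊓ N` in `N` -/

theorem T_conj {n t : G} (hn : n ∈ P.N) (ht : t ∈ P.B) (ht' : t ∈ P.N) : n * t * n⁻¹ ∈ P.B :=
  P.conj_mem n hn t ⟨ht, ht'⟩

theorem T_conj' {n t : G} (hn : n ∈ P.N) (ht : t ∈ P.B) (ht' : t ∈ P.N) : n⁻¹ * t * n ∈ P.B := by
  have := T_conj (P.N.inv_mem hn) ht ht'
  simpa using this

theorem Eqv.mul_right {x y m : G} (hx : x ∈ P.N) (hy : y ∈ P.N) (hm : m ∈ P.N)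
    (h : Eqv P x y) : Eqv P (x * m) (y * m) := by
  have := T_conj' hm h (P.N.mul_mem (P.N.inv_mem hx) hy)
  simpa [Eqv, mul_assoc] using this

theorem Eqv.inv {x y : G} (hx : x ∈ P.N) (hy : y ∈ P.N) (h : Eqv P x y) : Eqv P x⁻¹ y⁻¹ := by
  have h1 : y⁻¹ * x ∈ P.B := h.symm
  have := T_conj hx h1 (P.N.mul_mem (P.N.inv_mem hy) hx)
  have h2 : x * (y⁻¹ * x) * x⁻¹ = x * y⁻¹ := by group
  rw [h2] at this
  simpa [Eqv] using this

theorem Eqv.mul {x y x' y' : G} (hx : x ∈ P.N) (hy : y ∈ P.N) (hx' : x' ∈ P.N)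
    (h : Eqv P x y) (h' : Eqv P x' y') : Eqv P (x * x') (y * y') :=
  (h.mul_right hx hy hx').trans (h'.mul_left y)

/-- if `x⁻¹ n x`-type: an element of `N` conjugate into `B` -/
theorem mem_B_of_conj {n s : G} (hn : n ∈ P.N) (hs : s ∈ P.N) (h : n⁻¹ * s * n ∈ P.B) :
    s ∈ P.B := by
  have := T_conj hn h (P.N.mul_mem (P.N.mul_mem (P.N.inv_mem hn) hs) hn)
  have h2 : n * (n⁻¹ * s * n) * n⁻¹ = s := by group
  rwa [h2] at this

/-! ### the distinguished generators -/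

theorem S_mem_N {s : G} (hs : s ∈ P.S) : s ∈ P.N := P.subset hs

theorem S_sq {s : G} (hs : s ∈ P.S) : s * s ∈ P.B := P.sq_mem s hs

theorem S_inv_eqv {s : G} (hs : s ∈ P.S) : Eqv P s⁻¹ s := by
  simpa [Eqv] using S_sq hs

theorem S_eqv_inv {s : G} (hs : s ∈ P.S) : Eqv P s s⁻¹ := (S_inv_eqv hs).symm

theorem S_sq_mul_eqv {s n : G} (hs : s ∈ P.S) (hn : n ∈ P.N) : Eqv P (s * (s * n)) n := by
  have := T_conj' hn (P.B.inv_mem (S_sq hs))
    (P.N.inv_mem (P.N.mul_mem (S_mem_N hs) (S_mem_N hs)))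
  have h2 : n⁻¹ * (s * s)⁻¹ * n = (s * (s * n))⁻¹ * n := by group
  rwa [h2] at this

theorem S_not_mem_B {s : G} (hs : s ∈ P.S) : s ∉ P.B := by
  intro hB
  apply P.conj_ne s hs
  ext g
  constructor
  · rintro ⟨b, hb, rfl⟩
    exact P.B.mul_mem (P.B.mul_mem hB hb) hB
  · intro hg
    refine ⟨s⁻¹ * g * s⁻¹, ?_, by group⟩
    exact P.B.mul_mem (P.B.mul_mem (P.B.inv_mem hB) hg) (P.B.inv_mem hB)

/-- the axiom `s B n ⊆ B s n B ∪ B n B`, for arbitrary elements of `B n B` -/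
theorem smul_mem_C {s n g : G} (hs : s ∈ P.S) (hn : n ∈ P.N) (hg : g ∈ C P n) :
    s * g ∈ C P (s * n) ∨ s * g ∈ C P n := by
  obtain ⟨b₁, hb₁, b₂, hb₂, rfl⟩ := mem_C_iff.1 hg
  have h := P.mul_mem_union s hs n hn b₁ hb₁
  have e : s * (b₁ * n * b₂) = s * b₁ * n * b₂ := by group
  rw [e]
  rcases h with h | h
  · exact Or.inl (mul_right_mem_C hb₂ h)
  · exact Or.inr (mul_right_mem_C hb₂ h)

/-- the same with `s⁻¹` -/
theorem inv_smul_mem_C {s n g : G} (hs : s ∈ P.S) (hn : n ∈ P.N) (hg : g ∈ C P n) :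
    s⁻¹ * g ∈ C P (s * n) ∨ s⁻¹ * g ∈ C P n := by
  have e : s⁻¹ * g = (s * s)⁻¹ * (s * g) := by group
  rw [e]
  rcases smul_mem_C hs hn hg with h | h
  · exact Or.inl (mul_left_mem_C (P.B.inv_mem (S_sq hs)) h)
  · exact Or.inr (mul_left_mem_C (P.B.inv_mem (S_sq hs)) h)

/-- right-handed version -/
theorem mul_S_mem_C {s n g : G} (hs : s ∈ P.S) (hn : n ∈ P.N) (hg : g ∈ C P n) :
    g * s ∈ C P (n * s) ∨ g * s ∈ C P n := by
  have h1 : g⁻¹ ∈ C P n⁻¹ := inv_mem_C hg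
  have hn' : n⁻¹ ∈ P.N := P.N.inv_mem hn
  have e : g * s = (s⁻¹ * g⁻¹)⁻¹ := by group
  rcases inv_smul_mem_C hs hn' h1 with h | h
  · left
    have h2 := inv_mem_C h
    rw [← e] at h2
    have h3 : Eqv P (s * n⁻¹)⁻¹ (n * s) := by
      have : (s * n⁻¹)⁻¹ = n * s⁻¹ := by group
      rw [this]
      exact (S_inv_eqv hs).mul_left n
    rw [← h3.C_eq]
    exact h2
  · right
    have h2 := inv_mem_C h
    rw [← e] at h2
    simpa using h2

/-- `s B s` meets `B s B` -/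
theorem exists_sbs {s : G} (hs : s ∈ P.S) : ∃ b ∈ P.B, s * b * s ∈ C P s := by
  have h1 : ∃ b ∈ P.B, s * b * s ∉ P.B := by
    by_contra hcon
    push Not at hcon
    apply P.conj_ne s hs
    ext g
    constructor
    · rintro ⟨b, hb, rfl⟩
      exact hcon b hb
    · intro hg
      refine ⟨s⁻¹ * g * s⁻¹, ?_, by group⟩
      have e : s⁻¹ * g * s⁻¹ = (s * s)⁻¹ * (s * (g * (s * s)⁻¹) * s) := by group
      rw [e]
      exact P.B.mul_mem (P.B.inv_mem (S_sq hs))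
        (hcon _ (P.B.mul_mem hg (P.B.inv_mem (S_sq hs))))
  obtain ⟨b, hb, hnb⟩ := h1
  refine ⟨b, hb, ?_⟩
  have h2 : b * s ∈ C P s := mul_left_mem_C hb (mem_C_self s)
  rcases smul_mem_C hs (S_mem_N hs) h2 with h | h
  · exfalso
    apply hnb
    rw [mem_C_of_mem_B (S_sq hs)] at h
    simpa [mul_assoc] using h
  · simpa [mul_assoc] using h

end Cfsg.Agent.Lib.H2.BN
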