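import Mathlib
import Cfsg.Agent.Lib.H2.BN1

set_option autoImplicit false
set_option linter.unusedSectionVars false

/-!
# (B,N)-pairs: words in the distinguished generators and the length function
-/

namespace Cfsg.Agent.Lib.H2.BN

open Cfsg DoubleCoset

variable {G : Type*} [Group G] {P : BNPair G}

/-- a word with letters in `J` -/
def IsWord (J : Set G) (l : List G) : Prop := ∀ x ∈ l, x ∈ J

theorem IsWord.nil (J : Set G) : IsWord J [] := by
  intro x hx; simp at hx

theorem IsWord.cons {J : Set G} {s : G} {l : List G} (hs : s ∈ J) (hl : IsWord J l) :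
    IsWord J (s :: l) := by
  intro x hx
  rcases List.mem_cons.1 hx with rfl | h
  · exact hs
  · exact hl x h

theorem IsWord.of_cons {J : Set G} {s : G} {l : List G} (h : IsWord J (s :: l)) :
    s ∈ J ∧ IsWord J l :=
  ⟨h s (List.mem_cons_self), fun x hx => h x (List.mem_cons_of_mem _ hx)⟩

theorem IsWord.append {J : Set G} {l l' : List G} (hl : IsWord J l) (hl' : IsWord J l') :
    IsWord J (l ++ l') := by
  intro x hx
  rcases List.mem_append.1 hx with h | h
  · exact hl x h
  · exact hl' x h

theorem IsWord.of_append {J : Set G} {l l' : List G} (h : IsWord J (l ++ l')) :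
    IsWord J l ∧ IsWord J l' :=
  ⟨fun x hx => h x (List.mem_append_left _ hx), fun x hx => h x (List.mem_append_right _ hx)⟩

theorem IsWord.reverse {J : Set G} {l : List G} (hl : IsWord J l) : IsWord J l.reverse := by
  intro x hx
  exact hl x (List.mem_reverse.1 hx)

theorem IsWord.mono {J K : Set G} (hJK : J ⊆ K) {l : List G} (hl : IsWord J l) : IsWord K l :=
  fun x hx => hJK (hl x hx)

theorem IsWord.eraseIdx {J : Set G} {l : List G} (hl : IsWord J l) (i : ℕ) :
    IsWord J (l.eraseIdx i) :=
  fun x hx => hl x ((List.eraseIdx_sublist l i).subset hx)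

theorem IsWord.prod_mem_closure {J : Set G} {l : List G} (hl : IsWord J l) :
    l.prod ∈ Subgroup.closure J :=
  Subgroup.list_prod_mem _ (fun x hx => Subgroup.subset_closure (hl x hx))

theorem IsWord.prod_mem_N {J : Set G} (hJ : J ⊆ P.S) {l : List G} (hl : IsWord J l) :
    l.prod ∈ P.N :=
  Subgroup.list_prod_mem _ (fun x hx => P.subset (hJ (hl x hx)))

/-- the inverse of a word is equivalent to the reversed word -/
theorem prod_inv_eqv_reverse {J : Set G} (hJ : J ⊆ P.S) {l : List G} (hl : IsWord J l) :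
    Eqv P l.prod⁻¹ l.reverse.prod := by
  induction l with
  | nil => simpa using Eqv.refl (P := P) 1
  | cons s l ih =>
    obtain ⟨hs, hl'⟩ := hl.of_cons
    have hsS : s ∈ P.S := hJ hs
    rw [List.prod_cons, mul_inv_rev, List.reverse_cons, List.prod_append, List.prod_singleton]
    have h1 : l.prod⁻¹ ∈ P.N := P.N.inv_mem (hl'.prod_mem_N hJ)
    have h2 : l.reverse.prod ∈ P.N := hl'.reverse.prod_mem_N hJ
    exact Eqv.mul h1 h2 (P.N.inv_mem (S_mem_N hsS)) (ih hl') (S_inv_eqv hsS)

/-- every element of the subgroup generated by `J` and `T = B ⊓ N` is equivalent to a `J`-word -/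
theorem exists_word_of_mem_closure {J : Set G} (hJ : J ⊆ P.S) {n : G}
    (hn : n ∈ Subgroup.closure (J ∪ ((P.B ⊓ P.N : Subgroup G) : Set G))) :
    n ∈ P.N ∧ ∃ l, IsWord J l ∧ Eqv P l.prod n := by
  induction hn using Subgroup.closure_induction with
  | mem x hx =>
    rcases hx with hx | hx
    · exact ⟨P.subset (hJ hx), [x], by intro y hy; simp at hy; rw [hy]; exact hx,
        by simpa using Eqv.refl x⟩
    · exact ⟨hx.2, [], IsWord.nil J, by simpa [Eqv] using hx.1⟩
  | one => exact ⟨P.N.one_mem, [], IsWord.nil J, by simpa using Eqv.refl (P := P) 1⟩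
  | mul x y _ _ hx hy =>
    obtain ⟨hxN, l₁, hl₁, h₁⟩ := hx
    obtain ⟨hyN, l₂, hl₂, h₂⟩ := hy
    refine ⟨P.N.mul_mem hxN hyN, l₁ ++ l₂, hl₁.append hl₂, ?_⟩
    rw [List.prod_append]
    exact Eqv.mul (hl₁.prod_mem_N hJ) hxN (hl₂.prod_mem_N hJ) h₁ h₂
  | inv x _ hx =>
    obtain ⟨hxN, l, hl, h⟩ := hx
    refine ⟨P.N.inv_mem hxN, l.reverse, hl.reverse, ?_⟩
    exact (prod_inv_eqv_reverse hJ hl).symm.trans (h.inv (hl.prod_mem_N hJ) hxN)

theorem closure_le_N {J : Set G} (hJ : J ⊆ P.S) : Subgroup.closure J ≤ P.N :=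
  (Subgroup.closure_le _).2 (fun _ hx => P.subset (hJ hx))

theorem exists_word_of_mem_closure' {J : Set G} (hJ : J ⊆ P.S) {n : G}
    (hn : n ∈ Subgroup.closure J) : ∃ l, IsWord J l ∧ Eqv P l.prod n :=
  (exists_word_of_mem_closure hJ (Subgroup.closure_mono Set.subset_union_left hn)).2

/-- every element of `N` is equivalent to an `S`-word -/
theorem exists_word {n : G} (hn : n ∈ P.N) : ∃ l, IsWord P.S l ∧ Eqv P l.prod n := by
  have h : n ∈ Subgroup.closure (P.S ∪ ((P.B ⊓ P.N : Subgroup G) : Set G)) := by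
    rw [Subgroup.closure_union, Subgroup.closure_eq, P.closure_sup]
    exact hn
  exact (exists_word_of_mem_closure (le_refl _) h).2

/-! ### the length function -/

variable (P) in
/-- the length of (the image in `W` of) an element of `N` -/
noncomputable def len (g : G) : ℕ :=
  sInf {k | ∃ l : List G, IsWord P.S l ∧ l.length = k ∧ Eqv P l.prod g}

theorem len_le {l : List G} {g : G} (hl : IsWord P.S l) (h : Eqv P l.prod g) :
    len P g ≤ l.length :=
  Nat.sInf_le ⟨l, hl, rfl, h⟩

theorem exists_reduced {n : G} (hn : n ∈ P.N) :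
    ∃ l, IsWord P.S l ∧ l.length = len P n ∧ Eqv P l.prod n := by
  obtain ⟨l, hl, h⟩ := exists_word hn
  have hne : {k | ∃ l : List G, IsWord P.S l ∧ l.length = k ∧ Eqv P l.prod n}.Nonempty :=
    ⟨l.length, l, hl, rfl, h⟩
  exact Nat.sInf_mem hne

theorem len_congr {x y : G} (h : Eqv P x y) : len P x = len P y := by
  unfold len
  congr 1
  ext k
  constructor
  · rintro ⟨l, hl, hk, hx⟩
    exact ⟨l, hl, hk, hx.trans h⟩
  · rintro ⟨l, hl, hk, hy⟩
    exact ⟨l, hl, hk, hy.trans h.symm⟩

theorem len_of_mem_B {g : G} (hg : g ∈ P.B) : len P g = 0 := by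
  have := len_le (P := P) (l := []) (g := g) (IsWord.nil _) (by simpa [Eqv] using hg)
  simpa using this

theorem mem_B_of_len_eq_zero {n : G} (hn : n ∈ P.N) (h : len P n = 0) : n ∈ P.B := by
  obtain ⟨l, _, hlen, he⟩ := exists_reduced hn
  rw [h, List.length_eq_zero_iff] at hlen
  subst hlen
  simpa [Eqv] using he

theorem len_smul_le {s n : G} (hs : s ∈ P.S) (hn : n ∈ P.N) : len P (s * n) ≤ len P n + 1 := by
  obtain ⟨l, hl, hlen, he⟩ := exists_reduced hn
  have := len_le (P := P) (l := s :: l) (g := s * n) (hl.cons hs)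
    (by rw [List.prod_cons]; exact he.mul_left s)
  simpa [hlen] using this

theorem len_le_smul {s n : G} (hs : s ∈ P.S) (hn : n ∈ P.N) : len P n ≤ len P (s * n) + 1 := by
  have h1 := len_smul_le hs (P.N.mul_mem (S_mem_N hs) hn)
  rwa [len_congr (S_sq_mul_eqv hs hn)] at h1

theorem len_mul_S_le {s n : G} (hs : s ∈ P.S) (hn : n ∈ P.N) : len P (n * s) ≤ len P n + 1 := by
  obtain ⟨l, hl, hlen, he⟩ := exists_reduced hn
  have hw : IsWord P.S (l ++ [s]) := hl.append (by intro x hx; simp at hx; rw [hx]; exact hs)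
  have := len_le (P := P) (l := l ++ [s]) (g := n * s) hw
    (by
      rw [List.prod_append, List.prod_singleton]
      exact he.mul_right (hl.prod_mem_N (le_refl _)) hn (S_mem_N hs))
  simpa [hlen] using this

theorem len_le_mul_S {s n : G} (hs : s ∈ P.S) (hn : n ∈ P.N) : len P n ≤ len P (n * s) + 1 := by
  have h1 := len_mul_S_le hs (P.N.mul_mem hn (S_mem_N hs))
  have h2 : Eqv P (n * s * s) n := by
    have : (n * s * s)⁻¹ * n = (s * s)⁻¹ := by group
    rw [Eqv, this]
    exact P.B.inv_mem (S_sq hs)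
  rwa [len_congr h2] at h1

theorem len_S {s : G} (hs : s ∈ P.S) : len P s = 1 := by
  have h1 : len P s ≤ 1 := by
    have := len_le (P := P) (l := [s]) (g := s)
      (by intro x hx; simp at hx; rw [hx]; exact hs) (by simpa using Eqv.refl s)
    simpa using this
  have h2 : len P s ≠ 0 := fun h => S_not_mem_B hs (mem_B_of_len_eq_zero (S_mem_N hs) h)
  omega

/-- the tail of a reduced word is reduced -/
theorem len_tail {s : G} {l : List G} {n : G} (hl : IsWord P.S (s :: l))
    (hlen : (s :: l).length = len P n) (he : Eqv P (s :: l).prod n) :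
    len P l.prod = l.length := by
  obtain ⟨hs, hl'⟩ := hl.of_cons
  have h1 : len P l.prod ≤ l.length := len_le hl' (Eqv.refl _)
  have h2 := len_smul_le hs (hl'.prod_mem_N (le_refl _))
  rw [List.prod_cons] at he
  rw [len_congr he, ← hlen, List.length_cons] at h2
  omega

/-- the initial segment of a reduced word is reduced -/
theorem len_init {s : G} {l : List G} {n : G} (hl : IsWord P.S (l ++ [s]))
    (hlen : (l ++ [s]).length = len P n) (he : Eqv P (l ++ [s]).prod n) :
    len P l.prod = l.length := by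
  obtain ⟨hl', hs'⟩ := hl.of_append
  have hs : s ∈ P.S := hs' s (by simp)
  have h1 : len P l.prod ≤ l.length := len_le hl' (Eqv.refl _)
  have h2 := len_mul_S_le hs (hl'.prod_mem_N (le_refl _))
  rw [List.prod_append, List.prod_singleton] at he
  rw [len_congr he, ← hlen, List.length_append, List.length_singleton] at h2
  omega

end Cfsg.Agent.Lib.H2.BN
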