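import Mathlib
import Cfsg.Agent.Lib.H2.BN2

set_option autoImplicit false
set_option linter.unusedSectionVars false

/-!
# (B,N)-pairs: Bruhat decomposition and the multiplication rules for double cosets
-/

namespace Cfsg.Agent.Lib.H2.BN

open Cfsg DoubleCoset

variable {G : Type*} [Group G] {P : BNPair G}

/-! ### parabolic subgroups are unions of double cosets -/

theorem mem_parabolic_of_mem_C {J : Set G} {g n : G} (hn : n ∈ Subgroup.closure J)
    (hg : g ∈ C P n) : g ∈ P.parabolic J := by
  obtain ⟨b₁, hb₁, b₂, hb₂, rfl⟩ := mem_C_iff.1 hg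
  have hB : P.B ≤ P.parabolic J := le_sup_left
  have hJ : Subgroup.closure J ≤ P.parabolic J := le_sup_right
  exact mul_mem (mul_mem (hB hb₁) (hJ hn)) (hB hb₂)

theorem mem_parabolic_iff {J : Set G} (hJ : J ⊆ P.S) (g : G) :
    g ∈ P.parabolic J ↔ ∃ n ∈ Subgroup.closure J, g ∈ C P n := by
  constructor
  · intro hg
    have key : ∀ h ∈ Subgroup.closure ((P.B : Set G) ∪ J),
        (∀ x, (∃ n ∈ Subgroup.closure J, x ∈ C P n) → ∃ n ∈ Subgroup.closure J, h * x ∈ C P n) ∧
        (∀ x, (∃ n ∈ Subgroup.closure J, x ∈ C P n) →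
          ∃ n ∈ Subgroup.closure J, h⁻¹ * x ∈ C P n) := by
      intro h hh
      induction hh using Subgroup.closure_induction with
      | mem y hy =>
        rcases hy with hy | hy
        · constructor
          · rintro x ⟨n, hn, hx⟩
            exact ⟨n, hn, mul_left_mem_C hy hx⟩
          · rintro x ⟨n, hn, hx⟩
            exact ⟨n, hn, mul_left_mem_C (P.B.inv_mem hy) hx⟩
        · have hyS : y ∈ P.S := hJ hy
          constructor
          · rintro x ⟨n, hn, hx⟩
            rcases smul_mem_C hyS (closure_le_N hJ hn) hx with h | h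
            · exact ⟨y * n, mul_mem (Subgroup.subset_closure hy) hn, h⟩
            · exact ⟨n, hn, h⟩
          · rintro x ⟨n, hn, hx⟩
            rcases inv_smul_mem_C hyS (closure_le_N hJ hn) hx with h | h
            · exact ⟨y * n, mul_mem (Subgroup.subset_closure hy) hn, h⟩
            · exact ⟨n, hn, h⟩
      | one =>
        constructor <;> · intro x hx; simpa using hx
      | mul y z _ _ hy hz =>
        constructor
        · intro x hx
          rw [mul_assoc]
          exact hy.1 _ (hz.1 x hx)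
        · intro x hx
          rw [mul_inv_rev, mul_assoc]
          exact hz.2 _ (hy.2 x hx)
      | inv y _ hy =>
        constructor
        · exact hy.2
        · intro x hx
          rw [inv_inv]
          exact hy.1 x hx
    have hg' : g ∈ Subgroup.closure ((P.B : Set G) ∪ J) := by
      rw [Subgroup.closure_union, Subgroup.closure_eq]
      exact hg
    have := (key g hg').1 1 ⟨1, one_mem _, mem_C_self 1⟩
    simpa using this
  · rintro ⟨n, hn, hg⟩
    exact mem_parabolic_of_mem_C hn hg

theorem parabolic_S : P.parabolic P.S = ⊤ := by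
  rw [eq_top_iff, ← P.sup_eq_top]
  apply sup_le le_sup_left
  rw [← P.closure_sup]
  apply sup_le le_sup_right
  exact inf_le_left.trans le_sup_left

/-- Bruhat decomposition: `G = B N B` -/
theorem bruhat (g : G) : ∃ n ∈ P.N, g ∈ C P n := by
  have hg : g ∈ P.parabolic P.S := by rw [parabolic_S]; exact Subgroup.mem_top g
  obtain ⟨n, hn, h⟩ := (mem_parabolic_iff (le_refl _) g).1 hg
  exact ⟨n, closure_le_N (le_refl _) hn, h⟩

/-! ### uniqueness in the Bruhat decomposition -/

theorem eqv_of_mem_C_aux : ∀ q : ℕ, ∀ n n' : G, n ∈ P.N → n' ∈ P.N → len P n = q →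
    q ≤ len P n' → n' ∈ C P n → Eqv P n n' := by
  intro q
  induction q with
  | zero =>
    intro n n' hn _ hq _ h
    have hnB : n ∈ P.B := mem_B_of_len_eq_zero hn hq
    exact Eqv.of_mem_B hnB ((mem_C_of_mem_B hnB).1 h)
  | succ q ih =>
    intro n n' hn hn' hq hle h
    obtain ⟨l, hl, hlen, he⟩ := exists_reduced hn
    rcases l with _ | ⟨s, l'⟩
    · simp [hq] at hlen
    obtain ⟨hs, hl'⟩ := hl.of_cons
    have hlen' : len P l'.prod = l'.length := len_tail hl hlen he
    have hq' : len P l'.prod = q := by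
      rw [hlen']
      rw [List.length_cons, hq] at hlen
      omega
    have hn'' : l'.prod ∈ P.N := hl'.prod_mem_N (le_refl _)
    rw [List.prod_cons] at he
    have h1 : s * l'.prod ∈ C P n' := by
      rw [← he.C_eq] at h
      exact mem_C_symm h
    have h2 := inv_smul_mem_C hs hn' h1
    rw [inv_mul_cancel_left] at h2
    rcases h2 with h2 | h2
    · have hle' : q ≤ len P (s * n') := by
        have := len_le_smul hs hn'
        omega
      have h3 := ih l'.prod (s * n') hn'' (P.N.mul_mem (S_mem_N hs) hn') hq' hle' (mem_C_symm h2)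
      exact he.symm.trans ((h3.mul_left s).trans (S_sq_mul_eqv hs hn'))
    · have h3 := ih l'.prod n' hn'' hn' hq' (by omega) (mem_C_symm h2)
      have := len_congr h3
      omega

/-- Bruhat decomposition, uniqueness: `B n B = B n' B` forces `n ≡ n'` modulo `B ⊓ N` -/
theorem eqv_of_mem_C {n n' : G} (hn : n ∈ P.N) (hn' : n' ∈ P.N) (h : n' ∈ C P n) :
    Eqv P n n' := by
  rcases le_total (len P n) (len P n') with hle | hle
  · exact eqv_of_mem_C_aux _ n n' hn hn' rfl hle h
  · exact (eqv_of_mem_C_aux _ n' n hn' hn rfl hle (mem_C_symm h)).symm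

theorem not_eqv_smul {s n : G} (hs : s ∈ P.S) (hn : n ∈ P.N) : ¬ Eqv P (s * n) n := by
  intro h
  have h1 : n⁻¹ * s⁻¹ * n ∈ P.B := by
    have : (s * n)⁻¹ * n = n⁻¹ * s⁻¹ * n := by group
    rw [Eqv, this] at h
    exact h
  have h2 := mem_B_of_conj hn (P.N.inv_mem (S_mem_N hs)) h1
  exact S_not_mem_B hs (by simpa using P.B.inv_mem h2)

/-! ### multiplication rules -/

/-- if `ℓ(n) ≤ ℓ(sn)` then `s B n ⊆ B s n B` -/
theorem smul_mem_C_of_len_le_aux : ∀ q : ℕ, ∀ n : G, n ∈ P.N → len P n = q → ∀ s ∈ P.S,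
    len P n ≤ len P (s * n) → ∀ b ∈ P.B, s * b * n ∈ C P (s * n) := by
  intro q
  induction q with
  | zero =>
    intro n hn hq s hs _ b hb
    have hnB : n ∈ P.B := mem_B_of_len_eq_zero hn hq
    have h1 : Eqv P s (s * n) := by simpa [Eqv] using hnB
    rw [← h1.C_eq]
    exact mem_C_iff.2 ⟨1, P.B.one_mem, b * n, P.B.mul_mem hb hnB, by group⟩
  | succ q ih =>
    intro n hn hq s hs hle b hb
    rcases P.mul_mem_union s hs n hn b hb with h | h
    · exact h
    exfalso
    obtain ⟨l, hl, hlen, he⟩ := exists_reduced hn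
    rcases List.eq_nil_or_concat l with rfl | ⟨l', t, hlt⟩
    · simp [hq] at hlen
    rw [List.concat_eq_append] at hlt
    subst hlt
    obtain ⟨hl', ht'⟩ := hl.of_append
    have ht : t ∈ P.S := ht' t (by simp)
    have hlen' : len P l'.prod = l'.length := len_init hl hlen he
    have hq' : len P l'.prod = q := by
      rw [hlen']
      rw [List.length_append, List.length_singleton, hq] at hlen
      omega
    have hn' : l'.prod ∈ P.N := hl'.prod_mem_N (le_refl _)
    rw [List.prod_append, List.prod_singleton] at he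
    set n' := l'.prod with hn'def
    -- `n t ≡ n'`
    have hnt : Eqv P (n * t) n' := by
      have h1 : Eqv P (n * t) (n' * t * t) :=
        he.symm.mul_right hn (P.N.mul_mem hn' (S_mem_N ht)) (S_mem_N ht)
      have h2 : Eqv P (n' * t * t) n' := by
        have : (n' * t * t)⁻¹ * n' = (t * t)⁻¹ := by group
        rw [Eqv, this]
        exact P.B.inv_mem (S_sq ht)
      exact h1.trans h2
    -- `s b n' ∈ C(n') ∪ C(n)`
    have hx : s * b * n' * t ∈ C P n := by
      have : s * b * n' * t = s * b * n * ((n' * t)⁻¹ * n)⁻¹ := by group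
      rw [this]
      exact mul_right_mem_C (P.B.inv_mem he) h
    have hy : s * b * n' ∈ C P n' ∨ s * b * n' ∈ C P n := by
      have e : s * b * n' = s * b * n' * t * t * (t * t)⁻¹ := by group
      rw [e]
      rcases mul_S_mem_C ht hn hx with h1 | h1
      · left
        rw [← hnt.C_eq]
        exact mul_right_mem_C (P.B.inv_mem (S_sq ht)) h1
      · right
        exact mul_right_mem_C (P.B.inv_mem (S_sq ht)) h1
    -- induction hypothesis
    have hle' : len P n' ≤ len P (s * n') := by
      have h1 : len P (s * n) = len P (s * n' * t) := by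
        rw [mul_assoc]
        exact len_congr (he.symm.mul_left s)
      have h2 := len_mul_S_le ht (P.N.mul_mem (S_mem_N hs) hn')
      omega
    have hz : s * b * n' ∈ C P (s * n') := ih n' hn' hq' s hs hle' b hb
    have hsn' : s * n' ∈ P.N := P.N.mul_mem (S_mem_N hs) hn'
    rcases hy with hy | hy
    · have h1 : Eqv P (s * n') n' :=
        eqv_of_mem_C hsn' hn' (mem_C_trans (mem_C_symm hy) hz)
      exact not_eqv_smul hs hn' h1
    · have h1 : Eqv P (s * n') n :=
        eqv_of_mem_C hsn' hn (mem_C_trans (mem_C_symm hy) hz)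
      have h2 : Eqv P (s * n) n' := (h1.symm.mul_left s).trans (S_sq_mul_eqv hs hn')
      have := len_congr h2
      omega

/-- if `ℓ(n) ≤ ℓ(sn)` then `s B n ⊆ B s n B` -/
theorem smul_mem_C_of_len_le {s n b : G} (hs : s ∈ P.S) (hn : n ∈ P.N)
    (hle : len P n ≤ len P (s * n)) (hb : b ∈ P.B) : s * b * n ∈ C P (s * n) :=
  smul_mem_C_of_len_le_aux _ n hn rfl s hs hle b hb

/-- if `ℓ(sn) < ℓ(n)` then `s B n` meets `B n B` -/
theorem exists_smul_mem_C_of_len_lt {s n : G} (hs : s ∈ P.S) (hn : n ∈ P.N)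
    (hlt : len P (s * n) < len P n) : ∃ b ∈ P.B, s * b * n ∈ C P n := by
  have hsn : s * n ∈ P.N := P.N.mul_mem (S_mem_N hs) hn
  have hssn : Eqv P (s * (s * n)) n := S_sq_mul_eqv hs hn
  have hle : len P (s * n) ≤ len P (s * (s * n)) := by
    rw [len_congr hssn]; exact hlt.le
  obtain ⟨b₀, hb₀, h0⟩ := exists_sbs hs
  obtain ⟨b₁, hb₁, b₂, hb₂, h0'⟩ := mem_C_iff.1 h0
  have h1 := smul_mem_C_of_len_le hs hsn hle hb₀
  rw [hssn.C_eq] at h1
  refine ⟨b₂, hb₂, ?_⟩
  have e : s * b₂ * n = b₁⁻¹ * (s * b₀ * (s * n)) := by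
    have : s * b₀ * (s * n) = (s * b₀ * s) * n := by group
    rw [this, h0']
    group
  rw [e]
  exact mul_left_mem_C (P.B.inv_mem hb₁) h1

theorem len_smul_ne {s n : G} (hs : s ∈ P.S) (hn : n ∈ P.N) : len P (s * n) ≠ len P n := by
  intro heq
  have hsn : s * n ∈ P.N := P.N.mul_mem (S_mem_N hs) hn
  have hssn : Eqv P (s * (s * n)) n := S_sq_mul_eqv hs hn
  obtain ⟨b₀, hb₀, h0⟩ := exists_sbs hs
  obtain ⟨b₁, hb₁, b₂, hb₂, h0'⟩ := mem_C_iff.1 h0
  have h1 : s * b₀ * (s * n) ∈ C P n := by
    have := smul_mem_C_of_len_le hs hsn (by rw [len_congr hssn, heq]) hb₀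
    rwa [hssn.C_eq] at this
  have h2 : s * b₀ * (s * n) ∈ C P (s * n) := by
    have e : s * b₀ * (s * n) = b₁ * (s * b₂ * n) := by
      have : s * b₀ * (s * n) = (s * b₀ * s) * n := by group
      rw [this, h0']
      group
    rw [e]
    exact mul_left_mem_C hb₁ (smul_mem_C_of_len_le hs hn heq.symm.le hb₂)
  exact not_eqv_smul hs hn (eqv_of_mem_C hsn hn (mem_C_trans (mem_C_symm h1) h2))

theorem len_smul_cases {s n : G} (hs : s ∈ P.S) (hn : n ∈ P.N) :
    len P (s * n) = len P n + 1 ∨ len P (s * n) + 1 = len P n := by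
  have h1 := len_smul_le hs hn
  have h2 := len_le_smul hs hn
  have h3 := len_smul_ne hs hn
  omega

end Cfsg.Agent.Lib.H2.BN
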