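import Mathlib
import Cfsg.Agent.Lib.H2.BN3

set_option autoImplicit false
set_option linter.unusedSectionVars false

/-!
# (B,N)-pairs: subgroups containing `B`
-/

namespace Cfsg.Agent.Lib.H2.BN

open Cfsg DoubleCoset

variable {G : Type*} [Group G] {P : BNPair G}

/-- Bourbaki IV.2.5 Lemma 2: if a subgroup `M ≥ B` contains `n B n⁻¹`, it contains all
letters of every reduced word representing `n`. -/
theorem letters_mem (M : Subgroup G) (hBM : P.B ≤ M) : ∀ (l : List G) (n : G), n ∈ P.N →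
    (∀ b ∈ P.B, n * b * n⁻¹ ∈ M) → IsWord P.S l → l.length = len P n → Eqv P l.prod n →
    ∀ x ∈ l, x ∈ M := by
  intro l
  induction l with
  | nil => intro n _ _ _ _ _ x hx; simp at hx
  | cons s l' ih =>
    intro n hn hM hl hlen he x hx
    obtain ⟨hs, hl'⟩ := hl.of_cons
    rw [List.prod_cons] at he
    have hn' : l'.prod ∈ P.N := hl'.prod_mem_N (le_refl _)
    have h1 : Eqv P (s * n) l'.prod := (he.symm.mul_left s).trans (S_sq_mul_eqv hs hn')
    have hlt : len P (s * n) < len P n := by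
      rw [len_congr h1, ← hlen, List.length_cons]
      have := len_le (P := P) hl' (Eqv.refl l'.prod)
      omega
    obtain ⟨b, hb, hb'⟩ := exists_smul_mem_C_of_len_lt hs hn hlt
    obtain ⟨b₁, hb₁, b₂, hb₂, hb''⟩ := mem_C_iff.1 hb'
    have hsM : s ∈ M := by
      have e : s = b₁ * (n * b₂ * n⁻¹) * b⁻¹ := by
        have : s = (s * b * n) * n⁻¹ * b⁻¹ := by group
        rw [this, hb'']
        group
      rw [e]
      exact M.mul_mem (M.mul_mem (hBM hb₁) (hM b₂ hb₂)) (M.inv_mem (hBM hb))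
    rcases List.mem_cons.1 hx with rfl | hx'
    · exact hsM
    · have hsn : s⁻¹ * n ∈ P.N := P.N.mul_mem (P.N.inv_mem (S_mem_N hs)) hn
      have he' : Eqv P l'.prod (s⁻¹ * n) := by
        have := he.mul_left s⁻¹
        rwa [inv_mul_cancel_left] at this
      have hlen' : l'.length = len P (s⁻¹ * n) := by
        have h2 := len_le (P := P) hl' he'
        have h3 := len_smul_le hs hsn
        rw [mul_inv_cancel_left, ← hlen, List.length_cons] at h3
        omega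
      refine ih (s⁻¹ * n) hsn (fun b hb => ?_) hl' hlen' he' x hx'
      have e : s⁻¹ * n * b * (s⁻¹ * n)⁻¹ = s⁻¹ * (n * b * n⁻¹) * s := by group
      rw [e]
      exact M.mul_mem (M.mul_mem (M.inv_mem hsM) (hM b hb)) hsM

/-- if `M ≥ B` contains `n B n⁻¹` (with `n ∈ N`) then `n ∈ M`, and more precisely `n` lies
in `B ⊔ closure (S ∩ M)` -/
theorem mem_parabolic_of_conj_le (M : Subgroup G) (hBM : P.B ≤ M) {n : G} (hn : n ∈ P.N)
    (hM : ∀ b ∈ P.B, n * b * n⁻¹ ∈ M) : n ∈ P.parabolic {s | s ∈ P.S ∧ s ∈ M} := by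
  obtain ⟨l, hl, hlen, he⟩ := exists_reduced hn
  have h1 := letters_mem M hBM l n hn hM hl hlen he
  have h2 : l.prod ∈ Subgroup.closure {s | s ∈ P.S ∧ s ∈ M} :=
    Subgroup.list_prod_mem _ (fun x hx => Subgroup.subset_closure ⟨hl x hx, h1 x hx⟩)
  exact mem_parabolic_of_mem_C h2 he.mem_C

theorem parabolic_inter_le (M : Subgroup G) (hBM : P.B ≤ M) :
    P.parabolic {s | s ∈ P.S ∧ s ∈ M} ≤ M := by
  apply sup_le hBM
  rw [Subgroup.closure_le]
  exact fun s hs => hs.2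

theorem mem_of_conj_le (M : Subgroup G) (hBM : P.B ≤ M) {n : G} (hn : n ∈ P.N)
    (hM : ∀ b ∈ P.B, n * b * n⁻¹ ∈ M) : n ∈ M :=
  parabolic_inter_le M hBM (mem_parabolic_of_conj_le M hBM hn hM)

/-- the same for arbitrary `g`, via the Bruhat decomposition -/
theorem mem_of_conj_le' (M : Subgroup G) (hBM : P.B ≤ M) {g : G}
    (hM : ∀ b ∈ P.B, g * b * g⁻¹ ∈ M) : g ∈ M := by
  obtain ⟨n, hn, hg⟩ := bruhat (P := P) g
  obtain ⟨b₁, hb₁, b₂, hb₂, rfl⟩ := mem_C_iff.1 hg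
  have hnM : n ∈ M := by
    apply mem_of_conj_le M hBM hn
    intro b hb
    have e : n * b * n⁻¹ = b₁⁻¹ * ((b₁ * n * b₂) * (b₂⁻¹ * b * b₂) * (b₁ * n * b₂)⁻¹) * b₁ := by
      group
    rw [e]
    refine M.mul_mem (M.mul_mem (M.inv_mem (hBM hb₁)) (hM _ ?_)) (hBM hb₁)
    exact P.B.mul_mem (P.B.mul_mem (P.B.inv_mem hb₂) hb) hb₂
  exact M.mul_mem (M.mul_mem (hBM hb₁) hnM) (hBM hb₂)

/-- every subgroup containing `B` is parabolic -/
theorem eq_parabolic_of_le (M : Subgroup G) (hBM : P.B ≤ M) :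
    M = P.parabolic {s | s ∈ P.S ∧ s ∈ M} := by
  apply le_antisymm _ (parabolic_inter_le M hBM)
  intro g hg
  obtain ⟨n, hn, hgn⟩ := bruhat (P := P) g
  obtain ⟨b₁, hb₁, b₂, hb₂, rfl⟩ := mem_C_iff.1 hgn
  have hnM : n ∈ M := by
    have e : n = b₁⁻¹ * (b₁ * n * b₂) * b₂⁻¹ := by group
    rw [e]
    exact M.mul_mem (M.mul_mem (M.inv_mem (hBM hb₁)) hg) (M.inv_mem (hBM hb₂))
  have h1 : n ∈ P.parabolic {s | s ∈ P.S ∧ s ∈ M} := by
    apply mem_parabolic_of_conj_le M hBM hn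
    intro b hb
    exact M.mul_mem (M.mul_mem hnM (hBM hb)) (M.inv_mem hnM)
  have hB : P.B ≤ P.parabolic {s | s ∈ P.S ∧ s ∈ M} := le_sup_left
  exact mul_mem (mul_mem (hB hb₁) h1) (hB hb₂)

end Cfsg.Agent.Lib.H2.BN
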