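import Mathlib
import Cfsg.Agent.Lib.H2.BN4

set_option autoImplicit false
set_option linter.unusedSectionVars false

/-!
# (B,N)-pairs: the exchange condition in the Weyl group and its consequences
-/

namespace Cfsg.Agent.Lib.H2.BN

open Cfsg DoubleCoset

variable {G : Type*} [Group G] {P : BNPair G}

/-- Bourbaki IV.2.4, condition (C) in the proof of Theorem 2 -/
theorem eqv_of_len {s t w : G} (hs : s ∈ P.S) (ht : t ∈ P.S) (hw : w ∈ P.N)
    (h1 : len P w ≤ len P (s * w)) (h2 : len P (s * (w * t)) < len P (w * t)) :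
    Eqv P (s * w) (w * t) := by
  have hwt : w * t ∈ P.N := P.N.mul_mem hw (S_mem_N ht)
  have hsw : s * w ∈ P.N := P.N.mul_mem (S_mem_N hs) hw
  obtain ⟨b, hb, hb'⟩ := exists_smul_mem_C_of_len_lt hs hwt h2
  have h3 := smul_mem_C_of_len_le hs hw h1 hb
  have e : s * b * (w * t) = s * b * w * t := by group
  rw [e] at hb'
  rcases mul_S_mem_C ht hsw h3 with h4 | h4
  · exfalso
    have h5 : Eqv P (s * w * t) (w * t) :=
      eqv_of_mem_C (P.N.mul_mem hsw (S_mem_N ht)) hwt (mem_C_trans (mem_C_symm hb') h4)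
    rw [mul_assoc] at h5
    exact not_eqv_smul hs hwt h5
  · exact eqv_of_mem_C hsw hwt (mem_C_trans (mem_C_symm hb') h4)

/-- the exchange condition -/
theorem exchange : ∀ (l : List G), IsWord P.S l → ∀ s ∈ P.S,
    len P (s * l.prod) < len P l.prod → ∃ i < l.length, Eqv P (s * l.prod) (l.eraseIdx i).prod := by
  intro l
  induction l using List.reverseRecOn with
  | nil =>
    intro _ s _ h
    simp only [List.prod_nil, mul_one] at h
    rw [len_of_mem_B (P.B.one_mem)] at h
    omega
  | append_singleton l' t ih =>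
    intro hl s hs h
    obtain ⟨hl', ht'⟩ := hl.of_append
    have ht : t ∈ P.S := ht' t (by simp)
    have hw : l'.prod ∈ P.N := hl'.prod_mem_N (le_refl _)
    rw [List.prod_append, List.prod_singleton] at h ⊢
    rcases lt_or_ge (len P (s * l'.prod)) (len P l'.prod) with h1 | h1
    · obtain ⟨i, hi, hi'⟩ := ih hl' s hs h1
      refine ⟨i, by rw [List.length_append]; omega, ?_⟩
      rw [List.eraseIdx_append_of_lt_length hi, List.prod_append, List.prod_singleton, ← mul_assoc]
      exact hi'.mul_right (P.N.mul_mem (S_mem_N hs) hw)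
        ((hl'.eraseIdx i).prod_mem_N (le_refl _)) (S_mem_N ht)
    · refine ⟨l'.length, by rw [List.length_append, List.length_singleton]; omega, ?_⟩
      rw [List.eraseIdx_append_of_length_le (le_refl _)]
      simp only [Nat.sub_self, List.eraseIdx_cons_zero, List.append_nil]
      have h2 := eqv_of_len hs ht hw h1 h
      have h3 : Eqv P (s * l'.prod * t) (l'.prod * t * t) :=
        h2.mul_right (P.N.mul_mem (S_mem_N hs) hw) (P.N.mul_mem hw (S_mem_N ht)) (S_mem_N ht)
      have h4 : Eqv P (l'.prod * t * t) l'.prod := by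
        have : (l'.prod * t * t)⁻¹ * l'.prod = (t * t)⁻¹ := by group
        rw [Eqv, this]
        exact P.B.inv_mem (S_sq ht)
      rw [← mul_assoc]
      exact h3.trans h4

/-- every `J`-word can be replaced by a reduced `J`-word -/
theorem exists_reduced_word {J : Set G} (hJ : J ⊆ P.S) : ∀ l : List G, IsWord J l →
    ∃ l', IsWord J l' ∧ Eqv P l'.prod l.prod ∧ l'.length = len P l.prod := by
  intro l
  induction l with
  | nil =>
    intro _
    exact ⟨[], IsWord.nil J, Eqv.refl _, by simp [len_of_mem_B (P.B.one_mem)]⟩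
  | cons t l₂ ih =>
    intro hl
    obtain ⟨ht, hl₂⟩ := hl.of_cons
    obtain ⟨l₂', hw, he, hlen⟩ := ih hl₂
    have htS : t ∈ P.S := hJ ht
    have hm : l₂'.prod ∈ P.N := hw.prod_mem_N hJ
    have he' : Eqv P (t * l₂'.prod) (t * l₂.prod) := he.mul_left t
    have hlen' : l₂'.length = len P l₂'.prod := by rw [hlen, len_congr he]
    rw [List.prod_cons]
    rcases len_smul_cases htS hm with h | h
    · refine ⟨t :: l₂', hw.cons ht, by rw [List.prod_cons]; exact he', ?_⟩
      rw [List.length_cons, ← len_congr he', h, hlen']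
    · obtain ⟨i, hi, hi'⟩ := exchange l₂' (hw.mono hJ) t htS (by omega)
      refine ⟨l₂'.eraseIdx i, hw.eraseIdx i, hi'.symm.trans he', ?_⟩
      rw [List.length_eraseIdx, if_pos hi, ← len_congr he']
      omega

/-- a distinguished generator equivalent to a `J`-word lies in `J` -/
theorem mem_of_eqv_word {J : Set G} (hJ : J ⊆ P.S) {s : G} (hs : s ∈ P.S) {l : List G}
    (hl : IsWord J l) (h : Eqv P l.prod s) : s ∈ J := by
  obtain ⟨l', hl', he, hlen⟩ := exists_reduced_word hJ l hl
  rw [len_congr h, len_S hs] at hlen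
  obtain ⟨t, rfl⟩ := List.length_eq_one_iff.1 hlen
  have ht : t ∈ J := hl' t (by simp)
  rw [List.prod_singleton] at he
  have : t = s := P.inj t (hJ ht) s hs (he.trans h)
  rw [← this]
  exact ht

/-- `S ∩ P_J = J` -/
theorem mem_of_mem_parabolic {J : Set G} (hJ : J ⊆ P.S) {s : G} (hs : s ∈ P.S)
    (h : s ∈ P.parabolic J) : s ∈ J := by
  obtain ⟨n, hn, hsn⟩ := (mem_parabolic_iff hJ s).1 h
  obtain ⟨l, hl, he⟩ := exists_word_of_mem_closure' hJ hn
  exact mem_of_eqv_word hJ hs hl (he.trans (eqv_of_mem_C (closure_le_N hJ hn) (S_mem_N hs) hsn))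

theorem parabolic_mono {J K : Set G} (h : J ⊆ K) : P.parabolic J ≤ P.parabolic K :=
  sup_le_sup_left (Subgroup.closure_mono h) _

theorem subset_of_parabolic_le {J K : Set G} (hJ : J ⊆ P.S) (hK : K ⊆ P.S)
    (h : P.parabolic J ≤ P.parabolic K) : J ⊆ K := by
  intro s hs
  apply mem_of_mem_parabolic hK (hJ hs)
  apply h
  exact (le_sup_right : Subgroup.closure J ≤ P.parabolic J) (Subgroup.subset_closure hs)

theorem parabolic_inf {J K : Set G} (hJ : J ⊆ P.S) (hK : K ⊆ P.S) :
    P.parabolic J ⊓ P.parabolic K = P.parabolic (J ∩ K) := by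
  apply le_antisymm
  · have hB : P.B ≤ P.parabolic J ⊓ P.parabolic K := le_inf le_sup_left le_sup_left
    rw [eq_parabolic_of_le (P := P) (P.parabolic J ⊓ P.parabolic K) hB]
    apply parabolic_mono
    rintro s ⟨hs, hs1, hs2⟩
    exact ⟨mem_of_mem_parabolic hJ hs hs1, mem_of_mem_parabolic hK hs hs2⟩
  · exact le_inf (parabolic_mono Set.inter_subset_left) (parabolic_mono Set.inter_subset_right)

end Cfsg.Agent.Lib.H2.BN
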