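/-
S5886 piece P2 (architect helper1): `exists_not_klinear`.  In the case `dim_K V = 2`, not (`r = 2` and `q = 2`), the kernel of
`X_{K a₁}` on `K a₁` and `V / K a₁` contains a map that is not `K`-linear.
-/
import Cfsg.Agent.Lib.H1.C3MaxDefs

set_option autoImplicit false

namespace Cfsg.Agent.Lib.H2.C3Max

open Module Cfsg.Agent.Lib.H1.C3Max

section alg

variable {F K : Type*} [Field F] [Field K] [Algebra F K]

/-- the `q ≥ 3` case of the final algebra step. -/
theorem p2_alg_big (N0 : K →ₗ[F] K) (β : K) (hβ : β ≠ 0)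
    (hβ0 : N0 β = 0) (κ' : K) (hκ' : N0 κ' = 1)
    (ρ' : F) (hρ0 : ρ' ≠ 0) (hρ1 : ρ' ≠ 1)
    (hfe : ∀ (ρ : F) (κ μ : K),
      (κ * μ + algebraMap F K ρ * N0 (κ * μ) * β) * (1 + algebraMap F K ρ * N0 1 * β) =
      (κ + algebraMap F K ρ * N0 κ * β) * (μ + algebraMap F K ρ * N0 μ * β)) : False := by
  set R : K := algebraMap F K ρ' with hR
  have hR0 : R ≠ 0 := by
    rw [hR, Ne, map_eq_zero]; exact hρ0
  have hR1 : R - 1 ≠ 0 := by
    intro h
    apply hρ1
    have : algebraMap F K ρ' = algebraMap F K 1 := by rw [map_one]; exact sub_eq_zero.1 h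
    exact (algebraMap F K).injective this
  have hB : ∀ κ μ : K, N0 (κ * μ) * N0 1 = N0 κ * N0 μ := by
    intro κ μ
    have E1 := hfe 1 κ μ
    have E2 := hfe ρ' κ μ
    rw [map_one] at E1
    rw [← hR] at E2
    have : R * (R - 1) * (β ^ 2) * (N0 (κ * μ) * N0 1 - N0 κ * N0 μ) = 0 := by
      linear_combination E2 - R * E1
    have h2 : N0 (κ * μ) * N0 1 - N0 κ * N0 μ = 0 := by
      rcases mul_eq_zero.1 this with h | h
      · exfalso
        rcases mul_eq_zero.1 h with h | h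
        · rcases mul_eq_zero.1 h with h | h
          · exact hR0 h
          · exact hR1 h
        · exact hβ (pow_eq_zero_iff (two_ne_zero) |>.1 h)
      · exact h
    exact sub_eq_zero.1 h2
  -- N0 1 = 0
  have h1 : N0 1 = 0 := by
    have := hB (κ' * β⁻¹) β
    rw [mul_assoc, inv_mul_cancel₀ hβ, mul_one, hκ', hβ0, mul_zero, one_mul] at this
    exact this
  have := hB κ' κ'
  rw [h1, mul_zero, hκ', mul_one] at this
  exact one_ne_zero this.symm

/-- the `q = 2`, `r ≥ 3` case of the final algebra step. -/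
theorem p2_alg_small [Module.Finite F K] (hr : (finrank F K).Prime) (hr3 : 3 ≤ finrank F K)
    (N0 : K →ₗ[F] K) (β : K) (hβ : β ≠ 0)
    (hF : ∀ κ, ∃ c : F, N0 κ = algebraMap F K c)
    (κ' : K) (hκ' : N0 κ' = 1)
    (hfe : ∀ (κ μ : K),
      (κ * μ + N0 (κ * μ) * β) * (1 + N0 1 * β) = (κ + N0 κ * β) * (μ + N0 μ * β)) : False := by
  have hrange : finrank F (LinearMap.range N0) ≤ 1 := by
    have hle : LinearMap.range N0 ≤ Submodule.span F {(1 : K)} := by
      rintro _ ⟨κ, rfl⟩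
      obtain ⟨c, hc⟩ := hF κ
      rw [hc, Algebra.algebraMap_eq_smul_one]
      exact Submodule.smul_mem _ _ (Submodule.mem_span_singleton_self _)
    calc finrank F (LinearMap.range N0) ≤ finrank F (Submodule.span F {(1 : K)}) :=
          Submodule.finrank_mono hle
      _ = 1 := finrank_span_singleton one_ne_zero
  have hker : 1 < finrank F (LinearMap.ker N0) := by
    have := LinearMap.finrank_range_add_finrank_ker N0
    omega
  obtain ⟨x, hx⟩ := Module.finrank_pos_iff_exists_ne_zero.1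
    (by omega : 0 < finrank F (LinearMap.ker N0))
  obtain ⟨y, hy⟩ := exists_linearIndependent_pair_of_one_lt_finrank hker hx
  rw [LinearIndependent.pair_iff' hx] at hy
  have hd'0 : (x : K) ≠ 0 := fun h => hx (Subtype.ext h)
  have hNd' : N0 (x : K) = 0 := x.2
  have hNd : N0 (y : K) = 0 := y.2
  have hind : ∀ c : F, c • (x : K) ≠ (y : K) := fun c h => hy c (Subtype.ext h)
  set τ : K → K := fun κ => κ + N0 κ * β with hτ
  have hmul : ∀ κ μ, τ (κ * μ) * τ 1 = τ κ * τ μ := hfe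
  have hτd' : τ x = x := by simp [hτ, hNd']
  have hτd : τ y = y := by simp [hτ, hNd]
  have ht1 : τ 1 ≠ 0 := by
    intro h
    have := hmul x x
    rw [h, mul_zero, hτd'] at this
    exact hd'0 (mul_self_eq_zero.1 this.symm)
  let E : Subalgebra F K :=
    { carrier := {z | τ z = τ 1 * z}
      mul_mem' := by
        intro a b ha hb
        simp only [Set.mem_ofPred_eq] at ha hb ⊢
        have := hmul a b
        rw [ha, hb] at this
        apply mul_right_cancel₀ ht1
        rw [this]; ring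
      one_mem' := by simp
      add_mem' := by
        intro a b ha hb
        simp only [Set.mem_ofPred_eq] at ha hb ⊢
        have : τ (a + b) = τ a + τ b := by simp only [hτ, map_add]; ring
        rw [this, ha, hb]; ring
      zero_mem' := by simp [hτ]
      algebraMap_mem' := by
        intro c
        simp only [Set.mem_ofPred_eq, hτ]
        rw [Algebra.algebraMap_eq_smul_one, map_smul]
        simp only [Algebra.smul_def, mul_one]
        ring }
  have hζ : (y : K) * (x : K)⁻¹ ∈ E := by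
    show τ ((y : K) * (x : K)⁻¹) = τ 1 * ((y : K) * (x : K)⁻¹)
    have := hmul ((y : K) * (x : K)⁻¹) x
    rw [mul_assoc, inv_mul_cancel₀ hd'0, mul_one, hτd, hτd'] at this
    have h2 : τ ((y : K) * (x : K)⁻¹) = τ ((y : K) * (x : K)⁻¹) * (x : K) * (x : K)⁻¹ := by
      rw [mul_assoc, mul_inv_cancel₀ hd'0, mul_one]
    rw [h2, ← this]; ring
  have hsimple := Subalgebra.isSimpleOrder_of_finrank_prime F K hr
  rcases hsimple.eq_bot_or_eq_top E with hE | hE
  · rw [hE, Algebra.mem_bot] at hζ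
    obtain ⟨c, hc⟩ := hζ
    apply hind c
    rw [Algebra.smul_def, hc, mul_assoc, inv_mul_cancel₀ hd'0, mul_one]
  · have hall : ∀ z, τ z = τ 1 * z := by
      intro z
      have : z ∈ E := by rw [hE]; exact Algebra.mem_top
      exact this
    have h1 : τ 1 = 1 := by
      have := hall x
      rw [hτd'] at this
      have h2 : (τ 1 - 1) * (x : K) = 0 := by linear_combination -this
      rcases mul_eq_zero.1 h2 with h | h
      · exact sub_eq_zero.1 h
      · exact absurd h hd'0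
    have := hall κ'
    rw [h1, one_mul] at this
    simp only [hτ, hκ', one_mul] at this
    exact hβ (by simpa using this)

/-- the final algebra step. -/
theorem p2_alg [Finite F] [Module.Finite F K] (hr : (finrank F K).Prime)
    (hne : ¬ (finrank F K = 2 ∧ Nat.card F = 2))
    (N0 : K →ₗ[F] K) (β : K) (hβ : β ≠ 0)
    (hF : ∀ κ, ∃ c : F, N0 κ = algebraMap F K c)
    (hβ0 : N0 β = 0) (κ' : K) (hκ' : N0 κ' = 1)
    (hfe : ∀ (ρ : F) (κ μ : K),
      (κ * μ + algebraMap F K ρ * N0 (κ * μ) * β) * (1 + algebraMap F K ρ * N0 1 * β) =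
      (κ + algebraMap F K ρ * N0 κ * β) * (μ + algebraMap F K ρ * N0 μ * β)) : False := by
  by_cases hq : Nat.card F = 2
  · have hr2 : finrank F K ≠ 2 := fun h => hne ⟨h, hq⟩
    have hr3 : 3 ≤ finrank F K := by have := hr.two_le; omega
    exact p2_alg_small hr hr3 N0 β hβ hF κ' hκ' (fun κ μ => by simpa using hfe 1 κ μ)
  · have : ∃ ρ' : F, ρ' ≠ 0 ∧ ρ' ≠ 1 := by
      by_contra h
      push Not at h
      apply hq
      rw [Nat.card_eq_two_iff' (0 : F)]
      exact ⟨1, one_ne_zero, fun y hy => h y hy⟩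
    obtain ⟨ρ', h0, h1⟩ := this
    exact p2_alg_big N0 β hβ hβ0 κ' hκ' ρ' h0 h1 hfe

end alg

section geo

variable {F K V : Type*} [Field F] [Field K] [Algebra F K] [AddCommGroup V] [Module F V]
  [Module K V] [IsScalarTower F K V]

/-- the `F`-linear map `x ↦ f x • w`. -/
def nilLin (f : Dual K V) (w : V) : V →ₗ[F] V :=
  { toFun := fun x => f x • w
    map_add' := by intro x y; simp only [map_add, add_smul]
    map_smul' := by
      intro c x
      simp only [RingHom.id_apply]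
      rw [LinearMap.map_smul_of_tower, smul_assoc] }

@[simp] theorem nilLin_apply (f : Dual K V) (w x : V) : (nilLin f w : V →ₗ[F] V) x = f x • w := rfl

/-- the `F`-linear map `x ↦ x + f x • w`. -/
def tvLin (f : Dual K V) (w : V) : V →ₗ[F] V := LinearMap.id + nilLin f w

@[simp] theorem tvLin_apply (f : Dual K V) (w x : V) : (tvLin f w : V →ₗ[F] V) x = x + f x • w := rfl

/-- the `K`-transvection `x ↦ x + f x • w` (`f w = 0`) as an `F`-linear equivalence. -/
def tvK (f : Dual K V) (w : V) (hf : f w = 0) : V ≃ₗ[F] V :=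
  LinearEquiv.ofLinearMap (tvLin f w) (tvLin (-f) w)
    (by ext x; simp [hf]) (by ext x; simp [hf])

@[simp] theorem tvK_apply (f : Dual K V) (w : V) (hf : f w = 0) (x : V) :
    (tvK f w hf : V ≃ₗ[F] V) x = x + f x • w := rfl

theorem finrank_kline {a : V} (ha : a ≠ 0) : finrank F ↥(kline F K a) = finrank F K := by
  let φ : K →ₗ[F] ↥(kline F K a) :=
    { toFun := fun κ => ⟨κ • a, smul_mem_kline a κ⟩
      map_add' := by intro x y; ext; simp [add_smul]
      map_smul' := by intro c x; ext; simp [smul_assoc] }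
  have hbij : Function.Bijective φ := by
    constructor
    · intro x y h
      have : x • a = y • a := congrArg Subtype.val h
      exact smul_left_injective K ha this
    · rintro ⟨v, hv⟩
      obtain ⟨κ, rfl⟩ := mem_kline.1 hv
      exact ⟨κ, rfl⟩
  exact (LinearEquiv.ofBijective φ hbij).finrank_eq.symm

theorem exists_dual_pair [Module.Finite K V] (hm : finrank K V = 2) {a c : V} (ha : a ≠ 0)
    (hc : c ∉ kline F K a) :
    ∃ f₀ f₁ : Dual K V, f₀ a = 1 ∧ f₀ c = 0 ∧ f₁ a = 0 ∧ f₁ c = 1 ∧ ∀ v, v = f₀ v • a + f₁ v • c := by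
  have hli : LinearIndependent K ![a, c] :=
    (LinearIndependent.pair_iff' ha).2 (fun α h => hc (mem_kline.2 ⟨α, h⟩))
  let bs : Basis (Fin 2) K V := basisOfLinearIndependentOfCardEqFinrank hli (by simp [hm])
  have hbs : ⇑bs = ![a, c] := coe_basisOfLinearIndependentOfCardEqFinrank hli _
  have h0 : bs 0 = a := by rw [hbs]; rfl
  have h1 : bs 1 = c := by rw [hbs]; rfl
  refine ⟨bs.coord 0, bs.coord 1, ?_, ?_, ?_, ?_, ?_⟩
  · rw [← h0]; simp
  · rw [← h1]; simp
  · rw [← h0]; simp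
  · rw [← h1]; simp
  · intro v
    have := (bs.sum_repr v).symm
    rw [Fin.sum_univ_two, h0, h1] at this
    exact this


/-- **S5886-P2**. -/
theorem exists_not_klinear [Finite F] [Module.Finite F K] [Module.Finite K V]
    (hr : (finrank F K).Prime) (hm : finrank K V = 2)
    (hne : ¬ (finrank F K = 2 ∧ Nat.card F = 2))
    (X : Subgroup (V ≃ₗ[F] V)) (hD : HasD K X)
    (b a₁ : V) (g : V ≃ₗ[F] V) (hg : g ∈ X) (hb : b ≠ 0) (ha₁ : a₁ ≠ 0)
    (hbL : b ∈ (kline F K a₁).map (g : V →ₗ[F] V))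
    (hne' : (kline F K a₁).map (g : V →ₗ[F] V) ≠ kline F K b)
    (hdim : finrank F ↥(kline F K b ⊓ (kline F K a₁).map (g : V →ₗ[F] V)) + 1 = finrank F K) :
    ∃ (Q₁ : V →ₗ[F] V) (e : V ≃ₗ[F] V), e ∈ X ∧ (∀ v, e v = v + Q₁ v) ∧ (∀ κ : K, Q₁ (κ • a₁) = 0) ∧
      (∀ v, Q₁ v ∈ kline F K a₁) ∧ ¬ (∀ (κ : K) (v : V), Q₁ (κ • v) = κ • Q₁ v) := by
  classical
  by_contra hcon
  have H : ∀ (Q₁ : V →ₗ[F] V) (e : V ≃ₗ[F] V), e ∈ X → (∀ v, e v = v + Q₁ v) →
      (∀ κ : K, Q₁ (κ • a₁) = 0) → (∀ v, Q₁ v ∈ kline F K a₁) →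
      ∀ (κ : K) (v : V), Q₁ (κ • v) = κ • Q₁ v := by
    intro Q₁ e he h1 h2 h3
    by_contra h4
    exact hcon ⟨Q₁, e, he, h1, h2, h3, h4⟩
  have hfinV : Module.Finite F V := Module.Finite.trans K V
  set L' := (kline F K a₁).map (g : V →ₗ[F] V) with hL'
  set L₀ := kline F K b with hL₀
  have hfL₀ : finrank F L₀ = finrank F K := finrank_kline hb
  have hfL' : finrank F L' = finrank F K := by
    rw [hL', ← finrank_kline (F := F) (K := K) ha₁]
    exact LinearEquiv.finrank_map_eq g _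
  -- e'
  obtain ⟨e', he'L, he'0⟩ : ∃ e' ∈ L', e' ∉ L₀ := by
    by_contra h
    push Not at h
    have hle : L' ≤ L₀ := fun y hy => h y hy
    exact hne' (Submodule.eq_of_le_of_finrank_eq hle (by rw [hfL', hfL₀]))
  obtain ⟨-, f, -, -, hfb, hfe', -⟩ := exists_dual_pair (F := F) hm hb he'0
  have he'ne : e' ≠ 0 := by
    rintro rfl
    exact he'0 (Submodule.zero_mem _)
  -- f takes values in F on L'
  have hB : ∀ y ∈ L', ∃ c : F, f y = algebraMap F K c := by
    set D := L₀ ⊓ L' with hDdef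
    set S := Submodule.span F {e'} with hS
    have hdisj : D ⊓ S = ⊥ := by
      rw [eq_bot_iff]
      rintro x ⟨hxD, hxS⟩
      obtain ⟨c, rfl⟩ := Submodule.mem_span_singleton.1 hxS
      by_cases hc : c = 0
      · simp [hc]
      · exfalso
        apply he'0
        have : e' = c⁻¹ • (c • e') := by rw [smul_smul, inv_mul_cancel₀ hc, one_smul]
        rw [this]
        exact Submodule.smul_mem _ _ hxD.1
    have hsum : D ⊔ S = L' := by
      apply Submodule.eq_of_le_of_finrank_eq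
      · apply sup_le inf_le_right
        rw [hS, Submodule.span_singleton_le_iff_mem]
        exact he'L
      · have h1 := Submodule.finrank_sup_add_finrank_inf_eq D S
        have hfS : finrank F ↥S = 1 := finrank_span_singleton he'ne
        rw [hdisj, finrank_bot, hfS] at h1
        rw [hfL']
        have h2 : finrank F ↥D + 1 = finrank F K := hdim
        omega
    intro y hy
    rw [← hsum] at hy
    obtain ⟨d, hd, s, hs, rfl⟩ := Submodule.mem_sup.1 hy
    obtain ⟨c, rfl⟩ := Submodule.mem_span_singleton.1 hs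
    obtain ⟨κ, rfl⟩ := mem_kline.1 hd.1
    refine ⟨c, ?_⟩
    rw [map_add, map_smul, hfb, smul_zero, zero_add, LinearMap.map_smul_of_tower, hfe',
      Algebra.algebraMap_eq_smul_one]
  -- β₁
  obtain ⟨y0, hy0, hgy0⟩ := Submodule.mem_map.1 hbL
  obtain ⟨β₁, rfl⟩ := mem_kline.1 hy0
  have hgβ : g (β₁ • a₁) = b := hgy0
  have hβ₁ : β₁ ≠ 0 := by
    rintro rfl
    apply hb
    rw [← hgβ, zero_smul, map_zero]
  have hsymb : g.symm b = β₁ • a₁ := by rw [← hgβ, LinearEquiv.symm_apply_apply]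
  have hgL : ∀ κ : K, g (κ • a₁) ∈ L' := fun κ =>
    Submodule.mem_map.2 ⟨κ • a₁, smul_mem_kline a₁ κ, rfl⟩
  -- N0
  let N0 : K →ₗ[F] K :=
    { toFun := fun κ => f (g (κ • a₁))
      map_add' := by intro x y; simp only [add_smul, map_add]
      map_smul' := by
        intro c x
        simp only [RingHom.id_apply]
        rw [smul_assoc, map_smul, LinearMap.map_smul_of_tower] }
  have hN0 : ∀ κ, N0 κ = f (g (κ • a₁)) := fun κ => rfl
  have hF : ∀ κ, ∃ c : F, N0 κ = algebraMap F K c := fun κ => hB _ (hgL κ)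
  have hβ0 : N0 β₁ = 0 := by rw [hN0, hgβ, hfb]
  obtain ⟨κ', hκ'⟩ : ∃ κ' : K, N0 κ' = 1 := by
    obtain ⟨y1, hy1, hgy1⟩ := Submodule.mem_map.1 he'L
    obtain ⟨κ', rfl⟩ := mem_kline.1 hy1
    refine ⟨κ', ?_⟩
    have : g (κ' • a₁) = e' := hgy1
    rw [hN0, this, hfe']
  -- the elements u ρ, v ρ
  have hfρ : ∀ ρ : F, (algebraMap F K ρ • f) b = 0 := by
    intro ρ; simp [hfb]
  set u : F → (V ≃ₗ[F] V) := fun ρ => tvK (algebraMap F K ρ • f) b (hfρ ρ) with hu
  have huX : ∀ ρ, u ρ ∈ X := by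
    intro ρ
    apply hD (algebraMap F K ρ • f) b (u ρ) (fun x => rfl)
    rw [hfρ, add_zero, map_one]
  have hu_apply : ∀ ρ x, u ρ x = x + (algebraMap F K ρ * f x) • b := fun ρ x => rfl
  have huinv : ∀ ρ x, u (-ρ) (u ρ x) = x := by
    intro ρ x
    rw [hu_apply, hu_apply]
    simp only [map_add, map_smul, hfb, smul_eq_mul, mul_zero, add_zero, map_neg, neg_mul, neg_smul]
    abel
  set v : F → (V ≃ₗ[F] V) := fun ρ => g⁻¹ * u ρ * g with hv
  have hvX : ∀ ρ, v ρ ∈ X := fun ρ => X.mul_mem (X.mul_mem (X.inv_mem hg) (huX ρ)) hg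
  have hv_apply : ∀ ρ x, v ρ x = g.symm (u ρ (g x)) := fun ρ x => rfl
  have hvinv : ∀ ρ x, v (-ρ) (v ρ x) = x := by
    intro ρ x
    rw [hv_apply, hv_apply, LinearEquiv.apply_symm_apply, huinv, LinearEquiv.symm_apply_apply]
  have hvinv' : ∀ ρ x, v ρ (v (-ρ) x) = x := by
    intro ρ x
    have := hvinv (-ρ) x
    rwa [neg_neg] at this
  have hva : ∀ (ρ : F) (κ : K), v ρ (κ • a₁) = (κ + algebraMap F K ρ * N0 κ * β₁) • a₁ := by
    intro ρ κ
    obtain ⟨c, hc⟩ := hF κ
    rw [hv_apply, hu_apply, ← hN0, hc, ← map_mul, algebraMap_smul, map_add,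
      LinearEquiv.symm_apply_apply, map_smul, hsymb, add_smul,
      mul_smul (algebraMap F K (ρ * c)) β₁ a₁, algebraMap_smul]
  -- c₁
  obtain ⟨c₁, hc₁⟩ : ∃ c₁ : V, c₁ ∉ kline F K a₁ := by
    by_contra h
    push Not at h
    have htop : Submodule.span K {a₁} = ⊤ := by
      rw [eq_top_iff]
      intro x _
      obtain ⟨κ, hκ⟩ := mem_kline.1 (h x)
      rw [← hκ]
      exact Submodule.smul_mem _ _ (Submodule.mem_span_singleton_self _)
    have h1 : finrank K ↥(Submodule.span K {a₁}) = 1 := finrank_span_singleton ha₁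
    rw [htop, finrank_top, hm] at h1
    omega
  obtain ⟨f₀, f₁, -, -, hf₁a, hf₁c, hdec⟩ := exists_dual_pair (F := F) hm ha₁ hc₁
  -- the factorisation
  have hfac : ∀ (ρ : F) (κ : K), ∃ π : K, ∀ μ : K,
      (κ * μ + algebraMap F K ρ * N0 (κ * μ) * β₁) = f₁ (v ρ (μ • c₁)) * π := by
    intro ρ κ
    have hκf : (κ • f₁) a₁ = 0 := by simp [hf₁a]
    set t : V ≃ₗ[F] V := tvK (κ • f₁) a₁ hκf with ht
    have htX : t ∈ X := by
      apply hD (κ • f₁) a₁ t (fun x => rfl)
      rw [hκf, add_zero, map_one]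
    set e : V ≃ₗ[F] V := v ρ * t * v (-ρ) with he
    have heX : e ∈ X := X.mul_mem (X.mul_mem (hvX ρ) htX) (hvX (-ρ))
    set Q : V →ₗ[F] V :=
      (v ρ : V →ₗ[F] V) ∘ₗ (nilLin (κ • f₁) a₁ : V →ₗ[F] V) ∘ₗ (v (-ρ) : V →ₗ[F] V) with hQ
    have hQ_apply : ∀ x, Q x = v ρ ((κ * f₁ (v (-ρ) x)) • a₁) := fun x => rfl
    have h1 : ∀ x, e x = x + Q x := by
      intro x
      rw [hQ_apply]
      show v ρ (t (v (-ρ) x)) = _
      rw [ht, tvK_apply, map_add, hvinv']
      rfl
    have h2 : ∀ κ'' : K, Q (κ'' • a₁) = 0 := by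
      intro κ''
      rw [hQ_apply]
      have : f₁ (v (-ρ) (κ'' • a₁)) = 0 := by rw [hva, map_smul, hf₁a, smul_zero]
      rw [this, mul_zero, zero_smul, map_zero]
    have h3 : ∀ x, Q x ∈ kline F K a₁ := by
      intro x
      rw [hQ_apply, hva]
      exact smul_mem_kline _ _
    have h4 := H Q e heX h1 h2 h3
    obtain ⟨π, hπ⟩ := mem_kline.1 (h3 c₁)
    refine ⟨π, fun μ => ?_⟩
    set z := v ρ (μ • c₁) with hz
    have hQz : Q z = (κ * μ + algebraMap F K ρ * N0 (κ * μ) * β₁) • a₁ := by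
      have : f₁ (μ • c₁) = μ := by rw [map_smul, hf₁c, smul_eq_mul, mul_one]
      rw [hQ_apply, hz, hvinv, this, hva]
    have hQz' : Q z = (f₁ z * π) • a₁ := by
      conv_lhs => rw [hdec z]
      rw [map_add, h2, zero_add, h4, ← hπ, smul_smul]
    exact smul_left_injective K ha₁ (hQz.symm.trans hQz')
  have hfe : ∀ (ρ : F) (κ μ : K),
      (κ * μ + algebraMap F K ρ * N0 (κ * μ) * β₁) * (1 + algebraMap F K ρ * N0 1 * β₁) =
      (κ + algebraMap F K ρ * N0 κ * β₁) * (μ + algebraMap F K ρ * N0 μ * β₁) := by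
    intro ρ κ μ
    obtain ⟨π, hπ⟩ := hfac ρ κ
    obtain ⟨π1, hπ1⟩ := hfac ρ 1
    have e1 := hπ μ
    have e2 := hπ 1
    have e3 := hπ1 μ
    have e4 := hπ1 1
    simp only [mul_one, one_mul] at e1 e2 e3 e4
    rw [e1, e2, e3, e4]
    ring
  exact p2_alg hr hne N0 β₁ hβ₁ hF hβ0 κ' hκ' hfe

end geo

end Cfsg.Agent.Lib.H2.C3Max
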