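import Mathlib
import Cfsg.Agent.Lib.H1.SylowBasic
import Cfsg.Agent.Lib.H12.CardSL

set_option autoImplicit false

/-!
# Sylow `r`-subgroups of `SL₂(q)` are cyclic for odd `r` different from the characteristic
-/

namespace Cfsg.Agent.Lib.H2.SL2Cyc

open Matrix

/-- if a cyclic subgroup has index prime to `p` then all `p`-subgroups are cyclic -/
theorem isCyclic_of_cyclic_of_not_dvd_index {G : Type*} [Group G] [Finite G] {p : ℕ}
    [Fact p.Prime] (H : Subgroup G) [IsCyclic H] (hH : ¬ p ∣ H.index) (N : Subgroup G)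
    (hN : IsPGroup p N) : IsCyclic N := by
  obtain ⟨g, hg⟩ := Cfsg.Agent.Lib.H1.exists_conj_le_of_not_dvd_index hH hN
  let f : N →* H :=
    { toFun := fun n => ⟨g * n.1 * g⁻¹, hg n.1 n.2⟩
      map_one' := by apply Subtype.ext; simp
      map_mul' := fun a b => by apply Subtype.ext; simp [mul_assoc] }
  apply isCyclic_of_injective f
  intro a b hab
  have := congrArg Subtype.val hab
  simp only [f, MonoidHom.coe_mk, OneHom.coe_mk] at this
  apply Subtype.ext
  exact mul_left_cancel (mul_right_cancel this)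

variable {K : Type*} [Field K]

/-- diagonal element -/
def dSL (a : Kˣ) : SpecialLinearGroup (Fin 2) K :=
  ⟨!![(a : K), 0; 0, ((a⁻¹ : Kˣ) : K)], by simp [Matrix.det_fin_two_of]⟩

theorem dSL_val (a : Kˣ) :
    ((dSL a : SpecialLinearGroup (Fin 2) K) : Matrix (Fin 2) (Fin 2) K) =
      !![(a : K), 0; 0, ((a⁻¹ : Kˣ) : K)] := rfl

/-- the diagonal torus -/
def dHom (K : Type*) [Field K] : Kˣ →* SpecialLinearGroup (Fin 2) K where
  toFun a := dSL a
  map_one' := by
    apply Matrix.SpecialLinearGroup.ext
    intro i j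
    rw [dSL_val, Matrix.SpecialLinearGroup.coe_one]
    fin_cases i <;> fin_cases j <;> simp
  map_mul' a b := by
    apply Matrix.SpecialLinearGroup.ext
    intro i j
    rw [Matrix.SpecialLinearGroup.coe_mul, dSL_val, dSL_val, dSL_val]
    fin_cases i <;> fin_cases j <;> simp [Matrix.mul_apply, Fin.sum_univ_two, mul_comm]

theorem dHom_injective : Function.Injective (dHom K) := by
  intro a b h
  have h1 : dSL a = dSL b := h
  have := congrArg (fun g : SpecialLinearGroup (Fin 2) K => g.1 0 0) h1
  simp only [dSL_val] at this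
  apply Units.ext
  simpa using this

instance [Finite K] : IsCyclic (dHom K).range :=
  isCyclic_of_surjective (dHom K).rangeRestrict (dHom K).rangeRestrict_surjective

theorem index_torus [Fintype K] :
    (dHom K).range.index = Fintype.card K * (Fintype.card K + 1) := by
  have h1 := Subgroup.card_mul_index (dHom K).range
  rw [← Nat.card_congr (MonoidHom.ofInjective dHom_injective).toEquiv, Nat.card_units,
    Cfsg.Agent.Lib.H12.card_SL2, Nat.card_eq_fintype_card] at h1
  have hq : 1 < Fintype.card K := Fintype.one_lt_card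
  obtain ⟨s, hs⟩ : ∃ s, Fintype.card K = s + 1 := ⟨Fintype.card K - 1, by omega⟩
  rw [hs] at h1 ⊢
  rw [Nat.add_sub_cancel] at h1
  have e : (s + 1) * ((s + 1) ^ 2 - 1) = s * ((s + 1) * (s + 1 + 1)) := by
    have : (s + 1) ^ 2 - 1 = s * (s + 2) := by
      apply Nat.sub_eq_of_eq_add; ring
    rw [this]; ring
  rw [e] at h1
  have hs0 : 0 < s := by omega
  exact Nat.eq_of_mul_eq_mul_left hs0 h1

/-- all `r`-subgroups of `SL₂(K)` are cyclic if `r` does not divide `Q (Q + 1)` -/
theorem isCyclic_of_not_dvd [Fintype K] {r : ℕ} [Fact r.Prime]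
    (hr : ¬ r ∣ Fintype.card K * (Fintype.card K + 1))
    (N : Subgroup (SpecialLinearGroup (Fin 2) K)) (hN : IsPGroup r N) : IsCyclic N := by
  apply isCyclic_of_cyclic_of_not_dvd_index (dHom K).range _ N hN
  rw [index_torus]
  exact hr

theorem map_injective {F K : Type*} [Field F] [Field K] (f : F →+* K) :
    Function.Injective (SpecialLinearGroup.map (n := Fin 2) f) := by
  intro A B h
  apply Subtype.ext
  ext i j
  have := congrArg (fun g : SpecialLinearGroup (Fin 2) K => g.1 i j) h
  simp only [SpecialLinearGroup.map_apply_coe, RingHom.mapMatrix_apply, Matrix.map_apply] at this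
  exact f.injective this

theorem main {F : Type*} [Field F] [Fintype F] (p : ℕ) [Fact p.Prime] [CharP F p] (r : ℕ)
    [Fact r.Prime] (hr : r ≠ 2) (hrp : r ≠ p)
    (R : Sylow r (Matrix.SpecialLinearGroup (Fin 2) F)) :
    IsCyclic (R : Subgroup (Matrix.SpecialLinearGroup (Fin 2) F)) := by
  have hrprime : r.Prime := Fact.out
  have hpprime : p.Prime := Fact.out
  obtain ⟨k, _, hq⟩ := FiniteField.card F p
  set q := Fintype.card F with hqdef
  have hq1 : 1 < q := Fintype.one_lt_card
  have hrq : ¬ r ∣ q := by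
    intro h
    rw [hq] at h
    exact hrp ((Nat.prime_dvd_prime_iff_eq hrprime hpprime).1 (hrprime.dvd_of_dvd_pow h))
  by_cases hA : r ∣ q ^ 2 + 1
  · -- then `r` does not divide the order of `SL₂(F)`
    have hcard : ¬ r ∣ Nat.card (Matrix.SpecialLinearGroup (Fin 2) F) := by
      rw [Cfsg.Agent.Lib.H12.card_SL2]
      intro h
      rcases (Nat.Prime.dvd_mul hrprime).1 h with h | h
      · exact hrq h
      · have h1 : 1 ≤ q ^ 2 := Nat.one_le_pow _ _ (by omega)
        have h2 : r ∣ (q ^ 2 + 1) - (q ^ 2 - 1) := Nat.dvd_sub hA h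
        have h3 : (q ^ 2 + 1) - (q ^ 2 - 1) = 2 := by omega
        rw [h3] at h2
        exact hr ((Nat.prime_dvd_prime_iff_eq hrprime Nat.prime_two).1 h2)
    have h1 : Nat.card (R : Subgroup (Matrix.SpecialLinearGroup (Fin 2) F)) = 1 := by
      rw [Sylow.card_eq_multiplicity, Nat.factorization_eq_zero_of_not_dvd hcard, pow_zero]
    have : Subsingleton (R : Subgroup (Matrix.SpecialLinearGroup (Fin 2) F)) :=
      (Nat.card_eq_one_iff_unique.1 h1).1
    exact isCyclic_of_subsingleton
  · let K := FiniteField.Extension F p 2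
    have : Fintype K := Fintype.ofFinite K
    have hK : Fintype.card K = q ^ 2 := by
      rw [← Nat.card_eq_fintype_card, FiniteField.natCard_extension, Nat.card_eq_fintype_card]
    let φ : Matrix.SpecialLinearGroup (Fin 2) F →* Matrix.SpecialLinearGroup (Fin 2) K :=
      SpecialLinearGroup.map (algebraMap F K)
    have hφ : Function.Injective φ := map_injective _
    have hN : IsPGroup r ((R : Subgroup (Matrix.SpecialLinearGroup (Fin 2) F)).map φ) :=
      R.isPGroup'.map φ
    have hnd : ¬ r ∣ Fintype.card K * (Fintype.card K + 1) := by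
      rw [hK]
      intro h
      rcases (Nat.Prime.dvd_mul hrprime).1 h with h | h
      · exact hrq (hrprime.dvd_of_dvd_pow h)
      · exact hA h
    have hcyc := isCyclic_of_not_dvd hnd _ hN
    exact isCyclic_of_injective
      ((R : Subgroup (Matrix.SpecialLinearGroup (Fin 2) F)).equivMapOfInjective φ hφ).toMonoidHom
      (MulEquiv.injective _)

end Cfsg.Agent.Lib.H2.SL2Cyc
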