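import Mathlib
import Cfsg.Agent.Lib.H2.SLGen
import Cfsg.Agent.Lib.H12.CardSL

set_option autoImplicit false

/-!
# The Sylow `p`-subgroups of `SL₂(q)` in the defining characteristic
-/

namespace Cfsg.Agent.Lib.H2.SL2

open Matrix

variable {F : Type*} [Field F]

/-- upper unitriangular matrix -/
def uSL (t : F) : SpecialLinearGroup (Fin 2) F := ⟨!![1, t; 0, 1], by simp [Matrix.det_fin_two_of]⟩

/-- lower unitriangular matrix -/
def lSL (t : F) : SpecialLinearGroup (Fin 2) F := ⟨!![1, 0; t, 1], by simp [Matrix.det_fin_two_of]⟩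

theorem uSL_val (t : F) :
    ((uSL t : SpecialLinearGroup (Fin 2) F) : Matrix (Fin 2) (Fin 2) F) = !![1, t; 0, 1] := rfl

theorem lSL_val (t : F) :
    ((lSL t : SpecialLinearGroup (Fin 2) F) : Matrix (Fin 2) (Fin 2) F) = !![1, 0; t, 1] := rfl

/-- entries of a product -/
theorem mul_val (g h : SpecialLinearGroup (Fin 2) F) (i j : Fin 2) :
    ((g * h : SpecialLinearGroup (Fin 2) F) : Matrix (Fin 2) (Fin 2) F) i j =
      (g : Matrix (Fin 2) (Fin 2) F) i 0 * (h : Matrix (Fin 2) (Fin 2) F) 0 j +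
      (g : Matrix (Fin 2) (Fin 2) F) i 1 * (h : Matrix (Fin 2) (Fin 2) F) 1 j := by
  simp [Matrix.mul_apply, Fin.sum_univ_two]

theorem ext_entries {g h : SpecialLinearGroup (Fin 2) F}
    (h00 : (g : Matrix (Fin 2) (Fin 2) F) 0 0 = (h : Matrix (Fin 2) (Fin 2) F) 0 0)
    (h01 : (g : Matrix (Fin 2) (Fin 2) F) 0 1 = (h : Matrix (Fin 2) (Fin 2) F) 0 1)
    (h10 : (g : Matrix (Fin 2) (Fin 2) F) 1 0 = (h : Matrix (Fin 2) (Fin 2) F) 1 0)
    (h11 : (g : Matrix (Fin 2) (Fin 2) F) 1 1 = (h : Matrix (Fin 2) (Fin 2) F) 1 1) : g = h := by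
  apply Subtype.ext
  ext i j
  fin_cases i <;> fin_cases j <;> assumption

theorem det_eq_one (g : SpecialLinearGroup (Fin 2) F) :
    (g : Matrix (Fin 2) (Fin 2) F) 0 0 * (g : Matrix (Fin 2) (Fin 2) F) 1 1 -
      (g : Matrix (Fin 2) (Fin 2) F) 0 1 * (g : Matrix (Fin 2) (Fin 2) F) 1 0 = 1 := by
  rw [← Matrix.det_fin_two]
  exact g.2

theorem uSL_zero : uSL (0 : F) = 1 := by
  apply ext_entries <;> simp [uSL_val]

theorem uSL_add (s t : F) : uSL (s + t) = uSL s * uSL t := by
  apply ext_entries <;> simp [uSL_val, mul_val, add_comm]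

theorem uSL_injective : Function.Injective (uSL (F := F)) := by
  intro s t h
  have := congrArg (fun g : SpecialLinearGroup (Fin 2) F => (g : Matrix (Fin 2) (Fin 2) F) 0 1) h
  simpa [uSL_val] using this

theorem uSL_neg (t : F) : uSL (-t) = (uSL t)⁻¹ := by
  apply eq_inv_of_mul_eq_one_left
  rw [← uSL_add, neg_add_cancel, uSL_zero]

/-- `t ↦ uSL t` as a homomorphism -/
def uHom (F : Type*) [Field F] : Multiplicative F →* SpecialLinearGroup (Fin 2) F where
  toFun t := uSL (Multiplicative.toAdd t)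
  map_one' := uSL_zero
  map_mul' _ _ := uSL_add _ _

/-- the group of upper unitriangular matrices -/
def U (F : Type*) [Field F] : Subgroup (SpecialLinearGroup (Fin 2) F) := (uHom F).range

theorem mem_U_iff (g : SpecialLinearGroup (Fin 2) F) : g ∈ U F ↔ ∃ t : F, uSL t = g := by
  constructor
  · rintro ⟨t, rfl⟩
    exact ⟨Multiplicative.toAdd t, rfl⟩
  · rintro ⟨t, rfl⟩
    exact ⟨Multiplicative.ofAdd t, rfl⟩

theorem uSL_mem (t : F) : uSL t ∈ U F := (mem_U_iff _).2 ⟨t, rfl⟩

theorem card_U [Finite F] : Nat.card (U F) = Nat.card F := by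
  have e : Multiplicative F ≃ (uHom F).range :=
    Equiv.ofInjective (uHom F) (fun s t h => by
      have h' : uSL (Multiplicative.toAdd s) = uSL (Multiplicative.toAdd t) := h
      exact Multiplicative.toAdd.injective (uSL_injective h'))
  exact (Nat.card_congr e).symm

theorem diag_ne_zero {g : SpecialLinearGroup (Fin 2) F}
    (hg : (g : Matrix (Fin 2) (Fin 2) F) 1 0 = 0) :
    (g : Matrix (Fin 2) (Fin 2) F) 0 0 ≠ 0 ∧ (g : Matrix (Fin 2) (Fin 2) F) 1 1 ≠ 0 := by
  have h := det_eq_one g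
  rw [hg, mul_zero, sub_zero] at h
  have h1 : (g : Matrix (Fin 2) (Fin 2) F) 0 0 * (g : Matrix (Fin 2) (Fin 2) F) 1 1 ≠ 0 := by
    rw [h]; exact one_ne_zero
  exact ⟨left_ne_zero_of_mul h1, right_ne_zero_of_mul h1⟩

/-- upper triangular matrices normalise `U` -/
theorem mul_uSL_of_upper {g : SpecialLinearGroup (Fin 2) F}
    (hg : (g : Matrix (Fin 2) (Fin 2) F) 1 0 = 0) (t : F) :
    g * uSL t = uSL ((g : Matrix (Fin 2) (Fin 2) F) 0 0 * t / (g : Matrix (Fin 2) (Fin 2) F) 1 1) * g := by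
  obtain ⟨ha, hd⟩ := diag_ne_zero hg
  apply ext_entries <;> simp only [mul_val, uSL_val, hg] <;> simp
  field_simp
  ring

theorem mem_normalizer_U_of_upper {g : SpecialLinearGroup (Fin 2) F}
    (hg : (g : Matrix (Fin 2) (Fin 2) F) 1 0 = 0) :
    g ∈ Subgroup.normalizer (U F : Set (SpecialLinearGroup (Fin 2) F)) := by
  rw [Subgroup.mem_set_normalizer_iff]
  obtain ⟨ha, hd⟩ := diag_ne_zero hg
  intro h
  constructor
  · intro hh
    obtain ⟨t, rfl⟩ := (mem_U_iff _).1 hh
    rw [mul_uSL_of_upper hg, mul_inv_cancel_right]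
    exact uSL_mem _
  · intro hh
    obtain ⟨s, hs⟩ := (mem_U_iff _).1 hh
    have h2 : h = g⁻¹ * uSL s * g := by
      rw [hs]; group
    have h3 : g * uSL ((g : Matrix (Fin 2) (Fin 2) F) 1 1 * s / (g : Matrix (Fin 2) (Fin 2) F) 0 0)
        = uSL s * g := by
      rw [mul_uSL_of_upper hg]
      congr 2
      field_simp
    rw [h2, mul_assoc, ← h3, inv_mul_cancel_left]
    exact uSL_mem _

/-- key computation: after left multiplication by a suitable element of `U`, an element with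
non-zero lower left entry conjugates `U` to the lower unitriangular group -/
theorem key_conj (m : SpecialLinearGroup (Fin 2) F)
    (hc : (m : Matrix (Fin 2) (Fin 2) F) 1 0 ≠ 0) (t : F) :
    uSL (-((m : Matrix (Fin 2) (Fin 2) F) 0 0 / (m : Matrix (Fin 2) (Fin 2) F) 1 0)) * m * uSL t =
      lSL (-((m : Matrix (Fin 2) (Fin 2) F) 1 0) ^ 2 * t) *
        (uSL (-((m : Matrix (Fin 2) (Fin 2) F) 0 0 / (m : Matrix (Fin 2) (Fin 2) F) 1 0)) * m) := by
  have hdet := det_eq_one m
  apply ext_entries <;> simp only [mul_val, uSL_val, lSL_val, Matrix.of_apply, Matrix.cons_val',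
    Matrix.cons_val_zero, Matrix.cons_val_one, Matrix.empty_val', Matrix.cons_val_fin_one]
  · ring
  · field_simp
    ring
  · field_simp
    ring
  · field_simp
    linear_combination (-((m : Matrix (Fin 2) (Fin 2) F) 1 0) * t) * hdet

theorem transvection_zero_one (c : F) :
    SpecialLinearGroup.transvection (show (0 : Fin 2) ≠ 1 by decide) c = uSL c := by
  apply ext_entries <;> simp [uSL_val, SpecialLinearGroup.transvection, Matrix.transvection]

theorem transvection_one_zero (c : F) :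
    SpecialLinearGroup.transvection (show (1 : Fin 2) ≠ 0 by decide) c = lSL c := by
  apply ext_entries <;> simp [lSL_val, SpecialLinearGroup.transvection, Matrix.transvection]

/-- a subgroup containing `U` and a conjugate of `U` by a non upper triangular element is
everything -/
theorem eq_top_of_U_of_conj (K : Subgroup (SpecialLinearGroup (Fin 2) F))
    (hU : ∀ t : F, uSL t ∈ K) (m : SpecialLinearGroup (Fin 2) F)
    (hc : (m : Matrix (Fin 2) (Fin 2) F) 1 0 ≠ 0) (hm : ∀ t : F, m * uSL t * m⁻¹ ∈ K) :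
    K = ⊤ := by
  have hL : ∀ s : F, lSL s ∈ K := by
    intro s
    set a := (m : Matrix (Fin 2) (Fin 2) F) 0 0
    set c := (m : Matrix (Fin 2) (Fin 2) F) 1 0
    have h1 := key_conj m hc (-s / c ^ 2)
    have h2 : -c ^ 2 * (-s / c ^ 2) = s := by
      field_simp
    rw [h2] at h1
    have h3 : lSL s = uSL (-(a / c)) * (m * uSL (-s / c ^ 2) * m⁻¹) * (uSL (-(a / c)))⁻¹ := by
      have : lSL s = (uSL (-(a / c)) * m * uSL (-s / c ^ 2)) * (uSL (-(a / c)) * m)⁻¹ := by
        rw [h1, mul_inv_cancel_right]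
      rw [this]
      group
    rw [h3]
    exact K.mul_mem (K.mul_mem (hU _) (hm _)) (K.inv_mem (hU _))
  rw [eq_top_iff, ← SL_closure_transvection, Subgroup.closure_le]
  rintro A ⟨i, j, hij, c, rfl⟩
  fin_cases i <;> fin_cases j
  · exact absurd rfl hij
  · have := transvection_zero_one c
    simp only [Fin.zero_eta, Fin.mk_one, SetLike.mem_coe] at *
    rw [this]
    exact hU c
  · have := transvection_one_zero c
    simp only [Fin.zero_eta, Fin.mk_one, SetLike.mem_coe] at *
    rw [this]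
    exact hL c
  · exact absurd rfl hij

theorem mem_sylow_smul_iff {G : Type*} [Group G] {p : ℕ} (g y : G) (P : Sylow p G) :
    y ∈ ((g • P : Sylow p G) : Subgroup G) ↔ g⁻¹ * y * g ∈ (P : Subgroup G) := by
  rw [Sylow.coe_subgroup_smul, Subgroup.mem_pointwise_smul_iff_inv_smul_mem]
  simp [MulAut.smul_def]

section Finite

variable [Fintype F] (p : ℕ) [Fact p.Prime] [CharP F p]

omit [Fact p.Prime] in
include p in
theorem exists_card_eq_pow : ∃ k : ℕ, 1 ≤ k ∧ Fintype.card F = p ^ k := by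
  obtain ⟨n, _, hn⟩ := FiniteField.card F p
  exact ⟨n, n.pos, hn⟩

theorem not_dvd_index_U : ¬ p ∣ (U F).index := by
  obtain ⟨k, hk, hq⟩ := exists_card_eq_pow (F := F) p
  have hp : p.Prime := Fact.out
  have h1 := Subgroup.card_mul_index (U F)
  rw [card_U, Cfsg.Agent.Lib.H12.card_SL2, Nat.card_eq_fintype_card] at h1
  have hq0 : 0 < Fintype.card F := Fintype.card_pos
  have h2 : (U F).index = Fintype.card F ^ 2 - 1 :=
    Nat.eq_of_mul_eq_mul_left hq0 h1
  rw [h2]
  have hpq : p ∣ Fintype.card F ^ 2 := by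
    rw [hq, ← pow_mul]; exact dvd_pow_self p (by omega)
  intro hdvd
  have h3 : 1 ≤ Fintype.card F ^ 2 := Nat.one_le_pow _ _ hq0
  have h4 : p ∣ Fintype.card F ^ 2 - (Fintype.card F ^ 2 - 1) := Nat.dvd_sub hpq hdvd
  have h5 : Fintype.card F ^ 2 - (Fintype.card F ^ 2 - 1) = 1 := by omega
  rw [h5] at h4
  exact hp.one_lt.ne' (Nat.dvd_one.1 h4)

/-- `U` as a Sylow `p`-subgroup -/
noncomputable def USylow : Sylow p (SpecialLinearGroup (Fin 2) F) :=
  (IsPGroup.of_card (p := p) (n := (exists_card_eq_pow (F := F) p).choose) (by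
    rw [card_U, Nat.card_eq_fintype_card]
    exact (exists_card_eq_pow (F := F) p).choose_spec.2)).toSylow (not_dvd_index_U p)

theorem coe_USylow : ((USylow p : Sylow p (SpecialLinearGroup (Fin 2) F)) :
    Subgroup (SpecialLinearGroup (Fin 2) F)) = U F := rfl

/-- S0260 -/
theorem sylow_sup_eq_top (P Q : Sylow p (SpecialLinearGroup (Fin 2) F)) (h : P ≠ Q) :
    (P : Subgroup (SpecialLinearGroup (Fin 2) F)) ⊔
      (Q : Subgroup (SpecialLinearGroup (Fin 2) F)) = ⊤ := by
  obtain ⟨g, hg⟩ := MulAction.exists_smul_eq (SpecialLinearGroup (Fin 2) F) (USylow (F := F) p) P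
  obtain ⟨k, hk⟩ := MulAction.exists_smul_eq (SpecialLinearGroup (Fin 2) F) (USylow (F := F) p) Q
  set H := (P : Subgroup (SpecialLinearGroup (Fin 2) F)) ⊔
      (Q : Subgroup (SpecialLinearGroup (Fin 2) F)) with hH
  have hc : ((g⁻¹ * k : SpecialLinearGroup (Fin 2) F) : Matrix (Fin 2) (Fin 2) F) 1 0 ≠ 0 := by
    intro h0
    have hmem : g⁻¹ * k ∈ Subgroup.normalizer
        ((USylow (F := F) p : Sylow p (SpecialLinearGroup (Fin 2) F)) :
          Set (SpecialLinearGroup (Fin 2) F)) := mem_normalizer_U_of_upper h0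
    rw [← Sylow.smul_eq_iff_mem_normalizer, mul_smul, hk] at hmem
    apply h
    rw [← hg, ← hmem, smul_smul, mul_inv_cancel, one_smul]
  have hK := eq_top_of_U_of_conj (H.comap (MulAut.conj g).toMonoidHom) ?_ (g⁻¹ * k) hc ?_
  · rw [eq_top_iff]
    intro y _
    have : g⁻¹ * y * g ∈ H.comap (MulAut.conj g).toMonoidHom := by
      rw [hK]; trivial
    rw [Subgroup.mem_comap] at this
    have h2 : (MulAut.conj g).toMonoidHom (g⁻¹ * y * g) = y := by
      simp [MulAut.conj_apply, mul_assoc]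
    rw [h2] at this
    exact this
  · intro t
    rw [Subgroup.mem_comap]
    apply (le_sup_left : (P : Subgroup (SpecialLinearGroup (Fin 2) F)) ≤ H)
    rw [← hg, mem_sylow_smul_iff, coe_USylow]
    have : g⁻¹ * (MulAut.conj g).toMonoidHom (uSL t) * g = uSL t := by
      simp [MulAut.conj_apply, mul_assoc]
    rw [this]
    exact uSL_mem t
  · intro t
    rw [Subgroup.mem_comap]
    apply (le_sup_right : (Q : Subgroup (SpecialLinearGroup (Fin 2) F)) ≤ H)
    rw [← hk, mem_sylow_smul_iff, coe_USylow]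
    have : k⁻¹ * (MulAut.conj g).toMonoidHom (g⁻¹ * k * uSL t * (g⁻¹ * k)⁻¹) * k = uSL t := by
      simp [MulAut.conj_apply, mul_assoc]
    rw [this]
    exact uSL_mem t

end Finite

end Cfsg.Agent.Lib.H2.SL2
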