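import Mathlib
import Cfsg.Agent.Lib.H2.SL2Sylow
import Cfsg.Agent.Lib.H18.SL2Pow
import Cfsg.Agent.Lib.H22.UniqueInvolution

set_option autoImplicit false

/-!
# Sylow 2-subgroups of `SL₂(q)`, `q` odd, are generalised quaternion
-/

namespace Cfsg.Agent.Lib.H2.SL2Quat

open Matrix Cfsg.Agent.Lib.H2.SL2 Cfsg.Agent.Lib.H18 Cfsg.Agent.Lib.H22

variable {F : Type*} [Field F]

theorem trFib_two' (t : F) : trFib t 2 = t := by simp only [trFib]; ring

/-- the only elements of `SL₂(F)` squaring to one are `± 1` (characteristic not two) -/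
theorem eq_one_or_neg_one_of_sq (h2 : (2 : F) ≠ 0) (g : SpecialLinearGroup (Fin 2) F)
    (hg : g * g = 1) : g.1 = 1 ∨ g.1 = -1 := by
  set t := g.1 0 0 + g.1 1 1 with ht
  have h1 : g.1 * g.1 = t • g.1 - 1 := sl2_mul_self g
  have h3 : g.1 * g.1 = 1 := by
    have := congrArg (fun x : SpecialLinearGroup (Fin 2) F => x.1) hg
    simpa using this
  rw [h3] at h1
  have h4 : t • g.1 = (2 : F) • (1 : Matrix (Fin 2) (Fin 2) F) := by
    rw [two_smul]
    exact (eq_add_of_sub_eq h1.symm)
  have ht0 : t ≠ 0 := by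
    intro h0
    rw [h0, zero_smul] at h4
    have := congrFun (congrFun h4 0) 0
    simp at this
    exact h2 this.symm
  have h5 : g.1 = (2 / t) • (1 : Matrix (Fin 2) (Fin 2) F) := by
    have : g.1 = t⁻¹ • (t • g.1) := by rw [smul_smul, inv_mul_cancel₀ ht0, one_smul]
    rw [this, h4, smul_smul]
    congr 1
    field_simp
  have hdet := g.2
  rw [h5, Matrix.det_smul, Matrix.det_one, mul_one, Fintype.card_fin] at hdet
  have h6 : (2 / t - 1) * (2 / t + 1) = 0 := by linear_combination hdet
  rcases mul_eq_zero.1 h6 with h | h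
  · left
    rw [h5, sub_eq_zero.1 h, one_smul]
  · right
    rw [h5, eq_neg_of_add_eq_zero_left h, neg_smul, one_smul]

/-- a subgroup of `SL₂(F)` has at most one subgroup of order two -/
theorem atMostOne (h2 : (2 : F) ≠ 0) (P : Subgroup (SpecialLinearGroup (Fin 2) F)) :
    AtMostOneOrderP 2 P := by
  have key : ∀ H K : Subgroup P, Nat.card H = 2 → Nat.card K = 2 → H ≤ K := by
    intro H K hH hK
    have : Finite K := Nat.finite_of_card_ne_zero (by omega)
    have : Finite H := Nat.finite_of_card_ne_zero (by omega)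
    intro x hx
    by_cases hx1 : x = 1
    · rw [hx1]; exact K.one_mem
    · -- `K` has a non-trivial element
      have hKnt : Nontrivial K := by
        rw [← Finite.one_lt_card_iff_nontrivial]; omega
      obtain ⟨y, hy⟩ := exists_ne (1 : K)
      have hy2 : y ^ Nat.card K = 1 := pow_card_eq_one'
      rw [hK] at hy2
      have hx2 : (⟨x, hx⟩ : H) ^ Nat.card H = 1 := pow_card_eq_one'
      rw [hH] at hx2
      have hx2' : (x : SpecialLinearGroup (Fin 2) F) * (x : SpecialLinearGroup (Fin 2) F) = 1 := by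
        have := congrArg (fun z : H => ((z : P) : SpecialLinearGroup (Fin 2) F)) hx2
        simpa [pow_two] using this
      have hy2' : ((y : P) : SpecialLinearGroup (Fin 2) F) *
          ((y : P) : SpecialLinearGroup (Fin 2) F) = 1 := by
        have := congrArg (fun z : K => ((z : P) : SpecialLinearGroup (Fin 2) F)) hy2
        simpa [pow_two] using this
      have hxv : (x : SpecialLinearGroup (Fin 2) F).1 = -1 := by
        rcases eq_one_or_neg_one_of_sq h2 _ hx2' with h | h
        · exfalso
          apply hx1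
          apply Subtype.ext
          apply Subtype.ext
          rw [h]; rfl
        · exact h
      have hyv : ((y : P) : SpecialLinearGroup (Fin 2) F).1 = -1 := by
        rcases eq_one_or_neg_one_of_sq h2 _ hy2' with h | h
        · exfalso
          apply hy
          apply Subtype.ext
          apply Subtype.ext
          apply Subtype.ext
          rw [h]; rfl
        · exact h
      have hxy : x = (y : P) := by
        apply Subtype.ext
        apply Subtype.ext
        rw [hxv, hyv]
      rw [hxy]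
      exact y.2
  intro H K hH hK
  exact le_antisymm (key H K hH hK) (key K H hK hH)

/-- the element `w` -/
def wSL : SpecialLinearGroup (Fin 2) F := ⟨!![0, 1; -1, 0], by simp [Matrix.det_fin_two_of]⟩

/-- the element `s` -/
def sSL (a b : F) (hab : a ^ 2 + b ^ 2 = -1) : SpecialLinearGroup (Fin 2) F :=
  ⟨!![a, b; b, -a], by rw [Matrix.det_fin_two_of]; linear_combination -hab⟩

theorem wSL_val : ((wSL : SpecialLinearGroup (Fin 2) F) : Matrix (Fin 2) (Fin 2) F) =
    !![0, 1; -1, 0] := rfl

theorem sSL_val (a b : F) (hab : a ^ 2 + b ^ 2 = -1) :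
    ((sSL a b hab : SpecialLinearGroup (Fin 2) F) : Matrix (Fin 2) (Fin 2) F) =
      !![a, b; b, -a] := rfl

/-- minus the identity -/
def nSL : SpecialLinearGroup (Fin 2) F := ⟨-1, by simp [Matrix.det_neg]⟩

theorem nSL_val : ((nSL : SpecialLinearGroup (Fin 2) F) : Matrix (Fin 2) (Fin 2) F) = -1 := rfl

/-- the inverse of `w` -/
def wInv : SpecialLinearGroup (Fin 2) F := ⟨!![0, -1; 1, 0], by simp [Matrix.det_fin_two_of]⟩

theorem wInv_val : ((wInv : SpecialLinearGroup (Fin 2) F) : Matrix (Fin 2) (Fin 2) F) =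
    !![0, -1; 1, 0] := rfl

theorem wSL_sq : (wSL : SpecialLinearGroup (Fin 2) F) * wSL = nSL := by
  apply ext_entries <;> simp [mul_val, wSL_val, nSL_val]

theorem sSL_sq (a b : F) (hab : a ^ 2 + b ^ 2 = -1) :
    sSL a b hab * sSL a b hab = wSL * wSL := by
  rw [wSL_sq]
  apply ext_entries <;> simp [mul_val, sSL_val, nSL_val]
  · linear_combination hab
  · ring
  · ring
  · linear_combination hab

theorem wSL_pow_four : (wSL : SpecialLinearGroup (Fin 2) F) ^ (2 * 2) = 1 := by
  rw [pow_mul, pow_two, pow_two, wSL_sq]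
  apply ext_entries <;> simp [mul_val, nSL_val]

theorem wSL_inv : (wSL : SpecialLinearGroup (Fin 2) F)⁻¹ = wInv := by
  apply inv_eq_of_mul_eq_one_right
  apply ext_entries <;> simp [mul_val, wSL_val, wInv_val]

theorem sSL_conj (a b : F) (hab : a ^ 2 + b ^ 2 = -1) :
    sSL a b hab * wSL * (sSL a b hab)⁻¹ = wSL⁻¹ := by
  rw [mul_inv_eq_iff_eq_mul, wSL_inv]
  apply ext_entries <;> simp [mul_val, wSL_val, sSL_val, wInv_val]

theorem not_commute (h2 : (2 : F) ≠ 0) (a b : F) (hab : a ^ 2 + b ^ 2 = -1) :
    wSL * sSL a b hab ≠ sSL a b hab * wSL := by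
  intro h
  have h00 := congrArg (fun x : SpecialLinearGroup (Fin 2) F => x.1 0 0) h
  have h01 := congrArg (fun x : SpecialLinearGroup (Fin 2) F => x.1 0 1) h
  simp only [mul_val, wSL_val, sSL_val] at h00 h01
  simp at h00 h01
  have hb : b = 0 := by
    have : (2 : F) * b = 0 := by linear_combination h00
    exact (mul_eq_zero.1 this).resolve_left h2
  have ha : a = 0 := by
    have : (2 : F) * a = 0 := by linear_combination -h01
    exact (mul_eq_zero.1 this).resolve_left h2
  rw [ha, hb] at hab
  have : (0 : F) = -1 := by linear_combination hab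
  have h1 : (1 : F) = 0 := by linear_combination this
  exact one_ne_zero h1

theorem main [Fintype F] (hF : Odd (Fintype.card F))
    (P : Sylow 2 (Matrix.SpecialLinearGroup (Fin 2) F)) :
    ∃ k : ℕ, 1 ≤ k ∧ Nonempty
      ((P : Subgroup (Matrix.SpecialLinearGroup (Fin 2) F)) ≃* QuaternionGroup (2 ^ k)) := by
  have hchar : ringChar F ≠ 2 := by
    intro h
    have := FiniteField.even_card_of_char_two h
    rcases hF with ⟨k, hk⟩
    omega
  have h2 : (2 : F) ≠ 0 := Ring.two_ne_zero hchar
  have : Fact (Nat.Prime 2) := ⟨Nat.prime_two⟩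
  rcases cyclic_or_quaternion_of_atMostOne P.isPGroup' (atMostOne h2 P) with hcyc | hq
  · exfalso
    -- construct a non-abelian 2-subgroup
    obtain ⟨p, hp⟩ := CharP.exists F
    have hpp : p.Prime := by
      rcases CharP.char_is_prime_or_zero F p with h | h
      · exact h
      · exfalso
        subst h
        have := CharP.charP_to_charZero F
        exact not_finite F
    have : NeZero p := ⟨hpp.ne_zero⟩
    obtain ⟨a, b, hab⟩ := CharP.sq_add_sq F p (-1)
    have hab' : (a : F) ^ 2 + (b : F) ^ 2 = -1 := by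
      rw [hab]; simp
    let φ := quaternionLift 2 (wSL : SpecialLinearGroup (Fin 2) F) (sSL (a : F) (b : F) hab')
      wSL_pow_four (by rw [sSL_sq, pow_two]) (sSL_conj (a : F) (b : F) hab')
    have hQ : IsPGroup 2 φ.range := by
      have hdvd : Nat.card φ.range ∣ 2 ^ 3 := by
        have h8 : Nat.card (QuaternionGroup 2) = 2 ^ 3 := by
          rw [Nat.card_eq_fintype_card, QuaternionGroup.card]; norm_num
        have := Subgroup.card_range_dvd φ
        rwa [h8] at this
      obtain ⟨m, _, hm⟩ := (Nat.dvd_prime_pow Nat.prime_two).1 hdvd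
      exact IsPGroup.of_card hm
    obtain ⟨P₀, hP₀⟩ := hQ.exists_le_sylow
    have hw : (wSL : SpecialLinearGroup (Fin 2) F) ∈ (P₀ : Subgroup _) := by
      apply hP₀
      refine ⟨QuaternionGroup.a 1, ?_⟩
      show φ (QuaternionGroup.a 1) = wSL
      rw [quaternionLift_a]
      have : ((1 : ZMod (2 * 2))).val = 1 := rfl
      rw [this, pow_one]
    have hs : sSL (a : F) (b : F) hab' ∈ (P₀ : Subgroup _) := by
      apply hP₀
      refine ⟨QuaternionGroup.xa 0, ?_⟩
      show φ (QuaternionGroup.xa 0) = sSL (a : F) (b : F) hab'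
      rw [quaternionLift_xa]
      have : ((0 : ZMod (2 * 2))).val = 0 := rfl
      rw [this, pow_zero, mul_one]
    have hcyc₀ : IsCyclic (P₀ : Subgroup (SpecialLinearGroup (Fin 2) F)) :=
      isCyclic_of_surjective (Sylow.equiv P P₀) (Sylow.equiv P P₀).surjective
    have hcomm := (IsCyclic.isMulCommutative
      (α := (P₀ : Subgroup (SpecialLinearGroup (Fin 2) F)))).is_comm.comm
      ⟨wSL, hw⟩ ⟨sSL (a : F) (b : F) hab', hs⟩
    exact not_commute h2 (a : F) (b : F) hab' (congrArg Subtype.val hcomm)
  · obtain ⟨n, hn, hiso⟩ := hq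
    exact ⟨n, hn, hiso⟩

end Cfsg.Agent.Lib.H2.SL2Quat
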