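import Mathlib

set_option autoImplicit false

namespace Cfsg.Agent.Lib.H2

open Matrix

variable {n : Type*} [Fintype n] [DecidableEq n] {R : Type*} [CommRing R]

theorem range_toGL_eq_ker_det :
    (SpecialLinearGroup.toGL : SpecialLinearGroup n R →* GL n R).range =
      (GeneralLinearGroup.det : GL n R →* Rˣ).ker := by
  ext A
  rw [MonoidHom.mem_range, MonoidHom.mem_ker]
  constructor
  · rintro ⟨B, rfl⟩
    exact SpecialLinearGroup.coeToGL_det B
  · intro h
    have hdet : (A : Matrix n n R).det = 1 := by
      have := congrArg Units.val h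
      simpa using this
    refine ⟨⟨(A : Matrix n n R), hdet⟩, ?_⟩
    apply Units.ext
    rfl

theorem card_SL_eq_card_ker_det :
    Nat.card (SpecialLinearGroup n R) = Nat.card (GeneralLinearGroup.det : GL n R →* Rˣ).ker := by
  rw [← range_toGL_eq_ker_det]
  exact Nat.card_congr (MonoidHom.ofInjective SpecialLinearGroup.toGL_injective).toEquiv

theorem card_SL_mul_card_units [Nonempty n] [Finite R] :
    Nat.card (SpecialLinearGroup n R) * Nat.card Rˣ = Nat.card (GL n R) := by
  rw [card_SL_eq_card_ker_det]
  have h1 := (GeneralLinearGroup.det : GL n R →* Rˣ).ker.card_mul_index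
  rw [Subgroup.index_ker] at h1
  have h2 : (GeneralLinearGroup.det : GL n R →* Rˣ).range = ⊤ :=
    MonoidHom.range_eq_top.2 GeneralLinearGroup.det_surjective
  rw [h2, Subgroup.card_top] at h1
  exact h1

end Cfsg.Agent.Lib.H2
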