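import Mathlib
import Cfsg.Agent.Lib.H2.SLCard

set_option autoImplicit false

namespace Cfsg.Agent.Lib.H2

open Matrix

theorem card_rootsOfUnity_field {F : Type*} [Field F] [Finite F] (k : ℕ) [NeZero k] :
    Nat.card (rootsOfUnity k F) = Nat.gcd k (Nat.card F - 1) := by
  have h1 : rootsOfUnity k F = (powMonoidHom k : Fˣ →* Fˣ).ker := by
    ext u
    rw [mem_rootsOfUnity, MonoidHom.mem_ker, powMonoidHom_apply]
  rw [h1, IsCyclic.card_powMonoidHom_ker, Nat.card_units, Nat.gcd_comm]

theorem card_center_SL {F : Type*} [Field F] [Finite F] (n : ℕ) (hn : 1 ≤ n) :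
    Nat.card (Subgroup.center (SpecialLinearGroup (Fin n) F)) = Nat.gcd n (Nat.card F - 1) := by
  have e := SpecialLinearGroup.center_equiv_rootsOfUnity (n := Fin n) (R := F)
  rw [Nat.card_congr e.toEquiv]
  have hmax : max (Fintype.card (Fin n)) 1 = n := by
    rw [Fintype.card_fin]; omega
  have : NeZero n := ⟨by omega⟩
  rw [hmax]
  exact card_rootsOfUnity_field n

end Cfsg.Agent.Lib.H2
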