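import Mathlib

set_option autoImplicit false

namespace Cfsg.Agent.Lib.H2

open Matrix

/-- a ring isomorphism induces an isomorphism of special linear groups -/
def slMapEquiv {n : Type*} [Fintype n] [DecidableEq n] {R S : Type*} [CommRing R] [CommRing S]
    (e : R ≃+* S) : SpecialLinearGroup n R ≃* SpecialLinearGroup n S where
  toFun := SpecialLinearGroup.map e.toRingHom
  invFun := SpecialLinearGroup.map e.symm.toRingHom
  left_inv g := by
    apply Subtype.ext
    ext i j
    simp [SpecialLinearGroup.map_apply_coe]
  right_inv g := by
    apply Subtype.ext
    ext i j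
    simp [SpecialLinearGroup.map_apply_coe]
  map_mul' := map_mul _

end Cfsg.Agent.Lib.H2
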