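import Mathlib
import Cfsg.Agent.Lib.H2.SLMapEquiv

set_option autoImplicit false

/-!
# `SL₂(3)` has a normal quaternion subgroup of index 3
-/

namespace Cfsg.Agent.Lib.H2.SL23

open Matrix

abbrev G₀ := SpecialLinearGroup (Fin 2) (ZMod 3)

def A₀ : G₀ := ⟨!![0, 1; 2, 0], by decide⟩
def X₀ : G₀ := ⟨!![1, 1; 1, 2], by decide⟩

/-- the map from the quaternion group -/
def f₀ : QuaternionGroup 2 → G₀
  | QuaternionGroup.a i => A₀ ^ i.val
  | QuaternionGroup.xa i => X₀ * A₀ ^ i.val

set_option maxRecDepth 100000 in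
theorem f₀_mul : ∀ u v : QuaternionGroup 2, f₀ (u * v) = f₀ u * f₀ v := by decide

set_option maxRecDepth 100000 in
theorem f₀_injective : ∀ u v : QuaternionGroup 2, f₀ u = f₀ v → u = v := by decide

set_option maxRecDepth 100000 in
theorem f₀_pow : ∀ u : QuaternionGroup 2, (f₀ u) ^ 4 = 1 := by decide

set_option maxRecDepth 100000 in
theorem f₀_surj : ∀ g : G₀, g ^ 4 = 1 → ∃ u : QuaternionGroup 2, f₀ u = g := by decide

set_option maxRecDepth 100000 in
theorem mul_pow_four : ∀ g h : G₀, g ^ 4 = 1 → h ^ 4 = 1 → (g * h) ^ 4 = 1 := by decide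

set_option maxRecDepth 100000 in
theorem card_G₀ : Fintype.card G₀ = 24 := by decide

/-- the quaternion subgroup -/
def Q₀ : Subgroup G₀ where
  carrier := {g | g ^ 4 = 1}
  mul_mem' := fun {g h} hg hh => mul_pow_four g h hg hh
  one_mem' := one_pow 4
  inv_mem' := fun {g} hg => by
    show (g⁻¹) ^ 4 = 1
    rw [inv_pow, hg, inv_one]

theorem mem_Q₀ (g : G₀) : g ∈ Q₀ ↔ g ^ 4 = 1 := Iff.rfl

instance : Q₀.Normal := by
  constructor
  intro n hn g
  rw [mem_Q₀] at hn ⊢
  rw [conj_pow, hn, mul_one, mul_inv_cancel]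

/-- the isomorphism with the quaternion group -/
noncomputable def equivQ₀ : QuaternionGroup 2 ≃* Q₀ :=
  MulEquiv.ofBijective
    ({ toFun := fun u => ⟨f₀ u, f₀_pow u⟩
       map_one' := by
        apply Subtype.ext
        show f₀ 1 = 1
        decide
       map_mul' := fun u v => Subtype.ext (f₀_mul u v) } : QuaternionGroup 2 →* Q₀)
    ⟨fun u v h => f₀_injective u v (congrArg Subtype.val h),
     fun g => by
      obtain ⟨u, hu⟩ := f₀_surj g.1 g.2
      exact ⟨u, Subtype.ext hu⟩⟩

theorem index_Q₀ : Q₀.index = 3 := by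
  have h1 := Subgroup.card_mul_index Q₀
  rw [Nat.card_congr equivQ₀.symm.toEquiv, Nat.card_eq_fintype_card,
    QuaternionGroup.card, Nat.card_eq_fintype_card, card_G₀] at h1
  omega

theorem main {F : Type*} [Field F] [Fintype F] (hF : Fintype.card F = 3) :
    ∃ Q : Subgroup (SpecialLinearGroup (Fin 2) F), Q.Normal ∧ Q.index = 3 ∧
      Nonempty (Q ≃* QuaternionGroup 2) := by
  let e : ZMod 3 ≃+* F := ZMod.ringEquivOfPrime F Nat.prime_three hF
  let E : SpecialLinearGroup (Fin 2) F ≃* G₀ := slMapEquiv e.symm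
  refine ⟨Q₀.comap E.toMonoidHom, ?_, ?_, ?_⟩
  · exact Subgroup.Normal.comap inferInstance _
  · have hs : Function.Surjective E.toMonoidHom := E.surjective
    rw [Subgroup.index_comap_of_surjective _ hs, index_Q₀]
  · have e1 : Q₀.comap E.toMonoidHom ≃* Q₀ :=
      (MulEquiv.subgroupCongr (by
        ext x
        simp only [Subgroup.mem_comap, Subgroup.mem_map]
        constructor
        · intro hx
          exact ⟨E x, hx, by simp⟩
        · rintro ⟨y, hy, rfl⟩
          simpa using hy)).trans (Q₀.equivMapOfInjective E.symm.toMonoidHom E.symm.injective).symm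
    exact ⟨e1.trans equivQ₀.symm⟩

end Cfsg.Agent.Lib.H2.SL23
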