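import Cfsg.Agent.Lib.H1.FG19.Defs
import Cfsg.Agent.Lib.H7.FG19BAS1
import Cfsg.Agent.Lib.H7.FG19BAS2
import Cfsg.Agent.Lib.H15.FG19BAS3
import Cfsg.Agent.Lib.H7.FG19Q1
import Cfsg.Agent.Lib.H15.FG19Q2

/-!
# S4404 piece BLOCK7 (helper2; architect helper1, paper proof tools/blueprints/S4404.md)

An abelian normal subgroup `F` of a 7-group `P ∋ B` of automorphisms stabilises the block `[A,B]` of an
`F_8`-element `B`.
-/

set_option autoImplicit false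

namespace Cfsg.Agent.Lib.H2.FG19

open Cfsg.Agent.Lib.H1.FG19

variable {A : Type*} [CommGroup A]

/-- conjugation preserves the cardinality of `cm`. -/
theorem card_cm_conj (X Y : MulAut A) : Nat.card (cm (Y * X * Y⁻¹)) = Nat.card (cm X) := by
  rw [← Cfsg.Agent.Lib.H7.FG19.cm_conj X Y]
  exact Nat.card_congr ((cm X).equivMapOfInjective Y.toMonoidHom Y.injective).symm.toEquiv

theorem conj_pow_seven (X Y : MulAut A) (h : X ^ 7 = 1) : (Y * X * Y⁻¹) ^ 7 = 1 := by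
  rw [conj_pow, h, mul_one, mul_inv_cancel]

/-- the key computation: three pairwise "independent" commuting `F_8`-elements with
`B₁⁻¹ B₂ = B⁻¹ B₁` cannot exist. -/
theorem block7_aux [Finite A] (h2 : ∀ a : A, a * a = 1) (B B₁ B₂ : MulAut A) (hB₁ : B₁ ^ 7 = 1)
    (hrel : B₁⁻¹ * B₂ = B⁻¹ * B₁) (h1 : cm B₁ ≤ fx B) (h12 : cm B₁ ≤ fx B₂) :
    cm B₁ = ⊥ := by
  rw [eq_bot_iff]
  intro w hw
  have hw2 : B₂ w = w := mem_fx.1 (h12 hw)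
  have hB₁w : B₁ w ∈ cm B₁ := Cfsg.Agent.Lib.H7.FG19.apply_mem_of_cm_le le_rfl hw
  have hBB₁w : B (B₁ w) = B₁ w := mem_fx.1 (h1 hB₁w)
  have e1 : (B₁⁻¹ * B₂) w = (B⁻¹ * B₁) w := by rw [hrel]
  have e2 : (B₁⁻¹ * B₂) w = B₁⁻¹ w := by
    rw [MulAut.mul_apply, hw2]
  have e3 : (B⁻¹ * B₁) w = B₁ w := by
    rw [MulAut.mul_apply]
    rw [MulAut.inv_apply, MulEquiv.symm_apply_eq]
    exact hBB₁w.symm
  have e4 : B₁⁻¹ w = B₁ w := by rw [← e2, e1, e3]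
  have e5 : B₁ (B₁ w) = w := by
    rw [← e4, MulAut.inv_apply, MulEquiv.apply_symm_apply]
  have e6 : (B₁ ^ 2) w = w := by
    rw [pow_two, MulAut.mul_apply, e5]
  have e7 : ∀ k : ℕ, ((B₁ ^ 2) ^ k) w = w := by
    intro k
    induction k with
    | zero => simp
    | succ k ih => rw [pow_succ, MulAut.mul_apply, e6, ih]
  have e8 : B₁ w = w := by
    have := e7 4
    rw [← pow_mul] at this
    have h8 : B₁ ^ (2 * 4) = B₁ := by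
      have : (2 * 4 : ℕ) = 7 + 1 := by norm_num
      rw [this, pow_succ, hB₁, one_mul]
    rw [h8] at this
    exact this
  have hwfx : w ∈ fx B₁ := mem_fx.2 e8
  have hinf : cm B₁ ⊓ fx B₁ = ⊥ :=
    Cfsg.Agent.Lib.H15.FG19.cm_inf_fx h2 B₁ (n := 7) (by decide) hB₁
  have : w ∈ cm B₁ ⊓ fx B₁ := ⟨hw, hwfx⟩
  rw [hinf] at this
  exact this

/-- BLOCK7 (M, uses Q1, Q2): an abelian normal subgroup `F` of a 7-group `P ∋ B` stabilises the block `[A,B]`. -/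
theorem block7 [Finite A] (h2 : ∀ a : A, a * a = 1) (P F : Subgroup (MulAut A)) (hP : IsPGroup 7 P)
    (hFP : F ≤ P) (hFn : ∀ z ∈ P, ∀ f ∈ F, z * f * z⁻¹ ∈ F) (hFc : ∀ f ∈ F, ∀ g ∈ F, f * g = g * f)
    (B : MulAut A) (hBP : B ∈ P) (hB : B ^ 7 = 1) (hcB : Nat.card (cm B) = 8) (Φ : MulAut A)
    (hΦ : Φ ∈ F) : (cm B).map Φ.toMonoidHom = cm B := by
  classical
  have hΦP : Φ ∈ P := hFP hΦ
  set B₁ : MulAut A := Φ * B * Φ⁻¹ with hB₁def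
  set B₂ : MulAut A := Φ * B₁ * Φ⁻¹ with hB₂def
  have hB₁P : B₁ ∈ P := P.mul_mem (P.mul_mem hΦP hBP) (P.inv_mem hΦP)
  have hB₂P : B₂ ∈ P := P.mul_mem (P.mul_mem hΦP hB₁P) (P.inv_mem hΦP)
  have hB₁7 : B₁ ^ 7 = 1 := conj_pow_seven B Φ hB
  have hB₂7 : B₂ ^ 7 = 1 := conj_pow_seven B₁ Φ hB₁7
  have hc1 : Nat.card (cm B₁) = 8 := by rw [hB₁def, card_cm_conj, hcB]
  have hc2 : Nat.card (cm B₂) = 8 := by rw [hB₂def, card_cm_conj, hc1]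
  have hmap1 : (cm B).map Φ.toMonoidHom = cm B₁ := Cfsg.Agent.Lib.H7.FG19.cm_conj B Φ
  have hmap2 : (cm B₁).map Φ.toMonoidHom = cm B₂ := Cfsg.Agent.Lib.H7.FG19.cm_conj B₁ Φ
  -- pairwise commuting
  have hPsub : ∀ X Y : MulAut A, X ∈ P → Y ∈ P → IsPGroup 7 (Subgroup.closure {X, Y}) := by
    intro X Y hX hY
    have hle : Subgroup.closure {X, Y} ≤ P := by
      rw [Subgroup.closure_le]
      intro z hz
      rcases hz with rfl | rfl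
      · exact hX
      · exact hY
    exact hP.to_le hle
  have hcomm01 : B * B₁ = B₁ * B := Cfsg.Agent.Lib.H7.FG19.commute_of_seven h2 B B₁ (hPsub B B₁ hBP hB₁P) hcB hc1
  have hcomm12 : B₁ * B₂ = B₂ * B₁ :=
    Cfsg.Agent.Lib.H7.FG19.commute_of_seven h2 B₁ B₂ (hPsub B₁ B₂ hB₁P hB₂P) hc1 hc2
  -- the relation
  have hG : B⁻¹ * B₁ ∈ F := by
    have h1 : B⁻¹ * Φ * (B⁻¹)⁻¹ ∈ F := hFn B⁻¹ (P.inv_mem hBP) Φ hΦ
    have h3 : B⁻¹ * B₁ = (B⁻¹ * Φ * (B⁻¹)⁻¹) * Φ⁻¹ := by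
      rw [hB₁def, inv_inv]; group
    rw [h3]
    exact F.mul_mem h1 (F.inv_mem hΦ)
  have hrel : B₁⁻¹ * B₂ = B⁻¹ * B₁ := by
    have hcomm : Φ * (B⁻¹ * B₁) = (B⁻¹ * B₁) * Φ := hFc Φ hΦ _ hG
    have h4 : B₁⁻¹ * B₂ = Φ * (B⁻¹ * B₁) * Φ⁻¹ := by
      rw [hB₂def, hB₁def]; group
    rw [h4, hcomm, mul_assoc, mul_inv_cancel, mul_one]
  rcases Cfsg.Agent.Lib.H15.FG19.cm_eq_or_le_fx h2 B B₁ hB hB₁7 hcomm01 hcB hc1 with heq | ⟨h01, h10⟩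
  · rw [hmap1, heq]
  rcases Cfsg.Agent.Lib.H15.FG19.cm_eq_or_le_fx h2 B₁ B₂ hB₁7 hB₂7 hcomm12 hc1 hc2 with heq | ⟨h12, h21⟩
  · -- `Φ (cm B) = Φ (cm B₁)` so `cm B = cm B₁`
    have : (cm B).map Φ.toMonoidHom = (cm B₁).map Φ.toMonoidHom := by rw [hmap1, hmap2, heq]
    have hinj : cm B = cm B₁ := Subgroup.map_injective Φ.injective this
    rw [hmap1, hinj]
  · exfalso
    have hbot : cm B₁ = ⊥ := block7_aux h2 B B₁ B₂ hB₁7 hrel h10 h12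
    rw [hbot] at hc1
    simp at hc1

end Cfsg.Agent.Lib.H2.FG19
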