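import Mathlib

set_option autoImplicit false

/-!
# Recognising `S_k` and `A_k` from a faithful action on `k` points and the order
-/

namespace Cfsg.Agent.Lib.H2

/-- a faithful action on a `k`-element set gives an injective hom into `Perm (Fin k)` -/
theorem exists_injective_hom_perm_fin {G X : Type*} [Group G] [MulAction G X] [FaithfulSMul G X]
    [Finite X] (k : ℕ) (hX : Nat.card X = k) :
    ∃ ψ : G →* Equiv.Perm (Fin k), Function.Injective ψ := by
  have : Fintype X := Fintype.ofFinite X
  have hX' : Fintype.card X = k := by rw [← Nat.card_eq_fintype_card]; exact hX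
  let e : X ≃ Fin k := Fintype.equivFinOfCardEq hX'
  refine ⟨(e.permCongrHom : Equiv.Perm X ≃* Equiv.Perm (Fin k)).toMonoidHom.comp
    (MulAction.toPermHom G X), ?_⟩
  intro a b hab
  have h1 : MulAction.toPermHom G X a = MulAction.toPermHom G X b :=
    (e.permCongrHom : Equiv.Perm X ≃* Equiv.Perm (Fin k)).injective hab
  exact MulAction.toPerm_injective h1

theorem nonempty_mulEquiv_perm_of_card {G X : Type*} [Group G] [MulAction G X] [FaithfulSMul G X]
    [Finite X] (k : ℕ) (hX : Nat.card X = k) (hG : Nat.card G = k.factorial) :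
    Nonempty (G ≃* Equiv.Perm (Fin k)) := by
  obtain ⟨ψ, hψ⟩ := exists_injective_hom_perm_fin (G := G) (X := X) k hX
  have hfin : Finite G := Finite.of_injective ψ hψ
  have hcard : Nat.card G = Nat.card (Equiv.Perm (Fin k)) := by
    rw [hG, Nat.card_eq_fintype_card, Fintype.card_perm, Fintype.card_fin]
  have hbij : Function.Bijective ψ := by
    rw [Nat.bijective_iff_injective_and_card]
    exact ⟨hψ, hcard⟩
  exact ⟨MulEquiv.ofBijective ψ hbij⟩

theorem nonempty_mulEquiv_alternating_of_card {G X : Type*} [Group G] [MulAction G X]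
    [FaithfulSMul G X] [Finite X] (k : ℕ) (hX : Nat.card X = k)
    (hG : 2 * Nat.card G = k.factorial) :
    Nonempty (G ≃* alternatingGroup (Fin k)) := by
  obtain ⟨ψ, hψ⟩ := exists_injective_hom_perm_fin (G := G) (X := X) k hX
  have hcard : Nat.card ψ.range = Nat.card G :=
    (Nat.card_congr (MonoidHom.ofInjective hψ).toEquiv).symm
  have hidx : ψ.range.index = 2 := by
    have h1 := ψ.range.card_mul_index
    rw [hcard, Nat.card_eq_fintype_card (α := Equiv.Perm (Fin k)), Fintype.card_perm,
      Fintype.card_fin, ← hG] at h1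
    have hpos : 0 < Nat.card G := by
      rcases Nat.eq_zero_or_pos (Nat.card G) with h0 | h0
      · rw [h0] at hG
        exact absurd hG.symm (Nat.factorial_ne_zero k)
      · exact h0
    have : Nat.card G * ψ.range.index = Nat.card G * 2 := by rw [h1]; ring
    exact Nat.eq_of_mul_eq_mul_left hpos this
  have hrange : ψ.range = alternatingGroup (Fin k) :=
    Equiv.Perm.eq_alternatingGroup_of_index_eq_two hidx
  exact ⟨(MonoidHom.ofInjective hψ).trans (MulEquiv.subgroupCongr hrange)⟩

end Cfsg.Agent.Lib.H2
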