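import Mathlib
import Cfsg.Agent.Lib.H5.S4Recog

set_option autoImplicit false
open scoped Pointwise

/-!
# S3685 / S3385, piece (R3): recognising `S₄ × Z₂` (helper2)

A group of order 48 with a normal four-group `W`, a central subgroup `C` of order 2 meeting `W` trivially, `W ⊔ C`
self-centralizing, and an involution outside `W ⊔ C` is isomorphic to `S₄ × Z₂`.
-/

namespace Cfsg.Agent.Lib.H2.Sims

/-- sign of a fixed-point-free involution on a set of `2 * k` elements, `k` odd -/
theorem sign_of_fpf_invol {X : Type*} [Fintype X] [DecidableEq X] (σ : Equiv.Perm X) (k : ℕ)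
    (hk : Odd k) (hcard : Fintype.card X = 2 * k) (h2 : σ ^ 2 = 1) (hfix : ∀ x, σ x ≠ x) :
    Equiv.Perm.sign σ = -1 := by
  have hpos : 0 < Fintype.card X := by
    rw [hcard]
    obtain ⟨m, rfl⟩ := hk
    omega
  obtain ⟨x0⟩ := Fintype.card_pos_iff.1 hpos
  have hne : σ ≠ 1 := by
    intro h
    apply hfix x0
    rw [h]
    rfl
  have hord : orderOf σ = 2 := orderOf_eq_prime h2 hne
  obtain ⟨n, hn⟩ := Equiv.Perm.cycleType_prime_order (σ := σ) (by rw [hord]; exact Nat.prime_two)
  have hsupp : σ.support = Finset.univ := by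
    ext x
    simp [hfix x]
  have hsum : σ.cycleType.sum = 2 * k := by
    rw [Equiv.Perm.sum_cycleType, hsupp, Finset.card_univ, hcard]
  rw [hn, hord, Multiset.sum_replicate, smul_eq_mul] at hsum
  have hnk : n + 1 = k := by omega
  rw [Equiv.Perm.sign_of_cycleType, hn, hord, Multiset.sum_replicate, Multiset.card_replicate, smul_eq_mul,
    hnk]
  have : Odd (k * 2 + k) := by
    obtain ⟨m, rfl⟩ := hk
    exact ⟨3 * m + 1, by ring⟩
  exact this.neg_one_pow

theorem normal_of_le_center' {Γ : Type*} [Group Γ] (Z₀ : Subgroup Γ) (hZcen : Z₀ ≤ Subgroup.center Γ) :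
    Z₀.Normal := by
  constructor
  intro n hn g
  have hc : n ∈ Subgroup.center Γ := hZcen hn
  have : g * n * g⁻¹ = n := by
    rw [(Subgroup.mem_center_iff.1 hc g), mul_assoc, mul_inv_cancel, mul_one]
  rw [this]
  exact hn

/-- (R3) order 48, `W` a normal four-group, `C` central of order 2, `C ⊓ W = ⊥`, `W ⊔ C` self-centralizing,
an involution `w` not in `W ⊔ C` -/
theorem s4z2_of_card_48 {K : Type*} [Group K] [Finite K] (hK : Nat.card K = 48) (W C : Subgroup K)
    [W.Normal] (hW : Nat.card W = 4) (hWexp : ∀ x ∈ W, x ^ 2 = 1) (hC : Nat.card C = 2)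
    (hCc : C ≤ Subgroup.center K) (hCW : C ⊓ W = ⊥)
    (hcent : Subgroup.centralizer ((W ⊔ C : Subgroup K) : Set K) ≤ W ⊔ C)
    (w : K) (hw2 : w ^ 2 = 1) (hw : w ∉ W ⊔ C) :
    Nonempty (K ≃* Equiv.Perm (Fin 4) × Multiplicative (ZMod 2)) := by
  classical
  -- the nontrivial element of `C`
  obtain ⟨c0, hc0C, hc01⟩ : ∃ c0 ∈ C, c0 ≠ 1 := by
    have : Nontrivial C := (Finite.one_lt_card_iff_nontrivial).1 (by rw [hC]; norm_num)
    obtain ⟨⟨x, hx⟩, hne⟩ := exists_ne (1 : C)
    exact ⟨x, hx, fun h => hne (Subtype.ext h)⟩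
  have hCeq : ∀ x ∈ C, x = 1 ∨ x = c0 := by
    intro x hx
    by_contra hcon
    rw [not_or] at hcon
    obtain ⟨y, -, hy⟩ := (Nat.card_eq_two_iff' (1 : C)).1 hC
    have h1 := hy ⟨x, hx⟩ (fun h => hcon.1 (congrArg Subtype.val h))
    have h2 := hy ⟨c0, hc0C⟩ (fun h => hc01 (congrArg Subtype.val h))
    apply hcon.2
    have := h1.trans h2.symm
    exact congrArg Subtype.val this
  have hc0cen : ∀ g, g * c0 = c0 * g := fun g => Subgroup.mem_center_iff.1 (hCc hc0C) g
  have hc0sq : c0 ^ 2 = 1 := by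
    rcases hCeq (c0 ^ 2) (C.pow_mem hc0C 2) with h | h
    · exact h
    · exfalso
      apply hc01
      have : c0 * c0 = c0 * 1 := by rw [← pow_two, h, mul_one]
      exact mul_left_cancel this
  have hc0W : c0 ∉ W := by
    intro h
    apply hc01
    have : c0 ∈ C ⊓ W := ⟨hc0C, h⟩
    rw [hCW] at this
    exact Subgroup.mem_bot.1 this
  have hCn : C.Normal := normal_of_le_center' C hCc
  -- the centralizer of `W` is inside `W ⊔ C`
  have hcentW : ∀ x : K, (∀ v ∈ W, x * v = v * x) → x ∈ W ⊔ C := by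
    intro x hx
    apply hcent
    rw [Subgroup.mem_centralizer_iff]
    have hle : W ⊔ C ≤ Subgroup.centralizer {x} := by
      apply sup_le
      · intro v hv
        rw [Subgroup.mem_centralizer_iff]
        intro y hy
        rw [Set.mem_singleton_iff.1 hy]
        exact hx v hv
      · intro c hc
        rw [Subgroup.mem_centralizer_iff]
        intro y hy
        rw [Set.mem_singleton_iff.1 hy]
        exact Subgroup.mem_center_iff.1 (hCc hc) x
    intro y hy
    have := Subgroup.mem_centralizer_iff.1 (hle hy) x rfl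
    exact this.symm
  -- the quotient by `C`
  let π : K →* K ⧸ C := QuotientGroup.mk' C
  have hπs : Function.Surjective π := QuotientGroup.mk'_surjective C
  have hπ1 : ∀ x : K, π x = 1 ↔ x ∈ C := fun x => QuotientGroup.eq_one_iff x
  have hcardQ : Nat.card (K ⧸ C) = 24 := by
    have := Subgroup.card_eq_card_quotient_mul_card_subgroup C
    rw [hK, hC] at this
    omega
  set V : Subgroup (K ⧸ C) := W.map π with hV
  have hVn : V.Normal := Subgroup.Normal.map inferInstance π hπs
  have hπinj : ∀ x ∈ W, π x = 1 → x = 1 := by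
    intro x hx h1
    have : x ∈ C ⊓ W := ⟨(hπ1 x).1 h1, hx⟩
    rw [hCW] at this
    exact Subgroup.mem_bot.1 this
  have hVcard : Nat.card V = 4 := by
    rw [← hW]
    symm
    apply Nat.card_congr
    refine Equiv.ofBijective (fun x : W => (⟨π x, Subgroup.mem_map_of_mem π x.2⟩ : V)) ⟨?_, ?_⟩
    · intro x y hxy
      have h1 : π x = π y := congrArg Subtype.val hxy
      have h2 : π ((x : K) * (y : K)⁻¹) = 1 := by rw [map_mul, map_inv, h1, mul_inv_cancel]
      have h3 := hπinj _ (W.mul_mem x.2 (W.inv_mem y.2)) h2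
      apply Subtype.ext
      exact mul_inv_eq_one.1 h3
    · rintro ⟨y, hy⟩
      obtain ⟨x, hx, rfl⟩ := Subgroup.mem_map.1 hy
      exact ⟨⟨x, hx⟩, rfl⟩
  have hVK : IsKleinFour V := by
    refine ⟨hVcard, ?_⟩
    have hdvd : Monoid.exponent V ∣ 2 := by
      apply Monoid.exponent_dvd_of_forall_pow_eq_one
      rintro ⟨y, hy⟩
      obtain ⟨x, hx, rfl⟩ := Subgroup.mem_map.1 hy
      apply Subtype.ext
      show π x ^ 2 = 1
      rw [← map_pow, hWexp x hx, map_one]
    rcases (Nat.dvd_prime Nat.prime_two).1 hdvd with h | h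
    · exfalso
      have hsub : Subsingleton V := Monoid.exp_eq_one_iff.1 h
      have : Nat.card V ≤ 1 := Finite.card_le_one_iff_subsingleton.2 hsub
      omega
    · exact h
  have hVcent : Subgroup.centralizer (V : Set (K ⧸ C)) ≤ V := by
    intro y hy
    obtain ⟨x, rfl⟩ := hπs y
    have hxW : ∀ v ∈ W, x * v = v * x := by
      intro v hv
      have h1 := (Subgroup.mem_centralizer_iff.1 hy) (π v) (Subgroup.mem_map_of_mem π hv)
      have h2 : π (x * v * x⁻¹ * v⁻¹) = 1 := by
        rw [map_mul, map_mul, map_mul, map_inv, map_inv, ← h1]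
        group
      have h3 : x * v * x⁻¹ * v⁻¹ ∈ C := (hπ1 _).1 h2
      have h4 : x * v * x⁻¹ * v⁻¹ ∈ W :=
        W.mul_mem (Subgroup.Normal.conj_mem inferInstance v hv x) (W.inv_mem hv)
      have h5 : x * v * x⁻¹ * v⁻¹ = 1 := by
        have : x * v * x⁻¹ * v⁻¹ ∈ C ⊓ W := ⟨h3, h4⟩
        rw [hCW] at this
        exact Subgroup.mem_bot.1 this
      calc x * v = (x * v * x⁻¹ * v⁻¹) * (v * x) := by group
        _ = v * x := by rw [h5, one_mul]
    have hxQ := hcentW x hxW
    have hmem : π x ∈ (W ⊔ C).map π := Subgroup.mem_map_of_mem π hxQ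
    rw [Subgroup.map_sup] at hmem
    have hCmap : C.map π = ⊥ := by
      rw [Subgroup.map_eq_bot_iff, QuotientGroup.ker_mk']
    rw [hCmap, sup_bot_eq] at hmem
    exact hmem
  obtain ⟨e⟩ := Cfsg.Agent.Lib.H5.S4Recog.nonempty_mulEquiv_perm_four hcardQ V hVK hVcent
  -- the subgroup `H = W ⟨w⟩` of order 8 not containing `c0`
  set Z : Subgroup K := Subgroup.zpowers w with hZ
  set H : Subgroup K := W ⊔ Z with hH
  have hw1 : w ≠ 1 := by
    intro h
    apply hw
    rw [h]
    exact one_mem _
  have hZmem : ∀ y ∈ Z, y = 1 ∨ y = w := by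
    intro y hy
    obtain ⟨k, rfl⟩ := Subgroup.mem_zpowers_iff.1 hy
    rcases Int.even_or_odd k with ⟨m, rfl⟩ | ⟨m, rfl⟩
    · left
      rw [← two_mul, zpow_mul, zpow_two, ← pow_two, hw2, one_zpow]
    · right
      rw [zpow_add_one, zpow_mul, zpow_two, ← pow_two, hw2, one_zpow, one_mul]
  have hc0H : c0 ∉ H := by
    intro h
    have h' : c0 ∈ (↑(W ⊔ Z) : Set K) := h
    rw [Subgroup.normal_mul] at h'
    obtain ⟨x, hx, y, hy, hxy⟩ := Set.mem_mul.1 h'
    rcases hZmem y hy with rfl | rfl
    · apply hc0W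
      rw [← hxy, mul_one]
      exact hx
    · apply hw
      have : y = x⁻¹ * c0 := by rw [← hxy]; group
      rw [this]
      exact (W ⊔ C).mul_mem (Subgroup.mem_sup_left (W.inv_mem hx)) (Subgroup.mem_sup_right hc0C)
  have hcardH : Nat.card H = 8 := by
    have hWZ : W ⊓ Z = ⊥ := by
      rw [eq_bot_iff]
      rintro y ⟨hyW, hyZ⟩
      rcases hZmem y hyZ with rfl | rfl
      · exact Subgroup.mem_bot.2 rfl
      · exact absurd (Subgroup.mem_sup_left hyW) hw
    have hZcard : Nat.card Z = 2 := by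
      rw [Nat.card_zpowers]
      exact orderOf_eq_prime hw2 hw1
    have h1 : W.relIndex H = 2 := by
      rw [hH, Subgroup.relIndex_sup_left, ← Subgroup.inf_relIndex_right, hWZ, Subgroup.relIndex_bot_left,
        hZcard]
    have h2 := Subgroup.relIndex_mul_relIndex (H := ⊥) (K := W) (L := H) bot_le le_sup_left
    rw [Subgroup.relIndex_bot_left, Subgroup.relIndex_bot_left, hW, h1] at h2
    omega
  have hcardX : Nat.card (K ⧸ H) = 6 := by
    have := Subgroup.card_eq_card_quotient_mul_card_subgroup H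
    rw [hK, hcardH] at this
    omega
  -- the sign character of the action on the six cosets of `H`
  have : Fintype (K ⧸ H) := Fintype.ofFinite _
  let β : K →* ℤˣ := Equiv.Perm.sign.comp (MulAction.toPermHom K (K ⧸ H))
  have hβ : β c0 = -1 := by
    show Equiv.Perm.sign (MulAction.toPermHom K (K ⧸ H) c0) = -1
    apply sign_of_fpf_invol _ 3 (by decide)
    · rw [← Nat.card_eq_fintype_card, hcardX]
    · rw [← map_pow, hc0sq, map_one]
    · intro q
      obtain ⟨g, rfl⟩ := QuotientGroup.mk_surjective q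
      show (c0 • (g : K ⧸ H)) ≠ (g : K ⧸ H)
      rw [MulAction.Quotient.smul_mk, smul_eq_mul]
      intro heq
      rw [QuotientGroup.eq] at heq
      apply hc0H
      have : (c0 * g)⁻¹ * g = c0⁻¹ := by rw [← hc0cen g]; group
      rw [this] at heq
      exact inv_mem_iff.1 heq
  -- assembly
  let ψ : K →* Equiv.Perm (Fin 4) × ℤˣ := (e.toMonoidHom.comp π).prod β
  have hψinj : Function.Injective ψ := by
    rw [injective_iff_map_eq_one]
    intro x hx
    have h1 : e (π x) = 1 := congrArg Prod.fst hx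
    have h2 : β x = 1 := congrArg Prod.snd hx
    have h3 : π x = 1 := by
      rw [← map_one e] at h1
      exact e.injective h1
    rcases hCeq x ((hπ1 x).1 h3) with h | h
    · exact h
    · exfalso
      rw [h, hβ] at h2
      exact absurd h2 (by decide)
  have hcardT : Nat.card (Equiv.Perm (Fin 4) × ℤˣ) = 48 := by
    rw [Nat.card_prod, Nat.card_perm, Nat.card_eq_fintype_card, Nat.card_eq_fintype_card,
      Fintype.card_units_int, Fintype.card_fin]
    rfl
  have hψbij : Function.Bijective ψ := hψinj.bijective_of_nat_card_le (by rw [hcardT, hK])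
  have : Fact (Nat.Prime 2) := ⟨Nat.prime_two⟩
  have hcz : Nat.card (Multiplicative (ZMod 2)) = 2 := by
    rw [Nat.card_eq_fintype_card, Fintype.card_multiplicative, ZMod.card]
  have hcu : Nat.card ℤˣ = 2 := by
    rw [Nat.card_eq_fintype_card, Fintype.card_units_int]
  exact ⟨(MulEquiv.ofBijective ψ hψbij).trans
    (MulEquiv.prodCongr (MulEquiv.refl _) (mulEquivOfPrimeCardEq (p := 2) hcu hcz))⟩

end Cfsg.Agent.Lib.H2.Sims
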