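import Mathlib

set_option autoImplicit false

/-!
# Counting solutions of `x ⬝ y = c` over a finite field, and sums over fibres
-/

namespace Cfsg.Agent.Lib.H2

open Matrix

/-- a sum whose summand takes the value `A` at `x₀` and `B` elsewhere -/
theorem sum_eq_add_mul {X : Type*} [Fintype X] [DecidableEq X] (f : X → ℕ) (x₀ : X) (A B : ℕ)
    (h0 : f x₀ = A) (h1 : ∀ x, x ≠ x₀ → f x = B) :
    ∑ x, f x = A + (Fintype.card X - 1) * B := by
  rw [← Finset.add_sum_erase Finset.univ f (Finset.mem_univ x₀), h0]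
  congr 1
  rw [Finset.sum_congr rfl (fun x hx => h1 x (Finset.ne_of_mem_erase hx)), Finset.sum_const,
    Finset.card_erase_of_mem (Finset.mem_univ x₀), Finset.card_univ, smul_eq_mul]

/-- the fibres of a surjective additive homomorphism all have the same size -/
theorem card_fiber_mul {V W : Type*} [AddGroup V] [AddGroup W] [Finite V] (φ : V →+ W)
    (hφ : Function.Surjective φ) (c : W) :
    Nat.card {v // φ v = c} * Nat.card W = Nat.card V := by
  obtain ⟨v₀, hv₀⟩ := hφ c
  have e : {v // φ v = c} ≃ φ.ker :=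
    { toFun := fun v => ⟨v.1 - v₀, by rw [AddMonoidHom.mem_ker, map_sub, v.2, hv₀, sub_self]⟩
      invFun := fun k => ⟨k.1 + v₀, by
        have := k.2
        rw [AddMonoidHom.mem_ker] at this
        rw [map_add, this, hv₀, zero_add]⟩
      left_inv := fun v => by simp
      right_inv := fun k => by simp }
  rw [Nat.card_congr e]
  have h1 := AddSubgroup.card_eq_card_quotient_mul_card_addSubgroup φ.ker
  have e2 := QuotientAddGroup.quotientKerEquivOfSurjective φ hφ
  rw [Nat.card_congr e2.toEquiv] at h1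
  rw [h1, mul_comm]

variable {F : Type*} [Field F] [Fintype F] [DecidableEq F]

/-- for `x ≠ 0` the equation `x ⬝ y = c` has `q^(m-1)` solutions -/
theorem card_dot_eq {m : ℕ} (x : Fin m → F) (hx : x ≠ 0) (c : F) :
    Nat.card {y : Fin m → F // x ⬝ᵥ y = c} = Fintype.card F ^ (m - 1) := by
  obtain ⟨i, hi⟩ : ∃ i, x i ≠ 0 := by
    by_contra hcon
    push Not at hcon
    exact hx (funext hcon)
  have hm : 1 ≤ m := by
    rcases m with _ | m
    · exact i.elim0
    · omega
  let φ : (Fin m → F) →+ F :=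
    { toFun := fun y => x ⬝ᵥ y
      map_zero' := dotProduct_zero x
      map_add' := fun y z => dotProduct_add x y z }
  have hφ : Function.Surjective φ := by
    intro a
    refine ⟨Pi.single i (a / x i), ?_⟩
    show x ⬝ᵥ Pi.single i (a / x i) = a
    rw [dotProduct_single, mul_div_cancel₀ _ hi]
  have h := card_fiber_mul φ hφ c
  rw [Nat.card_eq_fintype_card (α := F), Nat.card_eq_fintype_card (α := Fin m → F),
    Fintype.card_pi_const] at h
  have hq : 0 < Fintype.card F := Fintype.card_pos
  have h2 : Fintype.card F ^ m = Fintype.card F ^ (m - 1) * Fintype.card F := by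
    rw [← pow_succ, Nat.sub_add_cancel hm]
  rw [h2] at h
  exact Nat.eq_of_mul_eq_mul_right hq h

/-- the number of pairs `(x, y)` with `x ⬝ y = c` -/
theorem card_hyp (m : ℕ) (c : F) :
    Nat.card {p : (Fin m → F) × (Fin m → F) // p.1 ⬝ᵥ p.2 = c} =
      (if c = 0 then Fintype.card F ^ m else 0) +
        (Fintype.card F ^ m - 1) * Fintype.card F ^ (m - 1) := by
  rw [Nat.card_congr (Equiv.subtypeProdEquivSigmaSubtype
    (fun (x y : Fin m → F) => x ⬝ᵥ y = c)), Nat.card_sigma]
  rw [sum_eq_add_mul (fun x : Fin m → F => Nat.card {y : Fin m → F // x ⬝ᵥ y = c}) 0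
    (if c = 0 then Fintype.card F ^ m else 0) (Fintype.card F ^ (m - 1)) ?_
    (fun x hx => card_dot_eq x hx c), Fintype.card_pi_const]
  simp only [zero_dotProduct]
  split_ifs with hc
  · subst hc
    have : Nat.card {y : Fin m → F // (0 : F) = 0} = Nat.card (Fin m → F) :=
      Nat.card_congr (Equiv.subtypeUnivEquiv (fun _ => rfl))
    rw [this, Nat.card_eq_fintype_card, Fintype.card_pi_const]
  · have : IsEmpty {y : Fin m → F // (0 : F) = c} := ⟨fun y => hc y.2.symm⟩
    exact Nat.card_of_isEmpty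

/-- zeros of `x ⬝ y + N z` where `N` has the unique zero `z₀` -/
theorem card_hyp_add (m : ℕ) {Z : Type*} [Fintype Z] (N : Z → F) (z₀ : Z)
    (hN : ∀ z, N z = 0 ↔ z = z₀) :
    Nat.card {p : Z × ((Fin m → F) × (Fin m → F)) // p.2.1 ⬝ᵥ p.2.2 + N p.1 = 0} =
      (Fintype.card F ^ m + (Fintype.card F ^ m - 1) * Fintype.card F ^ (m - 1)) +
        (Fintype.card Z - 1) * ((Fintype.card F ^ m - 1) * Fintype.card F ^ (m - 1)) := by
  classical
  rw [Nat.card_congr (Equiv.subtypeProdEquivSigmaSubtype
    (fun (z : Z) (p : (Fin m → F) × (Fin m → F)) => p.1 ⬝ᵥ p.2 + N z = 0)), Nat.card_sigma]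
  have key : ∀ z : Z, Nat.card {p : (Fin m → F) × (Fin m → F) // p.1 ⬝ᵥ p.2 + N z = 0} =
      (if -N z = 0 then Fintype.card F ^ m else 0) +
        (Fintype.card F ^ m - 1) * Fintype.card F ^ (m - 1) := by
    intro z
    rw [← card_hyp m (-N z)]
    apply Nat.card_congr
    exact Equiv.subtypeEquivRight (fun p => by rw [add_eq_zero_iff_eq_neg])
  apply sum_eq_add_mul _ z₀
  · rw [key, (hN z₀).2 rfl, neg_zero, if_pos rfl]
  · intro z hz
    rw [key, if_neg, zero_add]
    rw [neg_eq_zero, hN]
    exact hz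

end Cfsg.Agent.Lib.H2
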