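import Mathlib

set_option autoImplicit false

/-!
# Extending a matrix by an identity block in the last coordinate
-/

namespace Cfsg.Agent.Lib.H2.BlockExt

open Matrix

variable {F : Type*} [CommRing F] {n : ℕ}

/-- the matrix `diag(B, 1)` -/
def extM (B : Matrix (Fin n) (Fin n) F) : Matrix (Fin (n + 1)) (Fin (n + 1)) F :=
  Matrix.of fun i j =>
    Fin.lastCases (Fin.lastCases (1 : F) (fun _ => 0) j)
      (fun i' => Fin.lastCases (0 : F) (fun j' => B i' j') j) i

theorem extM_last_last (B : Matrix (Fin n) (Fin n) F) : extM B (Fin.last n) (Fin.last n) = 1 := by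
  simp [extM]

theorem extM_last_castSucc (B : Matrix (Fin n) (Fin n) F) (j : Fin n) :
    extM B (Fin.last n) j.castSucc = 0 := by
  simp [extM]

theorem extM_castSucc_last (B : Matrix (Fin n) (Fin n) F) (i : Fin n) :
    extM B i.castSucc (Fin.last n) = 0 := by
  simp [extM]

theorem extM_castSucc_castSucc (B : Matrix (Fin n) (Fin n) F) (i j : Fin n) :
    extM B i.castSucc j.castSucc = B i j := by
  simp [extM]

theorem extM_mulVec_snoc (B : Matrix (Fin n) (Fin n) F) (u : Fin n → F) (t : F) :
    extM B *ᵥ (Fin.snoc u t : Fin (n + 1) → F) = Fin.snoc (B *ᵥ u) t := by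
  ext i
  refine Fin.lastCases ?_ (fun i' => ?_) i
  · simp only [Matrix.mulVec, dotProduct, Fin.sum_univ_castSucc, extM_last_castSucc, extM_last_last,
      Fin.snoc_castSucc, Fin.snoc_last, zero_mul, Finset.sum_const_zero, zero_add, one_mul]
  · simp only [Matrix.mulVec, dotProduct, Fin.sum_univ_castSucc, extM_castSucc_castSucc,
      extM_castSucc_last, Fin.snoc_castSucc, Fin.snoc_last, zero_mul, add_zero]

theorem extM_mul (A B : Matrix (Fin n) (Fin n) F) : extM (A * B) = extM A * extM B := by
  rw [Matrix.ext_iff_mulVec]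
  intro v
  rw [← Fin.snoc_init_self v, ← Matrix.mulVec_mulVec, extM_mulVec_snoc, extM_mulVec_snoc,
    extM_mulVec_snoc, Matrix.mulVec_mulVec]

theorem extM_one : extM (1 : Matrix (Fin n) (Fin n) F) = 1 := by
  rw [Matrix.ext_iff_mulVec]
  intro v
  rw [← Fin.snoc_init_self v, extM_mulVec_snoc, Matrix.one_mulVec, Matrix.one_mulVec]

theorem extM_injective : Function.Injective (extM (F := F) (n := n)) := by
  intro A B h
  ext i j
  rw [← extM_castSucc_castSucc A, ← extM_castSucc_castSucc B, h]

/-- `extM` as a monoid homomorphism -/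
def extHom : Matrix (Fin n) (Fin n) F →* Matrix (Fin (n + 1)) (Fin (n + 1)) F where
  toFun := extM
  map_one' := extM_one
  map_mul' := extM_mul

/-- the induced map on general linear groups -/
def extGL : GL (Fin n) F →* GL (Fin (n + 1)) F := Units.map extHom

theorem extGL_val (g : GL (Fin n) F) :
    ((extGL g : GL (Fin (n + 1)) F) : Matrix (Fin (n + 1)) (Fin (n + 1)) F) =
      extM (g : Matrix (Fin n) (Fin n) F) := rfl

theorem extGL_injective : Function.Injective (extGL (F := F) (n := n)) := by
  intro g h hgh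
  apply Units.ext
  apply extM_injective
  rw [← extGL_val, ← extGL_val, hgh]

/-- the last standard basis vector -/
def eLast (F : Type*) [CommRing F] (n : ℕ) : Fin (n + 1) → F := Fin.snoc (0 : Fin n → F) 1

theorem eLast_eq_single : eLast F n = Pi.single (Fin.last n) 1 := by
  ext i
  refine Fin.lastCases ?_ (fun i' => ?_) i
  · simp [eLast]
  · simp [eLast, Fin.snoc_castSucc]

theorem extM_mulVec_eLast (B : Matrix (Fin n) (Fin n) F) : extM B *ᵥ eLast F n = eLast F n := by
  rw [eLast, extM_mulVec_snoc, Matrix.mulVec_zero]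

/-- a matrix whose last column is `eLast` and whose last row is `eLastᵀ` is an `extM` -/
theorem eq_extM_of (g : Matrix (Fin (n + 1)) (Fin (n + 1)) F)
    (hcol : g *ᵥ eLast F n = eLast F n) (hrow : ∀ j : Fin n, g (Fin.last n) j.castSucc = 0) :
    g = extM (g.submatrix Fin.castSucc Fin.castSucc) := by
  have hcol' : ∀ i, g i (Fin.last n) = eLast F n i := by
    intro i
    have := congrFun hcol i
    rw [eLast_eq_single, Matrix.mulVec_single_one] at this
    rw [eLast_eq_single]
    exact this
  ext i j
  refine Fin.lastCases ?_ (fun i' => ?_) i <;> refine Fin.lastCases ?_ (fun j' => ?_) j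
  · rw [extM_last_last, hcol']; simp [eLast]
  · rw [extM_last_castSucc, hrow]
  · rw [extM_castSucc_last, hcol']; simp [eLast, Fin.snoc_castSucc]
  · rw [extM_castSucc_castSucc]; rfl

end Cfsg.Agent.Lib.H2.BlockExt
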