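import Mathlib
import Cfsg.Agent.Lib.H2.SLCenterCard
import Cfsg.Agent.Lib.H2.FiberCount
import Cfsg.Prelude.Def_Classical

set_option autoImplicit false

/-!
# Counting vectors of given norm for the standard Hermitian form over a field with `q^2` elements
-/

namespace Cfsg.Agent.Lib.H2.Herm


variable {F : Type*} [Field F] [Fintype F] {q : ℕ}

theorem two_le_q (hF : Fintype.card F = q ^ 2) : 2 ≤ q := by
  have h1 : 1 < Fintype.card F := Fintype.one_lt_card
  rw [hF] at h1
  by_contra hcon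
  have : q = 0 ∨ q = 1 := by omega
  rcases this with rfl | rfl <;> simp at h1

/-- `q` is a power of the characteristic -/
theorem exists_q_eq_pow (hF : Fintype.card F = q ^ 2) :
    ∃ (p k : ℕ), p.Prime ∧ CharP F p ∧ q = p ^ k := by
  obtain ⟨p, hp⟩ := CharP.exists F
  obtain ⟨n, hprime, hn⟩ := FiniteField.card F p
  rw [hF] at hn
  have hq2 := two_le_q hF
  refine ⟨p, q.primeFactorsList.length, hprime, hp, ?_⟩
  apply Nat.eq_prime_pow_of_unique_prime_dvd (by omega)
  intro r hr hrq
  have : r ∣ p ^ (n : ℕ) := by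
    rw [← hn]
    exact dvd_pow hrq two_ne_zero
  exact (Nat.prime_dvd_prime_iff_eq hr hprime).1 (hr.dvd_of_dvd_pow this)

theorem add_pow_q (hF : Fintype.card F = q ^ 2) (x y : F) : (x + y) ^ q = x ^ q + y ^ q := by
  obtain ⟨p, k, hp, hc, rfl⟩ := exists_q_eq_pow hF
  have := hc
  have : Fact p.Prime := ⟨hp⟩
  exact add_pow_char_pow x y p k

theorem sub_pow_q (hF : Fintype.card F = q ^ 2) (x y : F) : (x - y) ^ q = x ^ q - y ^ q := by
  obtain ⟨p, k, hp, hc, rfl⟩ := exists_q_eq_pow hF
  have := hc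
  have : Fact p.Prime := ⟨hp⟩
  exact sub_pow_char_pow x y k

theorem pow_q_pow_q (hF : Fintype.card F = q ^ 2) (x : F) : (x ^ q) ^ q = x := by
  rw [← pow_mul, ← sq, ← hF, FiniteField.pow_card]

/-- the norm -/
def N (q : ℕ) (x : F) : F := x * x ^ q

theorem N_pow_q (hF : Fintype.card F = q ^ 2) (x : F) : (N q x) ^ q = N q x := by
  unfold N
  rw [mul_pow, pow_q_pow_q hF, mul_comm]

theorem N_eq_zero_iff (hF : Fintype.card F = q ^ 2) (x : F) : N q x = 0 ↔ x = 0 := by
  unfold N
  have hq := two_le_q hF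
  constructor
  · intro h
    rcases mul_eq_zero.1 h with h | h
    · exact h
    · exact pow_eq_zero_iff (by omega) |>.1 h
  · rintro rfl
    rw [zero_mul]



theorem card_units_eq (hF : Fintype.card F = q ^ 2) : Nat.card Fˣ = (q - 1) * (q + 1) := by
  rw [Nat.card_units, Nat.card_eq_fintype_card, hF]
  have hq := two_le_q hF
  obtain ⟨r, rfl⟩ : ∃ r, q = r + 1 := ⟨q - 1, by omega⟩
  simp only [Nat.add_sub_cancel]
  have : (r + 1) ^ 2 = r * (r + 1 + 1) + 1 := by ring
  rw [this, Nat.add_sub_cancel]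

theorem card_ker_pow (hF : Fintype.card F = q ^ 2) :
    Nat.card (powMonoidHom (q + 1) : Fˣ →* Fˣ).ker = q + 1 := by
  rw [IsCyclic.card_powMonoidHom_ker, card_units_eq hF]
  exact Nat.gcd_eq_right (Dvd.intro_left _ rfl)

theorem range_pow (hF : Fintype.card F = q ^ 2) :
    (powMonoidHom (q + 1) : Fˣ →* Fˣ).range = rootsOfUnity (q - 1) F := by
  have hq := two_le_q hF
  have : NeZero (q - 1) := ⟨by omega⟩
  apply Subgroup.eq_of_le_of_card_ge
  · rintro _ ⟨u, rfl⟩
    rw [mem_rootsOfUnity, powMonoidHom_apply, ← pow_mul, mul_comm, ← card_units_eq hF]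
    exact pow_card_eq_one'
  · rw [card_rootsOfUnity_field, IsCyclic.card_powMonoidHom_range, ← Nat.card_units,
      card_units_eq hF]
    rw [Nat.gcd_eq_left (Dvd.intro _ rfl), Nat.gcd_eq_right (Dvd.intro_left _ rfl),
      Nat.mul_div_cancel _ (by omega)]

theorem card_N_fiber (hF : Fintype.card F = q ^ 2) (c : F) (hc0 : c ≠ 0) (hc : c ^ q = c) :
    Nat.card {x : F // N q x = c} = q + 1 := by
  classical
  have hq := two_le_q hF
  let φ : Fˣ →* Fˣ := powMonoidHom (q + 1)
  have hcu : Units.mk0 c hc0 ∈ φ.range := by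
    rw [range_pow hF, mem_rootsOfUnity]
    apply Units.ext
    rw [Units.val_pow_eq_pow_val, Units.val_mk0, Units.val_one]
    have h1 : c * c ^ (q - 1) = c * 1 := by
      rw [← pow_succ', Nat.sub_add_cancel (by omega), hc, mul_one]
    exact mul_left_cancel₀ hc0 h1
  have h1 := MonoidHom.card_fiber_eq_of_mem_range φ (x := Units.mk0 c hc0) (y := 1)
    hcu ⟨1, map_one φ⟩
  have e1 : {x : F // N q x = c} ≃ {u : Fˣ // φ u = Units.mk0 c hc0} :=
    { toFun := fun x => ⟨Units.mk0 x.1 (by
          intro h0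
          have := x.2
          rw [h0] at this
          unfold N at this
          rw [zero_mul] at this
          exact hc0 this.symm), by
          apply Units.ext
          show ((Units.mk0 x.1 _) ^ (q + 1) : Fˣ).val = c
          rw [Units.val_pow_eq_pow_val, Units.val_mk0, pow_succ']
          exact x.2⟩
      invFun := fun u => ⟨u.1.1, by
          have h2 : ((u.1 ^ (q + 1) : Fˣ) : F) = c := by
            have := congrArg Units.val u.2
            rw [Units.val_mk0] at this
            exact this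
          rw [Units.val_pow_eq_pow_val, pow_succ'] at h2
          exact h2⟩
      left_inv := fun x => by simp
      right_inv := fun u => by simp }
  rw [Nat.card_congr e1, Nat.card_eq_fintype_card, Fintype.card_subtype, h1,
    ← card_ker_pow hF, Nat.card_eq_fintype_card, ← Fintype.card_subtype]
  apply Fintype.card_congr
  exact Equiv.subtypeEquivRight (fun u => by rw [MonoidHom.mem_ker])



/-- number of vectors of given norm -/
noncomputable def cnt (F : Type*) [Field F] (q : ℕ) (n : ℕ) (c : F) : ℕ :=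
  Nat.card {v : Fin n → F // ∑ i, N q (v i) = c}

theorem cnt_zero (c : F) [DecidableEq F] : cnt F q 0 c = if c = 0 then 1 else 0 := by
  unfold cnt
  simp only [Finset.univ_eq_empty, Finset.sum_empty]
  split_ifs with h
  · subst h
    rw [Nat.card_congr (Equiv.subtypeUnivEquiv (fun _ => rfl))]
    simp
  · have : IsEmpty {v : Fin 0 → F // (0 : F) = c} := ⟨fun y => h y.2.symm⟩
    exact Nat.card_of_isEmpty

theorem cnt_succ (n : ℕ) (c : F) : cnt F q (n + 1) c = ∑ x : F, cnt F q n (c - N q x) := by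
  unfold cnt
  rw [← Nat.card_sigma]
  apply Nat.card_congr
  refine ((Fin.consEquiv (fun _ => F)).symm.subtypeEquiv (q := fun p : F × (Fin n → F) =>
    N q p.1 + ∑ i, N q (p.2 i) = c) ?_).trans ?_
  · intro v
    rw [Fin.sum_univ_succ]
    rfl
  · refine (Equiv.subtypeProdEquivSigmaSubtype
      (fun (x : F) (w : Fin n → F) => N q x + ∑ i, N q (w i) = c)).trans ?_
    exact Equiv.sigmaCongrRight (fun x => Equiv.subtypeEquivRight (fun w => by
      rw [eq_sub_iff_add_eq, add_comm]))



/-- the pair (number of isotropic vectors, number of vectors of norm `c ≠ 0`) -/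
def ab (q : ℕ) : ℕ → ℕ × ℕ
  | 0 => (1, 0)
  | n + 1 => ((ab q n).1 + (q ^ 2 - 1) * (ab q n).2,
      (q + 1) * (ab q n).1 + (q ^ 2 - (q + 1)) * (ab q n).2)

theorem ab_closed (q : ℕ) (hq : 2 ≤ q) (n : ℕ) :
    ((q : ℤ) * ((ab q n).1 : ℤ) = (q : ℤ) ^ (2 * n) + (-1) ^ n * ((q : ℤ) ^ (n + 1) - (q : ℤ) ^ n)) ∧
    ((q : ℤ) * ((ab q n).2 : ℤ) = (q : ℤ) ^ (2 * n) - (-1) ^ n * (q : ℤ) ^ n) := by
  induction n with
  | zero => simp [ab]
  | succ n ih =>
    obtain ⟨ih1, ih2⟩ := ih
    have h1 : 1 ≤ q ^ 2 := Nat.one_le_pow _ _ (by omega)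
    have h2 : q + 1 ≤ q ^ 2 := by nlinarith
    simp only [ab]
    push_cast [Nat.cast_sub h1, Nat.cast_sub h2]
    constructor
    · linear_combination ih1 + ((q : ℤ) ^ 2 - 1) * ih2
    · linear_combination ((q : ℤ) + 1) * ih1 + ((q : ℤ) ^ 2 - ((q : ℤ) + 1)) * ih2

theorem ab_snd (q : ℕ) (hq : 2 ≤ q) (n : ℕ) :
    (ab q n).2 = if Even n then q ^ (n - 1) * (q ^ n - 1) else q ^ (n - 1) * (q ^ n + 1) := by
  rcases n with _ | m
  · simp [ab]
  have h := (ab_closed q hq (m + 1)).2
  have hq0 : (q : ℤ) ≠ 0 := by exact_mod_cast (by omega : q ≠ 0)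
  have h1 : 1 ≤ q ^ (m + 1) := Nat.one_le_pow _ _ (by omega)
  rw [Nat.add_sub_cancel]
  split_ifs with he
  · rw [he.neg_one_pow] at h
    have : ((ab q (m + 1)).2 : ℤ) = ((q ^ m * (q ^ (m + 1) - 1) : ℕ) : ℤ) := by
      apply mul_left_cancel₀ hq0
      rw [h]
      push_cast [Nat.cast_sub h1]
      ring
    exact_mod_cast this
  · rw [(Nat.not_even_iff_odd.1 he).neg_one_pow] at h
    have : ((ab q (m + 1)).2 : ℤ) = ((q ^ m * (q ^ (m + 1) + 1) : ℕ) : ℤ) := by
      apply mul_left_cancel₀ hq0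
      rw [h]
      push_cast
      ring
    exact_mod_cast this

theorem ab_fst (q : ℕ) (hq : 2 ≤ q) (n : ℕ) :
    (ab q n).1 = (if Even n then (q ^ n - 1) * (q ^ (n - 1) + 1)
      else (q ^ n + 1) * (q ^ (n - 1) - 1)) + 1 := by
  rcases n with _ | m
  · simp [ab]
  have h := (ab_closed q hq (m + 1)).1
  have hq0 : (q : ℤ) ≠ 0 := by exact_mod_cast (by omega : q ≠ 0)
  have h1 : 1 ≤ q ^ (m + 1) := Nat.one_le_pow _ _ (by omega)
  have h2 : 1 ≤ q ^ m := Nat.one_le_pow _ _ (by omega)
  rw [Nat.add_sub_cancel]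
  split_ifs with he
  · rw [he.neg_one_pow] at h
    have : ((ab q (m + 1)).1 : ℤ) = (((q ^ (m + 1) - 1) * (q ^ m + 1) + 1 : ℕ) : ℤ) := by
      apply mul_left_cancel₀ hq0
      rw [h]
      push_cast [Nat.cast_sub h1]
      ring
    exact_mod_cast this
  · rw [(Nat.not_even_iff_odd.1 he).neg_one_pow] at h
    have : ((ab q (m + 1)).1 : ℤ) = (((q ^ (m + 1) + 1) * (q ^ m - 1) + 1 : ℕ) : ℤ) := by
      apply mul_left_cancel₀ hq0
      rw [h]
      push_cast [Nat.cast_sub h2]
      ring
    exact_mod_cast this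


/-- a sum whose summand takes the value `A` on `P` and `B` elsewhere -/
theorem sum_two_values {X : Type*} [Fintype X] (f : X → ℕ) (P : X → Prop) [DecidablePred P]
    (A B : ℕ) (h1 : ∀ x, P x → f x = A) (h0 : ∀ x, ¬ P x → f x = B) :
    ∑ x, f x = Nat.card {x // P x} * A + (Fintype.card X - Nat.card {x // P x}) * B := by
  have hf : ∀ x, f x = if P x then A else B := by
    intro x
    split_ifs with h
    · exact h1 x h
    · exact h0 x h
  rw [Finset.sum_congr rfl (fun x _ => hf x), Finset.sum_ite, Finset.sum_const, Finset.sum_const,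
    smul_eq_mul, smul_eq_mul, Nat.card_eq_fintype_card, Fintype.card_subtype]
  congr 2
  rw [← Finset.card_univ, ← Finset.card_filter_add_card_filter_not (s := Finset.univ) P,
    Nat.add_sub_cancel_left]

theorem cnt_eq (hF : Fintype.card F = q ^ 2) [DecidableEq F] (n : ℕ) (c : F) (hc : c ^ q = c) :
    cnt F q n c = if c = 0 then (ab q n).1 else (ab q n).2 := by
  induction n generalizing c with
  | zero => rw [cnt_zero]; rfl
  | succ n ih =>
    rw [cnt_succ]
    have hx : ∀ x : F, cnt F q n (c - N q x) =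
        if c - N q x = 0 then (ab q n).1 else (ab q n).2 := by
      intro x
      apply ih
      rw [sub_pow_q hF, hc, N_pow_q hF]
    by_cases hc0 : c = 0
    · subst hc0
      rw [if_pos rfl]
      rw [sum_eq_add_mul (fun x : F => cnt F q n (0 - N q x)) 0 (ab q n).1 (ab q n).2, hF]
      · rfl
      · rw [hx, if_pos]
        rw [zero_sub, neg_eq_zero, N_eq_zero_iff hF]
      · intro x hx0
        rw [hx, if_neg]
        rw [zero_sub, neg_eq_zero, N_eq_zero_iff hF]
        exact hx0
    · rw [if_neg hc0]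
      rw [sum_two_values (fun x : F => cnt F q n (c - N q x)) (fun x => N q x = c)
        (ab q n).1 (ab q n).2, card_N_fiber hF c hc0 hc, hF]
      · rfl
      · intro x hxc
        rw [hx, if_pos]
        rw [hxc, sub_self]
      · intro x hxc
        rw [hx, if_neg]
        intro h
        exact hxc (sub_eq_zero.1 h).symm

omit [Fintype F] in
theorem hermForm_self_eq {n : ℕ} (v : Fin n → F) :
    Cfsg.hermForm n F q v v = ∑ i, N q (v i) := rfl

theorem card_norm_one (hF : Fintype.card F = q ^ 2) (n : ℕ) :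
    Nat.card {v : Fin n → F // Cfsg.hermForm n F q v v = 1} =
      (if Even n then q ^ (n - 1) * (q ^ n - 1) else q ^ (n - 1) * (q ^ n + 1)) := by
  classical
  have h := cnt_eq hF n 1 (one_pow q)
  rw [if_neg one_ne_zero, ab_snd q (two_le_q hF)] at h
  exact h

theorem card_isotropic (hF : Fintype.card F = q ^ 2) (n : ℕ) :
    Nat.card {v : Fin n → F // Cfsg.hermForm n F q v v = 0} =
      (if Even n then (q ^ n - 1) * (q ^ (n - 1) + 1)
        else (q ^ n + 1) * (q ^ (n - 1) - 1)) + 1 := by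
  classical
  have hq := two_le_q hF
  have h := cnt_eq hF n 0 (zero_pow (by omega))
  rw [if_pos rfl, ab_fst q hq] at h
  exact h
end Cfsg.Agent.Lib.H2.Herm
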