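import Mathlib
import Cfsg.Prelude.Def_LieClassical
import Cfsg.Agent.Lib.H4.Herm
import Cfsg.Agent.Lib.H2.HermCount

set_option autoImplicit false
set_option linter.unusedSectionVars false

/-!
# The unitary group: quasi-reflections and transitivity on unit vectors
-/

namespace Cfsg.Agent.Lib.H2.Unitary

open Matrix Cfsg.Agent.Lib.H4

variable {F : Type*} [Field F] [Fintype F] {q : ℕ} {n : ℕ}

theorem mem_GU_iff (g : GL (Fin n) F) :
    g ∈ Cfsg.GU n F q ↔ ∀ u v : Fin n → F,
      Cfsg.hermForm n F q ((g : Matrix (Fin n) (Fin n) F) *ᵥ u)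
        ((g : Matrix (Fin n) (Fin n) F) *ᵥ v) = Cfsg.hermForm n F q u v := Iff.rfl

theorem hermForm_sub_right (hF : Fintype.card F = q ^ 2) (u v v' : Fin n → F) :
    Cfsg.hermForm n F q u (v - v') = Cfsg.hermForm n F q u v - Cfsg.hermForm n F q u v' := by
  have := hermForm_add_right n hF u (v - v') v'
  rw [sub_add_cancel] at this
  rw [this, add_sub_cancel_right]

theorem hermForm_sub_left (u u' v : Fin n → F) :
    Cfsg.hermForm n F q (u - u') v = Cfsg.hermForm n F q u v - Cfsg.hermForm n F q u' v := by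
  have := hermForm_add_left (q := q) n (u - u') u' v
  rw [sub_add_cancel] at this
  rw [this, add_sub_cancel_right]

/-- the quasi-reflection preserves the form -/
theorem qr_preserve (hF : Fintype.card F = q ^ 2) (w : Fin n → F) (c : F)
    (hc : c + c ^ q + c * c ^ q * Cfsg.hermForm n F q w w = 0) (x y : Fin n → F) :
    Cfsg.hermForm n F q (Cfsg.unitaryTransvection n q w c *ᵥ x)
      (Cfsg.unitaryTransvection n q w c *ᵥ y) = Cfsg.hermForm n F q x y := by
  rw [unitaryTransvection_mulVec, unitaryTransvection_mulVec]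
  rw [hermForm_add_left, hermForm_add_right n hF, hermForm_add_right n hF, hermForm_smul_left,
    hermForm_smul_left, hermForm_smul_right, hermForm_smul_right, mul_pow, hermForm_conj n hF y w]
  linear_combination (Cfsg.hermForm n F q x w * Cfsg.hermForm n F q w y) * hc

theorem hermForm_self_eq_dot (w : Fin n → F) :
    (fun j => (w j) ^ q) ⬝ᵥ w = Cfsg.hermForm n F q w w := by
  simp only [dotProduct, Cfsg.hermForm]
  exact Finset.sum_congr rfl fun i _ => mul_comm _ _

theorem qr_mul (w : Fin n → F) (c d : F) :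
    Cfsg.unitaryTransvection n q w c * Cfsg.unitaryTransvection n q w d =
      Cfsg.unitaryTransvection n q w (c + d + c * d * Cfsg.hermForm n F q w w) := by
  unfold Cfsg.unitaryTransvection
  rw [add_mul, mul_add, mul_add, one_mul, mul_one, one_mul, Matrix.smul_mul, Matrix.mul_smul,
    Matrix.vecMulVec_mul_vecMulVec, hermForm_self_eq_dot, Matrix.vecMulVec_smul]
  module

theorem qr_zero (w : Fin n → F) : Cfsg.unitaryTransvection n q w 0 = 1 := by
  unfold Cfsg.unitaryTransvection
  rw [zero_smul, add_zero]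

/-- the quasi-reflection as an element of `GL` -/
def qrGL (w : Fin n → F) (c : F)
    (hc : c + c ^ q + c * c ^ q * Cfsg.hermForm n F q w w = 0) : GL (Fin n) F where
  val := Cfsg.unitaryTransvection n q w c
  inv := Cfsg.unitaryTransvection n q w (c ^ q)
  val_inv := by rw [qr_mul, hc, qr_zero]
  inv_val := by
    rw [qr_mul]
    have : c ^ q + c + c ^ q * c * Cfsg.hermForm n F q w w = 0 := by linear_combination hc
    rw [this, qr_zero]

theorem qrGL_mem (hF : Fintype.card F = q ^ 2) (w : Fin n → F) (c : F)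
    (hc : c + c ^ q + c * c ^ q * Cfsg.hermForm n F q w w = 0) :
    qrGL w c hc ∈ Cfsg.GU n F q := by
  rw [mem_GU_iff]
  exact qr_preserve hF w c hc

/-- scalar matrices of norm one -/
def scGL (l : Fˣ) : GL (Fin n) F := Matrix.GeneralLinearGroup.scalar (Fin n) l

theorem scGL_mulVec (l : Fˣ) (x : Fin n → F) :
    ((scGL l : GL (Fin n) F) : Matrix (Fin n) (Fin n) F) *ᵥ x = (l : F) • x := by
  show Matrix.scalar (Fin n) (l : F) *ᵥ x = (l : F) • x
  rw [Matrix.scalar_apply, ← Matrix.smul_one_eq_diagonal, Matrix.smul_mulVec, Matrix.one_mulVec]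

theorem scGL_mem (l : Fˣ) (hl : (l : F) * (l : F) ^ q = 1) : scGL l ∈ Cfsg.GU n F q := by
  rw [mem_GU_iff]
  intro u v
  rw [scGL_mulVec, scGL_mulVec, hermForm_smul_left, hermForm_smul_right, ← mul_assoc, hl, one_mul]

/-- a norm-one scalar different from `1` -/
theorem exists_norm_one_ne_one (hF : Fintype.card F = q ^ 2) :
    ∃ l : Fˣ, (l : F) * (l : F) ^ q = 1 ∧ (l : F) ≠ 1 := by
  have hq := Herm.two_le_q hF
  have h1 := Herm.card_N_fiber hF 1 one_ne_zero (one_pow q)
  have hfin : Finite {x : F // Herm.N q x = 1} := inferInstance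
  have hnt : Nontrivial {x : F // Herm.N q x = 1} := by
    rw [← Finite.one_lt_card_iff_nontrivial, h1]; omega
  obtain ⟨x, hx⟩ := exists_ne (⟨1, by simp [Herm.N]⟩ : {x : F // Herm.N q x = 1})
  have hx0 : x.1 ≠ 0 := by
    intro h0
    have := x.2
    rw [Herm.N, h0, zero_mul] at this
    exact zero_ne_one this
  refine ⟨Units.mk0 x.1 hx0, x.2, ?_⟩
  intro h
  apply hx
  exact Subtype.ext h

/-- one quasi-reflection maps `u` to `v` when `h(u, v) ≠ 1` -/
theorem exists_of_ne_one (hF : Fintype.card F = q ^ 2) (u v : Fin n → F)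
    (hu : Cfsg.hermForm n F q u u = 1) (hv : Cfsg.hermForm n F q v v = 1)
    (huv : Cfsg.hermForm n F q u v ≠ 1) :
    ∃ g ∈ Cfsg.GU n F q, (g : Matrix (Fin n) (Fin n) F) *ᵥ u = v := by
  obtain ⟨φ, hφ, hφ2⟩ := exists_frob hF
  set a := 1 - Cfsg.hermForm n F q u v with ha
  have ha0 : a ≠ 0 := sub_ne_zero.2 (Ne.symm huv)
  have hφa0 : φ a ≠ 0 := by
    intro h0
    apply ha0
    rw [← hφ2 a, h0, map_zero]
  have hφa : φ a = 1 - Cfsg.hermForm n F q v u := by
    rw [ha, map_sub, map_one, hφ, hermForm_conj n hF]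
  set w := u - v with hw
  have huw : Cfsg.hermForm n F q u w = a := by
    rw [hw, hermForm_sub_right hF, hu]
  have hww : Cfsg.hermForm n F q w w = a + φ a := by
    rw [hw, hermForm_sub_left, hermForm_sub_right hF, hermForm_sub_right hF, hu, hv, hφa, ha]
    ring
  have hcq : (-a⁻¹) ^ q = -(φ a)⁻¹ := by
    rw [← hφ, map_neg, map_inv₀]
  have hc : (-a⁻¹) + (-a⁻¹) ^ q + (-a⁻¹) * (-a⁻¹) ^ q * Cfsg.hermForm n F q w w = 0 := by
    rw [hcq, hww]
    field_simp
    ring
  refine ⟨qrGL w (-a⁻¹) hc, qrGL_mem hF w _ hc, ?_⟩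
  show Cfsg.unitaryTransvection n q w (-a⁻¹) *ᵥ u = v
  rw [unitaryTransvection_mulVec, huw, neg_mul, inv_mul_cancel₀ ha0, neg_smul, one_smul, hw]
  abel

/-- `GU_n` is transitive on vectors of norm one -/
theorem exists_GU_mulVec_eq (hF : Fintype.card F = q ^ 2) (u v : Fin n → F)
    (hu : Cfsg.hermForm n F q u u = 1) (hv : Cfsg.hermForm n F q v v = 1) :
    ∃ g ∈ Cfsg.GU n F q, (g : Matrix (Fin n) (Fin n) F) *ᵥ u = v := by
  by_cases huv : Cfsg.hermForm n F q u v = 1
  · obtain ⟨l, hl, hl1⟩ := exists_norm_one_ne_one hF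
    have hu' : Cfsg.hermForm n F q ((l : F) • u) ((l : F) • u) = 1 := by
      rw [hermForm_smul_left, hermForm_smul_right, ← mul_assoc, hl, one_mul, hu]
    have huv' : Cfsg.hermForm n F q ((l : F) • u) v ≠ 1 := by
      rw [hermForm_smul_left, huv, mul_one]
      exact hl1
    obtain ⟨g, hg, hgu⟩ := exists_of_ne_one hF _ v hu' hv huv'
    refine ⟨g * scGL l, mul_mem hg (scGL_mem l hl), ?_⟩
    rw [Units.val_mul, ← Matrix.mulVec_mulVec, scGL_mulVec, hgu]
  · exact exists_of_ne_one hF u v hu hv huv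

end Cfsg.Agent.Lib.H2.Unitary
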