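import Mathlib
import Cfsg.Agent.Lib.H2.Unitary1
import Cfsg.Agent.Lib.H2.BlockExt

set_option autoImplicit false
set_option linter.unusedSectionVars false

/-!
# The order of the general unitary group
-/

namespace Cfsg.Agent.Lib.H2.Unitary

open Matrix Cfsg.Agent.Lib.H4 Cfsg.Agent.Lib.H2.BlockExt

variable {F : Type*} [Field F] [Fintype F] {q : ℕ} {n : ℕ}

theorem hermForm_snoc (u v : Fin n → F) (s t : F) :
    Cfsg.hermForm (n + 1) F q (Fin.snoc u s : Fin (n + 1) → F) (Fin.snoc v t : Fin (n + 1) → F) =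
      Cfsg.hermForm n F q u v + s * t ^ q := by
  simp only [Cfsg.hermForm, Fin.sum_univ_castSucc, Fin.snoc_castSucc, Fin.snoc_last]

theorem hermForm_eLast (hq : q ≠ 0) (x : Fin (n + 1) → F) :
    Cfsg.hermForm (n + 1) F q x (eLast F n) = x (Fin.last n) := by
  rw [← Fin.snoc_init_self x, eLast, hermForm_snoc]
  simp [Cfsg.hermForm, Fin.snoc_last, zero_pow hq]

theorem hermForm_eLast_self (hq : q ≠ 0) :
    Cfsg.hermForm (n + 1) F q (eLast F n) (eLast F n) = 1 := by
  rw [hermForm_eLast hq]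
  simp [eLast]

/-- the block embedding `GU_n → GU_(n+1)` -/
def psi : Cfsg.GU n F q →* Cfsg.GU (n + 1) F q where
  toFun g := ⟨extGL g.1, by
    rw [mem_GU_iff]
    intro u v
    rw [← Fin.snoc_init_self u, ← Fin.snoc_init_self v, extGL_val, extM_mulVec_snoc,
      extM_mulVec_snoc, hermForm_snoc, hermForm_snoc, (mem_GU_iff g.1).1 g.2]⟩
  map_one' := by
    apply Subtype.ext
    simp
  map_mul' a b := by
    apply Subtype.ext
    simp

theorem psi_val (g : Cfsg.GU n F q) : ((psi g : Cfsg.GU (n + 1) F q) : GL (Fin (n + 1)) F) = extGL g.1 :=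
  rfl

theorem psi_injective : Function.Injective (psi (F := F) (q := q) (n := n)) := by
  intro a b h
  apply Subtype.ext
  apply extGL_injective
  rw [← psi_val, ← psi_val, h]

/-- the unit sphere -/
abbrev Sphere (n : ℕ) (F : Type*) [Field F] (q : ℕ) : Type _ :=
  {v : Fin n → F // Cfsg.hermForm n F q v v = 1}

/-- the action of `GU_n` on the unit sphere -/
@[instance_reducible]
def actSphere : MulAction (Cfsg.GU n F q) (Sphere n F q) where
  smul g v := ⟨((g : GL (Fin n) F) : Matrix (Fin n) (Fin n) F) *ᵥ v.1, by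
    rw [(mem_GU_iff g.1).1 g.2]; exact v.2⟩
  one_smul v := by
    apply Subtype.ext
    show ((1 : GL (Fin n) F) : Matrix (Fin n) (Fin n) F) *ᵥ v.1 = v.1
    rw [Units.val_one, Matrix.one_mulVec]
  mul_smul g h v := by
    apply Subtype.ext
    show ((g.1 * h.1 : GL (Fin n) F) : Matrix (Fin n) (Fin n) F) *ᵥ v.1 =
      (g.1 : Matrix (Fin n) (Fin n) F) *ᵥ ((h.1 : Matrix (Fin n) (Fin n) F) *ᵥ v.1)
    rw [Units.val_mul, Matrix.mulVec_mulVec]

attribute [local instance] actSphere

theorem smul_val (g : Cfsg.GU n F q) (v : Sphere n F q) :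
    (g • v).1 = ((g : GL (Fin n) F) : Matrix (Fin n) (Fin n) F) *ᵥ v.1 := rfl

theorem isPretransitive (hF : Fintype.card F = q ^ 2) :
    MulAction.IsPretransitive (Cfsg.GU n F q) (Sphere n F q) := by
  constructor
  intro u v
  obtain ⟨g, hg, hgu⟩ := exists_GU_mulVec_eq hF u.1 v.1 u.2 v.2
  exact ⟨⟨g, hg⟩, Subtype.ext hgu⟩

/-- the base point of the sphere -/
def basePt (hq : q ≠ 0) : Sphere (n + 1) F q := ⟨eLast F n, hermForm_eLast_self hq⟩

theorem stabilizer_eq_range (hq : q ≠ 0) :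
    MulAction.stabilizer (Cfsg.GU (n + 1) F q) (basePt (F := F) (n := n) hq) =
      (psi (F := F) (q := q) (n := n)).range := by
  ext g
  rw [MulAction.mem_stabilizer_iff, MonoidHom.mem_range]
  constructor
  · intro hg
    have hfix : ((g : GL (Fin (n + 1)) F) : Matrix _ _ F) *ᵥ eLast F n = eLast F n :=
      congrArg Subtype.val hg
    have hginv : ((g⁻¹ : Cfsg.GU (n + 1) F q) : GL (Fin (n + 1)) F) = (g : GL (Fin (n + 1)) F)⁻¹ := rfl
    have hfix' : (((g : GL (Fin (n + 1)) F)⁻¹ : GL (Fin (n + 1)) F) : Matrix _ _ F) *ᵥ eLast F n =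
        eLast F n := by
      nth_rewrite 1 [← hfix]
      rw [Matrix.mulVec_mulVec, ← Units.val_mul, inv_mul_cancel, Units.val_one, Matrix.one_mulVec]
    -- the last row
    have hrow : ∀ (k : Cfsg.GU (n + 1) F q),
        ((k : GL (Fin (n + 1)) F) : Matrix _ _ F) *ᵥ eLast F n = eLast F n →
        ∀ j : Fin n, ((k : GL (Fin (n + 1)) F) : Matrix _ _ F) (Fin.last n) j.castSucc = 0 := by
      intro k hk j
      have h1 := (mem_GU_iff k.1).1 k.2 (Pi.single j.castSucc 1) (eLast F n)
      rw [hk, hermForm_eLast hq, hermForm_eLast hq, Matrix.mulVec_single_one] at h1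
      rw [show ((k : GL (Fin (n + 1)) F) : Matrix _ _ F) (Fin.last n) j.castSucc =
        (((k : GL (Fin (n + 1)) F) : Matrix _ _ F).col j.castSucc) (Fin.last n) from rfl, h1]
      simp [Fin.castSucc_ne_last]
    have e1 := eq_extM_of _ hfix (hrow g hfix)
    have e2 := eq_extM_of _ hfix' (hrow g⁻¹ (by rw [hginv]; exact hfix'))
    set B : Matrix (Fin n) (Fin n) F :=
      ((g : GL (Fin (n + 1)) F) : Matrix (Fin (n + 1)) (Fin (n + 1)) F).submatrix
        Fin.castSucc Fin.castSucc with hB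
    set B' : Matrix (Fin n) (Fin n) F :=
      (((g : GL (Fin (n + 1)) F)⁻¹ : GL (Fin (n + 1)) F) :
        Matrix (Fin (n + 1)) (Fin (n + 1)) F).submatrix Fin.castSucc Fin.castSucc with hB'
    have hBB' : B * B' = 1 := by
      apply extM_injective
      rw [extM_mul, ← e1, ← e2, ← Units.val_mul, mul_inv_cancel, Units.val_one, extM_one]
    have hB'B : B' * B = 1 := by
      apply extM_injective
      rw [extM_mul, ← e1, ← e2, ← Units.val_mul, inv_mul_cancel, Units.val_one, extM_one]
    let b : GL (Fin n) F := ⟨B, B', hBB', hB'B⟩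
    have hb : b ∈ Cfsg.GU n F q := by
      rw [mem_GU_iff]
      intro u v
      have h1 := (mem_GU_iff g.1).1 g.2 (Fin.snoc u 0) (Fin.snoc v 0)
      rw [e1, extM_mulVec_snoc, extM_mulVec_snoc, hermForm_snoc, hermForm_snoc] at h1
      exact add_right_cancel h1
    refine ⟨⟨b, hb⟩, ?_⟩
    apply Subtype.ext
    apply Units.ext
    rw [psi_val, extGL_val]
    exact e1.symm
  · rintro ⟨b, rfl⟩
    apply Subtype.ext
    show ((psi b : Cfsg.GU (n + 1) F q) : GL (Fin (n + 1)) F).1 *ᵥ eLast F n = eLast F n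
    rw [psi_val, extGL_val, extM_mulVec_eLast]

theorem card_GU_succ (hF : Fintype.card F = q ^ 2) :
    Nat.card (Cfsg.GU (n + 1) F q) = Nat.card (Cfsg.GU n F q) * Nat.card (Sphere (n + 1) F q) := by
  have := isPretransitive (n := n + 1) hF
  have hq : q ≠ 0 := by
    have := Herm.two_le_q hF
    omega
  have h1 := Subgroup.card_mul_index
    (MulAction.stabilizer (Cfsg.GU (n + 1) F q) (basePt (F := F) (n := n) hq))
  rw [MulAction.index_stabilizer_of_transitive, stabilizer_eq_range hq,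
    ← Nat.card_congr (MonoidHom.ofInjective psi_injective).toEquiv] at h1
  exact h1.symm

end Cfsg.Agent.Lib.H2.Unitary
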