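import Mathlib
import Cfsg.Agent.Lib.H2.Unitary2

set_option autoImplicit false
set_option linter.unusedSectionVars false

/-!
# The order formula for `GU_n(q)`
-/

namespace Cfsg.Agent.Lib.H2.Unitary

open Matrix

variable {F : Type*} [Field F] [Fintype F] {q : ℕ}

/-- the order formula -/
def ordGU (q n : ℕ) : ℕ :=
  q ^ (n * (n - 1) / 2) * ∏ i ∈ Finset.range n, (if Even i then q ^ (i + 1) + 1 else q ^ (i + 1) - 1)

theorem ordGU_succ (q n : ℕ) :
    ordGU q (n + 1) = ordGU q n *
      (if Even (n + 1) then q ^ (n + 1 - 1) * (q ^ (n + 1) - 1)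
        else q ^ (n + 1 - 1) * (q ^ (n + 1) + 1)) := by
  unfold ordGU
  rw [Nat.triangle_succ, Finset.prod_range_succ, pow_add, Nat.add_sub_cancel]
  by_cases he : Even n
  · rw [if_pos he, if_neg (by rw [Nat.even_add_one]; exact not_not.2 he)]
    ring
  · rw [if_neg he, if_pos (by rw [Nat.even_add_one]; exact he)]
    ring

theorem card_GU (hF : Fintype.card F = q ^ 2) (n : ℕ) :
    Nat.card (Cfsg.GU n F q) = ordGU q n := by
  induction n with
  | zero =>
    have : Subsingleton (GL (Fin 0) F) := ⟨fun a b => Units.ext (Subsingleton.elim _ _)⟩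
    have h1 : Nat.card (Cfsg.GU 0 F q) = 1 := Nat.card_eq_one_iff_unique.2 ⟨inferInstance, ⟨1⟩⟩
    rw [h1]
    simp [ordGU]
  | succ n ih =>
    rw [card_GU_succ hF, ih, ordGU_succ, Herm.card_norm_one hF (n + 1)]

end Cfsg.Agent.Lib.H2.Unitary
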