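import Mathlib
import Cfsg.Agent.Lib.H2.Unitary3

set_option autoImplicit false
set_option linter.unusedSectionVars false

/-!
# The order of `SU_n(q)`
-/

namespace Cfsg.Agent.Lib.H2.Unitary

open Matrix Cfsg.Agent.Lib.H4

variable {F : Type*} [Field F] [Fintype F] {q : ℕ} {n : ℕ}

/-- the determinant on `GU_n` -/
def detGU (n : ℕ) (F : Type*) [Field F] (q : ℕ) : Cfsg.GU n F q →* Fˣ :=
  (Matrix.GeneralLinearGroup.det).comp (Cfsg.GU n F q).subtype

theorem detGU_val (g : Cfsg.GU n F q) :
    ((detGU n F q g : Fˣ) : F) = ((g : GL (Fin n) F) : Matrix (Fin n) (Fin n) F).det := rfl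

theorem hermForm_single (i j : Fin n) (hq : q ≠ 0) :
    Cfsg.hermForm n F q (Pi.single i 1) (Pi.single j 1) = if i = j then 1 else 0 := by
  classical
  unfold Cfsg.hermForm
  by_cases hij : i = j
  · subst hij
    rw [if_pos rfl, Finset.sum_eq_single i]
    · simp
    · intro b _ hb
      simp [hb]
    · intro h; exact absurd (Finset.mem_univ i) h
  · rw [if_neg hij]
    apply Finset.sum_eq_zero
    intro k _
    by_cases hki : k = i
    · subst hki
      simp [hij, zero_pow hq]
    · simp [Pi.single_apply, hki]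

/-- matrix form of the isometry condition: `gᵀ * ḡ = 1` -/
theorem transpose_mul_map (hF : Fintype.card F = q ^ 2) (g : GL (Fin n) F)
    (hg : g ∈ Cfsg.GU n F q) :
    (g : Matrix (Fin n) (Fin n) F)ᵀ * (g : Matrix (Fin n) (Fin n) F).map (fun x => x ^ q) = 1 := by
  have hq : q ≠ 0 := by
    have := Herm.two_le_q hF
    omega
  ext i j
  have h1 := (mem_GU_iff g).1 hg (Pi.single i 1) (Pi.single j 1)
  rw [hermForm_single i j hq, Matrix.mulVec_single_one, Matrix.mulVec_single_one] at h1
  rw [Matrix.mul_apply, Matrix.one_apply, ← h1]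
  rfl

theorem det_norm (hF : Fintype.card F = q ^ 2) (g : GL (Fin n) F) (hg : g ∈ Cfsg.GU n F q) :
    (g : Matrix (Fin n) (Fin n) F).det * ((g : Matrix (Fin n) (Fin n) F).det) ^ q = 1 := by
  obtain ⟨φ, hφ, -⟩ := exists_frob hF
  have h1 := congrArg Matrix.det (transpose_mul_map hF g hg)
  rw [Matrix.det_mul, Matrix.det_transpose, Matrix.det_one] at h1
  have h2 : (g : Matrix (Fin n) (Fin n) F).map (fun x => x ^ q) =
      φ.mapMatrix (g : Matrix (Fin n) (Fin n) F) := by
    ext i j
    simp [hφ]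
  rw [h2, ← RingHom.map_det, hφ] at h1
  exact h1

/-- a diagonal matrix with one entry `l` of norm one -/
def dGU (i₀ : Fin n) (l : Fˣ) : GL (Fin n) F where
  val := Matrix.diagonal (fun i => if i = i₀ then (l : F) else 1)
  inv := Matrix.diagonal (fun i => if i = i₀ then ((l⁻¹ : Fˣ) : F) else 1)
  val_inv := by
    rw [Matrix.diagonal_mul_diagonal, ← Matrix.diagonal_one]
    congr 1
    ext i
    split_ifs <;> simp
  inv_val := by
    rw [Matrix.diagonal_mul_diagonal, ← Matrix.diagonal_one]
    congr 1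
    ext i
    split_ifs <;> simp

theorem dGU_mem (i₀ : Fin n) (l : Fˣ) (hl : (l : F) * (l : F) ^ q = 1) :
    dGU i₀ l ∈ Cfsg.GU n F q := by
  rw [mem_GU_iff]
  intro u v
  show Cfsg.hermForm n F q (Matrix.diagonal _ *ᵥ u) (Matrix.diagonal _ *ᵥ v) = _
  unfold Cfsg.hermForm
  apply Finset.sum_congr rfl
  intro i _
  rw [Matrix.mulVec_diagonal, Matrix.mulVec_diagonal]
  split_ifs
  · rw [mul_pow]
    linear_combination (u i * v i ^ q) * hl
  · simp

theorem dGU_det (i₀ : Fin n) (l : Fˣ) :
    ((dGU i₀ l : GL (Fin n) F) : Matrix (Fin n) (Fin n) F).det = l := by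
  show (Matrix.diagonal _).det = _
  rw [Matrix.det_diagonal, Finset.prod_ite_eq' Finset.univ i₀]
  simp

theorem range_detGU (hF : Fintype.card F = q ^ 2) (hn : 1 ≤ n) :
    (detGU n F q).range = (powMonoidHom (q + 1) : Fˣ →* Fˣ).ker := by
  ext l
  rw [MonoidHom.mem_range, MonoidHom.mem_ker, powMonoidHom_apply]
  constructor
  · rintro ⟨g, rfl⟩
    apply Units.ext
    rw [Units.val_pow_eq_pow_val, detGU_val, Units.val_one, pow_succ']
    exact det_norm hF g.1 g.2
  · intro hl
    have hl' : (l : F) * (l : F) ^ q = 1 := by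
      have := congrArg Units.val hl
      rw [Units.val_pow_eq_pow_val, Units.val_one, pow_succ'] at this
      exact this
    refine ⟨⟨dGU ⟨0, hn⟩ l, dGU_mem _ l hl'⟩, ?_⟩
    apply Units.ext
    rw [detGU_val]
    exact dGU_det _ l

/-- `SU_n` is the kernel of the determinant on `GU_n` -/
def suEquivKer : Cfsg.SU n F q ≃ (detGU n F q).ker where
  toFun A := ⟨⟨Matrix.SpecialLinearGroup.toGL A.1, A.2⟩, by
    rw [MonoidHom.mem_ker]
    exact Matrix.SpecialLinearGroup.coeToGL_det A.1⟩
  invFun g := ⟨⟨((g.1 : Cfsg.GU n F q) : GL (Fin n) F).1, by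
      have := g.2
      rw [MonoidHom.mem_ker] at this
      have h2 := congrArg Units.val this
      rw [detGU_val, Units.val_one] at h2
      exact h2⟩, g.1.2⟩
  left_inv A := by
    apply Subtype.ext
    apply Subtype.ext
    rfl
  right_inv g := by
    apply Subtype.ext
    apply Subtype.ext
    apply Units.ext
    rfl

theorem card_SU_mul (hF : Fintype.card F = q ^ 2) (hn : 1 ≤ n) :
    (q + 1) * Nat.card (Cfsg.SU n F q) = ordGU q n := by
  rw [← card_GU hF n, Nat.card_congr suEquivKer]
  have h1 := Subgroup.card_mul_index (detGU n F q).ker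
  rw [Subgroup.index_ker, range_detGU hF hn, Herm.card_ker_pow hF] at h1
  rw [← h1, mul_comm]

end Cfsg.Agent.Lib.H2.Unitary
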