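import Mathlib
import Cfsg.Agent.Lib.H2.Unitary4
import Cfsg.Agent.Lib.H2.SLCenterCard

set_option autoImplicit false
set_option linter.unusedSectionVars false

/-!
# The centre of `SU_n(q)`, `n ≥ 3`
-/

namespace Cfsg.Agent.Lib.H2.Unitary

open Matrix Cfsg.Agent.Lib.H4

variable {F : Type*} [Field F] [Fintype F] {q : ℕ} {n : ℕ}

theorem mem_SU_iff (A : SpecialLinearGroup (Fin n) F) :
    A ∈ Cfsg.SU n F q ↔ ∀ u v : Fin n → F,
      Cfsg.hermForm n F q ((A : Matrix (Fin n) (Fin n) F) *ᵥ u)
        ((A : Matrix (Fin n) (Fin n) F) *ᵥ v) = Cfsg.hermForm n F q u v := Iff.rfl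

/-- build an element of `SU` -/
def mkSU (M : Matrix (Fin n) (Fin n) F) (hdet : M.det = 1)
    (h : ∀ u v : Fin n → F, Cfsg.hermForm n F q (M *ᵥ u) (M *ᵥ v) = Cfsg.hermForm n F q u v) :
    Cfsg.SU n F q := ⟨⟨M, hdet⟩, h⟩

theorem mkSU_val (M : Matrix (Fin n) (Fin n) F) (hdet : M.det = 1)
    (h : ∀ u v : Fin n → F, Cfsg.hermForm n F q (M *ᵥ u) (M *ᵥ v) = Cfsg.hermForm n F q u v) :
    (((mkSU M hdet h : Cfsg.SU n F q) : SpecialLinearGroup (Fin n) F) :
      Matrix (Fin n) (Fin n) F) = M := rfl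

theorem mul_val_SU (A B : Cfsg.SU n F q) :
    (((A * B : Cfsg.SU n F q) : SpecialLinearGroup (Fin n) F) : Matrix (Fin n) (Fin n) F) =
      ((A : SpecialLinearGroup (Fin n) F) : Matrix (Fin n) (Fin n) F) *
        ((B : SpecialLinearGroup (Fin n) F) : Matrix (Fin n) (Fin n) F) := rfl

/-- the diagonal entries of `D_{ij}(l)` -/
def dEntry (i j : Fin n) (l : Fˣ) (m : Fin n) : F :=
  (if m = i then (l : F) else 1) * (if m = j then ((l⁻¹ : Fˣ) : F) else 1)

theorem diag_preserve (d : Fin n → F) (hd : ∀ m, d m * d m ^ q = 1) (u v : Fin n → F) :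
    Cfsg.hermForm n F q (Matrix.diagonal d *ᵥ u) (Matrix.diagonal d *ᵥ v) =
      Cfsg.hermForm n F q u v := by
  unfold Cfsg.hermForm
  apply Finset.sum_congr rfl
  intro i _
  rw [Matrix.mulVec_diagonal, Matrix.mulVec_diagonal, mul_pow]
  linear_combination (u i * v i ^ q) * hd i

theorem dEntry_norm (i j : Fin n) (l : Fˣ) (hl : (l : F) * (l : F) ^ q = 1) (m : Fin n) :
    dEntry i j l m * dEntry i j l m ^ q = 1 := by
  have hl' : ((l⁻¹ : Fˣ) : F) * ((l⁻¹ : Fˣ) : F) ^ q = 1 := by
    rw [Units.val_inv_eq_inv_val, inv_pow, ← mul_inv, hl, inv_one]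
  unfold dEntry
  by_cases h1 : m = i
  · by_cases h2 : m = j
    · rw [if_pos h1, if_pos h2, mul_pow]
      linear_combination ((l⁻¹ : Fˣ) : F) * ((l⁻¹ : Fˣ) : F) ^ q * hl + hl'
    · rw [if_pos h1, if_neg h2, mul_one]
      exact hl
  · by_cases h2 : m = j
    · rw [if_neg h1, if_pos h2, one_mul]
      exact hl'
    · rw [if_neg h1, if_neg h2, one_mul, one_pow, one_mul]

theorem dEntry_prod (i j : Fin n) (hij : i ≠ j) (l : Fˣ) : ∏ m, dEntry i j l m = 1 := by
  unfold dEntry
  rw [Finset.prod_mul_distrib, Finset.prod_ite_eq' Finset.univ i, Finset.prod_ite_eq' Finset.univ j]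
  simp

/-- the element `D_{ij}(l)` of `SU` -/
def dSU (i j : Fin n) (hij : i ≠ j) (l : Fˣ) (hl : (l : F) * (l : F) ^ q = 1) : Cfsg.SU n F q :=
  mkSU (Matrix.diagonal (dEntry i j l)) (by rw [Matrix.det_diagonal, dEntry_prod i j hij])
    (diag_preserve _ (dEntry_norm i j l hl))

/-- permutation matrices preserve the form -/
theorem perm_preserve (σ : Equiv.Perm (Fin n)) (u v : Fin n → F) :
    Cfsg.hermForm n F q (σ.permMatrix F *ᵥ u) (σ.permMatrix F *ᵥ v) = Cfsg.hermForm n F q u v := by
  rw [Matrix.permMatrix_mulVec, Matrix.permMatrix_mulVec]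
  unfold Cfsg.hermForm
  exact Equiv.sum_comp σ (fun i => u i * v i ^ q)

theorem neg_one_pow_q_succ (hF : Fintype.card F = q ^ 2) : (-1 : F) ^ (q + 1) = 1 := by
  rcases Nat.even_or_odd q with h | h
  · -- characteristic two
    have h2 : Even (Fintype.card F) := by
      rw [hF]; exact Nat.even_pow.2 ⟨h, two_ne_zero⟩
    have hc : ringChar F = 2 := by
      by_contra hne
      have := FiniteField.odd_card_of_char_ne_two hne
      rw [Nat.even_iff] at h2
      omega
    have : CharP F 2 := by rw [← hc]; exact ringChar.charP F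
    rw [CharTwo.neg_eq]; exact one_pow _
  · exact Even.neg_one_pow (Odd.add_one h)

/-- the sign entries of `W_{ij}` -/
def wEntry (i : Fin n) (m : Fin n) : F := if m = i then -1 else 1

theorem wEntry_norm (hF : Fintype.card F = q ^ 2) (i m : Fin n) :
    wEntry (F := F) i m * wEntry (F := F) i m ^ q = 1 := by
  unfold wEntry
  by_cases h : m = i
  · rw [if_pos h, ← pow_succ']; exact neg_one_pow_q_succ hF
  · rw [if_neg h, one_pow, one_mul]

/-- the monomial element `W_{ij}` of `SU` -/
def wSU (hF : Fintype.card F = q ^ 2) (i j : Fin n) (hij : i ≠ j) : Cfsg.SU n F q :=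
  mkSU (Matrix.diagonal (wEntry (F := F) i) * (Equiv.swap i j).permMatrix F)
    (by
      rw [Matrix.det_mul, Matrix.det_diagonal, Matrix.det_permutation, Equiv.Perm.sign_swap hij]
      unfold wEntry
      rw [Finset.prod_ite_eq' Finset.univ i]
      simp)
    (by
      intro u v
      rw [← Matrix.mulVec_mulVec, ← Matrix.mulVec_mulVec, diag_preserve _ (wEntry_norm hF i),
        perm_preserve])

theorem wSU_val (hF : Fintype.card F = q ^ 2) (i j : Fin n) (hij : i ≠ j) :
    (((wSU hF i j hij : Cfsg.SU n F q) : SpecialLinearGroup (Fin n) F) :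
      Matrix (Fin n) (Fin n) F) =
      Matrix.diagonal (wEntry (F := F) i) * (Equiv.swap i j).permMatrix F := rfl

/-- a norm-one scalar whose square is not `1` -/
theorem exists_norm_one_sq_ne_one (hF : Fintype.card F = q ^ 2) :
    ∃ l : Fˣ, (l : F) * (l : F) ^ q = 1 ∧ l ^ 2 ≠ 1 := by
  have hq := Herm.two_le_q hF
  by_contra hcon
  push Not at hcon
  have hK := Herm.card_ker_pow hF
  have hsub : ((powMonoidHom (q + 1) : Fˣ →* Fˣ).ker : Set Fˣ) ⊆ {1, -1} := by
    intro l hl
    have hl1 : l ^ (q + 1) = 1 := hl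
    have h2 : l ^ 2 = 1 := by
      apply hcon
      have := congrArg Units.val hl1
      rw [Units.val_pow_eq_pow_val, pow_succ'] at this
      simpa using this
    have h3 : (l - 1 : F) * (l + 1) = 0 := by
      have := congrArg Units.val h2
      rw [Units.val_pow_eq_pow_val] at this
      simp only [Units.val_one] at this
      linear_combination this
    rcases mul_eq_zero.1 h3 with h | h
    · left; exact Units.ext (by simpa using sub_eq_zero.1 h)
    · right
      refine Units.ext ?_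
      have : (l : F) = -1 := by linear_combination h
      simpa using this
  have h1 : Nat.card (powMonoidHom (q + 1) : Fˣ →* Fˣ).ker ≤ 2 := by
    rw [← SetLike.coe_sort_coe, Nat.card_coe_set_eq]
    calc Set.ncard ((powMonoidHom (q + 1) : Fˣ →* Fˣ).ker : Set Fˣ)
        ≤ Set.ncard ({1, -1} : Set Fˣ) := Set.ncard_le_ncard hsub (Set.toFinite _)
      _ ≤ 2 := by
        calc Set.ncard ({1, -1} : Set Fˣ) ≤ Set.ncard ({-1} : Set Fˣ) + 1 := Set.ncard_insert_le _ _
          _ = 2 := by rw [Set.ncard_singleton]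
  omega

/-- a central element of `SU_n` is diagonal -/
theorem center_offdiag (hF : Fintype.card F = q ^ 2) (A : Cfsg.SU n F q)
    (hA : A ∈ Subgroup.center (Cfsg.SU n F q)) (m i : Fin n) (hmi : m ≠ i) :
    ((A : SpecialLinearGroup (Fin n) F) : Matrix (Fin n) (Fin n) F) m i = 0 := by
  obtain ⟨l, hl, hl1⟩ := exists_norm_one_sq_ne_one hF
  have hcomm := (Subgroup.mem_center_iff.1 hA) (dSU i m (Ne.symm hmi) l hl)
  have h1 := congrArg (fun B : Cfsg.SU n F q =>
    ((B : SpecialLinearGroup (Fin n) F) : Matrix (Fin n) (Fin n) F) m i) hcomm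
  simp only [mul_val_SU] at h1
  rw [show ((dSU i m (Ne.symm hmi) l hl : Cfsg.SU n F q) : SpecialLinearGroup (Fin n) F).1 =
    Matrix.diagonal (dEntry i m l) from rfl, Matrix.diagonal_mul, Matrix.mul_diagonal] at h1
  have hdm : dEntry i m l m = ((l⁻¹ : Fˣ) : F) := by
    unfold dEntry
    rw [if_neg hmi, if_pos rfl, one_mul]
  have hdi : dEntry i m l i = l := by
    unfold dEntry
    rw [if_pos rfl, if_neg (Ne.symm hmi), mul_one]
  rw [hdm, hdi] at h1
  have h2 : ((A : SpecialLinearGroup (Fin n) F) : Matrix (Fin n) (Fin n) F) m i *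
      ((l : F) ^ 2 - 1) = 0 := by
    have hinv : ((l⁻¹ : Fˣ) : F) * (l : F) = 1 := by
      rw [← Units.val_mul, inv_mul_cancel, Units.val_one]
    linear_combination (-(l : F)) * h1 +
      ((A : SpecialLinearGroup (Fin n) F) : Matrix (Fin n) (Fin n) F) m i * hinv
  rcases mul_eq_zero.1 h2 with h | h
  · exact h
  · exfalso
    apply hl1
    apply Units.ext
    rw [Units.val_pow_eq_pow_val, Units.val_one]
    exact sub_eq_zero.1 h

/-- a central element of `SU_n` has constant diagonal -/
theorem center_diag (hF : Fintype.card F = q ^ 2) (A : Cfsg.SU n F q)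
    (hA : A ∈ Subgroup.center (Cfsg.SU n F q))
    (hoff : ∀ m i : Fin n, m ≠ i →
      ((A : SpecialLinearGroup (Fin n) F) : Matrix (Fin n) (Fin n) F) m i = 0)
    (i j : Fin n) (hij : i ≠ j) :
    ((A : SpecialLinearGroup (Fin n) F) : Matrix (Fin n) (Fin n) F) i i =
      ((A : SpecialLinearGroup (Fin n) F) : Matrix (Fin n) (Fin n) F) j j := by
  have hcomm := (Subgroup.mem_center_iff.1 hA) (wSU hF i j hij)
  have h1 := congrArg (fun B : Cfsg.SU n F q =>
    ((B : SpecialLinearGroup (Fin n) F) : Matrix (Fin n) (Fin n) F) i j) hcomm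
  simp only [mul_val_SU, wSU_val] at h1
  have hW : ∀ a b : Fin n, (Matrix.diagonal (wEntry (F := F) i) *
      (Equiv.swap i j).permMatrix F) a b = wEntry (F := F) i a *
        (if Equiv.swap i j a = b then 1 else 0) := by
    intro a b
    rw [Matrix.diagonal_mul, Equiv.Perm.permMatrix, PEquiv.toMatrix_toPEquiv_apply,
      Pi.single_apply]
    congr 1
    by_cases h : Equiv.swap i j a = b
    · rw [if_pos h, if_pos h.symm]
    · rw [if_neg h, if_neg (Ne.symm h)]
  rw [Matrix.mul_apply, Matrix.mul_apply, Finset.sum_eq_single j, Finset.sum_eq_single i] at h1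
  · rw [hW i j, Equiv.swap_apply_left, if_pos rfl] at h1
    have hw : wEntry (F := F) i i = -1 := by unfold wEntry; rw [if_pos rfl]
    rw [hw] at h1
    linear_combination h1
  · intro b _ hb
    rw [hoff i b (Ne.symm hb), zero_mul]
  · intro h; exact absurd (Finset.mem_univ i) h
  · intro b _ hb
    rw [hoff b j hb, mul_zero]
  · intro h; exact absurd (Finset.mem_univ j) h

end Cfsg.Agent.Lib.H2.Unitary
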