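import Mathlib
import Cfsg.Agent.Lib.H2.Unitary5

set_option autoImplicit false
set_option linter.unusedSectionVars false
set_option linter.unusedVariables false

/-!
# The centre of `SU_n(q)`, `n ≥ 2`, has order `gcd(n, q+1)`; the order of `PSU_n(q)`
-/

namespace Cfsg.Agent.Lib.H2.Unitary

open Matrix Cfsg.Agent.Lib.H4

variable {F : Type*} [Field F] [Fintype F] {q : ℕ} {n : ℕ}

/-- scalar matrices in `SU` -/
def scSU (l : Fˣ) (hn : (l : F) ^ n = 1) (hl : (l : F) * (l : F) ^ q = 1) : Cfsg.SU n F q :=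
  mkSU ((l : F) • (1 : Matrix (Fin n) (Fin n) F))
    (by rw [Matrix.det_smul, Matrix.det_one, mul_one, Fintype.card_fin, hn])
    (by
      intro u v
      rw [Matrix.smul_mulVec, Matrix.smul_mulVec, Matrix.one_mulVec, Matrix.one_mulVec,
        hermForm_smul_left, hermForm_smul_right, ← mul_assoc, hl, one_mul])

theorem scSU_val (l : Fˣ) (hn : (l : F) ^ n = 1) (hl : (l : F) * (l : F) ^ q = 1) :
    (((scSU l hn hl : Cfsg.SU n F q) : SpecialLinearGroup (Fin n) F) :
      Matrix (Fin n) (Fin n) F) = (l : F) • (1 : Matrix (Fin n) (Fin n) F) := rfl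

theorem scSU_mem_center (l : Fˣ) (hn : (l : F) ^ n = 1) (hl : (l : F) * (l : F) ^ q = 1) :
    (scSU l hn hl : Cfsg.SU n F q) ∈ Subgroup.center (Cfsg.SU n F q) := by
  rw [Subgroup.mem_center_iff]
  intro B
  apply Subtype.ext
  apply Subtype.ext
  show ((B : SpecialLinearGroup (Fin n) F) : Matrix (Fin n) (Fin n) F) *
      ((l : F) • (1 : Matrix (Fin n) (Fin n) F)) =
    ((l : F) • (1 : Matrix (Fin n) (Fin n) F)) *
      ((B : SpecialLinearGroup (Fin n) F) : Matrix (Fin n) (Fin n) F)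
  rw [Matrix.mul_smul, Matrix.smul_mul, Matrix.mul_one, Matrix.one_mul]

/-- a central element of `SU_n`, `n ≥ 2`, is a scalar matrix -/
theorem center_scalar (hF : Fintype.card F = q ^ 2) (hn : 1 ≤ n) (A : Cfsg.SU n F q)
    (hA : A ∈ Subgroup.center (Cfsg.SU n F q)) :
    ∃ l : Fˣ, ∃ (h1 : (l : F) ^ n = 1) (h2 : (l : F) * (l : F) ^ q = 1), A = scSU l h1 h2 := by
  have hoff := center_offdiag hF A hA
  have hdiag := center_diag hF A hA hoff
  set M : Matrix (Fin n) (Fin n) F := ((A : SpecialLinearGroup (Fin n) F) :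
    Matrix (Fin n) (Fin n) F) with hM
  let i₀ : Fin n := ⟨0, by omega⟩
  have hMa : M = (M i₀ i₀) • (1 : Matrix (Fin n) (Fin n) F) := by
    ext a b
    rw [Matrix.smul_apply, Matrix.one_apply, smul_eq_mul]
    by_cases hab : a = b
    · subst hab
      rw [if_pos rfl, mul_one]
      by_cases h : a = i₀
      · rw [h]
      · exact hdiag a i₀ h
    · rw [if_neg hab, mul_zero]
      exact hoff a b hab
  have hdet : M.det = 1 := (A : SpecialLinearGroup (Fin n) F).2
  have hpow : (M i₀ i₀) ^ n = 1 := by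
    rw [hMa, Matrix.det_smul, Matrix.det_one, mul_one, Fintype.card_fin] at hdet
    exact hdet
  have h0 : M i₀ i₀ ≠ 0 := by
    intro h
    rw [h, zero_pow (by omega)] at hpow
    exact zero_ne_one hpow
  have hnorm : M i₀ i₀ * (M i₀ i₀) ^ q = 1 := by
    have := A.2 (Pi.single i₀ 1) (Pi.single i₀ 1)
    change Cfsg.hermForm n F q (M *ᵥ Pi.single i₀ 1) (M *ᵥ Pi.single i₀ 1) = _ at this
    have hs : Cfsg.hermForm n F q (Pi.single i₀ (1 : F)) (Pi.single i₀ 1) = 1 := by
      unfold Cfsg.hermForm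
      rw [Finset.sum_eq_single i₀]
      · rw [Pi.single_eq_same, one_pow, one_mul]
      · intro b _ hb
        rw [Pi.single_eq_of_ne hb, zero_mul]
      · intro h; exact absurd (Finset.mem_univ _) h
    rw [hMa, Matrix.smul_mulVec, Matrix.one_mulVec, hermForm_smul_left, hermForm_smul_right,
      hs, mul_one] at this
    exact this
  refine ⟨Units.mk0 _ h0, hpow, hnorm, ?_⟩
  apply Subtype.ext
  apply Subtype.ext
  exact hMa

/-- `(q+1) ∣ |F| - 1` -/
theorem succ_dvd_card_sub_one (hF : Fintype.card F = q ^ 2) : (q + 1) ∣ Nat.card F - 1 := by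
  rw [Nat.card_eq_fintype_card, hF]
  have hq := Herm.two_le_q hF
  obtain ⟨r, rfl⟩ : ∃ r, q = r + 1 := ⟨q - 1, by omega⟩
  refine ⟨r, ?_⟩
  have : (r + 1) ^ 2 = (r + 1 + 1) * r + 1 := by ring
  rw [this, Nat.add_sub_cancel]

/-- The centre of `SU_n(q)`, `n ≥ 1`... has order `gcd(n, q+1)`. -/
theorem card_center_SU (hF : Fintype.card F = q ^ 2) (hn : 1 ≤ n) :
    Nat.card (Subgroup.center (Cfsg.SU n F q)) = Nat.gcd n (q + 1) := by
  have hk : NeZero (Nat.gcd n (q + 1)) := ⟨Nat.gcd_ne_zero_left (by omega)⟩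
  have hroots : Nat.card (rootsOfUnity (Nat.gcd n (q + 1)) F) = Nat.gcd n (q + 1) := by
    rw [card_rootsOfUnity_field]
    exact Nat.gcd_eq_left ((Nat.gcd_dvd_right _ _).trans (succ_dvd_card_sub_one hF))
  rw [← hroots]
  symm
  have key : ∀ l : rootsOfUnity (Nat.gcd n (q + 1)) F,
      ((l : Fˣ) : F) ^ n = 1 ∧ ((l : Fˣ) : F) * ((l : Fˣ) : F) ^ q = 1 := by
    intro l
    have h := l.2
    rw [mem_rootsOfUnity, pow_gcd_eq_one] at h
    constructor
    · have := congrArg Units.val h.1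
      rwa [Units.val_pow_eq_pow_val] at this
    · have := congrArg Units.val h.2
      rwa [Units.val_pow_eq_pow_val, pow_succ'] at this
  let f : rootsOfUnity (Nat.gcd n (q + 1)) F → Subgroup.center (Cfsg.SU n F q) := fun l =>
    ⟨scSU (l : Fˣ) (key l).1 (key l).2, scSU_mem_center _ _ _⟩
  apply Nat.card_congr (Equiv.ofBijective f ⟨?_, ?_⟩)
  · intro l l' h
    have h1 := congrArg (fun B : Subgroup.center (Cfsg.SU n F q) =>
      (((B : Cfsg.SU n F q) : SpecialLinearGroup (Fin n) F) : Matrix (Fin n) (Fin n) F)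
        ⟨0, by omega⟩ ⟨0, by omega⟩) h
    simp only [f, scSU_val, Matrix.smul_apply, Matrix.one_apply_eq, smul_eq_mul, mul_one] at h1
    exact Subtype.ext (Units.ext h1)
  · rintro ⟨A, hA⟩
    obtain ⟨l, h1, h2, rfl⟩ := center_scalar hF hn A hA
    have hl : l ∈ rootsOfUnity (Nat.gcd n (q + 1)) F := by
      rw [mem_rootsOfUnity, pow_gcd_eq_one]
      constructor
      · apply Units.ext
        rw [Units.val_pow_eq_pow_val]; exact h1
      · apply Units.ext
        rw [Units.val_pow_eq_pow_val, pow_succ']; exact h2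
    exact ⟨⟨l, hl⟩, rfl⟩

end Cfsg.Agent.Lib.H2.Unitary
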