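import Mathlib
import Cfsg.Agent.Lib.H2.Unitary6
import Cfsg.Agent.Lib.H12.CardSL

set_option autoImplicit false
set_option linter.unusedSectionVars false
set_option linter.unusedVariables false

namespace Cfsg.Agent.Lib.H2.SU2

open Matrix Cfsg.Agent.Lib.H4 Cfsg.Agent.Lib.H2.Unitary

variable {F K : Type*} [Field F] [Fintype F] [Field K] [Fintype K] {q : ℕ}

/-- the field with `q` elements embeds in the field with `q²` elements -/
theorem exists_ringHom (hF : Fintype.card F = q ^ 2) (hK : Fintype.card K = q) :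
    Nonempty (K →+* F) := by
  obtain ⟨p, hp⟩ := CharP.exists K
  obtain ⟨n, hprime, hn⟩ := FiniteField.card K p
  have : Fact p.Prime := ⟨hprime⟩
  have hpF : CharP F p := by
    obtain ⟨p', hp'⟩ := CharP.exists F
    obtain ⟨n', hprime', hn'⟩ := FiniteField.card F p'
    have h1 : p ∣ p' ^ (n' : ℕ) := by
      rw [← hn', hF, ← hK, hn, ← pow_mul]
      exact dvd_pow_self p (by positivity)
    have h2 : p = p' := (Nat.prime_dvd_prime_iff_eq hprime hprime').1 (hprime.dvd_of_dvd_pow h1)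
    rw [h2]; exact hp'
  let : Algebra (ZMod p) K := ZMod.algebra _ _
  let : Algebra (ZMod p) F := ZMod.algebra _ _
  have h1 := FiniteField.pow_finrank_eq_card p K
  have h2 := FiniteField.pow_finrank_eq_card p F
  have h3 : Module.finrank (ZMod p) F = 2 * Module.finrank (ZMod p) K := by
    apply Nat.pow_right_injective hprime.two_le
    show p ^ _ = p ^ _
    rw [h2, hF, ← hK, ← h1, ← pow_mul, mul_comm]
  obtain ⟨f⟩ := FiniteField.nonempty_algHom_of_finrank_dvd (F := ZMod p) (K := K) (L := F)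
    (by rw [h3]; exact dvd_mul_left _ _)
  exact ⟨f.toRingHom⟩


variable {n : ℕ}

theorem hermForm_eq_dot (φ : F →+* F) (hφ : ∀ x, φ x = x ^ q) (u v : Fin n → F) :
    Cfsg.hermForm n F q u v = u ⬝ᵥ (φ ∘ v) := by
  unfold Cfsg.hermForm dotProduct
  apply Finset.sum_congr rfl
  intro i _
  rw [Function.comp_apply, hφ]

/-- matrix criterion for preserving the hermitian form -/
theorem preserves_of_transpose_mul_map (φ : F →+* F) (hφ : ∀ x, φ x = x ^ q)
    (M : Matrix (Fin n) (Fin n) F) (hM : Mᵀ * φ.mapMatrix M = 1) (u v : Fin n → F) :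
    Cfsg.hermForm n F q (M *ᵥ u) (M *ᵥ v) = Cfsg.hermForm n F q u v := by
  rw [hermForm_eq_dot φ hφ, hermForm_eq_dot φ hφ]
  have h1 : φ ∘ (M *ᵥ v) = φ.mapMatrix M *ᵥ (φ ∘ v) := by
    ext i; exact (RingHom.map_mulVec φ M v i)
  have h2 : ∀ x : Fin n → F, (M *ᵥ u) ⬝ᵥ x = u ⬝ᵥ (Mᵀ *ᵥ x) := by
    intro x
    rw [dotProduct_comm, Matrix.dotProduct_mulVec, ← Matrix.mulVec_transpose, dotProduct_comm]
  rw [h1, h2, Matrix.mulVec_mulVec, hM, Matrix.one_mulVec]


/-- the standard alternating `2 × 2` matrix -/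
def J2 (R : Type*) [CommRing R] : Matrix (Fin 2) (Fin 2) R := !![0, 1; -1, 0]

theorem transpose_J2_mul {R : Type*} [CommRing R] (A : Matrix (Fin 2) (Fin 2) R) :
    Aᵀ * J2 R * A = A.det • J2 R := by
  unfold J2
  ext i j
  fin_cases i <;> fin_cases j <;>
    simp [Matrix.det_fin_two, Matrix.mul_apply, Fin.sum_univ_two] <;> ring

/-- an element not fixed by the Frobenius -/
theorem exists_not_fixed (hF : Fintype.card F = q ^ 2) : ∃ x : F, x ^ q ≠ x := by
  have hq := Herm.two_le_q hF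
  by_contra hcon
  push Not at hcon
  have h := IsCyclic.card_powMonoidHom_ker (G := Fˣ) (q - 1)
  have htop : (powMonoidHom (q - 1) : Fˣ →* Fˣ).ker = ⊤ := by
    rw [eq_top_iff]
    intro u _
    rw [MonoidHom.mem_ker, powMonoidHom_apply]
    apply Units.ext
    rw [Units.val_pow_eq_pow_val, Units.val_one]
    have h1 := hcon (u : F)
    have h2 : (u : F) ^ q = (u : F) ^ (q - 1) * u := by
      rw [← pow_succ]; congr 1; omega
    rw [h2] at h1
    have h3 : ((u : F) ^ (q - 1) - 1) * (u : F) = 0 := by linear_combination h1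
    rcases mul_eq_zero.1 h3 with h4 | h4
    · exact sub_eq_zero.1 h4
    · exact absurd h4 u.ne_zero
  rw [htop, Subgroup.card_top, Herm.card_units_eq hF, Nat.gcd_eq_right (Dvd.intro _ rfl)] at h
  have h5 : q - 1 ≥ 1 := by omega
  nlinarith

/-- the parameters: `lam ≠ 0` with `lam^q = -lam`, `t ≠ t'` of norm `-1` -/
theorem exists_params (hF : Fintype.card F = q ^ 2) (φ : F →+* F) (hφ : ∀ x, φ x = x ^ q)
    (hφφ : ∀ x, φ (φ x) = x) :
    ∃ lam t t' s : F, lam ≠ 0 ∧ φ lam = -lam ∧ 1 + t * φ t = 0 ∧ 1 + t' * φ t' = 0 ∧ t ≠ t' ∧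
      φ s * (1 + t * φ t') = lam := by
  obtain ⟨x, hx⟩ := exists_not_fixed hF
  have hneg : (-1 : F) ^ q = -1 := by
    have h := neg_one_pow_q_succ hF
    rw [pow_succ] at h
    linear_combination -h
  have hcard := Herm.card_N_fiber hF (-1) (by simp) hneg
  have hq := Herm.two_le_q hF
  have hfin : Finite {x : F // Herm.N q x = -1} := inferInstance
  have hnt : Nontrivial {x : F // Herm.N q x = -1} := by
    rw [← Finite.one_lt_card_iff_nontrivial, hcard]; omega
  obtain ⟨⟨t, ht⟩, ⟨t', ht'⟩, htt⟩ := hnt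
  have htt' : t ≠ t' := fun h => htt (Subtype.ext h)
  have h1 : 1 + t * φ t = 0 := by rw [hφ]; unfold Herm.N at ht; linear_combination ht
  have h2 : 1 + t' * φ t' = 0 := by rw [hφ]; unfold Herm.N at ht'; linear_combination ht'
  have hc : 1 + t * φ t' ≠ 0 := by
    intro hc
    apply htt'
    have h3 : (t - t') * φ t' = 0 := by linear_combination hc - h2
    rcases mul_eq_zero.1 h3 with h4 | h4
    · exact sub_eq_zero.1 h4
    · exfalso
      rw [h4, mul_zero, add_zero] at h2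
      exact one_ne_zero h2
  refine ⟨x - φ x, t, t', φ ((x - φ x) / (1 + t * φ t')), ?_, ?_, h1, h2, htt', ?_⟩
  · rw [hφ]; intro h; exact hx (sub_eq_zero.1 h).symm
  · rw [map_sub, hφφ]; ring
  · rw [hφφ, div_mul_cancel₀ _ hc]


/-- the base-change matrix -/
def Pm (t t' s : F) : Matrix (Fin 2) (Fin 2) F := !![1, s; t, s * t']

theorem Pm_det (t t' s : F) : (Pm t t' s).det = s * (t' - t) := by
  unfold Pm
  rw [Matrix.det_fin_two_of]; ring

theorem Pm_gram (φ : F →+* F) (hφφ : ∀ x, φ (φ x) = x) (lam t t' s : F)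
    (hlam : φ lam = -lam) (h1 : 1 + t * φ t = 0) (h2 : 1 + t' * φ t' = 0)
    (h3 : φ s * (1 + t * φ t') = lam) :
    (Pm t t' s)ᵀ * φ.mapMatrix (Pm t t' s) = lam • J2 F := by
  have h4 : s * (1 + t' * φ t) = -lam := by
    have := congrArg φ h3
    rw [map_mul, map_add, map_mul, map_one, hφφ, hφφ, hlam] at this
    linear_combination this
  unfold Pm J2
  ext i j
  fin_cases i <;> fin_cases j <;>
    simp [Matrix.mul_apply, Fin.sum_univ_two]
  · exact h1
  · linear_combination h3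
  · linear_combination h4
  · linear_combination (s * φ s) * h2

/-- conjugating a Frobenius-fixed matrix of determinant one by `P` gives a unitary matrix -/
theorem conj_unitary (φ : F →+* F) (lam : F) (hlam : lam ≠ 0)
    (P : Matrix (Fin 2) (Fin 2) F) (hP : IsUnit P.det)
    (hgram : Pᵀ * φ.mapMatrix P = lam • J2 F)
    (A : Matrix (Fin 2) (Fin 2) F) (hA : φ.mapMatrix A = A) (hdet : A.det = 1) :
    (P * A * P⁻¹)ᵀ * φ.mapMatrix (P * A * P⁻¹) = 1 := by
  have hPφ : IsUnit (φ.mapMatrix P).det := by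
    rw [← RingHom.map_det]; exact hP.map φ
  have hinv : φ.mapMatrix P⁻¹ = (φ.mapMatrix P)⁻¹ := by
    symm
    apply Matrix.inv_eq_right_inv
    rw [← map_mul, Matrix.mul_nonsing_inv _ hP, map_one]
  rw [map_mul, map_mul, hA, hinv, Matrix.transpose_mul, Matrix.transpose_mul]
  have key : Aᵀ * (Pᵀ * φ.mapMatrix P) * A = Pᵀ * φ.mapMatrix P := by
    rw [hgram, Matrix.mul_smul, Matrix.smul_mul, transpose_J2_mul, hdet, one_smul]
  calc P⁻¹ᵀ * (Aᵀ * Pᵀ) * (φ.mapMatrix P * A * (φ.mapMatrix P)⁻¹)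
      = P⁻¹ᵀ * (Aᵀ * (Pᵀ * φ.mapMatrix P) * A) * (φ.mapMatrix P)⁻¹ := by
        simp only [Matrix.mul_assoc]
    _ = P⁻¹ᵀ * (Pᵀ * φ.mapMatrix P) * (φ.mapMatrix P)⁻¹ := by rw [key]
    _ = (P⁻¹ᵀ * Pᵀ) * (φ.mapMatrix P * (φ.mapMatrix P)⁻¹) := by simp only [Matrix.mul_assoc]
    _ = 1 := by
        rw [← Matrix.transpose_mul, Matrix.mul_nonsing_inv _ hP, Matrix.mul_nonsing_inv _ hPφ,
          Matrix.transpose_one, Matrix.mul_one]


theorem card_SU2 (hF : Fintype.card F = q ^ 2) : Nat.card (Cfsg.SU 2 F q) = q * (q ^ 2 - 1) := by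
  have h := card_SU_mul hF (n := 2) (by norm_num)
  unfold ordGU at h
  simp only [Finset.prod_range_succ, Finset.prod_range_zero] at h
  norm_num at h
  have h2 : (q + 1) * Nat.card (Cfsg.SU 2 F q) = (q + 1) * (q * (q ^ 2 - 1)) := by
    rw [h]; ring
  exact Nat.eq_of_mul_eq_mul_left (by omega) h2

/-- `SU_2(q) ≅ SL_2(q)` -/
theorem main (hF : Fintype.card F = q ^ 2) (hK : Fintype.card K = q) :
    Nonempty (Cfsg.SU 2 F q ≃* Matrix.SpecialLinearGroup (Fin 2) K) := by
  obtain ⟨ι⟩ := exists_ringHom hF hK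
  obtain ⟨φ, hφ, hφφ⟩ := exists_frob hF
  obtain ⟨lam, t, t', s, hlam0, hlam, h1, h2, htt, h3⟩ := exists_params hF φ hφ hφφ
  have hs : s ≠ 0 := by
    rintro rfl
    rw [map_zero, zero_mul] at h3
    exact hlam0 h3.symm
  have hP : IsUnit (Pm t t' s).det := by
    rw [Pm_det]
    exact isUnit_iff_ne_zero.2 (mul_ne_zero hs (sub_ne_zero.2 htt.symm))
  have hPu : IsUnit (Pm t t' s) := (Matrix.isUnit_iff_isUnit_det _).2 hP
  have hgram := Pm_gram φ hφφ lam t t' s hlam h1 h2 h3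
  have hfix : ∀ A : Matrix (Fin 2) (Fin 2) K, φ.mapMatrix (ι.mapMatrix A) = ι.mapMatrix A := by
    intro A
    ext i j
    simp only [RingHom.mapMatrix_apply, Matrix.map_apply]
    rw [hφ, ← map_pow, ← hK, FiniteField.pow_card]
  have hdet : ∀ A : Matrix.SpecialLinearGroup (Fin 2) K,
      (Pm t t' s * ι.mapMatrix A.1 * (Pm t t' s)⁻¹).det = 1 := by
    intro A
    rw [Matrix.det_conj hPu, ← RingHom.map_det, A.2, map_one]
  let f : Matrix.SpecialLinearGroup (Fin 2) K →* Cfsg.SU 2 F q :=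
    MonoidHom.mk' (fun A => mkSU (Pm t t' s * ι.mapMatrix A.1 * (Pm t t' s)⁻¹) (hdet A)
      (preserves_of_transpose_mul_map φ hφ _
        (conj_unitary φ lam hlam0 _ hP hgram _ (hfix A.1)
          (by rw [← RingHom.map_det, A.2, map_one])))) (by
      intro A B
      apply Subtype.ext
      apply Subtype.ext
      show Pm t t' s * ι.mapMatrix (A * B).1 * (Pm t t' s)⁻¹ =
        (Pm t t' s * ι.mapMatrix A.1 * (Pm t t' s)⁻¹) *
          (Pm t t' s * ι.mapMatrix B.1 * (Pm t t' s)⁻¹)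
      rw [Matrix.SpecialLinearGroup.coe_mul, map_mul]
      calc Pm t t' s * (ι.mapMatrix A.1 * ι.mapMatrix B.1) * (Pm t t' s)⁻¹
          = Pm t t' s * ι.mapMatrix A.1 * (1 : Matrix (Fin 2) (Fin 2) F) * ι.mapMatrix B.1 *
              (Pm t t' s)⁻¹ := by
            rw [Matrix.mul_one]; simp only [Matrix.mul_assoc]
        _ = _ := by
            rw [← Matrix.nonsing_inv_mul _ hP]
            simp only [Matrix.mul_assoc])
  have hinj : Function.Injective f := by
    intro A B hAB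
    have h4 := congrArg (fun X : Cfsg.SU 2 F q =>
      ((X : Matrix.SpecialLinearGroup (Fin 2) F) : Matrix (Fin 2) (Fin 2) F)) hAB
    change Pm t t' s * ι.mapMatrix A.1 * (Pm t t' s)⁻¹ =
      Pm t t' s * ι.mapMatrix B.1 * (Pm t t' s)⁻¹ at h4
    have h5 : ι.mapMatrix A.1 = ι.mapMatrix B.1 := by
      have h6 : (Pm t t' s)⁻¹ * (Pm t t' s * ι.mapMatrix A.1 * (Pm t t' s)⁻¹) * Pm t t' s =
          (Pm t t' s)⁻¹ * (Pm t t' s * ι.mapMatrix B.1 * (Pm t t' s)⁻¹) * Pm t t' s := by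
        rw [h4]
      have h7 : ∀ X : Matrix (Fin 2) (Fin 2) F,
          (Pm t t' s)⁻¹ * (Pm t t' s * X * (Pm t t' s)⁻¹) * Pm t t' s = X := by
        intro X
        rw [Matrix.mul_assoc, Matrix.mul_assoc, Matrix.nonsing_inv_mul _ hP, Matrix.mul_one,
          ← Matrix.mul_assoc, Matrix.nonsing_inv_mul _ hP, Matrix.one_mul]
      rw [h7, h7] at h6
      exact h6
    apply Subtype.ext
    ext i j
    have h8 := congrFun (congrFun h5 i) j
    simp only [RingHom.mapMatrix_apply, Matrix.map_apply] at h8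
    exact ι.injective h8
  have hcard : Nat.card (Matrix.SpecialLinearGroup (Fin 2) K) = Nat.card (Cfsg.SU 2 F q) := by
    rw [card_SU2 hF, Cfsg.Agent.Lib.H12.card_SL2, hK]
  exact ⟨(MulEquiv.ofBijective f
    ((Nat.bijective_iff_injective_and_card f).2 ⟨hinj, hcard⟩)).symm⟩

end Cfsg.Agent.Lib.H2.SU2
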