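import Mathlib
import Cfsg.Prelude.Def_Classical
import Cfsg.Agent.Lib.H22.DihQuatRecog
import Cfsg.Agent.Lib.H2.SU2

set_option autoImplicit false
set_option linter.unusedSectionVars false
set_option linter.unusedVariables false

/-!
# `GO⁻₂(q)` is dihedral of order `2(q+1)`
-/

namespace Cfsg.Agent.Lib.H2.GOMinus2

open Matrix QuadraticAlgebra

variable {F : Type*} [Field F] (a b : F)

/-- the quadratic extension attached to the binary form `z₁² + a z₁ z₂ + b z₂²` -/
abbrev E : Type _ := QuadraticAlgebra F (-b) a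

theorem norm_E (z : E a b) : QuadraticAlgebra.norm z = z.re ^ 2 + a * z.re * z.im + b * z.im ^ 2 := by
  rw [QuadraticAlgebra.norm_def]; ring

/-- anisotropy gives the field condition -/
theorem fact_of_aniso (hab : ∀ z₁ z₂ : F, z₁ ^ 2 + a * z₁ * z₂ + b * z₂ ^ 2 = 0 → z₁ = 0 ∧ z₂ = 0) :
    Fact (∀ r : F, r ^ 2 ≠ -b + a * r) := by
  constructor
  intro r hr
  have h := hab r (-1) (by linear_combination hr)
  have : (-1 : F) = 0 := h.2
  simp at this

/-- the norm-one group -/
def U : Subgroup (E a b)ˣ := (Units.map (QuadraticAlgebra.norm : E a b →* F)).ker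

theorem mem_U (u : (E a b)ˣ) : u ∈ U a b ↔ QuadraticAlgebra.norm (u : E a b) = 1 := by
  unfold U
  rw [MonoidHom.mem_ker, Units.ext_iff]
  rfl

section fin

variable [Fintype F] {q : ℕ}

noncomputable instance : Fintype (E a b) := Fintype.ofEquiv _ (QuadraticAlgebra.equivProd (-b) a).symm

theorem card_E (hF : Fintype.card F = q) : Fintype.card (E a b) = q ^ 2 := by
  rw [Fintype.card_congr (QuadraticAlgebra.equivProd (-b) a), Fintype.card_prod, hF, sq]

variable [Hab : Fact (∀ r : F, r ^ 2 ≠ -b + a * r)]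

theorem omega_sq : (ω : E a b) * ω = QuadraticAlgebra.C a * ω - QuadraticAlgebra.C b := by
  ext <;> simp

theorem star_omega : star (ω : E a b) = QuadraticAlgebra.C a - ω := by
  ext <;> simp

theorem eq_C_add (z : E a b) : z = QuadraticAlgebra.C z.re + QuadraticAlgebra.C z.im * ω := by
  ext <;> simp

/-- conjugation is the Frobenius -/
theorem star_eq_pow (hF : Fintype.card F = q) (z : E a b) : star z = z ^ q := by
  have hE := card_E a b hF
  obtain ⟨φ, hφ, hφφ⟩ := Cfsg.Agent.Lib.H4.exists_frob hE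
  have hC : ∀ x : F, φ (QuadraticAlgebra.C x) = QuadraticAlgebra.C x := by
    intro x
    rw [hφ]
    have : (QuadraticAlgebra.C x : E a b) = algebraMap F (E a b) x := rfl
    rw [this, ← map_pow, ← hF, FiniteField.pow_card]
  have h1 : (φ ω - ω) * (φ ω - star (ω : E a b)) = 0 := by
    have h2 := congrArg φ (omega_sq a b)
    rw [map_mul, map_sub, map_mul, hC, hC] at h2
    rw [star_omega]
    have h3 := omega_sq a b
    linear_combination h2 - h3 + (QuadraticAlgebra.C a - φ ω - ω) * 0
  have h4 : φ ω = star (ω : E a b) := by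
    rcases mul_eq_zero.1 h1 with h | h
    · exfalso
      have hω : φ ω = ω := sub_eq_zero.1 h
      obtain ⟨x, hx⟩ := Cfsg.Agent.Lib.H2.SU2.exists_not_fixed hE
      apply hx
      rw [← hφ]
      conv_lhs => rw [eq_C_add a b x]
      rw [map_add, map_mul, hC, hC, hω]
      exact (eq_C_add a b x).symm
    · exact sub_eq_zero.1 h
  rw [← hφ]
  conv_rhs => rw [eq_C_add a b z]
  rw [map_add, map_mul, hC, hC, h4]
  conv_lhs => rw [eq_C_add a b z]
  rw [star_add, star_mul]
  have hsC : ∀ x : F, star (QuadraticAlgebra.C x : E a b) = QuadraticAlgebra.C x := by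
    intro x; ext <;> simp
  rw [hsC, hsC, mul_comm]


theorem U_eq_ker_pow (hF : Fintype.card F = q) :
    U a b = (powMonoidHom (q + 1) : (E a b)ˣ →* (E a b)ˣ).ker := by
  ext u
  rw [mem_U, MonoidHom.mem_ker, powMonoidHom_apply, Units.ext_iff, Units.val_pow_eq_pow_val,
    Units.val_one]
  have h1 : algebraMap F (E a b) (QuadraticAlgebra.norm (u : E a b)) = (u : E a b) ^ (q + 1) := by
    rw [QuadraticAlgebra.algebraMap_norm_eq_mul_star, star_eq_pow a b hF, pow_succ']
  constructor
  · intro h
    rw [← h1, h, map_one]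
  · intro h
    rw [h] at h1
    have : algebraMap F (E a b) (QuadraticAlgebra.norm (u : E a b)) = algebraMap F (E a b) 1 := by
      rw [h1, map_one]
    exact (algebraMap F (E a b)).injective this

theorem card_U (hF : Fintype.card F = q) : Nat.card (U a b) = q + 1 := by
  rw [U_eq_ker_pow a b hF]
  exact Cfsg.Agent.Lib.H2.Herm.card_ker_pow (card_E a b hF)


end fin

/-- the index type -/
abbrev J2 : Type := (Fin 0 ⊕ Fin 0) ⊕ Fin 2

/-- linear equivalence between `F^{J2}` and `E` -/
def eqv : (J2 → F) ≃ₗ[F] E a b where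
  toFun v := ⟨v (.inr 0), v (.inr 1)⟩
  invFun z := Sum.elim (fun i => (Sum.elim (fun j => j.elim0) (fun j => j.elim0) i : F)) ![z.re, z.im]
  map_add' u v := by ext <;> rfl
  map_smul' c v := by ext <;> rfl
  left_inv v := by
    funext i
    rcases i with (i | i) | i
    · exact i.elim0
    · exact i.elim0
    · fin_cases i <;> rfl
  right_inv z := by ext <;> rfl

theorem eqv_re (v : J2 → F) : (eqv a b v).re = v (.inr 0) := rfl
theorem eqv_im (v : J2 → F) : (eqv a b v).im = v (.inr 1) := rfl

theorem quadFormMinus_eq (v : J2 → F) :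
    Cfsg.quadFormMinus 0 F a b v = QuadraticAlgebra.norm (eqv a b v) := by
  rw [norm_E, eqv_re, eqv_im]
  unfold Cfsg.quadFormMinus
  simp

/-- the matrix of an `F`-linear endomorphism of `E` -/
def mat (φ : E a b →ₗ[F] E a b) : Matrix J2 J2 F :=
  LinearMap.toMatrix' (((eqv a b).symm : E a b →ₗ[F] J2 → F) ∘ₗ φ ∘ₗ (eqv a b : (J2 → F) →ₗ[F] E a b))

theorem mat_mulVec (φ : E a b →ₗ[F] E a b) (v : J2 → F) :
    mat a b φ *ᵥ v = (eqv a b).symm (φ (eqv a b v)) := by
  unfold mat
  rw [LinearMap.toMatrix'_mulVec]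
  rfl

theorem mat_mul (φ ψ : E a b →ₗ[F] E a b) : mat a b (φ ∘ₗ ψ) = mat a b φ * mat a b ψ := by
  rw [Matrix.ext_iff_mulVec]
  intro v
  rw [← Matrix.mulVec_mulVec, mat_mulVec, mat_mulVec, mat_mulVec, LinearEquiv.apply_symm_apply]
  rfl

theorem mat_one : mat a b LinearMap.id = 1 := by
  rw [Matrix.ext_iff_mulVec]
  intro v
  rw [mat_mulVec, Matrix.one_mulVec, LinearMap.id_apply, LinearEquiv.symm_apply_apply]

theorem mat_injective : Function.Injective (mat a b) := by
  intro φ ψ h
  apply LinearMap.ext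
  intro z
  have h1 := congrArg (fun M => eqv a b (M *ᵥ ((eqv a b).symm z))) h
  simp only [mat_mulVec, LinearEquiv.apply_symm_apply] at h1
  exact h1

/-- the invertible matrix of an `F`-linear automorphism of `E` -/
def toGL : (E a b ≃ₗ[F] E a b) →* GL J2 F :=
  MonoidHom.mk' (fun φ => ⟨mat a b φ.toLinearMap, mat a b φ.symm.toLinearMap,
      by rw [← mat_mul, ← mat_one]; congr 1; apply LinearMap.ext; intro z; simp,
      by rw [← mat_mul, ← mat_one]; congr 1; apply LinearMap.ext; intro z; simp⟩) (by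
    intro φ ψ
    apply Units.ext
    show mat a b (φ * ψ).toLinearMap = mat a b φ.toLinearMap * mat a b ψ.toLinearMap
    rw [← mat_mul]
    rfl)

theorem toGL_val (φ : E a b ≃ₗ[F] E a b) :
    ((toGL a b φ : GL J2 F) : Matrix J2 J2 F) = mat a b φ.toLinearMap := rfl

theorem toGL_injective : Function.Injective (toGL a b) := by
  intro φ ψ h
  have h1 : mat a b φ.toLinearMap = mat a b ψ.toLinearMap := by
    rw [← toGL_val, ← toGL_val, h]
  exact LinearEquiv.toLinearMap_injective (mat_injective a b h1)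

theorem mem_iso_iff (g : GL J2 F) :
    g ∈ Cfsg.isometryGroup F (Cfsg.quadFormMinus 0 F a b) ↔
      ∀ u, Cfsg.quadFormMinus 0 F a b ((g : Matrix J2 J2 F) *ᵥ u) = Cfsg.quadFormMinus 0 F a b u := by
  constructor
  · intro h u; exact h u u
  · intro h u v; exact h u

theorem toGL_mem (φ : E a b ≃ₗ[F] E a b)
    (hφ : ∀ z, QuadraticAlgebra.norm (φ z) = QuadraticAlgebra.norm z) :
    toGL a b φ ∈ Cfsg.isometryGroup F (Cfsg.quadFormMinus 0 F a b) := by
  rw [mem_iso_iff]
  intro u
  rw [quadFormMinus_eq, quadFormMinus_eq, toGL_val, mat_mulVec, LinearEquiv.apply_symm_apply]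
  exact hφ _


section field

variable [Hab : Fact (∀ r : F, r ^ 2 ≠ -b + a * r)]

/-- left multiplication by a unit -/
def mulL : (E a b)ˣ →* (E a b ≃ₗ[F] E a b) :=
  MonoidHom.mk' (fun u =>
    { toFun := fun z => (u : E a b) * z
      invFun := fun z => ((u⁻¹ : (E a b)ˣ) : E a b) * z
      map_add' := fun x y => mul_add _ x y
      map_smul' := fun c x => mul_smul_comm c _ x
      left_inv := fun z => by
        show ((u⁻¹ : (E a b)ˣ) : E a b) * ((u : E a b) * z) = z
        rw [← mul_assoc, Units.inv_mul, one_mul]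
      right_inv := fun z => by
        show (u : E a b) * (((u⁻¹ : (E a b)ˣ) : E a b) * z) = z
        rw [← mul_assoc, Units.mul_inv, one_mul] }) (by
    intro u v
    apply LinearEquiv.ext
    intro z
    show ((u * v : (E a b)ˣ) : E a b) * z = (u : E a b) * ((v : E a b) * z)
    rw [Units.val_mul, mul_assoc])

theorem mulL_apply (u : (E a b)ˣ) (z : E a b) : mulL a b u z = (u : E a b) * z := rfl

/-- conjugation as a linear equivalence -/
def starL : E a b ≃ₗ[F] E a b where
  toFun z := star z
  invFun z := star z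
  map_add' x y := star_add x y
  map_smul' c x := by ext <;> simp <;> ring
  left_inv z := star_star z
  right_inv z := star_star z

theorem starL_apply (z : E a b) : starL a b z = star z := rfl

/-- the isometry group -/
abbrev G : Subgroup (GL J2 F) := Cfsg.isometryGroup F (Cfsg.quadFormMinus 0 F a b)

/-- rotations -/
def rot : U a b →* G a b :=
  MonoidHom.mk' (fun u => ⟨toGL a b (mulL a b u.1), toGL_mem a b _ (by
    intro z
    rw [mulL_apply, map_mul]
    have := (mem_U a b u.1).1 u.2
    rw [this, one_mul])⟩) (by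
    intro u v
    apply Subtype.ext
    show toGL a b (mulL a b (u.1 * v.1)) = toGL a b (mulL a b u.1) * toGL a b (mulL a b v.1)
    rw [map_mul, map_mul])

theorem rot_val (u : U a b) : ((rot a b u : G a b) : GL J2 F) = toGL a b (mulL a b u.1) := rfl

/-- the reflection -/
def refl : G a b := ⟨toGL a b (starL a b), toGL_mem a b _ (by
  intro z
  rw [starL_apply, QuadraticAlgebra.norm_star])⟩

theorem refl_val : ((refl a b : G a b) : GL J2 F) = toGL a b (starL a b) := rfl

theorem refl_mul_refl : refl a b * refl a b = 1 := by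
  apply Subtype.ext
  show toGL a b (starL a b) * toGL a b (starL a b) = 1
  rw [← map_mul]
  have : starL a b * starL a b = 1 := by
    apply LinearEquiv.ext
    intro z
    show star (star z) = z
    exact star_star z
  rw [this, map_one]

theorem star_eq_inv (u : U a b) : star ((u.1 : (E a b)ˣ) : E a b) = ((u.1⁻¹ : (E a b)ˣ) : E a b) := by
  have h1 := QuadraticAlgebra.algebraMap_norm_eq_mul_star ((u.1 : (E a b)ˣ) : E a b)
  have h0 := (mem_U a b u.1).1 u.2
  rw [h0, map_one] at h1
  rw [← Units.mul_eq_one_iff_eq_inv]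
  -- star u * u = 1
  rw [mul_comm]; exact h1.symm

theorem refl_rot_refl (u : U a b) : refl a b * rot a b u * (refl a b)⁻¹ = (rot a b u)⁻¹ := by
  rw [← map_inv, mul_inv_eq_iff_eq_mul]
  apply Subtype.ext
  show toGL a b (starL a b) * toGL a b (mulL a b u.1) =
    toGL a b (mulL a b (u⁻¹ : U a b).1) * toGL a b (starL a b)
  rw [← map_mul, ← map_mul]
  congr 1
  apply LinearEquiv.ext
  intro z
  show star ((u.1 : E a b) * z) = (((u⁻¹ : U a b).1 : (E a b)ˣ) : E a b) * star z
  rw [star_mul, mul_comm, star_eq_inv]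
  rfl

theorem rot_injective : Function.Injective (rot a b) := by
  intro u v h
  have h1 : toGL a b (mulL a b u.1) = toGL a b (mulL a b v.1) := by
    rw [← rot_val, ← rot_val, h]
  have h2 := toGL_injective a b h1
  have h3 := congrArg (fun φ : E a b ≃ₗ[F] E a b => φ 1) h2
  simp only [mulL_apply, mul_one] at h3
  exact Subtype.ext (Units.ext h3)


theorem decomp (z : E a b) : z = z.re • (1 : E a b) + z.im • (ω : E a b) := by
  ext <;> simp

/-- classification of the isometries -/
theorem classify (g : G a b) : ∃ u : U a b, g = rot a b u ∨ g = rot a b u * refl a b := by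
  -- the linear map induced by `g`
  let φ : E a b →ₗ[F] E a b :=
    ((eqv a b : (J2 → F) →ₗ[F] E a b)) ∘ₗ (Matrix.toLin' ((g : GL J2 F) : Matrix J2 J2 F)) ∘ₗ
      ((eqv a b).symm : E a b →ₗ[F] J2 → F)
  have hφ : ∀ z, φ z = eqv a b (((g : GL J2 F) : Matrix J2 J2 F) *ᵥ ((eqv a b).symm z)) := by
    intro z; rfl
  have hnorm : ∀ z, QuadraticAlgebra.norm (φ z) = QuadraticAlgebra.norm z := by
    intro z
    rw [hφ, ← quadFormMinus_eq, (mem_iso_iff a b g.1).1 g.2, quadFormMinus_eq,
      LinearEquiv.apply_symm_apply]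
  have hmat : mat a b φ = ((g : GL J2 F) : Matrix J2 J2 F) := by
    rw [Matrix.ext_iff_mulVec]
    intro v
    rw [mat_mulVec, hφ, LinearEquiv.symm_apply_apply, LinearEquiv.symm_apply_apply]
  -- the image of `1`
  have hu₀ : QuadraticAlgebra.norm (φ 1) = 1 := by rw [hnorm, map_one]
  have hu₀ne : φ 1 ≠ 0 := by
    intro h
    rw [h, QuadraticAlgebra.norm_zero] at hu₀
    exact zero_ne_one hu₀
  let u₀ : (E a b)ˣ := Units.mk0 (φ 1) hu₀ne
  have hu₀U : u₀ ∈ U a b := (mem_U a b u₀).2 hu₀
  let u : U a b := ⟨u₀, hu₀U⟩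
  -- ψ = u₀⁻¹ φ
  let ψ : E a b →ₗ[F] E a b := ((mulL a b u₀⁻¹ : E a b ≃ₗ[F] E a b) : E a b →ₗ[F] E a b) ∘ₗ φ
  have hψ : ∀ z, ψ z = ((u₀⁻¹ : (E a b)ˣ) : E a b) * φ z := fun z => rfl
  have hψ1 : ψ 1 = 1 := by
    rw [hψ]
    exact Units.inv_mul u₀
  have hψnorm : ∀ z, QuadraticAlgebra.norm (ψ z) = QuadraticAlgebra.norm z := by
    intro z
    rw [hψ, map_mul, hnorm]
    have : QuadraticAlgebra.norm ((u₀⁻¹ : (E a b)ˣ) : E a b) = 1 :=
      (mem_U a b u₀⁻¹).1 (inv_mem hu₀U)
    rw [this, one_mul]
  have hφψ : ∀ z, φ z = (u₀ : E a b) * ψ z := by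
    intro z
    rw [hψ, ← mul_assoc, Units.mul_inv, one_mul]
  -- the image of ω
  set v := ψ ω with hv
  have h2 : v.re ^ 2 + a * v.re * v.im + b * v.im ^ 2 = b := by
    have := hψnorm ω
    rw [norm_E, norm_E] at this
    simpa using this
  have h1 : 2 * v.re + a * v.im = a := by
    have := hψnorm (1 + ω)
    rw [map_add, hψ1, norm_E, norm_E] at this
    simp only [QuadraticAlgebra.re_add, QuadraticAlgebra.im_add, QuadraticAlgebra.re_one,
      QuadraticAlgebra.im_one, QuadraticAlgebra.omega_re, QuadraticAlgebra.omega_im] at this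
    linear_combination this - h2
  have hprod : (v - ω) * (v - star (ω : E a b)) = 0 := by
    ext
    · simp only [QuadraticAlgebra.re_mul, QuadraticAlgebra.re_sub, QuadraticAlgebra.im_sub,
        QuadraticAlgebra.omega_re, QuadraticAlgebra.omega_im, QuadraticAlgebra.re_star,
        QuadraticAlgebra.im_star, QuadraticAlgebra.re_zero]
      linear_combination v.re * h1 - h2
    · simp only [QuadraticAlgebra.im_mul, QuadraticAlgebra.re_sub, QuadraticAlgebra.im_sub,
        QuadraticAlgebra.omega_re, QuadraticAlgebra.omega_im, QuadraticAlgebra.re_star,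
        QuadraticAlgebra.im_star, QuadraticAlgebra.im_zero]
      linear_combination v.im * h1
  refine ⟨u, ?_⟩
  rcases mul_eq_zero.1 hprod with h | h
  · left
    have hvω : ψ ω = ω := sub_eq_zero.1 h
    have hψid : ∀ z, ψ z = z := by
      intro z
      conv_lhs => rw [decomp a b z]
      rw [map_add, map_smul, map_smul, hψ1, hvω]
      exact (decomp a b z).symm
    apply Subtype.ext
    apply Units.ext
    rw [rot_val, toGL_val, ← hmat]
    congr 1
    apply LinearMap.ext
    intro z
    rw [hφψ, hψid]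
    rfl
  · right
    have hvω : ψ ω = star (ω : E a b) := sub_eq_zero.1 h
    have hψstar : ∀ z, ψ z = star z := by
      intro z
      conv_lhs => rw [decomp a b z]
      rw [map_add, map_smul, map_smul, hψ1, hvω]
      ext <;> simp <;> ring
    apply Subtype.ext
    apply Units.ext
    show ((g : GL J2 F) : Matrix J2 J2 F) =
      ((toGL a b (mulL a b u₀) * toGL a b (starL a b) : GL J2 F) : Matrix J2 J2 F)
    rw [← map_mul, toGL_val, ← hmat]
    congr 1
    apply LinearMap.ext
    intro z
    rw [hφψ, hψstar]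
    rfl


theorem refl_ne_rot [Finite F] (u : U a b) : refl a b ≠ rot a b u := by
  intro h
  have h1 : toGL a b (starL a b) = toGL a b (mulL a b u.1) := by
    rw [← refl_val, ← rot_val, h]
  have h2 := toGL_injective a b h1
  have h3 := congrArg (fun φ : E a b ≃ₗ[F] E a b => φ 1) h2
  simp only [mulL_apply, mul_one, starL_apply, star_one] at h3
  have h4 := congrArg (fun φ : E a b ≃ₗ[F] E a b => φ ω) h2
  simp only [mulL_apply, starL_apply, ← h3, one_mul] at h4
  have him := congrArg QuadraticAlgebra.im h4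
  have hre := congrArg QuadraticAlgebra.re h4
  simp at him hre
  -- characteristic two and `a = 0`
  have h20 : (2 : F) = 0 := by linear_combination -him
  have : CharP F 2 := CharTwo.of_one_ne_zero_of_two_eq_zero one_ne_zero h20
  obtain ⟨r, hr⟩ := FiniteField.isSquare_of_char_two (ringChar.eq F 2) b
  apply Hab.out r
  rw [hre, zero_mul, add_zero, sq, ← hr]
  exact (CharTwo.neg_eq b).symm

/-- parametrization of the isometry group -/
def param (x : U a b ⊕ U a b) : G a b :=
  Sum.elim (fun u => rot a b u) (fun u => rot a b u * refl a b) x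

theorem param_bijective [Finite F] : Function.Bijective (param a b) := by
  constructor
  · rintro (u | u) (v | v) h
    · exact congrArg Sum.inl (rot_injective a b h)
    · exfalso
      have h' : rot a b u = rot a b v * refl a b := h
      apply refl_ne_rot a b (v⁻¹ * u)
      rw [map_mul, map_inv, h']
      group
    · exfalso
      have h' : rot a b u * refl a b = rot a b v := h
      apply refl_ne_rot a b (u⁻¹ * v)
      rw [map_mul, map_inv, ← h']
      group
    · have h' : rot a b u * refl a b = rot a b v * refl a b := h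
      exact congrArg Sum.inr (rot_injective a b (mul_right_cancel h'))
  · intro g
    obtain ⟨u, h | h⟩ := classify a b g
    · exact ⟨Sum.inl u, h.symm⟩
    · exact ⟨Sum.inr u, h.symm⟩

end field

/-- `GO⁻₂(q)` is dihedral of order `2(q+1)` -/
theorem main [Fintype F] {q : ℕ} (hF : Fintype.card F = q)
    (hab : ∀ z₁ z₂ : F, z₁ ^ 2 + a * z₁ * z₂ + b * z₂ ^ 2 = 0 → z₁ = 0 ∧ z₂ = 0) :
    Nonempty (Cfsg.isometryGroup F (Cfsg.quadFormMinus 0 F a b) ≃* DihedralGroup (q + 1)) := by
  have := fact_of_aniso a b hab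
  have hcardU := card_U a b hF
  have hcard : Nat.card (G a b) = 2 * (q + 1) := by
    rw [← Nat.card_congr (Equiv.ofBijective _ (param_bijective a b)), Nat.card_sum, hcardU]
    ring
  have : Finite (U a b) := Nat.finite_of_card_ne_zero (by rw [hcardU]; omega)
  obtain ⟨u₀, hu₀⟩ := IsCyclic.exists_generator (α := U a b)
  have hr : rot a b u₀ ^ (q + 1) = 1 := by
    rw [← map_pow, ← hcardU, pow_card_eq_one', map_one]
  have hgen : Subgroup.closure ({rot a b u₀, refl a b} : Set (G a b)) = ⊤ := by
    rw [eq_top_iff]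
    intro g _
    have hrot : ∀ u : U a b, rot a b u ∈ Subgroup.closure ({rot a b u₀, refl a b} : Set (G a b)) := by
      intro u
      obtain ⟨k, rfl⟩ := Subgroup.mem_zpowers_iff.1 (hu₀ u)
      rw [map_zpow]
      exact Subgroup.zpow_mem _ (Subgroup.subset_closure (by simp)) k
    obtain ⟨u, h | h⟩ := classify a b g
    · rw [h]; exact hrot u
    · rw [h]; exact mul_mem (hrot u) (Subgroup.subset_closure (by simp))
  have : Finite (G a b) := Nat.finite_of_card_ne_zero (by rw [hcard]; omega)
  exact Cfsg.Agent.Lib.H22.dihedral_equiv_of_gens (q + 1) (rot a b u₀) (refl a b) hr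
    (refl_mul_refl a b) (refl_rot_refl a b u₀) hgen hcard

end Cfsg.Agent.Lib.H2.GOMinus2
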