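import Mathlib
import Cfsg.Agent.Lib.H2.SpTrans

set_option autoImplicit false

/-!
# The centre of `Sp_{2m}(F)` is `{1, -1}`
-/

namespace Cfsg.Agent.Lib.H2.Sp

open Matrix Cfsg.Agent.Lib.H4

variable {F : Type*} [Field F] (m : ℕ)

/-- a central element maps every vector to a multiple of itself -/
theorem central_eigen (A : Matrix.symplecticGroup (Fin m) F)
    (hA : A ∈ Subgroup.center (Matrix.symplecticGroup (Fin m) F))
    (v : Fin m ⊕ Fin m → F) (hv : v ≠ 0) :
    ∃ c : F, (A : Matrix (Fin m ⊕ Fin m) (Fin m ⊕ Fin m) F) *ᵥ v = c • v := by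
  obtain ⟨x, hx⟩ := exists_sympForm_ne_zero m v hv
  have hx' : Cfsg.sympForm m F x v ≠ 0 := by
    rw [sympForm_swap, neg_ne_zero]; exact hx
  let T : Matrix.symplecticGroup (Fin m) F :=
    ⟨Cfsg.sympTransvection m v 1, sympTransvection_mem m v 1⟩
  have hcomm : T * A = A * T := (Subgroup.mem_center_iff.1 hA) T
  have h1 := congrArg (fun B : Matrix.symplecticGroup (Fin m) F =>
    (B : Matrix (Fin m ⊕ Fin m) (Fin m ⊕ Fin m) F) *ᵥ x) hcomm
  simp only [Submonoid.coe_mul] at h1
  rw [← Matrix.mulVec_mulVec, ← Matrix.mulVec_mulVec] at h1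
  change Cfsg.sympTransvection m v 1 *ᵥ ((A : Matrix _ _ F) *ᵥ x) =
    (A : Matrix _ _ F) *ᵥ (Cfsg.sympTransvection m v 1 *ᵥ x) at h1
  rw [sympTransvection_mulVec, sympTransvection_mulVec, Matrix.mulVec_add, Matrix.mulVec_smul,
    one_mul, one_mul] at h1
  have h2 := add_left_cancel h1
  refine ⟨(Cfsg.sympForm m F x v)⁻¹ * Cfsg.sympForm m F ((A : Matrix _ _ F) *ᵥ x) v, ?_⟩
  rw [mul_smul, h2, smul_smul, inv_mul_cancel₀ hx', one_smul]

/-- a central element is a scalar matrix -/
theorem central_scalar (hm : 1 ≤ m) (A : Matrix.symplecticGroup (Fin m) F)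
    (hA : A ∈ Subgroup.center (Matrix.symplecticGroup (Fin m) F)) :
    ∃ c : F, (A : Matrix (Fin m ⊕ Fin m) (Fin m ⊕ Fin m) F) = c • 1 := by
  classical
  have hne : ∀ i : Fin m ⊕ Fin m, (Pi.single i 1 : Fin m ⊕ Fin m → F) ≠ 0 := by
    intro i h
    have := congrFun h i
    simp at this
  choose lam hlam using fun i => central_eigen m A hA (Pi.single i 1) (hne i)
  have hAe : ∀ k i, (A : Matrix _ _ F) k i = lam i * (if k = i then 1 else 0) := by
    intro k i
    have := congrFun (hlam i) k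
    rw [Matrix.mulVec_single_one] at this
    rw [show (A : Matrix _ _ F) k i = ((A : Matrix _ _ F).col i) k from rfl, this]
    simp [Pi.single_apply]
  have heq : ∀ i j, lam i = lam j := by
    intro i j
    by_cases hij : i = j
    · rw [hij]
    have hv : (Pi.single i 1 + Pi.single j 1 : Fin m ⊕ Fin m → F) ≠ 0 := by
      intro h
      have := congrFun h i
      simp [hij] at this
    obtain ⟨μ, hμ⟩ := central_eigen m A hA _ hv
    rw [Matrix.mulVec_add, hlam i, hlam j] at hμ
    have hi := congrFun hμ i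
    have hj := congrFun hμ j
    simp [hij, Ne.symm hij] at hi hj
    rw [hi, hj]
  let i₀ : Fin m ⊕ Fin m := Sum.inl ⟨0, hm⟩
  refine ⟨lam i₀, ?_⟩
  ext k i
  rw [hAe, heq i i₀, Matrix.smul_apply, Matrix.one_apply, smul_eq_mul]

theorem scalar_sq (hm : 1 ≤ m) (c : F)
    (hc : (c • 1 : Matrix (Fin m ⊕ Fin m) (Fin m ⊕ Fin m) F) ∈ Matrix.symplecticGroup (Fin m) F) :
    c = 1 ∨ c = -1 := by
  rw [SymplecticGroup.mem_iff] at hc
  rw [Matrix.transpose_smul, Matrix.transpose_one, Matrix.smul_mul, Matrix.one_mul,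
    Matrix.mul_smul, Matrix.mul_one, smul_smul] at hc
  have h := congrFun (congrFun hc (Sum.inr ⟨0, hm⟩)) (Sum.inl ⟨0, hm⟩)
  simp [Matrix.J] at h
  have h2 : (c - 1) * (c + 1) = 0 := by linear_combination h
  rcases mul_eq_zero.1 h2 with h3 | h3
  · left; exact sub_eq_zero.1 h3
  · right; exact eq_neg_of_add_eq_zero_left h3

/-- `-1` as an element of the symplectic group -/
def negOne : Matrix.symplecticGroup (Fin m) F :=
  ⟨-1, SymplecticGroup.neg_mem (Submonoid.one_mem _)⟩

theorem center_eq (hm : 1 ≤ m) :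
    (Subgroup.center (Matrix.symplecticGroup (Fin m) F) : Set (Matrix.symplecticGroup (Fin m) F)) =
      {1, negOne m} := by
  ext A
  simp only [SetLike.mem_coe, Set.mem_insert_iff, Set.mem_singleton_iff]
  constructor
  · intro hA
    obtain ⟨c, hc⟩ := central_scalar m hm A hA
    have hmem : (c • 1 : Matrix (Fin m ⊕ Fin m) (Fin m ⊕ Fin m) F) ∈
        Matrix.symplecticGroup (Fin m) F := by
      rw [← hc]; exact A.2
    rcases scalar_sq m hm c hmem with rfl | rfl
    · left
      apply Subtype.ext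
      rw [hc, one_smul]; rfl
    · right
      apply Subtype.ext
      rw [hc, neg_smul, one_smul]; rfl
  · rintro (rfl | rfl)
    · exact Subgroup.one_mem _
    · rw [Subgroup.mem_center_iff]
      intro g
      apply Subtype.ext
      simp only [Submonoid.coe_mul]
      show (g : Matrix (Fin m ⊕ Fin m) (Fin m ⊕ Fin m) F) *
          (-1 : Matrix (Fin m ⊕ Fin m) (Fin m ⊕ Fin m) F) =
        (-1 : Matrix (Fin m ⊕ Fin m) (Fin m ⊕ Fin m) F) *
          (g : Matrix (Fin m ⊕ Fin m) (Fin m ⊕ Fin m) F)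
      rw [mul_neg, mul_one, neg_mul, one_mul]

theorem card_center [Fintype F] (hm : 1 ≤ m) :
    Nat.card (Subgroup.center (Matrix.symplecticGroup (Fin m) F)) =
      Nat.gcd 2 (Fintype.card F - 1) := by
  have hq : 1 < Fintype.card F := Fintype.one_lt_card
  rw [← SetLike.coe_sort_coe, Nat.card_coe_set_eq, center_eq m hm]
  by_cases h2 : ringChar F = 2
  · have : CharP F 2 := by
      rw [← h2]; exact ringChar.charP F
    have h1 : negOne m = (1 : Matrix.symplecticGroup (Fin m) F) := by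
      apply Subtype.ext
      show (-1 : Matrix _ _ F) = 1
      ext i j
      rw [Matrix.neg_apply, CharTwo.neg_eq]
    rw [h1, Set.pair_eq_singleton, Set.ncard_singleton]
    have h3 := FiniteField.even_card_of_char_two h2
    have h4 : ¬ 2 ∣ (Fintype.card F - 1) := by omega
    exact (Nat.Coprime.gcd_eq_one ((Nat.Prime.coprime_iff_not_dvd Nat.prime_two).2 h4)).symm
  · have h1 : (1 : Matrix.symplecticGroup (Fin m) F) ≠ negOne m := by
      intro h
      have h3 := congrArg (fun B : Matrix.symplecticGroup (Fin m) F =>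
        (B : Matrix (Fin m ⊕ Fin m) (Fin m ⊕ Fin m) F) (Sum.inl ⟨0, hm⟩) (Sum.inl ⟨0, hm⟩)) h
      have h4 : (1 : F) = -1 := by
        simpa [negOne] using h3
      exact Ring.neg_one_ne_one_of_char_ne_two h2 h4.symm
    rw [Set.ncard_pair h1]
    have h3 := FiniteField.odd_card_of_char_ne_two h2
    have h4 : 2 ∣ (Fintype.card F - 1) := by omega
    exact (Nat.gcd_eq_left h4).symm

end Cfsg.Agent.Lib.H2.Sp
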