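import Mathlib
import Cfsg.Agent.Lib.H2.SpPerfect
import Cfsg.Agent.Lib.H2.SpCenter

set_option autoImplicit false
set_option linter.unusedSectionVars false
set_option linter.unusedVariables false

/-!
# `PSp_{2m}(q)` is simple
-/

namespace Cfsg.Agent.Lib.H2.Sp

open Matrix Cfsg.Agent.Lib.H4
open scoped LinearAlgebra.Projectivization

variable {F : Type*} [Field F] {m : ℕ}

theorem sympForm_zero_right' (v : K m → F) : Cfsg.sympForm m F v 0 = 0 := by
  have := sympForm_smul_right m (0 : F) v 0
  rwa [zero_smul, zero_mul] at this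

theorem sympForm_zero_left' (v : K m → F) : Cfsg.sympForm m F 0 v = 0 := by
  have := sympForm_smul_left m (0 : F) (0 : K m → F) v
  rwa [zero_smul, zero_mul] at this

theorem sympForm_sub_left (u v w : K m → F) :
    Cfsg.sympForm m F (u - v) w = Cfsg.sympForm m F u w - Cfsg.sympForm m F v w := by
  have : u - v = u + (-1 : F) • v := by rw [neg_smul, one_smul, sub_eq_add_neg]
  rw [this, sympForm_add_left, sympForm_smul_left]; ring

/-- non-degeneracy: a vector orthogonal to everything vanishes -/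
theorem eq_zero_of_forall (v : K m → F) (h : ∀ z, Cfsg.sympForm m F v z = 0) : v = 0 := by
  by_contra hv
  obtain ⟨z, hz⟩ := exists_sympForm_ne_zero m v hv
  exact hz (h z)

/-- if `v` is not a multiple of `u`, some vector orthogonal to `u` is not orthogonal to `v` -/
theorem exists_orth_ne_zero (u v : K m → F) (hu : u ≠ 0) (hv : ∀ a : F, v ≠ a • u) :
    ∃ z, Cfsg.sympForm m F u z = 0 ∧ Cfsg.sympForm m F v z ≠ 0 := by
  by_contra hcon
  push Not at hcon
  obtain ⟨y₀, hy₀⟩ := exists_sympForm_ne_zero m u hu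
  set y := (Cfsg.sympForm m F u y₀)⁻¹ • y₀ with hy
  have huy : Cfsg.sympForm m F u y = 1 := by
    rw [hy, sympForm_smul_right, inv_mul_cancel₀ hy₀]
  apply hv (Cfsg.sympForm m F v y)
  have : v - Cfsg.sympForm m F v y • u = 0 := by
    apply eq_zero_of_forall
    intro z
    have h1 := hcon (z - Cfsg.sympForm m F u z • y) (by
      rw [sympForm_sub_right, sympForm_smul_right, huy, mul_one, sub_self])
    rw [sympForm_sub_right, sympForm_smul_right] at h1
    rw [sympForm_sub_left, sympForm_smul_left]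
    linear_combination h1
  exact sub_eq_zero.1 this

/-- the stabilizer of `u` is transitive on the vectors of `u^⊥` outside `⟨u⟩` -/
theorem exists_fix_orth (u v w : K m → F) (hu : u ≠ 0) (huv : Cfsg.sympForm m F u v = 0)
    (huw : Cfsg.sympForm m F u w = 0) (hv : ∀ a : F, v ≠ a • u) (hw : ∀ a : F, w ≠ a • u) :
    ∃ g : Matrix.symplecticGroup (Fin m) F, (g : Matrix (K m) (K m) F) *ᵥ u = u ∧
      (g : Matrix (K m) (K m) F) *ᵥ v = w := by
  by_cases h : Cfsg.sympForm m F v w = 0
  · obtain ⟨z₁, hz₁u, hz₁v⟩ := exists_orth_ne_zero u v hu hv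
    obtain ⟨z₂, hz₂u, hz₂w⟩ := exists_orth_ne_zero u w hu hw
    obtain ⟨z, hzu, hzv, hzw⟩ : ∃ z, Cfsg.sympForm m F u z = 0 ∧ Cfsg.sympForm m F v z ≠ 0 ∧
        Cfsg.sympForm m F w z ≠ 0 := by
      by_cases h3 : Cfsg.sympForm m F w z₁ = 0
      · by_cases h4 : Cfsg.sympForm m F v z₂ = 0
        · refine ⟨z₁ + z₂, ?_, ?_, ?_⟩
          · rw [sympForm_add_right, hz₁u, hz₂u, add_zero]
          · rw [sympForm_add_right, h4, add_zero]; exact hz₁v
          · rw [sympForm_add_right, h3, zero_add]; exact hz₂w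
        · exact ⟨z₂, hz₂u, h4, hz₂w⟩
      · exact ⟨z₁, hz₁u, hz₁v, h3⟩
    have hzw' : Cfsg.sympForm m F z w ≠ 0 := by
      rw [sympForm_swap, neg_ne_zero]; exact hzw
    obtain ⟨g₁, -, hg₁, hg₁f⟩ := exists_tv_of_ne_zero m v z hzv
    obtain ⟨g₂, -, hg₂, hg₂f⟩ := exists_tv_of_ne_zero m z w hzw'
    refine ⟨g₂ * g₁, ?_, ?_⟩
    · rw [Submonoid.coe_mul, ← Matrix.mulVec_mulVec, hg₁f u (by rw [huv, hzu]),
        hg₂f u (by rw [hzu, huw])]
    · rw [Submonoid.coe_mul, ← Matrix.mulVec_mulVec, hg₁, hg₂]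
  · obtain ⟨g, -, hg, hgf⟩ := exists_tv_of_ne_zero m v w h
    exact ⟨g, hgf u (by rw [huv, huw]), hg⟩


/-- the linear action of `Sp` on vectors -/
@[instance_reducible]
def dmaSp : DistribMulAction (Matrix.symplecticGroup (Fin m) F) (K m → F) where
  smul g v := (g : Matrix (K m) (K m) F) *ᵥ v
  one_smul v := by
    show ((1 : Matrix.symplecticGroup (Fin m) F) : Matrix (K m) (K m) F) *ᵥ v = v
    rw [OneMemClass.coe_one, Matrix.one_mulVec]
  mul_smul g h v := by
    show ((g * h : Matrix.symplecticGroup (Fin m) F) : Matrix (K m) (K m) F) *ᵥ v =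
      (g : Matrix (K m) (K m) F) *ᵥ ((h : Matrix (K m) (K m) F) *ᵥ v)
    rw [Submonoid.coe_mul, Matrix.mulVec_mulVec]
  smul_zero g := Matrix.mulVec_zero _
  smul_add g u v := Matrix.mulVec_add _ u v

attribute [local instance] dmaSp

theorem smul_def (g : Matrix.symplecticGroup (Fin m) F) (v : K m → F) :
    g • v = (g : Matrix (K m) (K m) F) *ᵥ v := rfl

instance sccSp : SMulCommClass (Matrix.symplecticGroup (Fin m) F) F (K m → F) where
  smul_comm g a v := by
    show (g : Matrix (K m) (K m) F) *ᵥ (a • v) = a • ((g : Matrix (K m) (K m) F) *ᵥ v)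
    rw [Matrix.mulVec_smul]

/-- the projective points -/
abbrev PP (m : ℕ) (F : Type*) [Field F] : Type _ := ℙ F (K m → F)

theorem smul_mk' (g : Matrix.symplecticGroup (Fin m) F) (v : K m → F) (hv : v ≠ 0) :
    g • (Projectivization.mk F v hv : PP m F) =
      Projectivization.mk F (g • v) ((smul_ne_zero_iff_ne g).mpr hv) := rfl

theorem isPretransitive_PP : MulAction.IsPretransitive (Matrix.symplecticGroup (Fin m) F) (PP m F) := by
  constructor
  intro p p'
  induction p using Projectivization.ind with | h v hv => ?_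
  induction p' using Projectivization.ind with | h w hw => ?_
  obtain ⟨g, -, hg⟩ := TS_transitive m v w hv hw
  refine ⟨g, ?_⟩
  rw [smul_mk']
  congr 1


theorem mk_ne_iff (u v : K m → F) (hu : u ≠ 0) (hv : v ≠ 0)
    (h : (Projectivization.mk F v hv : PP m F) ≠ Projectivization.mk F u hu) (a : F) :
    v ≠ a • u := by
  intro hva
  apply h
  rw [Projectivization.mk_eq_mk_iff']
  exact ⟨a, hva.symm⟩

/-- claim (a): a block containing two non-orthogonal points `[u], [v]` contains every point
non-orthogonal to `u` -/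
theorem block_claim_a (B : Set (PP m F))
    (hB : MulAction.IsBlock (Matrix.symplecticGroup (Fin m) F) B) (u v : K m → F)
    (hu : u ≠ 0) (hv : v ≠ 0) (hub : Projectivization.mk F u hu ∈ B)
    (hvb : Projectivization.mk F v hv ∈ B) (huv : Cfsg.sympForm m F u v ≠ 0)
    (w : K m → F) (hw : w ≠ 0) (huw : Cfsg.sympForm m F u w ≠ 0) :
    Projectivization.mk F w hw ∈ B := by
  obtain ⟨g, -, hgu, hgv⟩ := TS_pair_step m u ((Cfsg.sympForm m F u v)⁻¹ • v)
    ((Cfsg.sympForm m F u w)⁻¹ • w) (by rw [sympForm_smul_right, inv_mul_cancel₀ huv])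
    (by rw [sympForm_smul_right, inv_mul_cancel₀ huw])
  have h1 : g • (Projectivization.mk F u hu : PP m F) = Projectivization.mk F u hu := by
    rw [smul_mk']
    congr 1
  have h2 := hB.smul_eq_of_mem hub (by rw [h1]; exact hub)
  have h3 : g • (Projectivization.mk F v hv : PP m F) ∈ B := by
    rw [← h2]; exact Set.smul_mem_smul_set hvb
  have h4 : g • (Projectivization.mk F v hv : PP m F) = Projectivization.mk F w hw := by
    rw [smul_mk', Projectivization.mk_eq_mk_iff']
    refine ⟨Cfsg.sympForm m F u v * (Cfsg.sympForm m F u w)⁻¹, ?_⟩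
    rw [Matrix.mulVec_smul] at hgv
    rw [smul_def, mul_smul, ← hgv, smul_smul, mul_inv_cancel₀ huv, one_smul]
  rw [← h4]; exact h3

/-- a block containing two non-orthogonal points is everything -/
theorem block_univ_of_nonorth (B : Set (PP m F))
    (hB : MulAction.IsBlock (Matrix.symplecticGroup (Fin m) F) B) (u v : K m → F)
    (hu : u ≠ 0) (hv : v ≠ 0) (hub : Projectivization.mk F u hu ∈ B)
    (hvb : Projectivization.mk F v hv ∈ B) (huv : Cfsg.sympForm m F u v ≠ 0) :
    B = Set.univ := by
  rw [Set.eq_univ_iff_forall]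
  intro p
  induction p using Projectivization.ind with | h w hw => ?_
  by_cases huw : Cfsg.sympForm m F u w = 0
  · obtain ⟨x, hux, hwx⟩ := exists_sympForm_ne_zero_two m u w hu hw
    have hx : x ≠ 0 := by
      rintro rfl
      exact hux (sympForm_zero_right' u)
    have hxb := block_claim_a B hB u v hu hv hub hvb huv x hx hux
    have hxu : Cfsg.sympForm m F x u ≠ 0 := by
      rw [sympForm_swap, neg_ne_zero]; exact hux
    have hxw : Cfsg.sympForm m F x w ≠ 0 := by
      rw [sympForm_swap, neg_ne_zero]; exact hwx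
    exact block_claim_a B hB x u hx hu hxb hub hxu w hw hxw
  · exact block_claim_a B hB u v hu hv hub hvb huv w hw huw

/-- claim (b): a block containing two distinct orthogonal points `[u], [v]` contains every point
of `u^⊥` other than `[u]` -/
theorem block_claim_b (B : Set (PP m F))
    (hB : MulAction.IsBlock (Matrix.symplecticGroup (Fin m) F) B) (u v : K m → F)
    (hu : u ≠ 0) (hv : v ≠ 0) (hub : Projectivization.mk F u hu ∈ B)
    (hvb : Projectivization.mk F v hv ∈ B) (huv : Cfsg.sympForm m F u v = 0)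
    (hne : (Projectivization.mk F v hv : PP m F) ≠ Projectivization.mk F u hu)
    (w : K m → F) (hw : w ≠ 0) (huw : Cfsg.sympForm m F u w = 0)
    (hnew : (Projectivization.mk F w hw : PP m F) ≠ Projectivization.mk F u hu) :
    Projectivization.mk F w hw ∈ B := by
  obtain ⟨g, hgu, hgv⟩ := exists_fix_orth u v w hu huv huw (mk_ne_iff u v hu hv hne)
    (mk_ne_iff u w hu hw hnew)
  have h1 : g • (Projectivization.mk F u hu : PP m F) = Projectivization.mk F u hu := by
    rw [smul_mk']
    congr 1
  have h2 := hB.smul_eq_of_mem hub (by rw [h1]; exact hub)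
  have h3 : g • (Projectivization.mk F v hv : PP m F) ∈ B := by
    rw [← h2]; exact Set.smul_mem_smul_set hvb
  have h4 : g • (Projectivization.mk F v hv : PP m F) = Projectivization.mk F w hw := by
    rw [smul_mk']
    congr 1
  rw [← h4]; exact h3


theorem sympForm_single_inl (x : K m → F) (j : Fin m) :
    Cfsg.sympForm m F x (Pi.single (Sum.inl j) 1) = x (Sum.inr j) := by
  classical
  rw [sympForm_eq, Finset.sum_eq_single j]
  · rw [Pi.single_eq_same, Pi.single_eq_of_ne (by simp)]
    ring
  · intro i _ hij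
    rw [Pi.single_eq_of_ne (by simp [hij]), Pi.single_eq_of_ne (by simp)]
    ring
  · intro h; exact absurd (Finset.mem_univ j) h

theorem sympForm_single_inr (x : K m → F) (j : Fin m) :
    Cfsg.sympForm m F x (Pi.single (Sum.inr j) 1) = - x (Sum.inl j) := by
  classical
  rw [sympForm_eq, Finset.sum_eq_single j]
  · rw [Pi.single_eq_same, Pi.single_eq_of_ne (by simp)]
    ring
  · intro i _ hij
    rw [Pi.single_eq_of_ne (by simp), Pi.single_eq_of_ne (by simp [hij])]
    ring
  · intro h; exact absurd (Finset.mem_univ j) h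

/-- inside `u^⊥` there is a hyperbolic pair (`m ≥ 2`) -/
theorem exists_hyp_in_orth (hm : 2 ≤ m) (u : K m → F) (hu : u ≠ 0) :
    ∃ w w' : K m → F, Cfsg.sympForm m F u w = 0 ∧ Cfsg.sympForm m F u w' = 0 ∧
      Cfsg.sympForm m F w w' ≠ 0 := by
  obtain ⟨y₀, hy₀⟩ := exists_sympForm_ne_zero m u hu
  set y := (Cfsg.sympForm m F u y₀)⁻¹ • y₀ with hy
  have huy : Cfsg.sympForm m F u y = 1 := by
    rw [hy, sympForm_smul_right, inv_mul_cancel₀ hy₀]
  let j0 : Fin m := ⟨0, by omega⟩
  let j1 : Fin m := ⟨1, by omega⟩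
  have hj : j0 ≠ j1 := by simp [j0, j1, Fin.ext_iff]
  let f0 : K m → F := Pi.single (Sum.inr j0) 1
  let e0 : K m → F := Pi.single (Sum.inl j0) 1
  let f1 : K m → F := Pi.single (Sum.inr j1) 1
  let e1 : K m → F := Pi.single (Sum.inl j1) 1
  have h00 : Cfsg.sympForm m F f0 e0 = 1 := by
    rw [sympForm_single_inl]; exact Pi.single_eq_same _ _
  obtain ⟨g, -, hg1, hg2⟩ := TS_pair_transitive m f0 e0 u y h00 huy
  have hg := (mem_symplecticGroup_iff_sympForm m g.1).1 g.2
  refine ⟨(g : Matrix (K m) (K m) F) *ᵥ f1, (g : Matrix (K m) (K m) F) *ᵥ e1, ?_, ?_, ?_⟩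
  · rw [← hg1, hg, sympForm_single_inr]
    simp [f0]
  · rw [← hg1, hg, sympForm_single_inl]
    simp [f0, hj]
  · rw [hg, sympForm_single_inl]
    simp [f1]

theorem isPreprimitive_PP (hm : 2 ≤ m) :
    MulAction.IsPreprimitive (Matrix.symplecticGroup (Fin m) F) (PP m F) := by
  have := isPretransitive_PP (F := F) (m := m)
  refine ⟨fun {B} hB => ?_⟩
  by_contra hcon
  unfold MulAction.IsTrivialBlock at hcon
  push Not at hcon
  obtain ⟨hns, hnu⟩ := hcon
  obtain ⟨p, hp, p', hp', hpp'⟩ := hns
  induction p using Projectivization.ind with | h u hu => ?_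
  induction p' using Projectivization.ind with | h v hv => ?_
  apply hnu
  by_cases huv : Cfsg.sympForm m F u v = 0
  · obtain ⟨w, w', huw, huw', hww'⟩ := exists_hyp_in_orth hm u hu
    have hw : w ≠ 0 := by
      rintro rfl
      exact hww' (sympForm_zero_left' w')
    have hw' : w' ≠ 0 := by
      rintro rfl
      exact hww' (sympForm_zero_right' w)
    have hnew : (Projectivization.mk F w hw : PP m F) ≠ Projectivization.mk F u hu := by
      intro h
      rw [Projectivization.mk_eq_mk_iff'] at h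
      obtain ⟨a, ha⟩ := h
      apply hww'
      rw [← ha, sympForm_smul_left, huw', mul_zero]
    have hnew' : (Projectivization.mk F w' hw' : PP m F) ≠ Projectivization.mk F u hu := by
      intro h
      rw [Projectivization.mk_eq_mk_iff'] at h
      obtain ⟨a, ha⟩ := h
      apply hww'
      rw [← ha, sympForm_smul_right, sympForm_swap, huw, neg_zero, mul_zero]
    have h1 := block_claim_b B hB u v hu hv hp hp' huv (Ne.symm hpp') w hw huw hnew
    have h2 := block_claim_b B hB u v hu hv hp hp' huv (Ne.symm hpp') w' hw' huw' hnew'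
    exact block_univ_of_nonorth B hB w w' hw hw' h1 h2 hww'
  · exact block_univ_of_nonorth B hB u v hu hv hp hp' huv


open scoped Pointwise

/-- the root subgroup of `v` -/
def Tvec (v : K m → F) : Subgroup (Matrix.symplecticGroup (Fin m) F) where
  carrier := {g | ∃ c, g = tv m v c}
  mul_mem' := by
    rintro _ _ ⟨a, rfl⟩ ⟨b, rfl⟩
    exact ⟨a + b, tv_mul v a b⟩
  one_mem' := ⟨0, (tv_zero_right v).symm⟩
  inv_mem' := by
    rintro _ ⟨a, rfl⟩
    refine ⟨-a, ?_⟩
    rw [inv_eq_iff_mul_eq_one, tv_mul, add_neg_cancel, tv_zero_right]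

theorem mem_Tvec (v : K m → F) (g : Matrix.symplecticGroup (Fin m) F) :
    g ∈ Tvec v ↔ ∃ c, g = tv m v c := Iff.rfl

theorem Tvec_smul (a : F) (ha : a ≠ 0) (v : K m → F) : Tvec (a • v) = Tvec v := by
  ext g
  rw [mem_Tvec, mem_Tvec]
  constructor
  · rintro ⟨c, rfl⟩
    exact ⟨c * a ^ 2, tv_smul a v c⟩
  · rintro ⟨c, rfl⟩
    refine ⟨c / a ^ 2, ?_⟩
    rw [tv_smul]
    congr 1
    field_simp

theorem Tvec_conj (g : Matrix.symplecticGroup (Fin m) F) (v : K m → F) :
    MulAut.conj g • Tvec v = Tvec ((g : Matrix (K m) (K m) F) *ᵥ v) := by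
  ext x
  rw [Subgroup.mem_smul_pointwise_iff_exists, mem_Tvec]
  constructor
  · rintro ⟨s, ⟨c, rfl⟩, rfl⟩
    refine ⟨c, ?_⟩
    rw [MulAut.smul_def, MulAut.conj_apply, conj_tv]
  · rintro ⟨c, rfl⟩
    refine ⟨tv m v c, ⟨c, rfl⟩, ?_⟩
    rw [MulAut.smul_def, MulAut.conj_apply, conj_tv]

theorem Tvec_rep (v : K m → F) (hv : v ≠ 0) :
    Tvec (Projectivization.mk F v hv : PP m F).rep = Tvec v := by
  obtain ⟨a, ha⟩ := Projectivization.exists_smul_eq_mk_rep F v hv
  rw [← ha]
  exact Tvec_smul (a : F) a.ne_zero v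

/-- the Iwasawa structure -/
noncomputable def iwa : MulAction.IwasawaStructure (Matrix.symplecticGroup (Fin m) F) (PP m F) where
  T p := Tvec p.rep
  is_comm p := by
    refine ⟨⟨?_⟩⟩
    rintro ⟨_, ⟨a, rfl⟩⟩ ⟨_, ⟨b, rfl⟩⟩
    apply Subtype.ext
    show tv m p.rep a * tv m p.rep b = tv m p.rep b * tv m p.rep a
    rw [tv_mul, tv_mul, add_comm]
  is_conj g p := by
    rw [Tvec_conj]
    conv_lhs => rw [← Projectivization.mk_rep p, smul_mk', Tvec_rep]
    rfl
  is_generator := by
    rw [eq_top_iff, ← TS_eq_top m]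
    unfold TS
    rw [Subgroup.closure_le]
    rintro _ ⟨v, c, rfl⟩
    by_cases hv : v = 0
    · have : tv m v c = 1 := by
        apply Subtype.ext
        rw [tv_val, Matrix.ext_iff_mulVec]
        intro x
        rw [sympTransvection_mulVec, hv, smul_zero, add_zero]
        simp
      rw [this]
      exact Subgroup.one_mem _
    · apply (le_iSup (fun p : PP m F => Tvec p.rep) (Projectivization.mk F v hv))
      rw [Tvec_rep]
      exact ⟨c, rfl⟩

/-- a matrix having every vector as an eigenvector is scalar -/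
theorem scalar_of_eigen (hm : 1 ≤ m) (A : Matrix (K m) (K m) F)
    (h : ∀ v : K m → F, v ≠ 0 → ∃ c : F, A *ᵥ v = c • v) :
    ∃ c : F, A = c • 1 := by
  classical
  have hne : ∀ i : K m, (Pi.single i 1 : K m → F) ≠ 0 := by
    intro i h
    have := congrFun h i
    simp at this
  choose lam hlam using fun i => h (Pi.single i 1) (hne i)
  have hAe : ∀ k i, A k i = lam i * (if k = i then 1 else 0) := by
    intro k i
    have := congrFun (hlam i) k
    rw [Matrix.mulVec_single_one] at this
    rw [show A k i = (A.col i) k from rfl, this]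
    simp [Pi.single_apply]
  have heq : ∀ i j, lam i = lam j := by
    intro i j
    by_cases hij : i = j
    · rw [hij]
    have hv : (Pi.single i 1 + Pi.single j 1 : K m → F) ≠ 0 := by
      intro h
      have := congrFun h i
      simp [hij] at this
    obtain ⟨μ, hμ⟩ := h _ hv
    rw [Matrix.mulVec_add, hlam i, hlam j] at hμ
    have hi := congrFun hμ i
    have hj := congrFun hμ j
    simp [hij, Ne.symm hij] at hi hj
    rw [hi, hj]
  let i₀ : K m := Sum.inl ⟨0, hm⟩
  refine ⟨lam i₀, ?_⟩
  ext k i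
  rw [hAe, heq i i₀, Matrix.smul_apply, Matrix.one_apply, smul_eq_mul]

/-- a normal subgroup of `Sp_{2m}` is central or everything -/
theorem normal_dichotomy (hm : 2 ≤ m)
    (hperf : commutator (Matrix.symplecticGroup (Fin m) F) = ⊤)
    (N : Subgroup (Matrix.symplecticGroup (Fin m) F)) [N.Normal] :
    N ≤ Subgroup.center (Matrix.symplecticGroup (Fin m) F) ∨ N = ⊤ := by
  have := isPreprimitive_PP (F := F) hm
  by_cases hfix : MulAction.fixedPoints N (PP m F) = Set.univ
  · left
    intro n hn
    have h1 : ∀ v : K m → F, v ≠ 0 → ∃ c : F, (n : Matrix (K m) (K m) F) *ᵥ v = c • v := by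
      intro v hv
      have h2 : (Projectivization.mk F v hv : PP m F) ∈ MulAction.fixedPoints N (PP m F) := by
        rw [hfix]; exact Set.mem_univ _
      have h3 := h2 ⟨n, hn⟩
      change n • (Projectivization.mk F v hv : PP m F) = _ at h3
      rw [smul_mk', Projectivization.mk_eq_mk_iff'] at h3
      obtain ⟨a, ha⟩ := h3
      exact ⟨a, ha.symm⟩
    obtain ⟨c, hc⟩ := scalar_of_eigen (by omega) n.1 h1
    have hmem : (c • 1 : Matrix (K m) (K m) F) ∈ Matrix.symplecticGroup (Fin m) F := by
      rw [← hc]; exact n.2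
    have hcen := center_eq (F := F) m (by omega)
    rw [← SetLike.mem_coe, hcen]
    rcases scalar_sq m (by omega) c hmem with rfl | rfl
    · left
      apply Subtype.ext
      rw [hc, one_smul]; rfl
    · right
      apply Subtype.ext
      rw [hc, neg_smul, one_smul]; rfl
  · right
    have h1 := MulAction.IwasawaStructure.commutator_le (iwa (F := F) (m := m)) N hfix
    rw [hperf] at h1
    exact top_le_iff.1 h1


/-- a group all of whose normal subgroups are central or everything has simple central quotient -/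
theorem isSimpleGroup_quotient_center {G : Type*} [Group G] (hnt : Subgroup.center G ≠ ⊤)
    (h : ∀ N : Subgroup G, N.Normal → N ≤ Subgroup.center G ∨ N = ⊤) :
    IsSimpleGroup (G ⧸ Subgroup.center G) := by
  have hnt' : Nontrivial (G ⧸ Subgroup.center G) := by
    obtain ⟨g, hg⟩ : ∃ g : G, g ∉ Subgroup.center G := by
      by_contra hcon
      push Not at hcon
      exact hnt (eq_top_iff.2 fun g _ => hcon g)
    exact ⟨⟨(g : G ⧸ Subgroup.center G), 1, fun h => hg ((QuotientGroup.eq_one_iff g).1 h)⟩⟩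
  refine ⟨fun H hH => ?_⟩
  have hN : (H.comap (QuotientGroup.mk' (Subgroup.center G))).Normal := hH.comap _
  rcases h _ hN with h1 | h1
  · left
    rw [eq_bot_iff]
    intro x hx
    obtain ⟨g, rfl⟩ := QuotientGroup.mk_surjective x
    have : g ∈ Subgroup.center G := h1 (Subgroup.mem_comap.2 hx)
    rw [Subgroup.mem_bot]
    exact (QuotientGroup.eq_one_iff g).2 this
  · right
    rw [eq_top_iff]
    intro x _
    obtain ⟨g, rfl⟩ := QuotientGroup.mk_surjective x
    have : g ∈ H.comap (QuotientGroup.mk' (Subgroup.center G)) := by rw [h1]; exact Subgroup.mem_top _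
    exact Subgroup.mem_comap.1 this

/-- `PSp_{2m}(q)` is simple for `m ≥ 2`, `(m, q) ≠ (2, 2)` -/
theorem PSp_simple [Fintype F] (m : ℕ) (hm : 2 ≤ m) (h : m = 2 → 3 ≤ Fintype.card F) :
    IsSimpleGroup (Matrix.symplecticGroup (Fin m) F ⧸
      Subgroup.center (Matrix.symplecticGroup (Fin m) F)) := by
  have hperf : commutator (Matrix.symplecticGroup (Fin m) F) = ⊤ := by
    apply perfect
    by_cases h2 : m = 2
    · right; left; exact ⟨h2, h h2⟩
    · left; omega
  apply isSimpleGroup_quotient_center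
  · intro htop
    rw [← commutator_eq_bot_iff_center_eq_top, hperf] at htop
    -- the group is nontrivial
    let v : K m → F := Pi.single (Sum.inl ⟨0, by omega⟩) 1
    have h1 : tv m v 1 ∈ (⊤ : Subgroup (Matrix.symplecticGroup (Fin m) F)) := Subgroup.mem_top _
    rw [htop, Subgroup.mem_bot] at h1
    have h2 := congrArg (fun g : Matrix.symplecticGroup (Fin m) F =>
      (g : Matrix (K m) (K m) F) *ᵥ (Pi.single (Sum.inr ⟨0, by omega⟩) 1)) h1
    simp only [tv_mulVec, OneMemClass.coe_one, Matrix.one_mulVec] at h2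
    have h3 := congrFun h2 (Sum.inl ⟨0, by omega⟩)
    rw [sympForm_swap, sympForm_single_inr] at h3
    simp [v] at h3
  · intro N hN
    exact normal_dichotomy hm hperf N

end Cfsg.Agent.Lib.H2.Sp
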