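import Mathlib

set_option autoImplicit false

namespace Cfsg.Agent.Lib.H2

variable {G : Type*} [Group G]

theorem mul_self_of_orderOf_two {x : G} (hx : orderOf x = 2) : x * x = 1 := by
  rw [← pow_two, ← hx, pow_orderOf_eq_one]

theorem inv_of_orderOf_two {x : G} (hx : orderOf x = 2) : x⁻¹ = x :=
  inv_eq_of_mul_eq_one_right (mul_self_of_orderOf_two hx)

/-- `x` semiconjugates `x*y` to `y*x` when `x` is an involution. -/
theorem semiconj_left {x y : G} (hx2 : x * x = 1) : SemiconjBy x (x * y) (y * x) := by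
  unfold SemiconjBy
  rw [← mul_assoc, hx2, one_mul, mul_assoc, hx2, mul_one]

/-- `x * (x*y)^i = (x*y)^(-i) * x` for involutions `x`, `y`. -/
theorem inv_zpow_swap {x y : G} (hx2 : x * x = 1) (hy2 : y * y = 1) (i : ℤ) :
    x * (x * y) ^ i = (x * y) ^ (-i) * x := by
  have hxi : x⁻¹ = x := inv_eq_of_mul_eq_one_right hx2
  have hyi : y⁻¹ = y := inv_eq_of_mul_eq_one_right hy2
  have h := (semiconj_left (y := y) hx2).zpow_right i
  unfold SemiconjBy at h
  rw [h, zpow_neg, ← inv_zpow, mul_inv_rev, hxi, hyi]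

/-- `y * (x*y)^i = (x*y)^(-i) * y` for involutions `x`, `y`. -/
theorem inv_zpow_swap' {x y : G} (hx2 : x * x = 1) (hy2 : y * y = 1) (i : ℤ) :
    y * (x * y) ^ i = (x * y) ^ (-i) * y := by
  have hxi : x⁻¹ = x := inv_eq_of_mul_eq_one_right hx2
  have hyi : y⁻¹ = y := inv_eq_of_mul_eq_one_right hy2
  have h0 : SemiconjBy y (x * y) (y * x) := by
    unfold SemiconjBy; rw [mul_assoc]
  have h := h0.zpow_right i
  unfold SemiconjBy at h
  rw [h, zpow_neg, ← inv_zpow, mul_inv_rev, hxi, hyi]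

/-- The set of elements `(x*y)^(2i) * x`. -/
def reflSet (x y : G) : Set G := {a | ∃ i : ℤ, a = (x * y) ^ (2 * i) * x}

theorem conj_x_mem_reflSet {x y : G} (hx2 : x * x = 1) (hy2 : y * y = 1) {a : G}
    (ha : a ∈ reflSet x y) : x * a * x⁻¹ ∈ reflSet x y := by
  obtain ⟨i, rfl⟩ := ha
  have hxi : x⁻¹ = x := inv_eq_of_mul_eq_one_right hx2
  refine ⟨-i, ?_⟩
  rw [hxi, ← mul_assoc, inv_zpow_swap hx2 hy2, mul_assoc, mul_assoc, hx2, mul_one, mul_neg]

theorem conj_y_mem_reflSet {x y : G} (hx2 : x * x = 1) (hy2 : y * y = 1) {a : G}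
    (ha : a ∈ reflSet x y) : y * a * y⁻¹ ∈ reflSet x y := by
  obtain ⟨i, rfl⟩ := ha
  have hyi : y⁻¹ = y := inv_eq_of_mul_eq_one_right hy2
  refine ⟨-i - 1, ?_⟩
  -- y r^{2i} x y = r^{-2i} y x y = r^{-2i} (y x) (y x) x = r^{-2i} r^{-2} x
  have hyx : y * x = (x * y) ^ (-1 : ℤ) := by
    have hxi : x⁻¹ = x := inv_eq_of_mul_eq_one_right hx2
    rw [zpow_neg, zpow_one, mul_inv_rev, hxi, hyi]
  have e1 : y * ((x * y) ^ (2 * i) * x) * y⁻¹ = (x * y) ^ (-(2 * i)) * ((y * x) * (y * x)) * x := by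
    rw [hyi, ← mul_assoc, inv_zpow_swap' hx2 hy2]
    simp only [mul_assoc]
    rw [hx2, mul_one]
  rw [e1, hyx, ← zpow_add, ← zpow_add]
  congr 2
  ring

theorem x_mem_setNormalizer {x y : G} (hx2 : x * x = 1) (hy2 : y * y = 1) :
    x ∈ Subgroup.normalizer (reflSet x y) := by
  have hxi : x⁻¹ = x := inv_eq_of_mul_eq_one_right hx2
  intro a
  refine ⟨fun ha => conj_x_mem_reflSet hx2 hy2 ha, fun ha => ?_⟩
  have := conj_x_mem_reflSet hx2 hy2 ha
  have e : x * (x * a * x⁻¹) * x⁻¹ = a := by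
    rw [hxi]; simp only [mul_assoc]; rw [hx2, mul_one, ← mul_assoc, hx2, one_mul]
  rwa [e] at this

theorem y_mem_setNormalizer {x y : G} (hx2 : x * x = 1) (hy2 : y * y = 1) :
    y ∈ Subgroup.normalizer (reflSet x y) := by
  have hyi : y⁻¹ = y := inv_eq_of_mul_eq_one_right hy2
  intro a
  refine ⟨fun ha => conj_y_mem_reflSet hx2 hy2 ha, fun ha => ?_⟩
  have := conj_y_mem_reflSet hx2 hy2 ha
  have e : y * (y * a * y⁻¹) * y⁻¹ = a := by
    rw [hyi]; simp only [mul_assoc]; rw [hy2, mul_one, ← mul_assoc, hy2, one_mul]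
  rwa [e] at this

/-- Conjugates of `x` by elements of `⟨x, y⟩` have the form `(x*y)^(2i) * x`. -/
theorem dihedral_conj {x y : G} (hx2 : x * x = 1) (hy2 : y * y = 1) {d : G}
    (hd : d ∈ Subgroup.closure ({x, y} : Set G)) : ∃ i : ℤ, d * x * d⁻¹ = (x * y) ^ (2 * i) * x := by
  have hle : Subgroup.closure ({x, y} : Set G) ≤ Subgroup.normalizer (reflSet x y) := by
    rw [Subgroup.closure_le]
    intro g hg
    rcases hg with rfl | rfl
    · exact x_mem_setNormalizer hx2 hy2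
    · exact y_mem_setNormalizer hx2 hy2
  have hx0 : x ∈ reflSet x y := ⟨0, by simp⟩
  exact (hle hd x).1 hx0

/-- Every `(x*y)^(2i) * x` is a conjugate of `x` by an element of `⟨x, y⟩`. -/
theorem dihedral_conj_exists {x y : G} (hx2 : x * x = 1) (hy2 : y * y = 1) (i : ℤ) :
    ∃ d ∈ Subgroup.closure ({x, y} : Set G), d * x * d⁻¹ = (x * y) ^ (2 * i) * x := by
  have hxm : x ∈ Subgroup.closure ({x, y} : Set G) := Subgroup.subset_closure (by simp)
  have hym : y ∈ Subgroup.closure ({x, y} : Set G) := Subgroup.subset_closure (by simp)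
  refine ⟨(x * y) ^ i, Subgroup.zpow_mem _ (Subgroup.mul_mem _ hxm hym) _, ?_⟩
  rw [← zpow_neg, mul_assoc, inv_zpow_swap hx2 hy2, neg_neg, ← mul_assoc, ← zpow_add]
  congr 2
  ring

end Cfsg.Agent.Lib.H2

namespace Cfsg.Agent.Lib.H2

variable {G : Type*} [Group G]

theorem dihedral_conj_y {x y : G} (hx2 : x * x = 1) (hy2 : y * y = 1) (i : ℤ) :
    (x * y) ^ i * y * ((x * y) ^ i)⁻¹ = (x * y) ^ (2 * i) * y := by
  rw [← zpow_neg, mul_assoc, inv_zpow_swap' hx2 hy2, neg_neg, ← mul_assoc, ← zpow_add]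
  congr 2
  ring

theorem x_mul_zpow {x y : G} (hx2 : x * x = 1) (hy2 : y * y = 1) (k : ℤ) :
    x * (x * y) ^ k = (x * y) ^ (1 - k) * y := by
  rw [inv_zpow_swap hx2 hy2]
  have hx : x = (x * y) * y := by rw [mul_assoc, hy2, mul_one]
  nth_rewrite 2 [hx]
  rw [← mul_assoc, ← zpow_add_one]
  congr 2
  ring

end Cfsg.Agent.Lib.H2
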