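import Mathlib
import Cfsg.Agent.Lib.H2.Dihedral

set_option autoImplicit false

namespace Cfsg.Agent.Lib.H2

variable {G : Type*} [Group G]

theorem orderOf_two_iff {t : G} : orderOf t = 2 ↔ t * t = 1 ∧ t ≠ 1 := by
  have : Fact (Nat.Prime 2) := ⟨Nat.prime_two⟩
  rw [orderOf_eq_prime_iff, pow_two]

/-- if `u`, `v` are involutions then `u` inverts `u * v` -/
theorem inverts_mul_of_involutions {u v : G} (hu : u * u = 1) (hv : v * v = 1) :
    u * (u * v) * u⁻¹ = (u * v)⁻¹ := by
  have hui : u⁻¹ = u := inv_eq_of_mul_eq_one_right hu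
  have hvi : v⁻¹ = v := inv_eq_of_mul_eq_one_right hv
  rw [mul_inv_rev, hui, hvi, ← mul_assoc, hu, one_mul]

/-- the pairs of involutions with product `x`, for `x^2 ≠ 1`, correspond to the involutions inverting `x` -/
noncomputable def pairsEquivInverting (x : G) (hx : x ^ 2 ≠ 1) :
    {p : G × G // orderOf p.1 = 2 ∧ orderOf p.2 = 2 ∧ p.1 * p.2 = x} ≃
      {t : G // orderOf t = 2 ∧ t * x * t⁻¹ = x⁻¹} where
  toFun p := ⟨p.1.1, p.2.1, by
    obtain ⟨⟨u, v⟩, hu, hv, huv⟩ := p
    simp only at hu hv huv ⊢
    rw [← huv]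
    exact inverts_mul_of_involutions (mul_self_of_orderOf_two hu) (mul_self_of_orderOf_two hv)⟩
  invFun t := ⟨(t.1, t.1 * x), t.2.1, by
    obtain ⟨t, ht, htx⟩ := t
    simp only
    have ht2 := mul_self_of_orderOf_two ht
    have hti := inv_of_orderOf_two ht
    rw [orderOf_two_iff]
    constructor
    · rw [hti] at htx
      calc t * x * (t * x) = (t * x * t) * x := by simp only [mul_assoc]
        _ = 1 := by rw [htx]; exact inv_mul_cancel x
    · intro h
      apply hx
      have hxt : x = t := by
        calc x = t * (t * x) := by rw [← mul_assoc, ht2, one_mul]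
          _ = t := by rw [h, mul_one]
      rw [hxt, pow_two, ht2], by
    obtain ⟨t, ht, htx⟩ := t
    simp only
    rw [← mul_assoc, mul_self_of_orderOf_two ht, one_mul]⟩
  left_inv p := by
    obtain ⟨⟨u, v⟩, hu, hv, huv⟩ := p
    simp only at hu hv huv ⊢
    apply Subtype.ext
    simp only
    rw [← huv, ← mul_assoc, mul_self_of_orderOf_two hu, one_mul]
  right_inv t := by
    apply Subtype.ext
    rfl

/-- the pairs of involutions with product the involution `x` correspond to the involutions
commuting with `x` other than `x` itself -/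
noncomputable def pairsEquivCommuting (x : G) (hx : orderOf x = 2) :
    {p : G × G // orderOf p.1 = 2 ∧ orderOf p.2 = 2 ∧ p.1 * p.2 = x} ≃
      {t : G // (orderOf t = 2 ∧ Commute t x) ∧ t ≠ x} where
  toFun p := ⟨p.1.1, ⟨p.2.1, by
    obtain ⟨⟨u, v⟩, hu, hv, huv⟩ := p
    simp only at hu hv huv ⊢
    have hu2 := mul_self_of_orderOf_two hu
    have hv2 := mul_self_of_orderOf_two hv
    have hx2 := mul_self_of_orderOf_two hx
    have hxi := inv_of_orderOf_two hx
    have h1 := inverts_mul_of_involutions hu2 hv2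
    rw [huv, hxi] at h1
    unfold Commute SemiconjBy
    calc u * x = u * x * u⁻¹ * u := by simp
      _ = x * u := by rw [h1]⟩, by
    obtain ⟨⟨u, v⟩, hu, hv, huv⟩ := p
    simp only at hu hv huv ⊢
    intro h
    rw [h] at huv
    have : v = 1 := by simpa using huv
    rw [this] at hv
    simp at hv⟩
  invFun t := ⟨(t.1, t.1 * x), t.2.1.1, by
    obtain ⟨t, ⟨ht, htx⟩, hne⟩ := t
    simp only
    have ht2 := mul_self_of_orderOf_two ht
    have hx2 := mul_self_of_orderOf_two hx
    rw [orderOf_two_iff]
    constructor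
    · calc t * x * (t * x) = t * (x * t) * x := by simp only [mul_assoc]
        _ = t * (t * x) * x := by rw [htx.eq]
        _ = (t * t) * (x * x) := by simp only [mul_assoc]
        _ = 1 := by rw [ht2, hx2, one_mul]
    · intro h
      apply hne
      have hti := inv_of_orderOf_two ht
      have hxi := inv_of_orderOf_two hx
      calc t = t⁻¹ := hti.symm
        _ = x := (eq_inv_of_mul_eq_one_right h).symm
      , by
    obtain ⟨t, ⟨ht, htx⟩, hne⟩ := t
    simp only
    rw [← mul_assoc, mul_self_of_orderOf_two ht, one_mul]⟩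
  left_inv p := by
    obtain ⟨⟨u, v⟩, hu, hv, huv⟩ := p
    simp only at hu hv huv ⊢
    apply Subtype.ext
    simp only
    rw [← huv, ← mul_assoc, mul_self_of_orderOf_two hu, one_mul]
  right_inv t := by
    apply Subtype.ext
    rfl

end Cfsg.Agent.Lib.H2
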