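import Mathlib
import Cfsg.Agent.Lib.H2.Dihedral
import Cfsg.Agent.Lib.H2.Pairs

set_option autoImplicit false

namespace Cfsg.Agent.Lib.H2

variable {G : Type*} [Group G] [Finite G]

theorem mem_smul_sylow_iff {p : ℕ} (P : Sylow p G) (h a : G) :
    a ∈ h • P ↔ h⁻¹ * a * h ∈ P := by
  have : a ∈ h • P ↔ a ∈ ((h • P : Sylow p G) : Subgroup G) := Iff.rfl
  rw [this, Sylow.coe_subgroup_smul, Subgroup.mem_pointwise_smul_iff_inv_smul_mem]
  simp only [MulAut.smul_def, MulAut.inv_apply, MulAut.conj_symm_apply]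
  rfl

/-- If `u` is the only conjugate of itself in the Sylow subgroup `P`, then two conjugates of
`u` in one Sylow subgroup coincide. -/
theorem isolated_sylow {p : ℕ} [Fact p.Prime] {P : Sylow p G} {u : G}
    (hiso : ∀ g : G, g * u * g⁻¹ ∈ P → g * u * g⁻¹ = u) (Q : Sylow p G) {g₁ g₂ : G}
    (ha : g₁ * u * g₁⁻¹ ∈ Q) (hb : g₂ * u * g₂⁻¹ ∈ Q) : g₁ * u * g₁⁻¹ = g₂ * u * g₂⁻¹ := by
  obtain ⟨h, rfl⟩ := MulAction.exists_smul_eq G P Q
  rw [mem_smul_sylow_iff] at ha hb
  have e1 : h⁻¹ * (g₁ * u * g₁⁻¹) * h = (h⁻¹ * g₁) * u * (h⁻¹ * g₁)⁻¹ := by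
    simp [mul_assoc]
  have e2 : h⁻¹ * (g₂ * u * g₂⁻¹) * h = (h⁻¹ * g₂) * u * (h⁻¹ * g₂)⁻¹ := by
    simp [mul_assoc]
  rw [e1] at ha
  rw [e2] at hb
  have h1 := hiso _ ha
  have h2 := hiso _ hb
  rw [← e1] at h1
  rw [← e2] at h2
  have := h1.trans h2.symm
  have h3 := mul_left_cancel (mul_right_cancel this)
  exact h3

/-- If the involution `u` is the only conjugate of itself in the Sylow 2-subgroup `P`, then a
conjugate of `u` commuting with `u` equals `u`. -/
theorem isolated_commute {P : Sylow 2 G} {u : G} (hu : orderOf u = 2)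
    (hiso : ∀ g : G, g * u * g⁻¹ ∈ P → g * u * g⁻¹ = u) {g : G}
    (hc : Commute u (g * u * g⁻¹)) : g * u * g⁻¹ = u := by
  have : Fact (Nat.Prime 2) := ⟨Nat.prime_two⟩
  set w := g * u * g⁻¹ with hw
  have hwo : orderOf w = 2 := by
    rw [hw, ← hu]
    have : g * u * g⁻¹ = MulAut.conj g u := by simp [MulAut.conj_apply]
    rw [this]
    exact MulEquiv.orderOf_eq _ u
  -- the subgroup generated by `u` and `w` is a 2-group
  have h1 : IsPGroup 2 (Subgroup.zpowers u) := by
    apply IsPGroup.of_card (n := 1)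
    rw [Nat.card_zpowers, hu, pow_one]
  have h2 : IsPGroup 2 (Subgroup.zpowers w) := by
    apply IsPGroup.of_card (n := 1)
    rw [Nat.card_zpowers, hwo, pow_one]
  have hle : Subgroup.zpowers u ≤ Subgroup.normalizer (Subgroup.zpowers w : Set G) := by
    rw [Subgroup.zpowers_le]
    rw [Subgroup.mem_normalizer_iff]
    intro n
    have key : ∀ n : G, n ∈ Subgroup.zpowers w → u * n * u⁻¹ = n := by
      intro n hn
      obtain ⟨k, rfl⟩ := Subgroup.mem_zpowers_iff.1 hn
      have := (hc.zpow_right k).eq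
      rw [this]; simp
    constructor
    · intro hn
      rw [key n hn]; exact hn
    · intro hn
      have := key _ hn
      have e : n = u⁻¹ * (u * n * u⁻¹) * u := by simp [mul_assoc]
      rw [e]
      have hui : u⁻¹ = u := inv_of_orderOf_two hu
      have := key _ hn
      rw [hui] at this ⊢
      have h5 : u * (u * n * u) * u = u * n * u := by
        have := key _ hn
        rw [hui] at this
        exact this
      rw [h5]; rw [hui] at hn; exact hn
  have h3 : IsPGroup 2 (Subgroup.zpowers u ⊔ Subgroup.zpowers w : Subgroup G) :=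
    IsPGroup.to_sup_of_normal_right' h1 h2 hle
  obtain ⟨Q, hQ⟩ := h3.exists_le_sylow
  have huQ : u ∈ Q := hQ (Subgroup.mem_sup_left (Subgroup.mem_zpowers u))
  have hwQ : w ∈ Q := hQ (Subgroup.mem_sup_right (Subgroup.mem_zpowers w))
  have hu1 : (1 : G) * u * (1 : G)⁻¹ = u := by simp
  rw [← hu1] at huQ
  have := isolated_sylow hiso Q hwQ huQ
  rw [hw, this, hu1]

end Cfsg.Agent.Lib.H2
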