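import Mathlib
import Cfsg.Agent.Lib.H2.Isolated
import Cfsg.Agent.S0209
import Cfsg.Agent.S0211

set_option autoImplicit false

namespace Cfsg.Agent.Lib.H2

variable {G : Type*} [Group G] [Finite G]

theorem orderOf_conj_eq (g u : G) : orderOf (g * u * g⁻¹) = orderOf u := by
  have : g * u * g⁻¹ = MulAut.conj g u := by simp [MulAut.conj_apply]
  rw [this]
  exact MulEquiv.orderOf_eq _ u

/-- Let `u` be an involution isolated in the Sylow 2-subgroup `P` and `s` an involution such that
`u * s` has even order `n`. Then `n = 2 m` with `m` odd and `s` is not conjugate to `u`: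
more precisely, `4 ∤ n` and `s` is not conjugate to `u`. -/
theorem isolated_even_prod {P : Sylow 2 G} {u : G} (hu : orderOf u = 2)
    (hiso : ∀ g : G, g * u * g⁻¹ ∈ P → g * u * g⁻¹ = u) {s : G} (hs : orderOf s = 2)
    (heven : Even (orderOf (u * s))) :
    ¬ 4 ∣ orderOf (u * s) ∧ ∀ g : G, g * u * g⁻¹ ≠ s := by
  have hu2 := mul_self_of_orderOf_two hu
  have hs2 := mul_self_of_orderOf_two hs
  obtain ⟨hz, hzu, hzs⟩ := Cfsg.Agent.S0209.result u s hu hs heven
  -- a conjugate of `u` of the form `u * z` gives a contradiction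
  have key : ∀ d : G, d * u * d⁻¹ ≠ u * (u * s) ^ (orderOf (u * s) / 2) := by
    intro d hd
    have hc : Commute u (d * u * d⁻¹) := by
      rw [hd]
      exact (Commute.refl u).mul_right hzu.symm
    have h1 := isolated_commute hu hiso hc
    rw [hd] at h1
    have h2 : (u * s) ^ (orderOf (u * s) / 2) = 1 := by
      have := mul_left_cancel (h1.trans (mul_one u).symm)
      exact this
    rw [h2] at hz
    simp at hz
  constructor
  · intro h4
    obtain ⟨d, -, hd⟩ := (Cfsg.Agent.S0211.result u s hu hs heven).2 h4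
    exact key d hd
  · intro g hg
    by_cases h4 : 4 ∣ orderOf (u * s)
    · obtain ⟨d, -, hd⟩ := (Cfsg.Agent.S0211.result u s hu hs heven).2 h4
      exact key d hd
    · -- n = 2 m with m odd
      obtain ⟨k, hk⟩ := heven
      have hk' : orderOf (u * s) / 2 = k := by omega
      have hkodd : Odd k := by
        rw [← Nat.not_even_iff_odd]
        rintro ⟨j, hj⟩
        apply h4
        exact ⟨j, by omega⟩
      obtain ⟨j, hj⟩ := hkodd
      -- u * r^k = r^(1-k) * s = r^(-j) s r^j
      have e1 : u * (u * s) ^ (orderOf (u * s) / 2) = (u * s) ^ (-(j : ℤ)) * s * ((u * s) ^ (-(j : ℤ)))⁻¹ := by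
        rw [dihedral_conj_y hu2 hs2, hk', ← zpow_natCast, x_mul_zpow hu2 hs2]
        congr 2
        rw [hj]; push_cast; ring
      apply key ((u * s) ^ (-(j : ℤ)) * g)
      rw [e1, ← hg]
      simp [mul_assoc]

end Cfsg.Agent.Lib.H2
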