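import Mathlib
import Cfsg.Prelude.Def_Blocks
import Cfsg.Prelude.Def_BlockRank

/-!
# Shared definitions for S4651 (helper2)

The alternating sum of `k - l` over normal chains of `p`-subgroups: shared definitions of the
pieces (all in the namespace `Cfsg.Agent.Lib.H2.KR`).

* `bsub M H b`: the characters of the subgroup `H` in blocks inducing the block `b` of `G`;
* `Phi p M b L = |L| * l(b_L)`;
* `pull M U C`: the characters of `C` in blocks inducing a block contained in `U`;
* `IsNChain p s`: the chains of the statement; `IsUChain p u s`: `u`-stable, possibly empty;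
* `stab s`: the intersection of the normalizers;
* `top`, `ncl`, `low`, `piv`, `flip`: the data of the involution on the `u`-stable chains.
-/

set_option autoImplicit false

namespace Cfsg.Agent.Lib.H2.KR

open Cfsg
open scoped Classical

variable {G : Type*} [Group G]

/-- The irreducible characters of `H` lying in blocks of `H` that induce `b`. -/
def bsub (M : Ideal AlgInt) (H : Subgroup G) (b : Set (IrrCharacter G)) :
    Set (IrrCharacter H) :=
  {ψ : IrrCharacter H | ∃ β : Set (IrrCharacter H), ψ ∈ β ∧ IsInducedBlock M H β b}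

/-- `Φ(L) = |L| · l(b_L)`. -/
noncomputable def Phi (p : ℕ) (M : Ideal AlgInt) (b : Set (IrrCharacter G)) (L : Subgroup G) : ℤ :=
  (Nat.card L : ℤ) * (blockRank p (bsub M L b) : ℤ)

/-- The irreducible characters of the subgroup `C` lying in blocks of `C` that induce a block
contained in `U`. -/
def pull (M : Ideal AlgInt) (U : Set (IrrCharacter G)) (C : Subgroup G) :
    Set (IrrCharacter C) :=
  {ψ : IrrCharacter C | ∃ (b' : Set (IrrCharacter C)) (β : Set (IrrCharacter G)),
    ψ ∈ b' ∧ IsInducedBlock M C b' β ∧ β ⊆ U}

/-- The chains of the statement: nonempty chains of nontrivial `p`-subgroups all normal in the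
largest. -/
def IsNChain (p : ℕ) (s : Finset (Subgroup G)) : Prop :=
  s.Nonempty ∧ (∀ Q ∈ s, ∀ R ∈ s, Q ≤ R ∨ R ≤ Q) ∧ (∀ Q ∈ s, Q ≠ ⊥ ∧ IsPGroup p Q) ∧
    ∃ T ∈ s, ∀ Q ∈ s, Q ≤ T ∧ T ≤ Subgroup.normalizer ((Q : Subgroup G) : Set G)

/-- The stabilizer of the chain: the intersection of the normalizers of its members. -/
def stab (s : Finset (Subgroup G)) : Subgroup G :=
  ⨅ Q ∈ s, Subgroup.normalizer ((Q : Subgroup G) : Set G)

/-- The `u`-stable chains, the empty chain included. -/
def IsUChain (p : ℕ) (u : G) (s : Finset (Subgroup G)) : Prop :=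
  (s = ∅ ∨ IsNChain p s) ∧ ∀ Q ∈ s, u ∈ Subgroup.normalizer ((Q : Subgroup G) : Set G)

/-- The largest member (`⊥` for the empty chain). -/
def top (s : Finset (Subgroup G)) : Subgroup G := s.sup id

/-- The subgroup generated by the conjugates of `u` under the largest member. -/
def ncl (s : Finset (Subgroup G)) (u : G) : Subgroup G :=
  Subgroup.closure {y : G | ∃ t ∈ top s, y = t * u * t⁻¹}

/-- The largest member not containing `u` (`⊥` if there is none). -/
noncomputable def low (s : Finset (Subgroup G)) (u : G) : Subgroup G :=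
  (s.filter (fun Q : Subgroup G => u ∉ Q)).sup id

/-- The pivot. -/
noncomputable def piv (s : Finset (Subgroup G)) (u : G) : Subgroup G := low s u ⊔ ncl s u

/-- Toggle the pivot. -/
noncomputable def flip (s : Finset (Subgroup G)) (u : G) : Finset (Subgroup G) :=
  if piv s u ∈ s then s.erase (piv s u) else insert (piv s u) s

end Cfsg.Agent.Lib.H2.KR
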