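import Mathlib
import Cfsg.Agent.Lib.H5.CentralTransfer

set_option autoImplicit false
set_option linter.unusedSectionVars false

/-! # General tools for simple groups acting on finite sets, TI Sylow counting, central transfer -/

namespace Cfsg.Agent.Lib.H2.SimpleAct

open Subgroup MulAction
open scoped commutatorElement

section Perfect

variable {G : Type*} [Group G]

/-- a finite simple group whose order is not a prime is perfect -/
theorem commutator_eq_top [Finite G] [IsSimpleGroup G] (h : ¬ (Nat.card G).Prime) :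
    commutator G = ⊤ := by
  have hn : (commutator G).Normal := by
    rw [_root_.commutator_def]
    infer_instance
  rcases hn.eq_bot_or_eq_top with hb | ht
  · exfalso
    apply h
    have hcomm : ∀ a b : G, a * b = b * a := by
      intro a b
      have hm : ⁅a, b⁆ ∈ commutator G := by
        rw [_root_.commutator_def]
        exact Subgroup.commutator_mem_commutator (Subgroup.mem_top a) (Subgroup.mem_top b)
      rw [hb, Subgroup.mem_bot, commutatorElement_eq_one_iff_mul_comm] at hm
      exact hm
    let _ : CommGroup G := { ‹Group G› with mul_comm := hcomm }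
    exact IsSimpleGroup.prime_card (α := G)
  · exact ht

/-- In a perfect finite group, no non-identity element of an abelian Sylow subgroup `P` is central
in the normalizer of `P` (Burnside fusion + transfer). -/
theorem eq_one_of_central_normalizer [Finite G] {p : ℕ} [Fact p.Prime] (P : Sylow p G)
    (hP : ∀ a ∈ P, ∀ b ∈ P, a * b = b * a) (hperf : commutator G = ⊤) {y : G} (hy : y ∈ P)
    (hc : ∀ n ∈ normalizer ((P : Subgroup G) : Set G), n * y = y * n) : y = 1 := by
  have : IsMulCommutative (P : Subgroup G) := ⟨⟨fun a b => Subtype.ext (hP a a.2 b b.2)⟩⟩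
  have : IsMulCommutative P := ⟨⟨fun a b => Subtype.ext (hP a a.2 b b.2)⟩⟩
  let ϕ : (P : Subgroup G) →* Abelianization (P : Subgroup G) := Abelianization.of
  have key : ∀ (k : ℕ) (g₀ : G), g₀⁻¹ * y ^ k * g₀ ∈ (P : Subgroup G) →
      g₀⁻¹ * y ^ k * g₀ = y ^ k := by
    intro k g₀ hk
    obtain ⟨n, hn, h⟩ := P.conj_eq_normalizer_conj_of_mem (y ^ k) g₀ (pow_mem hy k) hk
    rw [h]
    have hcomm : n * y ^ k = y ^ k * n := (Commute.pow_right (hc n hn) k)
    rw [mul_assoc, ← hcomm, inv_mul_cancel_left]
  have h1 := MonoidHom.transfer_eq_pow ϕ y key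
  have h2 : MonoidHom.transfer ϕ y = 1 :=
    Abelianization.commutator_subset_ker (MonoidHom.transfer ϕ) (hperf ▸ Subgroup.mem_top y)
  rw [h2] at h1
  have h3 : (⟨y, hy⟩ : (P : Subgroup G)) ^ (P : Subgroup G).index ∈
      commutator (P : Subgroup G) := by
    rw [← Abelianization.ker_of, MonoidHom.mem_ker]
    exact h1.symm
  have hbot : commutator (P : Subgroup G) = ⊥ := by
    rw [_root_.commutator_def, Subgroup.commutator_eq_bot_iff_le_centralizer]
    intro a _
    rw [Subgroup.mem_centralizer_iff]
    intro b _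
    exact Subtype.ext (hP b b.2 a a.2)
  rw [hbot, Subgroup.mem_bot] at h3
  have h4 : y ^ (P : Subgroup G).index = 1 := by
    have := congrArg Subtype.val h3
    simpa using this
  obtain ⟨m, hm⟩ := P.2 ⟨y, hy⟩
  have hm' : y ^ p ^ m = 1 := by
    have := congrArg Subtype.val hm
    simpa using this
  have hcop : Nat.Coprime ((P : Subgroup G).index) (p ^ m) := by
    apply Nat.Coprime.pow_right
    rw [Nat.coprime_comm, Nat.Prime.coprime_iff_not_dvd Fact.out]
    exact P.not_dvd_index
  have := Cfsg.Agent.Lib.H5.mem_of_pow_mem_of_pow_eq_one (K := (⊥ : Subgroup G)) hcop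
    (by rw [h4]; exact Subgroup.one_mem _) hm'
  exact Subgroup.mem_bot.mp this

end Perfect

section Action

variable {G : Type*} [Group G] [Finite G] [IsSimpleGroup G] {Ω : Type*} [MulAction G Ω]

/-- a simple group acting non-trivially acts faithfully -/
theorem eq_one_of_forall_smul {g₀ : G} {a₀ : Ω} (hne : g₀ • a₀ ≠ a₀) {g : G}
    (hg : ∀ a : Ω, g • a = a) : g = 1 := by
  rcases (MulAction.toPermHom G Ω).normal_ker.eq_bot_or_eq_top with hb | ht
  · have hmem : g ∈ (MulAction.toPermHom G Ω).ker := by
      rw [MonoidHom.mem_ker]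
      refine Equiv.ext fun R => ?_
      exact hg R
    rw [hb] at hmem
    exact Subgroup.mem_bot.mp hmem
  · exfalso
    have hx : g₀ ∈ (MulAction.toPermHom G Ω).ker := ht ▸ Subgroup.mem_top g₀
    rw [MonoidHom.mem_ker] at hx
    have := congrArg (fun σ : Equiv.Perm Ω => σ a₀) hx
    exact hne this

theorem faithful {g₀ : G} {a₀ : Ω} (hne : g₀ • a₀ ≠ a₀) : FaithfulSMul G Ω := by
  constructor
  intro g1 g2 hg
  have : g2⁻¹ * g1 = 1 := by
    apply eq_one_of_forall_smul hne
    intro R
    rw [mul_smul, hg R, inv_smul_smul]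
  exact (inv_mul_eq_one.mp this).symm

/-- every element of a simple group of order `> 2` acts as an even permutation -/
theorem sign_toPerm (hG : 2 < Nat.card G) [Fintype Ω] [DecidableEq Ω] (g : G) :
    Equiv.Perm.sign (MulAction.toPerm g : Equiv.Perm Ω) = 1 := by
  let ψ : G →* ℤˣ := Equiv.Perm.sign.comp (MulAction.toPermHom G Ω)
  rcases ψ.normal_ker.eq_bot_or_eq_top with hb | ht
  · exfalso
    have hinj : Function.Injective ψ := (MonoidHom.ker_eq_bot_iff ψ).mp hb
    have := Nat.card_le_card_of_injective ψ hinj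
    have h2 : Nat.card ℤˣ = 2 := by rw [Nat.card_eq_fintype_card, Fintype.card_units_int]
    omega
  · have : g ∈ ψ.ker := ht ▸ Subgroup.mem_top g
    exact this

/-- an involution of a simple group of order `> 2` moves a multiple of four points -/
theorem four_dvd_moved (hG : 2 < Nat.card G) [Finite Ω] {t : G} (ht : t * t = 1) :
    4 ∣ Nat.card Ω - {a : Ω | t • a = a}.ncard := by
  classical
  have : Fintype Ω := Fintype.ofFinite _
  set σ : Equiv.Perm Ω := MulAction.toPerm t with hσ
  have hsupp : σ.support.card = Nat.card Ω - {a : Ω | t • a = a}.ncard := by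
    have h1 : (σ.support : Set Ω) = {a : Ω | t • a = a}ᶜ := by
      ext R
      simp [hσ]
    have h2 := Set.ncard_coe_finset σ.support
    rw [h1, Set.ncard_compl] at h2
    exact h2.symm
  rw [← hsupp]
  by_cases hσ1 : σ = 1
  · rw [hσ1, Equiv.Perm.support_one, Finset.card_empty]
    exact dvd_zero 4
  have hσsq : σ ^ 2 = 1 := by
    have h1 : σ ^ 2 = MulAction.toPermHom G Ω (t ^ 2) := by
      rw [map_pow]
      rfl
    rw [h1, pow_two, ht, map_one]
  have hσ2 : orderOf σ = 2 := orderOf_eq_prime hσsq hσ1
  obtain ⟨n, hn⟩ := Equiv.Perm.cycleType_prime_order (σ := σ) (hσ2.symm ▸ Nat.prime_two)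
  have hsum := Equiv.Perm.sum_cycleType σ
  rw [hn, hσ2, Multiset.sum_replicate, smul_eq_mul] at hsum
  have hsign := Equiv.Perm.sign_of_cycleType σ
  rw [hn, hσ2, Multiset.sum_replicate, smul_eq_mul, Multiset.card_replicate, hσ,
    sign_toPerm hG] at hsign
  have hev : Even ((n + 1) * 2 + (n + 1)) := by
    by_contra hodd
    rw [Nat.not_even_iff_odd] at hodd
    rw [hodd.neg_one_pow] at hsign
    revert hsign
    decide
  rw [← hsum]
  have hev' : Even (n + 1) := by
    rcases Nat.even_or_odd (n + 1) with h | h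
    · exact h
    · exfalso
      have : Odd ((n + 1) * 2 + (n + 1)) := by
        obtain ⟨k, hk⟩ := h
        exact ⟨(n + 1) + k, by omega⟩
      exact (Nat.not_even_iff_odd.mpr this) hev
  obtain ⟨k, hk⟩ := hev'
  exact ⟨k, by omega⟩

end Action

section TI

variable {G : Type*} [Group G] [Finite G]

/-- lower bound for the number of non-identity elements lying in Sylow `p`-subgroups when
distinct Sylow `p`-subgroups intersect trivially -/
theorem ti_card_le {p : ℕ} [Fact p.Prime] (m : ℕ)
    (hm : ∀ P : Sylow p G, Nat.card (P : Subgroup G) = m)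
    (hTI : ∀ P Q : Sylow p G, P ≠ Q → (P : Subgroup G) ⊓ (Q : Subgroup G) = ⊥)
    (A : Set G) (hA : ∀ P : Sylow p G, ∀ g ∈ P, g ≠ 1 → g ∈ A) :
    Nat.card (Sylow p G) * (m - 1) ≤ A.ncard := by
  classical
  have : Fintype G := Fintype.ofFinite _
  have : Fintype (Sylow p G) := Fintype.ofFinite _
  let B : Sylow p G → Finset G := fun P => (Finset.univ.filter (fun g => g ∈ P)).erase 1
  have hB : ∀ P : Sylow p G, (B P).card = m - 1 := by
    intro P
    rw [Finset.card_erase_of_mem (by simp [one_mem])]
    congr 1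
    rw [← hm P, Nat.card_eq_fintype_card, Fintype.card_subtype]
    rfl
  have hdisj : ∀ P ∈ (Finset.univ : Finset (Sylow p G)), ∀ Q ∈ (Finset.univ : Finset (Sylow p G)),
      P ≠ Q → Disjoint (B P) (B Q) := by
    intro P _ Q _ hPQ
    rw [Finset.disjoint_left]
    intro g hgP hgQ
    simp only [B, Finset.mem_erase, Finset.mem_filter, Finset.mem_univ, true_and] at hgP hgQ
    have : g ∈ (P : Subgroup G) ⊓ (Q : Subgroup G) := Subgroup.mem_inf.mpr ⟨hgP.2, hgQ.2⟩
    rw [hTI P Q hPQ, Subgroup.mem_bot] at this
    exact hgP.1 this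
  have hcard : (Finset.univ.biUnion B).card = Nat.card (Sylow p G) * (m - 1) := by
    rw [Finset.card_biUnion hdisj, Finset.sum_congr rfl (fun P _ => hB P), Finset.sum_const,
      Finset.card_univ, Nat.card_eq_fintype_card, smul_eq_mul]
  rw [← hcard, ← Set.ncard_coe_finset]
  apply Set.ncard_le_ncard _ (Set.toFinite A)
  intro g hg
  simp only [Finset.coe_biUnion, Finset.coe_univ, Set.mem_univ, Set.iUnion_true, Set.mem_iUnion,
    Finset.mem_coe] at hg
  obtain ⟨P, hgP⟩ := hg
  simp only [B, Finset.mem_erase, Finset.mem_filter, Finset.mem_univ, true_and] at hgP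
  exact hA P g hgP.2 hgP.1

end TI

end Cfsg.Agent.Lib.H2.SimpleAct
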