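import Mathlib

set_option autoImplicit false

/-!
# The exchange condition implies a Coxeter presentation

A group `W` generated by a family `σ : B → W` of involutions satisfying the exchange condition
is a Coxeter system with respect to the matrix of orders of the products `σ i * σ j`.
(Bourbaki, Lie IV §1.5–1.6.)
-/

namespace Cfsg.Agent.Lib.H2.CoxExch

section Alt

variable {α β : Type*}

/-- the alternating list `x, y, x, y, …` of length `n` -/
def alt (x y : α) : ℕ → List α
  | 0 => []
  | n + 1 => x :: alt y x n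

@[simp] theorem alt_zero (x y : α) : alt x y 0 = [] := rfl

theorem alt_succ (x y : α) (n : ℕ) : alt x y (n + 1) = x :: alt y x n := rfl

@[simp] theorem length_alt (x y : α) (n : ℕ) : (alt x y n).length = n := by
  induction n generalizing x y with
  | zero => rfl
  | succ n ih => simp [alt_succ, ih]

theorem map_alt (f : α → β) (x y : α) (n : ℕ) : (alt x y n).map f = alt (f x) (f y) n := by
  induction n generalizing x y with
  | zero => rfl
  | succ n ih => simp [alt_succ, ih]

theorem cons_dropLast_alt (x y : α) (n : ℕ) :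
    y :: (alt x y (n + 1)).dropLast = alt y x (n + 1) := by
  induction n generalizing x y with
  | zero => rfl
  | succ n ih =>
    rw [alt_succ x y (n + 1), alt_succ y x n, List.dropLast_cons_cons, ← alt_succ y x n, ih y x,
      ← alt_succ]

theorem prod_alt_mul_inv {X : Type*} [Group X] (n : ℕ) (x y : X) (hx : x * x = 1)
    (hy : y * y = 1) : (alt x y n).prod * ((alt y x n).prod)⁻¹ = (x * y) ^ n := by
  induction n generalizing x y with
  | zero => simp
  | succ n ih =>
    have hy' : y⁻¹ = y := inv_eq_of_mul_eq_one_left hy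
    have hcomm : x * (y * x) ^ n = (x * y) ^ n * x := by
      have h : SemiconjBy x (y * x) (x * y) := by
        unfold SemiconjBy; group
      exact (h.pow_right n).eq
    rw [alt_succ, alt_succ, List.prod_cons, List.prod_cons, mul_inv_rev, ← mul_assoc,
      mul_assoc x, ih y x hy hx, hy', hcomm, pow_succ, mul_assoc]

theorem prod_alt_eq_iff {X : Type*} [Group X] (n : ℕ) (x y : X) (hx : x * x = 1)
    (hy : y * y = 1) : (alt x y n).prod = (alt y x n).prod ↔ (x * y) ^ n = 1 := by
  rw [← prod_alt_mul_inv n x y hx hy, mul_inv_eq_one]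

end Alt

section Main

variable {W : Type*} [Group W] {B : Type*}

/-- product of a word -/
def wp (σ : B → W) (ω : List B) : W := (ω.map σ).prod

@[simp] theorem wp_nil (σ : B → W) : wp σ [] = 1 := rfl

@[simp] theorem wp_cons (σ : B → W) (i : B) (ω : List B) : wp σ (i :: ω) = σ i * wp σ ω := by
  simp [wp]

@[simp] theorem wp_append (σ : B → W) (ω τ : List B) : wp σ (ω ++ τ) = wp σ ω * wp σ τ := by
  simp [wp]

theorem wp_singleton (σ : B → W) (i : B) : wp σ [i] = σ i := by simp [wp]

theorem wp_alt (σ : B → W) (c e : B) (n : ℕ) : wp σ (alt c e n) = (alt (σ c) (σ e) n).prod := by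
  rw [wp, map_alt]

/-- a word is reduced if no word with the same product is shorter -/
def Red (σ : B → W) (ω : List B) : Prop :=
  ∀ ω' : List B, wp σ ω' = wp σ ω → ω.length ≤ ω'.length

variable {σ : B → W}

theorem Red.of_cons {i : B} {ω : List B} (h : Red σ (i :: ω)) : Red σ ω := by
  intro ω' h'
  have := h (i :: ω') (by simp [h'])
  simpa using this

theorem Red.of_append_left {ω τ : List B} (h : Red σ (ω ++ τ)) : Red σ ω := by
  intro ω' h'
  have := h (ω' ++ τ) (by simp [h'])
  simpa using this

theorem Red.of_length_eq {ω ω' : List B} (h : Red σ ω) (h1 : wp σ ω' = wp σ ω)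
    (h2 : ω'.length = ω.length) : Red σ ω' := by
  intro ω'' h''
  rw [h2]
  exact h ω'' (h''.trans h1)

theorem red_nil : Red σ [] := fun _ _ => Nat.zero_le _

theorem exists_red (ω : List B) : ∃ ω', Red σ ω' ∧ wp σ ω' = wp σ ω := by
  classical
  let p : ℕ → Prop := fun k => ∃ ω' : List B, ω'.length = k ∧ wp σ ω' = wp σ ω
  have hp : ∃ k, p k := ⟨ω.length, ω, rfl, rfl⟩
  obtain ⟨ω', hlen, hω'⟩ := Nat.find_spec hp
  refine ⟨ω', ?_, hω'⟩
  intro ω'' h''
  rw [hlen]
  exact Nat.find_min' hp ⟨ω'', rfl, h''.trans hω'⟩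

/-- involutions satisfying the exchange condition -/
structure Exch (σ : B → W) : Prop where
  sq : ∀ i, σ i * σ i = 1
  exch : ∀ (ω : List B) (i : B), Red σ ω → ¬ Red σ (i :: ω) →
    ∃ j < ω.length, σ i * wp σ ω = wp σ (ω.eraseIdx j)

theorem Exch.inv (hσ : Exch σ) (i : B) : (σ i)⁻¹ = σ i := inv_eq_of_mul_eq_one_left (hσ.sq i)

theorem wp_reverse (hσ : Exch σ) (ω : List B) : wp σ ω.reverse = (wp σ ω)⁻¹ := by
  induction ω with
  | nil => simp
  | cons i ω ih => simp [ih, hσ.inv]

variable {X : Type*} [Group X]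

/-- a family in another group satisfying the relations of `σ` -/
structure Compat (σ : B → W) (f : B → X) : Prop where
  sq : ∀ i, f i * f i = 1
  br : ∀ i j, (f i * f j) ^ orderOf (σ i * σ j) = 1

/-- the key statement at length `q` -/
def KeyAt (σ : B → W) (f : B → X) (q : ℕ) : Prop :=
  ∀ ω ω' : List B, ω.length = q → ω'.length = q → Red σ ω → wp σ ω = wp σ ω' →
    wp f ω = wp f ω'

variable {f : B → X}

theorem key_cons {q : ℕ} (IH : ∀ q' < q, KeyAt σ f q') {i : B} {τ τ' : List B}
    (hl : (i :: τ).length = q) (hl' : (i :: τ').length = q) (hr : Red σ (i :: τ))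
    (hw : wp σ (i :: τ) = wp σ (i :: τ')) : wp f (i :: τ) = wp f (i :: τ') := by
  simp only [wp_cons, mul_right_inj] at hw
  simp only [List.length_cons] at hl hl'
  rw [wp_cons, wp_cons, IH (q - 1) (by omega) τ τ' (by omega) (by omega) hr.of_cons hw]

theorem key_snoc {q : ℕ} (IH : ∀ q' < q, KeyAt σ f q') {i : B} {τ τ' : List B}
    (hl : (τ ++ [i]).length = q) (hl' : (τ' ++ [i]).length = q) (hr : Red σ (τ ++ [i]))
    (hw : wp σ (τ ++ [i]) = wp σ (τ' ++ [i])) : wp f (τ ++ [i]) = wp f (τ' ++ [i]) := by
  simp only [wp_append, mul_left_inj] at hw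
  simp only [List.length_append, List.length_singleton] at hl hl'
  rw [wp_append, wp_append, IH (q - 1) (by omega) τ τ' (by omega) (by omega) hr.of_append_left hw]

theorem key_step (hσ : Exch σ) {q : ℕ} (IH : ∀ q' < q, KeyAt σ f q') {x y' : List B} {c : B}
    (hx : x.length = q) (hx' : (c :: y').length = q) (hr : Red σ x)
    (hw : wp σ x = wp σ (c :: y'))
    (H : wp σ (c :: x.dropLast) = wp σ x → wp f (c :: x.dropLast) = wp f x) :
    wp f x = wp f (c :: y') := by
  have hq : y'.length + 1 = q := by simpa using hx'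
  have hnr : ¬ Red σ (c :: x) := by
    intro h
    have := h y' (by rw [wp_cons, hw, wp_cons, ← mul_assoc, hσ.sq, one_mul])
    simp only [List.length_cons] at this
    omega
  obtain ⟨j, hj, hj'⟩ := hσ.exch x c hr hnr
  have ht : wp σ (c :: x.eraseIdx j) = wp σ x := by
    rw [wp_cons, ← hj', ← mul_assoc, hσ.sq, one_mul]
  have htl : (c :: x.eraseIdx j).length = q := by
    rw [List.length_cons, List.length_eraseIdx_of_lt hj]
    omega
  have hr' : Red σ (c :: y') := hr.of_length_eq hw.symm (by rw [hx', hx])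
  have h1 : wp f (c :: y') = wp f (c :: x.eraseIdx j) :=
    key_cons IH hx' htl hr' (by rw [ht, hw])
  rw [h1]
  by_cases hjq : j = q - 1
  · have : x.eraseIdx j = x.dropLast :=
      (List.dropLast_eq_eraseIdx (by omega)).symm
    rw [this] at ht ⊢
    exact (H ht).symm
  · have hxne : x ≠ [] := by
      intro h
      rw [h] at hx
      simp at hx
      omega
    obtain ⟨z, l, rfl⟩ : ∃ z l, x = z ++ [l] :=
      ⟨x.dropLast, x.getLast hxne, (List.dropLast_append_getLast hxne).symm⟩
    have hz : j < z.length := by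
      simp only [List.length_append, List.length_singleton] at hx hj
      omega
    rw [List.eraseIdx_append_of_lt_length hz] at ht htl ⊢
    exact key_snoc (τ := z) (τ' := c :: z.eraseIdx j) IH hx htl hr ht.symm

theorem not_red_alt (hσ : Exch σ) {m : ℕ} : ∀ (j : ℕ) (c e : B),
    (σ c * σ e) ^ (m + 1) = 1 → (σ e * σ c) ^ (m + 1) = 1 → ¬ Red σ (alt c e (m + 1 + 1 + j)) := by
  intro j
  induction j with
  | zero =>
    intro c e h1 h2 hr
    have h3 : wp σ (alt c e (m + 1 + 1)) = wp σ (alt e c m) := by
      rw [alt_succ, wp_cons, wp_alt, (prod_alt_eq_iff (m + 1) (σ e) (σ c) (hσ.sq e) (hσ.sq c)).2 h2,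
        alt_succ, List.prod_cons, ← mul_assoc, hσ.sq, one_mul, wp_alt]
    have := hr _ h3.symm
    simp at this
  | succ j ih =>
    intro c e h1 h2 hr
    rw [← add_assoc, alt_succ] at hr
    exact ih e c h2 h1 hr.of_cons

theorem key_braid (hσ : Exch σ) (hf : Compat σ f) {c e : B} {n : ℕ}
    (hr : Red σ (alt c e (n + 1))) (hw : wp σ (alt e c (n + 1)) = wp σ (alt c e (n + 1))) :
    wp f (alt e c (n + 1)) = wp f (alt c e (n + 1)) := by
  rw [wp_alt, wp_alt, prod_alt_eq_iff _ _ _ (hσ.sq e) (hσ.sq c)] at hw
  have hdvd : orderOf (σ e * σ c) ∣ n + 1 := orderOf_dvd_of_pow_eq_one hw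
  have hpos : 0 < orderOf (σ e * σ c) := Nat.pos_of_dvd_of_pos hdvd (Nat.succ_pos n)
  obtain ⟨m, hm⟩ : ∃ m, orderOf (σ e * σ c) = m + 1 := ⟨orderOf (σ e * σ c) - 1, by omega⟩
  have h2 : (σ e * σ c) ^ (m + 1) = 1 := by rw [← hm]; exact pow_orderOf_eq_one _
  have h1 : (σ c * σ e) ^ (m + 1) = 1 := by
    have : σ c * σ e = (σ e * σ c)⁻¹ := by rw [mul_inv_rev, hσ.inv, hσ.inv]
    rw [this, inv_pow, h2, inv_one]
  have hle : n + 1 ≤ m + 1 := by
    by_contra hlt
    push Not at hlt
    obtain ⟨j, hj⟩ : ∃ j, n + 1 = m + 1 + 1 + j := ⟨n + 1 - (m + 1 + 1), by omega⟩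
    rw [hj] at hr
    exact not_red_alt hσ j c e h1 h2 hr
  have heq : orderOf (σ e * σ c) = n + 1 := by
    have := Nat.le_of_dvd (Nat.succ_pos n) hdvd
    omega
  have hb := hf.br e c
  rw [heq] at hb
  rw [wp_alt, wp_alt, prod_alt_eq_iff _ _ _ (hf.sq e) (hf.sq c)]
  exact hb

theorem key_chain (hσ : Exch σ) (hf : Compat σ f) {q : ℕ} (IH : ∀ q' < q, KeyAt σ f q') :
    ∀ (d : ℕ) (c e : B) (k : ℕ) (r : List B), r.length = d → k + 1 + d = q →
      Red σ (alt c e (k + 1) ++ r) →
      wp σ (e :: (alt c e (k + 1) ++ r).dropLast) = wp σ (alt c e (k + 1) ++ r) →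
      wp f (e :: (alt c e (k + 1) ++ r).dropLast) = wp f (alt c e (k + 1) ++ r) := by
  intro d
  induction d with
  | zero =>
    intro c e k r hr hk hred hw
    have : r = [] := List.length_eq_zero_iff.1 hr
    subst this
    rw [List.append_nil] at hred hw ⊢
    rw [cons_dropLast_alt] at hw ⊢
    exact key_braid hσ hf hred hw
  | succ d ih =>
    intro c e k r hr hk hred hw
    have hrne : r ≠ [] := by
      intro h
      rw [h] at hr
      simp at hr
    obtain ⟨r', t, rfl⟩ : ∃ r' t, r = r' ++ [t] :=
      ⟨r.dropLast, r.getLast hrne, (List.dropLast_append_getLast hrne).symm⟩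
    have hr' : r'.length = d := by
      simp only [List.length_append, List.length_singleton] at hr
      omega
    have e1 : (alt c e (k + 1) ++ (r' ++ [t])).dropLast = alt c e (k + 1) ++ r' := by
      rw [← List.append_assoc, List.dropLast_concat]
    rw [e1] at hw ⊢
    have e2 : e :: (alt c e (k + 1) ++ r') = alt e c (k + 1 + 1) ++ r' := by
      rw [alt_succ e c (k + 1), List.cons_append]
    have e3 : alt c e (k + 1) ++ (r' ++ [t]) = c :: (alt e c k ++ (r' ++ [t])) := by
      rw [alt_succ, List.cons_append]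
    rw [e2] at hw ⊢
    have hlen : (alt c e (k + 1) ++ (r' ++ [t])).length = q := by
      simp only [List.length_append, length_alt, List.length_singleton]
      omega
    have hlen2 : (alt e c (k + 1 + 1) ++ r').length = q := by
      simp only [List.length_append, length_alt]
      omega
    have hred2 : Red σ (alt e c (k + 1 + 1) ++ r') := hred.of_length_eq hw (by rw [hlen, hlen2])
    rw [e3] at hw hlen ⊢
    exact key_step hσ IH hlen2 hlen hred2 hw (ih e c (k + 1) r' hr' (by omega) hred2)

theorem key (hσ : Exch σ) (hf : Compat σ f) : ∀ q, KeyAt σ f q := by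
  intro q
  induction q using Nat.strong_induction_on with
  | _ q IH =>
    intro ω ω' hl hl' hr hw
    match ω, ω', hl, hl', hr, hw with
    | [], [], _, _, _, _ => rfl
    | [], _ :: _, hl, hl', _, _ =>
      simp only [List.length_nil, List.length_cons] at hl hl'
      omega
    | _ :: _, [], hl, hl', _, _ =>
      simp only [List.length_nil, List.length_cons] at hl hl'
      omega
    | a :: τ, b :: τ', hl, hl', hr, hw =>
      by_cases hab : a = b
      · subst hab
        exact key_cons IH hl hl' hr hw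
      · apply key_step hσ IH hl hl' hr hw
        have hτ : τ.length + 1 = q := by simpa using hl
        have := key_chain hσ hf IH τ.length a b 0 τ rfl (by omega)
        simp only [zero_add, alt_succ, alt_zero, List.cons_append, List.nil_append] at this
        exact this hr

theorem Red.length_eq {ω ω' : List B} (h : Red σ ω) (h' : Red σ ω') (hw : wp σ ω = wp σ ω') :
    ω.length = ω'.length :=
  le_antisymm (h ω' hw.symm) (h' ω hw)

theorem wp_surjective (hσ : Exch σ) (hgen : Subgroup.closure (Set.range σ) = ⊤) :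
    Function.Surjective (wp σ) := by
  intro w
  have hw : w ∈ Subgroup.closure (Set.range σ) := by rw [hgen]; trivial
  induction hw using Subgroup.closure_induction with
  | mem x hx =>
    obtain ⟨i, rfl⟩ := hx
    exact ⟨[i], wp_singleton σ i⟩
  | one => exact ⟨[], rfl⟩
  | mul x y _ _ hx hy =>
    obtain ⟨a, rfl⟩ := hx
    obtain ⟨b, rfl⟩ := hy
    exact ⟨a ++ b, wp_append σ a b⟩
  | inv x _ hx =>
    obtain ⟨a, rfl⟩ := hx
    exact ⟨a.reverse, wp_reverse hσ a⟩

theorem exists_red_word (hsurj : Function.Surjective (wp σ)) (w : W) :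
    ∃ ω, Red σ ω ∧ wp σ ω = w := by
  obtain ⟨ω, rfl⟩ := hsurj w
  exact exists_red ω

/-- a chosen reduced word -/
noncomputable def rword (hsurj : Function.Surjective (wp σ)) (w : W) : List B :=
  Classical.choose (exists_red_word hsurj w)

theorem red_rword (hsurj : Function.Surjective (wp σ)) (w : W) : Red σ (rword hsurj w) :=
  (Classical.choose_spec (exists_red_word hsurj w)).1

@[simp] theorem wp_rword (hsurj : Function.Surjective (wp σ)) (w : W) :
    wp σ (rword hsurj w) = w :=
  (Classical.choose_spec (exists_red_word hsurj w)).2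

/-- the map `W → X` defined through reduced words -/
noncomputable def gfun (hsurj : Function.Surjective (wp σ)) (f : B → X) (w : W) : X :=
  wp f (rword hsurj w)

theorem gfun_wp (hσ : Exch σ) (hf : Compat σ f) (hsurj : Function.Surjective (wp σ))
    {ω : List B} (hr : Red σ ω) : gfun hsurj f (wp σ ω) = wp f ω := by
  have h1 := red_rword hsurj (wp σ ω)
  have h2 := wp_rword hsurj (wp σ ω)
  exact key hσ hf _ _ _ rfl (hr.length_eq h1 h2.symm) h1 h2

theorem gfun_simple_mul (hσ : Exch σ) (hf : Compat σ f) (hsurj : Function.Surjective (wp σ))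
    (i : B) (w : W) : gfun hsurj f (σ i * w) = f i * gfun hsurj f w := by
  have hr := red_rword hsurj w
  have hw := wp_rword hsurj w
  by_cases h : Red σ (i :: rword hsurj w)
  · have := gfun_wp hσ hf hsurj h
    rw [wp_cons, hw] at this
    rw [this, wp_cons]
    rfl
  · obtain ⟨j, hj, hj'⟩ := hσ.exch _ i hr h
    rw [hw] at hj'
    have hr' := red_rword hsurj (σ i * w)
    have hw' := wp_rword hsurj (σ i * w)
    have h1 : (rword hsurj (σ i * w)).length ≤ ((rword hsurj w).eraseIdx j).length :=
      hr' _ (by rw [hw', hj'])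
    rw [List.length_eraseIdx_of_lt hj] at h1
    have h2 : wp σ (i :: rword hsurj (σ i * w)) = wp σ (rword hsurj w) := by
      rw [wp_cons, hw', hw, ← mul_assoc, hσ.sq, one_mul]
    have h3 := hr _ h2
    rw [List.length_cons] at h3
    have h4 : Red σ (i :: rword hsurj (σ i * w)) := hr.of_length_eq h2 (by
      rw [List.length_cons]; omega)
    have h5 := gfun_wp hσ hf hsurj h4
    rw [h2, hw, wp_cons] at h5
    have h6 : gfun hsurj f (σ i * w) = wp f (rword hsurj (σ i * w)) := rfl
    rw [h5, ← h6, ← mul_assoc, hf.sq, one_mul]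

theorem gfun_one (hσ : Exch σ) (hf : Compat σ f) (hsurj : Function.Surjective (wp σ)) :
    gfun hsurj f (1 : W) = 1 := by
  have := gfun_wp hσ hf hsurj (red_nil (σ := σ))
  simpa using this

theorem gfun_wp_mul (hσ : Exch σ) (hf : Compat σ f) (hsurj : Function.Surjective (wp σ))
    (ω : List B) (w : W) : gfun hsurj f (wp σ ω * w) = wp f ω * gfun hsurj f w := by
  induction ω with
  | nil => simp
  | cons i ω ih => rw [wp_cons, mul_assoc, gfun_simple_mul hσ hf hsurj, ih, wp_cons, mul_assoc]

/-- the homomorphism `W →* X` extending `σ i ↦ f i` -/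
noncomputable def gHom (hσ : Exch σ) (hf : Compat σ f) (hsurj : Function.Surjective (wp σ)) :
    W →* X where
  toFun := gfun hsurj f
  map_one' := gfun_one hσ hf hsurj
  map_mul' a b := by
    obtain ⟨ω, rfl⟩ := hsurj a
    have h1 := gfun_wp_mul hσ hf hsurj ω b
    have h2 := gfun_wp_mul hσ hf hsurj ω 1
    rw [mul_one, gfun_one hσ hf hsurj, mul_one] at h2
    rw [h1, h2]

theorem gHom_simple (hσ : Exch σ) (hf : Compat σ f) (hsurj : Function.Surjective (wp σ))
    (i : B) : gHom hσ hf hsurj (σ i) = f i := by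
  have := gfun_simple_mul hσ hf hsurj i 1
  rw [mul_one, gfun_one hσ hf hsurj, mul_one] at this
  exact this

/-- **Exchange condition ⟹ Coxeter system.** -/
theorem exists_coxeterSystem (hσ : Exch σ) (hinj : Function.Injective σ)
    (hgen : Subgroup.closure (Set.range σ) = ⊤) :
    ∃ (M : CoxeterMatrix B) (cs : CoxeterSystem M W), ∀ i, cs.simple i = σ i := by
  classical
  let M : CoxeterMatrix B :=
    { M := Matrix.of fun i j => orderOf (σ i * σ j)
      isSymm := by
        ext i j
        simp only [Matrix.transpose_apply, Matrix.of_apply]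
        have : σ j * σ i = (σ i * σ j)⁻¹ := by rw [mul_inv_rev, hσ.inv, hσ.inv]
        rw [this, orderOf_inv]
      diagonal := fun i => by simp [hσ.sq]
      off_diagonal := fun i j hij h => by
        simp only [Matrix.of_apply, orderOf_eq_one_iff] at h
        apply hij
        apply hinj
        rw [← hσ.inv j]
        exact eq_inv_of_mul_eq_one_left h }
  have hM : ∀ i j, M i j = orderOf (σ i * σ j) := fun i j => rfl
  have hlift : M.IsLiftable σ := fun i j => by rw [hM]; exact pow_orderOf_eq_one _
  let φ : M.Group →* W := M.toCoxeterSystem.lift ⟨σ, hlift⟩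
  have hφ : ∀ i, φ (M.simple i) = σ i := fun i => M.toCoxeterSystem.lift_apply_simple hlift i
  have hf : Compat σ M.simple :=
    { sq := fun i => M.toCoxeterSystem.simple_mul_simple_self i
      br := fun i j => by
        rw [← hM]
        exact M.toCoxeterSystem.simple_mul_simple_pow i j }
  have hsurj := wp_surjective hσ hgen
  let g : W →* M.Group := gHom hσ hf hsurj
  have hg : ∀ i, g (σ i) = M.simple i := gHom_simple hσ hf hsurj
  have h1 : φ.comp g = MonoidHom.id W := by
    apply MonoidHom.eq_of_eqOn_dense hgen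
    rintro _ ⟨i, rfl⟩
    simp [hg, hφ]
  have h2 : g.comp φ = MonoidHom.id M.Group := by
    apply M.toCoxeterSystem.ext_simple
    intro i
    simp only [MonoidHom.comp_apply, MonoidHom.id_apply, CoxeterMatrix.toCoxeterSystem_simple]
    rw [hφ, hg]
  let e : W ≃* M.Group := MonoidHom.toMulEquiv g φ h1 h2
  refine ⟨M, ⟨e⟩, fun i => ?_⟩
  exact hφ i

end Main

end Cfsg.Agent.Lib.H2.CoxExch
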