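import Mathlib
import Cfsg.Agent.Lib.H2.SLCenterCard
import Cfsg.Agent.Lib.H12.CardSL

set_option autoImplicit false

namespace Cfsg.Agent.Lib.H2

open Matrix
open scoped LinearAlgebra.Projectivization

/-- `gcd(n, q-1) * |PSL_n(q)| = |SL_n(q)|` -/
theorem card_PSL_mul {F : Type*} [Field F] [Fintype F] (n : ℕ) (hn : 1 ≤ n) :
    Nat.gcd n (Fintype.card F - 1) * Nat.card (Matrix.ProjectiveSpecialLinearGroup (Fin n) F) =
      Nat.card (SpecialLinearGroup (Fin n) F) := by
  have h := Subgroup.card_eq_card_quotient_mul_card_subgroup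
    (Subgroup.center (SpecialLinearGroup (Fin n) F))
  rw [card_center_SL n hn, Nat.card_eq_fintype_card (α := F)] at h
  rw [h, mul_comm]

/-- `gcd(2, q-1) * |PSL_2(q)| = q (q^2 - 1)` -/
theorem card_PSL2_mul {F : Type*} [Field F] [Fintype F] :
    Nat.gcd 2 (Fintype.card F - 1) * Nat.card (Matrix.ProjectiveSpecialLinearGroup (Fin 2) F) =
      Fintype.card F * (Fintype.card F ^ 2 - 1) := by
  rw [card_PSL_mul 2 (by norm_num), Cfsg.Agent.Lib.H12.card_SL2]

/-- the projective line over `F_q` has `q + 1` points -/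
theorem card_projLine {F : Type*} [Field F] [Fintype F] :
    Nat.card (ℙ F (Fin 2 → F)) = Fintype.card F + 1 := by
  rw [Projectivization.card_of_finrank_two F (Fin 2 → F) (by simp), Nat.card_eq_fintype_card]

end Cfsg.Agent.Lib.H2
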