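import Mathlib
import Cfsg.Agent.Lib.H2.SpExt
import Cfsg.Agent.Lib.H2.FiberCount

set_option autoImplicit false
set_option linter.unusedSectionVars false
set_option linter.unusedVariables false

/-!
# The order of the symplectic group
-/

namespace Cfsg.Agent.Lib.H2.Sp

open Matrix Cfsg.Agent.Lib.H4

variable {F : Type*} [Field F] [Fintype F] {m : ℕ}

theorem sympForm_zero_left (v : K m → F) : Cfsg.sympForm m F 0 v = 0 := by
  have := sympForm_smul_left m (0 : F) (0 : K m → F) v
  rwa [zero_smul, zero_mul] at this

/-- for `u ≠ 0` there are `q^(2m-1)` vectors `v` with `f(u, v) = 1` -/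
theorem card_fiber (u : K m → F) (hu : u ≠ 0) :
    Nat.card {v : K m → F // Cfsg.sympForm m F u v = 1} * Fintype.card F =
      Fintype.card F ^ (2 * m) := by
  let φ : (K m → F) →+ F :=
    { toFun := fun v => Cfsg.sympForm m F u v
      map_zero' := by
        have := sympForm_smul_right m (0 : F) u 0
        rwa [zero_smul, zero_mul] at this
      map_add' := fun v w => sympForm_add_right m u v w }
  have hφ : Function.Surjective φ := by
    intro a
    obtain ⟨z, hz⟩ := exists_sympForm_ne_zero m u hu
    refine ⟨(a / Cfsg.sympForm m F u z) • z, ?_⟩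
    show Cfsg.sympForm m F u _ = a
    rw [sympForm_smul_right, div_mul_cancel₀ _ hz]
  have h := card_fiber_mul φ hφ 1
  rw [Nat.card_eq_fintype_card (α := F), Nat.card_eq_fintype_card (α := K m → F),
    Fintype.card_fun, Fintype.card_sum, Fintype.card_fin, ← two_mul] at h
  exact h

theorem card_HypPair (m : ℕ) :
    Nat.card (HypPair (m + 1) F) =
      (Fintype.card F ^ (2 * (m + 1)) - 1) * Fintype.card F ^ (2 * m + 1) := by
  classical
  have hq : 0 < Fintype.card F := Fintype.card_pos
  let e : HypPair (m + 1) F ≃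
      Σ u : K (m + 1) → F, {v : K (m + 1) → F // Cfsg.sympForm (m + 1) F u v = 1} :=
    { toFun := fun p => ⟨p.1.1, ⟨p.1.2, p.2⟩⟩
      invFun := fun s => ⟨(s.1, s.2.1), s.2.2⟩
      left_inv := fun p => rfl
      right_inv := fun s => rfl }
  rw [Nat.card_congr e, Nat.card_sigma]
  rw [sum_eq_add_mul _ (0 : K (m + 1) → F) 0 (Fintype.card F ^ (2 * m + 1))]
  · rw [zero_add, Fintype.card_fun, Fintype.card_sum, Fintype.card_fin, ← two_mul]
  · rw [Nat.card_eq_zero]
    left
    constructor
    rintro ⟨v, hv⟩
    rw [sympForm_zero_left] at hv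
    exact zero_ne_one hv
  · intro u hu
    have h := card_fiber u hu
    have h2 : Fintype.card F ^ (2 * (m + 1)) = Fintype.card F ^ (2 * m + 1) * Fintype.card F := by
      rw [← pow_succ]; congr 1
    rw [h2] at h
    exact Nat.eq_of_mul_eq_mul_right hq h

/-- `|Sp_{2m}(q)| = q^(m^2) ∏_{i=1}^m (q^(2i) - 1)` -/
theorem card_Sp (m : ℕ) :
    Nat.card (Matrix.symplecticGroup (Fin m) F) =
      Fintype.card F ^ (m ^ 2) * ∏ i ∈ Finset.range m, (Fintype.card F ^ (2 * (i + 1)) - 1) := by
  induction m with
  | zero =>
    simp only [Finset.range_zero, Finset.prod_empty, mul_one]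
    have : Subsingleton (Matrix.symplecticGroup (Fin 0) F) := by
      constructor
      intro a b
      apply Subtype.ext
      ext i j
      rcases i with i | i <;> exact i.elim0
    rw [Nat.card_unique]
    simp
  | succ m ih =>
    rw [card_Sp_succ, ih, card_HypPair, Finset.prod_range_succ]
    have : (m + 1) ^ 2 = m ^ 2 + (2 * m + 1) := by ring
    rw [this, pow_add]
    ring

end Cfsg.Agent.Lib.H2.Sp
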