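import Mathlib
import Cfsg.Prelude.Def_Involutions
import Cfsg.Agent.Lib.H2.Pairs

set_option autoImplicit false

namespace Cfsg.Agent.Lib.H2

variable {G : Type*} [Group G]

theorem mem_map_conj_iff {H : Subgroup G} {g a : G} :
    a ∈ H.map (MulAut.conj g).toMonoidHom ↔ g⁻¹ * a * g ∈ H := by
  constructor
  · rintro ⟨h, hh, rfl⟩
    simp only [MulEquiv.coe_toMonoidHom, MulAut.conj_apply]
    have : g⁻¹ * (g * h * g⁻¹) * g = h := by simp [mul_assoc]
    rw [this]; exact hh
  · intro h
    refine ⟨g⁻¹ * a * g, h, ?_⟩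
    simp [MulAut.conj_apply, mul_assoc]

/-- a finite group has even order iff it contains an involution -/
theorem even_card_iff_exists_involution {K : Type*} [Group K] [Finite K] :
    Even (Nat.card K) ↔ ∃ t : K, orderOf t = 2 := by
  classical
  constructor
  · intro h
    have := Fintype.ofFinite K
    have : Fact (Nat.Prime 2) := ⟨Nat.prime_two⟩
    rw [Nat.card_eq_fintype_card] at h
    exact exists_prime_orderOf_dvd_card 2 (even_iff_two_dvd.1 h)
  · rintro ⟨t, ht⟩
    rw [even_iff_two_dvd, ← ht]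
    exact orderOf_dvd_natCard t

theorem even_card_subgroup_iff [Finite G] (K : Subgroup G) :
    Even (Nat.card K) ↔ ∃ t ∈ K, orderOf t = 2 := by
  rw [even_card_iff_exists_involution]
  constructor
  · rintro ⟨t, ht⟩
    exact ⟨t.1, t.2, by rw [← ht]; exact (Subgroup.orderOf_coe t)⟩
  · rintro ⟨t, htK, ht⟩
    exact ⟨⟨t, htK⟩, by rw [← ht]; exact Subgroup.orderOf_mk t htK⟩

/-- characterisation of strong embedding through involutions -/
theorem isStronglyEmbedded_iff [Finite G] (H : Subgroup G) (hH : H ≠ ⊤) (heven : Even (Nat.card H)) :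
    Cfsg.IsStronglyEmbedded H ↔
      ∀ g : G, ∀ t : G, orderOf t = 2 → t ∈ H → g⁻¹ * t * g ∈ H → g ∈ H := by
  unfold Cfsg.IsStronglyEmbedded
  constructor
  · rintro ⟨-, -, h⟩ g t ht htH htg
    by_contra hg
    have h1 := h g hg
    rw [← Nat.not_even_iff_odd] at h1
    apply h1
    rw [even_card_subgroup_iff]
    exact ⟨t, ⟨htH, mem_map_conj_iff.2 htg⟩, ht⟩
  · intro h
    refine ⟨hH, heven, ?_⟩
    intro g hg
    rw [← Nat.not_even_iff_odd, even_card_subgroup_iff]
    rintro ⟨t, ⟨htH, htg⟩, ht⟩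
    exact hg (h g t ht htH (mem_map_conj_iff.1 htg))

end Cfsg.Agent.Lib.H2
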