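import Mathlib
import Cfsg.Agent.Lib.H2.StronglyEmbedded
import Cfsg.Agent.Lib.H2.Isolated

set_option autoImplicit false

namespace Cfsg.Agent.Lib.H2

variable {G : Type*} [Group G]

/-- conjugate subgroup `g K g⁻¹` -/
abbrev cj (g : G) (K : Subgroup G) : Subgroup G := K.map (MulAut.conj g).toMonoidHom

theorem mem_cj {g a : G} {K : Subgroup G} : a ∈ cj g K ↔ g⁻¹ * a * g ∈ K := mem_map_conj_iff

theorem cj_cj (g h : G) (K : Subgroup G) : cj g (cj h K) = cj (g * h) K := by
  ext a
  simp only [mem_cj, mul_inv_rev, mul_assoc]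

theorem cj_one (K : Subgroup G) : cj 1 K = K := by
  ext a
  simp [mem_cj]

theorem cj_le_cj {g : G} {K L : Subgroup G} (h : K ≤ L) : cj g K ≤ cj g L := Subgroup.map_mono h

theorem cj_eq_self_of_mem {g : G} {K : Subgroup G} (hg : g ∈ K) : cj g K = K := by
  ext a
  rw [mem_cj]
  constructor
  · intro h
    have := K.mul_mem (K.mul_mem hg h) (K.inv_mem hg)
    simpa [mul_assoc] using this
  · intro h
    exact K.mul_mem (K.mul_mem (K.inv_mem hg) h) hg

theorem cj_inv_cj (g : G) (K : Subgroup G) : cj g⁻¹ (cj g K) = K := by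
  rw [cj_cj, inv_mul_cancel, cj_one]

theorem cj_cj_inv (g : G) (K : Subgroup G) : cj g (cj g⁻¹ K) = K := by
  rw [cj_cj, mul_inv_cancel, cj_one]

theorem cj_le_iff {g : G} {K L : Subgroup G} : cj g K ≤ L ↔ K ≤ cj g⁻¹ L := by
  constructor
  · intro h
    have := cj_le_cj (g := g⁻¹) h
    rwa [cj_inv_cj] at this
  · intro h
    have := cj_le_cj (g := g) h
    rwa [cj_cj_inv] at this

theorem mem_normalizer_iff_cj {g : G} {K : Subgroup G} :
    g ∈ Subgroup.normalizer (K : Set G) ↔ cj g K = K :=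
  Subgroup.mem_normalizer_iff_map_conj_eq

theorem normalizer_cj (g : G) (K : Subgroup G) :
    Subgroup.normalizer (cj g K : Set G) = cj g (Subgroup.normalizer (K : Set G)) := by
  ext a
  rw [mem_cj, mem_normalizer_iff_cj, mem_normalizer_iff_cj, cj_cj]
  constructor
  · intro h
    have := congrArg (cj g⁻¹) h
    rw [cj_cj, cj_inv_cj] at this
    rw [← this]
    congr 1
    simp [mul_assoc]
  · intro h
    have := congrArg (cj g) h
    rw [cj_cj] at this
    rw [← this]
    congr 1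
    simp [mul_assoc]

theorem card_cj (g : G) (K : Subgroup G) : Nat.card (cj g K) = Nat.card K :=
  Subgroup.card_map_of_injective (MulAut.conj g).injective

theorem isPGroup_cj {p : ℕ} (g : G) {K : Subgroup G} (h : IsPGroup p K) : IsPGroup p (cj g K) :=
  h.map _

theorem cj_ne_bot {g : G} {K : Subgroup G} (h : K ≠ ⊥) : cj g K ≠ ⊥ := by
  intro h'
  apply h
  have := congrArg (cj g⁻¹) h'
  rw [cj_inv_cj] at this
  rw [this]
  exact Subgroup.map_bot _

section sylow

variable [Finite G] {p : ℕ} [Fact p.Prime]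

/-- the image in `G` of a Sylow subgroup of the subgroup `D` -/
abbrev sylImage (D : Subgroup G) (P : Sylow p D) : Subgroup G := (P : Subgroup D).map D.subtype

theorem sylImage_le (D : Subgroup G) (P : Sylow p D) : sylImage D P ≤ D := by
  rintro _ ⟨a, -, rfl⟩
  exact a.2

theorem sylImage_isPGroup (D : Subgroup G) (P : Sylow p D) : IsPGroup p (sylImage D P) :=
  P.isPGroup'.map _

theorem mem_sylImage {D : Subgroup G} {P : Sylow p D} {a : G} (ha : a ∈ D) :
    a ∈ sylImage D P ↔ (⟨a, ha⟩ : D) ∈ P := by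
  constructor
  · rintro ⟨b, hb, hba⟩
    have : b = ⟨a, ha⟩ := Subtype.ext hba
    rw [← this]; exact hb
  · intro h
    exact ⟨⟨a, ha⟩, h, rfl⟩

theorem sylImage_maximal (D : Subgroup G) (P : Sylow p D) {Q : Subgroup G} (hQD : Q ≤ D)
    (hQ : IsPGroup p Q) (hle : sylImage D P ≤ Q) : Q = sylImage D P := by
  have h1 : Q.subgroupOf D = P := by
    apply P.is_maximal'
    · exact hQ.comap_subtype
    · intro s hs
      rw [Subgroup.mem_subgroupOf]
      exact hle ⟨s, hs, rfl⟩
  apply le_antisymm _ hle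
  intro q hq
  rw [mem_sylImage (hQD hq)]
  have : (⟨q, hQD hq⟩ : D) ∈ Q.subgroupOf D := by
    rw [Subgroup.mem_subgroupOf]; exact hq
  rw [h1] at this
  exact this

theorem sylImage_ne_bot (D : Subgroup G) (P : Sylow p D) (hdvd : p ∣ Nat.card D) :
    sylImage D P ≠ ⊥ := by
  intro h
  have h1 : p ∣ Nat.card P := P.dvd_card_of_dvd_card hdvd
  have h2 : Nat.card (sylImage D P) = Nat.card P :=
    Subgroup.card_map_of_injective D.subtype_injective
  rw [h] at h2
  rw [Subgroup.card_bot] at h2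
  have h3 : Nat.card P = 1 := h2.symm
  have h4 : p ∣ 1 := by
    have : Nat.card (P : Subgroup D) = 1 := h3
    rw [← this]; exact h1
  exact (Fact.out : p.Prime).one_lt.ne' (Nat.dvd_one.1 h4)

/-- Sylow's theorem inside `D`: every `p`-subgroup of `D` is `D`-conjugate into the image of `P`. -/
theorem exists_cj_le_sylImage (D : Subgroup G) (P : Sylow p D) {Q : Subgroup G} (hQD : Q ≤ D)
    (hQ : IsPGroup p Q) : ∃ d ∈ D, cj d Q ≤ sylImage D P := by
  have h1 : IsPGroup p (Q.subgroupOf D) := hQ.comap_subtype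
  obtain ⟨R, hR⟩ := h1.exists_le_sylow
  obtain ⟨k, rfl⟩ := MulAction.exists_smul_eq D P R
  refine ⟨(k⁻¹ : D), (k⁻¹ : D).2, ?_⟩
  intro a ha
  rw [mem_cj] at ha
  have haD : a ∈ D := by
    have h2 := hQD ha
    have h3 := D.mul_mem (D.mul_mem (k⁻¹ : D).2 h2) (D.inv_mem (k⁻¹ : D).2)
    simpa [mul_assoc] using h3
  rw [mem_sylImage haD]
  have h4 : (⟨((k⁻¹ : D) : G)⁻¹ * a * ((k⁻¹ : D) : G), hQD ha⟩ : D) ∈ k • P := by
    apply hR
    rw [Subgroup.mem_subgroupOf]
    exact ha
  rw [mem_smul_sylow_iff] at h4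
  convert h4 using 1
  apply Subtype.ext
  simp [mul_assoc]

end sylow

end Cfsg.Agent.Lib.H2
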