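import Mathlib
import Cfsg.Agent.Lib.H2.ConjSub

set_option autoImplicit false

namespace Cfsg.Agent.Lib.H2

variable {G : Type*} [Group G] [Finite G] {p : ℕ} [Fact p.Prime]

/-- In a `p`-group `Q`, a subgroup `S` containing its own normaliser in `Q` is all of `Q`. -/
theorem eq_of_inf_normalizer_le {Q S : Subgroup G} (hQ : IsPGroup p Q) (hSQ : S ≤ Q)
    (hN : Q ⊓ Subgroup.normalizer (S : Set G) ≤ S) : S = Q := by
  have : Group.IsNilpotent Q := hQ.isNilpotent
  have hnc : NormalizerCondition Q := Group.normalizerCondition_of_isNilpotent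
  rw [normalizerCondition_iff_only_full_group_self_normalizing] at hnc
  have h1 : Subgroup.normalizer ((S.subgroupOf Q : Subgroup Q) : Set Q) = S.subgroupOf Q := by
    apply le_antisymm _ Subgroup.le_normalizer
    intro q hq
    rw [Subgroup.mem_subgroupOf]
    apply hN
    rw [Subgroup.mem_normalizer_iff] at hq
    refine ⟨q.2, ?_⟩
    change (q : G) ∈ Subgroup.normalizer (S : Set G)
    rw [Subgroup.mem_normalizer_iff]
    intro n
    constructor
    · intro hn
      have := (hq ⟨n, hSQ hn⟩).1 (by rw [Subgroup.mem_subgroupOf]; exact hn)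
      rw [Subgroup.mem_subgroupOf] at this
      exact this
    · intro hn
      have hnQ : n ∈ Q := by
        have h2 := hSQ hn
        have h3 := Q.mul_mem (Q.mul_mem (Q.inv_mem q.2) h2) q.2
        simpa [mul_assoc] using h3
      have := (hq ⟨n, hnQ⟩).2 (by rw [Subgroup.mem_subgroupOf]; exact hn)
      rw [Subgroup.mem_subgroupOf] at this
      exact this
  have h2 := hnc _ h1
  apply le_antisymm hSQ
  intro q hq
  have : (⟨q, hq⟩ : Q) ∈ S.subgroupOf Q := by rw [h2]; exact Subgroup.mem_top _
  rw [Subgroup.mem_subgroupOf] at this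
  exact this

end Cfsg.Agent.Lib.H2
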