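import Mathlib
import Cfsg.Agent.Lib.H11.RK2Defs
import Cfsg.Agent.Lib.H26.CycChain

/-!
# S5289 farm-out (architect helper11), piece CHAIN (helper2)

A finite `p`-group `T` with multiplicative `p`-th power map `π`, all `p`-th powers in a cyclic subgroup,
`|Ω₁(T)| < p³` and exponent `> p` has the characteristic chain `T ≥ ker π ≥ ker π ∩ im π ≥ 1` with cyclic factors.
-/

set_option autoImplicit false

namespace Cfsg.Agent.Lib.H2.RK2

open Cfsg.Agent.Lib.H11.RK2

/-- the chain `⊤ ≥ K ≥ L ≥ ⊥ ≥ ⊥ ≥ …` -/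
def chainOf {T : Type*} [Group T] (K L : Subgroup T) : ℕ → Subgroup T
  | 0 => ⊤
  | 1 => K
  | 2 => L
  | _ + 3 => ⊥

/-- a quotient of a group mapping into a cyclic group with kernel inside the subgroup is cyclic -/
theorem isCyclic_quot_of_hom {A B : Type*} [Group A] [Group B] [IsCyclic B] (f : A →* B)
    (N : Subgroup A) [N.Normal] (h : f.ker ≤ N) : IsCyclic (A ⧸ N) := by
  have h1 : IsCyclic f.range := inferInstance
  have h2 : IsCyclic (A ⧸ f.ker) :=
    (MulEquiv.isCyclic (QuotientGroup.quotientKerEquivRange f)).2 h1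
  have hsurj : Function.Surjective (QuotientGroup.map f.ker N (MonoidHom.id A) (by
      intro a ha
      exact h ha)) := by
    intro q
    obtain ⟨a, rfl⟩ := QuotientGroup.mk_surjective q
    exact ⟨QuotientGroup.mk a, rfl⟩
  exact isCyclic_of_surjective _ hsurj

/-- **CHAIN**. -/
theorem chain_cycData {T : Type*} [Group T] [Finite T] {p : ℕ} [Fact p.Prime] (hT : IsPGroup p T)
    (hpow : ∀ g k : T, (g * k) ^ p = g ^ p * k ^ p) (C : Subgroup T) (hCc : IsCyclic C)
    (hC : ∀ g : T, g ^ p ∈ C) (hker : Nat.card {g : T // g ^ p = 1} < p ^ 3)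
    (hne : ∃ g : T, g ^ p ≠ 1) (𝒴 : Subgroup (MulAut T)) :
    ∃ cc : ℕ → Subgroup T, Cfsg.Agent.Lib.H26.CycChain.CycData 𝒴 cc ∧ cc 0 = ⊤ ∧ cc 3 = ⊥ := by
  have hp : p.Prime := Fact.out
  have hp1 : 1 < p := hp.one_lt
  let π : T →* T := { toFun := fun g => g ^ p, map_one' := one_pow p, map_mul' := hpow }
  have hπ : ∀ g : T, π g = g ^ p := fun _ => rfl
  set K : Subgroup T := π.ker with hK
  set L : Subgroup T := K ⊓ π.range with hL
  have hLK : L ≤ K := inf_le_left
  have hLn : L.Normal := by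
    have hrn : π.range.Normal := by
      refine ⟨fun n hn g => ?_⟩
      obtain ⟨u, rfl⟩ := hn
      refine ⟨g * u * g⁻¹, ?_⟩
      rw [hπ, hπ, conj_pow]
    exact Subgroup.normal_inf_normal K π.range
  -- invariance under automorphisms
  have hKinv : ∀ y : MulAut T, ∀ h ∈ K, y h ∈ K := by
    intro y h hh
    rw [hK, MonoidHom.mem_ker, hπ] at hh ⊢
    rw [← map_pow, hh, map_one]
  have hRinv : ∀ y : MulAut T, ∀ h ∈ π.range, y h ∈ π.range := by
    rintro y _ ⟨u, rfl⟩
    exact ⟨y u, by rw [hπ, hπ, map_pow]⟩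
  have hLinv : ∀ y : MulAut T, ∀ h ∈ L, y h ∈ L := fun y h hh =>
    ⟨hKinv y h hh.1, hRinv y h hh.2⟩
  -- `L` is not trivial
  have hLne : L ≠ ⊥ := by
    obtain ⟨g, hg⟩ := hne
    obtain ⟨k, hk⟩ := hT (g ^ p)
    classical
    have hex : ∃ k : ℕ, (g ^ p) ^ p ^ k = 1 := ⟨k, hk⟩
    set j := Nat.find hex with hj
    have hj1 : (g ^ p) ^ p ^ j = 1 := Nat.find_spec hex
    have hj0 : j ≠ 0 := by
      intro h0
      rw [h0, pow_zero, pow_one] at hj1
      exact hg hj1
    obtain ⟨i, hi⟩ : ∃ i, j = i + 1 := ⟨j - 1, by omega⟩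
    have hmin : (g ^ p) ^ p ^ i ≠ 1 := Nat.find_min hex (by omega)
    intro hbot
    have hmem : (g ^ p) ^ p ^ i ∈ L := by
      refine Subgroup.mem_inf.2 ⟨?_, ?_⟩
      · show (g ^ p) ^ p ^ i ∈ π.ker
        rw [MonoidHom.mem_ker, hπ, ← pow_mul, ← pow_succ, ← hi]
        exact hj1
      · exact Subgroup.pow_mem _ (⟨g, rfl⟩ : g ^ p ∈ π.range) _
    rw [hbot, Subgroup.mem_bot] at hmem
    exact hmin hmem
  -- the orders of `K` and `L`
  have hKc : Nat.card K < p ^ 3 := by
    have : Nat.card K = Nat.card {g : T // g ^ p = 1} :=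
      Nat.card_congr (Equiv.subtypeEquivRight (fun g => by rw [hK, MonoidHom.mem_ker, hπ]))
    rw [this]
    exact hker
  obtain ⟨k, hk⟩ := (hT.to_subgroup K).exists_card_eq
  obtain ⟨l, hl⟩ := (hT.to_subgroup L).exists_card_eq
  have hk3 : k < 3 := by
    rw [hk] at hKc
    exact (Nat.pow_lt_pow_iff_right hp1).1 hKc
  have hl0 : l ≠ 0 := by
    intro h0
    rw [h0, pow_zero] at hl
    exact hLne ((Subgroup.card_eq_one).1 hl)
  have hidx : (L.subgroupOf K).index * Nat.card L = Nat.card K := by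
    have h1 : Nat.card (L.subgroupOf K) = Nat.card L :=
      Nat.card_congr (Subgroup.subgroupOfEquivOfLe hLK).toEquiv
    rw [← h1, mul_comm]
    exact Subgroup.card_mul_index _
  refine ⟨chainOf K L, ⟨?_, ?_, ?_, ?_⟩, rfl, rfl⟩
  · -- mono
    intro i
    match i with
    | 0 => exact le_top
    | 1 => exact hLK
    | 2 => exact bot_le
    | _ + 3 => exact le_rfl
  · -- invariance
    intro i y _ h hh
    match i with
    | 0 => exact Subgroup.mem_top _
    | 1 => exact hKinv y h hh
    | 2 => exact hLinv y h hh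
    | _ + 3 =>
      have : h = 1 := Subgroup.mem_bot.1 hh
      show y h ∈ (⊥ : Subgroup T)
      rw [this, map_one]
      exact Subgroup.one_mem _
  · -- normality
    intro i
    match i with
    | 0 => show (K.subgroupOf ⊤).Normal; infer_instance
    | 1 => show (L.subgroupOf K).Normal; infer_instance
    | 2 => show ((⊥ : Subgroup T).subgroupOf L).Normal; infer_instance
    | _ + 3 => show ((⊥ : Subgroup T).subgroupOf ⊥).Normal; infer_instance
  · -- cyclic factors
    intro i hi
    match i, hi with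
    | 0, hi =>
      show IsCyclic (↥(⊤ : Subgroup T) ⧸ K.subgroupOf ⊤)
      let f : ↥(⊤ : Subgroup T) →* C :=
        { toFun := fun g => ⟨(g : T) ^ p, hC g⟩
          map_one' := by apply Subtype.ext; simp
          map_mul' := fun a b => by apply Subtype.ext; simp [hpow] }
      refine isCyclic_quot_of_hom f _ ?_
      intro a ha
      rw [MonoidHom.mem_ker] at ha
      rw [Subgroup.mem_subgroupOf, hK, MonoidHom.mem_ker, hπ]
      exact congrArg Subtype.val ha
    | 1, hi =>
      show IsCyclic (↥K ⧸ L.subgroupOf K)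
      have hcard : Nat.card (↥K ⧸ L.subgroupOf K) ∣ p := by
        show (L.subgroupOf K).index ∣ p
        rw [hk, hl] at hidx
        have hlk : l ≤ k := by
          by_contra hcon
          push Not at hcon
          have h1 : p ^ l ∣ p ^ k := Dvd.intro_left _ hidx
          exact absurd ((Nat.pow_dvd_pow_iff_le_right hp1).1 h1) (by omega)
        have h2 : p ^ k = p ^ (k - l) * p ^ l := by rw [← pow_add]; congr 1; omega
        rw [h2] at hidx
        have h3 : (L.subgroupOf K).index = p ^ (k - l) :=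
          Nat.eq_of_mul_eq_mul_right (pow_pos hp.pos _) hidx
        rw [h3]
        have : k - l ≤ 1 := by omega
        calc p ^ (k - l) ∣ p ^ 1 := pow_dvd_pow p this
          _ = p := pow_one p
      exact isCyclic_of_card_dvd_prime hcard
    | 2, hi =>
      show IsCyclic (↥L ⧸ (⊥ : Subgroup T).subgroupOf L)
      have hLC : ∀ g : ↥L, (g : T) ∈ C := by
        intro g
        obtain ⟨u, hu⟩ := g.2.2
        rw [← hu, hπ]
        exact hC u
      let f : ↥L →* C :=
        { toFun := fun g => ⟨(g : T), hLC g⟩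
          map_one' := rfl
          map_mul' := fun a b => rfl }
      refine isCyclic_quot_of_hom f _ ?_
      intro a ha
      rw [MonoidHom.mem_ker] at ha
      rw [Subgroup.mem_subgroupOf, Subgroup.mem_bot]
      exact congrArg Subtype.val ha
    | _ + 3, hi =>
      show IsCyclic (↥(⊥ : Subgroup T) ⧸ (⊥ : Subgroup T).subgroupOf ⊥)
      exact isCyclic_of_subsingleton

end Cfsg.Agent.Lib.H2.RK2
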