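import Mathlib
import Cfsg.Agent.Lib.H11.RK2Defs
import Cfsg.Agent.Lib.H11.R2LIFT

/-!
# S5289 farm-out (architect helper11), piece PEGEN (helper2)

If the `p`-th power map of `G = ⟨x, y, z⟩` (order `p^n`) is multiplicative, then `z` has order `p^(n-2)`, all `p`-th
powers lie in `⟨z^p⟩` and `{g | g^p = 1}` has exactly `p³` elements.
-/

set_option autoImplicit false

namespace Cfsg.Agent.Lib.H2.RK2

open Cfsg.Agent.Lib.H11.RK2

/-- **PEGEN**. -/
theorem pe_gen {G : Type*} [Group G] [Finite G] {p n : ℕ} [Fact p.Prime] (hn : 3 ≤ n)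
    (hcard : Nat.card G = p ^ n) (x y z : G)
    (hgen : Subgroup.closure ({x, y, z} : Set G) = ⊤) (hx : x ^ p = 1) (hy : y ^ p = 1)
    (hz : z ^ p ^ (n - 2) = 1) (hyz : y * z = z * y)
    (hxy : x⁻¹ * y * x ∈ Subgroup.zpowers y ⊔ Subgroup.zpowers z)
    (hxz : x⁻¹ * z * x ∈ Subgroup.zpowers y ⊔ Subgroup.zpowers z)
    (hpow : ∀ g k : G, (g * k) ^ p = g ^ p * k ^ p) :
    orderOf z = p ^ (n - 2) ∧ (∀ g : G, g ^ p ∈ Subgroup.zpowers (z ^ p)) ∧
      Nat.card {g : G // g ^ p = 1} = p ^ 3 := by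
  have hp : p.Prime := Fact.out
  have hp1 : 1 < p := hp.one_lt
  -- the order of `z`
  have hdvd := Cfsg.Agent.Lib.H11.R2.card_dvd_of_gens x y z hgen hyz hxy hxz
  rw [hcard] at hdvd
  obtain ⟨a, ha, hoa⟩ := (Nat.dvd_prime_pow hp).1
    (orderOf_dvd_of_pow_eq_one (show x ^ p ^ 1 = 1 by rwa [pow_one]))
  obtain ⟨b, hb, hob⟩ := (Nat.dvd_prime_pow hp).1
    (orderOf_dvd_of_pow_eq_one (show y ^ p ^ 1 = 1 by rwa [pow_one]))
  obtain ⟨j, hj, hoj⟩ := (Nat.dvd_prime_pow hp).1 (orderOf_dvd_of_pow_eq_one hz)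
  rw [hoa, hob, hoj, ← pow_add, ← pow_add, Nat.pow_dvd_pow_iff_le_right hp1] at hdvd
  have hjn : j = n - 2 := by omega
  have hoz : orderOf z = p ^ (n - 2) := by rw [hoj, hjn]
  -- the power map as a homomorphism
  let π : G →* G := { toFun := fun g => g ^ p, map_one' := one_pow p, map_mul' := hpow }
  have hπ : ∀ g : G, π g = g ^ p := fun _ => rfl
  have hall : ∀ g : G, g ^ p ∈ Subgroup.zpowers (z ^ p) := by
    intro g
    have hg : g ∈ Subgroup.closure ({x, y, z} : Set G) := by rw [hgen]; exact Subgroup.mem_top g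
    have hle : Subgroup.closure ({x, y, z} : Set G) ≤ (Subgroup.zpowers (z ^ p)).comap π := by
      rw [Subgroup.closure_le]
      intro u hu
      rw [Set.mem_insert_iff, Set.mem_insert_iff, Set.mem_singleton_iff] at hu
      rw [SetLike.mem_coe, Subgroup.mem_comap, hπ]
      rcases hu with rfl | rfl | rfl
      · rw [hx]; exact Subgroup.one_mem _
      · rw [hy]; exact Subgroup.one_mem _
      · exact Subgroup.mem_zpowers _
    exact hle hg
  refine ⟨hoz, hall, ?_⟩
  -- the kernel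
  have hrange : π.range = Subgroup.zpowers (z ^ p) := by
    apply le_antisymm
    · rintro _ ⟨g, rfl⟩
      exact hall g
    · rw [Subgroup.zpowers_le]
      exact ⟨z, rfl⟩
  have hozp : orderOf (z ^ p) = p ^ (n - 3) := by
    rw [orderOf_pow_of_dvd hp.ne_zero (by rw [hoz]; exact dvd_pow_self p (by omega)), hoz]
    have : p ^ (n - 2) = p ^ (n - 3) * p := by rw [← pow_succ]; congr 1; omega
    rw [this, Nat.mul_div_cancel _ hp.pos]
  have hcr : Nat.card π.range = p ^ (n - 3) := by rw [hrange, Nat.card_zpowers, hozp]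
  have h1 : Nat.card π.ker * π.ker.index = Nat.card G := Subgroup.card_mul_index _
  rw [Subgroup.index_ker, hcr, hcard] at h1
  have hker : Nat.card π.ker = p ^ 3 := by
    have : p ^ n = p ^ 3 * p ^ (n - 3) := by rw [← pow_add]; congr 1; omega
    rw [this] at h1
    exact Nat.eq_of_mul_eq_mul_right (pow_pos hp.pos _) h1
  rw [← hker]
  exact Nat.card_congr (Equiv.subtypeEquivRight (fun g => by rw [MonoidHom.mem_ker, hπ]))

end Cfsg.Agent.Lib.H2.RK2
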