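import Cfsg.Agent.Lib.H24.S4415W2
import Cfsg.Agent.Lib.H15.S4415G1a

/-!
helper2: S4415 GOOD block, pieces (S) and (N) of helper24's FrameStmt producer:
`W` is the sum of the sign-weight spaces of the elementary abelian `2`-group `A`, and if some
`a₀ ∈ A` is neither `1` nor `-1` on `W` then two distinct weights occur.
-/

set_option autoImplicit false

namespace Cfsg.Agent.Lib.H2.S4415SN

open Cfsg.Agent.Lib.H24.S4415W

variable {S E : Type*} [Group S] [AddCommGroup E] [Module (ZMod 3) E]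

/-- (S): `W` is contained in the sum of its sign-weight spaces. -/
theorem W_le_iSup_Vw (ρ : Representation (ZMod 3) S E) (A : Subgroup S) [Finite A]
    (hAc : ∀ a ∈ A, ∀ a' ∈ A, a * a' = a' * a) (hA2 : ∀ a ∈ A, a * a = 1)
    (W : Submodule (ZMod 3) E) (hW : ∀ a ∈ A, ∀ w ∈ W, ρ a w ∈ W) :
    W ≤ ⨆ χ : ↥A → ZMod 3, Vw ρ A W χ := by
  classical
  intro w hw
  have hspan := Cfsg.Agent.Lib.H15.S4415G1a.span_simEig ρ A hAc hA2 W hW w hw
  refine (Submodule.span_le.mpr ?_) hspan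
  rintro v ⟨hvW, hv⟩
  refine Submodule.mem_iSup_of_mem
    (fun a : ↥A => if ρ (a : S) v = v then (1 : ZMod 3) else -1) ?_
  refine ⟨hvW, fun a => ?_⟩
  by_cases h : ρ (a : S) v = v
  · simp only [h, if_true, one_smul]
  · rcases hv a a.2 with h' | h'
    · exact absurd h' h
    · simp only [h, if_false, neg_smul, one_smul]
      exact h'

/-- If every occurring weight takes the value `c` at `a₀`, then `ρ a₀` is `c` on `W`. -/
theorem scalar_of_weights (ρ : Representation (ZMod 3) S E) (A : Subgroup S) [Finite A]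
    (hAc : ∀ a ∈ A, ∀ a' ∈ A, a * a' = a' * a) (hA2 : ∀ a ∈ A, a * a = 1)
    (W : Submodule (ZMod 3) E) (hW : ∀ a ∈ A, ∀ w ∈ W, ρ a w ∈ W) (a₀ : ↥A) (c : ZMod 3)
    (h : ∀ χ : ↥A → ZMod 3, Vw ρ A W χ ≠ ⊥ → χ a₀ = c) :
    ∀ w ∈ W, ρ (a₀ : S) w = c • w := by
  intro w hw
  let P : Submodule (ZMod 3) E :=
    Module.End.eigenspace (ρ (a₀ : S) : Module.End (ZMod 3) E) c
  have hP : ∀ v : E, v ∈ P ↔ ρ (a₀ : S) v = c • v := by
    intro v
    exact Module.End.mem_eigenspace_iff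
  have hle : (⨆ χ : ↥A → ZMod 3, Vw ρ A W χ) ≤ P := by
    refine iSup_le fun χ v hv => ?_
    rw [hP]
    by_cases hv0 : v = 0
    · rw [hv0, map_zero, smul_zero]
    · have hne : Vw ρ A W χ ≠ ⊥ := by
        intro hbot
        rw [hbot, Submodule.mem_bot] at hv
        exact hv0 hv
      rw [← h χ hne]
      exact hv.2 a₀
  exact (hP w).mp (hle (W_le_iSup_Vw ρ A hAc hA2 W hW hw))

/-- (N): if `a₀ ∈ A` is neither `1` nor `-1` on `W`, two distinct weights occur. -/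
theorem two_weights (ρ : Representation (ZMod 3) S E) (A : Subgroup S) [Finite A]
    (hAc : ∀ a ∈ A, ∀ a' ∈ A, a * a' = a' * a) (hA2 : ∀ a ∈ A, a * a = 1)
    (W : Submodule (ZMod 3) E) (hW : ∀ a ∈ A, ∀ w ∈ W, ρ a w ∈ W) (a₀ : ↥A)
    (h1 : ¬ ∀ w ∈ W, ρ (a₀ : S) w = w) (h2 : ¬ ∀ w ∈ W, ρ (a₀ : S) w = -w) :
    ∃ χ ψ : ↥A → ZMod 3, Vw ρ A W χ ≠ ⊥ ∧ Vw ρ A W ψ ≠ ⊥ ∧ χ ≠ ψ := by
  have hA : ∃ χ : ↥A → ZMod 3, Vw ρ A W χ ≠ ⊥ ∧ χ a₀ ≠ 1 := by
    by_contra hcon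
    push Not at hcon
    apply h1
    intro w hw
    have := scalar_of_weights ρ A hAc hA2 W hW a₀ 1 hcon w hw
    rwa [one_smul] at this
  have hB : ∃ ψ : ↥A → ZMod 3, Vw ρ A W ψ ≠ ⊥ ∧ ψ a₀ ≠ -1 := by
    by_contra hcon
    push Not at hcon
    apply h2
    intro w hw
    have := scalar_of_weights ρ A hAc hA2 W hW a₀ (-1) hcon w hw
    rwa [neg_smul, one_smul] at this
  obtain ⟨χ, hχ, hχ1⟩ := hA
  obtain ⟨ψ, hψ, hψ1⟩ := hB
  refine ⟨χ, ψ, hχ, hψ, ?_⟩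
  intro heq
  -- `χ a₀ ≠ 0` since `ρ a₀` is invertible
  obtain ⟨w, hw, hw0⟩ := Submodule.exists_mem_ne_zero_of_ne_bot hχ
  have hχ0 : χ a₀ ≠ 0 := by
    intro h0
    have h3 := hw.2 a₀
    rw [h0, zero_smul] at h3
    have h4 := rho_inv_rho ρ (a₀ : S) w
    rw [h3, map_zero] at h4
    exact hw0 h4.symm
  have hdec : ∀ x : ZMod 3, x ≠ 0 → x ≠ 1 → x = -1 := by decide
  apply hψ1
  rw [← heq]
  exact hdec _ hχ0 hχ1

end Cfsg.Agent.Lib.H2.S4415SN
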