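import Mathlib
import Cfsg.Prelude.Def_Sporadic_a
import Cfsg.Agent.Lib.H28.Steiner
import Cfsg.Agent.Lib.H27.SteinerInt

/-!
helper2 library: the projective plane of order 4 (a Steiner system `S(2,5,21)`), part (a):
lines through two points, line counts, intersection of two lines, sums over lines through a point.
-/

set_option autoImplicit false
set_option linter.unusedSectionVars false

namespace Cfsg.Agent.Lib.H2.PG24

open Finset Cfsg.Agent.Lib.H28

variable {α : Type*} [Fintype α] [DecidableEq α]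

/-- A projective plane of order 4 on the type `α`. -/
structure IsPlane (L : Set (Finset α)) : Prop where
  card : Fintype.card α = 21
  st : Cfsg.IsSteinerSystem 2 5 L

namespace IsPlane

variable {L : Set (Finset α)} (P : IsPlane L)
include P

theorem line_card {l : Finset α} (hl : l ∈ L) : l.card = 5 := P.st.1 l hl

theorem exists_line {a b : α} (h : a ≠ b) : ∃ l ∈ L, a ∈ l ∧ b ∈ l := by
  obtain ⟨l, ⟨hl, hs⟩, -⟩ := P.st.2 {a, b} (card_pair h)
  exact ⟨l, hl, hs (by simp), hs (by simp)⟩

theorem line_unique {l m : Finset α} (hl : l ∈ L) (hm : m ∈ L) {a b : α} (hab : a ≠ b)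
    (ha : a ∈ l) (hb : b ∈ l) (ha' : a ∈ m) (hb' : b ∈ m) : l = m := by
  obtain ⟨k, -, hk⟩ := P.st.2 {a, b} (card_pair hab)
  have h1 : l = k := hk l ⟨hl, by intro x hx; simp at hx; rcases hx with rfl | rfl <;> assumption⟩
  have h2 : m = k := hk m ⟨hm, by intro x hx; simp at hx; rcases hx with rfl | rfl <;> assumption⟩
  rw [h1, h2]

/-- The line through two points (empty when the points coincide). -/
noncomputable def ln (a b : α) : Finset α :=
  if h : a ≠ b then Classical.choose (P.exists_line h) else ∅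

theorem ln_mem {a b : α} (h : a ≠ b) : P.ln a b ∈ L := by
  unfold ln; rw [dif_pos h]; exact (Classical.choose_spec (P.exists_line h)).1

theorem left_mem_ln {a b : α} (h : a ≠ b) : a ∈ P.ln a b := by
  unfold ln; rw [dif_pos h]; exact (Classical.choose_spec (P.exists_line h)).2.1

theorem right_mem_ln {a b : α} (h : a ≠ b) : b ∈ P.ln a b := by
  unfold ln; rw [dif_pos h]; exact (Classical.choose_spec (P.exists_line h)).2.2

theorem eq_ln {l : Finset α} (hl : l ∈ L) {a b : α} (h : a ≠ b) (ha : a ∈ l) (hb : b ∈ l) :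
    l = P.ln a b :=
  P.line_unique hl (P.ln_mem h) h ha hb (P.left_mem_ln h) (P.right_mem_ln h)

theorem ln_comm {a b : α} (h : a ≠ b) : P.ln a b = P.ln b a :=
  (P.eq_ln (P.ln_mem h.symm) h (P.right_mem_ln h.symm) (P.left_mem_ln h.symm)).symm

theorem ln_eq_of_mem {a b c : α} (hab : a ≠ b) (hac : a ≠ c) (hc : c ∈ P.ln a b) :
    P.ln a c = P.ln a b :=
  (P.eq_ln (P.ln_mem hab) hac (P.left_mem_ln hab) hc).symm

theorem mem_ln_swap {a b c : α} (hab : a ≠ b) (hac : a ≠ c) (hc : c ∈ P.ln a b) :
    b ∈ P.ln a c := by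
  rw [P.ln_eq_of_mem hab hac hc]; exact P.right_mem_ln hab

theorem mem_ln_rot {a b c : α} (hab : a ≠ b) (hbc : b ≠ c) (hc : c ∈ P.ln a b) :
    a ∈ P.ln b c := by
  rw [P.ln_comm hab] at hc
  rw [P.ln_eq_of_mem hab.symm hbc hc]; exact P.right_mem_ln hab.symm

theorem card_univ : (Finset.univ : Finset α).card = 21 := by rw [Finset.card_univ, P.card]

/-- Exactly five lines pass through a point. -/
theorem card_through (p : α) : ((blocksF L).filter (p ∈ ·)).card = 5 := by
  have h := steiner_count P.st {p} (by simp)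
  rw [P.card] at h
  simp only [card_singleton, singleton_subset_iff] at h
  norm_num at h
  omega

/-- There are exactly 21 lines. -/
theorem card_lines : (blocksF L).card = 21 := by
  have h := steiner_count P.st (∅ : Finset α) (by simp)
  rw [P.card] at h
  simp only [card_empty, empty_subset, filter_true] at h
  norm_num [Nat.choose] at h
  omega

theorem inter_card_le_one {l m : Finset α} (hl : l ∈ L) (hm : m ∈ L) (hne : l ≠ m) :
    (l ∩ m).card ≤ 1 := by
  have := Cfsg.Agent.Lib.H27.inter_card_lt P.st hm hl hne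
  omega

/-- Two distinct lines meet in exactly one point. -/
theorem inter_card {l m : Finset α} (hl : l ∈ L) (hm : m ∈ L) (hne : l ≠ m) :
    (l ∩ m).card = 1 := by
  have h := Cfsg.Agent.Lib.H27.sum_choose_inter_erase P.st hm 1 (by norm_num)
  rw [P.card] at h
  norm_num at h
  have hcard : ((blocksF L).erase m).card = 20 := by
    rw [card_erase_of_mem (mem_blocksF.mpr hm), P.card_lines]
  have hsum : ∑ c ∈ (blocksF L).erase m, (c ∩ m).card = 20 := by omega
  by_contra hcon
  have hlt : (l ∩ m).card < 1 := lt_of_le_of_ne (P.inter_card_le_one hl hm hne) hcon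
  have : ∑ c ∈ (blocksF L).erase m, (c ∩ m).card < ∑ _c ∈ (blocksF L).erase m, 1 := by
    apply sum_lt_sum
    · intro c hc
      rw [Cfsg.Agent.Lib.H27.mem_erase_blocksF] at hc
      exact P.inter_card_le_one hc.2 hm hc.1
    · exact ⟨l, Cfsg.Agent.Lib.H27.mem_erase_blocksF.mpr ⟨hne, hl⟩, hlt⟩
  rw [sum_const, smul_eq_mul, mul_one, hcard, hsum] at this
  exact lt_irrefl _ this

theorem exists_inter {l m : Finset α} (hl : l ∈ L) (hm : m ∈ L) (hne : l ≠ m) :
    ∃ p, l ∩ m = {p} := card_eq_one.mp (P.inter_card hl hm hne)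

/-- If two lines share two distinct points they are equal (contrapositive form). -/
theorem eq_of_mem_inter {l m : Finset α} (hl : l ∈ L) (hm : m ∈ L) (hne : l ≠ m) {x y : α}
    (hx : x ∈ l) (hx' : x ∈ m) (hy : y ∈ l) (hy' : y ∈ m) : x = y := by
  by_contra hxy
  exact hne (P.line_unique hl hm hxy hx hy hx' hy')

/-- The lines through `p` partition the other points: summing `|l ∩ X|` over the lines through `p`
gives `|X|` when `p ∉ X`. -/
theorem sum_through (p : α) (X : Finset α) (hX : p ∉ X) :
    ∑ l ∈ (blocksF L).filter (p ∈ ·), (l ∩ X).card = X.card := by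
  have hmaps : ∀ x ∈ X, P.ln p x ∈ (blocksF L).filter (p ∈ ·) := by
    intro x hx
    have hpx : p ≠ x := fun h => hX (h ▸ hx)
    rw [mem_filter, mem_blocksF]
    exact ⟨P.ln_mem hpx, P.left_mem_ln hpx⟩
  rw [card_eq_sum_card_fiberwise hmaps]
  apply sum_congr rfl
  intro l hl
  rw [mem_filter, mem_blocksF] at hl
  congr 1
  ext x
  simp only [mem_inter, mem_filter]
  constructor
  · rintro ⟨hxl, hxX⟩
    have hpx : p ≠ x := fun h => hX (h ▸ hxX)
    exact ⟨hxX, (P.eq_ln hl.1 hpx hl.2 hxl).symm⟩
  · rintro ⟨hxX, hx⟩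
    have hpx : p ≠ x := fun h => hX (h ▸ hxX)
    exact ⟨hx ▸ P.right_mem_ln hpx, hxX⟩

end IsPlane

end Cfsg.Agent.Lib.H2.PG24
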