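import Mathlib
import Cfsg.Prelude.Def_Sporadic_a
import Cfsg.Agent.Lib.H2.PG24a

/-!
helper2 library: the projective plane of order 4, part (b): hyperovals, the mate map
(fixed-point-free involution of the hyperoval attached to an exterior point), external lines.
-/

set_option autoImplicit false
set_option linter.unusedSectionVars false

namespace Cfsg.Agent.Lib.H2.PG24

open Finset Cfsg.Agent.Lib.H28

variable {α : Type*} [Fintype α] [DecidableEq α]

/-- A hyperoval: six points, no three on a line. -/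
def IsOval (L : Set (Finset α)) (H : Finset α) : Prop :=
  H.card = 6 ∧ ∀ l ∈ L, (l ∩ H).card ≤ 2

namespace IsPlane

variable {L : Set (Finset α)} (P : IsPlane L) {H : Finset α} (hH : IsOval L H)
include P hH

/-- Every line through a point of a hyperoval is a secant. -/
theorem oval_through {h : α} (hh : h ∈ H) {l : Finset α} (hl : l ∈ L) (hhl : h ∈ l) :
    (l ∩ H).card = 2 := by
  have hsum := P.sum_through h (H.erase h) (notMem_erase h H)
  rw [card_erase_of_mem hh, hH.1] at hsum
  have hle : ∀ m ∈ (blocksF L).filter (h ∈ ·), (m ∩ H.erase h).card ≤ 1 := by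
    intro m hm
    rw [mem_filter, mem_blocksF] at hm
    rw [inter_erase, card_erase_of_mem (mem_inter.mpr ⟨hm.2, hh⟩)]
    have := hH.2 m hm.1
    omega
  have hl' : l ∈ (blocksF L).filter (h ∈ ·) := by
    rw [mem_filter, mem_blocksF]; exact ⟨hl, hhl⟩
  have hone : (l ∩ H.erase h).card = 1 := by
    by_contra hcon
    have hlt : (l ∩ H.erase h).card < 1 := lt_of_le_of_ne (hle l hl') hcon
    have : ∑ m ∈ (blocksF L).filter (h ∈ ·), (m ∩ H.erase h).card
        < ∑ _m ∈ (blocksF L).filter (h ∈ ·), 1 :=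
      sum_lt_sum hle ⟨l, hl', hlt⟩
    rw [sum_const, smul_eq_mul, mul_one, P.card_through, hsum] at this
    simp at this
  rw [inter_erase, card_erase_of_mem (mem_inter.mpr ⟨hhl, hh⟩)] at hone
  have hpos : 0 < (l ∩ H).card := card_pos.mpr ⟨h, mem_inter.mpr ⟨hhl, hh⟩⟩
  omega

/-- A line meets a hyperoval in 0 or 2 points. -/
theorem oval_inter_card {l : Finset α} (hl : l ∈ L) : l ∩ H = ∅ ∨ (l ∩ H).card = 2 := by
  rcases (l ∩ H).eq_empty_or_nonempty with h | ⟨h, hh⟩
  · exact Or.inl h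
  · rw [mem_inter] at hh
    exact Or.inr (P.oval_through hH hh.2 hl hh.1)

/-- Through an exterior point there are exactly three secants. -/
theorem card_secants_through {x : α} (hx : x ∉ H) :
    ((blocksF L).filter (fun l => x ∈ l ∧ (l ∩ H).card = 2)).card = 3 := by
  have hsum := P.sum_through x H hx
  rw [hH.1] at hsum
  have : ∀ l ∈ (blocksF L).filter (x ∈ ·),
      (l ∩ H).card = if (l ∩ H).card = 2 then 2 else 0 := by
    intro l hl
    rw [mem_filter, mem_blocksF] at hl
    rcases P.oval_inter_card hH hl.1 with h | h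
    · rw [h]; simp
    · rw [if_pos h, h]
  rw [sum_congr rfl this, ← sum_filter, sum_const, smul_eq_mul, filter_filter] at hsum
  omega

/-- Through an exterior point there are exactly two external lines. -/
theorem card_external_through {x : α} (hx : x ∉ H) :
    ((blocksF L).filter (fun l => x ∈ l ∧ l ∩ H = ∅)).card = 2 := by
  have h3 := P.card_secants_through hH hx
  have h5 := P.card_through x
  have hsplit : (blocksF L).filter (x ∈ ·)
      = (blocksF L).filter (fun l => x ∈ l ∧ (l ∩ H).card = 2)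
        ∪ (blocksF L).filter (fun l => x ∈ l ∧ l ∩ H = ∅) := by
    ext l
    simp only [mem_filter, mem_union, mem_blocksF]
    constructor
    · rintro ⟨hl, hxl⟩
      rcases P.oval_inter_card hH hl with h | h
      · exact Or.inr ⟨hl, hxl, h⟩
      · exact Or.inl ⟨hl, hxl, h⟩
    · rintro (⟨hl, hxl, -⟩ | ⟨hl, hxl, -⟩) <;> exact ⟨hl, hxl⟩
  have hdisj : Disjoint ((blocksF L).filter (fun l => x ∈ l ∧ (l ∩ H).card = 2))
      ((blocksF L).filter (fun l => x ∈ l ∧ l ∩ H = ∅)) := by
    rw [disjoint_left]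
    intro l h1 h2
    rw [mem_filter] at h1 h2
    rw [h2.2.2] at h1
    simp at h1
  rw [hsplit, card_union_of_disjoint hdisj, h3] at h5
  omega

/-- Among three external lines through an exterior point two coincide. -/
theorem external_three {x : α} (hx : x ∉ H) {l₁ l₂ l₃ : Finset α}
    (h₁ : l₁ ∈ L) (h₂ : l₂ ∈ L) (h₃ : l₃ ∈ L) (x₁ : x ∈ l₁) (x₂ : x ∈ l₂) (x₃ : x ∈ l₃)
    (e₁ : l₁ ∩ H = ∅) (e₂ : l₂ ∩ H = ∅) (e₃ : l₃ ∩ H = ∅) :
    l₁ = l₂ ∨ l₁ = l₃ ∨ l₂ = l₃ := by
  obtain ⟨u, v, -, huv⟩ := card_eq_two.mp (P.card_external_through hH hx)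
  have m₁ : l₁ ∈ ({u, v} : Finset (Finset α)) := by
    rw [← huv, mem_filter, mem_blocksF]; exact ⟨h₁, x₁, e₁⟩
  have m₂ : l₂ ∈ ({u, v} : Finset (Finset α)) := by
    rw [← huv, mem_filter, mem_blocksF]; exact ⟨h₂, x₂, e₂⟩
  have m₃ : l₃ ∈ ({u, v} : Finset (Finset α)) := by
    rw [← huv, mem_filter, mem_blocksF]; exact ⟨h₃, x₃, e₃⟩
  simp only [mem_insert, mem_singleton] at m₁ m₂ m₃
  rcases m₁ with rfl | rfl <;> rcases m₂ with rfl | rfl <;> rcases m₃ with rfl | rfl <;> simp

/-- Existence of the mate: the second point of the hyperoval on the line joining an exterior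
point to a point of the hyperoval. -/
theorem exists_mate {x h : α} (hx : x ∉ H) (hh : h ∈ H) :
    ∃ k, k ∈ H ∧ k ≠ h ∧ k ∈ P.ln x h := by
  have hxh : x ≠ h := fun e => hx (e ▸ hh)
  have h2 := P.oval_through hH hh (P.ln_mem hxh) (P.right_mem_ln hxh)
  have h1 : ((P.ln x h ∩ H).erase h).card = 1 := by
    rw [card_erase_of_mem (mem_inter.mpr ⟨P.right_mem_ln hxh, hh⟩), h2]
  obtain ⟨k, hk⟩ := card_eq_one.mp h1
  have : k ∈ (P.ln x h ∩ H).erase h := by rw [hk]; exact mem_singleton_self k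
  rw [mem_erase, mem_inter] at this
  exact ⟨k, this.2.2, this.1, this.2.1⟩

theorem mate_unique' {x h k k' : α} (hx : x ∉ H) (hh : h ∈ H)
    (hk : k ∈ H ∧ k ≠ h ∧ k ∈ P.ln x h) (hk' : k' ∈ H ∧ k' ≠ h ∧ k' ∈ P.ln x h) : k = k' := by
  have hxh : x ≠ h := fun e => hx (e ▸ hh)
  have h2 := P.oval_through hH hh (P.ln_mem hxh) (P.right_mem_ln hxh)
  have h1 : ((P.ln x h ∩ H).erase h).card ≤ 1 := by
    rw [card_erase_of_mem (mem_inter.mpr ⟨P.right_mem_ln hxh, hh⟩), h2]
  rw [card_le_one] at h1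
  apply h1
  · rw [mem_erase, mem_inter]; exact ⟨hk.2.1, hk.2.2, hk.1⟩
  · rw [mem_erase, mem_inter]; exact ⟨hk'.2.1, hk'.2.2, hk'.1⟩

end IsPlane

open Classical in
/-- The mate of `h ∈ H` with respect to the exterior point `x`. -/
noncomputable def mate {L : Set (Finset α)} (P : IsPlane L) (H : Finset α) (x h : α) : α :=
  if hk : ∃ k, k ∈ H ∧ k ≠ h ∧ k ∈ P.ln x h then Classical.choose hk else h

namespace IsPlane

variable {L : Set (Finset α)} (P : IsPlane L) {H : Finset α} (hH : IsOval L H)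
include hH

theorem mate_spec {x h : α} (hx : x ∉ H) (hh : h ∈ H) :
    mate P H x h ∈ H ∧ mate P H x h ≠ h ∧ mate P H x h ∈ P.ln x h := by
  unfold mate
  rw [dif_pos (P.exists_mate hH hx hh)]
  exact Classical.choose_spec (P.exists_mate hH hx hh)

theorem mate_eq {x h k : α} (hx : x ∉ H) (hh : h ∈ H) (hk : k ∈ H) (hkh : k ≠ h)
    (hkl : k ∈ P.ln x h) : mate P H x h = k :=
  P.mate_unique' hH hx hh (P.mate_spec hH hx hh) ⟨hk, hkh, hkl⟩

theorem mate_mate {x h : α} (hx : x ∉ H) (hh : h ∈ H) : mate P H x (mate P H x h) = h := by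
  obtain ⟨h1, h2, h3⟩ := P.mate_spec hH hx hh
  have hxh : x ≠ h := fun e => hx (e ▸ hh)
  have hxk : x ≠ mate P H x h := fun e => hx (e ▸ h1)
  apply P.mate_eq hH hx h1 hh h2.symm
  rw [P.ln_eq_of_mem hxh hxk h3]
  exact P.right_mem_ln hxh

/-- The line joining an exterior point `x` to `h ∈ H` is the line through `h` and its mate. -/
theorem ln_mate {x h : α} (hx : x ∉ H) (hh : h ∈ H) :
    P.ln x h = P.ln h (mate P H x h) := by
  obtain ⟨h1, h2, h3⟩ := P.mate_spec hH hx hh
  have hxh : x ≠ h := fun e => hx (e ▸ hh)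
  exact P.eq_ln (P.ln_mem hxh) h2.symm (P.right_mem_ln hxh) h3

/-- Exterior points with the same mate map coincide. -/
theorem mate_inj {x y : α} (hx : x ∉ H) (hy : y ∉ H)
    (h : ∀ k ∈ H, mate P H x k = mate P H y k) : x = y := by
  by_contra hxy
  have hsub : H ⊆ P.ln x y := by
    intro k hk
    have hxk : x ≠ k := fun e => hx (e ▸ hk)
    have hyk : y ≠ k := fun e => hy (e ▸ hk)
    have e1 := P.ln_mate hH hx hk
    have e2 := P.ln_mate hH hy hk
    rw [h k hk, ← e2] at e1
    have hy' : y ∈ P.ln x k := by rw [e1]; exact P.left_mem_ln hyk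
    rw [P.ln_eq_of_mem hxk hxy hy']
    exact P.right_mem_ln hxk
  have h2 := hH.2 _ (P.ln_mem hxy)
  rw [inter_eq_right.mpr hsub, hH.1] at h2
  omega

/-- Two distinct exterior points whose join is a secant share a mate. -/
theorem mate_eq_of_secant {x y h : α} (hx : x ∉ H) (hy : y ∉ H) (hxy : x ≠ y) (hh : h ∈ H)
    (hl : h ∈ P.ln x y) : mate P H x h = mate P H y h := by
  have hxh : x ≠ h := fun e => hx (e ▸ hh)
  have hyh : y ≠ h := fun e => hy (e ▸ hh)
  have e1 : P.ln x h = P.ln x y := P.ln_eq_of_mem hxy hxh hl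
  have e2 : P.ln y h = P.ln x y := by
    rw [P.ln_comm hxy]
    exact P.ln_eq_of_mem hxy.symm hyh (by rw [← P.ln_comm hxy]; exact hl)
  obtain ⟨h1, h2, h3⟩ := P.mate_spec hH hy hh
  apply P.mate_eq hH hx hh h1 h2
  rw [e1, ← e2]; exact h3

/-- If two distinct exterior points share a mate at some point, their join is a secant
through that point. -/
theorem secant_of_mate_eq {x y h : α} (hx : x ∉ H) (hy : y ∉ H) (hxy : x ≠ y) (hh : h ∈ H)
    (he : mate P H x h = mate P H y h) : h ∈ P.ln x y := by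
  have hxh : x ≠ h := fun e => hx (e ▸ hh)
  have hyh : y ≠ h := fun e => hy (e ▸ hh)
  have e1 := P.ln_mate hH hx hh
  have e2 := P.ln_mate hH hy hh
  rw [he, ← e2] at e1
  have hy' : y ∈ P.ln x h := by rw [e1]; exact P.left_mem_ln hyh
  rw [P.ln_eq_of_mem hxh hxy hy']
  exact P.right_mem_ln hxh

/-- The join of two distinct exterior points with everywhere different mates is external. -/
theorem external_of_mate_ne {x y : α} (hx : x ∉ H) (hy : y ∉ H) (hxy : x ≠ y)
    (hne : ∀ h ∈ H, mate P H x h ≠ mate P H y h) : P.ln x y ∩ H = ∅ := by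
  rw [eq_empty_iff_forall_notMem]
  intro h hh
  rw [mem_inter] at hh
  exact hne h hh.2 (P.mate_eq_of_secant hH hx hy hxy hh.2 hh.1)

/-- A set of at least four... precisely: a 5-set of exterior points with pairwise everywhere
different mates is a line. -/
theorem line_of_mate_ne {T : Finset α} (hT : T.card = 5) (hTH : ∀ x ∈ T, x ∉ H)
    (hne : ∀ x ∈ T, ∀ y ∈ T, x ≠ y → ∀ h ∈ H, mate P H x h ≠ mate P H y h) : T ∈ L := by
  have hext : ∀ x ∈ T, ∀ y ∈ T, x ≠ y → P.ln x y ∩ H = ∅ := fun x hx y hy hxy =>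
    P.external_of_mate_ne hH (hTH x hx) (hTH y hy) hxy (hne x hx y hy hxy)
  obtain ⟨x, y, hxy, hxyT⟩ : ∃ x y, x ≠ y ∧ {x, y} ⊆ T := by
    obtain ⟨s, hs, hs2⟩ := exists_subset_card_eq (show 2 ≤ T.card by omega)
    obtain ⟨x, y, hxy, rfl⟩ := card_eq_two.mp hs2
    exact ⟨x, y, hxy, hs⟩
  have hxT : x ∈ T := hxyT (by simp)
  have hyT : y ∈ T := hxyT (by simp)
  have hsub : T ⊆ P.ln x y := by
    intro z hzT
    by_contra hz
    have hzx : z ≠ x := fun e => hz (by rw [e]; exact P.left_mem_ln hxy)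
    have hzy : z ≠ y := fun e => hz (by rw [e]; exact P.right_mem_ln hxy)
    -- a fourth point
    obtain ⟨w, hwT, hw⟩ : ∃ w ∈ T, w ∉ ({x, y, z} : Finset α) := by
      by_contra hcon
      push Not at hcon
      have : T ⊆ {x, y, z} := hcon
      have := card_le_card this
      have h3 : ({x, y, z} : Finset α).card ≤ 3 := card_le_three
      omega
    simp only [mem_insert, mem_singleton, not_or] at hw
    obtain ⟨hwx, hwy, hwz⟩ := hw
    have hwx : w ≠ x := hwx
    have hwy : w ≠ y := hwy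
    have hwz : w ≠ z := hwz
    have hzH := hTH z hzT
    have hxH := hTH x hxT
    have hyH := hTH y hyT
    have hwH := hTH w hwT
    -- key: w ∈ ln z x → False, and symmetric
    have key : ∀ x y : α, x ∈ T → y ∈ T → x ≠ y → z ∉ P.ln x y → z ≠ x → z ≠ y → w ≠ x → w ≠ y →
        w ∈ P.ln z x → False := by
      intro x y hxT hyT hxy hz hzx hzy hwx hwy hwzx
      have hxH := hTH x hxT
      have hyH := hTH y hyT
      -- w ∉ ln x y
      have hwm : w ∉ P.ln x y := by
        intro hwm
        have : w = x := P.eq_of_mem_inter (P.ln_mem hzx) (P.ln_mem hxy)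
          (fun e => hz (e ▸ P.left_mem_ln hzx)) hwzx hwm (P.right_mem_ln hzx) (P.left_mem_ln hxy)
        exact hwx this
      -- external lines through y: ln y x, ln y z, ln y w
      have h3 := P.external_three hH hyH (P.ln_mem hxy.symm) (P.ln_mem hzy.symm)
        (P.ln_mem hwy.symm) (P.left_mem_ln hxy.symm) (P.left_mem_ln hzy.symm)
        (P.left_mem_ln hwy.symm)
        (hext y hyT x hxT hxy.symm) (hext y hyT z hzT hzy.symm) (hext y hyT w hwT hwy.symm)
      rcases h3 with h | h | h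
      · apply hz
        rw [P.ln_comm hxy, h]; exact P.right_mem_ln hzy.symm
      · apply hwm
        rw [P.ln_comm hxy, h]; exact P.right_mem_ln hwy.symm
      · -- w ∈ ln y z ∩ ln z x = {z}
        have hw1 : w ∈ P.ln y z := by rw [h]; exact P.right_mem_ln hwy.symm
        have hne' : P.ln y z ≠ P.ln z x := by
          intro e
          apply hz
          have hx1 : x ∈ P.ln y z := by rw [e]; exact P.right_mem_ln hzx
          rw [P.ln_comm hxy]
          exact P.mem_ln_swap hzy.symm hxy.symm hx1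
        exact hwz (P.eq_of_mem_inter (P.ln_mem hzy.symm) (P.ln_mem hzx) hne' hw1 hwzx
          (P.right_mem_ln hzy.symm) (P.left_mem_ln hzx))
    -- external lines through z: ln z x, ln z y, ln z w
    have h3 := P.external_three hH hzH (P.ln_mem hzx) (P.ln_mem hzy) (P.ln_mem hwz.symm)
      (P.left_mem_ln hzx) (P.left_mem_ln hzy) (P.left_mem_ln hwz.symm)
      (hext z hzT x hxT hzx) (hext z hzT y hyT hzy) (hext z hzT w hwT hwz.symm)
    rcases h3 with h | h | h
    · apply hz
      have hy1 : y ∈ P.ln z x := by rw [h]; exact P.right_mem_ln hzy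
      exact P.mem_ln_rot hzx hxy hy1
    · exact key x y hxT hyT hxy hz hzx hzy hwx hwy (by rw [h]; exact P.right_mem_ln hwz.symm)
    · refine key y x hyT hxT hxy.symm ?_ hzy hzx hwy hwx (by rw [h]; exact P.right_mem_ln hwz.symm)
      rw [← P.ln_comm hxy]; exact hz
  have := eq_of_subset_of_card_le hsub (by rw [P.line_card (P.ln_mem hxy), hT])
  rw [this]; exact P.ln_mem hxy

end IsPlane

end Cfsg.Agent.Lib.H2.PG24
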