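import Mathlib
import Cfsg.Prelude.Def_Sporadic_a
import Cfsg.Agent.Lib.H2.PG24b

/-!
helper2 library: the projective plane of order 4, part (c): exterior points of a hyperoval
correspond to the fixed-point-free involutions of the hyperoval; any bijection between two
hyperovals (of two planes) extends uniquely to an isomorphism of the planes.
-/

set_option autoImplicit false
set_option linter.unusedSectionVars false

namespace Cfsg.Agent.Lib.H2.PG24

open Finset Cfsg.Agent.Lib.H28

/-- Fixed-point-free involutions of a type. -/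
def FPF (A : Type*) : Type _ := {τ : Equiv.Perm A // (∀ a, τ (τ a) = a) ∧ ∀ a, τ a ≠ a}

noncomputable instance instFintypeFPF (A : Type*) [Fintype A] [DecidableEq A] : Fintype (FPF A) := by
  unfold FPF; infer_instance

theorem fpf_congr_pred {A B : Type*} (e : A ≃ B) (τ : Equiv.Perm A) :
    ((∀ a, τ (τ a) = a) ∧ ∀ a, τ a ≠ a) ↔
      ((∀ b, e.permCongr τ (e.permCongr τ b) = b) ∧ ∀ b, e.permCongr τ b ≠ b) := by
  simp only [Equiv.permCongr_apply, Equiv.symm_apply_apply]
  constructor
  · rintro ⟨h1, h2⟩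
    refine ⟨fun b => ?_, fun b hb => ?_⟩
    · rw [h1, Equiv.apply_symm_apply]
    · apply h2 (e.symm b)
      have := congrArg e.symm hb
      simpa using this
  · rintro ⟨h1, h2⟩
    refine ⟨fun a => ?_, fun a ha => ?_⟩
    · have := h1 (e a)
      rw [Equiv.symm_apply_apply] at this
      exact e.injective this
    · apply h2 (e a)
      rw [Equiv.symm_apply_apply, ha]

/-- Transport of fixed-point-free involutions along an equivalence. -/
def FPF.congr {A B : Type*} (e : A ≃ B) : FPF A ≃ FPF B :=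
  Equiv.subtypeEquiv e.permCongr (fpf_congr_pred e)

theorem FPF.congr_apply {A B : Type*} (e : A ≃ B) (τ : FPF A) (b : B) :
    (FPF.congr e τ).1 b = e (τ.1 (e.symm b)) := rfl

set_option maxRecDepth 100000 in
theorem card_fpf_fin6 : Fintype.card (FPF (Fin 6)) = 15 := by
  have : Fintype.card {τ : Equiv.Perm (Fin 6) // (∀ a, τ (τ a) = a) ∧ ∀ a, τ a ≠ a} = 15 := by
    rw [Fintype.card_subtype]
    decide +kernel
  rw [← this]
  exact Fintype.card_congr (Equiv.refl _)

theorem card_fpf_six {A : Type*} [Fintype A] [DecidableEq A] (h : Fintype.card A = 6) :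
    Fintype.card (FPF A) = 15 := by
  rw [Fintype.card_congr (FPF.congr (Fintype.equivFinOfCardEq h)), card_fpf_fin6]

variable {α : Type*} [Fintype α] [DecidableEq α]

section one

variable {L : Set (Finset α)} (P : IsPlane L) {H : Finset α} (hH : IsOval L H)

/-- The fixed-point-free involution of the hyperoval attached to an exterior point. -/
noncomputable def synthOf (x : {x // x ∉ H}) : FPF {h // h ∈ H} :=
  ⟨Function.Involutive.toPerm
      (fun h => ⟨mate P H x h, (P.mate_spec hH x.2 h.2).1⟩)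
      (fun h => Subtype.ext (P.mate_mate hH x.2 h.2)),
    fun h => Subtype.ext (P.mate_mate hH x.2 h.2),
    fun h e => (P.mate_spec hH x.2 h.2).2.1 (congrArg Subtype.val e)⟩

theorem synthOf_apply (x : {x // x ∉ H}) (h : {h // h ∈ H}) :
    (((synthOf P hH x).1 h : {h // h ∈ H}) : α) = mate P H x h := rfl

theorem synthOf_injective : Function.Injective (synthOf P hH) := by
  intro x y hxy
  apply Subtype.ext
  apply P.mate_inj hH x.2 y.2
  intro k hk
  have := congrArg (fun τ : FPF {h // h ∈ H} => ((τ.1 ⟨k, hk⟩ : {h // h ∈ H}) : α)) hxy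
  simpa [synthOf_apply] using this

include P hH in
theorem card_exterior : Fintype.card {x // x ∉ H} = 15 := by
  rw [Fintype.card_subtype_compl, Fintype.card_coe, P.card, hH.1]

theorem synthOf_bijective : Function.Bijective (synthOf P hH) := by
  rw [Fintype.bijective_iff_injective_and_card]
  refine ⟨synthOf_injective P hH, ?_⟩
  rw [card_exterior P hH, card_fpf_six]
  rw [Fintype.card_coe, hH.1]

/-- Exterior points correspond bijectively to fixed-point-free involutions of the hyperoval. -/
noncomputable def synthEquiv : {x // x ∉ H} ≃ FPF {h // h ∈ H} :=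
  Equiv.ofBijective _ (synthOf_bijective P hH)

theorem synthEquiv_apply (x : {x // x ∉ H}) (h : {h // h ∈ H}) :
    (((synthEquiv P hH x).1 h : {h // h ∈ H}) : α) = mate P H x h := rfl

end one

section two

variable {β : Type*} [Fintype β] [DecidableEq β]
variable {L : Set (Finset α)} (P : IsPlane L) {H : Finset α} (hH : IsOval L H)
variable {L' : Set (Finset β)} (P' : IsPlane L') {H' : Finset β} (hH' : IsOval L' H')

include hH hH' in
/-- A bijection which matches the hyperovals and is compatible with the mate maps sends lines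
to lines. -/
theorem image_mem_of_mate (g : α ≃ β) (hg : ∀ a, a ∈ H ↔ g a ∈ H')
    (hm : ∀ x, x ∉ H → ∀ h ∈ H, mate P' H' (g x) (g h) = g (mate P H x h))
    {l : Finset α} (hl : l ∈ L) : l.image g ∈ L' := by
  have hcard : (l.image g).card = 5 := by
    rw [card_image_of_injective _ g.injective, P.line_card hl]
  rcases P.oval_inter_card hH hl with hemp | h2
  · -- external line
    apply P'.line_of_mate_ne hH' hcard
    · intro y hy
      rw [mem_image] at hy
      obtain ⟨x, hx, rfl⟩ := hy
      rw [← hg]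
      intro hxH
      have : x ∈ l ∩ H := mem_inter.mpr ⟨hx, hxH⟩
      rw [hemp] at this
      exact notMem_empty _ this
    · intro y hy y' hy' hyy' k hk
      rw [mem_image] at hy hy'
      obtain ⟨x, hx, rfl⟩ := hy
      obtain ⟨x', hx', rfl⟩ := hy'
      have hxx' : x ≠ x' := fun e => hyy' (by rw [e])
      have hxH : x ∉ H := fun hxH => by
        have : x ∈ l ∩ H := mem_inter.mpr ⟨hx, hxH⟩
        rw [hemp] at this
        exact notMem_empty _ this
      have hx'H : x' ∉ H := fun hxH => by
        have : x' ∈ l ∩ H := mem_inter.mpr ⟨hx', hxH⟩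
        rw [hemp] at this
        exact notMem_empty _ this
      obtain ⟨h, rfl⟩ := g.surjective k
      have hh : h ∈ H := (hg h).mpr hk
      rw [hm x hxH h hh, hm x' hx'H h hh]
      intro e
      have e' := g.injective e
      have hhl : h ∈ P.ln x x' := P.secant_of_mate_eq hH hxH hx'H hxx' hh e'
      rw [← P.eq_ln hl hxx' hx hx'] at hhl
      have : h ∈ l ∩ H := mem_inter.mpr ⟨hhl, hh⟩
      rw [hemp] at this
      exact notMem_empty _ this
  · -- secant
    obtain ⟨a, b, hab, hlab⟩ := card_eq_two.mp h2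
    have ha : a ∈ l ∩ H := by rw [hlab]; simp
    have hb : b ∈ l ∩ H := by rw [hlab]; simp
    rw [mem_inter] at ha hb
    have hgab : g a ≠ g b := fun e => hab (g.injective e)
    have hsub : l.image g ⊆ P'.ln (g a) (g b) := by
      intro y hy
      rw [mem_image] at hy
      obtain ⟨x, hx, rfl⟩ := hy
      by_cases hxH : x ∈ H
      · have : x ∈ l ∩ H := mem_inter.mpr ⟨hx, hxH⟩
        rw [hlab] at this
        simp only [mem_insert, mem_singleton] at this
        rcases this with rfl | rfl
        · exact P'.left_mem_ln hgab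
        · exact P'.right_mem_ln hgab
      · have hxa : x ≠ a := fun e => hxH (e ▸ ha.2)
        have hlx : l = P.ln x a := P.eq_ln hl hxa hx ha.1
        have hmate : mate P H x a = b :=
          P.mate_eq hH hxH ha.2 hb.2 hab.symm (by rw [← hlx]; exact hb.1)
        have h1 := hm x hxH a ha.2
        rw [hmate] at h1
        have hgx : g x ∉ H' := fun h => hxH ((hg x).mpr h)
        have h3 := (P'.mate_spec hH' hgx ((hg a).mp ha.2)).2.2
        rw [h1] at h3
        have hgxa : g x ≠ g a := fun e => hxa (g.injective e)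
        exact P'.mem_ln_rot hgxa hgab h3
    have := eq_of_subset_of_card_le hsub (by rw [P'.line_card (P'.ln_mem hgab), hcard])
    rw [this]
    exact P'.ln_mem hgab

include P P' in
/-- A bijection sending lines to lines carries the line set onto the line set. -/
theorem image_lines_eq (g : α ≃ β) (hg : ∀ l ∈ L, l.image g ∈ L') :
    (fun b : Finset α => b.image g) '' L = L' := by
  have hL : L = ↑(blocksF L) := by ext l; simp [mem_blocksF]
  have hL' : L' = ↑(blocksF L') := by ext l; simp [mem_blocksF]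
  have hsub : (fun b : Finset α => b.image g) '' L ⊆ L' := by
    rintro _ ⟨l, hl, rfl⟩
    exact hg l hl
  apply Set.eq_of_subset_of_ncard_le hsub
  · rw [Set.ncard_image_of_injective _ (Finset.image_injective g.injective)]
    rw [hL, hL', Set.ncard_coe_finset, Set.ncard_coe_finset, P.card_lines, P'.card_lines]

include hH hH' in
/-- A line-preserving bijection matching the hyperovals is compatible with the mate maps. -/
theorem mate_of_image_mem (g : α ≃ β) (hg : ∀ a, a ∈ H ↔ g a ∈ H')
    (hl : ∀ l ∈ L, l.image g ∈ L') {x h : α} (hx : x ∉ H) (hh : h ∈ H) :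
    mate P' H' (g x) (g h) = g (mate P H x h) := by
  obtain ⟨h1, h2, h3⟩ := P.mate_spec hH hx hh
  have hxh : x ≠ h := fun e => hx (e ▸ hh)
  have hgx : g x ∉ H' := fun h => hx ((hg x).mpr h)
  have hgxh : g x ≠ g h := fun e => hxh (g.injective e)
  apply P'.mate_eq hH' hgx ((hg h).mp hh) ((hg _).mp h1) (fun e => h2 (g.injective e))
  have := P'.eq_ln (hl _ (P.ln_mem hxh)) hgxh (mem_image_of_mem g (P.left_mem_ln hxh))
    (mem_image_of_mem g (P.right_mem_ln hxh))
  rw [← this]
  exact mem_image_of_mem g h3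

include P P' hH hH' in
/-- Two line-preserving bijections which agree on a hyperoval are equal. -/
theorem eq_of_eq_on_oval (g₁ g₂ : α ≃ β) (hg₁ : ∀ a, a ∈ H ↔ g₁ a ∈ H')
    (hl₁ : ∀ l ∈ L, l.image g₁ ∈ L') (hl₂ : ∀ l ∈ L, l.image g₂ ∈ L')
    (he : ∀ h ∈ H, g₁ h = g₂ h) : g₁ = g₂ := by
  have hg₂ : ∀ a, a ∈ H ↔ g₂ a ∈ H' := by
    have hfwd : ∀ a ∈ H, g₂ a ∈ H' := fun a ha => by rw [← he a ha]; exact (hg₁ a).mp ha
    have himg : H.image g₂ = H' := by
      apply eq_of_subset_of_card_le
      · intro y hy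
        rw [mem_image] at hy
        obtain ⟨a, ha, rfl⟩ := hy
        exact hfwd a ha
      · rw [card_image_of_injective _ g₂.injective, hH.1, hH'.1]
    intro a
    refine ⟨hfwd a, fun ha => ?_⟩
    rw [← himg, mem_image] at ha
    obtain ⟨a', ha', e⟩ := ha
    rw [← g₂.injective e]; exact ha'
  ext x
  by_cases hx : x ∈ H
  · exact he x hx
  · have h1 : g₁ x ∉ H' := fun h => hx ((hg₁ x).mpr h)
    have h2 : g₂ x ∉ H' := fun h => hx ((hg₂ x).mpr h)
    apply P'.mate_inj hH' h1 h2
    intro k hk
    obtain ⟨h, rfl⟩ := g₁.surjective k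
    have hh : h ∈ H := (hg₁ h).mpr hk
    rw [mate_of_image_mem P hH P' hH' g₁ hg₁ hl₁ hx hh]
    rw [he h hh, mate_of_image_mem P hH P' hH' g₂ hg₂ hl₂ hx hh, he _ (P.mate_spec hH hx hh).1]

/-- The extension of a bijection between hyperovals to a bijection between the planes. -/
noncomputable def extEquiv (e₀ : {h // h ∈ H} ≃ {h // h ∈ H'}) : α ≃ β :=
  ((Equiv.sumCompl (· ∈ H)).symm.trans
    (Equiv.sumCongr e₀
      (((synthEquiv P hH).trans (FPF.congr e₀)).trans (synthEquiv P' hH').symm))).trans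
    (Equiv.sumCompl (· ∈ H'))

theorem extEquiv_of_mem (e₀ : {h // h ∈ H} ≃ {h // h ∈ H'}) {a : α} (ha : a ∈ H) :
    extEquiv P hH P' hH' e₀ a = e₀ ⟨a, ha⟩ := by
  unfold extEquiv
  simp [Equiv.sumCompl_symm_apply_of_pos (p := (· ∈ H)) ha]

theorem extEquiv_of_notMem (e₀ : {h // h ∈ H} ≃ {h // h ∈ H'}) {a : α} (ha : a ∉ H) :
    extEquiv P hH P' hH' e₀ a =
      ((synthEquiv P' hH').symm (FPF.congr e₀ (synthEquiv P hH ⟨a, ha⟩)) : β) := by
  unfold extEquiv
  simp [Equiv.sumCompl_symm_apply_of_neg (p := (· ∈ H)) ha]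

theorem extEquiv_mem_iff (e₀ : {h // h ∈ H} ≃ {h // h ∈ H'}) (a : α) :
    a ∈ H ↔ extEquiv P hH P' hH' e₀ a ∈ H' := by
  by_cases ha : a ∈ H
  · rw [extEquiv_of_mem P hH P' hH' e₀ ha]
    exact ⟨fun _ => (e₀ ⟨a, ha⟩).2, fun _ => ha⟩
  · rw [extEquiv_of_notMem P hH P' hH' e₀ ha]
    exact ⟨fun h => absurd h ha, fun h => absurd h
      ((synthEquiv P' hH').symm (FPF.congr e₀ (synthEquiv P hH ⟨a, ha⟩))).2⟩

theorem extEquiv_mate (e₀ : {h // h ∈ H} ≃ {h // h ∈ H'}) {x h : α} (hx : x ∉ H) (hh : h ∈ H) :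
    mate P' H' (extEquiv P hH P' hH' e₀ x) (extEquiv P hH P' hH' e₀ h)
      = extEquiv P hH P' hH' e₀ (mate P H x h) := by
  rw [extEquiv_of_mem P hH P' hH' e₀ hh, extEquiv_of_mem P hH P' hH' e₀ (P.mate_spec hH hx hh).1,
    extEquiv_of_notMem P hH P' hH' e₀ hx]
  set y := (synthEquiv P' hH').symm (FPF.congr e₀ (synthEquiv P hH ⟨x, hx⟩)) with hy
  have h1 : synthEquiv P' hH' y = FPF.congr e₀ (synthEquiv P hH ⟨x, hx⟩) := by
    rw [hy, Equiv.apply_symm_apply]
  have h2 := synthEquiv_apply P' hH' y (e₀ ⟨h, hh⟩)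
  rw [← h2, h1, FPF.congr_apply, Equiv.symm_apply_apply]
  congr 2

include P hH P' hH' in
/-- Extension theorem: a bijection between hyperovals of two planes of order 4 extends to an
isomorphism of the planes. -/
theorem exists_ext (e₀ : {h // h ∈ H} ≃ {h // h ∈ H'}) :
    ∃ g : α ≃ β, (fun b : Finset α => b.image g) '' L = L' ∧
      (∀ a, a ∈ H ↔ g a ∈ H') ∧ ∀ h : {h // h ∈ H}, g h = e₀ h := by
  refine ⟨extEquiv P hH P' hH' e₀, ?_, extEquiv_mem_iff P hH P' hH' e₀, ?_⟩
  · apply image_lines_eq P P'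
    intro l hl
    exact image_mem_of_mate P hH P' hH' _ (extEquiv_mem_iff P hH P' hH' e₀)
      (fun x hx h hh => extEquiv_mate P hH P' hH' e₀ hx hh) hl
  · intro h
    exact extEquiv_of_mem P hH P' hH' e₀ h.2

end two

end Cfsg.Agent.Lib.H2.PG24
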