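import Mathlib
import Cfsg.Prelude.Def_Sporadic_a
import Cfsg.Agent.Lib.H2.PG24b

/-!
helper2 library: the projective plane of order 4, part (d): arcs, free points of an arc,
tangent lines, the hyperoval through a 4-arc.
-/

set_option autoImplicit false
set_option linter.unusedSectionVars false

namespace Cfsg.Agent.Lib.H2.PG24

open Finset Cfsg.Agent.Lib.H28

variable {α : Type*} [Fintype α] [DecidableEq α]

/-- An arc: no three points on a line. -/
def IsArc (L : Set (Finset α)) (K : Finset α) : Prop := ∀ l ∈ L, (l ∩ K).card ≤ 2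

theorem IsArc.subset {L : Set (Finset α)} {K K' : Finset α} (h : IsArc L K) (hs : K' ⊆ K) :
    IsArc L K' :=
  fun l hl => (card_le_card (inter_subset_inter (subset_refl _) hs)).trans (h l hl)

theorem isArc_of_card_le_two {L : Set (Finset α)} {K : Finset α} (h : K.card ≤ 2) : IsArc L K :=
  fun _ _ => (card_le_card inter_subset_right).trans h

open Classical in
/-- The free points of an arc: the points which extend it to a larger arc. -/
noncomputable def free (L : Set (Finset α)) (K : Finset α) : Finset α :=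
  univ.filter (fun x => x ∉ K ∧ IsArc L (insert x K))

theorem mem_free {L : Set (Finset α)} {K : Finset α} {x : α} :
    x ∈ free L K ↔ x ∉ K ∧ IsArc L (insert x K) := by
  unfold free; simp

namespace IsPlane

variable {L : Set (Finset α)} (P : IsPlane L) {K : Finset α} (hK : IsArc L K)
include P hK

theorem arc_notMem {a b c : α} (ha : a ∈ K) (hb : b ∈ K) (hc : c ∈ K) (hab : a ≠ b)
    (hca : c ≠ a) (hcb : c ≠ b) : c ∉ P.ln a b := by
  intro h
  have h1 := hK _ (P.ln_mem hab)
  have h2 : ({a, b, c} : Finset α) ⊆ P.ln a b ∩ K := by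
    intro x hx
    simp only [mem_insert, mem_singleton] at hx
    rcases hx with rfl | rfl | rfl
    · exact mem_inter.mpr ⟨P.left_mem_ln hab, ha⟩
    · exact mem_inter.mpr ⟨P.right_mem_ln hab, hb⟩
    · exact mem_inter.mpr ⟨h, hc⟩
  have h3 : ({a, b, c} : Finset α).card = 3 :=
    card_eq_three.mpr ⟨a, b, c, hab, hca.symm, hcb.symm, rfl⟩
  have := card_le_card h2
  omega

theorem insert_arc_iff {x : α} (hx : x ∉ K) :
    IsArc L (insert x K) ↔ ∀ a ∈ K, ∀ b ∈ K, a ≠ b → x ∉ P.ln a b := by
  constructor
  · intro h a ha b hb hab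
    have hxa : x ≠ a := fun e => hx (e ▸ ha)
    have hxb : x ≠ b := fun e => hx (e ▸ hb)
    exact P.arc_notMem h (mem_insert_of_mem ha) (mem_insert_of_mem hb) (mem_insert_self _ _) hab
      hxa hxb
  · intro h l hl
    by_cases hxl : x ∈ l
    · rw [inter_insert_of_mem hxl, card_insert_of_notMem (fun h' => hx (mem_inter.mp h').2)]
      by_contra hcon
      have h2 : 1 < (l ∩ K).card := by omega
      obtain ⟨a, ha, b, hb, hab⟩ := one_lt_card.mp h2
      rw [mem_inter] at ha hb
      apply h a ha.2 b hb.2 hab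
      rw [← P.eq_ln hl hab ha.1 hb.1]
      exact hxl
    · rw [inter_insert_of_notMem hxl]
      exact hK l hl

theorem free_notMem_ln {x a b : α} (hx : x ∈ free L K) (ha : a ∈ K) (hb : b ∈ K) (hab : a ≠ b) :
    x ∉ P.ln a b := by
  rw [mem_free] at hx
  exact (P.insert_arc_iff hK hx.1).mp hx.2 a ha b hb hab

/-- The number of tangent lines to an arc at one of its points. -/
theorem card_tangents {s : α} (hs : s ∈ K) :
    ((blocksF L).filter (fun l => s ∈ l ∧ l ∩ K = {s})).card + K.card = 6 := by
  have hsum := P.sum_through s (K.erase s) (notMem_erase s K)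
  rw [card_erase_of_mem hs] at hsum
  have hterm : ∀ l ∈ (blocksF L).filter (s ∈ ·),
      (l ∩ K.erase s).card = if l ∩ K = {s} then 0 else 1 := by
    intro l hl
    rw [mem_filter, mem_blocksF] at hl
    have hsl : s ∈ l ∩ K := mem_inter.mpr ⟨hl.2, hs⟩
    rw [inter_erase, card_erase_of_mem hsl]
    have h2 := hK l hl.1
    split_ifs with h
    · rw [h]; simp
    · have hpos : 0 < (l ∩ K).card := card_pos.mpr ⟨s, hsl⟩
      have : (l ∩ K).card ≠ 1 := by
        intro h1
        obtain ⟨t, ht⟩ := card_eq_one.mp h1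
        rw [ht, mem_singleton] at hsl
        exact h (by rw [ht, hsl])
      omega
  rw [sum_congr rfl hterm, sum_ite, sum_const_zero, zero_add, sum_const, smul_eq_mul, mul_one,
    filter_filter] at hsum
  have h5 := P.card_through s
  have hsplit := card_filter_add_card_filter_not (s := (blocksF L).filter (s ∈ ·))
    (fun l => l ∩ K = {s})
  rw [filter_filter, filter_filter, h5] at hsplit
  have hpos : 0 < K.card := card_pos.mpr ⟨s, hs⟩
  omega

/-- A line through `s ∈ K` which is not tangent contains no free point. -/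
theorem secant_inter_free {s : α} (hs : s ∈ K) {l : Finset α} (hl : l ∈ L) (hsl : s ∈ l)
    (hne : l ∩ K ≠ {s}) : l ∩ free L K = ∅ := by
  rw [eq_empty_iff_forall_notMem]
  intro x hx
  rw [mem_inter] at hx
  obtain ⟨b, hb, hbs⟩ : ∃ b ∈ l ∩ K, b ≠ s := by
    by_contra hcon
    push Not at hcon
    apply hne
    ext y
    rw [mem_singleton]
    exact ⟨fun hy => hcon y hy, fun hy => hy ▸ mem_inter.mpr ⟨hsl, hs⟩⟩
  rw [mem_inter] at hb
  apply P.free_notMem_ln hK hx.2 hs hb.2 hbs.symm
  rw [← P.eq_ln hl hbs.symm hsl hb.1]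
  exact hx.1

/-- If every tangent at `s` contains exactly `c` free points, the number of free points is
`c` times the number of tangents. -/
theorem card_free {s : α} (hs : s ∈ K) (c : ℕ)
    (hc : ∀ m ∈ L, m ∩ K = {s} → (m ∩ free L K).card = c) :
    (free L K).card = c * ((blocksF L).filter (fun l => s ∈ l ∧ l ∩ K = {s})).card := by
  have hsf : s ∉ free L K := fun h => (mem_free.mp h).1 hs
  rw [← P.sum_through s (free L K) hsf]
  have hterm : ∀ l ∈ (blocksF L).filter (s ∈ ·),
      (l ∩ free L K).card = if l ∩ K = {s} then c else 0 := by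
    intro l hl
    rw [mem_filter, mem_blocksF] at hl
    split_ifs with h
    · exact hc l hl.1 h
    · rw [P.secant_inter_free hK hs hl.1 hl.2 h, card_empty]
  rw [sum_congr rfl hterm, sum_ite, sum_const_zero, add_zero, sum_const, smul_eq_mul, filter_filter,
    mul_comm]

/-- Membership in (tangent ∩ free points). -/
theorem mem_tangent_inter_free {s : α} (hs : s ∈ K) {m : Finset α} (hm : m ∈ L)
    (hms : m ∩ K = {s}) {x : α} :
    x ∈ m ∩ free L K ↔ x ∈ m ∧ x ≠ s ∧
      ∀ a ∈ K.erase s, ∀ b ∈ K.erase s, a ≠ b → x ∉ P.ln a b := by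
  have hsm : s ∈ m := by
    have : s ∈ m ∩ K := by rw [hms]; exact mem_singleton_self s
    exact (mem_inter.mp this).1
  have hmK : ∀ y ∈ m, y ∈ K → y = s := by
    intro y hy hyK
    have : y ∈ m ∩ K := mem_inter.mpr ⟨hy, hyK⟩
    rw [hms, mem_singleton] at this
    exact this
  rw [mem_inter, mem_free]
  constructor
  · rintro ⟨hxm, hxK, harc⟩
    refine ⟨hxm, fun e => hxK (e ▸ hs), ?_⟩
    intro a ha b hb hab
    exact (P.insert_arc_iff hK hxK).mp harc a (mem_of_mem_erase ha) b (mem_of_mem_erase hb) hab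
  · rintro ⟨hxm, hxs, h⟩
    have hxK : x ∉ K := fun hxK => hxs (hmK x hxm hxK)
    refine ⟨hxm, hxK, (P.insert_arc_iff hK hxK).mpr ?_⟩
    intro a ha b hb hab
    by_cases has : a = s
    · subst has
      intro hx
      have hbm : b ∉ m := fun hbm => hab (hmK b hbm hb).symm
      have hne : m ≠ P.ln a b := fun e => hbm (e ▸ P.right_mem_ln hab)
      exact hxs (P.eq_of_mem_inter hm (P.ln_mem hab) hne hxm hx hsm (P.left_mem_ln hab))
    · by_cases hbs : b = s
      · subst hbs
        intro hx
        have ham : a ∉ m := fun ham => has (hmK a ham ha)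
        have hne : m ≠ P.ln a b := fun e => ham (e ▸ P.left_mem_ln hab)
        exact hxs (P.eq_of_mem_inter hm (P.ln_mem hab) hne hxm hx hsm (P.right_mem_ln hab))
      · exact h a (mem_erase.mpr ⟨has, ha⟩) b (mem_erase.mpr ⟨hbs, hb⟩) hab

end IsPlane

end Cfsg.Agent.Lib.H2.PG24
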