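import Mathlib
import Cfsg.Prelude.Def_Sporadic_a
import Cfsg.Agent.Lib.H2.PG24d

/-!
helper2 library: the projective plane of order 4, part (e): the number of free points of
2-, 3- and 4-arcs (16, 9, 2); every tangent of a 4-arc contains exactly one free point.
-/

set_option autoImplicit false
set_option linter.unusedSectionVars false

namespace Cfsg.Agent.Lib.H2.PG24

open Finset Cfsg.Agent.Lib.H28

variable {α : Type*} [Fintype α] [DecidableEq α]

namespace IsPlane

variable {L : Set (Finset α)} (P : IsPlane L) {K : Finset α} (hK : IsArc L K)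
include P hK

/-- A tangent at `s` meets the secant through two other points of the arc in a single point,
different from `s`. -/
theorem tangent_meet {s : α} (hs : s ∈ K) {m : Finset α} (hm : m ∈ L) (hms : m ∩ K = {s})
    {b c : α} (hb : b ∈ K) (hc : c ∈ K) (hbs : b ≠ s) (hcs : c ≠ s) (hbc : b ≠ c) :
    ∃ p, m ∩ P.ln b c = {p} ∧ p ≠ s := by
  have hbm : b ∉ m := by
    intro hbm
    have : b ∈ m ∩ K := mem_inter.mpr ⟨hbm, hb⟩
    rw [hms, mem_singleton] at this
    exact hbs this
  have hne : m ≠ P.ln b c := fun e => hbm (e ▸ P.left_mem_ln hbc)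
  obtain ⟨p, hp⟩ := P.exists_inter hm (P.ln_mem hbc) hne
  refine ⟨p, hp, ?_⟩
  rintro rfl
  have : p ∈ m ∩ P.ln b c := by rw [hp]; exact mem_singleton_self p
  exact P.arc_notMem hK hb hc hs hbc hbs.symm hcs.symm (mem_inter.mp this).2

/-- The meeting points of a tangent with two different secants through a common point of the arc
are different. -/
theorem tangent_meet_ne {s : α} {m : Finset α} (hms : m ∩ K = {s})
    {u v w : α} (hu : u ∈ K) (hv : v ∈ K) (hw : w ∈ K) (hus : u ≠ s)
    (huv : u ≠ v) (huw : u ≠ w) (hvw : v ≠ w) {p : α} (hpm : p ∈ m)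
    (h1 : p ∈ P.ln u v) (h2 : p ∈ P.ln u w) : False := by
  have hne : P.ln u v ≠ P.ln u w := by
    intro e
    exact P.arc_notMem hK hu hv hw huv huw.symm hvw.symm (e ▸ P.right_mem_ln huw)
  have hpu : p = u := P.eq_of_mem_inter (P.ln_mem huv) (P.ln_mem huw) hne h1 h2
    (P.left_mem_ln huv) (P.left_mem_ln huw)
  have : u ∈ m ∩ K := mem_inter.mpr ⟨hpu ▸ hpm, hu⟩
  rw [hms, mem_singleton] at this
  exact hus this

theorem tangent_free_two (hK2 : K.card = 2) {s : α} (hs : s ∈ K) {m : Finset α} (hm : m ∈ L)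
    (hms : m ∩ K = {s}) : (m ∩ free L K).card = 4 := by
  have h1 : (K.erase s).card = 1 := by rw [card_erase_of_mem hs, hK2]
  obtain ⟨b, hb⟩ := card_eq_one.mp h1
  have hsm : s ∈ m := by
    have : s ∈ m ∩ K := by rw [hms]; exact mem_singleton_self s
    exact (mem_inter.mp this).1
  have : m ∩ free L K = m.erase s := by
    ext x
    rw [P.mem_tangent_inter_free hK hs hm hms, mem_erase, hb]
    constructor
    · rintro ⟨h1, h2, -⟩; exact ⟨h2, h1⟩
    · rintro ⟨h1, h2⟩
      refine ⟨h2, h1, ?_⟩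
      intro a ha b' hb' hab
      rw [mem_singleton] at ha hb'
      exact absurd (ha.trans hb'.symm) hab
  rw [this, card_erase_of_mem hsm, P.line_card hm]

theorem tangent_free_three (hK3 : K.card = 3) {s : α} (hs : s ∈ K) {m : Finset α} (hm : m ∈ L)
    (hms : m ∩ K = {s}) : (m ∩ free L K).card = 3 := by
  have h2 : (K.erase s).card = 2 := by rw [card_erase_of_mem hs, hK3]
  obtain ⟨b, c, hbc, hK0⟩ := card_eq_two.mp h2
  have hb : b ∈ K.erase s := by rw [hK0]; simp
  have hc : c ∈ K.erase s := by rw [hK0]; simp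
  have hsm : s ∈ m := by
    have : s ∈ m ∩ K := by rw [hms]; exact mem_singleton_self s
    exact (mem_inter.mp this).1
  obtain ⟨p, hp, hps⟩ := P.tangent_meet hK hs hm hms (mem_of_mem_erase hb) (mem_of_mem_erase hc)
    (ne_of_mem_erase hb) (ne_of_mem_erase hc) hbc
  have hpm : p ∈ m := by
    have : p ∈ m ∩ P.ln b c := by rw [hp]; exact mem_singleton_self p
    exact (mem_inter.mp this).1
  have : m ∩ free L K = (m.erase s).erase p := by
    ext x
    rw [P.mem_tangent_inter_free hK hs hm hms, mem_erase, mem_erase, hK0]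
    have hxp : x ∈ m → (x ∈ P.ln b c ↔ x = p) := by
      intro hxm
      rw [← mem_singleton, ← hp, mem_inter]
      exact ⟨fun h => ⟨hxm, h⟩, fun h => h.2⟩
    constructor
    · rintro ⟨h1, h2, h3⟩
      refine ⟨fun e => ?_, h2, h1⟩
      exact h3 b (by simp) c (by simp) hbc ((hxp h1).mpr e)
    · rintro ⟨h1, h2, h3⟩
      refine ⟨h3, h2, ?_⟩
      intro a ha b' hb' hab
      simp only [mem_insert, mem_singleton] at ha hb'
      rcases ha with rfl | rfl <;> rcases hb' with rfl | rfl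
      · exact absurd rfl hab
      · exact fun h => h1 ((hxp h3).mp h)
      · rw [P.ln_comm hab]; exact fun h => h1 ((hxp h3).mp h)
      · exact absurd rfl hab
  rw [this, card_erase_of_mem (mem_erase.mpr ⟨hps, hpm⟩), card_erase_of_mem hsm, P.line_card hm]

theorem tangent_free_four (hK4 : K.card = 4) {s : α} (hs : s ∈ K) {m : Finset α} (hm : m ∈ L)
    (hms : m ∩ K = {s}) : (m ∩ free L K).card = 1 := by
  have h3 : (K.erase s).card = 3 := by rw [card_erase_of_mem hs, hK4]
  obtain ⟨b, c, d, hbc, hbd, hcd, hK0⟩ := card_eq_three.mp h3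
  have hb : b ∈ K.erase s := by rw [hK0]; simp
  have hc : c ∈ K.erase s := by rw [hK0]; simp
  have hd : d ∈ K.erase s := by rw [hK0]; simp
  have hbK := mem_of_mem_erase hb
  have hcK := mem_of_mem_erase hc
  have hdK := mem_of_mem_erase hd
  have hbs := ne_of_mem_erase hb
  have hcs := ne_of_mem_erase hc
  have hds := ne_of_mem_erase hd
  have hsm : s ∈ m := by
    have : s ∈ m ∩ K := by rw [hms]; exact mem_singleton_self s
    exact (mem_inter.mp this).1
  obtain ⟨p₁, hp₁, hp₁s⟩ := P.tangent_meet hK hs hm hms hbK hcK hbs hcs hbc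
  obtain ⟨p₂, hp₂, hp₂s⟩ := P.tangent_meet hK hs hm hms hbK hdK hbs hds hbd
  obtain ⟨p₃, hp₃, hp₃s⟩ := P.tangent_meet hK hs hm hms hcK hdK hcs hds hcd
  have mem₁ : p₁ ∈ m ∧ p₁ ∈ P.ln b c := by
    have : p₁ ∈ m ∩ P.ln b c := by rw [hp₁]; exact mem_singleton_self _
    exact mem_inter.mp this
  have mem₂ : p₂ ∈ m ∧ p₂ ∈ P.ln b d := by
    have : p₂ ∈ m ∩ P.ln b d := by rw [hp₂]; exact mem_singleton_self _
    exact mem_inter.mp this
  have mem₃ : p₃ ∈ m ∧ p₃ ∈ P.ln c d := by
    have : p₃ ∈ m ∩ P.ln c d := by rw [hp₃]; exact mem_singleton_self _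
    exact mem_inter.mp this
  have h12 : p₁ ≠ p₂ := by
    intro e
    exact P.tangent_meet_ne hK hms hbK hcK hdK hbs hbc hbd hcd mem₁.1 mem₁.2 (e ▸ mem₂.2)
  have h13 : p₁ ≠ p₃ := by
    intro e
    refine P.tangent_meet_ne hK hms hcK hbK hdK hcs hbc.symm hcd hbd mem₁.1 ?_ (e ▸ mem₃.2)
    rw [← P.ln_comm hbc]; exact mem₁.2
  have h23 : p₂ ≠ p₃ := by
    intro e
    refine P.tangent_meet_ne hK hms hdK hbK hcK hds hbd.symm hcd.symm hbc mem₂.1 ?_ ?_
    · rw [← P.ln_comm hbd]; exact mem₂.2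
    · rw [← P.ln_comm hcd, e]; exact mem₃.2
  have hx₁ : ∀ x, x ∈ m → (x ∈ P.ln b c ↔ x = p₁) := by
    intro x hxm
    rw [← mem_singleton, ← hp₁, mem_inter]
    exact ⟨fun h => ⟨hxm, h⟩, fun h => h.2⟩
  have hx₂ : ∀ x, x ∈ m → (x ∈ P.ln b d ↔ x = p₂) := by
    intro x hxm
    rw [← mem_singleton, ← hp₂, mem_inter]
    exact ⟨fun h => ⟨hxm, h⟩, fun h => h.2⟩
  have hx₃ : ∀ x, x ∈ m → (x ∈ P.ln c d ↔ x = p₃) := by
    intro x hxm
    rw [← mem_singleton, ← hp₃, mem_inter]
    exact ⟨fun h => ⟨hxm, h⟩, fun h => h.2⟩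
  have hT : ({s, p₁, p₂, p₃} : Finset α) ⊆ m := by
    intro x hx
    simp only [mem_insert, mem_singleton] at hx
    rcases hx with rfl | rfl | rfl | rfl
    · exact hsm
    · exact mem₁.1
    · exact mem₂.1
    · exact mem₃.1
  have hTc : ({s, p₁, p₂, p₃} : Finset α).card = 4 := by
    rw [card_insert_of_notMem, card_insert_of_notMem, card_insert_of_notMem, card_singleton]
    · simp [h23]
    · simp [h12, h13]
    · simp [hp₁s.symm, hp₂s.symm, hp₃s.symm]
  have : m ∩ free L K = m \ {s, p₁, p₂, p₃} := by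
    ext x
    rw [P.mem_tangent_inter_free hK hs hm hms, mem_sdiff, hK0]
    simp only [mem_insert, mem_singleton, not_or]
    constructor
    · rintro ⟨h1, h2, h3⟩
      refine ⟨h1, h2, fun e => ?_, fun e => ?_, fun e => ?_⟩
      · exact h3 b (Or.inl rfl) c (Or.inr (Or.inl rfl)) hbc ((hx₁ x h1).mpr e)
      · exact h3 b (Or.inl rfl) d (Or.inr (Or.inr rfl)) hbd ((hx₂ x h1).mpr e)
      · exact h3 c (Or.inr (Or.inl rfl)) d (Or.inr (Or.inr rfl)) hcd ((hx₃ x h1).mpr e)
    · rintro ⟨h1, h2, h3, h4, h5⟩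
      refine ⟨h1, h2, ?_⟩
      intro a ha b' hb' hab
      rcases ha with rfl | rfl | rfl <;> rcases hb' with rfl | rfl | rfl
      · exact absurd rfl hab
      · exact fun h => h3 ((hx₁ x h1).mp h)
      · exact fun h => h4 ((hx₂ x h1).mp h)
      · rw [P.ln_comm hab]; exact fun h => h3 ((hx₁ x h1).mp h)
      · exact absurd rfl hab
      · exact fun h => h5 ((hx₃ x h1).mp h)
      · rw [P.ln_comm hab]; exact fun h => h4 ((hx₂ x h1).mp h)
      · rw [P.ln_comm hab]; exact fun h => h5 ((hx₃ x h1).mp h)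
      · exact absurd rfl hab
  rw [this, card_sdiff_of_subset hT, hTc, P.line_card hm]

theorem card_free_two (hK2 : K.card = 2) : (free L K).card = 16 := by
  obtain ⟨s, hs⟩ : K.Nonempty := card_pos.mp (by omega)
  have ht := P.card_tangents hK hs
  rw [P.card_free hK hs 4 (fun m hm hms => P.tangent_free_two hK hK2 hs hm hms)]
  omega

theorem card_free_three (hK3 : K.card = 3) : (free L K).card = 9 := by
  obtain ⟨s, hs⟩ : K.Nonempty := card_pos.mp (by omega)
  have ht := P.card_tangents hK hs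
  rw [P.card_free hK hs 3 (fun m hm hms => P.tangent_free_three hK hK3 hs hm hms)]
  omega

theorem card_free_four (hK4 : K.card = 4) : (free L K).card = 2 := by
  obtain ⟨s, hs⟩ : K.Nonempty := card_pos.mp (by omega)
  have ht := P.card_tangents hK hs
  rw [P.card_free hK hs 1 (fun m hm hms => P.tangent_free_four hK hK4 hs hm hms)]
  omega

end IsPlane

end Cfsg.Agent.Lib.H2.PG24
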