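import Mathlib
import Cfsg.Prelude.Def_Sporadic_a
import Cfsg.Agent.Lib.H2.PG24e

/-!
helper2 library: the projective plane of order 4, part (f): the unique hyperoval through a
4-arc, and the numbers of 2-, 3-, 4-arcs and hyperovals (210, 1120, 2520, 168).
-/

set_option autoImplicit false
set_option linter.unusedSectionVars false

namespace Cfsg.Agent.Lib.H2.PG24

open Finset Cfsg.Agent.Lib.H28

variable {α : Type*} [Fintype α] [DecidableEq α]

open Classical in
/-- The `k`-arcs of the plane. -/
noncomputable def arcs (L : Set (Finset α)) (k : ℕ) : Finset (Finset α) :=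
  (powersetCard k univ).filter (IsArc L)

theorem mem_arcs {L : Set (Finset α)} {k : ℕ} {K : Finset α} :
    K ∈ arcs L k ↔ K.card = k ∧ IsArc L K := by
  unfold arcs
  simp [mem_powersetCard]

namespace IsPlane

variable {L : Set (Finset α)} (P : IsPlane L)
include P

theorem disjoint_free (K : Finset α) : Disjoint K (free L K) := by
  rw [disjoint_left]
  intro x hx hx'
  exact (mem_free.mp hx').1 hx

/-- The hyperoval through a 4-arc. -/
theorem oval_of_four {K : Finset α} (hK : IsArc L K) (hK4 : K.card = 4) :
    IsOval L (K ∪ free L K) := by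
  have hF := P.card_free_four hK hK4
  refine ⟨by rw [card_union_of_disjoint (P.disjoint_free K), hK4, hF], ?_⟩
  intro l hl
  rw [inter_union_distrib_left]
  have hle := card_union_le (l ∩ K) (l ∩ free L K)
  have h2 := hK l hl
  have hF2 : (l ∩ free L K).card ≤ 2 := hF ▸ card_le_card inter_subset_right
  rcases Nat.lt_or_ge (l ∩ K).card 1 with h0 | h1
  · omega
  rcases Nat.lt_or_ge (l ∩ K).card 2 with h1' | h2'
  · -- tangent
    have hone : (l ∩ K).card = 1 := by omega
    obtain ⟨s, hs⟩ := card_eq_one.mp hone
    have hsK : s ∈ K := by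
      have : s ∈ l ∩ K := by rw [hs]; exact mem_singleton_self s
      exact (mem_inter.mp this).2
    have := P.tangent_free_four hK hK4 hsK hl hs
    omega
  · -- secant
    have h2'' : 1 < (l ∩ K).card := by omega
    obtain ⟨a, ha, b, hb, hab⟩ := one_lt_card.mp h2''
    rw [mem_inter] at ha hb
    have hemp : l ∩ free L K = ∅ := by
      rw [eq_empty_iff_forall_notMem]
      intro x hx
      rw [mem_inter] at hx
      apply P.free_notMem_ln hK hx.2 ha.2 hb.2 hab
      rw [← P.eq_ln hl hab ha.1 hb.1]
      exact hx.1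
    rw [hemp, union_empty]
    exact h2

/-- Uniqueness of the hyperoval through a 4-arc. -/
theorem oval_unique {K : Finset α} (hK : IsArc L K) (hK4 : K.card = 4) {H : Finset α}
    (hH : IsOval L H) (hKH : K ⊆ H) : H = K ∪ free L K := by
  have hsub : H \ K ⊆ free L K := by
    intro x hx
    rw [mem_sdiff] at hx
    rw [mem_free]
    refine ⟨hx.2, IsArc.subset hH.2 ?_⟩
    intro y hy
    rw [mem_insert] at hy
    rcases hy with rfl | hy
    · exact hx.1
    · exact hKH hy
  have hc : (H \ K).card = 2 := by rw [card_sdiff_of_subset hKH, hH.1, hK4]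
  have := eq_of_subset_of_card_le hsub (by rw [P.card_free_four hK hK4, hc])
  rw [← this, union_sdiff_of_subset hKH]

/-- Double counting between `k`-arcs and `(k+1)`-arcs. -/
theorem card_arcs_succ (k c : ℕ) (hc : ∀ K ∈ arcs L k, (free L K).card = c) :
    (k + 1) * (arcs L (k + 1)).card = c * (arcs L k).card := by
  have hdc := sum_card_bipartiteAbove_eq_sum_card_bipartiteBelow (s := arcs L k)
    (t := arcs L (k + 1)) (r := fun (K S : Finset α) => K ⊆ S)
  have hleft : ∀ K ∈ arcs L k,
      ((arcs L (k + 1)).bipartiteAbove (fun (K S : Finset α) => K ⊆ S) K).card = c := by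
    intro K hKm
    rw [← hc K hKm]
    have hK := mem_arcs.mp hKm
    symm
    apply card_bij (fun x _ => insert x K)
    · intro x hx
      rw [mem_free] at hx
      simp only [bipartiteAbove, mem_filter, mem_arcs]
      exact ⟨⟨by rw [card_insert_of_notMem hx.1, hK.1], hx.2⟩, subset_insert _ _⟩
    · intro x hx y hy hxy
      rw [mem_free] at hx hy
      have : x ∈ insert y K := hxy ▸ mem_insert_self x K
      rw [mem_insert] at this
      rcases this with h | h
      · exact h
      · exact absurd h hx.1
    · intro S hS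
      simp only [bipartiteAbove, mem_filter, mem_arcs] at hS
      obtain ⟨⟨hS1, hS2⟩, hKS⟩ := hS
      have h1 : (S \ K).card = 1 := by rw [card_sdiff_of_subset hKS, hS1, hK.1]; omega
      obtain ⟨x, hx⟩ := card_eq_one.mp h1
      have hxS : x ∈ S \ K := by rw [hx]; exact mem_singleton_self x
      rw [mem_sdiff] at hxS
      have hSe : insert x K = S := by
        rw [← union_sdiff_of_subset hKS, hx, union_comm]; rfl
      exact ⟨x, mem_free.mpr ⟨hxS.2, hSe ▸ hS2⟩, hSe⟩
  have hright : ∀ S ∈ arcs L (k + 1),
      ((arcs L k).bipartiteBelow (fun (K S : Finset α) => K ⊆ S) S).card = k + 1 := by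
    intro S hSm
    have hS := mem_arcs.mp hSm
    have : (arcs L k).bipartiteBelow (fun (K S : Finset α) => K ⊆ S) S = powersetCard k S := by
      ext K
      simp only [bipartiteBelow, mem_filter, mem_arcs, mem_powersetCard]
      constructor
      · rintro ⟨⟨h1, -⟩, h2⟩; exact ⟨h2, h1⟩
      · rintro ⟨h1, h2⟩; exact ⟨⟨h2, IsArc.subset hS.2 h1⟩, h1⟩
    rw [this, card_powersetCard, hS.1, Nat.choose_succ_self_right]
  rw [sum_congr rfl hleft, sum_congr rfl hright, sum_const, sum_const, smul_eq_mul, smul_eq_mul]
    at hdc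
  rw [mul_comm, ← hdc, mul_comm]

theorem card_arcs_two : (arcs L 2).card = 210 := by
  have : arcs L 2 = powersetCard 2 univ := by
    ext K
    rw [mem_arcs, mem_powersetCard]
    exact ⟨fun h => ⟨subset_univ _, h.1⟩, fun h => ⟨h.2, isArc_of_card_le_two h.2.le⟩⟩
  rw [this, card_powersetCard, P.card_univ]
  rfl

theorem card_arcs_three : (arcs L 3).card = 1120 := by
  have := P.card_arcs_succ 2 16 (fun K hK => P.card_free_two (mem_arcs.mp hK).2 (mem_arcs.mp hK).1)
  rw [P.card_arcs_two] at this
  norm_num at this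
  omega

theorem card_arcs_four : (arcs L 4).card = 2520 := by
  have := P.card_arcs_succ 3 9 (fun K hK => P.card_free_three (mem_arcs.mp hK).2 (mem_arcs.mp hK).1)
  rw [P.card_arcs_three] at this
  norm_num at this
  omega

/-- There are 168 hyperovals. -/
theorem card_ovals : (arcs L 6).card = 168 := by
  have hdc := sum_card_bipartiteAbove_eq_sum_card_bipartiteBelow (s := arcs L 4)
    (t := arcs L 6) (r := fun (K S : Finset α) => K ⊆ S)
  have hleft : ∀ K ∈ arcs L 4,
      ((arcs L 6).bipartiteAbove (fun (K S : Finset α) => K ⊆ S) K).card = 1 := by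
    intro K hKm
    have hK := mem_arcs.mp hKm
    rw [card_eq_one]
    refine ⟨K ∪ free L K, ?_⟩
    ext S
    simp only [bipartiteAbove, mem_filter, mem_arcs, mem_singleton]
    constructor
    · rintro ⟨hS, hKS⟩
      exact P.oval_unique hK.2 hK.1 hS hKS
    · rintro rfl
      exact ⟨P.oval_of_four hK.2 hK.1, subset_union_left⟩
  have hright : ∀ S ∈ arcs L 6,
      ((arcs L 4).bipartiteBelow (fun (K S : Finset α) => K ⊆ S) S).card = 15 := by
    intro S hSm
    have hS := mem_arcs.mp hSm
    have : (arcs L 4).bipartiteBelow (fun (K S : Finset α) => K ⊆ S) S = powersetCard 4 S := by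
      ext K
      simp only [bipartiteBelow, mem_filter, mem_arcs, mem_powersetCard]
      constructor
      · rintro ⟨⟨h1, -⟩, h2⟩; exact ⟨h2, h1⟩
      · rintro ⟨h1, h2⟩; exact ⟨⟨h2, IsArc.subset hS.2 h1⟩, h1⟩
    rw [this, card_powersetCard, hS.1]
    rfl
  rw [sum_congr rfl hleft, sum_congr rfl hright, sum_const, sum_const, smul_eq_mul, smul_eq_mul,
    P.card_arcs_four] at hdc
  omega

/-- Every plane of order 4 has a hyperoval. -/
theorem exists_oval : ∃ H : Finset α, IsOval L H := by
  have h := P.card_arcs_four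
  obtain ⟨K, hK⟩ : (arcs L 4).Nonempty := card_pos.mp (by omega)
  rw [mem_arcs] at hK
  exact ⟨_, P.oval_of_four hK.2 hK.1⟩

end IsPlane

end Cfsg.Agent.Lib.H2.PG24
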