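import Mathlib
import Cfsg.Prelude.Def_Sporadic_a
import Cfsg.Agent.Lib.H2.PG24f

/-!
helper2 library: the projective plane of order 4, part (g): number of hyperovals through a point,
a pair, a 3-arc (48, 12, 3); the hyperovals meeting a given hyperoval `H` in an even number of
points are exactly 56.
-/

set_option autoImplicit false
set_option linter.unusedSectionVars false

namespace Cfsg.Agent.Lib.H2.PG24

open Finset Cfsg.Agent.Lib.H28

variable {α : Type*} [Fintype α] [DecidableEq α]

namespace IsPlane

variable {L : Set (Finset α)} (P : IsPlane L)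
include P

/-- The `(k+1)`-arcs containing a given `k`-arc correspond to its free points. -/
theorem card_arcs_above {k : ℕ} {K : Finset α} (hKm : K ∈ arcs L k) :
    ((arcs L (k + 1)).filter (K ⊆ ·)).card = (free L K).card := by
  have hK := mem_arcs.mp hKm
  symm
  apply card_bij (fun x _ => insert x K)
  · intro x hx
    rw [mem_free] at hx
    simp only [mem_filter, mem_arcs]
    exact ⟨⟨by rw [card_insert_of_notMem hx.1, hK.1], hx.2⟩, subset_insert _ _⟩
  · intro x hx y hy hxy
    rw [mem_free] at hx hy
    have : x ∈ insert y K := hxy ▸ mem_insert_self x K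
    rw [mem_insert] at this
    rcases this with h | h
    · exact h
    · exact absurd h hx.1
  · intro S hS
    simp only [mem_filter, mem_arcs] at hS
    obtain ⟨⟨hS1, hS2⟩, hKS⟩ := hS
    have h1 : (S \ K).card = 1 := by rw [card_sdiff_of_subset hKS, hS1, hK.1]; omega
    obtain ⟨x, hx⟩ := card_eq_one.mp h1
    have hxS : x ∈ S \ K := by rw [hx]; exact mem_singleton_self x
    rw [mem_sdiff] at hxS
    have hSe : insert x K = S := by
      rw [← union_sdiff_of_subset hKS, hx, union_comm]; rfl
    exact ⟨x, mem_free.mpr ⟨hxS.2, hSe ▸ hS2⟩, hSe⟩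

/-- Recursion for the number of hyperovals through an arc. -/
theorem card_ovals_through_succ {k c m : ℕ} (_hk : k + 1 ≤ 6) {A : Finset α} (hA : A ∈ arcs L k)
    (hc : (free L A).card = c)
    (hm : ∀ A' ∈ arcs L (k + 1), A ⊆ A' → ((arcs L 6).filter (A' ⊆ ·)).card = m) :
    ((arcs L 6).filter (A ⊆ ·)).card * (6 - k) = c * m := by
  have hAk := (mem_arcs.mp hA).1
  have hdc := sum_card_bipartiteAbove_eq_sum_card_bipartiteBelow
    (s := (arcs L (k + 1)).filter (A ⊆ ·)) (t := (arcs L 6).filter (A ⊆ ·))
    (r := fun (K S : Finset α) => K ⊆ S)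
  have hleft : ∀ A' ∈ (arcs L (k + 1)).filter (A ⊆ ·),
      (((arcs L 6).filter (A ⊆ ·)).bipartiteAbove (fun (K S : Finset α) => K ⊆ S) A').card
        = m := by
    intro A' hA'
    rw [mem_filter] at hA'
    rw [← hm A' hA'.1 hA'.2]
    congr 1
    ext S
    simp only [bipartiteAbove, mem_filter]
    constructor
    · rintro ⟨⟨h1, -⟩, h2⟩; exact ⟨h1, h2⟩
    · rintro ⟨h1, h2⟩; exact ⟨⟨h1, hA'.2.trans h2⟩, h2⟩
  have hright : ∀ S ∈ (arcs L 6).filter (A ⊆ ·),
      (((arcs L (k + 1)).filter (A ⊆ ·)).bipartiteBelow (fun (K S : Finset α) => K ⊆ S) S).card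
        = 6 - k := by
    intro S hS
    rw [mem_filter, mem_arcs] at hS
    obtain ⟨⟨hS6, hSarc⟩, hAS⟩ := hS
    have : ((arcs L (k + 1)).filter (A ⊆ ·)).bipartiteBelow (fun (K S : Finset α) => K ⊆ S) S
        = (S \ A).image (fun x => insert x A) := by
      ext K
      simp only [bipartiteBelow, mem_filter, mem_arcs, mem_image, mem_sdiff]
      constructor
      · rintro ⟨⟨⟨hK1, hK2⟩, hAK⟩, hKS⟩
        have h1 : (K \ A).card = 1 := by rw [card_sdiff_of_subset hAK, hK1, hAk]; omega
        obtain ⟨x, hx⟩ := card_eq_one.mp h1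
        have hxK : x ∈ K \ A := by rw [hx]; exact mem_singleton_self x
        rw [mem_sdiff] at hxK
        refine ⟨x, ⟨hKS hxK.1, hxK.2⟩, ?_⟩
        rw [← union_sdiff_of_subset hAK, hx, union_comm]; rfl
      · rintro ⟨x, ⟨hxS, hxA⟩, rfl⟩
        refine ⟨⟨⟨by rw [card_insert_of_notMem hxA, hAk], ?_⟩, subset_insert _ _⟩, ?_⟩
        · apply IsArc.subset hSarc
          intro y hy
          rw [mem_insert] at hy
          rcases hy with rfl | hy
          · exact hxS
          · exact hAS hy
        · intro y hy
          rw [mem_insert] at hy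
          rcases hy with rfl | hy
          · exact hxS
          · exact hAS hy
    rw [this, card_image_of_injOn, card_sdiff_of_subset hAS, hS6, hAk]
    intro x hx y hy hxy
    simp only [coe_sdiff, Set.mem_sdiff, mem_coe] at hx hy
    have hxy' : insert x A = insert y A := hxy
    have : x ∈ insert y A := hxy' ▸ mem_insert_self x A
    rw [mem_insert] at this
    rcases this with h | h
    · exact h
    · exact absurd h hx.2
  rw [sum_congr rfl hleft, sum_congr rfl hright, sum_const, sum_const, smul_eq_mul, smul_eq_mul,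
    P.card_arcs_above hA, hc] at hdc
  rw [← hdc]

theorem card_ovals_through_four {A : Finset α} (hA : A ∈ arcs L 4) :
    ((arcs L 6).filter (A ⊆ ·)).card = 1 := by
  have hK := mem_arcs.mp hA
  rw [card_eq_one]
  refine ⟨A ∪ free L A, ?_⟩
  ext S
  simp only [mem_filter, mem_arcs, mem_singleton]
  constructor
  · rintro ⟨hS, hKS⟩
    exact P.oval_unique hK.2 hK.1 hS hKS
  · rintro rfl
    exact ⟨P.oval_of_four hK.2 hK.1, subset_union_left⟩

theorem card_ovals_through_three {A : Finset α} (hA : A ∈ arcs L 3) :
    ((arcs L 6).filter (A ⊆ ·)).card = 3 := by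
  have h := P.card_ovals_through_succ (k := 3) (by norm_num) hA
    (P.card_free_three (mem_arcs.mp hA).2 (mem_arcs.mp hA).1)
    (fun A' hA' _ => P.card_ovals_through_four hA')
  omega

theorem card_ovals_through_two {A : Finset α} (hA : A ∈ arcs L 2) :
    ((arcs L 6).filter (A ⊆ ·)).card = 12 := by
  have h := P.card_ovals_through_succ (k := 2) (by norm_num) hA
    (P.card_free_two (mem_arcs.mp hA).2 (mem_arcs.mp hA).1)
    (fun A' hA' _ => P.card_ovals_through_three hA')
  omega

theorem free_singleton (p : α) : free L {p} = univ.erase p := by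
  ext x
  rw [mem_free, mem_erase, mem_singleton]
  constructor
  · rintro ⟨h, -⟩; exact ⟨h, mem_univ _⟩
  · rintro ⟨h, -⟩
    refine ⟨h, isArc_of_card_le_two ?_⟩
    exact (card_insert_le _ _).trans (by simp)

theorem card_ovals_through_one (p : α) :
    ((arcs L 6).filter (({p} : Finset α) ⊆ ·)).card = 48 := by
  have hA : ({p} : Finset α) ∈ arcs L 1 :=
    mem_arcs.mpr ⟨card_singleton p, isArc_of_card_le_two (by simp)⟩
  have hc : (free L ({p} : Finset α)).card = 20 := by
    rw [P.free_singleton, card_erase_of_mem (mem_univ _), P.card_univ]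
  have h := P.card_ovals_through_succ (k := 1) (by norm_num) hA hc
    (fun A' hA' _ => P.card_ovals_through_two hA')
  omega

end IsPlane

end Cfsg.Agent.Lib.H2.PG24
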