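import Mathlib
import Cfsg.Prelude.Def_Sporadic_a
import Cfsg.Agent.Lib.H2.PG24g

/-!
helper2 library: the projective plane of order 4, part (h): intersection numbers of a hyperoval
with the other hyperovals (10, 72, 45, 40 meeting it in 0, 1, 2, 3 points); exactly 56 hyperovals
meet a given one evenly; a family of 56 hyperovals pairwise meeting evenly is determined by any of
its members.
-/

set_option autoImplicit false
set_option linter.unusedSectionVars false

namespace Cfsg.Agent.Lib.H2.PG24

open Finset Cfsg.Agent.Lib.H28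

variable {α : Type*} [Fintype α] [DecidableEq α]

namespace IsPlane

variable {L : Set (Finset α)} (P : IsPlane L)
include P

theorem sum_choose_inter_ovals (H : Finset α) (j : ℕ) :
    ∑ K ∈ arcs L 6, Nat.choose (K ∩ H).card j
      = ∑ J ∈ powersetCard j H, ((arcs L 6).filter (J ⊆ ·)).card := by
  have h1 : ∀ K : Finset α, Nat.choose (K ∩ H).card j
      = ∑ J ∈ powersetCard j H, if J ⊆ K then 1 else 0 := by
    intro K
    rw [← card_powersetCard, ← sum_filter, card_eq_sum_ones]
    apply sum_congr _ (fun _ _ => rfl)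
    ext J
    simp only [mem_powersetCard, mem_filter, subset_inter_iff]
    tauto
  rw [sum_congr rfl (fun K _ => h1 K), sum_comm]
  apply sum_congr rfl
  intro J _
  rw [card_eq_sum_ones, sum_filter]

/-- Two different hyperovals share at most three points. -/
theorem oval_inter_le_three {H K : Finset α} (hH : IsOval L H) (hK : IsOval L K) (hne : K ≠ H) :
    (K ∩ H).card ≤ 3 := by
  by_contra hcon
  push Not at hcon
  obtain ⟨A, hA, hA4⟩ := exists_subset_card_eq (show 4 ≤ (K ∩ H).card by omega)
  have hAK : A ⊆ K := hA.trans inter_subset_left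
  have hAH : A ⊆ H := hA.trans inter_subset_right
  have hAarc : IsArc L A := IsArc.subset hH.2 hAH
  exact hne ((P.oval_unique hAarc hA4 hK hAK).trans (P.oval_unique hAarc hA4 hH hAH).symm)

/-- Exactly 56 hyperovals meet a given hyperoval in an even number of points. -/
theorem card_even_ovals {H : Finset α} (hH : IsOval L H) :
    ((arcs L 6).filter (fun K => (K ∩ H).card % 2 = 0)).card = 56 := by
  have hHm : H ∈ arcs L 6 := mem_arcs.mpr hH
  set E := (arcs L 6).erase H with hE
  set n : ℕ → ℕ := fun i => (E.filter (fun K => (K ∩ H).card = i)).card with hn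
  have hmaps : ∀ K ∈ E, (K ∩ H).card ∈ range 4 := by
    intro K hK
    rw [hE, mem_erase, mem_arcs] at hK
    rw [mem_range]
    have := P.oval_inter_le_three hH hK.2 hK.1
    omega
  have key : ∀ g : ℕ → ℕ, ∑ K ∈ E, g (K ∩ H).card
      = g 0 * n 0 + g 1 * n 1 + g 2 * n 2 + g 3 * n 3 := by
    intro g
    rw [← sum_fiberwise_of_maps_to hmaps (fun K => g (K ∩ H).card)]
    have hfib : ∀ i, ∑ K ∈ E.filter (fun K => (K ∩ H).card = i), g (K ∩ H).card = g i * n i := by
      intro i
      rw [sum_congr rfl (fun K hK => by rw [(mem_filter.mp hK).2]), sum_const, smul_eq_mul,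
        mul_comm]
    simp only [sum_range_succ, sum_range_zero, zero_add, hfib]
  have hsplit : ∀ g : ℕ → ℕ, ∑ K ∈ arcs L 6, g (K ∩ H).card
      = g 6 + ∑ K ∈ E, g (K ∩ H).card := by
    intro g
    rw [hE, ← add_sum_erase _ _ hHm, inter_self, hH.1]
  -- the four equations
  have e0 : ∑ K ∈ arcs L 6, Nat.choose (K ∩ H).card 0 = 168 := by
    simp only [Nat.choose_zero_right, sum_const, smul_eq_mul, mul_one]
    exact P.card_ovals
  have e1 : ∑ K ∈ arcs L 6, Nat.choose (K ∩ H).card 1 = 288 := by
    rw [P.sum_choose_inter_ovals H 1]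
    have : ∀ J ∈ powersetCard 1 H, ((arcs L 6).filter (J ⊆ ·)).card = 48 := by
      intro J hJ
      rw [mem_powersetCard] at hJ
      obtain ⟨p, rfl⟩ := card_eq_one.mp hJ.2
      exact P.card_ovals_through_one p
    rw [sum_congr rfl this, sum_const, card_powersetCard, hH.1]
    rfl
  have e2 : ∑ K ∈ arcs L 6, Nat.choose (K ∩ H).card 2 = 180 := by
    rw [P.sum_choose_inter_ovals H 2]
    have : ∀ J ∈ powersetCard 2 H, ((arcs L 6).filter (J ⊆ ·)).card = 12 := by
      intro J hJ
      rw [mem_powersetCard] at hJ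
      exact P.card_ovals_through_two (mem_arcs.mpr ⟨hJ.2, IsArc.subset hH.2 hJ.1⟩)
    rw [sum_congr rfl this, sum_const, card_powersetCard, hH.1]
    rfl
  have e3 : ∑ K ∈ arcs L 6, Nat.choose (K ∩ H).card 3 = 60 := by
    rw [P.sum_choose_inter_ovals H 3]
    have : ∀ J ∈ powersetCard 3 H, ((arcs L 6).filter (J ⊆ ·)).card = 3 := by
      intro J hJ
      rw [mem_powersetCard] at hJ
      exact P.card_ovals_through_three (mem_arcs.mpr ⟨hJ.2, IsArc.subset hH.2 hJ.1⟩)
    rw [sum_congr rfl this, sum_const, card_powersetCard, hH.1]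
    rfl
  have k0 := key (fun i => Nat.choose i 0)
  have s0 := hsplit (fun i => Nat.choose i 0)
  have k1 := key (fun i => Nat.choose i 1)
  have s1 := hsplit (fun i => Nat.choose i 1)
  have k2 := key (fun i => Nat.choose i 2)
  have s2 := hsplit (fun i => Nat.choose i 2)
  have k3 := key (fun i => Nat.choose i 3)
  have s3 := hsplit (fun i => Nat.choose i 3)
  have k4 := key (fun i => if i % 2 = 0 then 1 else 0)
  have s4 := hsplit (fun i => if i % 2 = 0 then 1 else 0)
  beta_reduce at k0 s0 k1 s1 k2 s2 k3 s3 k4 s4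
  rw [s0, k0] at e0
  rw [s1, k1] at e1
  rw [s2, k2] at e2
  rw [s3, k3] at e3
  have e4 : ((arcs L 6).filter (fun K => (K ∩ H).card % 2 = 0)).card
      = ∑ K ∈ arcs L 6, if (K ∩ H).card % 2 = 0 then 1 else 0 := by
    rw [card_eq_sum_ones, sum_filter]
  rw [e4, s4, k4]
  norm_num [Nat.choose] at e0 e1 e2 e3 ⊢
  omega

/-- A family of 56 hyperovals meeting a member `H` evenly is the family of all hyperovals meeting
`H` evenly. -/
theorem even_family_eq {H : Finset α} (hH : IsOval L H) {O : Finset (Finset α)} (hO : O.card = 56)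
    (hOov : ∀ K ∈ O, IsOval L K) (hev : ∀ K ∈ O, (K ∩ H).card % 2 = 0) :
    O = (arcs L 6).filter (fun K => (K ∩ H).card % 2 = 0) := by
  apply eq_of_subset_of_card_le
  · intro K hK
    rw [mem_filter, mem_arcs]
    exact ⟨hOov K hK, hev K hK⟩
  · rw [P.card_even_ovals hH, hO]

end IsPlane

end Cfsg.Agent.Lib.H2.PG24
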