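import Mathlib
import Cfsg.Prelude.Def_Sporadic_a
import Cfsg.Agent.Lib.H2.PG24c
import Cfsg.Agent.Lib.H2.PG24h
import Cfsg.Agent.Lib.H27.SteinerSmall

/-!
helper2 library: Steiner systems `S(3,6,22)`: the derived plane at a point is a projective plane
of order 4, the blocks missing the point are 56 hyperovals pairwise meeting evenly; uniqueness.
-/

set_option autoImplicit false
set_option linter.unusedSectionVars false

namespace Cfsg.Agent.Lib.H2.S3622

open Finset Cfsg.Agent.Lib.H28 Cfsg.Agent.Lib.H2.PG24

variable {α : Type*} [Fintype α] [DecidableEq α]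

/-- The points other than `o`. -/
abbrev Pt (o : α) : Type _ := {x : α // x ≠ o}

/-- Restriction of a point set to the points other than `o`. -/
def res (o : α) (b : Finset α) : Finset (Pt o) := b.subtype (· ≠ o)

theorem mem_res {o : α} {b : Finset α} {x : Pt o} : x ∈ res o b ↔ (x : α) ∈ b := by
  unfold res; exact mem_subtype

theorem card_res_of_notMem {o : α} {b : Finset α} (h : o ∉ b) : (res o b).card = b.card := by
  unfold res
  rw [card_subtype, filter_true_of_mem]
  intro x hx e
  exact h (e ▸ hx)

theorem card_res_of_mem {o : α} {b : Finset α} (h : o ∈ b) : (res o b).card + 1 = b.card := by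
  unfold res
  rw [card_subtype]
  have : b.filter (· ≠ o) = b.erase o := by
    ext x; simp [mem_erase, and_comm]
  rw [this, card_erase_of_mem h]
  have : 0 < b.card := card_pos.mpr ⟨o, h⟩
  omega

theorem res_inter (o : α) (b c : Finset α) : res o (b ∩ c) = res o b ∩ res o c := by
  ext x; simp [mem_res]

theorem eq_of_res_eq {o : α} {b c : Finset α} (h : res o b = res o c) (ho : o ∈ b ↔ o ∈ c) :
    b = c := by
  ext x
  by_cases hx : x = o
  · subst hx; exact ho
  · have := congrArg (fun s : Finset (Pt o) => (⟨x, hx⟩ : Pt o) ∈ s) h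
    simpa [mem_res] using this

section derived

variable (B : Set (Finset α)) (o : α)

/-- Lines of the derived design at `o`. -/
def lines : Set (Finset (Pt o)) := {l | ∃ b ∈ B, o ∈ b ∧ res o b = l}

/-- The blocks not through `o`, as point sets of the derived design. -/
def ovals : Set (Finset (Pt o)) := {h | ∃ b ∈ B, o ∉ b ∧ res o b = h}

/-- The hyperovals of the derived plane coming from blocks, as a finset. -/
noncomputable def ovalsF : Finset (Finset (Pt o)) :=
  ((blocksF B).filter (o ∉ ·)).image (res o)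

theorem mem_ovalsF {h : Finset (Pt o)} : h ∈ ovalsF B o ↔ h ∈ ovals B o := by
  unfold ovalsF ovals
  simp only [mem_image, mem_filter, mem_blocksF, Set.mem_ofPred_eq]
  constructor
  · rintro ⟨b, ⟨hb, hob⟩, rfl⟩; exact ⟨b, hb, hob, rfl⟩
  · rintro ⟨b, hb, hob, rfl⟩; exact ⟨b, ⟨hb, hob⟩, rfl⟩

variable {B} (hα : Fintype.card α = 22) (hB : Cfsg.IsSteinerSystem 3 6 B)
include hα hB

theorem card_pt : Fintype.card (Pt o) = 21 := by
  have := Set.card_ne_eq o
  rw [hα] at this
  exact this

theorem isPlane : IsPlane (lines B o) := by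
  refine ⟨card_pt o hα hB, ?_, ?_⟩
  · rintro l ⟨b, hb, hob, rfl⟩
    have := card_res_of_mem hob
    rw [hB.1 b hb] at this
    omega
  · intro s hs
    have hs' : (insert o (s.map (Function.Embedding.subtype _))).card = 3 := by
      rw [card_insert_of_notMem, card_map, hs]
      intro h
      rw [mem_map] at h
      obtain ⟨x, -, hx⟩ := h
      exact x.2 hx
    obtain ⟨b, ⟨hb, hsb⟩, huniq⟩ := hB.2 _ hs'
    have hob : o ∈ b := hsb (mem_insert_self _ _)
    refine ⟨res o b, ⟨⟨b, hb, hob, rfl⟩, ?_⟩, ?_⟩
    · intro x hx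
      rw [mem_res]
      apply hsb
      rw [mem_insert, mem_map]
      exact Or.inr ⟨x, hx, rfl⟩
    · rintro l ⟨⟨c, hc, hoc, rfl⟩, hsl⟩
      have : c = b := by
        apply huniq c ⟨hc, ?_⟩
        intro y hy
        rw [mem_insert, mem_map] at hy
        rcases hy with rfl | ⟨x, hx, rfl⟩
        · exact hoc
        · exact mem_res.mp (hsl hx)
      rw [this]

theorem isOval {h : Finset (Pt o)} (hh : h ∈ ovals B o) : IsOval (lines B o) h := by
  obtain ⟨b, hb, hob, rfl⟩ := hh
  refine ⟨by rw [card_res_of_notMem hob, hB.1 b hb], ?_⟩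
  rintro l ⟨c, hc, hoc, rfl⟩
  rw [← res_inter, card_res_of_notMem (fun h => hob (mem_inter.mp h).2)]
  have hne : c ≠ b := fun e => hob (e ▸ hoc)
  have := Cfsg.Agent.Lib.H27.inter_card_lt hB hb hc hne
  omega

theorem ovals_even {h k : Finset (Pt o)} (hh : h ∈ ovals B o) (hk : k ∈ ovals B o) :
    (k ∩ h).card % 2 = 0 := by
  obtain ⟨b, hb, hob, rfl⟩ := hh
  obtain ⟨c, hc, hoc, rfl⟩ := hk
  rw [← res_inter, card_res_of_notMem (fun h => hob (mem_inter.mp h).2)]
  by_cases hne : c = b
  · rw [hne, inter_self, hB.1 b hb]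
  · rcases Cfsg.Agent.Lib.H27.s3622_inter hα hB hb hc hne with h | h <;> rw [h]

theorem card_ovalsF : (ovalsF B o).card = 56 := by
  unfold ovalsF
  rw [card_image_of_injOn]
  · have h0 := steiner_count hB (∅ : Finset α) (by simp)
    have h1 := steiner_count hB {o} (by simp)
    rw [hα] at h0 h1
    simp only [card_empty, empty_subset, filter_true, card_singleton, singleton_subset_iff] at h0 h1
    have hsplit := card_filter_add_card_filter_not (s := blocksF B) (fun b => o ∈ b)
    norm_num [Nat.choose] at h0 h1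
    omega
  · intro b hb c hc hbc
    simp only [coe_filter, Set.mem_ofPred_eq, mem_blocksF] at hb hc
    exact eq_of_res_eq hbc ⟨fun h => absurd h hb.2, fun h => absurd h hc.2⟩

end derived

end Cfsg.Agent.Lib.H2.S3622
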