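import Mathlib
import Cfsg.Prelude.Def_Sporadic_a
import Cfsg.Agent.Lib.H2.S3622a

/-!
helper2 library: uniqueness of the Steiner system `S(3,6,22)`.
-/

set_option autoImplicit false
set_option linter.unusedSectionVars false

namespace Cfsg.Agent.Lib.H2.S3622

open Finset Cfsg.Agent.Lib.H28 Cfsg.Agent.Lib.H2.PG24

section planeiso

variable {α β : Type*} [Fintype α] [DecidableEq α] [Fintype β] [DecidableEq β]
variable {L : Set (Finset α)} {L' : Set (Finset β)}

/-- An isomorphism of planes maps hyperovals to hyperovals. -/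
theorem isOval_image (g : α ≃ β) (hg : (fun b : Finset α => b.image g) '' L = L')
    {K : Finset α} (hK : IsOval L K) : IsOval L' (K.image g) := by
  refine ⟨by rw [card_image_of_injective _ g.injective, hK.1], ?_⟩
  intro l' hl'
  rw [← hg] at hl'
  obtain ⟨l, hl, rfl⟩ := hl'
  change (l.image g ∩ K.image g).card ≤ 2
  rw [← image_inter _ _ g.injective, card_image_of_injective _ g.injective]
  exact hK.2 l hl

end planeiso

variable {α β : Type*} [Fintype α] [DecidableEq α] [Fintype β] [DecidableEq β]

theorem card_blocks (hα : Fintype.card α = 22) {B : Set (Finset α)}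
    (hB : Cfsg.IsSteinerSystem 3 6 B) : (blocksF B).card = 77 := by
  have h0 := steiner_count hB (∅ : Finset α) (by simp)
  rw [hα] at h0
  simp only [card_empty, empty_subset, filter_true] at h0
  norm_num [Nat.choose] at h0
  omega

/-- The extension of a bijection between the derived point sets to the full point sets. -/
def extend (o : α) (o' : β) (g : Pt o ≃ Pt o') : α ≃ β :=
  (Equiv.optionSubtypeNe o).symm.trans ((Equiv.optionCongr g).trans (Equiv.optionSubtypeNe o'))

theorem extend_self (o : α) (o' : β) (g : Pt o ≃ Pt o') : extend o o' g o = o' := by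
  unfold extend
  simp

theorem extend_of_ne (o : α) (o' : β) (g : Pt o ≃ Pt o') {x : α} (hx : x ≠ o) :
    extend o o' g x = g ⟨x, hx⟩ := by
  unfold extend
  simp [Equiv.optionSubtypeNe_symm_of_ne hx]

theorem mem_image_extend_iff (o : α) (o' : β) (g : Pt o ≃ Pt o') (b : Finset α) :
    o' ∈ b.image (extend o o' g) ↔ o ∈ b := by
  rw [mem_image]
  constructor
  · rintro ⟨x, hx, hxo⟩
    have : x = o := (extend o o' g).injective (hxo.trans (extend_self o o' g).symm)
    exact this ▸ hx
  · intro h
    exact ⟨o, h, extend_self o o' g⟩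

theorem res_image_extend (o : α) (o' : β) (g : Pt o ≃ Pt o') (b : Finset α) :
    res o' (b.image (extend o o' g)) = (res o b).image g := by
  ext y
  rw [mem_res, mem_image, mem_image]
  constructor
  · rintro ⟨x, hx, hxy⟩
    have hxo : x ≠ o := by
      rintro rfl
      rw [extend_self] at hxy
      exact y.2 hxy.symm
    rw [extend_of_ne o o' g hxo] at hxy
    exact ⟨⟨x, hxo⟩, mem_res.mpr hx, Subtype.ext hxy⟩
  · rintro ⟨x, hx, rfl⟩
    exact ⟨x, mem_res.mp hx, extend_of_ne o o' g x.2⟩

/-- Uniqueness of the Steiner system `S(3,6,22)`. -/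
theorem iso (hα : Fintype.card α = 22) (hβ : Fintype.card β = 22) {B : Set (Finset α)}
    {B' : Set (Finset β)} (hB : Cfsg.IsSteinerSystem 3 6 B) (hB' : Cfsg.IsSteinerSystem 3 6 B') :
    Cfsg.SetSystemIso B B' := by
  classical
  obtain ⟨o⟩ : Nonempty α := Fintype.card_pos_iff.mp (by omega)
  obtain ⟨o'⟩ : Nonempty β := Fintype.card_pos_iff.mp (by omega)
  have P := isPlane o hα hB
  have P' := isPlane o' hβ hB'
  obtain ⟨H, hHm⟩ : (ovalsF B o).Nonempty := card_pos.mp (by rw [card_ovalsF o hα hB]; norm_num)
  obtain ⟨H', hH'm⟩ : (ovalsF B' o').Nonempty :=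
    card_pos.mp (by rw [card_ovalsF o' hβ hB']; norm_num)
  have hH := isOval o hα hB ((mem_ovalsF B o).mp hHm)
  have hH' := isOval o' hβ hB' ((mem_ovalsF B' o').mp hH'm)
  have e₀ : {h // h ∈ H} ≃ {h // h ∈ H'} :=
    Fintype.equivOfCardEq (by rw [Fintype.card_coe, Fintype.card_coe, hH.1, hH'.1])
  obtain ⟨g, hgL, hgH, -⟩ := exists_ext P hH P' hH' e₀
  have hHimg : H.image g = H' := by
    ext y
    rw [mem_image]
    constructor
    · rintro ⟨a, ha, rfl⟩; exact (hgH a).mp ha
    · intro hy
      refine ⟨g.symm y, (hgH _).mpr (by rw [Equiv.apply_symm_apply]; exact hy), by simp⟩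
  -- the two oval families correspond
  have hO' : ovalsF B' o' = (arcs (lines B' o') 6).filter (fun K => (K ∩ H').card % 2 = 0) :=
    P'.even_family_eq hH' (card_ovalsF o' hβ hB')
      (fun K hK => isOval o' hβ hB' ((mem_ovalsF B' o').mp hK))
      (fun K hK => ovals_even o' hβ hB' ((mem_ovalsF B' o').mp hH'm) ((mem_ovalsF B' o').mp hK))
  have hO : (ovalsF B o).image (fun K => K.image g)
      = (arcs (lines B' o') 6).filter (fun K => (K ∩ H').card % 2 = 0) := by
    apply P'.even_family_eq hH'
    · rw [card_image_of_injective _ (Finset.image_injective g.injective), card_ovalsF o hα hB]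
    · intro K hK
      rw [mem_image] at hK
      obtain ⟨K₀, hK₀, rfl⟩ := hK
      exact isOval_image g hgL (isOval o hα hB ((mem_ovalsF B o).mp hK₀))
    · intro K hK
      rw [mem_image] at hK
      obtain ⟨K₀, hK₀, rfl⟩ := hK
      rw [← hHimg, ← image_inter _ _ g.injective, card_image_of_injective _ g.injective]
      exact ovals_even o hα hB ((mem_ovalsF B o).mp hHm) ((mem_ovalsF B o).mp hK₀)
  -- the extended bijection
  refine ⟨extend o o' g, ?_⟩
  have hsub : (fun b : Finset α => b.image (extend o o' g)) '' B ⊆ B' := by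
    rintro _ ⟨b, hb, rfl⟩
    by_cases hob : o ∈ b
    · have h1 : (res o b).image g ∈ lines B' o' := by
        rw [← hgL]
        exact ⟨res o b, ⟨b, hb, hob, rfl⟩, rfl⟩
      obtain ⟨c, hc, hoc, hres⟩ := h1
      have : c = b.image (extend o o' g) := by
        apply eq_of_res_eq
        · rw [hres, res_image_extend]
        · rw [mem_image_extend_iff]; exact ⟨fun _ => hob, fun _ => hoc⟩
      show b.image (extend o o' g) ∈ B'
      rw [← this]; exact hc
    · have h1 : (res o b).image g ∈ ovalsF B' o' := by
        rw [hO', ← hO]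
        exact mem_image_of_mem _ ((mem_ovalsF B o).mpr ⟨b, hb, hob, rfl⟩)
      obtain ⟨c, hc, hoc, hres⟩ := (mem_ovalsF B' o').mp h1
      have : c = b.image (extend o o' g) := by
        apply eq_of_res_eq
        · rw [hres, res_image_extend]
        · rw [mem_image_extend_iff]; exact ⟨fun h => absurd h hoc, fun h => absurd h hob⟩
      show b.image (extend o o' g) ∈ B'
      rw [← this]; exact hc
  have hBc : B = ↑(blocksF B) := by ext l; simp [mem_blocksF]
  have hBc' : B' = ↑(blocksF B') := by ext l; simp [mem_blocksF]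
  apply Set.eq_of_subset_of_ncard_le hsub
  rw [Set.ncard_image_of_injective _ (Finset.image_injective (extend o o' g).injective)]
  rw [hBc, hBc', Set.ncard_coe_finset, Set.ncard_coe_finset, card_blocks hα hB, card_blocks hβ hB']

end Cfsg.Agent.Lib.H2.S3622
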