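import Mathlib
import Cfsg.Prelude.Def_Classical
import Cfsg.Agent.Lib.H22.DihQuatRecog

set_option autoImplicit false
set_option linter.unusedSectionVars false

/-!
# `GO⁺₂(q)` is dihedral of order `2(q-1)`
-/

namespace Cfsg.Agent.Lib.H2.GOPlus2

open Matrix

variable {F : Type*} [Field F]

abbrev I2 := Fin 1 ⊕ Fin 1

/-- the matrix `[[a, b], [c, d]]` indexed by `Fin 1 ⊕ Fin 1` -/
def M (a b c d : F) : Matrix I2 I2 F :=
  Matrix.of fun i j => Sum.elim (fun _ => Sum.elim (fun _ => a) (fun _ => b) j)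
    (fun _ => Sum.elim (fun _ => c) (fun _ => d) j) i

theorem M_mul (a b c d a' b' c' d' : F) :
    M a b c d * M a' b' c' d' =
      M (a * a' + b * c') (a * b' + b * d') (c * a' + d * c') (c * b' + d * d') := by
  ext i j
  rcases i with i | i <;> rcases j with j | j <;>
    simp [M, Matrix.mul_apply, Fintype.sum_sum_type]

theorem M_one : M (1 : F) 0 0 1 = 1 := by
  ext i j
  rcases i with i | i <;> rcases j with j | j <;>
    simp [M, Matrix.one_apply, Subsingleton.elim i j]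

theorem M_eta (A : Matrix I2 I2 F) :
    A = M (A (Sum.inl 0) (Sum.inl 0)) (A (Sum.inl 0) (Sum.inr 0))
      (A (Sum.inr 0) (Sum.inl 0)) (A (Sum.inr 0) (Sum.inr 0)) := by
  ext i j
  rcases i with i | i <;> rcases j with j | j <;>
    simp [M, Subsingleton.elim i 0, Subsingleton.elim j 0]

theorem M_mulVec (a b c d : F) (v : I2 → F) :
    M a b c d *ᵥ v = Sum.elim (fun _ => a * v (Sum.inl 0) + b * v (Sum.inr 0))
      (fun _ => c * v (Sum.inl 0) + d * v (Sum.inr 0)) := by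
  ext i
  rcases i with i | i <;> simp [M, Matrix.mulVec, dotProduct, Fintype.sum_sum_type]

theorem quadFormPlus_one (v : I2 → F) :
    Cfsg.quadFormPlus 1 F v = v (Sum.inl 0) * v (Sum.inr 0) := by
  simp [Cfsg.quadFormPlus]

theorem mem_iff (g : GL I2 F) :
    g ∈ Cfsg.isometryGroup F (Cfsg.quadFormPlus 1 F) ↔
      (g : Matrix I2 I2 F) (Sum.inl 0) (Sum.inl 0) * (g : Matrix I2 I2 F) (Sum.inr 0) (Sum.inl 0) = 0 ∧
      (g : Matrix I2 I2 F) (Sum.inl 0) (Sum.inr 0) * (g : Matrix I2 I2 F) (Sum.inr 0) (Sum.inr 0) = 0 ∧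
      (g : Matrix I2 I2 F) (Sum.inl 0) (Sum.inl 0) * (g : Matrix I2 I2 F) (Sum.inr 0) (Sum.inr 0) +
        (g : Matrix I2 I2 F) (Sum.inl 0) (Sum.inr 0) * (g : Matrix I2 I2 F) (Sum.inr 0) (Sum.inl 0) = 1 := by
  set a := (g : Matrix I2 I2 F) (Sum.inl 0) (Sum.inl 0)
  set b := (g : Matrix I2 I2 F) (Sum.inl 0) (Sum.inr 0)
  set c := (g : Matrix I2 I2 F) (Sum.inr 0) (Sum.inl 0)
  set d := (g : Matrix I2 I2 F) (Sum.inr 0) (Sum.inr 0)
  have hg : (g : Matrix I2 I2 F) = M a b c d := M_eta _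
  have key : ∀ v : I2 → F, Cfsg.quadFormPlus 1 F ((g : Matrix I2 I2 F) *ᵥ v) =
      (a * v (Sum.inl 0) + b * v (Sum.inr 0)) * (c * v (Sum.inl 0) + d * v (Sum.inr 0)) := by
    intro v
    rw [hg, M_mulVec, quadFormPlus_one]
    rfl
  constructor
  · intro h
    have h' : ∀ u v : I2 → F, Cfsg.quadFormPlus 1 F ((g : Matrix I2 I2 F) *ᵥ u) =
        Cfsg.quadFormPlus 1 F u := h
    have h10 := h' (Sum.elim (fun _ => 1) (fun _ => 0)) 0
    have h01 := h' (Sum.elim (fun _ => 0) (fun _ => 1)) 0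
    have h11 := h' (Sum.elim (fun _ => 1) (fun _ => 1)) 0
    rw [key, quadFormPlus_one] at h10 h01 h11
    simp only [Sum.elim_inl, Sum.elim_inr, mul_one, mul_zero, add_zero, zero_add] at h10 h01 h11
    refine ⟨h10, h01, ?_⟩
    linear_combination h11 - h10 - h01
  · rintro ⟨h1, h2, h3⟩
    intro u v
    show Cfsg.quadFormPlus 1 F ((g : Matrix I2 I2 F) *ᵥ u) = Cfsg.quadFormPlus 1 F u
    rw [key, quadFormPlus_one]
    linear_combination (u (Sum.inl 0)) ^ 2 * h1 + (u (Sum.inr 0)) ^ 2 * h2 +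
      u (Sum.inl 0) * u (Sum.inr 0) * h3

/-- the diagonal element -/
def gD (a : Fˣ) : GL I2 F where
  val := M (a : F) 0 0 ((a⁻¹ : Fˣ) : F)
  inv := M ((a⁻¹ : Fˣ) : F) 0 0 (a : F)
  val_inv := by rw [M_mul, ← M_one]; simp
  inv_val := by rw [M_mul, ← M_one]; simp

/-- the swap -/
def gS : GL I2 F where
  val := M 0 1 1 0
  inv := M 0 1 1 0
  val_inv := by rw [M_mul, ← M_one]; simp
  inv_val := by rw [M_mul, ← M_one]; simp

theorem gD_val (a : Fˣ) : ((gD a : GL I2 F) : Matrix I2 I2 F) = M (a : F) 0 0 ((a⁻¹ : Fˣ) : F) := rfl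

theorem gS_val : ((gS : GL I2 F) : Matrix I2 I2 F) = M 0 1 1 0 := rfl

theorem M_apply_ll (a b c d : F) : M a b c d (Sum.inl 0) (Sum.inl 0) = a := rfl
theorem M_apply_lr (a b c d : F) : M a b c d (Sum.inl 0) (Sum.inr 0) = b := rfl
theorem M_apply_rl (a b c d : F) : M a b c d (Sum.inr 0) (Sum.inl 0) = c := rfl
theorem M_apply_rr (a b c d : F) : M a b c d (Sum.inr 0) (Sum.inr 0) = d := rfl

theorem gD_mem (a : Fˣ) : gD a ∈ Cfsg.isometryGroup F (Cfsg.quadFormPlus 1 F) := by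
  rw [mem_iff, gD_val]
  simp [M_apply_ll, M_apply_lr, M_apply_rl, M_apply_rr]

theorem gS_mem : (gS : GL I2 F) ∈ Cfsg.isometryGroup F (Cfsg.quadFormPlus 1 F) := by
  rw [mem_iff, gS_val]
  simp [M_apply_ll, M_apply_lr, M_apply_rl, M_apply_rr]

theorem M_injective {a b c d a' b' c' d' : F} (h : M a b c d = M a' b' c' d') :
    a = a' ∧ b = b' ∧ c = c' ∧ d = d' :=
  ⟨congrFun (congrFun h (Sum.inl 0)) (Sum.inl 0), congrFun (congrFun h (Sum.inl 0)) (Sum.inr 0),
    congrFun (congrFun h (Sum.inr 0)) (Sum.inl 0), congrFun (congrFun h (Sum.inr 0)) (Sum.inr 0)⟩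

theorem gD_mul (a b : Fˣ) : gD (a * b) = gD a * gD b := by
  apply Units.ext
  rw [Units.val_mul, gD_val, gD_val, gD_val, M_mul]
  simp [mul_comm]

theorem gD_one : gD (1 : Fˣ) = 1 := by
  apply Units.ext
  rw [gD_val]
  simp only [inv_one, Units.val_one]
  exact M_one

theorem gD_injective : Function.Injective (gD (F := F)) := by
  intro a b h
  have h1 := congrArg (fun g : GL I2 F => (g : Matrix I2 I2 F)) h
  simp only [gD_val] at h1
  exact Units.ext (M_injective h1).1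

theorem gS_mul_gS : (gS : GL I2 F) * gS = 1 := by
  apply Units.ext
  rw [Units.val_mul, gS_val, M_mul, Units.val_one, ← M_one]
  simp

theorem gS_gD_gS (a : Fˣ) : gS * gD a * gS⁻¹ = (gD a)⁻¹ := by
  have h1 : (gS : GL I2 F)⁻¹ = gS := inv_eq_of_mul_eq_one_right gS_mul_gS
  have h2 : (gD a)⁻¹ = gD a⁻¹ := by
    apply inv_eq_of_mul_eq_one_right
    rw [← gD_mul, mul_inv_cancel, gD_one]
  rw [h1, h2]
  apply Units.ext
  rw [Units.val_mul, Units.val_mul, gS_val, gD_val, gD_val, M_mul, M_mul]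
  simp

/-- classification of the elements -/
theorem classify (g : GL I2 F) (hg : g ∈ Cfsg.isometryGroup F (Cfsg.quadFormPlus 1 F)) :
    (∃ a : Fˣ, g = gD a) ∨ (∃ a : Fˣ, g = gS * gD a) := by
  obtain ⟨h1, h2, h3⟩ := (mem_iff g).1 hg
  set a := (g : Matrix I2 I2 F) (Sum.inl 0) (Sum.inl 0)
  set b := (g : Matrix I2 I2 F) (Sum.inl 0) (Sum.inr 0)
  set c := (g : Matrix I2 I2 F) (Sum.inr 0) (Sum.inl 0)
  set d := (g : Matrix I2 I2 F) (Sum.inr 0) (Sum.inr 0)
  have hgM : (g : Matrix I2 I2 F) = M a b c d := M_eta _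
  by_cases ha : a = 0
  · right
    rw [ha, zero_mul, zero_add] at h3
    have hb : b ≠ 0 := left_ne_zero_of_mul_eq_one h3
    have hd : d = 0 := by
      rcases mul_eq_zero.1 h2 with h | h
      · exact absurd h hb
      · exact h
    refine ⟨Units.mkOfMulEqOne c b (by rw [mul_comm]; exact h3), ?_⟩
    apply Units.ext
    rw [Units.val_mul, gS_val, gD_val, M_mul, hgM, ha, hd]
    have : ((Units.mkOfMulEqOne c b (by rw [mul_comm]; exact h3))⁻¹ : Fˣ).val = b := rfl
    rw [this]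
    simp
  · left
    have hc : c = 0 := by
      rcases mul_eq_zero.1 h1 with h | h
      · exact absurd h ha
      · exact h
    rw [hc, mul_zero, add_zero] at h3
    have hd : d ≠ 0 := right_ne_zero_of_mul_eq_one h3
    have hb : b = 0 := by
      rcases mul_eq_zero.1 h2 with h | h
      · exact h
      · exact absurd h hd
    refine ⟨Units.mkOfMulEqOne a d h3, ?_⟩
    apply Units.ext
    rw [gD_val, hgM, hb, hc]
    rfl

theorem gS_gD_val (a : Fˣ) :
    ((gS * gD a : GL I2 F) : Matrix I2 I2 F) = M 0 ((a⁻¹ : Fˣ) : F) (a : F) 0 := by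
  rw [Units.val_mul, gS_val, gD_val, M_mul]
  simp

/-- the parametrisation of the isometry group -/
def param (x : Fˣ ⊕ Fˣ) : Cfsg.isometryGroup F (Cfsg.quadFormPlus 1 F) :=
  Sum.elim (fun a => ⟨gD a, gD_mem a⟩) (fun a => ⟨gS * gD a, mul_mem gS_mem (gD_mem a)⟩) x

theorem param_bijective : Function.Bijective (param (F := F)) := by
  constructor
  · rintro (a | a) (b | b) h
    · have h1 := congrArg (fun g : Cfsg.isometryGroup F (Cfsg.quadFormPlus 1 F) =>
        ((g : GL I2 F) : Matrix I2 I2 F)) h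
      simp only [param, Sum.elim_inl, gD_val] at h1
      rw [Units.ext (M_injective h1).1]
    · exfalso
      have h1 := congrArg (fun g : Cfsg.isometryGroup F (Cfsg.quadFormPlus 1 F) =>
        ((g : GL I2 F) : Matrix I2 I2 F)) h
      simp only [param, Sum.elim_inl, Sum.elim_inr, gD_val, gS_gD_val] at h1
      exact a.ne_zero (M_injective h1).1
    · exfalso
      have h1 := congrArg (fun g : Cfsg.isometryGroup F (Cfsg.quadFormPlus 1 F) =>
        ((g : GL I2 F) : Matrix I2 I2 F)) h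
      simp only [param, Sum.elim_inl, Sum.elim_inr, gD_val, gS_gD_val] at h1
      exact b.ne_zero (M_injective h1).1.symm
    · have h1 := congrArg (fun g : Cfsg.isometryGroup F (Cfsg.quadFormPlus 1 F) =>
        ((g : GL I2 F) : Matrix I2 I2 F)) h
      simp only [param, Sum.elim_inr, gS_gD_val] at h1
      rw [Units.ext (M_injective h1).2.2.1]
  · rintro ⟨g, hg⟩
    rcases classify g hg with ⟨a, rfl⟩ | ⟨a, rfl⟩
    · exact ⟨Sum.inl a, rfl⟩
    · exact ⟨Sum.inr a, rfl⟩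

theorem card_eq [Fintype F] :
    Nat.card (Cfsg.isometryGroup F (Cfsg.quadFormPlus 1 F)) = 2 * (Fintype.card F - 1) := by
  rw [← Nat.card_congr (Equiv.ofBijective _ (param_bijective (F := F))), Nat.card_sum,
    Nat.card_units, Nat.card_eq_fintype_card]
  ring

/-- `gD` as a homomorphism into the isometry group -/
def gDHom : Fˣ →* Cfsg.isometryGroup F (Cfsg.quadFormPlus 1 F) where
  toFun a := ⟨gD a, gD_mem a⟩
  map_one' := Subtype.ext gD_one
  map_mul' a b := Subtype.ext (gD_mul a b)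

theorem main [Fintype F] :
    Nonempty (Cfsg.isometryGroup F (Cfsg.quadFormPlus 1 F) ≃* DihedralGroup (Fintype.card F - 1)) := by
  have hq : 1 < Fintype.card F := Fintype.one_lt_card
  have : NeZero (Fintype.card F - 1) := ⟨by omega⟩
  obtain ⟨ζ, hζ⟩ := IsCyclic.exists_generator (α := Fˣ)
  let s : Cfsg.isometryGroup F (Cfsg.quadFormPlus 1 F) := ⟨gS, gS_mem⟩
  apply Cfsg.Agent.Lib.H22.dihedral_equiv_of_gens (Fintype.card F - 1) (gDHom ζ) s
  · rw [← map_pow]
    have : ζ ^ (Fintype.card F - 1) = 1 := by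
      rw [← Nat.card_eq_fintype_card (α := F), ← Nat.card_units]
      exact pow_card_eq_one'
    rw [this, map_one]
  · exact Subtype.ext gS_mul_gS
  · apply Subtype.ext
    exact gS_gD_gS ζ
  · rw [eq_top_iff]
    rintro ⟨g, hg⟩ _
    have hr : gDHom ζ ∈ Subgroup.closure ({gDHom ζ, s} : Set _) :=
      Subgroup.subset_closure (by simp)
    have hs : s ∈ Subgroup.closure ({gDHom ζ, s} : Set _) :=
      Subgroup.subset_closure (by simp)
    have hD : ∀ a : Fˣ, gDHom a ∈ Subgroup.closure ({gDHom ζ, s} : Set _) := by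
      intro a
      obtain ⟨k, rfl⟩ := Subgroup.mem_zpowers_iff.1 (hζ a)
      rw [map_zpow]
      exact Subgroup.zpow_mem _ hr k
    rcases classify g hg with ⟨a, rfl⟩ | ⟨a, rfl⟩
    · exact hD a
    · exact Subgroup.mul_mem _ hs (hD a)
  · exact card_eq

end Cfsg.Agent.Lib.H2.GOPlus2
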