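import Mathlib
import Cfsg.Prelude.Def_Blocks
import Cfsg.Agent.Lib.H21.AD.Defs
import Cfsg.Agent.Lib.H16.GAGPRIMEIDX
import Cfsg.Agent.Lib.H23.ExtendCyclic
import Cfsg.Agent.Lib.L0.CharLinear
import Cfsg.Agent.Lib.H9.ADCONJ
import Cfsg.Agent.Lib.H28.ADAB

/-!
# S4937, piece (SOL) (helper2): a good twist exists when `J / N` is a solvable `p'`-group

`sol_core` takes the uniqueness statement (KEY) as a hypothesis; `Cfsg/Agent/Lib/H2/ADSOL.lean`
plugs in the landed (KEY).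
-/

set_option autoImplicit false
open Cfsg.Agent.Lib.H21.AD

namespace Cfsg.Agent.Lib.H2.AD


variable {G : Type*} [Group G]

/-- `sSum` only depends on the values on `J`. -/
theorem sSum_congr (p : ℕ) (J : Subgroup G) (f f' : G → ℂ) (h : ∀ g ∈ J, f g = f' g) :
    sSum p J f = sSum p J f' := by
  classical
  unfold sSum
  refine finsum_congr (fun g => ?_)
  by_cases hg : g ∈ J ∧ ¬ p ∣ orderOf g
  · rw [if_pos hg, if_pos hg, h g hg.1]
  · rw [if_neg hg, if_neg hg]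

variable [Finite G]

/-- (A) a solvable nontrivial section `J / N` has a normal subgroup of prime index, pulled back to
subgroups of `G`. -/
theorem exists_sub (N : Subgroup G) [N.Normal] (J : Subgroup G) (hNJ : N ≤ J) (hne : ¬ J ≤ N)
    (hsol : Group.IsSolvable (↥J ⧸ N.subgroupOf J)) :
    ∃ J₁ : Subgroup G, N ≤ J₁ ∧ J₁ ≤ J ∧ (∀ a ∈ J, ∀ b ∈ J₁, a * b * a⁻¹ ∈ J₁) ∧
      (J₁.relIndex J).Prime ∧ (∀ a ∈ J, ∀ b ∈ J, a * b * a⁻¹ * b⁻¹ ∈ J₁) ∧
      Group.IsSolvable (↥J₁ ⧸ N.subgroupOf J₁) := by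
  classical
  have hnt : Nontrivial (↥J ⧸ N.subgroupOf J) := by
    rw [← Finite.one_lt_card_iff_nontrivial]
    have h1 : Nat.card (↥J ⧸ N.subgroupOf J) = N.relIndex J := rfl
    rw [h1]
    have h2 : N.relIndex J ≠ 1 := fun h => hne (Subgroup.relIndex_eq_one.1 h)
    have h3 : N.relIndex J ≠ 0 := by
      show (N.subgroupOf J).index ≠ 0
      exact Subgroup.index_ne_zero_of_finite
    omega
  obtain ⟨K, l, hKn, hl, hK⟩ :=
    Cfsg.Agent.Lib.H16.GAG.exists_normal_prime_index (G := ↥J ⧸ N.subgroupOf J)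
  set J₁' : Subgroup ↥J := K.comap (QuotientGroup.mk' (N.subgroupOf J)) with hJ₁'
  have hJ₁'n : J₁'.Normal := hKn.comap _
  have hidx : J₁'.index = l := by
    rw [hJ₁', Subgroup.index_comap_of_surjective _ (QuotientGroup.mk'_surjective _), hK]
  refine ⟨J₁'.map J.subtype, ?_, ?_, ?_, ?_, ?_, ?_⟩
  · intro n hn
    refine ⟨⟨n, hNJ hn⟩, ?_, rfl⟩
    show QuotientGroup.mk' (N.subgroupOf J) ⟨n, hNJ hn⟩ ∈ K
    have : QuotientGroup.mk' (N.subgroupOf J) ⟨n, hNJ hn⟩ = 1 := by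
      rw [QuotientGroup.mk'_apply, QuotientGroup.eq_one_iff]
      exact hn
    rw [this]
    exact K.one_mem
  · exact Subgroup.map_subtype_le _
  · rintro a ha b ⟨b', hb', rfl⟩
    refine ⟨⟨a, ha⟩ * b' * ⟨a, ha⟩⁻¹, hJ₁'n.conj_mem b' hb' ⟨a, ha⟩, ?_⟩
    simp
  · have h1 : (J₁'.map J.subtype).relIndex J = J₁'.index := by
      unfold Subgroup.relIndex
      congr 1
      exact Subgroup.comap_map_eq_self_of_injective (Subgroup.subtype_injective J) J₁'
    rw [h1, hidx]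
    exact hl
  · intro a ha b hb
    -- the quotient by `J₁'` has prime order, hence is commutative
    have hcard : Nat.card (↥J ⧸ J₁') = l := hidx
    have : Fact l.Prime := ⟨hl⟩
    have hcyc : IsCyclic (↥J ⧸ J₁') := isCyclic_of_prime_card hcard
    have hcomm : ∀ x y : ↥J ⧸ J₁', x * y = y * x := fun x y =>
      (IsCyclic.commGroup (α := ↥J ⧸ J₁')).mul_comm x y
    have hmem : ((⟨a, ha⟩ : ↥J) * ⟨b, hb⟩ * (⟨a, ha⟩ : ↥J)⁻¹ * (⟨b, hb⟩ : ↥J)⁻¹) ∈ J₁' := by
      rw [← QuotientGroup.eq_one_iff]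
      simp only [QuotientGroup.mk_mul, QuotientGroup.mk_inv]
      rw [hcomm (↑(⟨a, ha⟩ : ↥J)) (↑(⟨b, hb⟩ : ↥J))]
      group
    exact ⟨_, hmem, by simp⟩
  · -- solvability of the smaller section
    set J₁ := J₁'.map J.subtype with hJ₁
    have hJ₁J : J₁ ≤ J := Subgroup.map_subtype_le _
    have hle : N.subgroupOf J₁ ≤ (N.subgroupOf J).comap (Subgroup.inclusion hJ₁J) := by
      intro x hx
      exact hx
    let φ : ↥J₁ ⧸ N.subgroupOf J₁ →* ↥J ⧸ N.subgroupOf J :=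
      QuotientGroup.map _ _ (Subgroup.inclusion hJ₁J) hle
    have hφ : Function.Injective φ := by
      rw [injective_iff_map_eq_one]
      intro q
      induction q using QuotientGroup.induction_on with
      | H x =>
        intro hx
        rw [QuotientGroup.map_mk, QuotientGroup.eq_one_iff] at hx
        rw [QuotientGroup.eq_one_iff]
        exact hx
    exact Group.isSolvable_of_isSolvable_injective hφ




/-- (B) an invariant twist extends over a normal subgroup of prime index -/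
theorem exists_twist_ext (N J₁ J : Subgroup G) (hN1 : N ≤ J₁) (h1J : J₁ ≤ J)
    (hnorm : ∀ a ∈ J, ∀ b ∈ J₁, a * b * a⁻¹ ∈ J₁) (hprime : (J₁.relIndex J).Prime)
    (ν₁ : G → ℂ) (hν₁ : IsTwist N J₁ ν₁)
    (hinv : ∀ t ∈ J, ∀ g ∈ J₁, ν₁ (t⁻¹ * g * t) = ν₁ g) :
    ∃ ν' : G → ℂ, IsTwist N J ν' ∧ ∀ g ∈ J₁, ν' g = ν₁ g := by
  classical
  set A : Subgroup ↥J := J₁.subgroupOf J with hA
  have hAn : A.Normal := ⟨fun n hn g => by
      rw [hA, Subgroup.mem_subgroupOf] at hn ⊢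
      simpa using hnorm g g.2 n hn⟩
  have hcyc : IsCyclic (↥J ⧸ A) := by
    have : Fact (J₁.relIndex J).Prime := ⟨hprime⟩
    exact isCyclic_of_prime_card (p := J₁.relIndex J) rfl
  have h1 : ν₁ 1 = 1 := hν₁.2 1 N.one_mem
  have hmemA : ∀ n : ↥A, ((n : ↥J) : G) ∈ J₁ := fun n => Subgroup.mem_subgroupOf.1 n.2
  let f0 : ↥A →* ℂ :=
    { toFun := fun n => ν₁ ((n : ↥J) : G)
      map_one' := h1
      map_mul' := fun a b => hν₁.1 _ (hmemA a) _ (hmemA b) }
  let f : ↥A →* ℂˣ := f0.toHomUnits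
  have hf : ∀ n : ↥A, ((f n : ℂˣ) : ℂ) = ν₁ ((n : ↥J) : G) := fun n => rfl
  have hϑ : Cfsg.IsIrrCharacter ↥A (fun n => ((f n : ℂˣ) : ℂ)) :=
    Cfsg.Agent.Lib.L0.isIrrCharacter_of_hom f
  obtain ⟨χ, hχirr, hχ⟩ := Cfsg.Agent.Lib.H23.exists_extension_of_cyclic A hcyc
    (fun n => ((f n : ℂˣ) : ℂ)) hϑ (by
      intro g n
      rw [hf, hf]
      have := hinv ((g : G)⁻¹) (J.inv_mem g.2) ((n : ↥J) : G) (hmemA n)
      simpa using this)
  have hχ1 : χ 1 = 1 := by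
    have := hχ (1 : ↥A)
    rw [hf] at this
    simpa [h1] using this
  have hχc := Cfsg.Agent.Lib.L0.isCharacter_of_irr hχirr
  have hχmul := Cfsg.Agent.Lib.L0.linear_char_mul hχc hχ1
  refine ⟨fun g => if h : g ∈ J then χ ⟨g, h⟩ else 1, ⟨?_, ?_⟩, ?_⟩
  · intro a ha b hb
    beta_reduce
    rw [dif_pos ha, dif_pos hb, dif_pos (J.mul_mem ha hb)]
    exact hχmul ⟨a, ha⟩ ⟨b, hb⟩
  · intro n hn
    have hnJ : n ∈ J := h1J (hN1 hn)
    beta_reduce
    rw [dif_pos hnJ]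
    have := hχ ⟨⟨n, hnJ⟩, Subgroup.mem_subgroupOf.2 (hN1 hn)⟩
    rw [hf] at this
    rw [this]
    exact hν₁.2 n hn
  · intro g hg
    have hgJ : g ∈ J := h1J hg
    beta_reduce
    rw [dif_pos hgJ]
    have := hχ ⟨⟨g, hgJ⟩, Subgroup.mem_subgroupOf.2 hg⟩
    rw [hf] at this
    exact this


/-- (SOL), with (KEY) as a hypothesis. -/
theorem sol_core {p : ℕ} (N : Subgroup G) [N.Normal]
    (ψ : G → ℂ) (hψ : Cfsg.IsIrrCharacter G ψ)
    (hkey : ∀ (J₁ J₂ : Subgroup G), N ≤ J₁ → J₁ ≤ J₂ → ¬ p ∣ N.relIndex J₂ →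
      ∀ (ν₁ ν₂ : G → ℂ), Good p ψ N J₁ ν₁ → Good p ψ N J₂ ν₂ → ∀ g ∈ J₁, ν₁ g = ν₂ g)
    (hθ : sSum p N ψ ≠ 0) :
    ∀ (n : ℕ) (J : Subgroup G), Nat.card J = n → N ≤ J → ¬ p ∣ N.relIndex J →
      Group.IsSolvable (↥J ⧸ N.subgroupOf J) → ∃ ν : G → ℂ, Good p ψ N J ν := by
  intro n
  induction n using Nat.strong_induction_on with
  | _ n ih =>
    intro J hcard hNJ hp hsol
    by_cases hJN : J ≤ N
    · -- `J = N`
      have hJ : J = N := le_antisymm hJN hNJ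
      subst hJ
      refine ⟨fun _ => 1, ⟨fun _ _ _ _ => by simp, fun _ _ => rfl⟩, ?_⟩
      rw [sSum_congr p J (fun g => ψ g * 1) ψ (fun g _ => mul_one _)]
      exact hθ
    · obtain ⟨J₁, hN1, h1J, hnorm, hprime, hab, hsol₁⟩ := exists_sub N J hNJ hJN hsol
      -- `J₁` is smaller
      have hmul : N.relIndex J₁ * J₁.relIndex J = N.relIndex J :=
        Subgroup.relIndex_mul_relIndex N J₁ J hN1 h1J
      have hp₁ : ¬ p ∣ N.relIndex J₁ := fun h => hp (hmul ▸ Dvd.dvd.mul_right h _)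
      have hlt : Nat.card J₁ < Nat.card J := by
        have h1 : J₁.relIndex J * Nat.card J₁ = Nat.card J := by
          have := Subgroup.relIndex_mul_relIndex ⊥ J₁ J bot_le h1J
          rw [Subgroup.relIndex_bot_left, Subgroup.relIndex_bot_left] at this
          rw [mul_comm]
          exact this
        have h2 : 2 ≤ J₁.relIndex J := hprime.two_le
        have h3 : 0 < Nat.card J₁ := Nat.card_pos
        nlinarith
      obtain ⟨ν₁, hgood₁⟩ := ih (Nat.card J₁) (hcard ▸ hlt) J₁ rfl hN1 hp₁ hsol₁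
      -- `ν₁` is `J`-invariant
      have hclass : Cfsg.IsClassFunction G ψ :=
        Cfsg.Agent.Lib.L0.isClassFunction_of_isCharacter (Cfsg.Agent.Lib.L0.isCharacter_of_irr hψ)
      have hinv : ∀ t ∈ J, ∀ g ∈ J₁, ν₁ (t⁻¹ * g * t) = ν₁ g := by
        intro t ht
        have hg := Cfsg.Agent.Lib.H9.AD.good_conj p N ψ hclass J₁ ν₁ hgood₁ t
        have hmap : J₁.map (MulAut.conj t).toMonoidHom = J₁ := by
          ext x
          constructor
          · rintro ⟨y, hy, rfl⟩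
            exact hnorm t ht y hy
          · intro hx
            refine ⟨t⁻¹ * x * t, ?_, ?_⟩
            · have := hnorm t⁻¹ (J.inv_mem ht) x hx
              simpa using this
            · simp [MulAut.conj_apply, mul_assoc]
        rw [hmap] at hg
        exact hkey J₁ J₁ hN1 le_rfl hp₁ _ ν₁ hg hgood₁
      -- extend to `J`
      obtain ⟨ν', hν', hν'1⟩ := exists_twist_ext N J₁ J hN1 h1J hnorm hprime ν₁ hgood₁.1 hinv
      -- correct by a twist of `J / J₁`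
      have hf : sSum p J₁ (fun g => ψ g * ν' g) ≠ 0 := by
        rw [sSum_congr p J₁ (fun g => ψ g * ν' g) (fun g => ψ g * ν₁ g)
          (fun g hg => by rw [hν'1 g hg])]
        exact hgood₁.2
      obtain ⟨μ, hμ, hμs⟩ := Cfsg.Agent.Lib.H28.AD.ab p J₁ J h1J hnorm hab
        (fun g => ψ g * ν' g) hf
      refine ⟨fun g => ν' g * μ g, ⟨?_, ?_⟩, ?_⟩
      · intro a ha b hb
        show ν' (a * b) * μ (a * b) = ν' a * μ a * (ν' b * μ b)
        rw [hν'.1 a ha b hb, hμ.1 a ha b hb]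
        ring
      · intro x hx
        show ν' x * μ x = 1
        rw [hν'.2 x hx, hμ.2 x (hN1 hx), mul_one]
      · rw [sSum_congr p J (fun g => ψ g * (ν' g * μ g)) (fun g => ψ g * ν' g * μ g)
          (fun g _ => (mul_assoc _ _ _).symm)]
        exact hμs

end Cfsg.Agent.Lib.H2.AD
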