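import Cfsg.Agent.Lib.H2.ADSOLCore
import Cfsg.Agent.Lib.H5.ADKEY

/-!
# S4937, piece (SOL) (helper2): exact signature of `tools/blueprints/S4937_sigs.lean`
-/

set_option autoImplicit false
open Cfsg.Agent.Lib.H21.AD

namespace Cfsg.Agent.Lib.H2.AD

variable {G : Type*} [Group G] [Finite G] {p : ℕ} {M : Ideal Cfsg.AlgInt}

/-- (SOL) solvable `p'`-quotient: a good twist exists -/
theorem sol (hM : Cfsg.IsPModular p M) (N : Subgroup G) [N.Normal] (Q : Subgroup G) (hQN : Q ≤ N)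
    (hQ : ¬ p ∣ Q.relIndex N)
    (hcov : ∀ g : G, ∃ n ∈ N, ∃ c ∈ Subgroup.centralizer (Q : Set G), g = n * c)
    (ψ : G → ℂ) (hψ : Cfsg.IsIrrCharacter G ψ) (hψN : Cfsg.IsIrrCharacter N (fun n : N => ψ n))
    (hθ : sSum p N ψ ≠ 0)
    (J : Subgroup G) (hNJ : N ≤ J) (hp : ¬ p ∣ N.relIndex J)
    (hsol : Group.IsSolvable (↥J ⧸ N.subgroupOf J)) :
    ∃ ν : G → ℂ, Good p ψ N J ν :=
  sol_core N ψ hψ
    (fun J₁ J₂ hN1 h12 hp2 ν₁ ν₂ h₁ h₂ =>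
      Cfsg.Agent.Lib.H5.AD.key hM N Q hQN hQ hcov ψ hψ hψN J₁ J₂ hN1 h12 hp2 ν₁ ν₂ h₁ h₂)
    hθ (Nat.card J) J rfl hNJ hp hsol

end Cfsg.Agent.Lib.H2.AD
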