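/-
helper2: finite-field facts FF1, FF2, FF3 of the S5658 farm-out (helper10, tools/blueprints/S5658_sigs.lean).
-/
import Mathlib

set_option autoImplicit false

namespace Cfsg.Agent.Lib.H2.SuSub

variable {F : Type*} [Field F] [Fintype F] {q : ℕ} (φ : F →+* F)

section aux

variable {F₀ : Subfield F} {q₀ : ℕ}

theorem ff_pow_card_of_mem (hF₀ : Nat.card ↥F₀ = q₀) {y : F} (hy : y ∈ F₀) : y ^ q₀ = y := by
  have : Fintype ↥F₀ := Fintype.ofFinite _
  have h := FiniteField.pow_card (⟨y, hy⟩ : ↥F₀)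
  rw [← Nat.card_eq_fintype_card, hF₀] at h
  exact congrArg Subtype.val h

theorem ff_one_lt_card_sub (hF₀ : Nat.card ↥F₀ = q₀) : 1 < q₀ := by
  have : Fintype ↥F₀ := Fintype.ofFinite _
  rw [← hF₀, Nat.card_eq_fintype_card]
  exact Fintype.one_lt_card

/-- the fixed field of the Frobenius of a subfield is the subfield -/
theorem ff_mem_of_pow_card (hF₀ : Nat.card ↥F₀ = q₀) {y : F} (hy : y ^ q₀ = y) : y ∈ F₀ := by
  classical
  have hq₀ : 1 < q₀ := ff_one_lt_card_sub hF₀
  have : Fintype ↥F₀ := Fintype.ofFinite _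
  set P : Polynomial F := Polynomial.X ^ q₀ - Polynomial.X with hP
  have hdeg : P.natDegree = q₀ := FiniteField.X_pow_card_sub_X_natDegree_eq F hq₀
  have hP0 : P ≠ 0 := FiniteField.X_pow_card_sub_X_ne_zero F hq₀
  set S : Finset F := (Finset.univ : Finset ↥F₀).image Subtype.val with hS
  have hScard : S.card = q₀ := by
    rw [hS, Finset.card_image_of_injective _ Subtype.val_injective, Finset.card_univ,
      ← Nat.card_eq_fintype_card, hF₀]
  have hroot : ∀ z : F, z ^ q₀ = z → z ∈ P.roots.toFinset := by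
    intro z hz
    rw [Multiset.mem_toFinset, Polynomial.mem_roots hP0, Polynomial.IsRoot.def, hP,
      Polynomial.eval_sub, Polynomial.eval_pow, Polynomial.eval_X, hz, sub_self]
  have hsub : S ⊆ P.roots.toFinset := by
    intro z hz
    rw [hS, Finset.mem_image] at hz
    obtain ⟨w, -, rfl⟩ := hz
    exact hroot _ (ff_pow_card_of_mem hF₀ w.2)
  have hle : P.roots.toFinset.card ≤ S.card := by
    rw [hScard, ← hdeg]
    exact le_trans (Multiset.toFinset_card_le _) (Polynomial.card_roots' P)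
  have heq := Finset.eq_of_subset_of_card_le hsub hle
  have hy' := hroot y hy
  rw [← heq, hS, Finset.mem_image] at hy'
  obtain ⟨w, -, rfl⟩ := hy'
  exact w.2

/-- the Frobenius `y ↦ y ^ q₀` of a subfield with `q₀` elements, as a ring homomorphism -/
theorem ff_exists_frob (hF₀ : Nat.card ↥F₀ = q₀) : ∃ σ : F →+* F, ∀ y, σ y = y ^ q₀ := by
  obtain ⟨p, hp⟩ := CharP.exists F
  have := hp
  have hpp : p.Prime := (CharP.char_is_prime_or_zero F p).resolve_right (CharP.char_ne_zero_of_finite F p)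
  have := Fact.mk hpp
  have : Fintype ↥F₀ := Fintype.ofFinite _
  have : CharP ↥F₀ p := RingHom.charP F₀.subtype F₀.subtype.injective p
  obtain ⟨e, -, he⟩ := FiniteField.card ↥F₀ p
  rw [← Nat.card_eq_fintype_card, hF₀] at he
  refine ⟨iterateFrobenius F p e, fun y => ?_⟩
  rw [iterateFrobenius_def, he]

end aux

/-- **FF1** field facts (r odd): `φ` does not fix `F₀` pointwise. -/
theorem exists_not_fixed (hF : Fintype.card F = q ^ 2) (hφ : ∀ x, φ x = x ^ q)
    {F₀ : Subfield F} {r : ℕ} (hro : Odd r) (hcard : Fintype.card F = Nat.card F₀ ^ r) :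
    ∃ ω ∈ F₀, φ ω ≠ ω := by
  classical
  by_contra hcon
  push Not at hcon
  have : Fintype ↥F₀ := Fintype.ofFinite _
  obtain ⟨q₀, hq₀⟩ : ∃ q₀, Nat.card ↥F₀ = q₀ := ⟨_, rfl⟩
  rw [hq₀] at hcard
  have hq₀1 : 1 < q₀ := ff_one_lt_card_sub hq₀
  have hr0 : r ≠ 0 := by
    rintro rfl
    exact (Nat.not_odd_iff_even.2 (by decide : Even 0)) hro
  obtain ⟨p, hp⟩ := CharP.exists F
  have := hp
  have hpp : p.Prime := (CharP.char_is_prime_or_zero F p).resolve_right (CharP.char_ne_zero_of_finite F p)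
  have := Fact.mk hpp
  obtain ⟨m, -, hm⟩ := FiniteField.card F p
  have hq0dvd : q₀ ∣ p ^ (m : ℕ) := by
    rw [← hm, hcard]; exact dvd_pow_self _ hr0
  obtain ⟨a, -, ha⟩ := (Nat.dvd_prime_pow hpp).1 hq0dvd
  have hqdvd : q ∣ p ^ (m : ℕ) := by
    rw [← hm, hF]; exact dvd_pow_self _ two_ne_zero
  obtain ⟨b, -, hb⟩ := (Nat.dvd_prime_pow hpp).1 hqdvd
  have hexp : a * r = 2 * b := by
    have h1 : p ^ (a * r) = p ^ (2 * b) := by
      rw [pow_mul, ← ha, ← hcard, hF, hb, ← pow_mul, mul_comm]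
    exact Nat.pow_right_injective hpp.two_le h1
  have ha0 : a ≠ 0 := by
    rintro rfl
    rw [pow_zero] at ha
    omega
  -- a generator of the unit group of F₀
  obtain ⟨g, hg⟩ := IsCyclic.exists_generator (α := (↥F₀)ˣ)
  have hord : orderOf g = q₀ - 1 := by
    rw [orderOf_eq_card_of_forall_mem_zpowers hg, Nat.card_eq_fintype_card, Fintype.card_units,
      ← Nat.card_eq_fintype_card, hq₀]
  have hq1 : 1 ≤ q := by
    rcases Nat.eq_zero_or_pos q with h | h
    · subst h
      rw [zero_pow two_ne_zero] at hF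
      exact absurd hF Fintype.card_ne_zero
    · exact h
  have hgq : g ^ (q - 1) = 1 := by
    have h1 : ((g : ↥F₀) : F) ^ q = ((g : ↥F₀) : F) := by
      rw [← hφ]; exact hcon _ (g : ↥F₀).2
    have h2 : ((g : ↥F₀) : F) ≠ 0 := by
      intro h
      have : (g : ↥F₀) = 0 := Subtype.ext h
      exact g.ne_zero this
    have h3 : ((g : ↥F₀) : F) ^ (q - 1) = 1 := by
      have h4 : ((g : ↥F₀) : F) ^ (q - 1) * ((g : ↥F₀) : F) = 1 * ((g : ↥F₀) : F) := by
        rw [← pow_succ, Nat.sub_add_cancel hq1, h1, one_mul]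
      exact mul_right_cancel₀ h2 h4
    apply Units.ext
    apply Subtype.ext
    rw [Units.val_pow_eq_pow_val, SubmonoidClass.coe_pow, h3]
    rfl
  have hdvd : q₀ - 1 ∣ q - 1 := by
    rw [← hord]; exact orderOf_dvd_of_pow_eq_one hgq
  rw [ha, hb] at hdvd
  have hmod := Nat.pow_sub_one_mod_pow_sub_one p a b
  rw [Nat.mod_eq_zero_of_dvd hdvd] at hmod
  have hba : b % a = 0 := by
    by_contra hne
    have : 1 < p ^ (b % a) := Nat.one_lt_pow hne hpp.one_lt
    omega
  obtain ⟨c, hc⟩ := Nat.dvd_of_mod_eq_zero hba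
  rw [hc] at hexp
  have hrc : r = 2 * c := by
    have h5 : a * r = a * (2 * c) := by rw [hexp]; ring
    exact Nat.eq_of_mul_eq_mul_left (Nat.pos_of_ne_zero ha0) h5
  exact (Nat.not_odd_iff_even.2 ⟨c, by omega⟩) hro

/-- **FF3** no quadratic subextension: a root in `F` of a monic quadratic over `F₀` lies in `F₀`. -/
theorem mem_of_quadratic {F₀ : Subfield F} {r : ℕ} (hro : Odd r)
    (hcard : Fintype.card F = Nat.card F₀ ^ r) {x t d : F} (ht : t ∈ F₀) (hd : d ∈ F₀)
    (hx : x * x - t * x + d = 0) : x ∈ F₀ := by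
  obtain ⟨q₀, hq₀⟩ : ∃ q₀, Nat.card ↥F₀ = q₀ := ⟨_, rfl⟩
  rw [hq₀] at hcard
  obtain ⟨σ, hσ⟩ := ff_exists_frob hq₀
  apply ff_mem_of_pow_card hq₀
  rw [← hσ]
  have hσt : σ t = t := by rw [hσ]; exact ff_pow_card_of_mem hq₀ ht
  have hσd : σ d = d := by rw [hσ]; exact ff_pow_card_of_mem hq₀ hd
  have hx' : σ x * σ x - t * σ x + d = 0 := by
    have := congrArg σ hx
    rw [map_add, map_sub, map_mul, map_mul, map_zero, hσt, hσd] at this
    exact this
  have hprod : (σ x - x) * (σ x + x - t) = 0 := by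
    linear_combination hx' - hx
  rcases mul_eq_zero.1 hprod with h | h
  · exact sub_eq_zero.1 h
  · have hσx : σ x = t - x := by linear_combination h
    have hσσ : σ (σ x) = x := by
      rw [hσx, map_sub, hσt, hσx]; ring
    have hiter : ∀ j : ℕ, σ^[j] x = x ^ (q₀ ^ j) := by
      intro j
      induction j with
      | zero => simp
      | succ j ih =>
        rw [Function.iterate_succ_apply', ih, hσ, ← pow_mul, ← pow_succ]
    have heven : ∀ k : ℕ, σ^[2 * k] x = x := by
      intro k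
      induction k with
      | zero => simp
      | succ k ih =>
        have : 2 * (k + 1) = 2 * k + 2 := by ring
        rw [this, Function.iterate_add_apply]
        have h2 : σ^[2] x = x := by
          show σ (σ x) = x
          exact hσσ
        rw [h2, ih]
    obtain ⟨k, rfl⟩ := hro
    have h1 : σ^[2 * k + 1] x = σ x := by
      rw [Function.iterate_succ_apply', heven]
    have h2 : σ^[2 * k + 1] x = x := by
      rw [hiter, ← hcard, FiniteField.pow_card]
    rw [← h1, h2]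

/-- **FF2** three distinct elements of norm -1 in `F₀`. -/
theorem exists_three_norm (hφ2 : ∀ x, φ (φ x) = x) (hφ : ∀ x, φ x = x ^ q) {F₀ : Subfield F}
    {ω : F} (hω : ω ∈ F₀) (hω' : φ ω ≠ ω) :
    ∃ ζ₁ ζ₂ ζ₃ : F, ζ₁ ∈ F₀ ∧ ζ₂ ∈ F₀ ∧ ζ₃ ∈ F₀ ∧ ζ₁ * φ ζ₁ = -1 ∧ ζ₂ * φ ζ₂ = -1 ∧
      ζ₃ * φ ζ₃ = -1 ∧ ζ₁ ≠ ζ₂ ∧ ζ₁ ≠ ζ₃ ∧ ζ₂ ≠ ζ₃ := by
  classical
  have hφmem : ∀ y ∈ F₀, φ y ∈ F₀ := fun y hy => by rw [hφ]; exact pow_mem hy q
  -- one element of norm -1
  have hone : ∃ ζ ∈ F₀, ζ * φ ζ = -1 := by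
    by_cases h2 : (2 : F) = 0
    · refine ⟨1, one_mem _, ?_⟩
      rw [map_one, one_mul]
      linear_combination h2
    · set θ : F := ω - φ ω with hθ
      have hθ0 : θ ≠ 0 := fun h => hω' (sub_eq_zero.1 h).symm
      have hθmem : θ ∈ F₀ := sub_mem hω (hφmem _ hω)
      have hφθ : φ θ = -θ := by
        rw [hθ, map_sub, hφ2]; ring
      -- the fixed subfield
      set E₀ : Subfield F := F₀ ⊓ RingHom.eqLocusField φ (RingHom.id F) with hE₀
      have hmemE : ∀ y, y ∈ E₀ ↔ y ∈ F₀ ∧ φ y = y := by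
        intro y
        rw [hE₀, Subfield.mem_inf]
        rfl
      have hcE : θ ^ 2 ∈ E₀ := by
        rw [hmemE]
        refine ⟨pow_mem hθmem 2, ?_⟩
        rw [map_pow, hφθ]; ring
      have : Fintype ↥E₀ := Fintype.ofFinite _
      have hodd : Fintype.card ↥E₀ % 2 = 1 := by
        apply FiniteField.odd_card_of_char_ne_two
        intro h
        have : CharP ↥E₀ 2 := by
          have := ringChar.charP ↥E₀
          rwa [h] at this
        have h3 : (1 + 1 : ↥E₀) = 0 := CharTwo.add_self_eq_zero 1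
        apply h2
        have h4 : ((1 + 1 : ↥E₀) : F) = ((0 : ↥E₀) : F) := congrArg Subtype.val h3
        rw [Subfield.coe_add, Subfield.coe_one, Subfield.coe_zero] at h4
        linear_combination h4
      set c' : ↥E₀ := ⟨θ ^ 2, hcE⟩ with hc'
      have hc'0 : c' ≠ 0 := by
        intro h
        have := congrArg Subtype.val h
        simp only [hc'] at this
        exact hθ0 (pow_eq_zero_iff two_ne_zero |>.1 this)
      obtain ⟨a, b, hab⟩ := FiniteField.exists_root_sum_quadratic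
        (f := (Polynomial.X ^ 2 + Polynomial.C (1 : ↥E₀)))
        (g := Polynomial.C (-c') * Polynomial.X ^ 2)
        (by rw [Polynomial.degree_X_pow_add_C (by norm_num)]; rfl)
        (by rw [Polynomial.degree_C_mul_X_pow _ (neg_ne_zero.2 hc'0)]; rfl) hodd
      simp only [Polynomial.eval_add, Polynomial.eval_pow, Polynomial.eval_X, Polynomial.eval_C,
        Polynomial.eval_mul] at hab
      have hab' : (a : F) ^ 2 + 1 + (-(θ ^ 2)) * (b : F) ^ 2 = 0 := by
        have := congrArg Subtype.val hab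
        simpa [hc'] using this
      have ha := (hmemE _).1 a.2
      have hb := (hmemE _).1 b.2
      refine ⟨(a : F) + (b : F) * θ, add_mem ha.1 (mul_mem hb.1 hθmem), ?_⟩
      rw [map_add, map_mul, ha.2, hb.2, hφθ]
      linear_combination hab'
  obtain ⟨ζ, hζmem, hζ⟩ := hone
  have hζ0 : ζ ≠ 0 := by
    rintro rfl
    rw [zero_mul] at hζ
    exact one_ne_zero (neg_eq_zero.1 hζ.symm)
  have hω0 : ω ≠ 0 := by
    rintro rfl
    exact hω' (map_zero φ)
  have hφω0 : φ ω ≠ 0 := by
    intro h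
    apply hω0
    rw [← hφ2 ω, h, map_zero]
  have h1φ : 1 + φ ω ≠ 0 := by
    intro h
    have h1 : φ ω = -1 := by linear_combination h
    have h2 : ω = -1 := by
      rw [← hφ2 ω, h1, map_neg, map_one]
    exact hω' (by rw [h1, h2])
  have h1ω : 1 + ω ≠ 0 := by
    intro h
    apply h1φ
    have := congrArg φ h
    rwa [map_add, map_one, map_zero] at this
  set u : F := ω / φ ω with hu
  set u' : F := (1 + ω) / (1 + φ ω) with hu'
  have humem : u ∈ F₀ := div_mem hω (hφmem _ hω)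
  have hu'mem : u' ∈ F₀ := div_mem (add_mem (one_mem _) hω) (add_mem (one_mem _) (hφmem _ hω))
  have hNu : u * φ u = 1 := by
    rw [hu, map_div₀, hφ2]
    field_simp
  have hNu' : u' * φ u' = 1 := by
    rw [hu', map_div₀, map_add, map_add, map_one, hφ2]
    field_simp
  have hu1 : u ≠ 1 := by
    intro h
    rw [hu, div_eq_one_iff_eq hφω0] at h
    exact hω' h.symm
  have hu'1 : u' ≠ 1 := by
    intro h
    rw [hu', div_eq_one_iff_eq h1φ] at h
    exact hω' (by linear_combination -h)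
  have huu' : u ≠ u' := by
    intro h
    rw [hu, hu', div_eq_div_iff hφω0 h1φ] at h
    exact hω' (by linear_combination -h)
  refine ⟨ζ, ζ * u, ζ * u', hζmem, mul_mem hζmem humem, mul_mem hζmem hu'mem, hζ, ?_, ?_, ?_, ?_, ?_⟩
  · rw [map_mul]
    linear_combination (u * φ u) * hζ - hNu
  · rw [map_mul]
    linear_combination (u' * φ u') * hζ - hNu'
  · intro h
    apply hu1
    have : ζ * 1 = ζ * u := by rw [mul_one]; exact h
    exact (mul_left_cancel₀ hζ0 this).symm
  · intro h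
    apply hu'1
    have : ζ * 1 = ζ * u' := by rw [mul_one]; exact h
    exact (mul_left_cancel₀ hζ0 this).symm
  · intro h
    exact huu' (mul_left_cancel₀ hζ0 h)

end Cfsg.Agent.Lib.H2.SuSub
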