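import Mathlib

/-!
# Spectrum of `PSL(3,3)`: `{1,2,3,4,6,8,13}`
-/

set_option autoImplicit false

namespace Cfsg.Agent.Lib.H2.Spec

open Matrix hiding SpecialLinearGroup
open Matrix (SpecialLinearGroup)

/-- Ring isomorphisms induce isomorphisms of special linear groups. -/
noncomputable def slEquiv {n : Type*} [DecidableEq n] [Fintype n] {R S : Type*} [CommRing R]
    [CommRing S] (e : R ≃+* S) : SpecialLinearGroup n R ≃* SpecialLinearGroup n S :=
  { toFun := SpecialLinearGroup.map (e : R →+* S)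
    invFun := SpecialLinearGroup.map (e.symm : S →+* R)
    left_inv := fun g => by
      apply Subtype.ext
      ext i j
      show e.symm (e (g i j)) = g i j
      simp
    right_inv := fun g => by
      apply Subtype.ext
      ext i j
      show e (e.symm (g i j)) = g i j
      simp
    map_mul' := fun x y => map_mul _ x y }

theorem range_orderOf_mulEquiv {G H : Type*} [Group G] [Group H] (e : G ≃* H) :
    Set.range (orderOf : G → ℕ) = Set.range (orderOf : H → ℕ) := by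
  ext k
  constructor
  · rintro ⟨g, rfl⟩
    exact ⟨e g, (MulEquiv.orderOf_eq e g)⟩
  · rintro ⟨h, rfl⟩
    exact ⟨e.symm h, (MulEquiv.orderOf_eq e.symm h)⟩

/-- If the centre is trivial, the quotient by the centre has the same spectrum. -/
theorem range_orderOf_quot_center {G : Type*} [Group G] (h : Subgroup.center G = ⊥) :
    Set.range (orderOf : G ⧸ Subgroup.center G → ℕ) = Set.range (orderOf : G → ℕ) := by
  have hinj : Function.Injective (QuotientGroup.mk' (Subgroup.center G)) := by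
    rw [← MonoidHom.ker_eq_bot_iff, QuotientGroup.ker_mk', h]
  ext k
  constructor
  · rintro ⟨x, rfl⟩
    obtain ⟨g, rfl⟩ := QuotientGroup.mk'_surjective _ x
    exact ⟨g, (orderOf_injective _ hinj g).symm⟩
  · rintro ⟨g, rfl⟩
    exact ⟨QuotientGroup.mk' _ g, orderOf_injective _ hinj g⟩

/-- Cayley–Hamilton for `3 × 3` matrices, explicitly. -/
theorem cayley3 {R : Type*} [CommRing R] (M : Matrix (Fin 3) (Fin 3) R) :
    M * M * M = (M 0 0 + M 1 1 + M 2 2) • (M * M)
      - (M 0 0 * M 1 1 - M 0 1 * M 1 0 + M 0 0 * M 2 2 - M 0 2 * M 2 0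
          + M 1 1 * M 2 2 - M 1 2 * M 2 1) • M + M.det • (1 : Matrix (Fin 3) (Fin 3) R) := by
  ext i j
  fin_cases i <;> fin_cases j <;>
    simp [Matrix.mul_apply, Fin.sum_univ_three, Matrix.det_fin_three] <;> ring

/-- Coefficients of `X^n` modulo `X^3 - t X^2 + s X - 1`. -/
def cf {R : Type*} [CommRing R] (t s : R) : ℕ → R × R × R
  | 0 => (1, 0, 0)
  | n + 1 => ((cf t s n).2.2, (cf t s n).1 - s * (cf t s n).2.2,
      (cf t s n).2.1 + t * (cf t s n).2.2)

theorem pow_eq_cf {R : Type*} [CommRing R] (M : Matrix (Fin 3) (Fin 3) R) (hM : M.det = 1)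
    (n : ℕ) :
    M ^ n = (cf (M 0 0 + M 1 1 + M 2 2)
        (M 0 0 * M 1 1 - M 0 1 * M 1 0 + M 0 0 * M 2 2 - M 0 2 * M 2 0
          + M 1 1 * M 2 2 - M 1 2 * M 2 1) n).1 • (1 : Matrix (Fin 3) (Fin 3) R)
      + (cf (M 0 0 + M 1 1 + M 2 2)
        (M 0 0 * M 1 1 - M 0 1 * M 1 0 + M 0 0 * M 2 2 - M 0 2 * M 2 0
          + M 1 1 * M 2 2 - M 1 2 * M 2 1) n).2.1 • M
      + (cf (M 0 0 + M 1 1 + M 2 2)
        (M 0 0 * M 1 1 - M 0 1 * M 1 0 + M 0 0 * M 2 2 - M 0 2 * M 2 0
          + M 1 1 * M 2 2 - M 1 2 * M 2 1) n).2.2 • (M * M) := by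
  have hC := cayley3 M
  rw [hM] at hC
  set t := M 0 0 + M 1 1 + M 2 2
  set s := M 0 0 * M 1 1 - M 0 1 * M 1 0 + M 0 0 * M 2 2 - M 0 2 * M 2 0
          + M 1 1 * M 2 2 - M 1 2 * M 2 1
  induction n with
  | zero => simp [cf]
  | succ n ih =>
    rw [pow_succ, ih]
    simp only [cf]
    simp only [add_mul, Matrix.smul_mul, one_mul, hC]
    module

theorem cf_zmod3 : ∀ t s : ZMod 3,
    cf t s 6 = (1, 0, 0) ∨ cf t s 8 = (1, 0, 0) ∨ cf t s 13 = (1, 0, 0) := by
  decide

theorem sl3_pow_cases (g : SpecialLinearGroup (Fin 3) (ZMod 3)) :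
    g ^ 6 = 1 ∨ g ^ 8 = 1 ∨ g ^ 13 = 1 := by
  have key : ∀ n, cf ((g : Matrix (Fin 3) (Fin 3) (ZMod 3)) 0 0 + g 1 1 + g 2 2)
        (g 0 0 * g 1 1 - g 0 1 * g 1 0 + g 0 0 * g 2 2 - g 0 2 * g 2 0
          + g 1 1 * g 2 2 - g 1 2 * g 2 1) n = (1, 0, 0) → g ^ n = 1 := by
    intro n hn
    apply Subtype.ext
    rw [Matrix.SpecialLinearGroup.coe_pow, pow_eq_cf _ g.2 n, hn]
    simp
  rcases cf_zmod3 _ _ with h | h | h
  · exact Or.inl (key _ h)
  · exact Or.inr (Or.inl (key _ h))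
  · exact Or.inr (Or.inr (key _ h))

theorem sl3_orderOf_mem (g : SpecialLinearGroup (Fin 3) (ZMod 3)) :
    orderOf g ∈ ({1, 2, 3, 4, 6, 8, 13} : Set ℕ) := by
  rcases sl3_pow_cases g with h | h | h
  · have h1 : orderOf g ∈ Nat.divisors 6 := Nat.mem_divisors.2 ⟨orderOf_dvd_of_pow_eq_one h, by norm_num⟩
    have h2 : Nat.divisors 6 = {1, 2, 3, 6} := by decide
    rw [h2] at h1
    simp only [Finset.mem_insert, Finset.mem_singleton] at h1
    rcases h1 with h1 | h1 | h1 | h1 <;> simp [h1]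
  · have h1 : orderOf g ∈ Nat.divisors 8 := Nat.mem_divisors.2 ⟨orderOf_dvd_of_pow_eq_one h, by norm_num⟩
    have h2 : Nat.divisors 8 = {1, 2, 4, 8} := by decide
    rw [h2] at h1
    simp only [Finset.mem_insert, Finset.mem_singleton] at h1
    rcases h1 with h1 | h1 | h1 | h1 <;> simp [h1]
  · have h1 : orderOf g ∈ Nat.divisors 13 := Nat.mem_divisors.2 ⟨orderOf_dvd_of_pow_eq_one h, by norm_num⟩
    have h2 : Nat.divisors 13 = {1, 13} := by decide
    rw [h2] at h1
    simp only [Finset.mem_insert, Finset.mem_singleton] at h1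
    rcases h1 with h1 | h1 <;> simp [h1]

def m2 : SpecialLinearGroup (Fin 3) (ZMod 3) := ⟨!![2,0,0;0,2,0;0,0,1], by decide⟩
def m3 : SpecialLinearGroup (Fin 3) (ZMod 3) := ⟨!![1,1,0;0,1,0;0,0,1], by decide⟩
def m4 : SpecialLinearGroup (Fin 3) (ZMod 3) := ⟨!![0,1,0;2,0,0;0,0,1], by decide⟩
def m6 : SpecialLinearGroup (Fin 3) (ZMod 3) := ⟨!![2,1,0;0,2,0;0,0,1], by decide⟩
def m8 : SpecialLinearGroup (Fin 3) (ZMod 3) := ⟨!![0,1,0;1,1,0;0,0,2], by decide⟩
def m13 : SpecialLinearGroup (Fin 3) (ZMod 3) := ⟨!![0,0,1;1,0,1;0,1,0], by decide⟩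

theorem orderOf_m2 : orderOf m2 = 2 :=
  orderOf_eq_prime (by decide +kernel) (by decide +kernel)
theorem orderOf_m3 : orderOf m3 = 3 :=
  orderOf_eq_prime (by decide +kernel) (by decide +kernel)
theorem orderOf_m4 : orderOf m4 = 4 :=
  orderOf_eq_prime_pow (p := 2) (n := 1) (by decide +kernel) (by decide +kernel)
theorem orderOf_m6 : orderOf m6 = 6 := by
  apply orderOf_eq_of_pow_and_pow_div_prime (by norm_num) (by decide +kernel)
  intro p hp hd
  have hle : p ≤ 6 := Nat.le_of_dvd (by norm_num) hd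
  interval_cases p <;> first | (exfalso; revert hp; norm_num; done) | (exfalso; revert hd; norm_num; done) | decide +kernel
theorem orderOf_m8 : orderOf m8 = 8 :=
  orderOf_eq_prime_pow (p := 2) (n := 2) (by decide +kernel) (by decide +kernel)
theorem orderOf_m13 : orderOf m13 = 13 :=
  haveI : Fact (Nat.Prime 13) := ⟨by norm_num⟩
  orderOf_eq_prime (by decide +kernel) (by decide +kernel)

theorem sl3_spectrum :
    Set.range (orderOf : SpecialLinearGroup (Fin 3) (ZMod 3) → ℕ) = {1, 2, 3, 4, 6, 8, 13} := by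
  apply Set.Subset.antisymm
  · rintro _ ⟨g, rfl⟩
    exact sl3_orderOf_mem g
  · intro k hk
    simp only [Set.mem_insert_iff, Set.mem_singleton_iff] at hk
    rcases hk with rfl | rfl | rfl | rfl | rfl | rfl | rfl
    · exact ⟨1, orderOf_one⟩
    · exact ⟨m2, orderOf_m2⟩
    · exact ⟨m3, orderOf_m3⟩
    · exact ⟨m4, orderOf_m4⟩
    · exact ⟨m6, orderOf_m6⟩
    · exact ⟨m8, orderOf_m8⟩
    · exact ⟨m13, orderOf_m13⟩

theorem sl3_center_eq_bot {F : Type*} [Field F] [Fintype F] (hF : Fintype.card F = 3) :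
    Subgroup.center (SpecialLinearGroup (Fin 3) F) = ⊥ := by
  rw [eq_bot_iff]
  intro A hA
  rw [Matrix.SpecialLinearGroup.mem_center_iff] at hA
  obtain ⟨r, hr, hA⟩ := hA
  have h3 : r ^ 3 = r := by
    have := FiniteField.pow_card r
    rwa [hF] at this
  rw [Fintype.card_fin, h3] at hr
  rw [Subgroup.mem_bot]
  apply Subtype.ext
  rw [← hA, hr]
  simp

/-- The spectrum of `PSL(3,3)`. -/
theorem psl3_spectrum {F : Type*} [Field F] [Fintype F] (hF : Fintype.card F = 3) :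
    Set.range (orderOf : Matrix.ProjectiveSpecialLinearGroup (Fin 3) F → ℕ)
      = {1, 2, 3, 4, 6, 8, 13} := by
  have h1 := range_orderOf_quot_center (sl3_center_eq_bot hF)
  have h2 := range_orderOf_mulEquiv
    (slEquiv (n := Fin 3) (ZMod.ringEquivOfPrime F Nat.prime_three hF))
  rw [← sl3_spectrum, h2]
  exact h1

end Cfsg.Agent.Lib.H2.Spec
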