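import Mathlib
import Cfsg.Prelude.Def_Classical
import Cfsg.Agent.Lib.H2.Spec1

/-!
# Unitary groups `Cfsg.SU n F q`: matrix criterion and transport along ring isomorphisms
-/

set_option autoImplicit false

namespace Cfsg.Agent.Lib.H2.Spec

open Matrix hiding SpecialLinearGroup
open Matrix (SpecialLinearGroup)

theorem hermForm_eq_dot {F : Type*} [Field F] (σ : F →+* F) (n q : ℕ) (hσ : ∀ x, σ x = x ^ q)
    (u v : Fin n → F) : Cfsg.hermForm n F q u v = u ⬝ᵥ (σ ∘ v) := by
  simp [Cfsg.hermForm, dotProduct, hσ]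

theorem mem_SU_iff' {F : Type*} [Field F] {n q : ℕ} (g : SpecialLinearGroup (Fin n) F) :
    g ∈ Cfsg.SU n F q ↔ ∀ u v, Cfsg.hermForm n F q ((g : Matrix (Fin n) (Fin n) F) *ᵥ u)
      ((g : Matrix (Fin n) (Fin n) F) *ᵥ v) = Cfsg.hermForm n F q u v := Iff.rfl

/-- Matrix criterion for membership in `SU`. -/
theorem mem_SU_iff_mul {F : Type*} [Field F] (σ : F →+* F) {n q : ℕ} (hσ : ∀ x, σ x = x ^ q)
    (g : SpecialLinearGroup (Fin n) F) :
    g ∈ Cfsg.SU n F q ↔
      (g : Matrix (Fin n) (Fin n) F)ᵀ * (g : Matrix (Fin n) (Fin n) F).map σ = 1 := by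
  rw [mem_SU_iff']
  constructor
  · intro h
    ext j k
    have := h (Pi.single j 1) (Pi.single k 1)
    rw [hermForm_eq_dot σ n q hσ, hermForm_eq_dot σ n q hσ] at this
    have e1 : ((g : Matrix (Fin n) (Fin n) F)ᵀ * (g : Matrix (Fin n) (Fin n) F).map σ) j k
        = ((g : Matrix (Fin n) (Fin n) F) *ᵥ Pi.single j 1) ⬝ᵥ
          (σ ∘ ((g : Matrix (Fin n) (Fin n) F) *ᵥ Pi.single k 1)) := by
      simp [Matrix.mul_apply, dotProduct]
    rw [e1, this]
    simp only [dotProduct, Function.comp, Matrix.one_apply]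
    by_cases hjk : j = k
    · subst hjk
      simp [Pi.single_apply]
    · simp only [hjk, if_false]
      apply Finset.sum_eq_zero
      intro i _
      by_cases hi : i = j
      · subst hi
        have : (Pi.single k (1 : F) : Fin n → F) i = 0 := by
          simp [hjk]
        rw [this, map_zero, mul_zero]
      · have : (Pi.single j (1 : F) : Fin n → F) i = 0 := by
          simp [hi]
        rw [this, zero_mul]
  · intro h u v
    rw [hermForm_eq_dot σ n q hσ, hermForm_eq_dot σ n q hσ]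
    have e1 : σ ∘ ((g : Matrix (Fin n) (Fin n) F) *ᵥ v)
        = (g : Matrix (Fin n) (Fin n) F).map σ *ᵥ (σ ∘ v) := by
      funext i
      exact RingHom.map_mulVec σ _ v i
    rw [e1]
    have e2 : ∀ x : Fin n → F, ((g : Matrix (Fin n) (Fin n) F) *ᵥ u) ⬝ᵥ x
        = u ⬝ᵥ ((g : Matrix (Fin n) (Fin n) F)ᵀ *ᵥ x) := by
      intro x
      rw [dotProduct_comm, Matrix.dotProduct_mulVec, ← Matrix.mulVec_transpose, dotProduct_comm]
    rw [e2, Matrix.mulVec_mulVec, h, Matrix.one_mulVec]

theorem hermForm_map {F F' : Type*} [Field F] [Field F'] (e : F →+* F') (n q : ℕ)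
    (u v : Fin n → F) :
    Cfsg.hermForm n F' q (e ∘ u) (e ∘ v) = e (Cfsg.hermForm n F q u v) := by
  simp [Cfsg.hermForm, map_sum, map_mul, map_pow]

theorem map_mem_SU {F F' : Type*} [Field F] [Field F'] (e : F ≃+* F') {n q : ℕ}
    (g : SpecialLinearGroup (Fin n) F) (hg : g ∈ Cfsg.SU n F q) :
    SpecialLinearGroup.map (e : F →+* F') g ∈ Cfsg.SU n F' q := by
  rw [mem_SU_iff'] at hg ⊢
  intro u' v'
  have hu : u' = (e : F →+* F') ∘ (e.symm ∘ u') := by funext i; simp
  have hv : v' = (e : F →+* F') ∘ (e.symm ∘ v') := by funext i; simp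
  have key : ∀ w : Fin n → F,
      ((SpecialLinearGroup.map (e : F →+* F') g : SpecialLinearGroup (Fin n) F') :
        Matrix (Fin n) (Fin n) F') *ᵥ ((e : F →+* F') ∘ w)
      = (e : F →+* F') ∘ ((g : Matrix (Fin n) (Fin n) F) *ᵥ w) := by
    intro w
    funext i
    exact (RingHom.map_mulVec (e : F →+* F') _ w i).symm
  rw [hu, hv, key, key, hermForm_map, hermForm_map, hg]

/-- Ring isomorphisms induce isomorphisms of special unitary groups. -/
noncomputable def suEquiv {F F' : Type*} [Field F] [Field F'] (e : F ≃+* F') (n q : ℕ) :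
    Cfsg.SU n F q ≃* Cfsg.SU n F' q :=
  { toFun := fun g => ⟨SpecialLinearGroup.map (e : F →+* F') g.1, map_mem_SU e g.1 g.2⟩
    invFun := fun g => ⟨SpecialLinearGroup.map (e.symm : F' →+* F) g.1, map_mem_SU e.symm g.1 g.2⟩
    left_inv := fun g => by
      apply Subtype.ext
      exact (slEquiv (n := Fin n) e).left_inv g.1
    right_inv := fun g => by
      apply Subtype.ext
      exact (slEquiv (n := Fin n) e).right_inv g.1
    map_mul' := fun x y => by
      apply Subtype.ext
      exact map_mul (SpecialLinearGroup.map (e : F →+* F')) x.1 y.1 }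

theorem center_eq_bot_of_mulEquiv {G H : Type*} [Group G] [Group H] (e : G ≃* H)
    (h : Subgroup.center H = ⊥) : Subgroup.center G = ⊥ := by
  rw [eq_bot_iff]
  intro z hz
  rw [Subgroup.mem_bot]
  have : e z ∈ Subgroup.center H := by
    rw [Subgroup.mem_center_iff]
    intro y
    obtain ⟨x, rfl⟩ := e.surjective y
    rw [← map_mul, ← map_mul, (Subgroup.mem_center_iff.1 hz) x]
  rw [h, Subgroup.mem_bot] at this
  exact e.injective (this.trans (map_one e).symm)

end Cfsg.Agent.Lib.H2.Spec
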