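import Mathlib

set_option autoImplicit false

namespace Cfsg.Agent.Lib.H2

variable {G : Type*} [Group G]

/-- a simple group embeds in the symmetric group on the cosets of a proper subgroup -/
theorem card_le_factorial_index [Finite G] [IsSimpleGroup G] {H : Subgroup G} (hH : H ≠ ⊤) :
    Nat.card G ≤ Nat.factorial H.index := by
  have hker : (MulAction.toPermHom G (G ⧸ H)).ker = ⊥ := by
    rw [← Subgroup.normalCore_eq_ker]
    rcases (H.normalCore_normal).eq_bot_or_eq_top with h | h
    · exact h
    · exfalso
      apply hH
      rw [eq_top_iff, ← h]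
      exact H.normalCore_le
  have hinj : Function.Injective (MulAction.toPermHom G (G ⧸ H)) :=
    (MonoidHom.ker_eq_bot_iff _).1 hker
  have h1 := Nat.card_le_card_of_injective _ hinj
  rw [Nat.card_perm] at h1
  exact h1

/-- a simple group containing an involution is either of order 2 or has trivial centre and no
subgroup of index 2 -/
theorem simple_dichotomy [Finite G] [IsSimpleGroup G] {t : G} (ht : orderOf t = 2) :
    Nat.card G = 2 ∨ (Subgroup.center G = ⊥ ∧ ∀ H : Subgroup G, H.index ≠ 2) := by
  by_cases h2 : Nat.card G = 2
  · exact Or.inl h2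
  right
  constructor
  · rcases (inferInstance : (Subgroup.center G).Normal).eq_bot_or_eq_top with h | h
    · exact h
    · exfalso
      have : IsMulCommutative G := ⟨⟨fun a b => by
        have ha : a ∈ Subgroup.center G := by rw [h]; exact Subgroup.mem_top a
        exact ((Subgroup.mem_center_iff.1 ha) b).symm⟩⟩
      have hp : (Nat.card G).Prime := Group.is_simple_iff_prime_card.1 inferInstance
      have hd : 2 ∣ Nat.card G := ht ▸ orderOf_dvd_natCard t
      exact h2 ((Nat.prime_dvd_prime_iff_eq Nat.prime_two hp).1 hd).symm
  · intro H hH
    have hn : H.Normal := Subgroup.normal_of_index_eq_two hH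
    rcases hn.eq_bot_or_eq_top with h | h
    · rw [h, Subgroup.index_bot] at hH
      exact h2 hH
    · rw [h, Subgroup.index_top] at hH
      omega

end Cfsg.Agent.Lib.H2
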