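import Mathlib
import Cfsg.Agent.Lib.H2.ActIso
import Cfsg.Agent.Lib.H2.SimpleIndex

set_option autoImplicit false

/-!
# A simple group of order 60 is isomorphic to `A_5`
-/

namespace Cfsg.Agent.Lib.H2

variable {G : Type*} [Group G]

/-- a simple group acts faithfully on the cosets of a proper subgroup -/
theorem faithful_quotient_of_simple [IsSimpleGroup G] {H : Subgroup G} (hH : H ≠ ⊤) :
    FaithfulSMul G (G ⧸ H) := by
  have hker : (MulAction.toPermHom G (G ⧸ H)).ker = ⊥ := by
    rw [← Subgroup.normalCore_eq_ker]
    rcases (H.normalCore_normal).eq_bot_or_eq_top with h | h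
    · exact h
    · exfalso
      apply hH
      rw [eq_top_iff, ← h]
      exact H.normalCore_le
  have hinj : Function.Injective (MulAction.toPermHom G (G ⧸ H)) :=
    (MonoidHom.ker_eq_bot_iff _).1 hker
  refine ⟨fun {a b} h => hinj ?_⟩
  ext x
  exact h x

/-- a simple group of order `k!/2` with a subgroup of index `k` is `A_k` -/
theorem simple_iso_alternating_of_index [IsSimpleGroup G] {H : Subgroup G} (k : ℕ)
    (hk : 2 ≤ k) (hidx : H.index = k) (hG : 2 * Nat.card G = k.factorial) :
    Nonempty (G ≃* alternatingGroup (Fin k)) := by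
  have hH : H ≠ ⊤ := by
    intro h
    rw [h, Subgroup.index_top] at hidx
    omega
  have hfaith := faithful_quotient_of_simple hH
  have : Finite (G ⧸ H) := by
    apply Nat.finite_of_card_ne_zero
    rw [← Subgroup.index_eq_card, hidx]
    omega
  exact nonempty_mulEquiv_alternating_of_card (X := G ⧸ H) k
    (by rw [← Subgroup.index_eq_card, hidx]) hG

theorem simple60_iso_A5 [IsSimpleGroup G] (h : Nat.card G = 60) :
    Nonempty (G ≃* alternatingGroup (Fin 5)) := by
  have hfin : Finite G := Nat.finite_of_card_ne_zero (by rw [h]; norm_num)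
  have : Fact (Nat.Prime 2) := ⟨Nat.prime_two⟩
  obtain ⟨P⟩ : Nonempty (Sylow 2 G) := inferInstance
  have hfac : (60 : ℕ).factorization 2 = 2 := by
    have : (60 : ℕ) = 2 ^ 2 * 15 := by norm_num
    rw [this, Nat.factorization_mul (by norm_num) (by norm_num), Nat.factorization_pow]
    simp [Nat.Prime.factorization_self Nat.prime_two,
      Nat.factorization_eq_zero_of_not_dvd (show ¬ 2 ∣ 15 by norm_num)]
  have hP : Nat.card P = 4 := by
    rw [Sylow.card_eq_multiplicity, h, hfac]
    norm_num
  have hPidx : (P : Subgroup G).index = 15 := by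
    have := (P : Subgroup G).card_mul_index
    rw [hP, h] at this
    omega
  have hn := Sylow.card_eq_index_normalizer P
  have hdvd := Sylow.card_dvd_index P
  rw [hPidx, hn] at hdvd
  have hcases : (Subgroup.normalizer (P : Set G)).index ∈ Nat.divisors 15 :=
    Nat.mem_divisors.2 ⟨hdvd, by norm_num⟩
  have hdiv : Nat.divisors 15 = {1, 3, 5, 15} := by decide
  rw [hdiv] at hcases
  simp only [Finset.mem_insert, Finset.mem_singleton] at hcases
  rcases hcases with h1 | h3 | h5 | h15
  · -- P normal
    exfalso
    rw [Subgroup.index_eq_one] at h1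
    have h1' : (P : Subgroup G).Normal := Subgroup.normalizer_eq_top_iff.1 h1
    rcases h1'.eq_bot_or_eq_top with hb | ht
    · rw [hb, Subgroup.card_bot] at hP
      omega
    · rw [ht, Subgroup.card_top, h] at hP
      omega
  · exfalso
    have hne : Subgroup.normalizer (P : Set G) ≠ ⊤ := by
      intro ht
      rw [ht, Subgroup.index_top] at h3
      omega
    have := card_le_factorial_index hne
    rw [h3, h] at this
    norm_num [Nat.factorial] at this
  · exact simple_iso_alternating_of_index 5 (by norm_num) h5 (by rw [h]; rfl)
  · exfalso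
    have hNcard : Nat.card (Subgroup.normalizer (P : Set G)) = 4 := by
      have := (Subgroup.normalizer (P : Set G)).card_mul_index
      rw [h15, h] at this
      omega
    have hNP : (P : Subgroup G) = Subgroup.normalizer (P : Set G) :=
      Subgroup.eq_of_le_of_card_ge Subgroup.le_normalizer (by rw [hNcard, hP])
    have hcomm : ∀ a b : P, a * b = b * a :=
      (IsPGroup.isMulCommutative_of_card_eq_prime_sq (p := 2) (G := P) (by
        exact hP.trans (by norm_num))).is_comm.comm
    have hle : Subgroup.normalizer (P : Set G) ≤ Subgroup.centralizer (P : Set G) := by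
      rw [← hNP]
      intro x hx
      rw [Subgroup.mem_centralizer_iff]
      intro y hy
      have := hcomm ⟨y, hy⟩ ⟨x, hx⟩
      exact congrArg Subtype.val this
    have hcompl := MonoidHom.ker_transferSylow_isComplement' P hle
    have hK := hcompl.card_mul_card
    rw [hP, h] at hK
    have hK15 : Nat.card (MonoidHom.transferSylow P hle).ker = 15 := by omega
    rcases (MonoidHom.normal_ker (MonoidHom.transferSylow P hle)).eq_bot_or_eq_top with hb | ht
    · rw [hb, Subgroup.card_bot] at hK15
      omega
    · rw [ht, Subgroup.card_top, h] at hK15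
      omega

end Cfsg.Agent.Lib.H2
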