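import Mathlib
import Cfsg.Agent.Lib.H2.Simple60

set_option autoImplicit false

/-!
# Simple groups with a subgroup of small index
-/

namespace Cfsg.Agent.Lib.H2

variable {G : Type*} [Group G]

/-- a finite simple group of order `> 2` with a proper subgroup of index `k` has order
dividing `|A_k|` -/
theorem card_dvd_card_alternating [Finite G] [IsSimpleGroup G] (hgt : 2 < Nat.card G)
    {H : Subgroup G} (hH : H ≠ ⊤) (k : ℕ) (hk : H.index = k) :
    Nat.card G ∣ Nat.card (alternatingGroup (Fin k)) := by
  have hfaith := faithful_quotient_of_simple hH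
  have hXfin : Finite (G ⧸ H) := inferInstance
  obtain ⟨ψ, hψ⟩ := exists_injective_hom_perm_fin (G := G) (X := G ⧸ H) k
    (by rw [← Subgroup.index_eq_card, hk])
  have hker : ((Equiv.Perm.sign : Equiv.Perm (Fin k) →* ℤˣ).comp ψ).ker = ⊤ := by
    rcases (MonoidHom.normal_ker ((Equiv.Perm.sign : Equiv.Perm (Fin k) →* ℤˣ).comp ψ)).eq_bot_or_eq_top
      with hb | ht
    · exfalso
      have hinj : Function.Injective ((Equiv.Perm.sign : Equiv.Perm (Fin k) →* ℤˣ).comp ψ) :=
        (MonoidHom.ker_eq_bot_iff _).1 hb
      have := Nat.card_le_card_of_injective _ hinj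
      rw [Nat.card_eq_fintype_card (α := ℤˣ), Fintype.card_units_int] at this
      omega
    · exact ht
  have hle : ψ.range ≤ alternatingGroup (Fin k) := by
    rintro _ ⟨x, rfl⟩
    rw [Equiv.Perm.mem_alternatingGroup]
    have : x ∈ ((Equiv.Perm.sign : Equiv.Perm (Fin k) →* ℤˣ).comp ψ).ker := by
      rw [hker]; exact Subgroup.mem_top x
    exact this
  have h1 := Subgroup.card_dvd_of_le hle
  rwa [← Nat.card_congr (MonoidHom.ofInjective hψ).toEquiv] at h1

theorem card_alternatingGroup_fin (k : ℕ) (hk : 2 ≤ k) :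
    2 * Nat.card (alternatingGroup (Fin k)) = k.factorial := by
  have : Nontrivial (Fin k) := Fin.nontrivial_iff_two_le.2 hk
  rw [Nat.card_eq_fintype_card, two_mul_card_alternatingGroup, Fintype.card_perm, Fintype.card_fin]

/-- a normal Sylow subgroup of a simple group is everything (or trivial) -/
theorem not_simple_of_sylow_count_one [Finite G] [IsSimpleGroup G] {p : ℕ} [Fact p.Prime]
    (P : Sylow p G) (h1 : Nat.card (Sylow p G) = 1) (hP1 : Nat.card P ≠ 1)
    (hP2 : Nat.card P ≠ Nat.card G) : False := by
  rw [Sylow.card_eq_index_normalizer P, Subgroup.index_eq_one] at h1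
  have hn : (P : Subgroup G).Normal := Subgroup.normalizer_eq_top_iff.1 h1
  rcases hn.eq_bot_or_eq_top with hb | ht
  · apply hP1
    show Nat.card (P : Subgroup G) = 1
    rw [hb, Subgroup.card_bot]
  · apply hP2
    show Nat.card (P : Subgroup G) = Nat.card G
    rw [ht, Subgroup.card_top]

/-- a group whose order is twice an odd number has a subgroup of index two -/
theorem exists_index_two_of_card [Finite G] (m : ℕ) (hm : Odd m) (h : Nat.card G = 2 * m) :
    ∃ K : Subgroup G, K.index = 2 := by
  have : Fact (Nat.Prime 2) := ⟨Nat.prime_two⟩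
  obtain ⟨P⟩ : Nonempty (Sylow 2 G) := inferInstance
  have hm0 : m ≠ 0 := by
    rintro rfl
    exact absurd hm (by decide)
  have hfac : (2 * m).factorization 2 = 1 := by
    rw [Nat.factorization_mul (by norm_num) hm0, Finsupp.add_apply,
      Nat.Prime.factorization_self Nat.prime_two,
      Nat.factorization_eq_zero_of_not_dvd (fun hd => (Nat.not_even_iff_odd.2 hm)
        (even_iff_two_dvd.2 hd))]
  have hP : Nat.card P = 2 := by
    rw [Sylow.card_eq_multiplicity, h, hfac, pow_one]
  have hcyc : IsCyclic P := isCyclic_of_prime_card hP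
  have hmin : (Nat.card G).minFac = 2 := by
    rw [h, Nat.minFac_eq_two_iff]
    exact dvd_mul_right 2 m
  have hcompl := IsCyclic.isComplement' hmin hcyc
  exact ⟨_, by rw [hcompl.symm.index_eq_card, hP]⟩

end Cfsg.Agent.Lib.H2
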