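import Mathlib

set_option autoImplicit false

namespace Cfsg.Agent.Lib.H2

variable {G : Type*} [Group G]

/-- class equation for one class: `|x^G| * |C(x)| = |G|` -/
theorem ncard_conj_mul_card_centralizer [Finite G] (x : G) :
    Set.ncard {y : G | IsConj x y} * Nat.card (Subgroup.centralizer ({x} : Set G)) = Nat.card G := by
  have h1 := MulAction.index_stabilizer (ConjAct G) x
  have h2 := (MulAction.stabilizer (ConjAct G) x).card_mul_index
  have h3 := Subgroup.nat_card_centralizer_nat_card_stabilizer x
  have h4 : MulAction.orbit (ConjAct G) x = {y : G | IsConj x y} := by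
    rw [ConjAct.orbit_eq_carrier_conjClasses]
    ext y
    rw [ConjClasses.mem_carrier_iff_mk_eq, Set.mem_ofPred_eq, ConjClasses.mk_eq_mk_iff_isConj]
    exact ⟨fun h => h.symm, fun h => h.symm⟩
  rw [h4] at h1
  rw [← h1, h3, mul_comm]
  exact h2

end Cfsg.Agent.Lib.H2
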