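import Mathlib
import Cfsg.Agent.Lib.H18.FrobStructure

set_option autoImplicit false
set_option linter.unusedSectionVars false

/-!
# Frobenius actions

A finite group `L` acting on a type `Ω`, preserving a subset `Δ` with at least two points on which it
is transitive with non-trivial point stabilisers and trivial two-point stabilisers, has a normal
subgroup `FK` (the Frobenius kernel), regular on `Δ`, consisting of the identity and the elements
without fixed points in `Δ`.
-/

namespace Cfsg.Agent.Lib.H2.FrobAct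

open MulAction Cfsg Cfsg.Agent.Lib.H1 Cfsg.Agent.Lib.H18
open scoped Pointwise

variable {L Ω : Type*} [Group L] [MulAction L Ω]

/-- a Frobenius action on the subset `Δ` -/
structure IsFrobAct (L : Type*) {Ω : Type*} [Group L] [MulAction L Ω] (Δ : Set Ω) : Prop where
  inv : ∀ g : L, ∀ x ∈ Δ, g • x ∈ Δ
  trans : ∀ x ∈ Δ, ∀ y ∈ Δ, ∃ g : L, g • x = y
  stab_ne : ∀ x ∈ Δ, ∃ g : L, g ≠ 1 ∧ g • x = x
  two : ∀ x ∈ Δ, ∀ y ∈ Δ, x ≠ y → ∀ g : L, g • x = x → g • y = y → g = 1
  nontriv : ∃ x ∈ Δ, ∃ y ∈ Δ, x ≠ y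

variable {Δ : Set Ω} (h : IsFrobAct L Δ)

include h in
theorem isFrobeniusComplement_stabilizer {x : Ω} (hx : x ∈ Δ) :
    IsFrobeniusComplement (stabilizer L x) := by
  refine ⟨?_, ?_, ?_⟩
  · intro hbot
    obtain ⟨g, hg1, hg⟩ := h.stab_ne x hx
    have : g ∈ stabilizer L x := hg
    rw [hbot, Subgroup.mem_bot] at this
    exact hg1 this
  · intro htop
    obtain ⟨y, hy, z, hz, hyz⟩ := h.nontriv
    have hall : ∀ w ∈ Δ, w = x := by
      intro w hw
      obtain ⟨g, hg⟩ := h.trans x hx w hw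
      have : g ∈ stabilizer L x := by rw [htop]; trivial
      rw [← hg]
      exact this
    exact hyz ((hall y hy).trans (hall z hz).symm)
  · intro g hg
    rw [eq_bot_iff]
    intro u hu
    rw [Subgroup.mem_bot]
    obtain ⟨hu1, hu2⟩ := hu
    replace hu1 : u ∈ stabilizer L x := hu1
    replace hu2 : u ∈ MulAut.conj g • stabilizer L x := hu2
    rw [mem_conj_smul_iff] at hu2
    have h1 : u • x = x := hu1
    have h2 : u • (g • x) = g • x := by
      have : (g⁻¹ * u * g) • x = x := hu2
      rw [mul_smul, mul_smul, inv_smul_eq_iff] at this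
      exact this
    have hne : x ≠ g • x := fun e => hg e.symm
    exact h.two x hx (g • x) (h.inv g x hx) hne u h1 h2

/-- a chosen base point -/
noncomputable def base : Ω := Classical.choose h.nontriv

theorem base_mem : base h ∈ Δ := (Classical.choose_spec h.nontriv).1

variable [Finite L]

/-- the Frobenius kernel of a Frobenius action -/
noncomputable def FK : Subgroup L :=
  frobKer (stabilizer L (base h)) (isFrobeniusComplement_stabilizer h (base_mem h))

instance FK_normal : (FK h).Normal := by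
  unfold FK
  infer_instance

theorem mem_FK_iff (u : L) : u ∈ FK h ↔ u = 1 ∨ ∀ y ∈ Δ, u • y ≠ y := by
  unfold FK
  rw [mem_frobKer]
  unfold frobeniusKernel
  simp only [Set.mem_ofPred_eq]
  apply or_congr Iff.rfl
  constructor
  · intro hu y hyΔ hy
    obtain ⟨g, hg⟩ := h.trans (base h) (base_mem h) y hyΔ
    apply hu g
    rw [mem_conj_smul_iff]
    show (g⁻¹ * u * g) • _ = _
    rw [mul_smul, mul_smul, hg, hy, ← hg, inv_smul_smul]
  · intro hu g hg
    rw [mem_conj_smul_iff] at hg
    have : (g⁻¹ * u * g) • (base h) = base h := hg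
    rw [mul_smul, mul_smul, inv_smul_eq_iff] at this
    exact hu _ (h.inv g _ (base_mem h)) this

theorem eq_one_of_mem_FK_of_smul_eq {u : L} (hu : u ∈ FK h) {y : Ω} (hyΔ : y ∈ Δ)
    (hy : u • y = y) : u = 1 := by
  rcases (mem_FK_iff h u).1 hu with h1 | h1
  · exact h1
  · exact absurd hy (h1 y hyΔ)

theorem card_FK : Nat.card (FK h) = Δ.ncard := by
  unfold FK
  rw [card_frobKer, index_stabilizer]
  congr 1
  ext y
  constructor
  · rintro ⟨g, rfl⟩
    exact h.inv g _ (base_mem h)
  · intro hy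
    obtain ⟨g, hg⟩ := h.trans _ (base_mem h) y hy
    exact ⟨g, hg⟩

theorem FK_smul_injective {y : Ω} (hy : y ∈ Δ) :
    Function.Injective (fun u : FK h => (⟨(u : L) • y, h.inv u y hy⟩ : Δ)) := by
  intro u v huv
  have huv' : (u : L) • y = (v : L) • y := congrArg Subtype.val huv
  have h1 : ((u : L)⁻¹ * v) • y = y := by
    rw [mul_smul, ← huv', inv_smul_smul]
  have h2 := eq_one_of_mem_FK_of_smul_eq h ((FK h).mul_mem ((FK h).inv_mem u.2) v.2) hy h1
  exact Subtype.ext (inv_mul_eq_one.1 h2)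

theorem FK_transitive [Finite Ω] {y z : Ω} (hy : y ∈ Δ) (hz : z ∈ Δ) : ∃ u ∈ FK h, u • y = z := by
  have hbij : Function.Bijective (fun u : FK h => (⟨(u : L) • y, h.inv u y hy⟩ : Δ)) :=
    (Nat.bijective_iff_injective_and_card _).2 ⟨FK_smul_injective h hy, by
      rw [card_FK h, Nat.card_coe_set_eq]⟩
  obtain ⟨u, hu⟩ := hbij.2 ⟨z, hz⟩
  exact ⟨u, u.2, congrArg Subtype.val hu⟩

theorem FK_le_or_le (N : Subgroup L) [N.Normal] : FK h ≤ N ∨ N ≤ FK h := by
  unfold FK
  exact frob_normal_le_or_le _ N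

end Cfsg.Agent.Lib.H2.FrobAct
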