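import Mathlib
import Cfsg.Prelude.Def_LieExceptional
import Cfsg.Agent.Lib.H2.FrobAct

set_option autoImplicit false
set_option linter.unusedSectionVars false

/-!
# Zassenhaus groups: the Frobenius kernel of a point stabiliser, normal subgroups
-/

namespace Cfsg.Agent.Lib.H2.Zass

open MulAction Cfsg Cfsg.Agent.Lib.H2.FrobAct

/-- the conditions of a Zassenhaus group other than the absence of regular normal subgroups -/
structure Pre (G Ω : Type*) [Group G] [MulAction G Ω] : Prop where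
  faithful : ∀ g : G, (∀ x : Ω, g • x = x) → g = 1
  two : ∀ a b c d : Ω, a ≠ b → c ≠ d → ∃ g : G, g • a = c ∧ g • b = d
  three : ∀ g : G, ∀ a b c : Ω, a ≠ b → b ≠ c → a ≠ c → g • a = a → g • b = b → g • c = c → g = 1
  fix : ∃ g : G, g ≠ 1 ∧ ∃ a b : Ω, a ≠ b ∧ g • a = a ∧ g • b = b

/-- no normal subgroup is regular -/
def NoReg (G Ω : Type*) [Group G] [MulAction G Ω] : Prop :=
  ∀ M : Subgroup G, M.Normal → (∀ x y : Ω, ∃ u ∈ M, u • x = y) → ∃ a : Ω, ∃ u ∈ M, u ≠ 1 ∧ u • a = a

variable {G Ω : Type*} [Group G] [MulAction G Ω]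

theorem pre_of_zassenhaus (hZ : IsZassenhausGroup G Ω) : Pre G Ω := by
  obtain ⟨hf, h2, h3, hfix, -⟩ := hZ
  refine ⟨?_, ?_, h3, hfix⟩
  · intro g hg
    exact hf.eq_of_smul_eq_smul (fun x => by rw [hg, one_smul])
  · intro a b c d hab hcd
    exact is_two_pretransitive_iff.mp h2 hab hcd

theorem noReg_of_zassenhaus (hZ : IsZassenhausGroup G Ω) : NoReg G Ω := by
  obtain ⟨-, -, -, -, h5⟩ := hZ
  intro M hM htr
  have : IsPretransitive M Ω := ⟨fun x y => by
    obtain ⟨u, hu, huxy⟩ := htr x y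
    exact ⟨⟨u, hu⟩, huxy⟩⟩
  obtain ⟨a, ha⟩ := h5 M hM this
  refine ⟨a, ?_⟩
  by_contra hcon
  push Not at hcon
  apply ha
  rw [eq_bot_iff]
  intro u hu
  rw [Subgroup.mem_bot]
  have hu' : (u : G) • a = a := hu
  by_contra hne
  exact hne (Subtype.ext (by
    by_contra h1
    exact hcon u u.2 h1 hu'))

variable (hP : Pre G Ω)

include hP in
theorem finite_of_pre [Finite Ω] : Finite G := by
  have : Function.Injective (MulAction.toPermHom G Ω) := by
    rw [injective_iff_map_eq_one]
    intro g hg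
    refine hP.faithful g (fun x => ?_)
    have := DFunLike.congr_fun hg x
    simpa using this
  exact Finite.of_injective _ this

include hP in
theorem exists_three : ∃ a b c : Ω, a ≠ b ∧ b ≠ c ∧ a ≠ c := by
  obtain ⟨g, hg1, a, b, hab, ha, hb⟩ := hP.fix
  have : ∃ c : Ω, g • c ≠ c := by
    by_contra hcon
    push Not at hcon
    exact hg1 (hP.faithful g hcon)
  obtain ⟨c, hc⟩ := this
  refine ⟨a, b, c, hab, ?_, ?_⟩
  · rintro rfl
    exact hc hb
  · rintro rfl
    exact hc ha

include hP in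
theorem exists_two_ne (a : Ω) : ∃ x y : Ω, x ≠ a ∧ y ≠ a ∧ x ≠ y := by
  obtain ⟨p, q, r, hpq, hqr, hpr⟩ := exists_three hP
  by_cases h1 : p = a
  · subst h1
    exact ⟨q, r, hpq.symm, hpr.symm, hqr⟩
  · by_cases h2 : q = a
    · subst h2
      exact ⟨p, r, h1, hqr.symm, hpr⟩
    · exact ⟨p, q, h1, h2, hpq⟩

include hP in
theorem exists_fix_two {a b : Ω} (hab : a ≠ b) : ∃ g : G, g ≠ 1 ∧ g • a = a ∧ g • b = b := by
  obtain ⟨g, hg1, a', b', hab', ha', hb'⟩ := hP.fix
  obtain ⟨t, hta, htb⟩ := hP.two a' b' a b hab' hab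
  refine ⟨t * g * t⁻¹, ?_, ?_, ?_⟩
  · intro h
    apply hg1
    have : g = t⁻¹ * (t * g * t⁻¹) * t := by group
    rw [this, h]
    group
  · rw [mul_smul, mul_smul, ← hta, inv_smul_smul, ha']
  · rw [mul_smul, mul_smul, ← htb, inv_smul_smul, hb']

include hP in
theorem frobAct_stabilizer (a : Ω) : IsFrobAct (stabilizer G a) {x : Ω | x ≠ a} where
  inv := by
    intro g x hx hgx
    apply hx
    have h1 : (g : G) • x = a := hgx
    have h2 : (g : G) • a = a := g.2
    exact smul_left_cancel _ (h1.trans h2.symm)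
  trans := by
    intro x hx y hy
    obtain ⟨g, hga, hgx⟩ := hP.two a x a y (Ne.symm hx) (Ne.symm hy)
    exact ⟨⟨g, hga⟩, hgx⟩
  stab_ne := by
    intro x hx
    obtain ⟨g, hg1, hga, hgx⟩ := exists_fix_two hP (Ne.symm hx)
    refine ⟨⟨g, hga⟩, ?_, hgx⟩
    intro h
    exact hg1 (congrArg Subtype.val h)
  two := by
    intro x hx y hy hxy g hgx hgy
    apply Subtype.ext
    exact hP.three (g : G) a x y (Ne.symm hx) hxy (Ne.symm hy) g.2 hgx hgy
  nontriv := by
    obtain ⟨x, y, hx, hy, hxy⟩ := exists_two_ne hP a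
    exact ⟨x, hx, y, hy, hxy⟩

variable [Finite Ω]

/-- the Frobenius kernel of the point stabiliser, as a subgroup of `G` -/
noncomputable def K (a : Ω) : Subgroup G :=
  have := finite_of_pre hP
  (FK (frobAct_stabilizer hP a)).map (stabilizer G a).subtype

theorem mem_K_iff (a : Ω) (u : G) :
    u ∈ K hP a ↔ u • a = a ∧ (u = 1 ∨ ∀ y : Ω, y ≠ a → u • y ≠ y) := by
  have := finite_of_pre hP
  unfold K
  rw [Subgroup.mem_map]
  constructor
  · rintro ⟨v, hv, rfl⟩
    refine ⟨v.2, ?_⟩
    rcases (mem_FK_iff _ v).1 hv with h1 | h1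
    · left
      rw [h1]
      rfl
    · right
      intro y hy
      exact h1 y hy
  · rintro ⟨hua, hu⟩
    refine ⟨⟨u, hua⟩, ?_, rfl⟩
    rw [mem_FK_iff]
    rcases hu with h1 | h1
    · left
      exact Subtype.ext h1
    · right
      intro y hy
      exact h1 y hy

theorem K_le_stabilizer (a : Ω) : K hP a ≤ stabilizer G a := by
  intro u hu
  exact ((mem_K_iff hP a u).1 hu).1

theorem K_transitive (a : Ω) {y z : Ω} (hy : y ≠ a) (hz : z ≠ a) : ∃ u ∈ K hP a, u • y = z := by
  have := finite_of_pre hP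
  obtain ⟨u, hu, huy⟩ := FK_transitive (frobAct_stabilizer hP a) (y := y) (z := z) hy hz
  exact ⟨u, Subgroup.mem_map_of_mem _ hu, huy⟩

theorem card_K (a : Ω) : Nat.card (K hP a) + 1 = Nat.card Ω := by
  have := finite_of_pre hP
  unfold K
  rw [Nat.card_congr ((FK (frobAct_stabilizer hP a)).equivMapOfInjective _
    (Subgroup.subtype_injective _)).symm.toEquiv, card_FK]
  have : {x : Ω | x ≠ a} = ({a} : Set Ω)ᶜ := by
    ext x
    simp
  rw [this, ← Set.ncard_compl_add_ncard ({a} : Set Ω), Set.ncard_singleton]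

section Normal

variable (N : Subgroup G) [hN : N.Normal]

include hP in
omit [Finite Ω] in
theorem normal_transitive (hne : N ≠ ⊥) (x y : Ω) : ∃ u ∈ N, u • x = y := by
  by_cases hxy : x = y
  · exact ⟨1, N.one_mem, by rw [one_smul, hxy]⟩
  obtain ⟨u, hu1⟩ := (Subgroup.ne_bot_iff_exists_ne_one).1 hne
  have hu1' : (u : G) ≠ 1 := fun h => hu1 (Subtype.ext h)
  have : ∃ c : Ω, (u : G) • c ≠ c := by
    by_contra hcon
    push Not at hcon
    exact hu1' (hP.faithful _ hcon)
  obtain ⟨c, hc⟩ := this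
  obtain ⟨g, hgc, hguc⟩ := hP.two c ((u : G) • c) x y (Ne.symm hc) hxy
  refine ⟨g * u * g⁻¹, hN.conj_mem _ u.2 g, ?_⟩
  rw [mul_smul, mul_smul, ← hgc, inv_smul_smul, hguc]

include hP in
theorem exists_regular_normal_of_frobAct (h : IsFrobAct N (Set.univ : Set Ω)) :
    ∃ M : Subgroup G, M.Normal ∧ (∀ x y : Ω, ∃ u ∈ M, u • x = y) ∧
      ∀ u ∈ M, ∀ a : Ω, u • a = a → u = 1 := by
  have := finite_of_pre hP
  have hmem : ∀ u : G, u ∈ (FK h).map N.subtype ↔ u ∈ N ∧ (u = 1 ∨ ∀ y : Ω, u • y ≠ y) := by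
    intro u
    rw [Subgroup.mem_map]
    constructor
    · rintro ⟨v, hv, rfl⟩
      refine ⟨v.2, ?_⟩
      rcases (mem_FK_iff _ v).1 hv with h1 | h1
      · left
        rw [h1]
        rfl
      · right
        intro y
        exact h1 y (Set.mem_univ _)
    · rintro ⟨huN, hu⟩
      refine ⟨⟨u, huN⟩, ?_, rfl⟩
      rw [mem_FK_iff]
      rcases hu with h1 | h1
      · left
        exact Subtype.ext h1
      · right
        intro y _
        exact h1 y
  refine ⟨(FK h).map N.subtype, ⟨?_⟩, ?_, ?_⟩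
  · intro u hu g
    rw [hmem] at hu ⊢
    refine ⟨hN.conj_mem _ hu.1 g, ?_⟩
    rcases hu.2 with h1 | h1
    · left
      rw [h1]
      group
    · right
      intro y hy
      apply h1 (g⁻¹ • y)
      rw [mul_smul, mul_smul] at hy
      exact (smul_eq_iff_eq_inv_smul g).1 hy
  · intro x y
    obtain ⟨u, hu, huxy⟩ := FK_transitive h (y := x) (z := y) (Set.mem_univ _) (Set.mem_univ _)
    exact ⟨u, Subgroup.mem_map_of_mem _ hu, huxy⟩
  · intro u hu a hua
    rcases ((hmem u).1 hu).2 with h1 | h1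
    · exact h1
    · exact absurd hua (h1 a)

include hP in
theorem exists_mem_ne_one_fix (hR : NoReg G Ω) (hne : N ≠ ⊥) (a : Ω) :
    ∃ u ∈ N, u ≠ 1 ∧ u • a = a := by
  obtain ⟨a', u, hu, hu1, hua'⟩ := hR N hN (normal_transitive hP N hne)
  obtain ⟨g, hg, hga⟩ := normal_transitive hP N hne a' a
  refine ⟨g * u * g⁻¹, hN.conj_mem _ hu g, ?_, ?_⟩
  · intro h
    apply hu1
    have : u = g⁻¹ * (g * u * g⁻¹) * g := by group
    rw [this, h]
    group
  · rw [mul_smul, mul_smul, ← hga, inv_smul_smul, hua']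

theorem K_le_normal (hR : NoReg G Ω) (hne : N ≠ ⊥) (a : Ω) : K hP a ≤ N := by
  have := finite_of_pre hP
  rcases FK_le_or_le (frobAct_stabilizer hP a) (N.subgroupOf (stabilizer G a)) with h1 | h1
  · intro u hu
    unfold K at hu
    rw [Subgroup.mem_map] at hu
    obtain ⟨v, hv, rfl⟩ := hu
    exact Subgroup.mem_subgroupOf.1 (h1 hv)
  · exfalso
    -- every element of `N` fixing `a` is `1` or moves all other points
    have hNa : ∀ u ∈ N, u • a = a → u = 1 ∨ ∀ y : Ω, y ≠ a → u • y ≠ y := by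
      intro u hu hua
      have h2 : (⟨u, hua⟩ : stabilizer G a) ∈ N.subgroupOf (stabilizer G a) :=
        Subgroup.mem_subgroupOf.2 hu
      rcases (mem_FK_iff _ _).1 (h1 h2) with h3 | h3
      · left
        exact congrArg Subtype.val h3
      · right
        intro y hy
        exact h3 y hy
    have hfrob : IsFrobAct N (Set.univ : Set Ω) :=
      { inv := fun _ _ _ => Set.mem_univ _
        trans := by
          intro x _ y _
          obtain ⟨u, hu, huxy⟩ := normal_transitive hP N hne x y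
          exact ⟨⟨u, hu⟩, huxy⟩
        stab_ne := by
          intro x _
          obtain ⟨u, hu, hu1, hux⟩ := exists_mem_ne_one_fix hP N hR hne x
          exact ⟨⟨u, hu⟩, fun h => hu1 (congrArg Subtype.val h), hux⟩
        two := by
          intro x _ y _ hxy u hux huy
          obtain ⟨g, -, hgx⟩ := normal_transitive hP N hne x a
          have h2 : (g * u * g⁻¹) • a = a := by
            rw [mul_smul, mul_smul, ← hgx, inv_smul_smul]
            exact congrArg (g • ·) hux
          have h3 : (g * u * g⁻¹) • (g • y) = g • y := by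
            rw [mul_smul, mul_smul, inv_smul_smul]
            exact congrArg (g • ·) huy
          have h4 : g • y ≠ a := by
            rw [← hgx]
            intro h
            exact hxy (smul_left_cancel _ h).symm
          rcases hNa _ (hN.conj_mem _ u.2 g) h2 with h5 | h5
          · apply Subtype.ext
            have : (u : G) = g⁻¹ * (g * u * g⁻¹) * g := by group
            rw [this, h5]
            simp
          · exact absurd h3 (h5 _ h4)
        nontriv := by
          obtain ⟨p, q, r, hpq, -, -⟩ := exists_three hP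
          exact ⟨p, Set.mem_univ _, q, Set.mem_univ _, hpq⟩ }
    obtain ⟨M, hMn, hMt, hMr⟩ := exists_regular_normal_of_frobAct hP N hfrob
    obtain ⟨b, u, hu, hu1, hub⟩ := hR M hMn hMt
    exact hu1 (hMr u hu b hub)

end Normal

end Cfsg.Agent.Lib.H2.Zass
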