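import Mathlib

set_option autoImplicit false

/-!
# The projective line: `PGL₂(F)` is sharply 3-transitive
-/

namespace Cfsg.Agent.Lib.H2.ProjLine

open Matrix Projectivization
open scoped LinearAlgebra.Projectivization MatrixGroups

variable {F : Type*} [Field F]

/-- the determinant of two vectors of `F²` -/
def D (x y : Fin 2 → F) : F := x 0 * y 1 - x 1 * y 0

theorem D_self (x : Fin 2 → F) : D x x = 0 := by unfold D; ring

theorem D_swap (x y : Fin 2 → F) : D x y = - D y x := by unfold D; ring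

theorem D_smul_left (a : F) (x y : Fin 2 → F) : D (a • x) y = a * D x y := by
  unfold D; simp; ring

theorem D_smul_right (a : F) (x y : Fin 2 → F) : D x (a • y) = a * D x y := by
  unfold D; simp; ring

theorem D_mulVec (A : Matrix (Fin 2) (Fin 2) F) (x y : Fin 2 → F) :
    D (A *ᵥ x) (A *ᵥ y) = A.det * D x y := by
  unfold D
  rw [Matrix.det_fin_two]
  simp only [Matrix.mulVec, dotProduct, Fin.sum_univ_two]
  ring

theorem mk_eq_mk_iff_D (u v : Fin 2 → F) (hu : u ≠ 0) (hv : v ≠ 0) :
    Projectivization.mk F u hu = Projectivization.mk F v hv ↔ D u v = 0 := by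
  rw [Projectivization.mk_eq_mk_iff']
  constructor
  · rintro ⟨a, rfl⟩
    rw [D_smul_left, D_self, mul_zero]
  · intro h
    unfold D at h
    by_cases h0 : v 0 = 0
    · have h1 : v 1 ≠ 0 := by
        intro h1
        apply hv
        ext i; fin_cases i <;> simp [h0, h1]
      have hu0 : u 0 = 0 := by
        rw [h0, mul_zero, sub_eq_zero] at h
        rcases mul_eq_zero.1 h with h | h
        · exact h
        · exact absurd h h1
      refine ⟨u 1 / v 1, ?_⟩
      ext i; fin_cases i
      · simp [h0, hu0]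
      · simp [h1]
    · refine ⟨u 0 / v 0, ?_⟩
      ext i; fin_cases i
      · simp [h0]
      · simp only [Fin.mk_one, Fin.isValue, Pi.smul_apply, smul_eq_mul]
        field_simp
        linear_combination h

/-- Cramer's rule in dimension two -/
theorem cramer (u v w : Fin 2 → F) : D w v • u + D u w • v = D u v • w := by
  ext i
  fin_cases i <;> simp [D] <;> ring

theorem e0_ne : (![1, 0] : Fin 2 → F) ≠ 0 := by
  intro h; simpa using congrFun h 0

theorem e1_ne : (![0, 1] : Fin 2 → F) ≠ 0 := by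
  intro h; simpa using congrFun h 1

theorem e01_ne : (![1, 1] : Fin 2 → F) ≠ 0 := by
  intro h; simpa using congrFun h 0

/-- a triple of pairwise distinct points as an embedding -/
def triple {α : Type*} (a b c : α) (hab : a ≠ b) (hac : a ≠ c) (hbc : b ≠ c) : Fin 3 ↪ α where
  toFun := ![a, b, c]
  inj' := by
    intro i j h
    fin_cases i <;> fin_cases j <;> simp_all

theorem triple_ext {α : Type*} (x y : Fin 3 ↪ α) (h0 : x 0 = y 0) (h1 : x 1 = y 1)
    (h2 : x 2 = y 2) : x = y := by
  ext i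
  fin_cases i <;> assumption

/-- the standard triple `∞, 0, 1` -/
def std (F : Type*) [Field F] : Fin 3 ↪ ℙ F (Fin 2 → F) :=
  triple (Projectivization.mk F ![1, 0] e0_ne) (Projectivization.mk F ![0, 1] e1_ne)
    (Projectivization.mk F ![1, 1] e01_ne)
    (by rw [Ne, mk_eq_mk_iff_D]; simp [D])
    (by rw [Ne, mk_eq_mk_iff_D]; simp [D])
    (by rw [Ne, mk_eq_mk_iff_D]; simp [D])

theorem std_zero : std F 0 = Projectivization.mk F ![1, 0] e0_ne := rfl
theorem std_one : std F 1 = Projectivization.mk F ![0, 1] e1_ne := rfl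
theorem std_two : std F 2 = Projectivization.mk F ![1, 1] e01_ne := rfl

theorem GL_smul_def (g : GL (Fin 2) F) (v : Fin 2 → F) :
    g • v = (g : Matrix (Fin 2) (Fin 2) F) *ᵥ v := rfl

/-- every triple of distinct points is the image of the standard triple under `GL₂` -/
theorem exists_GL_smul_std (x : Fin 3 ↪ ℙ F (Fin 2 → F)) :
    ∃ g : GL (Fin 2) F, (ProjGenLinGroup.mk g : PGL(Fin 2, F)) • std F = x := by
  set u := (x 0).rep with hu
  set v := (x 1).rep with hv
  set w := (x 2).rep with hw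
  have hu0 : u ≠ 0 := (x 0).rep_nonzero
  have hv0 : v ≠ 0 := (x 1).rep_nonzero
  have hw0 : w ≠ 0 := (x 2).rep_nonzero
  have hx0 : x 0 = Projectivization.mk F u hu0 := (Projectivization.mk_rep _).symm
  have hx1 : x 1 = Projectivization.mk F v hv0 := (Projectivization.mk_rep _).symm
  have hx2 : x 2 = Projectivization.mk F w hw0 := (Projectivization.mk_rep _).symm
  have huv : D u v ≠ 0 := by
    rw [Ne, ← mk_eq_mk_iff_D u v hu0 hv0, ← hx0, ← hx1]
    exact fun h => absurd (x.injective h) (by decide)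
  have huw : D u w ≠ 0 := by
    rw [Ne, ← mk_eq_mk_iff_D u w hu0 hw0, ← hx0, ← hx2]
    exact fun h => absurd (x.injective h) (by decide)
  have hwv : D w v ≠ 0 := by
    rw [Ne, ← mk_eq_mk_iff_D w v hw0 hv0, ← hx2, ← hx1]
    exact fun h => absurd (x.injective h) (by decide)
  set α := D w v / D u v with hα
  set β := D u w / D u v with hβ
  have hα0 : α ≠ 0 := div_ne_zero hwv huv
  have hβ0 : β ≠ 0 := div_ne_zero huw huv
  let A : Matrix (Fin 2) (Fin 2) F := !![α * u 0, β * v 0; α * u 1, β * v 1]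
  have hdet : A.det ≠ 0 := by
    have : A.det = α * β * D u v := by
      rw [Matrix.det_fin_two_of]; unfold D; ring
    rw [this]
    exact mul_ne_zero (mul_ne_zero hα0 hβ0) huv
  have hA0 : A *ᵥ ![1, 0] = α • u := by
    ext i; fin_cases i <;> simp [A, Matrix.mulVec, dotProduct, Fin.sum_univ_two]
  have hA1 : A *ᵥ ![0, 1] = β • v := by
    ext i; fin_cases i <;> simp [A, Matrix.mulVec, dotProduct, Fin.sum_univ_two]
  have hA2 : A *ᵥ ![1, 1] = w := by
    have h1 : A *ᵥ ![1, 1] = α • u + β • v := by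
      ext i; fin_cases i <;> simp [A, Matrix.mulVec, dotProduct, Fin.sum_univ_two]
    have h2 := cramer u v w
    rw [h1]
    have h3 : D u v • (α • u + β • v) = D u v • w := by
      rw [smul_add, smul_smul, smul_smul, hα, hβ, mul_div_cancel₀ _ huv, mul_div_cancel₀ _ huv, h2]
    exact smul_right_injective _ huv h3
  refine ⟨Matrix.GeneralLinearGroup.mkOfDetNeZero A hdet, ?_⟩
  apply triple_ext
  · rw [Function.Embedding.smul_apply, std_zero, PGL.mk_smul_mk, hx0, mk_eq_mk_iff_D, GL_smul_def]
    show D (A *ᵥ ![1, 0]) u = 0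
    rw [hA0, D_smul_left, D_self, mul_zero]
  · rw [Function.Embedding.smul_apply, std_one, PGL.mk_smul_mk, hx1, mk_eq_mk_iff_D, GL_smul_def]
    show D (A *ᵥ ![0, 1]) v = 0
    rw [hA1, D_smul_left, D_self, mul_zero]
  · rw [Function.Embedding.smul_apply, std_two, PGL.mk_smul_mk, hx2, mk_eq_mk_iff_D, GL_smul_def]
    show D (A *ᵥ ![1, 1]) w = 0
    rw [hA2, D_self]

theorem PGL_three_pretransitive :
    MulAction.IsMultiplyPretransitive (Matrix.ProjGenLinGroup (Fin 2) F)
      (Projectivization F (Fin 2 → F)) 3 := by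
  constructor
  intro x y
  obtain ⟨g, hg⟩ := exists_GL_smul_std x
  obtain ⟨h, hh⟩ := exists_GL_smul_std y
  refine ⟨ProjGenLinGroup.mk h * (ProjGenLinGroup.mk g)⁻¹, ?_⟩
  rw [← hg, mul_smul, inv_smul_smul, hh]

/-- if `A u = l u`, `A v = l v` with `u, v` independent then `A` is the scalar `l` -/
theorem eq_scalar_of_eigen (A : Matrix (Fin 2) (Fin 2) F) (u v : Fin 2 → F) (huv : D u v ≠ 0)
    (l : F) (hu : A *ᵥ u = l • u) (hv : A *ᵥ v = l • v) : A = Matrix.scalar (Fin 2) l := by
  have hu0 := congrFun hu 0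
  have hu1 := congrFun hu 1
  have hv0 := congrFun hv 0
  have hv1 := congrFun hv 1
  simp only [Matrix.mulVec, dotProduct, Fin.sum_univ_two, Pi.smul_apply, smul_eq_mul] at hu0 hu1 hv0 hv1
  unfold D at huv
  have h00 : (A 0 0 - l) * (u 0 * v 1 - u 1 * v 0) = 0 := by
    linear_combination v 1 * hu0 - u 1 * hv0
  have h01 : A 0 1 * (u 0 * v 1 - u 1 * v 0) = 0 := by
    linear_combination u 0 * hv0 - v 0 * hu0
  have h10 : A 1 0 * (u 0 * v 1 - u 1 * v 0) = 0 := by
    linear_combination v 1 * hu1 - u 1 * hv1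
  have h11 : (A 1 1 - l) * (u 0 * v 1 - u 1 * v 0) = 0 := by
    linear_combination u 0 * hv1 - v 0 * hu1
  have e00 := (mul_eq_zero.1 h00).resolve_right huv
  have e01 := (mul_eq_zero.1 h01).resolve_right huv
  have e10 := (mul_eq_zero.1 h10).resolve_right huv
  have e11 := (mul_eq_zero.1 h11).resolve_right huv
  ext i j
  fin_cases i <;> fin_cases j
  · simpa using sub_eq_zero.1 e00
  · simpa using e01
  · simpa using e10
  · simpa using sub_eq_zero.1 e11

theorem PGL_eq_one_of_fix (g : Matrix.ProjGenLinGroup (Fin 2) F)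
    (a b c : Projectivization F (Fin 2 → F)) (hab : a ≠ b) (hac : a ≠ c) (hbc : b ≠ c)
    (ha : g • a = a) (hb : g • b = b) (hc : g • c = c) : g = 1 := by
  induction g using ProjGenLinGroup.induction_on with
  | mk A =>
  induction a using Projectivization.ind with
  | _ u hu0 =>
  induction b using Projectivization.ind with
  | _ v hv0 =>
  induction c using Projectivization.ind with
  | _ w hw0 =>
  have huv : D u v ≠ 0 := by
    rw [Ne, ← mk_eq_mk_iff_D u v hu0 hv0]; exact hab
  have huw : D u w ≠ 0 := by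
    rw [Ne, ← mk_eq_mk_iff_D u w hu0 hw0]; exact hac
  have hvw : D v w ≠ 0 := by
    rw [Ne, ← mk_eq_mk_iff_D v w hv0 hw0]; exact hbc
  rw [PGL.mk_smul_mk, Projectivization.mk_eq_mk_iff] at ha hb hc
  obtain ⟨l, hl⟩ := ha
  obtain ⟨m, hm⟩ := hb
  obtain ⟨n, hn⟩ := hc
  rw [GL_smul_def] at hl hm hn
  have hl' : (A : Matrix (Fin 2) (Fin 2) F) *ᵥ u = (l : F) • u := hl.symm
  have hm' : (A : Matrix (Fin 2) (Fin 2) F) *ᵥ v = (m : F) • v := hm.symm
  have hn' : (A : Matrix (Fin 2) (Fin 2) F) *ᵥ w = (n : F) • w := hn.symm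
  have d1 : (A : Matrix (Fin 2) (Fin 2) F).det * D u v = (l : F) * (m : F) * D u v := by
    rw [← D_mulVec, hl', hm', D_smul_left, D_smul_right]; ring
  have d2 : (A : Matrix (Fin 2) (Fin 2) F).det * D u w = (l : F) * (n : F) * D u w := by
    rw [← D_mulVec, hl', hn', D_smul_left, D_smul_right]; ring
  have d3 : (A : Matrix (Fin 2) (Fin 2) F).det * D v w = (m : F) * (n : F) * D v w := by
    rw [← D_mulVec, hm', hn', D_smul_left, D_smul_right]; ring
  have e1 := mul_right_cancel₀ huv d1
  have e2 := mul_right_cancel₀ huw d2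
  have e3 := mul_right_cancel₀ hvw d3
  have hmn : (m : F) = n := by
    have : (l : F) * m = l * n := by rw [← e1, e2]
    exact mul_left_cancel₀ l.ne_zero this
  have hlm : (l : F) = m := by
    have : (l : F) * n = m * n := by rw [← e2, e3]
    exact mul_right_cancel₀ n.ne_zero this
  rw [← hlm] at hm'
  have hA := eq_scalar_of_eigen _ u v huv (l : F) hl' hm'
  have hA' : A = Matrix.GeneralLinearGroup.scalar (Fin 2) l := by
    apply Units.ext
    rw [hA]; rfl
  rw [hA', ProjGenLinGroup.mk_scalar]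

end Cfsg.Agent.Lib.H2.ProjLine
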