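import Mathlib

set_option autoImplicit false

/-!
# Suzuki groups I: the field automorphism `θ` and the function `f x y = x y + x^(σ+2) + y^σ`
-/

namespace Cfsg.Agent.Lib.H2.Sz

/-- the arithmetic hypotheses: characteristic 2 and `t^q = t` with `q = 2^(2m+1)` -/
structure Fld (F : Type*) [Field F] (m : ℕ) : Prop where
  two : (2 : F) = 0
  frob : ∀ t : F, t ^ (2 ^ (2 * m + 1)) = t

theorem fld_of_card {F : Type*} [Field F] [Fintype F] {m : ℕ}
    (hF : Fintype.card F = 2 ^ (2 * m + 1)) : Fld F m := by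
  refine ⟨?_, ?_⟩
  · obtain ⟨p, hp⟩ := CharP.exists F
    have hpp : p.Prime := (CharP.char_is_prime_or_zero F p).resolve_right (by
      intro h0
      subst h0
      have : CharZero F := CharP.charP_to_charZero F
      exact (not_finite F).elim)
    have : Fact p.Prime := ⟨hpp⟩
    have hdvd : p ∣ Fintype.card F := by
      obtain ⟨n, -, hn⟩ := FiniteField.card F p
      rw [hn]
      exact dvd_pow_self p n.ne_zero
    rw [hF] at hdvd
    have hp2 : p = 2 := (Nat.prime_dvd_prime_iff_eq hpp Nat.prime_two).1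
      (hpp.dvd_of_dvd_pow hdvd)
    subst hp2
    have := CharP.cast_eq_zero F 2
    exact_mod_cast this
  · intro t
    rw [← hF]
    exact FiniteField.pow_card t

variable {F : Type*} [Field F] {m : ℕ}

/-- the automorphism `t ↦ t^σ`, `σ = 2^(m+1)` -/
def θ (m : ℕ) (t : F) : F := t ^ (2 ^ (m + 1))

/-- the function defining the ovoid -/
def f (m : ℕ) (x y : F) : F := x * y + x ^ (2 ^ (m + 1) + 2) + y ^ (2 ^ (m + 1))

theorem f_eq (x y : F) : f m x y = x * y + θ m x * x ^ 2 + θ m y := by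
  unfold f θ
  rw [pow_add]

@[simp] theorem θ_zero : θ m (0 : F) = 0 := by
  unfold θ
  exact zero_pow (by positivity)

@[simp] theorem θ_one : θ m (1 : F) = 1 := by
  unfold θ
  exact one_pow _

theorem θ_mul (x y : F) : θ m (x * y) = θ m x * θ m y := by
  unfold θ
  exact mul_pow _ _ _

theorem θ_pow (x : F) (n : ℕ) : θ m (x ^ n) = θ m x ^ n := by
  unfold θ
  rw [← pow_mul, ← pow_mul, mul_comm]

theorem θ_inv (x : F) : θ m x⁻¹ = (θ m x)⁻¹ := by
  unfold θ
  exact inv_pow _ _

theorem θ_div (x y : F) : θ m (x / y) = θ m x / θ m y := by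
  unfold θ
  exact div_pow _ _ _

theorem θ_eq_zero {x : F} : θ m x = 0 ↔ x = 0 := by
  unfold θ
  exact pow_eq_zero_iff (by positivity)

variable (h : Fld F m)

include h

theorem Fld.charP : CharP F 2 := by
  have : (2 : F) = 0 := h.two
  exact CharTwo.of_one_ne_zero_of_two_eq_zero one_ne_zero this

theorem Fld.add_self (x : F) : x + x = 0 := by
  have := h.two
  linear_combination x * this

theorem Fld.neg (x : F) : -x = x := by
  have := h.add_self x
  linear_combination -this

theorem Fld.sub (x y : F) : x - y = x + y := by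
  rw [sub_eq_add_neg, h.neg]

theorem Fld.eq_of_add_eq_zero {x y : F} (hxy : x + y = 0) : x = y := by
  have := h.add_self y
  linear_combination hxy - this

theorem θ_add (x y : F) : θ m (x + y) = θ m x + θ m y := by
  have := h.charP
  have : Fact (Nat.Prime 2) := ⟨Nat.prime_two⟩
  unfold θ
  exact add_pow_char_pow x y 2 (m + 1)

theorem θ_θ (x : F) : θ m (θ m x) = x ^ 2 := by
  unfold θ
  rw [← pow_mul, ← pow_add, show m + 1 + (m + 1) = (2 * m + 1) + 1 by ring, pow_succ, pow_mul,
    h.frob]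

theorem θ_injective : Function.Injective (θ m : F → F) := by
  intro x y hxy
  have h1 : θ m (x + y) = 0 := by rw [θ_add h, hxy, h.add_self]
  exact h.eq_of_add_eq_zero (θ_eq_zero.1 h1)

/-- the only fixed points of `θ` are `0` and `1` -/
theorem θ_fixed {x : F} (hx : θ m x = x) : x = 0 ∨ x = 1 := by
  have h1 : x ^ 2 = x := by rw [← θ_θ h, hx, hx]
  have h2 : x * (x - 1) = 0 := by linear_combination h1
  rcases mul_eq_zero.1 h2 with h3 | h3
  · exact Or.inl h3
  · exact Or.inr (sub_eq_zero.1 h3)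

theorem f_eq_zero {x y : F} (hf : f m x y = 0) : x = 0 ∧ y = 0 := by
  rw [f_eq] at hf
  have h2 := h.two
  -- θ y = x y + θ x x²
  have e1 : θ m y = x * y + θ m x * x ^ 2 := by
    linear_combination hf - (x * y + θ m x * x ^ 2) * h2
  have e2 : θ m (θ m y) = θ m x * θ m y + θ m (θ m x) * (θ m x) ^ 2 := by
    rw [e1, θ_add h, θ_mul, θ_mul, θ_pow, ← e1]
  rw [θ_θ h, θ_θ h, e1] at e2
  have e3 : y * (y - x * θ m x) = 0 := by
    linear_combination e2 + (x ^ 2 * θ m x ^ 2) * h2
  rcases mul_eq_zero.1 e3 with h3 | h3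
  · subst h3
    rw [θ_zero, mul_zero, zero_add] at e1
    have : x = 0 := by
      rcases mul_eq_zero.1 e1.symm with h4 | h4
      · exact θ_eq_zero.1 h4
      · exact pow_eq_zero_iff (two_ne_zero) |>.1 h4
    exact ⟨this, rfl⟩
  · have hy : y = x * θ m x := sub_eq_zero.1 h3
    rw [hy, θ_mul, θ_θ h] at e1
    have e4 : x ^ 2 * θ m x = 0 := by
      linear_combination (-1 : F) * e1
    have : x = 0 := by
      rcases mul_eq_zero.1 e4 with h4 | h4
      · exact pow_eq_zero_iff (two_ne_zero) |>.1 h4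
      · exact θ_eq_zero.1 h4
    rw [this, zero_mul] at hy
    exact ⟨this, hy⟩

omit h in
theorem f_zero_zero : f m (0 : F) 0 = 0 := by
  rw [f_eq]
  simp

theorem f_ne_zero {x y : F} (hxy : ¬ (x = 0 ∧ y = 0)) : f m x y ≠ 0 :=
  fun h0 => hxy (f_eq_zero h h0)

theorem f_translate (a b x y : F) :
    f m (x + a) (y + b + θ m a * x) =
      f m x y + a * y + (b + θ m a * a) * x + f m a b := by
  have h2 := h.two
  rw [f_eq, f_eq, f_eq, θ_add h, θ_add h, θ_add h, θ_mul, θ_θ h]
  linear_combination (θ m a * x ^ 2 + a ^ 2 * θ m x + a * x * θ m x + a * x * θ m a) * h2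

theorem f_scale (k x y : F) : f m (k * x) (k * θ m k * y) = k ^ 2 * θ m k * f m x y := by
  rw [f_eq, f_eq, θ_mul, θ_mul, θ_mul, θ_θ h]
  ring

theorem f_inv {x y : F} (hxy : ¬ (x = 0 ∧ y = 0)) :
    f m (y / f m x y) (x / f m x y) = (f m x y)⁻¹ := by
  have h2 := h.two
  have hφ := f_ne_zero h hxy
  have hθφ : θ m (f m x y) ≠ 0 := fun h0 => hφ (θ_eq_zero.1 h0)
  have e1 : θ m (f m x y) = θ m x * θ m y + x ^ 2 * θ m x ^ 2 + y ^ 2 := by
    rw [f_eq, θ_add h, θ_add h, θ_mul, θ_mul, θ_θ h, θ_θ h, θ_pow]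
  rw [f_eq (y / f m x y), θ_div, θ_div]
  have key : x * y * θ m (f m x y) + θ m y * y ^ 2 + θ m x * (f m x y) ^ 2
      = θ m (f m x y) * f m x y := by
    rw [e1, f_eq]
    linear_combination (x ^ 3 * y * θ m x ^ 2 + x * y * θ m x * θ m y) * h2
  field_simp
  linear_combination key

end Cfsg.Agent.Lib.H2.Sz
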