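import Mathlib
import Cfsg.Prelude.Def_LieExceptional
import Cfsg.Agent.Lib.H2.Sz1

set_option autoImplicit false
set_option linter.unusedSimpArgs false

/-!
# Suzuki groups II: the generators `T a b`, `D k`, `W` as matrices and their action on the ovoid
-/

namespace Cfsg.Agent.Lib.H2.Sz

open Matrix Cfsg

variable {F : Type*} [Field F] {m : ℕ}

/-- the affine point vectors of the ovoid -/
def pv (m : ℕ) (x y : F) : Fin 4 → F := ![f m x y, y, x, 1]

/-- the vector of the point at infinity -/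
def e0 : Fin 4 → F := ![1, 0, 0, 0]

theorem pv_ne_zero (x y : F) : pv m x y ≠ 0 := by
  intro h
  have := congrFun h 3
  simp [pv] at this

theorem e0_ne_zero : (e0 : Fin 4 → F) ≠ 0 := by
  intro h
  have := congrFun h 0
  simp [e0] at this

/-- translation matrices -/
def Tm (m : ℕ) (a b : F) : Matrix (Fin 4) (Fin 4) F :=
  !![1, a, b + θ m a * a, f m a b; 0, 1, θ m a, b; 0, 0, 1, a; 0, 0, 0, 1]

/-- the antidiagonal involution -/
def Wm : Matrix (Fin 4) (Fin 4) F :=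
  !![0, 0, 0, 1; 0, 0, 1, 0; 0, 1, 0, 0; 1, 0, 0, 0]

/-- `k ↦ k^(2^m)`, a square root of `θ` -/
def ρ (m : ℕ) (k : F) : F := k ^ (2 ^ m)

theorem ρ_sq (k : F) : ρ m k ^ 2 = θ m k := by
  unfold ρ θ
  rw [← pow_mul, ← pow_succ]

theorem ρ_ne_zero {k : F} (hk : k ≠ 0) : ρ m k ≠ 0 := pow_ne_zero _ hk

/-- diagonal matrices -/
def Dm (m : ℕ) (k : F) : Matrix (Fin 4) (Fin 4) F :=
  Matrix.diagonal ![k * ρ m k, ρ m k, (ρ m k)⁻¹, (k * ρ m k)⁻¹]

theorem det_Tm (a b : F) : (Tm m a b).det = 1 := by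
  have h : (Tm m a b).BlockTriangular id := by
    intro i j hij
    fin_cases i <;> fin_cases j <;> simp_all [Tm]
  rw [Matrix.det_of_isUpperTriangular h]
  simp [Fin.prod_univ_four, Tm]

theorem det_Dm {k : F} (hk : k ≠ 0) : (Dm m k).det = 1 := by
  have := ρ_ne_zero (m := m) hk
  rw [Dm, Matrix.det_diagonal]
  simp [Fin.prod_univ_four]
  field_simp

theorem det_Wm : (Wm : Matrix (Fin 4) (Fin 4) F).det = 1 := by
  simp [Wm, Matrix.det_succ_row_zero, Fin.sum_univ_succ, Fin.succAbove]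
  norm_num

theorem Tm_mulVec_e0 (a b : F) : Tm m a b *ᵥ e0 = e0 := by
  ext i
  fin_cases i <;> simp [Tm, e0, Matrix.mulVec, dotProduct, Fin.sum_univ_four]

theorem Dm_mulVec_e0 (k : F) : Dm m k *ᵥ e0 = (k * ρ m k) • e0 := by
  ext i
  fin_cases i <;> simp [Dm, e0, Matrix.mulVec, dotProduct, Fin.sum_univ_four, Matrix.diagonal]

theorem Wm_mulVec_e0 : (Wm : Matrix (Fin 4) (Fin 4) F) *ᵥ e0 = pv m 0 0 := by
  ext i
  fin_cases i <;> simp [Wm, e0, pv, Matrix.mulVec, dotProduct, Fin.sum_univ_four, f]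

theorem Wm_mulVec_pv_zero : (Wm : Matrix (Fin 4) (Fin 4) F) *ᵥ pv m 0 0 = e0 := by
  ext i
  fin_cases i <;> simp [Wm, e0, pv, Matrix.mulVec, dotProduct, Fin.sum_univ_four, f]

theorem Dm_mulVec_pv (h : Fld F m) {k : F} (hk : k ≠ 0) (x y : F) :
    Dm m k *ᵥ pv m x y = (k * ρ m k)⁻¹ • pv m (k * x) (k * θ m k * y) := by
  have hρ := ρ_ne_zero (m := m) hk
  have hsq := ρ_sq (m := m) k
  ext i
  fin_cases i
  · simp [Dm, pv, Matrix.mulVec, dotProduct, Fin.sum_univ_four, Matrix.diagonal]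
    rw [f_scale h, ← hsq]
    field_simp
  · simp [Dm, pv, Matrix.mulVec, dotProduct, Fin.sum_univ_four, Matrix.diagonal]
    rw [← hsq]
    field_simp
  · simp [Dm, pv, Matrix.mulVec, dotProduct, Fin.sum_univ_four, Matrix.diagonal]
    field_simp
  · simp [Dm, pv, Matrix.mulVec, dotProduct, Fin.sum_univ_four, Matrix.diagonal]

theorem Tm_mulVec_pv (h : Fld F m) (a b x y : F) :
    Tm m a b *ᵥ pv m x y = pv m (x + a) (y + b + θ m a * x) := by
  ext i
  fin_cases i
  · simp [Tm, pv, Matrix.mulVec, dotProduct, Fin.sum_univ_four]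
    rw [f_translate h]
    try ring
  · simp [Tm, pv, Matrix.mulVec, dotProduct, Fin.sum_univ_four]
    try ring
  · simp [Tm, pv, Matrix.mulVec, dotProduct, Fin.sum_univ_four]
    try ring
  · simp [Tm, pv, Matrix.mulVec, dotProduct, Fin.sum_univ_four]

theorem Wm_mulVec_pv (h : Fld F m) {x y : F} (hxy : ¬ (x = 0 ∧ y = 0)) :
    (Wm : Matrix (Fin 4) (Fin 4) F) *ᵥ pv m x y =
      f m x y • pv m (y / f m x y) (x / f m x y) := by
  have hφ := f_ne_zero h hxy
  ext i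
  fin_cases i
  · simp [Wm, pv, Matrix.mulVec, dotProduct, Fin.sum_univ_four]
    rw [f_inv h hxy]
    field_simp
  · simp [Wm, pv, Matrix.mulVec, dotProduct, Fin.sum_univ_four]
    field_simp
  · simp [Wm, pv, Matrix.mulVec, dotProduct, Fin.sum_univ_four]
    field_simp
  · simp [Wm, pv, Matrix.mulVec, dotProduct, Fin.sum_univ_four]

end Cfsg.Agent.Lib.H2.Sz
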