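import Mathlib
import Cfsg.Prelude.Def_LieExceptional
import Cfsg.Agent.Lib.H2.Sz2

set_option autoImplicit false
set_option linter.unusedSimpArgs false
set_option linter.unusedSectionVars false

/-!
# Suzuki groups III: the generators as elements of `Sz`, action on the ovoid
-/

namespace Cfsg.Agent.Lib.H2.Sz

open Matrix Cfsg Projectivization

variable {F : Type*} [Field F] {m : ℕ}

/-- the point at infinity -/
def pinf : Projectivization F (Fin 4 → F) := Projectivization.mk F e0 e0_ne_zero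

/-- the affine points -/
def pt (m : ℕ) (x y : F) : Projectivization F (Fin 4 → F) :=
  Projectivization.mk F (pv m x y) (pv_ne_zero x y)

theorem suzukiPointInfinity_eq : suzukiPointInfinity F = pinf := rfl

theorem suzukiPointZero_eq : suzukiPointZero F = pt m 0 0 := by
  unfold suzukiPointZero pt
  congr 1
  simp [pv, f]

theorem mem_ovoid_iff (p : Projectivization F (Fin 4 → F)) :
    p ∈ suzukiOvoid F m ↔ p = pinf ∨ ∃ x y : F, p = pt m x y := by
  constructor
  · rintro ⟨v, hv, rfl, h | ⟨x, y, h⟩⟩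
    · left
      subst h
      rfl
    · right
      subst h
      exact ⟨x, y, rfl⟩
  · rintro (rfl | ⟨x, y, rfl⟩)
    · exact ⟨e0, e0_ne_zero, rfl, Or.inl rfl⟩
    · exact ⟨pv m x y, pv_ne_zero x y, rfl, Or.inr ⟨x, y, rfl⟩⟩

theorem pinf_mem : (pinf : Projectivization F (Fin 4 → F)) ∈ suzukiOvoid F m :=
  (mem_ovoid_iff _).2 (Or.inl rfl)

theorem pt_mem (x y : F) : pt m x y ∈ suzukiOvoid F m :=
  (mem_ovoid_iff _).2 (Or.inr ⟨x, y, rfl⟩)

theorem pt_ne_pinf (x y : F) : pt m x y ≠ pinf := by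
  intro h
  unfold pt pinf at h
  rw [Projectivization.mk_eq_mk_iff'] at h
  obtain ⟨a, ha⟩ := h
  have := congrFun ha 3
  simp [pv, e0] at this

theorem pt_injective {x y x' y' : F} (h : pt m x y = pt m x' y') : x = x' ∧ y = y' := by
  unfold pt at h
  rw [Projectivization.mk_eq_mk_iff'] at h
  obtain ⟨a, ha⟩ := h
  have h3 := congrFun ha 3
  have h2 := congrFun ha 2
  have h1 := congrFun ha 1
  simp [pv] at h3 h2 h1
  subst h3
  simp at h2 h1
  exact ⟨h2.symm, h1.symm⟩

theorem smul_mk_eq (g : SpecialLinearGroup (Fin 4) F) {v w : Fin 4 → F} (hv : v ≠ 0) (hw : w ≠ 0)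
    (c : F) (h : (g : Matrix (Fin 4) (Fin 4) F) *ᵥ v = c • w) :
    g • Projectivization.mk F v hv = Projectivization.mk F w hw := by
  rw [Projectivization.smul_mk, Projectivization.mk_eq_mk_iff']
  exact ⟨c, h.symm⟩

/-- the translations -/
def T (m : ℕ) (a b : F) : SpecialLinearGroup (Fin 4) F := ⟨Tm m a b, det_Tm a b⟩

/-- the involution -/
def W : SpecialLinearGroup (Fin 4) F := ⟨Wm, det_Wm⟩

/-- the diagonal elements -/
def D (m : ℕ) (k : Fˣ) : SpecialLinearGroup (Fin 4) F := ⟨Dm m (k : F), det_Dm k.ne_zero⟩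

theorem T_smul_pinf (a b : F) : T m a b • (pinf : Projectivization F (Fin 4 → F)) = pinf :=
  smul_mk_eq _ _ _ (1 : F) (by rw [one_smul]; exact Tm_mulVec_e0 a b)

theorem D_smul_pinf (k : Fˣ) : D m k • (pinf : Projectivization F (Fin 4 → F)) = pinf :=
  smul_mk_eq _ _ _ _ (Dm_mulVec_e0 (k : F))

theorem W_smul_pinf : (W : SpecialLinearGroup (Fin 4) F) • pinf = pt m (0 : F) 0 :=
  smul_mk_eq _ _ _ (1 : F) (by rw [one_smul]; exact Wm_mulVec_e0)

theorem W_smul_pt_zero : (W : SpecialLinearGroup (Fin 4) F) • pt m (0 : F) 0 = pinf :=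
  smul_mk_eq _ _ _ (1 : F) (by rw [one_smul]; exact Wm_mulVec_pv_zero)

variable (h : Fld F m)

include h

theorem T_smul_pt (a b x y : F) : T m a b • pt m x y = pt m (x + a) (y + b + θ m a * x) :=
  smul_mk_eq _ _ _ (1 : F) (by rw [one_smul]; exact Tm_mulVec_pv h a b x y)

theorem D_smul_pt (k : Fˣ) (x y : F) : D m k • pt m x y = pt m ((k : F) * x) ((k : F) * θ m (k : F) * y) :=
  smul_mk_eq _ _ _ _ (Dm_mulVec_pv h k.ne_zero x y)

theorem W_smul_pt {x y : F} (hxy : ¬ (x = 0 ∧ y = 0)) :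
    (W : SpecialLinearGroup (Fin 4) F) • pt m x y = pt m (y / f m x y) (x / f m x y) :=
  smul_mk_eq _ _ _ _ (Wm_mulVec_pv h hxy)

section Mem

variable [Fintype F]

theorem mem_Sz_of_forall {g : SpecialLinearGroup (Fin 4) F}
    (hg : ∀ p ∈ suzukiOvoid F m, g • p ∈ suzukiOvoid F m) : g ∈ Sz F m := by
  unfold Sz
  rw [MulAction.mem_stabilizer_set_iff_smul_set_subset (Set.toFinite _)]
  rintro _ ⟨p, hp, rfl⟩
  exact hg p hp

theorem T_mem (a b : F) : T m a b ∈ Sz F m := by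
  apply mem_Sz_of_forall h
  intro p hp
  rcases (mem_ovoid_iff p).1 hp with rfl | ⟨x, y, rfl⟩
  · rw [T_smul_pinf]
    exact pinf_mem
  · rw [T_smul_pt h]
    exact pt_mem _ _

theorem D_mem (k : Fˣ) : D m k ∈ Sz F m := by
  apply mem_Sz_of_forall h
  intro p hp
  rcases (mem_ovoid_iff p).1 hp with rfl | ⟨x, y, rfl⟩
  · rw [D_smul_pinf]
    exact pinf_mem
  · rw [D_smul_pt h]
    exact pt_mem _ _

theorem W_mem : (W : SpecialLinearGroup (Fin 4) F) ∈ Sz F m := by
  apply mem_Sz_of_forall h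
  intro p hp
  rcases (mem_ovoid_iff p).1 hp with rfl | ⟨x, y, rfl⟩
  · rw [W_smul_pinf (m := m)]
    exact pt_mem _ _
  · by_cases hxy : x = 0 ∧ y = 0
    · obtain ⟨rfl, rfl⟩ := hxy
      rw [W_smul_pt_zero]
      exact pinf_mem
    · rw [W_smul_pt h hxy]
      exact pt_mem _ _

end Mem

end Cfsg.Agent.Lib.H2.Sz
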