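import Mathlib
import Cfsg.Prelude.Def_LieExceptional
import Cfsg.Agent.Lib.H2.Sz3

set_option autoImplicit false
set_option linter.unusedSimpArgs false
set_option linter.unusedSectionVars false

/-!
# Suzuki groups IV: the stabiliser of two points consists of the diagonal elements
-/

namespace Cfsg.Agent.Lib.H2.Sz

open Matrix Cfsg Projectivization Polynomial
open scoped Pointwise

variable {F : Type*} [Field F] {m : ℕ}

/-- a polynomial function `u x² + v x^σ + w x^(σ+2)` vanishing on `F` has zero coefficients -/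
theorem poly3 [Fintype F] (hm : 1 ≤ m) (hF : Fintype.card F = 2 ^ (2 * m + 1)) (u v w : F)
    (H : ∀ x : F, u * x ^ 2 + v * θ m x + w * (x ^ 2 * θ m x) = 0) : u = 0 ∧ v = 0 ∧ w = 0 := by
  classical
  set s : ℕ := 2 ^ (m + 1) with hs
  have hs4 : 4 ≤ s := by
    have : 2 ^ 2 ≤ 2 ^ (m + 1) := Nat.pow_le_pow_right (by norm_num) (by omega)
    omega
  let P : F[X] := C u * X ^ 2 + C v * X ^ s + C w * X ^ (s + 2)
  have hdeg : P.natDegree ≤ s + 2 := by
    apply Polynomial.natDegree_add_le_of_degree_le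
    · apply Polynomial.natDegree_add_le_of_degree_le
      · exact (Polynomial.natDegree_C_mul_X_pow_le _ _).trans (by omega)
      · exact (Polynomial.natDegree_C_mul_X_pow_le _ _).trans (by omega)
    · exact Polynomial.natDegree_C_mul_X_pow_le _ _
  have hcard : s + 2 < Fintype.card F := by
    rw [hF, hs]
    have e : 2 ^ (2 * m + 1) = 2 ^ (m + 1) * 2 ^ m := by rw [← pow_add]; congr 1; omega
    have h2 : 2 ≤ 2 ^ m := by
      calc 2 = 2 ^ 1 := by norm_num
        _ ≤ 2 ^ m := Nat.pow_le_pow_right (by norm_num) hm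
    rw [e]
    nlinarith
  have hP : P = 0 := by
    apply Polynomial.eq_zero_of_natDegree_lt_card_of_eval_eq_zero P (f := id) Function.injective_id
    · intro x
      have := H x
      simp only [P, eval_add, eval_mul, eval_C, eval_pow, eval_X, id]
      rw [pow_add]
      unfold θ at this
      linear_combination this
    · exact lt_of_le_of_lt hdeg hcard
  have n1 : ¬ (2 = s) := by omega
  have n2 : ¬ (2 = s + 2) := by omega
  have n3 : ¬ (s = 2) := by omega
  have n4 : ¬ (s = s + 2) := by omega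
  have n5 : ¬ (s + 2 = 2) := by omega
  have n6 : ¬ (s + 2 = s) := by omega
  have n7 : ¬ (s = 0) := by omega
  have c2 : P.coeff 2 = u := by
    simp [P, coeff_add, coeff_C_mul, coeff_X_pow, n1, n2, n7]
  have cs : P.coeff s = v := by
    simp [P, coeff_add, coeff_C_mul, coeff_X_pow, n3, n4, n7]
  have cs2 : P.coeff (s + 2) = w := by
    simp [P, coeff_add, coeff_C_mul, coeff_X_pow, coeff_C, n5, n6, n7]
  rw [hP] at c2 cs cs2
  simp only [coeff_zero] at c2 cs cs2
  exact ⟨c2.symm, cs.symm, cs2.symm⟩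

theorem mulVec_e0 (A : Matrix (Fin 4) (Fin 4) F) (i : Fin 4) : (A *ᵥ e0) i = A i 0 := by
  simp [Matrix.mulVec, dotProduct, e0, Fin.sum_univ_four]

theorem mulVec_pv (A : Matrix (Fin 4) (Fin 4) F) (x y : F) (i : Fin 4) :
    (A *ᵥ pv m x y) i = A i 0 * f m x y + A i 1 * y + A i 2 * x + A i 3 := by
  simp [Matrix.mulVec, dotProduct, pv, Fin.sum_univ_four]

theorem SL_smul_def (g : SpecialLinearGroup (Fin 4) F) (v : Fin 4 → F) :
    g • v = (g : Matrix (Fin 4) (Fin 4) F) *ᵥ v := rfl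

theorem smul_mem_of_mem_Sz {g : SpecialLinearGroup (Fin 4) F} (hg : g ∈ Sz F m)
    {p : Projectivization F (Fin 4 → F)} (hp : p ∈ suzukiOvoid F m) : g • p ∈ suzukiOvoid F m := by
  have h1 : g • suzukiOvoid F m = suzukiOvoid F m := hg
  rw [← h1]
  exact Set.smul_mem_smul_set hp

/-- the image of an affine point under an element fixing `∞` -/
theorem exists_smul_pt {g : SpecialLinearGroup (Fin 4) F} (hg : g ∈ Sz F m)
    (hinf : g • (pinf : Projectivization F (Fin 4 → F)) = pinf) (x y : F) :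
    ∃ x' y' : F, g • pt m x y = pt m x' y' := by
  rcases (mem_ovoid_iff _).1 (smul_mem_of_mem_Sz hg (pt_mem (m := m) x y)) with h1 | h1
  · exfalso
    rw [← hinf] at h1
    exact pt_ne_pinf x y (smul_left_cancel _ h1)
  · exact h1

theorem smul_pt_eq_iff (g : SpecialLinearGroup (Fin 4) F) (x y x' y' : F) :
    g • pt m x y = pt m x' y' ↔
      ∃ a : F, a ≠ 0 ∧ (g : Matrix (Fin 4) (Fin 4) F) *ᵥ pv m x y = a • pv m x' y' := by
  unfold pt
  rw [Projectivization.smul_mk, Projectivization.mk_eq_mk_iff']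
  constructor
  · rintro ⟨a, ha⟩
    refine ⟨a, ?_, ha.symm⟩
    rintro rfl
    rw [zero_smul] at ha
    exact (smul_ne_zero_iff_ne g).mpr (pv_ne_zero (m := m) x y) ha.symm
  · rintro ⟨a, -, ha⟩
    exact ⟨a, ha.symm⟩

theorem col0_of_fix_pinf {g : SpecialLinearGroup (Fin 4) F}
    (hinf : g • (pinf : Projectivization F (Fin 4 → F)) = pinf) :
    (g : Matrix (Fin 4) (Fin 4) F) 1 0 = 0 ∧ (g : Matrix (Fin 4) (Fin 4) F) 2 0 = 0 ∧
      (g : Matrix (Fin 4) (Fin 4) F) 3 0 = 0 := by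
  unfold pinf at hinf
  rw [Projectivization.smul_mk, Projectivization.mk_eq_mk_iff'] at hinf
  obtain ⟨a, ha⟩ := hinf
  rw [SL_smul_def] at ha
  have h1 := congrFun ha 1
  have h2 := congrFun ha 2
  have h3 := congrFun ha 3
  rw [mulVec_e0] at h1 h2 h3
  simp [e0] at h1 h2 h3
  exact ⟨h1.symm, h2.symm, h3.symm⟩

theorem col3_of_fix_zero {g : SpecialLinearGroup (Fin 4) F}
    (hzero : g • pt m (0 : F) 0 = pt m 0 0) :
    (g : Matrix (Fin 4) (Fin 4) F) 0 3 = 0 ∧ (g : Matrix (Fin 4) (Fin 4) F) 1 3 = 0 ∧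
      (g : Matrix (Fin 4) (Fin 4) F) 2 3 = 0 := by
  obtain ⟨a, -, ha⟩ := (smul_pt_eq_iff g 0 0 0 0).1 hzero
  have h0 := congrFun ha 0
  have h1 := congrFun ha 1
  have h2 := congrFun ha 2
  rw [mulVec_pv] at h0 h1 h2
  have hf0 : f m (0 : F) 0 = 0 := f_zero_zero
  simp [pv, hf0] at h0 h1 h2
  exact ⟨h0, h1, h2⟩

theorem row3_of_fix_pinf {g : SpecialLinearGroup (Fin 4) F} (hg : g ∈ Sz F m)
    (hinf : g • (pinf : Projectivization F (Fin 4 → F)) = pinf) :
    (g : Matrix (Fin 4) (Fin 4) F) 3 1 = 0 ∧ (g : Matrix (Fin 4) (Fin 4) F) 3 2 = 0 := by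
  obtain ⟨-, -, h30⟩ := col0_of_fix_pinf hinf
  have key : ∀ x y : F, (g : Matrix (Fin 4) (Fin 4) F) 3 1 * y +
      (g : Matrix (Fin 4) (Fin 4) F) 3 2 * x + (g : Matrix (Fin 4) (Fin 4) F) 3 3 ≠ 0 := by
    intro x y h0
    obtain ⟨x', y', hxy⟩ := exists_smul_pt hg hinf x y
    obtain ⟨a, ha0, ha⟩ := (smul_pt_eq_iff g x y x' y').1 hxy
    have h3 := congrFun ha 3
    rw [mulVec_pv, h30] at h3
    simp [pv] at h3
    apply ha0
    rw [← h3]
    linear_combination h0
  constructor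
  · by_contra h31
    apply key 0 (-(g : Matrix (Fin 4) (Fin 4) F) 3 3 / (g : Matrix (Fin 4) (Fin 4) F) 3 1)
    field_simp
    ring
  · by_contra h32
    apply key (-(g : Matrix (Fin 4) (Fin 4) F) 3 3 / (g : Matrix (Fin 4) (Fin 4) F) 3 2) 0
    field_simp
    ring

theorem Wm_mul_mul_Wm (A : Matrix (Fin 4) (Fin 4) F) (i j : Fin 4) :
    (Wm * A * Wm : Matrix (Fin 4) (Fin 4) F) i j = A (Fin.rev i) (Fin.rev j) := by
  fin_cases i <;> fin_cases j <;>
    simp [Wm, Matrix.mul_apply, Fin.sum_univ_four, Fin.rev, Matrix.vecMul, dotProduct]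

section Fix

variable [Fintype F] (h : Fld F m)

include h

theorem eq_one_of_pow_four {t : F} (ht : t ^ 4 = 1) : t = 1 := by
  have h2 := h.two
  have h1 : (t - 1) ^ 4 = 0 := by
    linear_combination ht + (-2 * t ^ 3 + 3 * t ^ 2 - 2 * t + 1) * h2
  have := pow_eq_zero_iff (n := 4) (by norm_num) |>.1 h1
  exact sub_eq_zero.1 this

theorem row0_of_fix {g : SpecialLinearGroup (Fin 4) F} (hg : g ∈ Sz F m)
    (hzero : g • pt m (0 : F) 0 = pt m 0 0) :
    (g : Matrix (Fin 4) (Fin 4) F) 0 1 = 0 ∧ (g : Matrix (Fin 4) (Fin 4) F) 0 2 = 0 := by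
  have hg' : W * g * W ∈ Sz F m := (Sz F m).mul_mem ((Sz F m).mul_mem (W_mem h) hg) (W_mem h)
  have hinf' : (W * g * W) • (pinf : Projectivization F (Fin 4 → F)) = pinf := by
    rw [mul_smul, mul_smul, W_smul_pinf (m := m), hzero, W_smul_pt_zero]
  obtain ⟨h1, h2⟩ := row3_of_fix_pinf hg' hinf'
  have e : ((W * g * W : SpecialLinearGroup (Fin 4) F) : Matrix (Fin 4) (Fin 4) F) =
      Wm * (g : Matrix (Fin 4) (Fin 4) F) * Wm := rfl
  rw [e, Wm_mul_mul_Wm] at h1 h2
  exact ⟨h2, h1⟩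

theorem eq_D_of_fix (hm : 1 ≤ m) (hF : Fintype.card F = 2 ^ (2 * m + 1))
    {g : SpecialLinearGroup (Fin 4) F} (hg : g ∈ Sz F m)
    (hinf : g • (pinf : Projectivization F (Fin 4 → F)) = pinf)
    (hzero : g • pt m (0 : F) 0 = pt m 0 0) : ∃ k : Fˣ, g = D m k := by
  have h2 := h.two
  obtain ⟨A10, A20, A30⟩ := col0_of_fix_pinf hinf
  obtain ⟨A03, A13, A23⟩ := col3_of_fix_zero hzero
  obtain ⟨A31, A32⟩ := row3_of_fix_pinf hg hinf
  obtain ⟨A01, A02⟩ := row0_of_fix h hg hzero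
  set A : Matrix (Fin 4) (Fin 4) F := (g : Matrix (Fin 4) (Fin 4) F) with hA
  -- the functional equation
  have hδ : A 3 3 ≠ 0 := by
    obtain ⟨x', y', hxy⟩ := exists_smul_pt hg hinf 0 0
    obtain ⟨a, ha0, ha⟩ := (smul_pt_eq_iff g 0 0 x' y').1 hxy
    have h3 := congrFun ha 3
    rw [mulVec_pv, ← hA, A30, A31, A32] at h3
    simp [pv] at h3
    rw [h3]
    exact ha0
  have hfe : ∀ x y : F, f m (A 2 2 / A 3 3 * x + A 2 1 / A 3 3 * y)
      (A 1 2 / A 3 3 * x + A 1 1 / A 3 3 * y) = A 0 0 / A 3 3 * f m x y := by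
    intro x y
    obtain ⟨x', y', hxy⟩ := exists_smul_pt hg hinf x y
    obtain ⟨a, ha0, ha⟩ := (smul_pt_eq_iff g x y x' y').1 hxy
    have h0 := congrFun ha 0
    have h1 := congrFun ha 1
    have h2' := congrFun ha 2
    have h3 := congrFun ha 3
    rw [mulVec_pv, ← hA] at h0 h1 h2' h3
    rw [A30, A31, A32] at h3
    rw [A20] at h2'
    rw [A10] at h1
    rw [A01, A02, A03] at h0
    rw [A13] at h1
    rw [A23] at h2'
    simp [pv] at h0 h1 h2' h3
    subst h3
    have ex : A 2 2 / A 3 3 * x + A 2 1 / A 3 3 * y = x' := by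
      field_simp
      linear_combination h2'
    have ey : A 1 2 / A 3 3 * x + A 1 1 / A 3 3 * y = y' := by
      field_simp
      linear_combination h1
    rw [ex, ey]
    field_simp
    linear_combination -h0
  -- the off-diagonal entries vanish
  have hc : A 1 2 = 0 := by
    have H : ∀ x : F, (A 2 2 / A 3 3 * (A 1 2 / A 3 3)) * x ^ 2 + θ m (A 1 2 / A 3 3) * θ m x +
        ((A 2 2 / A 3 3) ^ 2 * θ m (A 2 2 / A 3 3) - A 0 0 / A 3 3) * (x ^ 2 * θ m x) = 0 := by
      intro x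
      have := hfe x 0
      rw [f_eq, f_eq] at this
      simp only [mul_zero, add_zero, θ_zero, θ_mul] at this
      linear_combination this
    have := (poly3 hm hF _ _ _ H).2.1
    rw [θ_eq_zero, div_eq_zero_iff] at this
    exact this.resolve_right hδ
  have hb : A 2 1 = 0 := by
    have H : ∀ y : F, (A 2 1 / A 3 3 * (A 1 1 / A 3 3)) * y ^ 2 +
        (θ m (A 1 1 / A 3 3) - A 0 0 / A 3 3) * θ m y +
        ((A 2 1 / A 3 3) ^ 2 * θ m (A 2 1 / A 3 3)) * (y ^ 2 * θ m y) = 0 := by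
      intro y
      have := hfe 0 y
      rw [f_eq, f_eq] at this
      simp only [mul_zero, zero_add, θ_zero, θ_mul, zero_mul, zero_pow two_ne_zero,
        add_zero] at this
      linear_combination this
    have := (poly3 hm hF _ _ _ H).2.2
    have h3 : A 2 1 / A 3 3 = 0 := by
      rcases mul_eq_zero.1 this with h4 | h4
      · exact pow_eq_zero_iff (two_ne_zero) |>.1 h4
      · exact θ_eq_zero.1 h4
    rw [div_eq_zero_iff] at h3
    exact h3.resolve_right hδ
  -- `A` is diagonal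
  have hdiag : A = Matrix.diagonal ![A 0 0, A 1 1, A 2 2, A 3 3] := by
    ext i j
    fin_cases i <;> fin_cases j <;>
      simp [Matrix.diagonal, A01, A02, A03, A10, hc, A13, A20, hb, A23, A30, A31, A32]
  have hdet : A 0 0 * A 1 1 * A 2 2 * A 3 3 = 1 := by
    have := g.2
    rw [← hA, hdiag, Matrix.det_diagonal] at this
    simpa [Fin.prod_univ_four] using this
  have h22 : A 2 2 ≠ 0 := by
    intro h0
    rw [h0] at hdet
    simp at hdet
  have hk : A 2 2 / A 3 3 ≠ 0 := div_ne_zero h22 hδ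
  -- relations between the diagonal entries
  have r10 := hfe 1 0
  have r01 := hfe 0 1
  have r11 := hfe 1 1
  rw [hc, hb] at r10 r01 r11
  rw [f_eq, f_eq] at r10 r01 r11
  simp only [mul_one, mul_zero, zero_div, add_zero, zero_add, θ_zero, θ_one, one_pow,
    zero_mul, zero_pow two_ne_zero, one_mul] at r10 r01 r11
  set k : F := A 2 2 / A 3 3 with hk_def
  set d : F := A 1 1 / A 3 3 with hd_def
  set l : F := A 0 0 / A 3 3 with hl_def
  have hd : d = k * θ m k := by
    have e1 : k * d = k * (k * θ m k) := by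
      linear_combination r11 - r01 - 2 * r10
    exact mul_left_cancel₀ hk e1
  have e22 : A 2 2 = k * A 3 3 := by rw [hk_def]; field_simp
  have e11 : A 1 1 = k * θ m k * A 3 3 := by rw [← hd, hd_def]; field_simp
  have e00 : A 0 0 = k ^ 2 * θ m k * A 3 3 := by
    have : l = k ^ 2 * θ m k := by linear_combination -r10
    rw [← this, hl_def]
    field_simp
  have hρ := ρ_sq (m := m) k
  have hρ0 := ρ_ne_zero (m := m) hk
  have h4 : (k * ρ m k * A 3 3) ^ 4 = 1 := by
    rw [e00, e11, e22, ← hρ] at hdet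
    linear_combination hdet
  have h5 := eq_one_of_pow_four h h4
  have e33 : A 3 3 = (k * ρ m k)⁻¹ := by
    field_simp
    linear_combination h5
  refine ⟨Units.mk0 k hk, ?_⟩
  apply Subtype.ext
  show A = Dm m k
  rw [hdiag, Dm]
  congr 1
  rw [e00, e11, e22, e33, ← hρ]
  ext i
  fin_cases i
  · simp
    field_simp
  · simp
    field_simp
  · simp
    field_simp
  · simp

end Fix

end Cfsg.Agent.Lib.H2.Sz
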