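import Mathlib
import Cfsg.Prelude.Def_LieExceptional
import Cfsg.Agent.Lib.H2.Sz4

set_option autoImplicit false
set_option linter.unusedSimpArgs false
set_option linter.unusedSectionVars false

/-!
# Suzuki groups V: point stabilisers and the order
-/

namespace Cfsg.Agent.Lib.H2.Sz

open Matrix Cfsg Projectivization MulAction
open scoped Pointwise

variable {F : Type*} [Field F] {m : ℕ}

theorem ρ_mul (k k' : F) : ρ m (k * k') = ρ m k * ρ m k' := mul_pow _ _ _

theorem ρ_one : ρ m (1 : F) = 1 := one_pow _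

theorem D_mul (k k' : Fˣ) : D m (k * k') = D m k * D m k' := by
  apply Subtype.ext
  show Dm m ((k * k' : Fˣ) : F) = Dm m (k : F) * Dm m (k' : F)
  unfold Dm
  rw [Matrix.diagonal_mul_diagonal]
  congr 1
  ext i
  fin_cases i <;> simp [ρ_mul, mul_inv] <;> ring

theorem D_one : D m (1 : Fˣ) = 1 := by
  apply Subtype.ext
  show Dm m ((1 : Fˣ) : F) = 1
  unfold Dm
  rw [← Matrix.diagonal_one]
  congr 1
  ext i
  fin_cases i <;> simp [ρ_one]

/-- `D` as a homomorphism -/
def Dhom (m : ℕ) : Fˣ →* SpecialLinearGroup (Fin 4) F where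
  toFun := D m
  map_one' := D_one
  map_mul' := D_mul

theorem D_injective : Function.Injective (D m : Fˣ → SpecialLinearGroup (Fin 4) F) := by
  intro k k' hkk
  have h1 : Dm m (k : F) = Dm m (k' : F) := congrArg Subtype.val hkk
  have e00 := congrFun (congrFun h1 0) 0
  have e11 := congrFun (congrFun h1 1) 1
  simp [Dm, Matrix.diagonal] at e00 e11
  rw [e11] at e00
  have hρ := ρ_ne_zero (m := m) k'.ne_zero
  exact Units.ext (mul_right_cancel₀ hρ e00)

variable [Fintype F] (h : Fld F m)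

include h

theorem T_smul_pt_zero (a b : F) : T m a b • pt m (0 : F) 0 = pt m a b := by
  rw [T_smul_pt h]
  congr 1 <;> ring

theorem D_smul_pt_zero (k : Fˣ) : D m k • pt m (0 : F) 0 = pt m 0 0 := by
  rw [D_smul_pt h]
  congr 1 <;> ring

/-- every element of `Sz` fixing `∞` is `T a b * D k` -/
theorem exists_TD_of_fix_pinf (hm : 1 ≤ m) (hF : Fintype.card F = 2 ^ (2 * m + 1))
    {g : SpecialLinearGroup (Fin 4) F} (hg : g ∈ Sz F m)
    (hinf : g • (pinf : Projectivization F (Fin 4 → F)) = pinf) :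
    ∃ (a b : F) (k : Fˣ), g = T m a b * D m k := by
  obtain ⟨a, b, hab⟩ := exists_smul_pt hg hinf 0 0
  have hg' : (T m a b)⁻¹ * g ∈ Sz F m := (Sz F m).mul_mem ((Sz F m).inv_mem (T_mem h a b)) hg
  have hinf' : ((T m a b)⁻¹ * g) • (pinf : Projectivization F (Fin 4 → F)) = pinf := by
    rw [mul_smul, hinf, inv_smul_eq_iff, T_smul_pinf]
  have hzero' : ((T m a b)⁻¹ * g) • pt m (0 : F) 0 = pt m 0 0 := by
    rw [mul_smul, hab, inv_smul_eq_iff, T_smul_pt_zero h]
  obtain ⟨k, hk⟩ := eq_D_of_fix h hm hF hg' hinf' hzero'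
  refine ⟨a, b, k, ?_⟩
  rw [← hk]
  group

/-- the parametrisation of the stabiliser of `∞` -/
theorem TD_injective {a b a' b' : F} {k k' : Fˣ} (e : T m a b * D m k = T m a' b' * D m k') :
    a = a' ∧ b = b' ∧ k = k' := by
  have h1 := congrArg (fun g : SpecialLinearGroup (Fin 4) F => g • pt m (0 : F) 0) e
  simp only [mul_smul, D_smul_pt_zero h, T_smul_pt_zero h] at h1
  obtain ⟨ha, hb⟩ := pt_injective h1
  subst ha
  subst hb
  exact ⟨rfl, rfl, D_injective (mul_left_cancel e)⟩

end Cfsg.Agent.Lib.H2.Sz
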