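import Mathlib
import Cfsg.Prelude.Def_LieExceptional
import Cfsg.Agent.Lib.H2.Sz5
import Cfsg.Agent.S0326

set_option autoImplicit false
set_option linter.unusedSimpArgs false
set_option linter.unusedSectionVars false

/-!
# Suzuki groups VI: orders of the stabilisers and of the group
-/

namespace Cfsg.Agent.Lib.H2.Sz

open Matrix Cfsg Projectivization MulAction
open scoped Pointwise

variable {F : Type*} [Field F] {m : ℕ} [Fintype F] (h : Fld F m)

include h

/-- the stabiliser of `∞` and `0` is isomorphic to `Fˣ` -/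
theorem nonempty_two_point_equiv (hm : 1 ≤ m) (hF : Fintype.card F = 2 ^ (2 * m + 1)) :
    Nonempty (↥(stabilizer (Sz F m) (pinf : Projectivization F (Fin 4 → F)) ⊓
        stabilizer (Sz F m) (pt m (0 : F) 0)) ≃* Fˣ) := by
  let φ : Fˣ →* ↥(stabilizer (Sz F m) (pinf : Projectivization F (Fin 4 → F)) ⊓
        stabilizer (Sz F m) (pt m (0 : F) 0)) :=
    { toFun := fun k => ⟨⟨D m k, D_mem h k⟩, ⟨D_smul_pinf k, D_smul_pt_zero h k⟩⟩
      map_one' := by
        apply Subtype.ext
        apply Subtype.ext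
        exact D_one
      map_mul' := by
        intro k k'
        apply Subtype.ext
        apply Subtype.ext
        exact D_mul k k' }
  have hbij : Function.Bijective φ := by
    constructor
    · intro k k' hkk
      have : D m k = D m k' := congrArg Subtype.val (congrArg Subtype.val hkk)
      exact D_injective this
    · rintro ⟨⟨g, hg⟩, hg1, hg2⟩
      have hinf : g • (pinf : Projectivization F (Fin 4 → F)) = pinf := hg1
      have hzero : g • pt m (0 : F) 0 = pt m 0 0 := hg2
      obtain ⟨k, hk⟩ := eq_D_of_fix h hm hF hg hinf hzero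
      refine ⟨k, ?_⟩
      apply Subtype.ext
      apply Subtype.ext
      exact hk.symm
  exact ⟨(MulEquiv.ofBijective φ hbij).symm⟩

/-- the order of the stabiliser of `∞` -/
theorem card_stabilizer_pinf (hm : 1 ≤ m) (hF : Fintype.card F = 2 ^ (2 * m + 1)) :
    Nat.card (stabilizer (Sz F m) (pinf : Projectivization F (Fin 4 → F))) =
      (2 ^ (2 * m + 1)) ^ 2 * (2 ^ (2 * m + 1) - 1) := by
  let ψ : F × F × Fˣ → stabilizer (Sz F m) (pinf : Projectivization F (Fin 4 → F)) :=
    fun x => ⟨⟨T m x.1 x.2.1 * D m x.2.2,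
      (Sz F m).mul_mem (T_mem h x.1 x.2.1) (D_mem h x.2.2)⟩, by
        show (T m x.1 x.2.1 * D m x.2.2) • (pinf : Projectivization F (Fin 4 → F)) = pinf
        rw [mul_smul, D_smul_pinf, T_smul_pinf]⟩
  have hbij : Function.Bijective ψ := by
    constructor
    · rintro ⟨a, b, k⟩ ⟨a', b', k'⟩ hh
      have e : T m a b * D m k = T m a' b' * D m k' :=
        congrArg Subtype.val (congrArg Subtype.val hh)
      obtain ⟨rfl, rfl, rfl⟩ := TD_injective h e
      rfl
    · rintro ⟨⟨g, hg⟩, hg1⟩
      have hinf : g • (pinf : Projectivization F (Fin 4 → F)) = pinf := hg1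
      obtain ⟨a, b, k, hk⟩ := exists_TD_of_fix_pinf h hm hF hg hinf
      refine ⟨⟨a, b, k⟩, ?_⟩
      apply Subtype.ext
      apply Subtype.ext
      exact hk.symm
  rw [← Nat.card_congr (Equiv.ofBijective ψ hbij), Nat.card_prod, Nat.card_prod, Nat.card_units,
    Nat.card_eq_fintype_card, hF]
  ring

/-- the orbit of `∞` is the ovoid -/
theorem orbit_pinf : orbit (Sz F m) (pinf : Projectivization F (Fin 4 → F)) = suzukiOvoid F m := by
  ext p
  constructor
  · rintro ⟨g, rfl⟩
    exact smul_mem_of_mem_Sz g.2 pinf_mem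
  · intro hp
    rcases (mem_ovoid_iff p).1 hp with rfl | ⟨x, y, rfl⟩
    · exact mem_orbit_self _
    · refine ⟨⟨T m x y * W, (Sz F m).mul_mem (T_mem h x y) (W_mem h)⟩, ?_⟩
      show (T m x y * W) • (pinf : Projectivization F (Fin 4 → F)) = pt m x y
      rw [mul_smul, W_smul_pinf (m := m), T_smul_pt_zero h]

/-- the order of the Suzuki group -/
theorem card_Sz (hm : 1 ≤ m) (hF : Fintype.card F = 2 ^ (2 * m + 1)) :
    Nat.card (Sz F m) =
      (2 ^ (2 * m + 1)) ^ 2 * ((2 ^ (2 * m + 1)) ^ 2 + 1) * (2 ^ (2 * m + 1) - 1) := by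
  have h1 := (stabilizer (Sz F m) (pinf : Projectivization F (Fin 4 → F))).card_mul_index
  rw [index_stabilizer, orbit_pinf h, card_stabilizer_pinf h hm hF, ← Nat.card_coe_set_eq,
    Cfsg.Agent.S0326.result, hF] at h1
  rw [← h1]
  ring

end Cfsg.Agent.Lib.H2.Sz
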