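import Mathlib
import Cfsg.Prelude.Def_LieExceptional
import Cfsg.Agent.Lib.H2.Sz6

set_option autoImplicit false
set_option linter.unusedSimpArgs false
set_option linter.unusedSectionVars false

/-!
# Suzuki groups VII: multiplication of translations, faithfulness, double transitivity
-/

namespace Cfsg.Agent.Lib.H2.Sz

open Matrix Cfsg Projectivization MulAction
open scoped Pointwise

variable {F : Type*} [Field F] {m : ℕ}

theorem Tm_mul (h : Fld F m) (a b c d : F) :
    Tm m a b * Tm m c d = Tm m (a + c) (b + d + θ m a * c) := by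
  have h2 := h.two
  have e := f_translate h a b c d
  have e' : f m (a + c) (b + d + θ m a * c) =
      f m c d + a * d + (b + θ m a * a) * c + f m a b := by
    rw [show a + c = c + a by ring, show b + d + θ m a * c = d + b + θ m a * c by ring]
    exact e
  ext i j
  fin_cases i <;> fin_cases j <;>
    simp [Tm, Matrix.mul_apply, Fin.sum_univ_four, θ_add h]
  all_goals first | ring1 | linear_combination (-1 : F) * e' |
    linear_combination (-(c * θ m a)) * h2

theorem T_mul (h : Fld F m) (a b c d : F) :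
    T m a b * T m c d = T m (a + c) (b + d + θ m a * c) :=
  Subtype.ext (Tm_mul h a b c d)

theorem T_zero : T m (0 : F) 0 = 1 := by
  apply Subtype.ext
  show Tm m 0 0 = 1
  ext i j
  fin_cases i <;> fin_cases j <;> simp [Tm, f]

variable [Fintype F] (h : Fld F m)

include h

theorem T_inv_smul_pt (x y : F) : (T m x y)⁻¹ • pt m x y = pt m (0 : F) 0 := by
  rw [inv_smul_eq_iff, T_smul_pt_zero h]

/-- an element of `Sz` fixing the whole ovoid is trivial -/
theorem eq_one_of_fix_all (hm : 1 ≤ m) (hF : Fintype.card F = 2 ^ (2 * m + 1))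
    {g : SpecialLinearGroup (Fin 4) F} (hg : g ∈ Sz F m)
    (hfix : ∀ p ∈ suzukiOvoid F m, g • p = p) : g = 1 := by
  obtain ⟨k, rfl⟩ := eq_D_of_fix h hm hF hg (hfix _ pinf_mem) (hfix _ (pt_mem _ _))
  have h1 := hfix _ (pt_mem (m := m) (1 : F) 0)
  rw [D_smul_pt h] at h1
  obtain ⟨h2, -⟩ := pt_injective h1
  rw [mul_one] at h2
  have : k = 1 := Units.ext h2
  rw [this, D_one]

/-- any two distinct points can be moved to `∞` and `0` -/
theorem exists_move {a b : Projectivization F (Fin 4 → F)} (ha : a ∈ suzukiOvoid F m)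
    (hb : b ∈ suzukiOvoid F m) (hab : a ≠ b) :
    ∃ g ∈ Sz F m, g • a = pinf ∧ g • b = pt m (0 : F) 0 := by
  -- first move `a` to `∞`
  have h1 : ∃ g₁ ∈ Sz F m, g₁ • a = pinf := by
    rcases (mem_ovoid_iff a).1 ha with rfl | ⟨x, y, rfl⟩
    · exact ⟨1, (Sz F m).one_mem, one_smul _ _⟩
    · refine ⟨W * (T m x y)⁻¹, (Sz F m).mul_mem (W_mem h) ((Sz F m).inv_mem (T_mem h x y)), ?_⟩
      rw [mul_smul, T_inv_smul_pt h, W_smul_pt_zero]
  obtain ⟨g₁, hg₁, hg₁a⟩ := h1
  have hb' : g₁ • b ∈ suzukiOvoid F m := smul_mem_of_mem_Sz hg₁ hb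
  rcases (mem_ovoid_iff _).1 hb' with h2 | ⟨x, y, h2⟩
  · exfalso
    rw [← hg₁a] at h2
    exact hab (smul_left_cancel _ h2).symm
  · refine ⟨(T m x y)⁻¹ * g₁, (Sz F m).mul_mem ((Sz F m).inv_mem (T_mem h x y)) hg₁, ?_, ?_⟩
    · rw [mul_smul, hg₁a, inv_smul_eq_iff, T_smul_pinf]
    · rw [mul_smul, h2, T_inv_smul_pt h]

theorem two_transitive {a b c d : Projectivization F (Fin 4 → F)} (ha : a ∈ suzukiOvoid F m)
    (hb : b ∈ suzukiOvoid F m) (hc : c ∈ suzukiOvoid F m) (hd : d ∈ suzukiOvoid F m)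
    (hab : a ≠ b) (hcd : c ≠ d) : ∃ g ∈ Sz F m, g • a = c ∧ g • b = d := by
  obtain ⟨g₁, hg₁, h1a, h1b⟩ := exists_move h ha hb hab
  obtain ⟨g₂, hg₂, h2c, h2d⟩ := exists_move h hc hd hcd
  refine ⟨g₂⁻¹ * g₁, (Sz F m).mul_mem ((Sz F m).inv_mem hg₂) hg₁, ?_, ?_⟩
  · rw [mul_smul, h1a, inv_smul_eq_iff, h2c]
  · rw [mul_smul, h1b, inv_smul_eq_iff, h2d]

/-- `k θ(k) = 1` forces `k = 1` -/
theorem eq_one_of_mul_θ {k : F} (hk : k * θ m k = 1) : k = 1 := by
  have hk0 : k ≠ 0 := by
    rintro rfl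
    simp at hk
  have h1 : θ m k = k⁻¹ := eq_inv_of_mul_eq_one_right hk
  have h2 : θ m (θ m k) = k := by rw [h1, θ_inv, h1, inv_inv]
  rw [θ_θ h] at h2
  have h3 : k * (k - 1) = 0 := by linear_combination h2
  rcases mul_eq_zero.1 h3 with h4 | h4
  · exact absurd h4 hk0
  · exact sub_eq_zero.1 h4

theorem eq_one_of_fix_three (hm : 1 ≤ m) (hF : Fintype.card F = 2 ^ (2 * m + 1))
    {g : SpecialLinearGroup (Fin 4) F} (hg : g ∈ Sz F m)
    {a b c : Projectivization F (Fin 4 → F)} (ha : a ∈ suzukiOvoid F m)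
    (hb : b ∈ suzukiOvoid F m) (hc : c ∈ suzukiOvoid F m) (hab : a ≠ b) (hbc : b ≠ c)
    (hac : a ≠ c) (hga : g • a = a) (hgb : g • b = b) (hgc : g • c = c) : g = 1 := by
  obtain ⟨t, ht, hta, htb⟩ := exists_move h ha hb hab
  have hg' : t * g * t⁻¹ ∈ Sz F m :=
    (Sz F m).mul_mem ((Sz F m).mul_mem ht hg) ((Sz F m).inv_mem ht)
  have f1 : (t * g * t⁻¹) • (pinf : Projectivization F (Fin 4 → F)) = pinf := by
    rw [mul_smul, mul_smul, ← hta, inv_smul_smul, hga]
  have f2 : (t * g * t⁻¹) • pt m (0 : F) 0 = pt m 0 0 := by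
    rw [mul_smul, mul_smul, ← htb, inv_smul_smul, hgb]
  have f3 : (t * g * t⁻¹) • (t • c) = t • c := by
    rw [mul_smul, mul_smul, inv_smul_smul, hgc]
  obtain ⟨k, hk⟩ := eq_D_of_fix h hm hF hg' f1 f2
  have hc' : t • c ∈ suzukiOvoid F m := smul_mem_of_mem_Sz ht hc
  have hk1 : k = 1 := by
    rcases (mem_ovoid_iff _).1 hc' with h2 | ⟨x, y, h2⟩
    · exfalso
      rw [← hta] at h2
      exact hac (smul_left_cancel _ h2).symm
    · rw [h2, hk, D_smul_pt h] at f3
      obtain ⟨e1, e2⟩ := pt_injective f3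
      by_cases hx : x = 0
      · have hy : y ≠ 0 := by
          rintro rfl
          rw [hx, ← htb] at h2
          exact hbc (smul_left_cancel _ h2).symm
        have : (k : F) * θ m (k : F) = 1 := by
          have e3 : ((k : F) * θ m (k : F) - 1) * y = 0 := by linear_combination e2
          rcases mul_eq_zero.1 e3 with h4 | h4
          · exact sub_eq_zero.1 h4
          · exact absurd h4 hy
        exact Units.ext (eq_one_of_mul_θ h this)
      · have e3 : ((k : F) - 1) * x = 0 := by linear_combination e1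
        rcases mul_eq_zero.1 e3 with h4 | h4
        · exact Units.ext (sub_eq_zero.1 h4)
        · exact absurd h4 hx
  rw [hk1, D_one] at hk
  have : g = t⁻¹ * (t * g * t⁻¹) * t := by group
  rw [this, hk]
  group

end Cfsg.Agent.Lib.H2.Sz
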