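import Mathlib
import Cfsg.Prelude.Def_LieExceptional
import Cfsg.Agent.Lib.H2.Sz7

set_option autoImplicit false
set_option linter.unusedSimpArgs false
set_option linter.unusedSectionVars false

/-!
# Suzuki groups VIII: Bruhat decomposition, the invariant alternating form
-/

namespace Cfsg.Agent.Lib.H2.Sz

open Matrix Cfsg Projectivization MulAction
open scoped Pointwise

variable {F : Type*} [Field F] {m : ℕ}

/-- preservation of the antidiagonal form -/
def Pres (A : Matrix (Fin 4) (Fin 4) F) : Prop := A.transpose * suzukiForm F * A = suzukiForm F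

theorem Pres.mul {A B : Matrix (Fin 4) (Fin 4) F} (hA : Pres A) (hB : Pres B) : Pres (A * B) := by
  unfold Pres at *
  rw [Matrix.transpose_mul]
  calc B.transpose * A.transpose * suzukiForm F * (A * B)
      = B.transpose * (A.transpose * suzukiForm F * A) * B := by
        simp only [Matrix.mul_assoc]
    _ = suzukiForm F := by rw [hA, hB]

theorem pres_Wm : Pres (Wm : Matrix (Fin 4) (Fin 4) F) := by
  unfold Pres
  ext i j
  fin_cases i <;> fin_cases j <;>
    simp [Wm, suzukiForm, Matrix.mul_apply, Fin.sum_univ_four]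

theorem pres_Dm {k : F} (hk : k ≠ 0) : Pres (Dm m k) := by
  have hρ := ρ_ne_zero (m := m) hk
  unfold Pres
  ext i j
  fin_cases i <;> fin_cases j <;>
    simp [Dm, suzukiForm, Matrix.mul_apply, Fin.sum_univ_four, Matrix.diagonal, hk, hρ]
  all_goals field_simp

theorem pres_Tm (h : Fld F m) (a b : F) : Pres (Tm m a b) := by
  have h2 := h.two
  unfold Pres
  ext i j
  fin_cases i <;> fin_cases j <;>
    simp [Tm, suzukiForm, Matrix.mul_apply, Fin.sum_univ_four]
  all_goals first | ring1 | linear_combination (a) * h2 | linear_combination (θ m a) * h2 |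
    linear_combination (b + θ m a * a) * h2 | linear_combination (f m a b + a * b) * h2

variable [Fintype F] (h : Fld F m)

include h

/-- Bruhat decomposition of the Suzuki group -/
theorem bruhat (hm : 1 ≤ m) (hF : Fintype.card F = 2 ^ (2 * m + 1))
    {g : SpecialLinearGroup (Fin 4) F} (hg : g ∈ Sz F m) :
    (∃ (a b : F) (k : Fˣ), g = T m a b * D m k) ∨
      ∃ (a b a' b' : F) (k : Fˣ), g = T m a b * W * (T m a' b' * D m k) := by
  rcases (mem_ovoid_iff _).1 (smul_mem_of_mem_Sz hg (pinf_mem (m := m))) with h1 | ⟨a, b, h1⟩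
  · exact Or.inl (exists_TD_of_fix_pinf h hm hF hg h1)
  · right
    have hg' : (T m a b * W)⁻¹ * g ∈ Sz F m :=
      (Sz F m).mul_mem ((Sz F m).inv_mem ((Sz F m).mul_mem (T_mem h a b) (W_mem h))) hg
    have hinf' : ((T m a b * W)⁻¹ * g) • (pinf : Projectivization F (Fin 4 → F)) = pinf := by
      rw [mul_smul, h1, inv_smul_eq_iff, mul_smul, W_smul_pinf (m := m), T_smul_pt_zero h]
    obtain ⟨a', b', k, hk⟩ := exists_TD_of_fix_pinf h hm hF hg' hinf'
    refine ⟨a, b, a', b', k, ?_⟩
    rw [← hk]
    group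

/-- every element of the Suzuki group preserves the antidiagonal alternating form -/
theorem pres_of_mem_Sz (hm : 1 ≤ m) (hF : Fintype.card F = 2 ^ (2 * m + 1))
    {g : SpecialLinearGroup (Fin 4) F} (hg : g ∈ Sz F m) :
    Pres (g : Matrix (Fin 4) (Fin 4) F) := by
  rcases bruhat h hm hF hg with ⟨a, b, k, rfl⟩ | ⟨a, b, a', b', k, rfl⟩
  · exact (pres_Tm h a b).mul (pres_Dm k.ne_zero)
  · exact ((pres_Tm h a b).mul pres_Wm).mul ((pres_Tm h a' b').mul (pres_Dm k.ne_zero))

end Cfsg.Agent.Lib.H2.Sz
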