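import Mathlib
import Cfsg.Prelude.Def_LieExceptional
import Cfsg.Agent.Lib.H2.Sz8

set_option autoImplicit false
set_option linter.unusedSimpArgs false
set_option linter.unusedSectionVars false

/-!
# Suzuki groups IX: the Sylow 2-subgroup of translations
-/

namespace Cfsg.Agent.Lib.H2.Sz

open Matrix Cfsg Projectivization MulAction
open scoped Pointwise commutatorElement

/-- transport of `center = commutator` along an isomorphism -/
theorem center_eq_commutator_of_equiv {G H : Type*} [Group G] [Group H] (e : G ≃* H)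
    (hH : Subgroup.center H = commutator H) : Subgroup.center G = commutator G := by
  have h1 : ∀ x : G, x ∈ Subgroup.center G ↔ e x ∈ Subgroup.center H := by
    intro x
    rw [Subgroup.mem_center_iff, Subgroup.mem_center_iff]
    constructor
    · intro hx y
      obtain ⟨y', rfl⟩ := e.surjective y
      rw [← map_mul, ← map_mul, hx y']
    · intro hx y
      apply e.injective
      rw [map_mul, map_mul, hx (e y)]
  have h2 : (commutator G).map e.toMonoidHom = commutator H := by
    rw [commutator_def, Subgroup.map_commutator,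
      Subgroup.map_top_of_surjective _ e.surjective, commutator_def]
  ext x
  rw [h1 x, hH, ← h2]
  constructor
  · rintro ⟨y, hy, hxy⟩
    have := e.injective hxy
    rwa [← this]
  · intro hx
    exact ⟨x, hx, rfl⟩

theorem pow_four' {M : Type*} [Monoid M] (x : M) : x ^ 4 = (x * x) * (x * x) := by
  rw [show (4 : ℕ) = 2 + 2 from rfl, pow_add, pow_two]

variable {F : Type*} [Field F] {m : ℕ}

theorem T_inv (h : Fld F m) (a b : F) : (T m a b)⁻¹ = T m a (b + θ m a * a) := by
  apply inv_eq_of_mul_eq_one_right
  rw [T_mul h, ← T_zero (m := m)]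
  have h2 := h.two
  congr 1
  · linear_combination a * h2
  · linear_combination (b + θ m a * a) * h2

theorem T_injective (h : Fld F m) {a b a' b' : F} (e : T m a b = T m a' b') : a = a' ∧ b = b' := by
  have h1 := congrArg (fun g : SpecialLinearGroup (Fin 4) F => g • pt m (0 : F) 0) e
  simp only [T_smul_pt h] at h1
  obtain ⟨e1, e2⟩ := pt_injective h1
  simp at e1 e2
  exact ⟨e1, e2⟩

variable [Fintype F] (h : Fld F m)

include h

/-- the subgroup of translations -/
def TS : Subgroup (Sz F m) where
  carrier := {g | ∃ a b : F, (g : SpecialLinearGroup (Fin 4) F) = T m a b}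
  mul_mem' := by
    rintro x y ⟨a, b, hx⟩ ⟨c, d, hy⟩
    exact ⟨a + c, b + d + θ m a * c, by rw [Subgroup.coe_mul, hx, hy, T_mul h]⟩
  one_mem' := ⟨0, 0, by rw [T_zero]; rfl⟩
  inv_mem' := by
    rintro x ⟨a, b, hx⟩
    exact ⟨a, b + θ m a * a, by rw [Subgroup.coe_inv, hx, T_inv h]⟩

/-- elements of `TS` -/
def tS (a b : F) : TS h := ⟨⟨T m a b, T_mem h a b⟩, ⟨a, b, rfl⟩⟩

theorem exists_tS (x : TS h) : ∃ a b : F, x = tS h a b := by
  obtain ⟨a, b, hab⟩ := x.2
  exact ⟨a, b, Subtype.ext (Subtype.ext hab)⟩

theorem tS_mul (a b c d : F) : tS h a b * tS h c d = tS h (a + c) (b + d + θ m a * c) :=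
  Subtype.ext (Subtype.ext (T_mul h a b c d))

theorem tS_zero : tS h 0 0 = 1 := Subtype.ext (Subtype.ext T_zero)

theorem tS_injective {a b a' b' : F} (e : tS h a b = tS h a' b') : a = a' ∧ b = b' :=
  T_injective h (congrArg Subtype.val (congrArg Subtype.val e))

theorem tS_eq_one_iff {a b : F} : tS h a b = 1 ↔ a = 0 ∧ b = 0 := by
  rw [← tS_zero h]
  constructor
  · exact tS_injective h
  · rintro ⟨rfl, rfl⟩
    rfl

theorem card_TS (hF : Fintype.card F = 2 ^ (2 * m + 1)) :
    Nat.card (TS h) = (2 ^ (2 * m + 1)) ^ 2 := by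
  let ψ : F × F → TS h := fun x => tS h x.1 x.2
  have hbij : Function.Bijective ψ := by
    constructor
    · rintro ⟨a, b⟩ ⟨a', b'⟩ e
      obtain ⟨rfl, rfl⟩ := tS_injective h e
      rfl
    · intro x
      obtain ⟨a, b, rfl⟩ := exists_tS h x
      exact ⟨⟨a, b⟩, rfl⟩
  rw [← Nat.card_congr (Equiv.ofBijective ψ hbij), Nat.card_prod, Nat.card_eq_fintype_card, hF]
  ring

theorem tS_sq (a b : F) : tS h a b * tS h a b = tS h 0 (θ m a * a) := by
  rw [tS_mul]
  have h2 := h.two
  congr 1
  · linear_combination a * h2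
  · linear_combination b * h2

theorem tS_pow_four (x : TS h) : x ^ 4 = 1 := by
  obtain ⟨a, b, rfl⟩ := exists_tS h x
  have h2 := h.two
  calc tS h a b ^ 4 = (tS h a b * tS h a b) * (tS h a b * tS h a b) := pow_four' _
    _ = 1 := by
      rw [tS_sq, tS_mul, ← tS_zero h]
      congr 1
      · ring
      · rw [θ_zero]
        linear_combination (θ m a * a) * h2

theorem exponent_TS : Monoid.exponent (TS h) = 4 := by
  apply Nat.dvd_antisymm
  · exact Monoid.exponent_dvd_of_forall_pow_eq_one (tS_pow_four h)
  · have h1 : orderOf (tS h 1 0) = 4 := by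
      have h4 : orderOf (tS h 1 0) ∣ 2 ^ 2 := orderOf_dvd_of_pow_eq_one (tS_pow_four h _)
      obtain ⟨k, hk, hk'⟩ := (Nat.dvd_prime_pow Nat.prime_two).1 h4
      have hne : ¬ orderOf (tS h 1 0) ∣ 2 := by
        intro hd
        have := orderOf_dvd_iff_pow_eq_one.1 hd
        rw [pow_two, tS_sq, tS_eq_one_iff] at this
        simp at this
      interval_cases k
      · rw [hk'] at hne
        exact absurd (one_dvd _) hne
      · rw [hk'] at hne
        exact absurd (dvd_refl _) hne
      · rw [hk']
        norm_num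
    have := Monoid.order_dvd_exponent (tS h 1 0)
    rwa [h1] at this

theorem mem_center_TS_iff (hm : 1 ≤ m) (hF : Fintype.card F = 2 ^ (2 * m + 1)) (a b : F) :
    tS h a b ∈ Subgroup.center (TS h) ↔ a = 0 := by
  rw [Subgroup.mem_center_iff]
  constructor
  · intro hc
    have key : ∀ c : F, θ m a * c = θ m c * a := by
      intro c
      have := hc (tS h c 0)
      rw [tS_mul, tS_mul] at this
      obtain ⟨-, e2⟩ := tS_injective h this
      linear_combination -e2
    have h1 := key 1
    rw [θ_one, mul_one, one_mul] at h1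
    rcases θ_fixed h h1 with h0 | h0
    · exact h0
    · exfalso
      rw [h0, θ_one] at key
      -- every element is fixed by θ
      have hcard : 2 < Fintype.card F := by
        rw [hF]
        calc 2 < 2 ^ 2 := by norm_num
          _ ≤ 2 ^ (2 * m + 1) := Nat.pow_le_pow_right (by norm_num) (by omega)
      have hall : ∀ c : F, c = 0 ∨ c = 1 := by
        intro c
        apply θ_fixed h
        have := key c
        linear_combination -this
      have : Fintype.card F ≤ 2 := by
        classical
        calc Fintype.card F = (Finset.univ : Finset F).card := rfl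
          _ ≤ ({0, 1} : Finset F).card := Finset.card_le_card (by
              intro x _
              rcases hall x with hx | hx <;> simp [hx])
          _ ≤ 2 := Finset.card_le_two
      omega
  · rintro rfl y
    obtain ⟨c, d, rfl⟩ := exists_tS h y
    rw [tS_mul, tS_mul]
    congr 1
    · ring
    · rw [θ_zero]
      ring

/-- `c ↦ c θ(c)` is surjective -/
theorem mul_θ_surjective : Function.Surjective (fun c : F => c * θ m c) := by
  apply Finite.injective_iff_surjective.1
  intro c c' hcc
  simp only at hcc
  by_cases hc' : c' = 0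
  · subst hc'
    rw [θ_zero, mul_zero] at hcc
    rcases mul_eq_zero.1 hcc with h0 | h0
    · exact h0
    · exact θ_eq_zero.1 h0
  · have hθ : θ m c' ≠ 0 := fun h0 => hc' (θ_eq_zero.1 h0)
    have h1 : (c / c') * θ m (c / c') = 1 := by
      rw [θ_div]
      field_simp
      linear_combination hcc
    have h2 := eq_one_of_mul_θ h h1
    field_simp at h2
    exact h2

theorem exists_comm_eq (hm : 1 ≤ m) (hF : Fintype.card F = 2 ^ (2 * m + 1)) (b : F) :
    ∃ a c : F, θ m a * c + θ m c * a = b := by
  have hcard : 2 < Fintype.card F := by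
    rw [hF]
    calc 2 < 2 ^ 2 := by norm_num
      _ ≤ 2 ^ (2 * m + 1) := Nat.pow_le_pow_right (by norm_num) (by omega)
  obtain ⟨a₀, ha0, ha1⟩ : ∃ c : F, c ≠ 0 ∧ c ≠ 1 := by
    by_contra hne
    push Not at hne
    have : Fintype.card F ≤ 2 := by
      classical
      calc Fintype.card F = (Finset.univ : Finset F).card := rfl
        _ ≤ ({0, 1} : Finset F).card := Finset.card_le_card (by
            intro x _
            by_cases hx : x = 0
            · simp [hx]
            · simp [hne x hx])
        _ ≤ 2 := Finset.card_le_two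
    omega
  have hw : θ m a₀ + a₀ ≠ 0 := by
    intro h0
    rcases θ_fixed h (h.eq_of_add_eq_zero h0) with h1 | h1
    · exact ha0 h1
    · exact ha1 h1
  obtain ⟨c, hc⟩ := mul_θ_surjective h (b / (θ m a₀ + a₀))
  simp only at hc
  refine ⟨c * a₀, c, ?_⟩
  rw [θ_mul]
  have : c * θ m c * (θ m a₀ + a₀) = b := by
    rw [hc]
    field_simp
  linear_combination this

theorem commutator_tS (a b c d : F) :
    ⁅tS h a b, tS h c d⁆ = tS h 0 (θ m a * c + θ m c * a) := by
  have h2 := h.two
  have e1 : tS h a b * tS h c d = tS h 0 (θ m a * c + θ m c * a) * (tS h c d * tS h a b) := by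
    rw [tS_mul, tS_mul, tS_mul]
    congr 1
    · ring
    · rw [θ_zero]
      linear_combination (-(θ m c * a)) * h2
  rw [commutatorElement_def]
  calc tS h a b * tS h c d * (tS h a b)⁻¹ * (tS h c d)⁻¹
      = (tS h a b * tS h c d) * (tS h c d * tS h a b)⁻¹ := by group
    _ = tS h 0 (θ m a * c + θ m c * a) := by rw [e1]; group

theorem center_TS_eq_commutator (hm : 1 ≤ m) (hF : Fintype.card F = 2 ^ (2 * m + 1)) :
    Subgroup.center (TS h) = commutator (TS h) := by
  apply le_antisymm
  · intro x hx
    obtain ⟨a, b, rfl⟩ := exists_tS h x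
    have ha := (mem_center_TS_iff h hm hF a b).1 hx
    subst ha
    obtain ⟨a, c, hac⟩ := exists_comm_eq h hm hF b
    rw [← hac, ← commutator_tS h a 0 c 0, commutator_def]
    exact Subgroup.commutator_mem_commutator (Subgroup.mem_top _) (Subgroup.mem_top _)
  · rw [commutator_def, Subgroup.commutator_le]
    intro x _ y _
    obtain ⟨a, b, rfl⟩ := exists_tS h x
    obtain ⟨c, d, rfl⟩ := exists_tS h y
    rw [commutator_tS]
    exact (mem_center_TS_iff h hm hF _ _).2 rfl

theorem card_center_TS (hm : 1 ≤ m) (hF : Fintype.card F = 2 ^ (2 * m + 1)) :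
    Nat.card (Subgroup.center (TS h)) = 2 ^ (2 * m + 1) := by
  let ψ : F → Subgroup.center (TS h) := fun b => ⟨tS h 0 b, (mem_center_TS_iff h hm hF 0 b).2 rfl⟩
  have hbij : Function.Bijective ψ := by
    constructor
    · intro b b' e
      exact (tS_injective h (congrArg Subtype.val e)).2
    · rintro ⟨x, hx⟩
      obtain ⟨a, b, rfl⟩ := exists_tS h x
      have ha := (mem_center_TS_iff h hm hF a b).1 hx
      subst ha
      exact ⟨b, rfl⟩
  rw [← Nat.card_congr (Equiv.ofBijective ψ hbij), Nat.card_eq_fintype_card, hF]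

end Cfsg.Agent.Lib.H2.Sz
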