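import Mathlib
import Cfsg.Prelude.Def_LieExceptional
import Cfsg.Agent.Lib.H2.Sz9

set_option autoImplicit false
set_option linter.unusedSimpArgs false
set_option linter.unusedSectionVars false

/-!
# Suzuki groups X: conjugation of translations by the torus, the Sylow 2-subgroups
-/

namespace Cfsg.Agent.Lib.H2.Sz

open Matrix Cfsg Projectivization MulAction
open scoped Pointwise commutatorElement

theorem sylow_mem_smul_iff {G : Type*} [Group G] (P : Sylow 2 G) (s g : G) :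
    g ∈ s • P ↔ s⁻¹ * g * s ∈ P := by
  show g ∈ ((s • P : Sylow 2 G) : Subgroup G) ↔ _
  rw [Sylow.coe_subgroup_smul, Subgroup.mem_pointwise_smul_iff_inv_smul_mem]
  simp [MulAut.smul_def]
  rfl

variable {F : Type*} [Field F] {m : ℕ} [Fintype F] (h : Fld F m)

include h

/-- two elements of `Sz` acting in the same way on the ovoid are equal -/
theorem eq_of_smul_eq (hm : 1 ≤ m) (hF : Fintype.card F = 2 ^ (2 * m + 1))
    {g g' : SpecialLinearGroup (Fin 4) F} (hg : g ∈ Sz F m) (hg' : g' ∈ Sz F m)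
    (hfix : ∀ p ∈ suzukiOvoid F m, g • p = g' • p) : g = g' := by
  have h1 : g'⁻¹ * g = 1 := by
    apply eq_one_of_fix_all h hm hF ((Sz F m).mul_mem ((Sz F m).inv_mem hg') hg)
    intro p hp
    rw [mul_smul, hfix p hp, inv_smul_smul]
  have : g = g' * (g'⁻¹ * g) := by group
  rw [this, h1, mul_one]

theorem D_mul_T (hm : 1 ≤ m) (hF : Fintype.card F = 2 ^ (2 * m + 1)) (k : Fˣ) (a b : F) :
    D m k * T m a b = T m ((k : F) * a) ((k : F) * θ m (k : F) * b) * D m k := by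
  apply eq_of_smul_eq h hm hF ((Sz F m).mul_mem (D_mem h k) (T_mem h a b))
    ((Sz F m).mul_mem (T_mem h _ _) (D_mem h k))
  intro p hp
  rcases (mem_ovoid_iff p).1 hp with rfl | ⟨x, y, rfl⟩
  · rw [mul_smul, mul_smul, T_smul_pinf, D_smul_pinf, T_smul_pinf]
  · rw [mul_smul, mul_smul, T_smul_pt h, D_smul_pt h, D_smul_pt h, T_smul_pt h, θ_mul]
    congr 1 <;> ring

/-- a nontrivial translation fixes only `∞` on the ovoid -/
theorem eq_pinf_of_T_smul {a b : F} (hab : ¬ (a = 0 ∧ b = 0))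
    {p : Projectivization F (Fin 4 → F)} (hp : p ∈ suzukiOvoid F m) (hfix : T m a b • p = p) :
    p = pinf := by
  rcases (mem_ovoid_iff p).1 hp with rfl | ⟨x, y, rfl⟩
  · rfl
  · exfalso
    rw [T_smul_pt h] at hfix
    obtain ⟨e1, e2⟩ := pt_injective hfix
    have ha : a = 0 := by linear_combination e1
    subst ha
    rw [θ_zero] at e2
    have hb : b = 0 := by linear_combination e2
    exact hab ⟨rfl, hb⟩

theorem factorization_card_Sz (hm : 1 ≤ m) (hF : Fintype.card F = 2 ^ (2 * m + 1)) :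
    (Nat.card (Cfsg.Sz F m)).factorization 2 = 2 * (2 * m + 1) := by
  rw [card_Sz h hm hF]
  have hodd : ¬ 2 ∣ ((2 ^ (2 * m + 1)) ^ 2 + 1) * (2 ^ (2 * m + 1) - 1) := by
    rw [Nat.Prime.dvd_mul Nat.prime_two]
    rintro (h1 | h1)
    · have : (2 ^ (2 * m + 1)) ^ 2 + 1 = 2 * (2 ^ (2 * m) * 2 ^ (2 * m + 1)) + 1 := by
        rw [pow_two, pow_succ (2 : ℕ) (2 * m)]
        ring
      omega
    · have h2 : 2 ^ (2 * m + 1) = 2 * 2 ^ (2 * m) := by rw [pow_succ]; ring
      have h3 : 0 < 2 ^ (2 * m) := by positivity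
      omega
  have hne : ((2 ^ (2 * m + 1)) ^ 2 + 1) * (2 ^ (2 * m + 1) - 1) ≠ 0 := by
    intro h0
    exact hodd (h0 ▸ dvd_zero 2)
  have hq : (2 ^ (2 * m + 1)).factorization 2 = 2 * m + 1 := by
    rw [Nat.factorization_pow, Finsupp.smul_apply, Nat.Prime.factorization_self Nat.prime_two]
    simp
  have hq0 : 2 ^ (2 * m + 1) ≠ 0 := by positivity
  generalize 2 ^ (2 * m + 1) = q at hq hq0 hodd hne ⊢
  rw [mul_assoc, Nat.factorization_mul (pow_ne_zero 2 hq0) hne, Finsupp.add_apply,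
    Nat.factorization_pow, Finsupp.smul_apply, hq,
    Nat.factorization_eq_zero_of_not_dvd hodd]
  simp

theorem card_TS_eq_pow_factorization (hm : 1 ≤ m) (hF : Fintype.card F = 2 ^ (2 * m + 1)) :
    Nat.card (TS h) = 2 ^ (Nat.card (Cfsg.Sz F m)).factorization 2 := by
  rw [factorization_card_Sz h hm hF, card_TS h hF, ← pow_mul, mul_comm]

/-- the translations as a Sylow 2-subgroup -/
noncomputable def sylowTS (hm : 1 ≤ m) (hF : Fintype.card F = 2 ^ (2 * m + 1)) :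
    Sylow 2 (Cfsg.Sz F m) :=
  Sylow.ofCard (TS h) (card_TS_eq_pow_factorization h hm hF)

theorem coe_sylowTS (hm : 1 ≤ m) (hF : Fintype.card F = 2 ^ (2 * m + 1)) :
    ((sylowTS h hm hF : Sylow 2 (Cfsg.Sz F m)) : Subgroup (Cfsg.Sz F m)) = TS h := rfl

/-- every Sylow 2-subgroup is conjugate to the translations -/
theorem exists_conj_TS (hm : 1 ≤ m) (hF : Fintype.card F = 2 ^ (2 * m + 1))
    (P : Sylow 2 (Cfsg.Sz F m)) :
    ∃ s : Cfsg.Sz F m, ∀ g : Cfsg.Sz F m, g ∈ P ↔ s * g * s⁻¹ ∈ TS h := by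
  have : Fact (Nat.Prime 2) := ⟨Nat.prime_two⟩
  obtain ⟨s, hs⟩ := MulAction.exists_smul_eq (Cfsg.Sz F m) (sylowTS h hm hF) P
  refine ⟨s⁻¹, fun g => ?_⟩
  rw [← hs, sylow_mem_smul_iff, inv_inv]
  rfl

end Cfsg.Agent.Lib.H2.Sz
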