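import Mathlib
import Cfsg.Prelude.Def_LieExceptional
import Cfsg.Agent.Lib.H2.Sz10
import Cfsg.Agent.S0325

set_option autoImplicit false
set_option linter.unusedSimpArgs false
set_option linter.unusedSectionVars false

/-!
# Suzuki groups XI: the Borel subgroup `N(T) = Sz_∞` is the only maximal overgroup of `T`
-/

namespace Cfsg.Agent.Lib.H2.Sz

open Matrix Cfsg Projectivization MulAction
open scoped Pointwise commutatorElement

theorem transport_coatom_normalizer {G : Type*} [Group G] (P : Subgroup G) (s : G)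
    (hQ : IsCoatom (Subgroup.normalizer ((P.map (MulAut.conj s).toMonoidHom : Subgroup G) : Set G)) ∧
      ∀ M : Subgroup G, IsCoatom M → P.map (MulAut.conj s).toMonoidHom ≤ M →
        M = Subgroup.normalizer ((P.map (MulAut.conj s).toMonoidHom : Subgroup G) : Set G)) :
    IsCoatom (Subgroup.normalizer (P : Set G)) ∧
      ∀ M : Subgroup G, IsCoatom M → P ≤ M → M = Subgroup.normalizer (P : Set G) := by
  set φ : Subgroup G ≃o Subgroup G := MulEquiv.mapSubgroup (MulAut.conj s) with hφ
  have hφ' : ∀ H : Subgroup G, φ H = H.map (MulAut.conj s).toMonoidHom := fun H => rfl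
  have hN : φ (Subgroup.normalizer (P : Set G)) =
      Subgroup.normalizer ((P.map (MulAut.conj s).toMonoidHom : Subgroup G) : Set G) := by
    rw [hφ', Subgroup.map_equiv_normalizer_eq]
  obtain ⟨h1, h2⟩ := hQ
  constructor
  · rw [← hN] at h1
    exact (φ.isCoatom_iff _).1 h1
  · intro M hM hPM
    have h3 := h2 (φ M) ((φ.isCoatom_iff _).2 hM) (by rw [← hφ']; exact φ.monotone hPM)
    rw [← hN] at h3
    exact φ.injective h3

variable {F : Type*} [Field F] {m : ℕ} [Fintype F] (h : Fld F m)

include h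

/-- the action of the subgroup `Sz F m` is the restriction -/
theorem Sz_smul_def (g : Sz F m) (p : Projectivization F (Fin 4 → F)) :
    g • p = (g : SpecialLinearGroup (Fin 4) F) • p := rfl

/-- conjugating a translation by an element fixing `∞` gives a translation -/
theorem conj_mem_TS_of_fix (hm : 1 ≤ m) (hF : Fintype.card F = 2 ^ (2 * m + 1))
    {x : Sz F m} (hx : x • (pinf : Projectivization F (Fin 4 → F)) = pinf) {t : Sz F m}
    (ht : t ∈ TS h) : x * t * x⁻¹ ∈ TS h := by
  obtain ⟨a, b, hab⟩ := ht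
  obtain ⟨c, d, k, hk⟩ := exists_TD_of_fix_pinf h hm hF x.2 hx
  refine ⟨c + (k : F) * a + c, d + (k : F) * θ m (k : F) * b + θ m c * ((k : F) * a) + (d + θ m c * c)
    + θ m (c + (k : F) * a) * c, ?_⟩
  rw [Subgroup.coe_mul, Subgroup.coe_mul, Subgroup.coe_inv, hab, hk]
  have e1 : T m c d * D m k * T m a b * (T m c d * D m k)⁻¹ =
      T m c d * (D m k * T m a b) * (D m k)⁻¹ * (T m c d)⁻¹ := by group
  rw [e1, D_mul_T h hm hF, T_inv h, ← mul_assoc, T_mul h, mul_assoc (T m _ _), mul_inv_cancel,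
    mul_one, T_mul h]

theorem normalizer_TS (hm : 1 ≤ m) (hF : Fintype.card F = 2 ^ (2 * m + 1)) :
    Subgroup.normalizer ((TS h : Subgroup (Sz F m)) : Set (Sz F m)) =
      stabilizer (Sz F m) (pinf : Projectivization F (Fin 4 → F)) := by
  ext x
  rw [Subgroup.mem_normalizer_iff, mem_stabilizer_iff]
  constructor
  · intro hx
    -- `x T(1,0) x⁻¹` is a translation, nontrivial, fixing `x • ∞`
    have h1 : x * (tS h 1 0 : Sz F m) * x⁻¹ ∈ TS h := (hx _).1 (tS h 1 0).2
    obtain ⟨a, b, hab⟩ := h1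
    have hne : ¬ (a = 0 ∧ b = 0) := by
      rintro ⟨rfl, rfl⟩
      rw [T_zero] at hab
      have h2 : x * (tS h 1 0 : Sz F m) * x⁻¹ = 1 := Subtype.ext hab
      have h3 : (tS h 1 0 : Sz F m) = 1 := by
        have : (tS h 1 0 : Sz F m) = x⁻¹ * (x * (tS h 1 0 : Sz F m) * x⁻¹) * x := by group
        rw [this, h2]
        group
      have h4 : tS h (1 : F) 0 = 1 := Subtype.ext h3
      rw [tS_eq_one_iff] at h4
      exact one_ne_zero h4.1
    apply eq_pinf_of_T_smul h hne (smul_mem_of_mem_Sz x.2 pinf_mem)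
    rw [← hab]
    show (x * (tS h 1 0 : Sz F m) * x⁻¹) • x • (pinf : Projectivization F (Fin 4 → F)) = x • pinf
    rw [← mul_smul, inv_mul_cancel_right, mul_smul]
    congr 1
    exact T_smul_pinf 1 0
  · intro hx t
    constructor
    · exact conj_mem_TS_of_fix h hm hF hx
    · intro ht
      have hx' : x⁻¹ • (pinf : Projectivization F (Fin 4 → F)) = pinf := by
        rw [inv_smul_eq_iff, hx]
      have := conj_mem_TS_of_fix h hm hF hx' ht
      have e : x⁻¹ * (x * t * x⁻¹) * x⁻¹⁻¹ = t := by group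
      rwa [e] at this

end Cfsg.Agent.Lib.H2.Sz
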