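import Mathlib
import Cfsg.Prelude.Def_LieExceptional
import Cfsg.Prelude.Def_Sz
import Cfsg.Agent.Lib.H2.Sz8

set_option autoImplicit false
set_option linter.unusedSimpArgs false
set_option linter.unusedSectionVars false

/-!
# Bridge between the two models of the Suzuki groups, I: the four minors
-/

namespace Cfsg.Agent.Lib.H2.SzB

open Matrix Cfsg Cfsg.Agent.Lib.H2.Sz

variable {F : Type*} [Field F]

/-- the four Plücker coordinates used in `star4` -/
def mins (u v : Fin 4 → F) : Fin 4 → F :=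
  ![u 0 * v 1 - u 1 * v 0, u 0 * v 2 - u 2 * v 0, u 1 * v 3 - u 3 * v 1, u 2 * v 3 - u 3 * v 2]

/-- rows `k`, `l` of `A` are orthogonal for the antidiagonal form -/
def rowOrth (A : Matrix (Fin 4) (Fin 4) F) (k l : Fin 4) : Prop :=
  A k 0 * A l 3 + A k 1 * A l 2 + A k 2 * A l 1 + A k 3 * A l 0 = 0

/-- equivariance of the four minors -/
theorem mins_mulVec (h2 : (2 : F) = 0) (A : Matrix (Fin 4) (Fin 4) F)
    (h01 : rowOrth A 0 1) (h02 : rowOrth A 0 2) (h13 : rowOrth A 1 3) (h23 : rowOrth A 2 3)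
    (u v : Fin 4 → F) (hB : Cfsg.Lie.altForm4 u v = 0) :
    mins (A *ᵥ u) (A *ᵥ v) = Cfsg.Lie.star4 A *ᵥ mins u v := by
  unfold rowOrth at h01 h02 h13 h23
  unfold Cfsg.Lie.altForm4 at hB
  ext i
  fin_cases i
  · simp [mins, Cfsg.Lie.star4, Cfsg.Lie.pairOf, Matrix.mulVec, dotProduct, Fin.sum_univ_four]
    linear_combination (A 0 0 * A 1 3 - A 1 0 * A 0 3) * hB + (u 1 * v 2 - u 2 * v 1) * h01 +
      (-(A 0 0 * A 1 3 - A 1 0 * A 0 3) * (u 2 * v 1 + u 3 * v 0) -
        (u 1 * v 2 - u 2 * v 1) * (A 1 0 * A 0 3 + A 1 1 * A 0 2 + (A 0 0 * A 1 3 - A 1 0 * A 0 3))) * h2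
  · simp [mins, Cfsg.Lie.star4, Cfsg.Lie.pairOf, Matrix.mulVec, dotProduct, Fin.sum_univ_four]
    linear_combination (A 0 0 * A 2 3 - A 2 0 * A 0 3) * hB + (u 1 * v 2 - u 2 * v 1) * h02 +
      (-(A 0 0 * A 2 3 - A 2 0 * A 0 3) * (u 2 * v 1 + u 3 * v 0) -
        (u 1 * v 2 - u 2 * v 1) * (A 2 0 * A 0 3 + A 2 1 * A 0 2 + (A 0 0 * A 2 3 - A 2 0 * A 0 3))) * h2
  · simp [mins, Cfsg.Lie.star4, Cfsg.Lie.pairOf, Matrix.mulVec, dotProduct, Fin.sum_univ_four]
    linear_combination (A 1 0 * A 3 3 - A 3 0 * A 1 3) * hB + (u 1 * v 2 - u 2 * v 1) * h13 +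
      (-(A 1 0 * A 3 3 - A 3 0 * A 1 3) * (u 2 * v 1 + u 3 * v 0) -
        (u 1 * v 2 - u 2 * v 1) * (A 3 0 * A 1 3 + A 3 1 * A 1 2 + (A 1 0 * A 3 3 - A 3 0 * A 1 3))) * h2
  · simp [mins, Cfsg.Lie.star4, Cfsg.Lie.pairOf, Matrix.mulVec, dotProduct, Fin.sum_univ_four]
    linear_combination (A 2 0 * A 3 3 - A 3 0 * A 2 3) * hB + (u 1 * v 2 - u 2 * v 1) * h23 +
      (-(A 2 0 * A 3 3 - A 3 0 * A 2 3) * (u 2 * v 1 + u 3 * v 0) -
        (u 1 * v 2 - u 2 * v 1) * (A 3 0 * A 2 3 + A 3 1 * A 2 2 + (A 2 0 * A 3 3 - A 3 0 * A 2 3))) * h2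

theorem altForm4_eq (u v : Fin 4 → F) :
    Cfsg.Lie.altForm4 u v = u ⬝ᵥ (suzukiForm F *ᵥ v) := by
  simp [Cfsg.Lie.altForm4, suzukiForm, Matrix.mulVec, dotProduct, Fin.sum_univ_four]

/-- preserving the form, in matrix terms -/
theorem pres_iff (A : Matrix (Fin 4) (Fin 4) F) :
    Pres A ↔ ∀ u v, Cfsg.Lie.altForm4 (A *ᵥ u) (A *ᵥ v) = Cfsg.Lie.altForm4 u v := by
  have key : ∀ u v : Fin 4 → F, Cfsg.Lie.altForm4 (A *ᵥ u) (A *ᵥ v) =
      u ⬝ᵥ ((A.transpose * suzukiForm F * A) *ᵥ v) := by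
    intro u v
    rw [altForm4_eq, ← Matrix.vecMul_transpose, ← Matrix.dotProduct_mulVec, Matrix.mulVec_mulVec,
      Matrix.mulVec_mulVec, Matrix.mul_assoc]
  constructor
  · intro hA u v
    rw [key, hA, altForm4_eq]
  · intro hA
    unfold Pres
    ext i j
    have h1 := hA (Pi.single i 1) (Pi.single j 1)
    rw [key, altForm4_eq] at h1
    simpa using h1

/-- the row form of the symplectic condition -/
theorem pres_transpose {A : Matrix (Fin 4) (Fin 4) F} (hA : Pres A) :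
    A * suzukiForm F * A.transpose = suzukiForm F := by
  have hJ : suzukiForm F * suzukiForm F = 1 := by
    ext i j
    fin_cases i <;> fin_cases j <;> simp [suzukiForm, Matrix.mul_apply, Fin.sum_univ_four]
  have h1 : (suzukiForm F * A.transpose * suzukiForm F) * A = 1 := by
    have : suzukiForm F * A.transpose * suzukiForm F * A =
        suzukiForm F * (A.transpose * suzukiForm F * A) := by
      simp only [Matrix.mul_assoc]
    rw [this, hA, hJ]
  have h2 : A * (suzukiForm F * A.transpose * suzukiForm F) = 1 := _root_.mul_eq_one_comm.1 h1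
  calc A * suzukiForm F * A.transpose
      = A * (suzukiForm F * A.transpose * suzukiForm F) * suzukiForm F := by
        simp only [Matrix.mul_assoc]
        rw [hJ, Matrix.mul_one]
    _ = suzukiForm F := by rw [h2, Matrix.one_mul]

theorem rowOrth_of_pres {A : Matrix (Fin 4) (Fin 4) F} (hA : Pres A) :
    rowOrth A 0 1 ∧ rowOrth A 0 2 ∧ rowOrth A 1 3 ∧ rowOrth A 2 3 := by
  have h1 := pres_transpose hA
  have e : ∀ k l : Fin 4, (A * suzukiForm F * A.transpose) k l =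
      A k 0 * A l 3 + A k 1 * A l 2 + A k 2 * A l 1 + A k 3 * A l 0 := by
    intro k l
    simp [Matrix.mul_apply, Fin.sum_univ_four, suzukiForm]
    ring
  unfold rowOrth
  refine ⟨?_, ?_, ?_, ?_⟩
  · rw [← e, h1]; simp [suzukiForm]
  · rw [← e, h1]; simp [suzukiForm]
  · rw [← e, h1]; simp [suzukiForm]
  · rw [← e, h1]; simp [suzukiForm]

/-- symplectic matrices in characteristic 2 have determinant 1 -/
theorem det_eq_one_of_pres (h2 : (2 : F) = 0) {A : Matrix (Fin 4) (Fin 4) F} (hA : Pres A) :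
    A.det = 1 := by
  have hJdet : (suzukiForm F).det ≠ 0 := by
    have hJ : suzukiForm F * suzukiForm F = 1 := by
      ext i j
      fin_cases i <;> fin_cases j <;> simp [suzukiForm, Matrix.mul_apply, Fin.sum_univ_four]
    intro h0
    have := congrArg Matrix.det hJ
    rw [Matrix.det_mul, h0, mul_zero, Matrix.det_one] at this
    exact zero_ne_one this
  have h1 := congrArg Matrix.det hA
  rw [Matrix.det_mul, Matrix.det_mul, Matrix.det_transpose] at h1
  have h3 : A.det * A.det = 1 := by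
    have : (A.det * A.det - 1) * (suzukiForm F).det = 0 := by linear_combination h1
    rcases mul_eq_zero.1 this with h4 | h4
    · exact sub_eq_zero.1 h4
    · exact absurd h4 hJdet
  have h4 : (A.det - 1) * (A.det - 1) = 0 := by linear_combination h3 - A.det * h2 + h2
  rcases mul_eq_zero.1 h4 with h5 | h5 <;> exact sub_eq_zero.1 h5

end Cfsg.Agent.Lib.H2.SzB
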