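import Mathlib
import Cfsg.Prelude.Def_LieExceptional
import Cfsg.Prelude.Def_Sz
import Cfsg.Agent.Lib.H2.SzB1

set_option autoImplicit false
set_option linter.unusedSimpArgs false
set_option linter.unusedSectionVars false

/-!
# Bridge between the two models of the Suzuki groups, II: absolute points
-/

namespace Cfsg.Agent.Lib.H2.SzB

open Matrix Cfsg Cfsg.Agent.Lib.H2.Sz

variable {F : Type*} [Field F] {m : ℕ}

/-- entrywise `θ` -/
def θv (m : ℕ) (p : Fin 4 → F) : Fin 4 → F := fun i => θ m (p i)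

/-- absolute points of the polarity -/
def Abs (m : ℕ) (p : Fin 4 → F) : Prop :=
  ∃ (v : Fin 4 → F) (l : F), l ≠ 0 ∧ Cfsg.Lie.altForm4 p v = 0 ∧ mins p v = l • θv m p

theorem abs_e0 : Abs m (e0 : Fin 4 → F) := by
  refine ⟨![0, 1, 0, 0], 1, one_ne_zero, ?_, ?_⟩
  · simp [Cfsg.Lie.altForm4, e0]
  · ext i
    fin_cases i <;> simp [mins, e0, θv]

theorem abs_smul {p : Fin 4 → F} (hp : Abs m p) {c : F} (hc : c ≠ 0) : Abs m (c • p) := by
  obtain ⟨v, l, hl, hB, hm⟩ := hp
  have hθc : θ m c ≠ 0 := fun h0 => hc (θ_eq_zero.1 h0)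
  refine ⟨v, c * l / θ m c, div_ne_zero (mul_ne_zero hc hl) hθc, ?_, ?_⟩
  · unfold Cfsg.Lie.altForm4 at hB ⊢
    simp only [Pi.smul_apply, smul_eq_mul]
    linear_combination c * hB
  · have e0' := congrFun hm 0
    have e1' := congrFun hm 1
    have e2' := congrFun hm 2
    have e3' := congrFun hm 3
    simp [mins, θv] at e0' e1' e2' e3'
    ext i
    fin_cases i <;> simp [mins, θv, θ_mul] <;> field_simp
    · linear_combination e0'
    · linear_combination e1'
    · linear_combination e2'
    · linear_combination e3'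

variable (h : Fld F m)

include h

theorem θv_mulVec (A : Matrix (Fin 4) (Fin 4) F) (p : Fin 4 → F) :
    θv m (A *ᵥ p) = (A.map (fun x => x ^ (2 ^ (m + 1)))) *ᵥ θv m p := by
  ext i
  simp only [θv, Matrix.mulVec, dotProduct, Fin.sum_univ_four, Matrix.map_apply]
  rw [θ_add h, θ_add h, θ_add h, θ_mul, θ_mul, θ_mul, θ_mul]
  rfl

theorem abs_mulVec {A : Matrix (Fin 4) (Fin 4) F} (hA : Pres A)
    (hstar : Cfsg.Lie.star4 A = A.map (fun x => x ^ (2 ^ (m + 1)))) {p : Fin 4 → F}
    (hp : Abs m p) : Abs m (A *ᵥ p) := by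
  obtain ⟨v, l, hl, hB, hm⟩ := hp
  obtain ⟨h01, h02, h13, h23⟩ := rowOrth_of_pres hA
  refine ⟨A *ᵥ v, l, hl, ?_, ?_⟩
  · rw [(pres_iff A).1 hA, hB]
  · rw [mins_mulVec h.two A h01 h02 h13 h23 p v hB, hm, Matrix.mulVec_smul, hstar, θv_mulVec h]

/-- absolute points lie on the ovoid -/
theorem ovoid_of_abs {p : Fin 4 → F} (hp0 : p ≠ 0) (hp : Abs m p) :
    ∃ c : F, c ≠ 0 ∧ (p = c • e0 ∨ ∃ x y : F, p = c • pv m x y) := by
  have h2 := h.two
  by_cases hp3 : p 3 = 0
  · obtain ⟨v, l, hl, hB, hm⟩ := hp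
    have e1' := congrFun hm 1
    have e2' := congrFun hm 2
    have e3' := congrFun hm 3
    simp [mins, θv, hp3] at e1' e2' e3'
    unfold Cfsg.Lie.altForm4 at hB
    rw [hp3] at hB
    -- p 2 = 0
    have hp2 : p 2 = 0 := by
      by_contra hne
      rcases e3' with h3 | h3
      · exact hne h3
      · rw [h3] at e2'
        simp at e2'
        rcases e2' with h4 | h4
        · exact hl h4
        · exact hne (θ_eq_zero.1 h4)
    rw [hp2] at e1' e2' hB
    simp at e2'
    have hp1 : p 1 = 0 := by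
      by_contra hne
      rcases e2' with h3 | h3
      · exact hne h3
      · rw [h3] at hB
        have hv2 : v 2 = 0 := by
          have : p 1 * v 2 = 0 := by linear_combination hB
          rcases mul_eq_zero.1 this with h4 | h4
          · exact absurd h4 hne
          · exact h4
        rw [hv2] at e1'
        simp at e1'
        rcases e1' with h4 | h4
        · exact hl h4
        · exact hne (θ_eq_zero.1 h4)
    refine ⟨p 0, ?_, Or.inl ?_⟩
    · intro h0
      apply hp0
      ext i
      fin_cases i <;> simp [h0, hp1, hp2, hp3]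
    · ext i
      fin_cases i <;> simp [e0, hp1, hp2, hp3]
  · -- normalise the last coordinate
    have hq : Abs m ((p 3)⁻¹ • p) := abs_smul hp (inv_ne_zero hp3)
    obtain ⟨v, l, hl, hB, hm⟩ := hq
    have e1' := congrFun hm 1
    have e2' := congrFun hm 2
    have e3' := congrFun hm 3
    simp [mins, θv, hp3] at e1' e2' e3'
    unfold Cfsg.Lie.altForm4 at hB
    simp [hp3] at hB
    refine ⟨p 3, hp3, Or.inr ⟨(p 3)⁻¹ * p 2, (p 3)⁻¹ * p 1, ?_⟩⟩
    set z := (p 3)⁻¹ * p 0 with hz
    set y := (p 3)⁻¹ * p 1 with hy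
    set x := (p 3)⁻¹ * p 2 with hx
    -- solve for v
    have hv2 : v 2 = x * v 3 - l := by linear_combination -e3'
    have hv1 : v 1 = y * v 3 - l * θ m x := by linear_combination -e2'
    have hv0 : v 0 = -(z * v 3 + y * v 2 + x * v 1) := by linear_combination hB
    have key : l * (z + x * y + x ^ 2 * θ m x + θ m y) = 0 := by
      rw [hv0, hv1, hv2] at e1'
      linear_combination -e1' + (x * z * v 3 + x ^ 2 * y * v 3) * h2
    have hzf : z = f m x y := by
      rcases mul_eq_zero.1 key with h3 | h3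
      · exact absurd h3 hl
      · rw [f_eq]
        linear_combination h3 - (x * y + θ m x * x ^ 2 + θ m y) * h2
    ext i
    fin_cases i
    · simp [pv]
      rw [← hzf, hz]
      field_simp
    · simp [pv]
      rw [hy]
      field_simp
    · simp [pv]
      rw [hx]
      field_simp
    · simp [pv]

end Cfsg.Agent.Lib.H2.SzB
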