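import Mathlib
import Cfsg.Prelude.Def_LieExceptional
import Cfsg.Prelude.Def_Sz
import Cfsg.Agent.Lib.H2.SzB2

set_option autoImplicit false
set_option linter.unusedSimpArgs false
set_option linter.unusedSectionVars false

/-!
# Bridge between the two models of the Suzuki groups, III: the generators and the isomorphism
-/

namespace Cfsg.Agent.Lib.H2.SzB

open Matrix Cfsg Cfsg.Agent.Lib.H2.Sz

variable {F : Type*} [Field F] {m : ℕ} (h : Fld F m)

include h

theorem θ_ρ (k : F) : θ m (ρ m k) = k := by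
  unfold θ ρ
  rw [← pow_mul, ← pow_add, show m + (m + 1) = 2 * m + 1 by ring]
  exact h.frob k

theorem star4_Tm (a b : F) : Cfsg.Lie.star4 (Tm m a b) = (Tm m a b).map (θ m) := by
  have h2 := h.two
  ext i j
  fin_cases i <;> fin_cases j <;>
    simp [Cfsg.Lie.star4, Cfsg.Lie.pairOf, Tm, θ_add h, θ_mul, θ_θ h, f_eq]
  all_goals first
    | ring1
    | linear_combination (-(θ m b + a ^ 2 * θ m a)) * h2
    | (rw [θ_pow]; linear_combination (-(θ m a * θ m b + a ^ 2 * θ m a ^ 2)) * h2)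
    | linear_combination (-(θ m b)) * h2

theorem star4_Wm : Cfsg.Lie.star4 (Wm : Matrix (Fin 4) (Fin 4) F) =
    (Wm : Matrix (Fin 4) (Fin 4) F).map (θ m) := by
  have h2 := h.two
  ext i j
  fin_cases i <;> fin_cases j <;>
    simp [Cfsg.Lie.star4, Cfsg.Lie.pairOf, Wm]
  all_goals linear_combination (-1 : F) * h2

theorem star4_Dm {k : F} (hk : k ≠ 0) : Cfsg.Lie.star4 (Dm m k) = (Dm m k).map (θ m) := by
  have hρ := ρ_ne_zero (m := m) hk
  have hsq := ρ_sq (m := m) k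
  have hθρ := θ_ρ h k
  ext i j
  fin_cases i <;> fin_cases j <;>
    simp [Cfsg.Lie.star4, Cfsg.Lie.pairOf, Dm, Matrix.diagonal, θ_mul, θ_inv, hθρ]
  all_goals first | (rw [← hsq]; field_simp) | field_simp


theorem abs_pv (x y : F) : Abs m (pv m x y) := by
  have h1 : Abs m (pv m (0 : F) 0) := by
    rw [← Wm_mulVec_e0]
    exact abs_mulVec h pres_Wm (star4_Wm h) abs_e0
  have h2 := abs_mulVec h (pres_Tm h x y) (star4_Tm h x y) h1
  rw [Tm_mulVec_pv h] at h2
  simpa using h2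

omit h in
theorem mem_Sp4_iff (g : GL (Fin 4) F) :
    g ∈ Cfsg.Lie.Sp4 F ↔ Pres (g : Matrix (Fin 4) (Fin 4) F) := by
  rw [pres_iff]
  rfl

/-- the generating set of `Cfsg.Lie.Sz` -/
def X (F : Type*) [Field F] (m : ℕ) : Set (GL (Fin 4) F) :=
  {g | g ∈ Cfsg.Lie.Sp4 F ∧ Cfsg.Lie.star4 (g : Matrix (Fin 4) (Fin 4) F) =
    (g : Matrix (Fin 4) (Fin 4) F).map (fun x => x ^ (2 ^ (m + 1)))}

omit h in
theorem lieSz_eq : Cfsg.Lie.Sz F (2 ^ (m + 1)) = Subgroup.closure (X F m) := rfl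

theorem toGL_T_mem (a b : F) : SpecialLinearGroup.toGL (T m a b) ∈ X F m :=
  ⟨(mem_Sp4_iff _).2 (pres_Tm h a b), star4_Tm h a b⟩

theorem toGL_W_mem : SpecialLinearGroup.toGL (W : SpecialLinearGroup (Fin 4) F) ∈ X F m :=
  ⟨(mem_Sp4_iff _).2 pres_Wm, star4_Wm h⟩

theorem toGL_D_mem (k : Fˣ) : SpecialLinearGroup.toGL (D m k) ∈ X F m :=
  ⟨(mem_Sp4_iff _).2 (pres_Dm k.ne_zero), star4_Dm h k.ne_zero⟩

variable [Fintype F]

/-- elements of the generating set stabilise the ovoid -/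
theorem exists_of_mem_X {g : GL (Fin 4) F} (hg : g ∈ X F m) :
    ∃ s : SpecialLinearGroup (Fin 4) F, s ∈ Cfsg.Sz F m ∧ SpecialLinearGroup.toGL s = g := by
  obtain ⟨hsp, hstar⟩ := hg
  have hP : Pres (g : Matrix (Fin 4) (Fin 4) F) := (mem_Sp4_iff g).1 hsp
  obtain ⟨s, hs⟩ : ∃ s : SpecialLinearGroup (Fin 4) F, (s : Matrix (Fin 4) (Fin 4) F) = g :=
    ⟨⟨(g : Matrix (Fin 4) (Fin 4) F), det_eq_one_of_pres h.two hP⟩, rfl⟩
  refine ⟨s, ?_, Units.ext hs⟩
  apply mem_Sz_of_forall h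
  have key : ∀ (v : Fin 4 → F) (hv : v ≠ 0), Abs m v →
      s • Projectivization.mk F v hv ∈ suzukiOvoid F m := by
    intro v hv hA
    have hA' := abs_mulVec h hP hstar hA
    have hne : (g : Matrix (Fin 4) (Fin 4) F) *ᵥ v ≠ 0 := by
      intro h0
      apply hv
      have : ((g⁻¹ : GL (Fin 4) F) : Matrix (Fin 4) (Fin 4) F) *ᵥ
          ((g : Matrix (Fin 4) (Fin 4) F) *ᵥ v) = v := by
        rw [Matrix.mulVec_mulVec, ← Units.val_mul, inv_mul_cancel, Units.val_one,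
          Matrix.one_mulVec]
      rw [← this, h0, Matrix.mulVec_zero]
    rw [← hs] at hne hA'
    obtain ⟨c, hc, h1 | ⟨x, y, h1⟩⟩ := ovoid_of_abs h hne hA'
    · have : s • Projectivization.mk F v hv = pinf :=
        smul_mk_eq s hv e0_ne_zero c h1
      rw [this]
      exact pinf_mem
    · have : s • Projectivization.mk F v hv = pt m x y :=
        smul_mk_eq s hv (pv_ne_zero x y) c h1
      rw [this]
      exact pt_mem x y
  intro p hp
  rcases (mem_ovoid_iff p).1 hp with rfl | ⟨x, y, rfl⟩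
  · exact key e0 e0_ne_zero abs_e0
  · exact key (pv m x y) (pv_ne_zero x y) (abs_pv h x y)

/-- the image of the ovoid stabiliser in `GL₄` is the Suzuki group of `Def_Sz` -/
theorem map_toGL_eq (hm : 1 ≤ m) (hF : Fintype.card F = 2 ^ (2 * m + 1)) :
    (Cfsg.Sz F m).map SpecialLinearGroup.toGL = Cfsg.Lie.Sz F (2 ^ (m + 1)) := by
  apply le_antisymm
  · rintro _ ⟨s, hs, rfl⟩
    rw [lieSz_eq]
    have hT : ∀ a b : F, SpecialLinearGroup.toGL (T m a b) ∈ Subgroup.closure (X F m) :=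
      fun a b => Subgroup.subset_closure (toGL_T_mem h a b)
    have hD : ∀ k : Fˣ, SpecialLinearGroup.toGL (D m k) ∈ Subgroup.closure (X F m) :=
      fun k => Subgroup.subset_closure (toGL_D_mem h k)
    have hW : SpecialLinearGroup.toGL (W : SpecialLinearGroup (Fin 4) F) ∈
        Subgroup.closure (X F m) := Subgroup.subset_closure (toGL_W_mem h)
    rcases bruhat h hm hF hs with ⟨a, b, k, rfl⟩ | ⟨a, b, a', b', k, rfl⟩
    · rw [map_mul]
      exact Subgroup.mul_mem _ (hT a b) (hD k)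
    · rw [map_mul, map_mul, map_mul]
      exact Subgroup.mul_mem _ (Subgroup.mul_mem _ (hT a b) hW)
        (Subgroup.mul_mem _ (hT a' b') (hD k))
  · rw [lieSz_eq, Subgroup.closure_le]
    intro g hg
    obtain ⟨s, hs, rfl⟩ := exists_of_mem_X h hg
    exact ⟨s, hs, rfl⟩

/-- the isomorphism between the two models -/
noncomputable def bridge (hm : 1 ≤ m) (hF : Fintype.card F = 2 ^ (2 * m + 1)) :
    Cfsg.Sz F m ≃* Cfsg.Lie.Sz F (2 ^ (m + 1)) :=
  ((Cfsg.Sz F m).equivMapOfInjective SpecialLinearGroup.toGL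
    SpecialLinearGroup.toGL_injective).trans (MulEquiv.subgroupCongr (map_toGL_eq h hm hF))

theorem coe_bridge (hm : 1 ≤ m) (hF : Fintype.card F = 2 ^ (2 * m + 1)) (s : Cfsg.Sz F m) :
    ((bridge h hm hF s : Cfsg.Lie.Sz F (2 ^ (m + 1))) : GL (Fin 4) F) =
      SpecialLinearGroup.toGL (s : SpecialLinearGroup (Fin 4) F) := rfl

end Cfsg.Agent.Lib.H2.SzB
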