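import Mathlib
import Cfsg.Prelude.Def_Classical
import Cfsg.Agent.Lib.H2.SpTrans

set_option autoImplicit false
set_option linter.unusedSectionVars false
set_option linter.unusedVariables false

namespace Cfsg.Agent.Lib.H2.OddSp

open Matrix Cfsg.Agent.Lib.H4

variable {F : Type*} [Field F] {m : ℕ}

/-- index types -/
abbrev I (m : ℕ) : Type := Unit ⊕ (Fin m ⊕ Fin m)

/-- hyperbolic part of the odd-dimensional form -/
def Q0 (x : Fin m ⊕ Fin m → F) : F := ∑ i : Fin m, x (.inl i) * x (.inr i)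

/-- restriction to the hyperbolic coordinates -/
def r (v : Unit ⊕ (Fin m ⊕ Fin m) → F) : Fin m ⊕ Fin m → F := fun j => v (.inr j)

theorem quadFormOdd_eq (v : Unit ⊕ (Fin m ⊕ Fin m) → F) :
    Cfsg.quadFormOdd m F v = v (.inl ()) ^ 2 + Q0 (r v) := rfl

/-- polar form of `Q0` -/
def B0 (x y : Fin m ⊕ Fin m → F) : F :=
  ∑ i : Fin m, (x (.inl i) * y (.inr i) + y (.inl i) * x (.inr i))

theorem Q0_add (x y : Fin m ⊕ Fin m → F) : Q0 (x + y) = Q0 x + Q0 y + B0 x y := by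
  unfold Q0 B0
  rw [← Finset.sum_add_distrib, ← Finset.sum_add_distrib]
  apply Finset.sum_congr rfl
  intro i _
  simp only [Pi.add_apply]
  ring

theorem sympForm_eq_B0 [CharP F 2] (x y : Fin m ⊕ Fin m → F) :
    Cfsg.sympForm m F x y = B0 x y := by
  unfold Cfsg.sympForm B0
  simp only [Matrix.J, dotProduct, Fintype.sum_sum_type, Matrix.mulVec, Matrix.fromBlocks_apply₁₁,
    Matrix.fromBlocks_apply₁₂, Matrix.fromBlocks_apply₂₁, Matrix.fromBlocks_apply₂₂,
    Matrix.zero_apply, zero_mul, Finset.sum_const_zero, zero_add, add_zero, Matrix.neg_apply,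
    Matrix.one_apply, neg_mul, ite_mul, one_mul, Finset.sum_neg_distrib, Finset.sum_ite_eq,
    Finset.mem_univ, if_true, mul_neg]
  rw [CharTwo.neg_eq, ← Finset.sum_add_distrib]
  apply Finset.sum_congr rfl
  intro i _
  ring


theorem B0_zero_left (y : Fin m ⊕ Fin m → F) : B0 0 y = 0 := by
  unfold B0; simp

theorem mem_iso_iff (g : GL (Unit ⊕ (Fin m ⊕ Fin m)) F) :
    g ∈ Cfsg.isometryGroup F (Cfsg.quadFormOdd m F) ↔
      ∀ u, Cfsg.quadFormOdd m F ((g : Matrix (I m) (I m) F) *ᵥ u) = Cfsg.quadFormOdd m F u := by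
  constructor
  · intro h u; exact h u u
  · intro h u v; exact h u

theorem r_add (u v : Unit ⊕ (Fin m ⊕ Fin m) → F) : r (u + v) = r u + r v := rfl

theorem sq_add_char_two [CharP F 2] (a b : F) : (a + b) ^ 2 = a ^ 2 + b ^ 2 := by
  have h2 : (2 : F) = 0 := CharTwo.two_eq_zero
  linear_combination (a * b) * h2

/-- isometries preserve the polar form -/
theorem B0_preserved [CharP F 2] (g : GL (Unit ⊕ (Fin m ⊕ Fin m)) F)
    (hg : g ∈ Cfsg.isometryGroup F (Cfsg.quadFormOdd m F)) (u v : Unit ⊕ (Fin m ⊕ Fin m) → F) :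
    B0 (r ((g : Matrix (I m) (I m) F) *ᵥ u)) (r ((g : Matrix (I m) (I m) F) *ᵥ v)) = B0 (r u) (r v) := by
  rw [mem_iso_iff] at hg
  have h1 := hg (u + v)
  have h2 := hg u
  have h3 := hg v
  rw [Matrix.mulVec_add] at h1
  simp only [quadFormOdd_eq] at h1 h2 h3
  rw [r_add, r_add, Q0_add, Q0_add, Pi.add_apply, Pi.add_apply, sq_add_char_two,
    sq_add_char_two] at h1
  linear_combination h1 - h2 - h3

/-- an isometry fixes the radical vector `e₀` -/
theorem mulVec_e0 [CharP F 2] (g : GL (Unit ⊕ (Fin m ⊕ Fin m)) F)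
    (hg : g ∈ Cfsg.isometryGroup F (Cfsg.quadFormOdd m F)) :
    (g : Matrix (I m) (I m) F) *ᵥ (Pi.single (Sum.inl ()) 1) = Pi.single (Sum.inl ()) 1 := by
  set w := (g : Matrix (I m) (I m) F) *ᵥ (Pi.single (Sum.inl ()) 1) with hw
  have hr0 : r (Pi.single (Sum.inl ()) (1 : F) : Unit ⊕ (Fin m ⊕ Fin m) → F) = 0 := by
    ext j; simp [r]
  have h1 : ∀ z : Fin m ⊕ Fin m → F, B0 (r w) z = 0 := by
    intro z
    have h := B0_preserved g hg (Pi.single (Sum.inl ()) 1)
      (((g⁻¹ : GL (I m) F) : Matrix (I m) (I m) F) *ᵥ (Sum.elim 0 z))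
    rw [hr0, B0_zero_left, Matrix.mulVec_mulVec, ← Matrix.GeneralLinearGroup.coe_mul,
      mul_inv_cancel, Matrix.GeneralLinearGroup.coe_one, Matrix.one_mulVec] at h
    rw [← hw] at h
    have : r (Sum.elim (0 : Unit → F) z) = z := by ext j; simp [r]
    rw [this] at h
    exact h
  have hrw : r w = 0 := by
    by_contra hne
    obtain ⟨z, hz⟩ := Sp.exists_sympForm_ne_zero m (r w) hne
    rw [sympForm_eq_B0] at hz
    exact hz (h1 z)
  have hQ := (mem_iso_iff g).1 hg (Pi.single (Sum.inl ()) 1)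
  rw [← hw, quadFormOdd_eq, quadFormOdd_eq] at hQ
  rw [hrw, hr0] at hQ
  have hQ0 : Q0 (0 : Fin m ⊕ Fin m → F) = 0 := by unfold Q0; simp
  rw [hQ0, add_zero, add_zero, Pi.single_eq_same, one_pow] at hQ
  have hw0 : w (Sum.inl ()) = 1 := by
    have h2 : (2 : F) = 0 := CharTwo.two_eq_zero
    have : (w (Sum.inl ()) - 1) ^ 2 = 0 := by linear_combination hQ - (w (Sum.inl ())) * h2 + h2
    exact sub_eq_zero.1 ((pow_eq_zero_iff (two_ne_zero)).1 this)
  ext j
  rcases j with ⟨⟩ | j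
  · rw [hw0, Pi.single_eq_same]
  · have := congrFun hrw j
    simp only [r, Pi.zero_apply] at this
    rw [this]
    simp


/-- the symplectic part of an isometry -/
def S (g : GL (I m) F) : Matrix (Fin m ⊕ Fin m) (Fin m ⊕ Fin m) F :=
  (g : Matrix (I m) (I m) F).toBlocks₂₂

theorem entry_inr_inl [CharP F 2] (g : GL (I m) F)
    (hg : g ∈ Cfsg.isometryGroup F (Cfsg.quadFormOdd m F)) (j : Fin m ⊕ Fin m) :
    (g : Matrix (I m) (I m) F) (Sum.inr j) (Sum.inl ()) = 0 := by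
  have h := congrFun (mulVec_e0 g hg) (Sum.inr j)
  rw [Matrix.mulVec_single_one] at h
  simpa using h

theorem entry_inl_inl [CharP F 2] (g : GL (I m) F)
    (hg : g ∈ Cfsg.isometryGroup F (Cfsg.quadFormOdd m F)) :
    (g : Matrix (I m) (I m) F) (Sum.inl ()) (Sum.inl ()) = 1 := by
  have h := congrFun (mulVec_e0 g hg) (Sum.inl ())
  rw [Matrix.mulVec_single_one] at h
  simpa using h

theorem r_mulVec [CharP F 2] (g : GL (I m) F)
    (hg : g ∈ Cfsg.isometryGroup F (Cfsg.quadFormOdd m F)) (v : I m → F) :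
    r ((g : Matrix (I m) (I m) F) *ᵥ v) = S g *ᵥ r v := by
  ext j
  simp only [r, S, Matrix.mulVec, dotProduct, Fintype.sum_sum_type, Matrix.toBlocks₂₂,
    Matrix.of_apply]
  simp [entry_inr_inl g hg j]

theorem S_mem [CharP F 2] (g : GL (I m) F)
    (hg : g ∈ Cfsg.isometryGroup F (Cfsg.quadFormOdd m F)) :
    S g ∈ Matrix.symplecticGroup (Fin m) F := by
  rw [mem_symplecticGroup_iff_sympForm]
  intro x y
  have h := B0_preserved g hg (Sum.elim 0 x) (Sum.elim 0 y)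
  rw [r_mulVec g hg, r_mulVec g hg] at h
  have hx : r (Sum.elim (0 : Unit → F) x) = x := by ext j; simp [r]
  have hy : r (Sum.elim (0 : Unit → F) y) = y := by ext j; simp [r]
  rw [hx, hy] at h
  rw [sympForm_eq_B0, sympForm_eq_B0]
  exact h

theorem S_mul [CharP F 2] (g h : GL (I m) F)
    (hg : g ∈ Cfsg.isometryGroup F (Cfsg.quadFormOdd m F))
    (hh : h ∈ Cfsg.isometryGroup F (Cfsg.quadFormOdd m F)) :
    S (g * h) = S g * S h := by
  rw [Matrix.ext_iff_mulVec]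
  intro x
  have hx : r (Sum.elim (0 : Unit → F) x) = x := by ext j; simp [r]
  have h1 := r_mulVec (g * h) (mul_mem hg hh) (Sum.elim 0 x)
  rw [Matrix.GeneralLinearGroup.coe_mul, ← Matrix.mulVec_mulVec, r_mulVec g hg, r_mulVec h hh,
    hx, Matrix.mulVec_mulVec] at h1
  exact h1.symm

/-- an isometry with trivial symplectic part is trivial -/
theorem eq_one_of_S_eq_one [CharP F 2] (g : GL (I m) F)
    (hg : g ∈ Cfsg.isometryGroup F (Cfsg.quadFormOdd m F)) (h1 : S g = 1) : g = 1 := by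
  apply Units.ext
  rw [Matrix.ext_iff_mulVec]
  intro v
  have hr := r_mulVec g hg v
  rw [h1, Matrix.one_mulVec] at hr
  have hQ := (mem_iso_iff g).1 hg v
  rw [quadFormOdd_eq, quadFormOdd_eq, hr] at hQ
  have h0 : ((g : Matrix (I m) (I m) F) *ᵥ v) (Sum.inl ()) = v (Sum.inl ()) := by
    have h2 : (2 : F) = 0 := CharTwo.two_eq_zero
    have : (((g : Matrix (I m) (I m) F) *ᵥ v) (Sum.inl ()) - v (Sum.inl ())) ^ 2 = 0 := by
      linear_combination hQ - (((g : Matrix (I m) (I m) F) *ᵥ v) (Sum.inl ()) * v (Sum.inl ())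
        - v (Sum.inl ()) ^ 2) * h2
    exact sub_eq_zero.1 ((pow_eq_zero_iff (two_ne_zero)).1 this)
  show (g : Matrix (I m) (I m) F) *ᵥ v = (1 : Matrix (I m) (I m) F) *ᵥ v
  rw [Matrix.one_mulVec]
  ext j
  rcases j with ⟨⟩ | j
  · exact h0
  · exact congrFun hr j

theorem quad_symm_char_two {κ : Type*} [Fintype κ] [DecidableEq κ] [CharP F 2]
    (D : Matrix κ κ F) (hD : Dᵀ = D) (x : κ → F) :
    x ⬝ᵥ (D *ᵥ x) = ∑ j, D j j * x j ^ 2 := by
  have hsym : ∀ j k, D j k = D k j := fun j k => by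
    conv_lhs => rw [← hD]
    rfl
  have h2 : (2 : F) = 0 := CharTwo.two_eq_zero
  simp only [dotProduct, Matrix.mulVec, Finset.mul_sum]
  rw [← Finset.sum_product' (f := fun j k => x j * (D j k * x k))]
  rw [← Finset.sum_filter_add_sum_filter_not (Finset.univ ×ˢ Finset.univ)
    (fun p : κ × κ => p.1 = p.2)]
  have hoff : ∑ p ∈ (Finset.univ ×ˢ Finset.univ : Finset (κ × κ)) with ¬ p.1 = p.2,
      x p.1 * (D p.1 p.2 * x p.2) = 0 := by
    apply Finset.sum_involution (fun p _ => p.swap)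
    · intro p _
      simp only [Prod.fst_swap, Prod.snd_swap]
      rw [hsym p.2 p.1]
      linear_combination (x p.1 * D p.1 p.2 * x p.2) * h2
    · intro p hp _ h
      rw [Finset.mem_filter] at hp
      apply hp.2
      have := congrArg Prod.fst h
      simpa using this.symm
    · intro p _
      exact Prod.swap_swap p
    · intro p hp
      rw [Finset.mem_filter] at hp ⊢
      refine ⟨by simp, ?_⟩
      intro h
      exact hp.2 (by simpa using h.symm)
  rw [hoff, add_zero, Finset.sum_filter, Finset.sum_product]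
  apply Finset.sum_congr rfl
  intro j _
  simp only
  rw [Finset.sum_ite_eq]
  simp only [Finset.mem_univ, if_true]
  ring

/-- the matrix of `Q0` -/
def U (m : ℕ) (F : Type*) [Field F] : Matrix (Fin m ⊕ Fin m) (Fin m ⊕ Fin m) F :=
  Matrix.fromBlocks 0 1 0 0

theorem Q0_eq_dot (x : Fin m ⊕ Fin m → F) : Q0 x = x ⬝ᵥ (U m F *ᵥ x) := by
  unfold Q0 U
  simp only [dotProduct, Fintype.sum_sum_type, Matrix.mulVec, Matrix.fromBlocks_apply₁₁,
    Matrix.fromBlocks_apply₁₂, Matrix.fromBlocks_apply₂₁, Matrix.fromBlocks_apply₂₂,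
    Matrix.zero_apply, zero_mul, Finset.sum_const_zero, zero_add, add_zero,
    Matrix.one_apply, ite_mul, one_mul, Finset.sum_ite_eq, Finset.mem_univ, if_true, mul_zero]

theorem J_eq_U : Matrix.J (Fin m) F = (U m F)ᵀ - U m F := by
  unfold U Matrix.J
  rw [Matrix.fromBlocks_transpose]
  ext i j
  rcases i with i | i <;> rcases j with j | j <;> simp

/-- the defect matrix `Sᵀ U S - U` -/
def Dm (A : Matrix (Fin m ⊕ Fin m) (Fin m ⊕ Fin m) F) : Matrix (Fin m ⊕ Fin m) (Fin m ⊕ Fin m) F :=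
  Aᵀ * U m F * A - U m F

theorem Dm_symm (A : Matrix (Fin m ⊕ Fin m) (Fin m ⊕ Fin m) F)
    (hA : A ∈ Matrix.symplecticGroup (Fin m) F) : (Dm A)ᵀ = Dm A := by
  rw [SymplecticGroup.mem_iff', J_eq_U] at hA
  unfold Dm
  rw [Matrix.transpose_sub, Matrix.transpose_mul, Matrix.transpose_mul, Matrix.transpose_transpose,
    ← Matrix.mul_assoc]
  rw [Matrix.mul_sub, Matrix.sub_mul] at hA
  rw [sub_eq_sub_iff_sub_eq_sub]
  exact hA

theorem Dm_quad (A : Matrix (Fin m ⊕ Fin m) (Fin m ⊕ Fin m) F) (x : Fin m ⊕ Fin m → F) :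
    x ⬝ᵥ (Dm A *ᵥ x) = Q0 (A *ᵥ x) - Q0 x := by
  unfold Dm
  rw [Matrix.sub_mulVec, dotProduct_sub, ← Q0_eq_dot, Q0_eq_dot (A *ᵥ x), Matrix.mul_assoc,
    ← Matrix.mulVec_mulVec, ← Matrix.mulVec_mulVec, Matrix.dotProduct_mulVec,
    Matrix.vecMul_transpose]


/-- the lift of a symplectic matrix with a given row `φ` -/
def liftM (φ : Fin m ⊕ Fin m → F) (A : Matrix (Fin m ⊕ Fin m) (Fin m ⊕ Fin m) F) :
    Matrix (I m) (I m) F :=
  Matrix.fromBlocks (1 : Matrix Unit Unit F) (Matrix.of fun _ j => φ j) 0 A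

theorem liftM_mulVec_inl (φ : Fin m ⊕ Fin m → F) (A : Matrix (Fin m ⊕ Fin m) (Fin m ⊕ Fin m) F)
    (v : I m → F) : (liftM φ A *ᵥ v) (Sum.inl ()) = v (Sum.inl ()) + ∑ j, φ j * r v j := by
  unfold liftM
  rw [Matrix.fromBlocks_mulVec]
  simp [Matrix.mulVec, dotProduct, r]

theorem liftM_mulVec_inr (φ : Fin m ⊕ Fin m → F) (A : Matrix (Fin m ⊕ Fin m) (Fin m ⊕ Fin m) F)
    (v : I m → F) : r (liftM φ A *ᵥ v) = A *ᵥ r v := by
  unfold liftM
  rw [Matrix.fromBlocks_mulVec]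
  ext j
  simp only [r, Sum.elim_inr, Matrix.zero_mulVec, zero_add]
  rfl

theorem liftM_det (φ : Fin m ⊕ Fin m → F) (A : Matrix (Fin m ⊕ Fin m) (Fin m ⊕ Fin m) F) :
    (liftM φ A).det = A.det := by
  unfold liftM
  rw [Matrix.det_fromBlocks_zero₂₁, Matrix.det_one, one_mul]

theorem liftM_preserves [CharP F 2] (φ : Fin m ⊕ Fin m → F)
    (A : Matrix (Fin m ⊕ Fin m) (Fin m ⊕ Fin m) F)
    (hA : A ∈ Matrix.symplecticGroup (Fin m) F) (hφ : ∀ j, φ j ^ 2 = Dm A j j) (v : I m → F) :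
    Cfsg.quadFormOdd m F (liftM φ A *ᵥ v) = Cfsg.quadFormOdd m F v := by
  rw [quadFormOdd_eq, quadFormOdd_eq, liftM_mulVec_inl, liftM_mulVec_inr, sq_add_char_two]
  have h1 : (∑ j, φ j * r v j) ^ 2 = Q0 (A *ᵥ r v) - Q0 (r v) := by
    rw [sum_pow_char 2, ← Dm_quad, quad_symm_char_two _ (Dm_symm A hA)]
    apply Finset.sum_congr rfl
    intro j _
    rw [mul_pow, hφ]
  have h2 : (2 : F) = 0 := CharTwo.two_eq_zero
  rw [h1]
  linear_combination (Q0 (A *ᵥ r v) - Q0 (r v)) * h2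

theorem exists_lift [Finite F] [CharP F 2] (A : Matrix (Fin m ⊕ Fin m) (Fin m ⊕ Fin m) F)
    (hA : A ∈ Matrix.symplecticGroup (Fin m) F) :
    ∃ g : GL (I m) F, g ∈ Cfsg.isometryGroup F (Cfsg.quadFormOdd m F) ∧ S g = A := by
  have hchar : ringChar F = 2 := (ringChar.eq F 2)
  choose φ hφ using fun j => FiniteField.isSquare_of_char_two hchar (Dm A j j)
  have hφ' : ∀ j, φ j ^ 2 = Dm A j j := fun j => by rw [hφ j, sq]
  have hdet : IsUnit (liftM φ A).det := by
    rw [liftM_det]; exact SymplecticGroup.symplectic_det hA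
  refine ⟨((Matrix.isUnit_iff_isUnit_det _).2 hdet).unit, ?_, ?_⟩
  · rw [mem_iso_iff]
    intro u
    rw [IsUnit.unit_spec]
    exact liftM_preserves φ A hA hφ' u
  · unfold S
    rw [IsUnit.unit_spec]
    rfl

/-- In characteristic 2, `O_{2m+1}(q) ≅ Sp_{2m}(q)`. -/
theorem main [Fintype F] [CharP F 2] (m : ℕ) :
    Nonempty (Cfsg.isometryGroup F (Cfsg.quadFormOdd m F) ≃* Matrix.symplecticGroup (Fin m) F) := by
  let f : Cfsg.isometryGroup F (Cfsg.quadFormOdd m F) →* Matrix.symplecticGroup (Fin m) F :=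
    MonoidHom.mk' (fun g => ⟨S (g : GL (I m) F), S_mem g.1 g.2⟩) (by
      intro g h
      apply Subtype.ext
      exact S_mul g.1 h.1 g.2 h.2)
  refine ⟨MulEquiv.ofBijective f ⟨?_, ?_⟩⟩
  · rw [injective_iff_map_eq_one]
    intro g hg
    apply Subtype.ext
    apply eq_one_of_S_eq_one g.1 g.2
    exact congrArg Subtype.val hg
  · intro A
    obtain ⟨g, hg, hS⟩ := exists_lift A.1 A.2
    exact ⟨⟨g, hg⟩, Subtype.ext hS⟩

end Cfsg.Agent.Lib.H2.OddSp
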