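import Mathlib
import Cfsg.Prelude.Def_Classical
import Cfsg.Agent.Lib.H1.PGL2SpecA
import Cfsg.Agent.Lib.H13.TraceForm
import Cfsg.Agent.Lib.H13.Singer

/-!
# S3589 farm-out, task T5 (helper2): an element of order `2(q+1)` in `O⁺₄(q)`, `q` even.
-/

set_option autoImplicit false

namespace Cfsg.Agent.Lib.H2.S8O

open Matrix

variable {F : Type*} [Field F]

/-- coordinates on `2 × 2` matrices -/
def theta : Matrix (Fin 2) (Fin 2) F ≃ₗ[F] (Fin 2 ⊕ Fin 2 → F) where
  toFun X := Sum.elim ![X 0 0, X 0 1] ![X 1 1, X 1 0]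
  invFun v := !![v (.inl 0), v (.inl 1); v (.inr 1), v (.inr 0)]
  map_add' X Y := by
    funext i
    rcases i with i | i <;> fin_cases i <;> simp
  map_smul' c X := by
    funext i
    rcases i with i | i <;> fin_cases i <;> simp
  left_inv X := by
    ext i j
    fin_cases i <;> fin_cases j <;> simp
  right_inv v := by
    funext i
    rcases i with i | i <;> fin_cases i <;> simp

theorem quadFormPlus_theta [CharP F 2] (X : Matrix (Fin 2) (Fin 2) F) :
    Cfsg.quadFormPlus 2 F (theta X) = X.det := by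
  rw [Matrix.det_fin_two]
  unfold Cfsg.quadFormPlus theta
  simp only [Fin.sum_univ_two, LinearEquiv.coe_mk, LinearMap.coe_mk, AddHom.coe_mk, Sum.elim_inl,
    Sum.elim_inr, Matrix.cons_val_zero, Matrix.cons_val_one]
  linear_combination (X 0 1 * X 1 0) * (CharTwo.two_eq_zero : (2 : F) = 0)

/-- `(A, B) ↦ (X ↦ A X Bᵀ)` -/
def rho : SpecialLinearGroup (Fin 2) F × SpecialLinearGroup (Fin 2) F →*
    Module.End F (Matrix (Fin 2) (Fin 2) F) where
  toFun g :=
    { toFun := fun X => g.1.1 * X * (g.2.1)ᵀ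
      map_add' := fun X Y => by rw [mul_add, add_mul]
      map_smul' := fun c X => by simp }
  map_one' := by
    apply LinearMap.ext
    intro X
    simp
  map_mul' g h := by
    apply LinearMap.ext
    intro X
    simp [Matrix.transpose_mul, mul_assoc]

theorem rho_apply (g : SpecialLinearGroup (Fin 2) F × SpecialLinearGroup (Fin 2) F)
    (X : Matrix (Fin 2) (Fin 2) F) : rho g X = g.1.1 * X * (g.2.1)ᵀ := rfl

theorem det_rho (g : SpecialLinearGroup (Fin 2) F × SpecialLinearGroup (Fin 2) F)
    (X : Matrix (Fin 2) (Fin 2) F) : (rho g X).det = X.det := by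
  rw [rho_apply, Matrix.det_mul, Matrix.det_mul, Matrix.det_transpose, g.1.2, g.2.2]
  simp

theorem rho_eq_id [CharP F 2] (g : SpecialLinearGroup (Fin 2) F × SpecialLinearGroup (Fin 2) F)
    (h : ∀ X, rho g X = X) : g = 1 := by
  obtain ⟨A, B⟩ := g
  have h1 : A.1 * (B.1)ᵀ = 1 := by
    have := h 1
    rwa [rho_apply, mul_one] at this
  have hcomm : ∀ X : Matrix (Fin 2) (Fin 2) F, A.1 * X = X * A.1 := by
    intro X
    have h2 := h X
    rw [rho_apply] at h2
    have h3 : (B.1)ᵀ * A.1 = 1 := by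
      exact mul_eq_one_comm.mp h1
    calc A.1 * X = A.1 * X * ((B.1)ᵀ * A.1) := by rw [h3, mul_one]
      _ = (A.1 * X * (B.1)ᵀ) * A.1 := by simp only [mul_assoc]
      _ = X * A.1 := by rw [h2]
  have e1 := hcomm !![0, 1; 0, 0]
  have e2 := hcomm !![0, 0; 1, 0]
  have a10 : A.1 1 0 = 0 := by
    have := congrFun (congrFun e1 0) 0
    simp [Matrix.mul_apply, Fin.sum_univ_two] at this
    exact this.symm
  have a01 : A.1 0 1 = 0 := by
    have := congrFun (congrFun e2 1) 1
    simp [Matrix.mul_apply, Fin.sum_univ_two] at this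
    exact this.symm
  have a00 : A.1 0 0 = A.1 1 1 := by
    have := congrFun (congrFun e1 0) 1
    simp [Matrix.mul_apply, Fin.sum_univ_two] at this
    exact this
  have hdet := A.2
  rw [Matrix.det_fin_two, a10, a01, a00] at hdet
  have h11 : A.1 1 1 = 1 := by
    have : (A.1 1 1 - 1) ^ 2 = 0 := by
      linear_combination hdet - (A.1 1 1 - 1) * (CharTwo.two_eq_zero : (2 : F) = 0)
    have := pow_eq_zero_iff (two_ne_zero) |>.mp this
    linear_combination this
  have hA : A = 1 := by
    apply Subtype.ext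
    ext i j
    fin_cases i <;> fin_cases j <;> simp [a10, a01, a00, h11]
  have hB : B = 1 := by
    apply Subtype.ext
    rw [hA] at h1
    have h2 : (B.1)ᵀ = 1 := by simpa using h1
    have := congrArg Matrix.transpose h2
    simpa using this
  rw [hA, hB]; rfl

/-- the transvection `[[1,1],[0,1]]` -/
def tB : SpecialLinearGroup (Fin 2) F := ⟨!![1, 1; 0, 1], by simp [Matrix.det_fin_two]⟩

theorem orderOf_tB [CharP F 2] : orderOf (tB : SpecialLinearGroup (Fin 2) F) = 2 := by
  apply orderOf_eq_prime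
  · apply Subtype.ext
    rw [pow_two]
    show (!![1, 1; 0, 1] : Matrix (Fin 2) (Fin 2) F) * !![1, 1; 0, 1] = 1
    ext i j
    fin_cases i <;> fin_cases j <;>
      simp [Matrix.mul_apply, Fin.sum_univ_two, CharTwo.add_self_eq_zero]
  · intro h
    have := congrArg (fun M : SpecialLinearGroup (Fin 2) F => M.1 0 1) h
    simp [tB] at this

/-- **T5** -/
theorem exists_two_mul_succ [Fintype F] [CharP F 2] :
    ∃ h ∈ Cfsg.isometryGroup F (Cfsg.quadFormPlus 2 F),
      orderOf h = 2 * (Fintype.card F + 1) := by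
  classical
  obtain ⟨A, hA⟩ := Cfsg.Agent.Lib.H1.PGL2Spec.exists_sl2_orderOf_card_succ (F := F)
  obtain ⟨φ, hφ⟩ := Cfsg.Agent.Lib.H13.TraceForm.exists_hom_isometryGroup
    (G := SpecialLinearGroup (Fin 2) F × SpecialLinearGroup (Fin 2) F)
    (theta (F := F)) (Cfsg.quadFormPlus 2 F) (fun X => X.det)
    (fun X => (quadFormPlus_theta X).symm) rho (fun g X => det_rho g X)
  have hinj : Function.Injective φ := by
    rw [injective_iff_map_eq_one]
    intro g hg
    apply rho_eq_id
    intro X
    have := hφ g X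
    rw [hg] at this
    simp only [OneMemClass.coe_one, Units.val_one, Matrix.one_mulVec] at this
    exact (theta.injective this).symm
  refine ⟨(φ (A, tB)).1, (φ (A, tB)).2, ?_⟩
  rw [Subgroup.orderOf_coe, orderOf_injective φ hinj, Prod.orderOf, hA, orderOf_tB]
  have hodd : Nat.Coprime (Fintype.card F + 1) 2 := by
    have h2 : 2 ∣ Fintype.card F := by
      have := (CharP.cast_eq_zero_iff F 2 (Fintype.card F)).mp (by simp)
      exact this
    rw [Nat.coprime_two_right]
    obtain ⟨k, hk⟩ := h2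
    exact ⟨k, by omega⟩
  rw [Nat.Coprime.lcm_eq_mul hodd, mul_comm]

end Cfsg.Agent.Lib.H2.S8O
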