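import Mathlib

set_option autoImplicit false

/-!
# Singer cycles: a cyclic subgroup of order `q^n - 1` in `GL_n(q)`
-/

namespace Cfsg.Agent.Lib.H2.Singer

open Matrix

theorem exists_singer (F : Type*) [Field F] [Fintype F] (n : ℕ) [NeZero n] :
    ∃ C : Subgroup (GL (Fin n) F), IsCyclic C ∧ Nat.card C = Fintype.card F ^ n - 1 := by
  classical
  obtain ⟨p, hp⟩ := CharP.exists F
  have hpp : p.Prime := (CharP.char_is_prime_or_zero F p).resolve_right (by
    intro h0
    subst h0
    have : CharZero F := CharP.charP_to_charZero F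
    exact (not_finite F).elim)
  have : Fact p.Prime := ⟨hpp⟩
  let K := FiniteField.Extension F p n
  have hfin : Module.finrank F K = n := FiniteField.finrank_extension F p n
  let b : Module.Basis (Fin n) F K := Module.finBasisOfFinrankEq F K hfin
  let φ : K →ₐ[F] Matrix (Fin n) (Fin n) F :=
    (LinearMap.toMatrixAlgEquiv b).toAlgHom.comp (Algebra.lmul F K)
  have hφ : Function.Injective φ := by
    intro x y hxy
    have h1 : Algebra.lmul F K x = Algebra.lmul F K y := (LinearMap.toMatrixAlgEquiv b).injective hxy
    exact Algebra.lmul_injective h1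
  let ψ : Kˣ →* GL (Fin n) F := Units.map φ.toMonoidHom
  have hψ : Function.Injective ψ := Units.map_injective hφ
  refine ⟨ψ.range, ?_, ?_⟩
  · exact isCyclic_of_surjective ψ.rangeRestrict ψ.rangeRestrict_surjective
  · rw [← Nat.card_congr (MonoidHom.ofInjective hψ).toEquiv, Nat.card_units,
      FiniteField.natCard_extension, Nat.card_eq_fintype_card]

end Cfsg.Agent.Lib.H2.Singer
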