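import Mathlib
import Cfsg.Prelude.Def_Classical
import Cfsg.Agent.Lib.H11.S8V0
import Cfsg.Agent.Lib.H2.S8OT5

/-!
# S3590 farm-out, task U6 (helper2): conjugation by an element of order `q+1` of `SL₂(F)` on `M₂(F)`.
-/

set_option autoImplicit false

namespace Cfsg.Agent.Lib.H2.S8V

open Matrix Cfsg.Agent.Lib.H11.S8V Cfsg.Agent.Lib.H2.S8O

variable {F : Type*} [Field F]

/-- inverse transpose in `SL₂` -/
def invT (A : SpecialLinearGroup (Fin 2) F) : SpecialLinearGroup (Fin 2) F :=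
  ⟨((A⁻¹ : SpecialLinearGroup (Fin 2) F).1)ᵀ, by rw [Matrix.det_transpose]; exact (A⁻¹).2⟩

theorem invT_pow (A : SpecialLinearGroup (Fin 2) F) (n : ℕ) : (invT A) ^ n = invT (A ^ n) := by
  apply Subtype.ext
  change (↑((invT A) ^ n) : Matrix (Fin 2) (Fin 2) F) =
    ((↑((A ^ n)⁻¹ : SpecialLinearGroup (Fin 2) F) : Matrix (Fin 2) (Fin 2) F))ᵀ
  rw [Matrix.SpecialLinearGroup.coe_pow, ← inv_pow, Matrix.SpecialLinearGroup.coe_pow]
  change (((↑(A⁻¹ : SpecialLinearGroup (Fin 2) F) : Matrix (Fin 2) (Fin 2) F))ᵀ) ^ n = _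
  rw [Matrix.transpose_pow]

theorem invT_eq_one_iff (A : SpecialLinearGroup (Fin 2) F) : invT A = 1 ↔ A = 1 := by
  constructor
  · intro h
    have h1 : ((A⁻¹ : SpecialLinearGroup (Fin 2) F).1)ᵀ = 1 := congrArg Subtype.val h
    have h2 : (A⁻¹ : SpecialLinearGroup (Fin 2) F).1 = 1 := by
      have := congrArg Matrix.transpose h1
      simpa using this
    have h3 : (A⁻¹ : SpecialLinearGroup (Fin 2) F) = 1 := Subtype.ext h2
    exact inv_eq_one.mp h3
  · intro h
    subst h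
    apply Subtype.ext
    show (((1 : SpecialLinearGroup (Fin 2) F)⁻¹).1)ᵀ = 1
    simp

theorem orderOf_invT (A : SpecialLinearGroup (Fin 2) F) : orderOf (invT A) = orderOf A := by
  rw [orderOf_eq_orderOf_iff]
  intro n
  rw [invT_pow, invT_eq_one_iff]

theorem rho_invT (A : SpecialLinearGroup (Fin 2) F) : rho (A, invT A) (1 : Matrix (Fin 2) (Fin 2) F) = 1 := by
  rw [rho_apply]
  change (↑A : Matrix (Fin 2) (Fin 2) F) * 1 *
    (((↑(A⁻¹ : SpecialLinearGroup (Fin 2) F) : Matrix (Fin 2) (Fin 2) F))ᵀ)ᵀ = 1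
  rw [Matrix.transpose_transpose, mul_one, ← Matrix.SpecialLinearGroup.coe_mul, mul_inv_cancel,
    Matrix.SpecialLinearGroup.coe_one]

/-- **U6** conjugation by an element of order `q+1` of `SL₂(F)` on `M₂(F)` -/
theorem exists_succ_fixed [Fintype F] [CharP F 2] :
    ∃ h ∈ Cfsg.isometryGroup F (Cfsg.quadFormPlus 2 F), orderOf h = Fintype.card F + 1 ∧
      gsum (h : Matrix (Fin 2 ⊕ Fin 2) (Fin 2 ⊕ Fin 2) F) (Fintype.card F + 1) ≠ 0 := by
  classical
  obtain ⟨A, hA⟩ := Cfsg.Agent.Lib.H1.PGL2Spec.exists_sl2_orderOf_card_succ (F := F)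
  obtain ⟨φ, hφ⟩ := Cfsg.Agent.Lib.H13.TraceForm.exists_hom_isometryGroup
    (G := SpecialLinearGroup (Fin 2) F × SpecialLinearGroup (Fin 2) F)
    (theta (F := F)) (Cfsg.quadFormPlus 2 F) (fun X => X.det)
    (fun X => (quadFormPlus_theta X).symm) rho (fun g X => det_rho g X)
  have hinj : Function.Injective φ := by
    rw [injective_iff_map_eq_one]
    intro g hg
    apply rho_eq_id
    intro X
    have := hφ g X
    rw [hg] at this
    simp only [OneMemClass.coe_one, Units.val_one, Matrix.one_mulVec] at this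
    exact (theta.injective this).symm
  set g : SpecialLinearGroup (Fin 2) F × SpecialLinearGroup (Fin 2) F := (A, invT A) with hg
  refine ⟨(φ g).1, (φ g).2, ?_, ?_⟩
  · rw [Subgroup.orderOf_coe, orderOf_injective φ hinj, Prod.orderOf, hg]
    show Nat.lcm (orderOf A) (orderOf (invT A)) = _
    rw [orderOf_invT, Nat.lcm_self, hA]
  · set M : Matrix (Fin 2 ⊕ Fin 2) (Fin 2 ⊕ Fin 2) F :=
      (((φ g).1 : GL (Fin 2 ⊕ Fin 2) F) : Matrix (Fin 2 ⊕ Fin 2) (Fin 2 ⊕ Fin 2) F) with hM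
    set v : Fin 2 ⊕ Fin 2 → F := theta (1 : Matrix (Fin 2) (Fin 2) F) with hv
    have hfix : M *ᵥ v = v := by
      have := hφ g 1
      rw [rho_invT] at this
      exact this
    have hpow : ∀ i : ℕ, (M ^ i) *ᵥ v = v := by
      intro i
      induction i with
      | zero => simp
      | succ i ih => rw [pow_succ, ← Matrix.mulVec_mulVec, hfix, ih]
    intro h0
    have h1 : gsum M (Fintype.card F + 1) *ᵥ v = ((Fintype.card F + 1 : ℕ) : F) • v := by
      rw [gsum_def, Matrix.sum_mulVec]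
      simp only [hpow, Finset.sum_const, Finset.card_range]
      rw [Nat.cast_smul_eq_nsmul]
    rw [h0, Matrix.zero_mulVec] at h1
    have h2 : ((Fintype.card F + 1 : ℕ) : F) = 1 := by
      push_cast
      simp
    rw [h2, one_smul] at h1
    have h3 : v (Sum.inl 0) = 1 := by
      simp [hv, theta]
    rw [← h1] at h3
    simp at h3

end Cfsg.Agent.Lib.H2.S8V
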