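import Mathlib
import Cfsg.Agent.Lib.H2.SLGen
import Cfsg.Agent.Lib.H2.SLCard

set_option autoImplicit false

namespace Cfsg.Agent.Lib.H2

open Matrix
open scoped commutatorElement

variable {ι : Type*} [DecidableEq ι] [Fintype ι] {F : Type*} [Field F]

/-- the diagonal matrix with `a` at position `i` and `1` elsewhere, as an element of `GL` -/
def diagOne (i : ι) (a : F) (ha : a ≠ 0) : GL ι F where
  val := diagonal (fun k => if k = i then a else 1)
  inv := diagonal (fun k => if k = i then a⁻¹ else 1)
  val_inv := by
    rw [diagonal_mul_diagonal, ← diagonal_one]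
    congr 1
    funext k
    by_cases hk : k = i <;> simp [hk, ha]
  inv_val := by
    rw [diagonal_mul_diagonal, ← diagonal_one]
    congr 1
    funext k
    by_cases hk : k = i <;> simp [hk, ha]

theorem diagOne_mul_transvection {i j : ι} (hij : i ≠ j) (a : F) (ha : a ≠ 0) (b : F) :
    diagOne i a ha * SpecialLinearGroup.toGL (SpecialLinearGroup.transvection hij b) =
      SpecialLinearGroup.toGL (SpecialLinearGroup.transvection hij (a * b)) * diagOne i a ha := by
  apply Units.ext
  show diagonal (fun k => if k = i then a else 1) * (1 + single i j b) =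
    (1 + single i j (a * b)) * diagonal (fun k => if k = i then a else 1)
  ext k l
  rw [diagonal_mul, mul_diagonal, Matrix.add_apply, Matrix.add_apply]
  by_cases hki : k = i
  · subst hki
    by_cases hlj : l = j
    · subst hlj
      simp [hij, hij.symm]
    · simp [Ne.symm hlj]
      by_cases hkl : k = l
      · subst hkl; simp
      · simp [hkl]
  · by_cases hkl : k = l
    · subst hkl; simp [hki, Ne.symm hki]
    · simp [hki, Ne.symm hki, hkl]

theorem toGL_transvection_mem_commutator_of_ne_one {i j : ι} (hij : i ≠ j) (a : F) (ha : a ≠ 0)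
    (ha1 : a ≠ 1) (b : F) :
    SpecialLinearGroup.toGL (SpecialLinearGroup.transvection hij b) ∈ commutator (GL ι F) := by
  have hne : a - 1 ≠ 0 := sub_ne_zero.2 ha1
  set b' := b / (a - 1) with hb'
  have hb : b = a * b' + (-b') := by rw [hb']; field_simp; ring
  have key : SpecialLinearGroup.toGL (SpecialLinearGroup.transvection hij b) =
      ⁅diagOne i a ha, SpecialLinearGroup.toGL (SpecialLinearGroup.transvection hij b')⁆ := by
    rw [commutatorElement_def, diagOne_mul_transvection hij a ha b', mul_assoc _ (diagOne i a ha),
      mul_inv_cancel, mul_one, ← map_inv, SpecialLinearGroup.transvection_inv, ← map_mul,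
      ← SpecialLinearGroup.transvection_add, ← hb]
  rw [key]
  exact Subgroup.commutator_mem_commutator (Subgroup.mem_top _) (Subgroup.mem_top _)

/-- `GL(ι,F)' = ker det` as soon as the transvections of `SL` lie in `GL'`. -/
theorem commutator_GL_eq_ker_det_of_transvection [Nontrivial ι]
    (h : ∀ (i j : ι) (hij : i ≠ j) (c : F),
      SpecialLinearGroup.toGL (SpecialLinearGroup.transvection hij c) ∈ commutator (GL ι F)) :
    commutator (GL ι F) = (GeneralLinearGroup.det : GL ι F →* Fˣ).ker := by
  apply le_antisymm
  · exact Abelianization.commutator_subset_ker _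
  · rw [← range_toGL_eq_ker_det]
    rintro _ ⟨A, rfl⟩
    refine SL_transvection_induction (fun A => SpecialLinearGroup.toGL A ∈ commutator (GL ι F))
      h (fun A B hA hB => ?_) A
    simp only [map_mul]
    exact mul_mem hA hB

theorem commutator_GL_eq_ker_det_of_three_le (h3 : 3 ≤ Fintype.card ι) :
    commutator (GL ι F) = (GeneralLinearGroup.det : GL ι F →* Fˣ).ker := by
  have : Nontrivial ι := Fintype.one_lt_card_iff_nontrivial.mp (by omega)
  apply commutator_GL_eq_ker_det_of_transvection
  intro i j hij c
  have h1 : SpecialLinearGroup.transvection hij c ∈ commutator (SpecialLinearGroup ι F) := by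
    rw [SL_commutator_eq_top h3]; exact Subgroup.mem_top _
  have h2 := Subgroup.mem_map_of_mem (SpecialLinearGroup.toGL : SpecialLinearGroup ι F →* GL ι F) h1
  rw [commutator_def, Subgroup.map_commutator] at h2
  rw [commutator_def]
  exact Subgroup.commutator_mono le_top le_top h2

theorem commutator_GL_eq_ker_det_of_exists [Nontrivial ι] (a : F) (ha : a ≠ 0) (ha1 : a ≠ 1) :
    commutator (GL ι F) = (GeneralLinearGroup.det : GL ι F →* Fˣ).ker :=
  commutator_GL_eq_ker_det_of_transvection
    (fun _ _ hij c => toGL_transvection_mem_commutator_of_ne_one hij a ha ha1 c)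

end Cfsg.Agent.Lib.H2
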