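import Mathlib
import Cfsg.Agent.Lib.H24.CodegreeDvd
import Cfsg.Agent.Lib.H23.DegreeDvd
import Cfsg.Agent.Lib.H23.Ito
import Cfsg.Agent.Lib.L0.CharLinear
import Cfsg.Agent.Lib.L0.CharBasic
import Cfsg.Agent.Lib.H1.Hall
import Cfsg.Agent.Lib.H2.Simple60
import Cfsg.Agent.S0493

set_option autoImplicit false

/-!
# Groups of order 60 and the degree `5` (helper2)

* `exists_five_dvd_A5`: `A₅` has an irreducible character of degree divisible by `5`
  (class number `≤ 5`, perfect, `∑ χ(1)² = 60`).
* `sylow_five_normal_of_solvable`: a solvable group of order 60 has a normal Sylow `5`-subgroup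
  (Hall subgroup of order 15).
* `not_five_dvd_of_normal_sylow`: Itô.
* `iso_A5_of_five_dvd`: a group of order 60 having an irreducible character of degree divisible
  by `5` is isomorphic to `A₅`.
-/

namespace Cfsg.Agent.Lib.H2.Deg60

open Equiv Cfsg Cfsg.Agent.Lib.H24 Cfsg.Agent.Lib.L0

/-- representatives of the five conjugacy classes of `A₅` -/
def reps : Fin 5 → Perm (Fin 5) :=
  ![1, c[0, 1, 2], c[0, 1] * c[2, 3], c[0, 1, 2, 3, 4], c[0, 1, 2, 4, 3]]

set_option maxRecDepth 100000 in
theorem conj_reps : ∀ g : Perm (Fin 5), Perm.sign g = 1 →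
    ∃ i : Fin 5, ∃ c : Perm (Fin 5), Perm.sign c = 1 ∧ c * g * c⁻¹ = reps i := by
  decide +kernel

theorem sign_reps : ∀ i : Fin 5, Perm.sign (reps i) = 1 := by decide

abbrev A5 := alternatingGroup (Fin 5)

theorem card_A5 : Nat.card A5 = 60 := by
  rw [nat_card_alternatingGroup]
  simp [Nat.factorial]

theorem card_conjClasses_A5 : Nat.card (ConjClasses A5) ≤ 5 := by
  let f : Fin 5 → ConjClasses A5 := fun i =>
    ConjClasses.mk ⟨reps i, Equiv.Perm.mem_alternatingGroup.mpr (sign_reps i)⟩
  have hf : Function.Surjective f := by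
    intro C
    obtain ⟨g, rfl⟩ := ConjClasses.exists_rep C
    obtain ⟨i, c, hc, hcg⟩ := conj_reps g.1 (Equiv.Perm.mem_alternatingGroup.mp g.2)
    refine ⟨i, ?_⟩
    symm
    apply ConjClasses.mk_eq_mk_iff_isConj.mpr
    rw [isConj_iff]
    refine ⟨⟨c, Equiv.Perm.mem_alternatingGroup.mpr hc⟩, ?_⟩
    apply Subtype.ext
    simpa using hcg
  have := Nat.card_le_card_of_surjective f hf
  simpa using this

theorem commutator_A5 : commutator A5 = ⊤ := by
  rcases (inferInstance : (commutator A5).Normal).eq_bot_or_eq_top with h | h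
  · exfalso
    rw [commutator_eq_bot_iff_center_eq_top] at h
    have h1 : (⟨reps 1, Equiv.Perm.mem_alternatingGroup.mpr (sign_reps 1)⟩ : A5) ∈
        Subgroup.center A5 := by rw [h]; trivial
    have h2 := Subgroup.mem_center_iff.mp h1
      ⟨reps 2, Equiv.Perm.mem_alternatingGroup.mpr (sign_reps 2)⟩
    have h3 := congrArg Subtype.val h2
    revert h3
    simp only [Subgroup.coe_mul]
    decide
  · exact h

/-- a linear character of `A₅` is trivial -/
theorem linear_eq_one {ψ : A5 → ℂ} (hψ : IsCharacter A5 ψ) (h1 : ψ 1 = 1) (g : A5) : ψ g = 1 := by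
  let K : Subgroup A5 :=
    { carrier := {g | ψ g = 1}
      one_mem' := h1
      mul_mem' := fun {a b} ha hb => by
        change ψ (a * b) = 1
        rw [linear_char_mul hψ h1, ha, hb, one_mul]
      inv_mem' := fun {a} ha => by
        change ψ a⁻¹ = 1
        have : ψ a * ψ a⁻¹ = 1 := by rw [← linear_char_mul hψ h1, mul_inv_cancel, h1]
        rw [ha, one_mul] at this
        exact this }
  have hK : commutator A5 ≤ K := by
    rw [commutator_def, Subgroup.commutator_le]
    intro a _ b _
    rw [commutatorElement_def]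
    exact linear_commutator hψ h1 a b
  rw [commutator_A5] at hK
  exact hK (Subgroup.mem_top g)

theorem exists_five_dvd_A5 : ∃ χ : IrrCharacter A5, 5 ∣ charDegree (χ : A5 → ℂ) := by
  classical
  by_contra hcon
  push Not at hcon
  have : Fintype (IrrCharacter A5) := Fintype.ofFinite _
  set d : IrrCharacter A5 → ℕ := fun χ => charDegree (χ : A5 → ℂ) with hd
  have hsum : ∑ χ : IrrCharacter A5, d χ ^ 2 = 60 := by
    rw [← card_A5]; exact sum_charDegree_sq
  have hk : Fintype.card (IrrCharacter A5) ≤ 5 := by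
    rw [← Nat.card_eq_fintype_card, card_irr_eq_card_conjClasses]
    exact card_conjClasses_A5
  have hV : ∀ χ, d χ ∈ ({1, 2, 3, 4, 6} : Finset ℕ) := by
    intro χ
    have h1 : d χ ∣ 60 := by
      have := Cfsg.Agent.Lib.H23.charDegree_dvd_card _ χ.2
      rwa [card_A5] at this
    have h2 : d χ ^ 2 ≤ 60 := by
      rw [← hsum]
      exact Finset.single_le_sum (f := fun χ => d χ ^ 2) (fun _ _ => Nat.zero_le _)
        (Finset.mem_univ χ)
    have h3 : d χ ≤ 7 := by nlinarith
    have h5 : ¬ 5 ∣ d χ := hcon χ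
    have h0 : 0 < d χ := Cfsg.Agent.Lib.H23.charDegree_pos _ χ.2
    generalize d χ = n at h1 h2 h3 h5 h0
    interval_cases n <;> simp_all
  let c : ℕ → ℕ := fun v => (Finset.univ.filter fun χ : IrrCharacter A5 => d χ = v).card
  have hcard : ∑ v ∈ ({1, 2, 3, 4, 6} : Finset ℕ), c v = Fintype.card (IrrCharacter A5) := by
    rw [← Finset.card_univ]
    exact (Finset.card_eq_sum_card_fiberwise (f := d) (s := Finset.univ)
      (t := ({1, 2, 3, 4, 6} : Finset ℕ)) (fun χ _ => hV χ)).symm
  have hsq : ∑ v ∈ ({1, 2, 3, 4, 6} : Finset ℕ), c v * v ^ 2 = 60 := by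
    rw [← hsum, ← Finset.sum_fiberwise_of_maps_to (s := Finset.univ)
      (t := ({1, 2, 3, 4, 6} : Finset ℕ)) (g := d) (fun χ _ => hV χ) (fun χ => d χ ^ 2)]
    apply Finset.sum_congr rfl
    intro v _
    change (Finset.univ.filter fun χ : IrrCharacter A5 => d χ = v).card * v ^ 2 = _
    rw [Finset.card_eq_sum_ones, Finset.sum_mul]
    apply Finset.sum_congr rfl
    intro χ hχ
    rw [Finset.mem_filter] at hχ
    rw [hχ.2, one_mul]
  have hc1 : c 1 = 1 := by
    change (Finset.univ.filter fun χ : IrrCharacter A5 => d χ = 1).card = 1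
    rw [Finset.card_eq_one]
    refine ⟨trivialIrr A5, ?_⟩
    ext χ
    simp only [Finset.mem_filter, Finset.mem_univ, true_and, Finset.mem_singleton]
    constructor
    · intro h
      have h1 : (χ : A5 → ℂ) 1 = 1 := by
        rw [Cfsg.Agent.Lib.H23.apply_one_eq_charDegree _ χ.2]
        change ((d χ : ℕ) : ℂ) = 1
        rw [h]; simp
      apply Subtype.ext
      funext g
      rw [linear_eq_one (isCharacter_of_irr χ.2) h1 g]
      rfl
    · intro h
      rw [h]
      change charDegree (fun _ : A5 => (1 : ℂ)) = 1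
      exact Cfsg.Agent.Lib.H23.charDegree_eq_of_apply_one (by simp)
  have e1 : ∑ v ∈ ({1, 2, 3, 4, 6} : Finset ℕ), c v = c 1 + c 2 + c 3 + c 4 + c 6 := by
    simp [Finset.sum_insert]; ring
  have e2 : ∑ v ∈ ({1, 2, 3, 4, 6} : Finset ℕ), c v * v ^ 2 =
      c 1 + c 2 * 4 + c 3 * 9 + c 4 * 16 + c 6 * 36 := by
    simp [Finset.sum_insert]; ring
  rw [e1] at hcard
  rw [e2] at hsq
  omega


/-! ### Groups of order 60 -/

universe u

/-- every group of order less than 60 is solvable (after helper1's `S3378`) -/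
theorem solvable_of_card_lt_60' : ∀ (n : ℕ) (K : Type u) [Group K] [Finite K], Nat.card K = n →
    n < 60 → Group.IsSolvable K := by
  intro n
  induction n using Nat.strong_induction_on with
  | _ n ih =>
    intro K _ _ hn hlt
    by_cases hs : IsSimpleGroup K
    · by_cases hc : IsCyclic K
      · obtain ⟨g, hg⟩ := hc.exists_generator
        apply Group.isSolvable_of_comm
        intro a b
        obtain ⟨i, rfl⟩ := Subgroup.mem_zpowers_iff.mp (hg a)
        obtain ⟨j, rfl⟩ := Subgroup.mem_zpowers_iff.mp (hg b)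
        rw [← zpow_add, ← zpow_add, add_comm]
      · exfalso
        have := Cfsg.Agent.S0493.result hc (by omega)
        omega
    · by_cases hsub : Subsingleton K
      · apply Group.isSolvable_of_comm
        intro a b
        rw [Subsingleton.elim a 1, Subsingleton.elim b 1]
      · rw [not_subsingleton_iff_nontrivial] at hsub
        have hex : ∃ N : Subgroup K, N.Normal ∧ N ≠ ⊥ ∧ N ≠ ⊤ := by
          by_contra hcon
          push Not at hcon
          apply hs
          exact { toNontrivial := hsub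
                  eq_bot_or_eq_top_of_normal := fun N hN => by
                    by_cases h : N = ⊥
                    · exact Or.inl h
                    · exact Or.inr (hcon N hN h) }
        obtain ⟨N, hNn, hNb, hNt⟩ := hex
        have hmul := Subgroup.card_eq_card_quotient_mul_card_subgroup N
        have h1 : 1 < Nat.card N := (Subgroup.one_lt_card_iff_ne_bot N).mpr hNb
        have h2 : Nat.card N < Nat.card K :=
          lt_of_le_of_ne (Subgroup.card_le_card_group N)
            (fun h => hNt (Subgroup.eq_top_of_card_eq N h))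
        have hq0 : 0 < Nat.card (K ⧸ N) := Nat.card_pos
        have h3 : Nat.card (K ⧸ N) < Nat.card K := by nlinarith
        have hsN : Group.IsSolvable N := ih _ (hn ▸ h2) N rfl (by omega)
        have hsQ : Group.IsSolvable (K ⧸ N) := ih _ (hn ▸ h3) (K ⧸ N) rfl (by omega)
        exact Group.isSolvable_of_ker_le_range N.subtype (QuotientGroup.mk' N) (by simp)

/-- a non-solvable group of order 60 is simple -/
theorem simple_of_card_60' (K : Type u) [Group K] [Finite K] (hK : Nat.card K = 60)
    (hns : ¬ Group.IsSolvable K) : IsSimpleGroup K := by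
  have hnt : Nontrivial K := by
    rw [← Finite.one_lt_card_iff_nontrivial, hK]; norm_num
  refine { toNontrivial := hnt, eq_bot_or_eq_top_of_normal := fun N hN => ?_ }
  by_contra hcon
  push Not at hcon
  obtain ⟨hNb, hNt⟩ := hcon
  apply hns
  have hmul := Subgroup.card_eq_card_quotient_mul_card_subgroup N
  have h1 : 1 < Nat.card N := (Subgroup.one_lt_card_iff_ne_bot N).mpr hNb
  have h2 : Nat.card N < Nat.card K :=
    lt_of_le_of_ne (Subgroup.card_le_card_group N) (fun h => hNt (Subgroup.eq_top_of_card_eq N h))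
  have hq0 : 0 < Nat.card (K ⧸ N) := Nat.card_pos
  have h3 : Nat.card (K ⧸ N) < Nat.card K := by nlinarith
  have hsN : Group.IsSolvable N := solvable_of_card_lt_60' _ N rfl (by omega)
  have hsQ : Group.IsSolvable (K ⧸ N) := solvable_of_card_lt_60' _ (K ⧸ N) rfl (by omega)
  exact Group.isSolvable_of_ker_le_range N.subtype (QuotientGroup.mk' N) (by simp)

instance : Fact (Nat.Prime 5) := ⟨by norm_num⟩

theorem factorization_60_5 : (60 : ℕ).factorization 5 = 1 := by
  have : (60 : ℕ) = 5 ^ 1 * 12 := by norm_num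
  rw [this, Nat.factorization_mul (by norm_num) (by norm_num), Nat.factorization_pow]
  simp [Nat.Prime.factorization_self (show Nat.Prime 5 by norm_num),
    Nat.factorization_eq_zero_of_not_dvd (show ¬ 5 ∣ 12 by norm_num)]

/-- a solvable group of order 60 has a unique Sylow `5`-subgroup -/
theorem card_sylow_five_of_solvable {G : Type u} [Group G] [Finite G] (hcard : Nat.card G = 60)
    [Group.IsSolvable G] : Nat.card (Sylow 5 G) = 1 := by
  obtain ⟨H, hH⟩ := Cfsg.Agent.Lib.H1.hall_exists (G := G) (m := 15) (n := 4)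
    (by rw [hcard]) (by norm_num)
  -- the Sylow 5-subgroup of `H` is normal in `H`
  obtain ⟨Q⟩ : Nonempty (Sylow 5 H) := inferInstance
  have hfacH : (15 : ℕ).factorization 5 = 1 := by
    have : (15 : ℕ) = 5 ^ 1 * 3 := by norm_num
    rw [this, Nat.factorization_mul (by norm_num) (by norm_num), Nat.factorization_pow]
    simp [Nat.Prime.factorization_self (show Nat.Prime 5 by norm_num),
      Nat.factorization_eq_zero_of_not_dvd (show ¬ 5 ∣ 3 by norm_num)]
  have hQ : Nat.card Q = 5 := by
    rw [Sylow.card_eq_multiplicity, hH, hfacH]; norm_num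
  have hQidx : (Q : Subgroup H).index = 3 := by
    have := (Q : Subgroup H).card_mul_index
    rw [hQ, hH] at this
    omega
  have hnH : Nat.card (Sylow 5 H) = 1 := by
    have h1 := card_sylow_modEq_one 5 H
    have h2 := Sylow.card_dvd_index Q
    rw [hQidx] at h2
    have h3 : Nat.card (Sylow 5 H) ≤ 3 := Nat.le_of_dvd (by norm_num) h2
    have h4 : 0 < Nat.card (Sylow 5 H) := Nat.card_pos
    unfold Nat.ModEq at h1
    interval_cases h : Nat.card (Sylow 5 H) <;> simp_all
  have hsub : Subsingleton (Sylow 5 H) := (Nat.card_eq_one_iff_unique.mp hnH).1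
  have hQn : (Q : Subgroup H).Normal := Sylow.normal_of_subsingleton Q
  -- transport to `G`
  have hP' : Nat.card ((Q : Subgroup H).map H.subtype) = 5 ^ (Nat.card G).factorization 5 := by
    rw [Subgroup.card_map_of_injective H.subtype_injective, hQ, hcard, factorization_60_5]
    norm_num
  let P : Sylow 5 G := Sylow.ofCard _ hP'
  have hHN : H ≤ Subgroup.normalizer ((P : Subgroup G) : Set G) := by
    intro h hh
    rw [Subgroup.mem_normalizer_iff]
    intro x
    rw [Sylow.coe_ofCard]
    constructor
    · rintro ⟨y, hy, rfl⟩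
      exact ⟨⟨h, hh⟩ * y * ⟨h, hh⟩⁻¹, hQn.conj_mem y hy ⟨h, hh⟩, by simp⟩
    · rintro ⟨y, hy, hyx⟩
      refine ⟨(⟨h, hh⟩ : H)⁻¹ * y * (⟨h, hh⟩ : H)⁻¹⁻¹, hQn.conj_mem y hy (⟨h, hh⟩ : H)⁻¹, ?_⟩
      have e : (H.subtype y : G) = h * x * h⁻¹ := hyx
      simp only [map_mul, map_inv, inv_inv, Subgroup.subtype_apply] at e ⊢
      rw [e]
      group
  have hidxH : H.index = 4 := by
    have := H.card_mul_index
    rw [hH, hcard] at this
    omega
  have h1 := card_sylow_modEq_one 5 G
  have h2 : Nat.card (Sylow 5 G) ∣ 4 := by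
    rw [Sylow.card_eq_index_normalizer P, ← hidxH]
    exact Subgroup.index_dvd_of_le hHN
  have h3 : Nat.card (Sylow 5 G) ≤ 4 := Nat.le_of_dvd (by norm_num) h2
  have h4 : 0 < Nat.card (Sylow 5 G) := Nat.card_pos
  unfold Nat.ModEq at h1
  interval_cases h : Nat.card (Sylow 5 G) <;> simp_all

/-- Itô: with a normal Sylow `5`-subgroup no degree is divisible by `5` -/
theorem not_five_dvd_of_normal_sylow {G : Type u} [Group G] [Finite G] (hcard : Nat.card G = 60)
    (P : Sylow 5 G) [hn : (P : Subgroup G).Normal] (χ : IrrCharacter G) :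
    ¬ 5 ∣ charDegree (χ : G → ℂ) := by
  classical
  have : Fintype G := Fintype.ofFinite G
  have hP : Nat.card P = 5 := by
    rw [Sylow.card_eq_multiplicity, hcard, factorization_60_5]; norm_num
  have hcyc : IsCyclic (P : Subgroup G) := isCyclic_of_prime_card hP
  have hcomm : ∀ a ∈ (P : Subgroup G), ∀ b ∈ (P : Subgroup G), a * b = b * a := by
    intro a ha b hb
    have := (IsCyclic.commGroup (α := (P : Subgroup G))).mul_comm ⟨a, ha⟩ ⟨b, hb⟩
    exact congrArg Subtype.val this
  obtain ⟨d, hd1, hd2⟩ := Cfsg.Agent.Lib.H23.ito_char (P : Subgroup G) hcomm χ.2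
  have hidx : (P : Subgroup G).index = 12 := by
    have := (P : Subgroup G).card_mul_index
    rw [hP, hcard] at this
    omega
  rw [Cfsg.Agent.Lib.H23.charDegree_eq_of_apply_one hd1]
  rw [hidx] at hd2
  intro h5
  have : 5 ∣ 12 := h5.trans hd2
  omega

/-- a group of order 60 with an irreducible character of degree divisible by `5` is `A₅` -/
theorem iso_A5_of_five_dvd {G : Type u} [Group G] [Finite G] (hcard : Nat.card G = 60)
    (χ : IrrCharacter G) (h5 : 5 ∣ charDegree (χ : G → ℂ)) :
    Nonempty (G ≃* alternatingGroup (Fin 5)) := by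
  by_cases hs : Group.IsSolvable G
  · exfalso
    have h1 := card_sylow_five_of_solvable hcard
    have hsub : Subsingleton (Sylow 5 G) := (Nat.card_eq_one_iff_unique.mp h1).1
    obtain ⟨P⟩ : Nonempty (Sylow 5 G) := inferInstance
    have hn : (P : Subgroup G).Normal := Sylow.normal_of_subsingleton P
    exact not_five_dvd_of_normal_sylow hcard P χ h5
  · have := simple_of_card_60' G hcard hs
    exact Cfsg.Agent.Lib.H2.simple60_iso_A5 hcard

end Cfsg.Agent.Lib.H2.Deg60
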