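import Mathlib
import Cfsg.Prelude.Def_Blocks
import Cfsg.Prelude.Def_Transfer
import Cfsg.Agent.Lib.H23.PPart
import Cfsg.Agent.Lib.H23.PPart2

/-!
# S1951 piece COUNT (helper2): the number of `p`-singular elements

`P` an elementary abelian Sylow `p`-subgroup of the finite group `G`, `P ≠ 1`, all non-identity elements of `P`
conjugate in `G`, and `C_G(x)` with a normal `p`-complement for `x ∈ P` of order `p`.  Then
`#{g : p ∣ orderOf g} * |P| = |G|`.

Proof: fix `a ∈ P`, `a ≠ 1`, `C = C_G(a) = N ⋊ Q`; `|Q| = |P|` (as `P ≤ C`) and `N` is the set of `p`-regular elements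
of `C`.  The map `C`-torsor style `(g, c) ↦ (h_g c, c⁻¹ v_g c)` is a bijection
`{p-singular} × C ≃ G × N` where `g = h_g (a v_g) h_g⁻¹` is a chosen presentation (uniqueness of `p`-parts).
-/

set_option autoImplicit false

namespace Cfsg.Agent.Lib.H2.AE

open Cfsg Cfsg.Agent.Lib.H23

/-- In a finite group `C = N ⋊ Q`, `Q` a Sylow `p`-subgroup: `N` is the set of `p`-regular elements. -/
theorem mem_iff_not_dvd_orderOf_of_isComplement' {C : Type*} [Group C] [Finite C] {p : ℕ}
    [Fact p.Prime] (Q : Sylow p C) (N : Subgroup C) [N.Normal]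
    (hNQ : N.IsComplement' (Q : Subgroup C)) (v : C) : v ∈ N ↔ ¬ p ∣ orderOf v := by
  have hp := (Fact.out : p.Prime)
  have hcard : Nat.card N * Nat.card (Q : Subgroup C) = Nat.card C := hNQ.card_mul_card
  obtain ⟨e, he⟩ : ∃ e, e = (Nat.card C).factorization p := ⟨_, rfl⟩
  have hQ : Nat.card (Q : Subgroup C) = p ^ e := he ▸ Q.card_eq_multiplicity
  have hC0 : Nat.card C ≠ 0 := Nat.card_pos.ne'
  constructor
  · intro hv hpv
    have h1 : orderOf v ∣ Nat.card N := by
      have := orderOf_dvd_natCard (⟨v, hv⟩ : N)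
      rwa [Subgroup.orderOf_mk] at this
    have h2 : p ∣ Nat.card N := dvd_trans hpv h1
    have h3 : p ^ (e + 1) ∣ Nat.card C := by
      rw [← hcard, hQ, pow_succ, mul_comm (Nat.card N)]
      exact Nat.mul_dvd_mul (dvd_refl _) h2
    rw [he] at h3
    exact Nat.pow_succ_factorization_not_dvd hC0 hp h3
  · intro hpv
    have hidx : N.index = p ^ e := by rw [hNQ.symm.index_eq_card, hQ]
    have h1 : orderOf (QuotientGroup.mk' N v) ∣ orderOf v := orderOf_map_dvd (QuotientGroup.mk' N) v
    have h2 : orderOf (QuotientGroup.mk' N v) ∣ p ^ e := by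
      have := orderOf_dvd_natCard (QuotientGroup.mk' N v)
      rwa [← Subgroup.index_eq_card, hidx] at this
    have hcop : Nat.Coprime (orderOf v) (p ^ e) :=
      Nat.Coprime.pow_right _ ((Nat.Prime.coprime_iff_not_dvd hp).2 hpv).symm
    have h3 : orderOf (QuotientGroup.mk' N v) = 1 := Nat.eq_one_of_dvd_coprimes hcop h1 h2
    rw [orderOf_eq_one_iff] at h3
    exact (QuotientGroup.eq_one_iff v).1 h3

/-- COUNT core: the number of `p`-singular elements times `|P|` is `|G|`. -/
theorem card_pSingular_mul_card {G : Type*} [Group G] [Finite G] {p : ℕ} [Fact p.Prime]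
    (P : Sylow p G) (hP1 : (P : Subgroup G) ≠ ⊥)
    (hPe : Cfsg.IsElementaryAbelian p (P : Subgroup G))
    (hconj : ∀ x ∈ (P : Subgroup G), ∀ y ∈ (P : Subgroup G), x ≠ 1 → y ≠ 1 →
      ∃ g : G, g * x * g⁻¹ = y)
    (hb : ∀ x ∈ (P : Subgroup G), orderOf x = p →
      Cfsg.HasNormalPComplement p ↥(Subgroup.centralizer ({x} : Set G))) :
    Nat.card {g : G // p ∣ orderOf g} * Nat.card (P : Subgroup G) = Nat.card G := by
  classical
  have hp := (Fact.out : p.Prime)
  obtain ⟨a, haP, ha1⟩ : ∃ a ∈ (P : Subgroup G), a ≠ 1 := by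
    by_contra hcon
    push Not at hcon
    exact hP1 ((Subgroup.eq_bot_iff_forall _).2 hcon)
  have hao : orderOf a = p := orderOf_eq_prime (hPe.2 a haP) ha1
  obtain ⟨Q, N, hNn, hNQ⟩ := hb a haP hao
  have := hNn
  obtain ⟨C, hC⟩ : ∃ C : Subgroup G, C = Subgroup.centralizer ({a} : Set G) := ⟨_, rfl⟩
  -- `P ≤ C`
  have hPC : (P : Subgroup G) ≤ Subgroup.centralizer ({a} : Set G) := by
    intro x hx
    rw [Subgroup.mem_centralizer_singleton_iff]
    have := hPe.1.is_comm.comm ⟨x, hx⟩ ⟨a, haP⟩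
    exact congrArg Subtype.val this
  -- `|Q| = |P|`
  have hQP : Nat.card (Q : Subgroup ↥(Subgroup.centralizer ({a} : Set G))) =
      Nat.card (P : Subgroup G) := by
    rw [Q.card_eq_multiplicity, P.card_eq_multiplicity]
    congr 1
    have h1 : Nat.card (P : Subgroup G) ∣ Nat.card ↥(Subgroup.centralizer ({a} : Set G)) :=
      Subgroup.card_dvd_of_le hPC
    have h2 : Nat.card ↥(Subgroup.centralizer ({a} : Set G)) ∣ Nat.card G :=
      Subgroup.card_subgroup_dvd_card _
    have hC0 : Nat.card ↥(Subgroup.centralizer ({a} : Set G)) ≠ 0 := Nat.card_pos.ne'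
    have hG0 : Nat.card G ≠ 0 := Nat.card_pos.ne'
    apply le_antisymm
    · exact (Nat.factorization_le_iff_dvd hC0 hG0).2 h2 p
    · rw [P.card_eq_multiplicity] at h1
      exact (hp.pow_dvd_iff_le_factorization hC0).1 h1
  have hcardC : Nat.card N * Nat.card (P : Subgroup G) =
      Nat.card ↥(Subgroup.centralizer ({a} : Set G)) := by
    rw [← hQP]; exact hNQ.card_mul_card
  have hNreg : ∀ v : ↥(Subgroup.centralizer ({a} : Set G)), v ∈ N ↔ ¬ p ∣ orderOf v :=
    fun v => mem_iff_not_dvd_orderOf_of_isComplement' Q N hNQ v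
  -- every element of order a power of `p`, non-trivial, is conjugate to `a`
  have hconjA : ∀ u : G, (∃ k : ℕ, orderOf u = p ^ k) → u ≠ 1 → ∃ h : G, u = h * a * h⁻¹ := by
    intro u ⟨k, hk⟩ hu1
    have hpg : IsPGroup p (Subgroup.zpowers u) := by
      rw [IsPGroup.iff_card]
      exact ⟨k, by rw [Nat.card_zpowers, hk]⟩
    obtain ⟨P', hP'⟩ := hpg.exists_le_sylow
    obtain ⟨g, hg⟩ := MulAction.exists_smul_eq G P' P
    have hu' : g * u * g⁻¹ ∈ (P : Subgroup G) := by
      rw [← hg, Sylow.coe_subgroup_smul, Subgroup.mem_pointwise_smul_iff_inv_smul_mem]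
      rw [MulAut.smul_def, MulAut.conj_inv_apply]
      have : u ∈ (P' : Subgroup G) := hP' (Subgroup.mem_zpowers u)
      convert this using 1
      group
    have hu'1 : g * u * g⁻¹ ≠ 1 := by
      intro h
      apply hu1
      have : u = g⁻¹ * (g * u * g⁻¹) * g := by group
      rw [this, h]; group
    obtain ⟨g', hg'⟩ := hconj _ hu' a haP hu'1 ha1
    refine ⟨(g' * g)⁻¹, ?_⟩
    rw [← hg']
    group
  -- the `p`-singular elements
  -- a chosen presentation of each `p`-singular element
  have hpres : ∀ g : {g : G // p ∣ orderOf g}, ∃ hv : G × N,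
      (g : G) = hv.1 * (a * ((hv.2 : ↥(Subgroup.centralizer ({a} : Set G))) : G)) * hv.1⁻¹ := by
    rintro ⟨g, hg⟩
    obtain ⟨u, y, huy, hcomm, hupow, hy⟩ := exists_isPPart hp g (isOfFinOrder_of_finite g)
    have hu1 : u ≠ 1 := by
      rintro rfl
      rw [one_mul] at huy
      rw [huy] at hy
      exact hy hg
    obtain ⟨h, hh⟩ := hconjA u hupow hu1
    -- `v = h⁻¹ y h`
    have hvC : h⁻¹ * y * h ∈ Subgroup.centralizer ({a} : Set G) := by
      rw [Subgroup.mem_centralizer_singleton_iff]
      have h1 : u * y = y * u := hcomm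
      rw [hh] at h1
      have h2 : a = h⁻¹ * (h * a * h⁻¹) * h := by group
      calc h⁻¹ * y * h * a = h⁻¹ * (y * (h * a * h⁻¹)) * h := by group
        _ = h⁻¹ * ((h * a * h⁻¹) * y) * h := by rw [h1]
        _ = a * (h⁻¹ * y * h) := by group
    have hvord : ¬ p ∣ orderOf (⟨h⁻¹ * y * h, hvC⟩ : ↥(Subgroup.centralizer ({a} : Set G))) := by
      rw [Subgroup.orderOf_mk]
      have : orderOf (h⁻¹ * y * h) = orderOf y := by
        have := (MulAut.conj h⁻¹).orderOf_eq y
        rwa [MulAut.conj_apply, inv_inv] at this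
      rwa [this]
    refine ⟨(h, ⟨⟨h⁻¹ * y * h, hvC⟩, (hNreg _).2 hvord⟩), ?_⟩
    show g = h * (a * (h⁻¹ * y * h)) * h⁻¹
    rw [← huy, hh]
    group
  choose pres hpresEq using hpres
  -- facts on a presentation: the element is `p`-singular with `p`-part `h a h⁻¹`
  have hppart : ∀ (h : G) (v : N), IsPPart p (h * (a * ((v : ↥(Subgroup.centralizer ({a} : Set G))) : G)) * h⁻¹)
      (h * a * h⁻¹) := by
    intro h v
    have hv1 : ¬ p ∣ orderOf ((v : ↥(Subgroup.centralizer ({a} : Set G))) : G) := by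
      rw [Subgroup.orderOf_coe]
      exact (hNreg (v : ↥(Subgroup.centralizer ({a} : Set G)))).1 v.2
    have hcomm : Commute a ((v : ↥(Subgroup.centralizer ({a} : Set G))) : G) := by
      have := Subgroup.mem_centralizer_singleton_iff.1
        (v : ↥(Subgroup.centralizer ({a} : Set G))).2
      exact this.symm
    have h0 : IsPPart p (a * ((v : ↥(Subgroup.centralizer ({a} : Set G))) : G)) a :=
      isPPart_mul hcomm ⟨1, by rw [hao, pow_one]⟩ hv1
    exact IsPPart.conj h0 h
  have hsing : ∀ (h : G) (v : N),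
      p ∣ orderOf (h * (a * ((v : ↥(Subgroup.centralizer ({a} : Set G))) : G)) * h⁻¹) := by
    intro h v
    obtain ⟨y, hy1, hy2, _, hy4⟩ := hppart h v
    rw [← hy1]
    have hcop : Nat.Coprime (orderOf (h * a * h⁻¹)) (orderOf y) := by
      have : orderOf (h * a * h⁻¹) = p := by
        have := (MulAut.conj h).orderOf_eq a
        rw [MulAut.conj_apply] at this
        rw [this, hao]
      rw [this]
      exact (Nat.Prime.coprime_iff_not_dvd hp).2 hy4
    rw [hy2.orderOf_mul_eq_mul_orderOf_of_coprime hcop]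
    have : orderOf (h * a * h⁻¹) = p := by
      have := (MulAut.conj h).orderOf_eq a
      rw [MulAut.conj_apply] at this
      rw [this, hao]
    rw [this]
    exact dvd_mul_right _ _
  -- the bijection `S × C → G × N`
  let Φ : {g : G // p ∣ orderOf g} × ↥(Subgroup.centralizer ({a} : Set G)) → G × N :=
    fun gc => ((pres gc.1).1 * (gc.2 : G),
      ⟨gc.2⁻¹ * ((pres gc.1).2 : ↥(Subgroup.centralizer ({a} : Set G))) * gc.2, by
        have := hNn.conj_mem _ (pres gc.1).2.2 gc.2⁻¹
        rwa [inv_inv] at this⟩)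
  have hΦval : ∀ gc, (Φ gc).1 * (a * (((Φ gc).2 : ↥(Subgroup.centralizer ({a} : Set G))) : G)) *
      (Φ gc).1⁻¹ = (gc.1 : G) := by
    rintro ⟨g, c⟩
    have hc : (c : G) * a = a * (c : G) := Subgroup.mem_centralizer_singleton_iff.1 c.2
    show (pres g).1 * (c : G) * (a * ((c : G)⁻¹ * (((pres g).2 : ↥(Subgroup.centralizer ({a} : Set G))) : G) * (c : G))) *
      ((pres g).1 * (c : G))⁻¹ = (g : G)
    rw [hpresEq g]
    have h2 : (c : G) * a * (c : G)⁻¹ = a := by rw [hc]; group
    calc (pres g).1 * (c : G) * (a * ((c : G)⁻¹ * (((pres g).2 : ↥(Subgroup.centralizer ({a} : Set G))) : G) * (c : G))) *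
        ((pres g).1 * (c : G))⁻¹
        = (pres g).1 * (((c : G) * a * (c : G)⁻¹) * (((pres g).2 : ↥(Subgroup.centralizer ({a} : Set G))) : G)) *
          (pres g).1⁻¹ := by group
      _ = _ := by rw [h2]
  have hΦbij : Function.Bijective Φ := by
    constructor
    · rintro ⟨g, c⟩ ⟨g', c'⟩ heq
      have hg : g = g' := by
        apply Subtype.ext
        rw [← hΦval (g, c), ← hΦval (g', c'), heq]
      subst hg
      have h1 : (pres g).1 * (c : G) = (pres g).1 * (c' : G) := congrArg Prod.fst heq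
      have h2 : (c : G) = (c' : G) := mul_left_cancel h1
      rw [Subtype.ext h2]
    · rintro ⟨h, v⟩
      have hS := hsing h v
      set g : {g : G // p ∣ orderOf g} :=
        ⟨h * (a * ((v : ↥(Subgroup.centralizer ({a} : Set G))) : G)) * h⁻¹, hS⟩ with hg
      have e1 : (g : G) = (pres g).1 * (a * (((pres g).2 : ↥(Subgroup.centralizer ({a} : Set G))) : G)) *
          (pres g).1⁻¹ := hpresEq g
      have pp1 := hppart h v
      have pp2 := hppart (pres g).1 (pres g).2
      rw [← e1] at pp2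
      have hu : h * a * h⁻¹ = (pres g).1 * a * (pres g).1⁻¹ := IsPPart.unique hp pp1 pp2
      -- `c = (pres g).1⁻¹ * h ∈ C`
      have hcC : (pres g).1⁻¹ * h ∈ Subgroup.centralizer ({a} : Set G) := by
        rw [Subgroup.mem_centralizer_singleton_iff]
        calc (pres g).1⁻¹ * h * a = (pres g).1⁻¹ * (h * a * h⁻¹) * h := by group
          _ = (pres g).1⁻¹ * ((pres g).1 * a * (pres g).1⁻¹) * h := by rw [hu]
          _ = a * ((pres g).1⁻¹ * h) := by group
      refine ⟨(g, ⟨(pres g).1⁻¹ * h, hcC⟩), ?_⟩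
      have hfst : (pres g).1 * ((pres g).1⁻¹ * h) = h := by group
      have hv : ((pres g).1⁻¹ * h)⁻¹ * (((pres g).2 : ↥(Subgroup.centralizer ({a} : Set G))) : G) *
          ((pres g).1⁻¹ * h) = ((v : ↥(Subgroup.centralizer ({a} : Set G))) : G) := by
        -- from `e1` and `hu`
        have e2 : h * (a * ((v : ↥(Subgroup.centralizer ({a} : Set G))) : G)) * h⁻¹ =
            (pres g).1 * (a * (((pres g).2 : ↥(Subgroup.centralizer ({a} : Set G))) : G)) *
              (pres g).1⁻¹ := e1
        have e3 : h * a * h⁻¹ * (h * ((v : ↥(Subgroup.centralizer ({a} : Set G))) : G) * h⁻¹) =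
            (pres g).1 * a * (pres g).1⁻¹ *
              ((pres g).1 * (((pres g).2 : ↥(Subgroup.centralizer ({a} : Set G))) : G) * (pres g).1⁻¹) := by
          have l1 : h * a * h⁻¹ * (h * ((v : ↥(Subgroup.centralizer ({a} : Set G))) : G) * h⁻¹) =
              h * (a * ((v : ↥(Subgroup.centralizer ({a} : Set G))) : G)) * h⁻¹ := by group
          have l2 : (pres g).1 * a * (pres g).1⁻¹ *
              ((pres g).1 * (((pres g).2 : ↥(Subgroup.centralizer ({a} : Set G))) : G) * (pres g).1⁻¹) =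
              (pres g).1 * (a * (((pres g).2 : ↥(Subgroup.centralizer ({a} : Set G))) : G)) *
                (pres g).1⁻¹ := by group
          rw [l1, l2, e2]
        rw [hu] at e3
        have e4 := mul_left_cancel e3
        calc ((pres g).1⁻¹ * h)⁻¹ * (((pres g).2 : ↥(Subgroup.centralizer ({a} : Set G))) : G) *
            ((pres g).1⁻¹ * h)
            = h⁻¹ * ((pres g).1 * (((pres g).2 : ↥(Subgroup.centralizer ({a} : Set G))) : G) *
              (pres g).1⁻¹) * h := by group
          _ = h⁻¹ * (h * ((v : ↥(Subgroup.centralizer ({a} : Set G))) : G) * h⁻¹) * h := by rw [e4]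
          _ = _ := by group
      apply Prod.ext
      · exact hfst
      · apply Subtype.ext
        apply Subtype.ext
        exact hv
  have hcount := Nat.card_eq_of_bijective Φ hΦbij
  rw [Nat.card_prod, Nat.card_prod] at hcount
  -- `|S| * |C| = |G| * |N|`, `|N| * |P| = |C|`
  have hN0 : 0 < Nat.card N := Nat.card_pos
  have : Nat.card {g : G // p ∣ orderOf g} * Nat.card (P : Subgroup G) * Nat.card N =
      Nat.card G * Nat.card N := by
    rw [← hcount, ← hcardC]; ring
  exact Nat.eq_of_mul_eq_mul_right hN0 this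

end Cfsg.Agent.Lib.H2.AE
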