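import Mathlib

set_option autoImplicit false

namespace Cfsg.Agent.Lib.H2.SzAut

/-- the number of ring automorphisms of a finite field of order `p ^ n` is `n` -/
theorem card_ringAut {F : Type*} [Field F] [Fintype F] {p n : ℕ} [Fact p.Prime]
    (hF : Fintype.card F = p ^ n) : Nat.card (F ≃+* F) = n := by
  have hp : Nat.Prime p := Fact.out
  have hchar : CharP F p := by
    obtain ⟨q, hq⟩ := CharP.exists F
    have hqp : Fact q.Prime := ⟨CharP.char_is_prime F q⟩
    obtain ⟨k, hk⟩ := FiniteField.card F q
    have : q = p := by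
      have h1 : q ∣ p ^ n := by
        rw [← hF, hk.2]
        exact dvd_pow_self q (PNat.ne_zero k)
      exact (Nat.prime_dvd_prime_iff_eq hqp.out hp).1 (hqp.out.dvd_of_dvd_pow h1)
    rw [← this]
    exact hq
  let _ : Algebra (ZMod p) F := ZMod.algebra F p
  have hfr : Module.finrank (ZMod p) F = n := by
    have h1 : Nat.card F = p ^ Module.finrank (ZMod p) F := by
      rw [Module.natCard_eq_pow_finrank (K := ZMod p), Nat.card_zmod]
    rw [Nat.card_eq_fintype_card, hF] at h1
    exact (Nat.pow_right_injective hp.two_le h1).symm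
  have hgal : IsGalois (ZMod p) F := inferInstance
  rw [← hfr, ← IsGalois.card_aut_eq_finrank (ZMod p) F]
  refine Nat.card_congr ⟨fun e => AlgEquiv.ofRingEquiv (f := e) (fun x => ?_),
    fun e => e.toRingEquiv, fun e => ?_, fun e => ?_⟩
  · exact RingHom.congr_fun (Subsingleton.elim ((e : F →+* F).comp (algebraMap (ZMod p) F))
      (algebraMap (ZMod p) F)) x
  · rfl
  · rfl

end Cfsg.Agent.Lib.H2.SzAut
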