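import Mathlib
import Cfsg.Prelude.Def_Blocks
import Cfsg.Prelude.Def_Transfer
import Cfsg.Agent.Lib.H23.PPart

/-!
# S1951 glue (helper2): the class of elements of order `p`

`P` an elementary abelian Sylow `p`-subgroup of the finite group `G`, all non-identity elements of `P` conjugate in `G`,
`a ∈ P`, `a ≠ 1`.  Then the elements of order `p` are exactly the conjugates of `a`, and every non-identity
`p`-element has order `p`.
-/

set_option autoImplicit false

namespace Cfsg.Agent.Lib.H2.AE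

open Cfsg

variable {G : Type*} [Group G] [Finite G] {p : ℕ} [Fact p.Prime]

/-- Every non-identity `p`-element is conjugate to `a`. -/
theorem exists_conj_eq_of_pElement (P : Sylow p G)
    (hconj : ∀ x ∈ (P : Subgroup G), ∀ y ∈ (P : Subgroup G), x ≠ 1 → y ≠ 1 →
      ∃ g : G, g * x * g⁻¹ = y)
    {a : G} (haP : a ∈ (P : Subgroup G)) (ha1 : a ≠ 1)
    (u : G) (hu : ∃ k : ℕ, orderOf u = p ^ k) (hu1 : u ≠ 1) : ∃ h : G, u = h * a * h⁻¹ := by
  obtain ⟨k, hk⟩ := hu
  have hpg : IsPGroup p (Subgroup.zpowers u) := by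
    rw [IsPGroup.iff_card]
    exact ⟨k, by rw [Nat.card_zpowers, hk]⟩
  obtain ⟨P', hP'⟩ := hpg.exists_le_sylow
  obtain ⟨g, hg⟩ := MulAction.exists_smul_eq G P' P
  have hu' : g * u * g⁻¹ ∈ (P : Subgroup G) := by
    rw [← hg, Sylow.coe_subgroup_smul, Subgroup.mem_pointwise_smul_iff_inv_smul_mem]
    rw [MulAut.smul_def, MulAut.conj_inv_apply]
    have : u ∈ (P' : Subgroup G) := hP' (Subgroup.mem_zpowers u)
    convert this using 1
    group
  have hu'1 : g * u * g⁻¹ ≠ 1 := by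
    intro h
    apply hu1
    have : u = g⁻¹ * (g * u * g⁻¹) * g := by group
    rw [this, h]; group
  obtain ⟨g', hg'⟩ := hconj _ hu' a haP hu'1 ha1
  refine ⟨(g' * g)⁻¹, ?_⟩
  rw [← hg']
  group

omit [Finite G] in
/-- `a` has order `p`. -/
theorem orderOf_eq_of_mem (P : Sylow p G) (hPe : Cfsg.IsElementaryAbelian p (P : Subgroup G))
    {a : G} (haP : a ∈ (P : Subgroup G)) (ha1 : a ≠ 1) : orderOf a = p :=
  orderOf_eq_prime (hPe.2 a haP) ha1

/-- The elements of order `p` are exactly the conjugates of `a`. -/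
theorem orderOf_eq_iff_isConj (P : Sylow p G) (hPe : Cfsg.IsElementaryAbelian p (P : Subgroup G))
    (hconj : ∀ x ∈ (P : Subgroup G), ∀ y ∈ (P : Subgroup G), x ≠ 1 → y ≠ 1 →
      ∃ g : G, g * x * g⁻¹ = y)
    {a : G} (haP : a ∈ (P : Subgroup G)) (ha1 : a ≠ 1) (u : G) :
    orderOf u = p ↔ IsConj a u := by
  have hp := (Fact.out : p.Prime)
  have hao : orderOf a = p := orderOf_eq_of_mem P hPe haP ha1
  constructor
  · intro hu
    have hu1 : u ≠ 1 := by
      rintro rfl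
      rw [orderOf_one] at hu
      exact hp.one_lt.ne hu
    obtain ⟨h, hh⟩ := exists_conj_eq_of_pElement P hconj haP ha1 u ⟨1, by rw [hu, pow_one]⟩ hu1
    exact isConj_iff.2 ⟨h, hh.symm⟩
  · intro hc
    obtain ⟨h, hh⟩ := isConj_iff.1 hc
    rw [← hh]
    have := (MulAut.conj h).orderOf_eq a
    rw [MulAut.conj_apply] at this
    rw [this, hao]

/-- Every non-identity `p`-element has order `p`. -/
theorem orderOf_eq_of_pElement (P : Sylow p G) (hPe : Cfsg.IsElementaryAbelian p (P : Subgroup G))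
    (hconj : ∀ x ∈ (P : Subgroup G), ∀ y ∈ (P : Subgroup G), x ≠ 1 → y ≠ 1 →
      ∃ g : G, g * x * g⁻¹ = y)
    {a : G} (haP : a ∈ (P : Subgroup G)) (ha1 : a ≠ 1)
    (u : G) (hu : ∃ k : ℕ, orderOf u = p ^ k) (hu1 : u ≠ 1) : orderOf u = p := by
  obtain ⟨h, hh⟩ := exists_conj_eq_of_pElement P hconj haP ha1 u hu hu1
  exact (orderOf_eq_iff_isConj P hPe hconj haP ha1 u).2 (isConj_iff.2 ⟨h, hh.symm⟩)

/-- The `p`-part of a `p`-singular element has order `p` and is conjugate to `a`. -/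
theorem exists_ppart_of_pSingular (P : Sylow p G)
    (hPe : Cfsg.IsElementaryAbelian p (P : Subgroup G))
    (hconj : ∀ x ∈ (P : Subgroup G), ∀ y ∈ (P : Subgroup G), x ≠ 1 → y ≠ 1 →
      ∃ g : G, g * x * g⁻¹ = y)
    {a : G} (haP : a ∈ (P : Subgroup G)) (ha1 : a ≠ 1) (g : G) (hg : p ∣ orderOf g) :
    ∃ u y : G, u * y = g ∧ Commute u y ∧ orderOf u = p ∧ IsConj a u ∧ ¬ p ∣ orderOf y := by
  have hp := (Fact.out : p.Prime)
  obtain ⟨u, y, huy, hcomm, hupow, hy⟩ :=
    Cfsg.Agent.Lib.H23.exists_isPPart hp g (isOfFinOrder_of_finite g)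
  have hu1 : u ≠ 1 := by
    rintro rfl
    rw [one_mul] at huy
    rw [huy] at hy
    exact hy hg
  have huo := orderOf_eq_of_pElement P hPe hconj haP ha1 u hupow hu1
  exact ⟨u, y, huy, hcomm, huo, (orderOf_eq_iff_isConj P hPe hconj haP ha1 u).1 huo, hy⟩

end Cfsg.Agent.Lib.H2.AE
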