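import Mathlib
import Cfsg.Prelude.Def_ChevStructure
import Cfsg.Agent.Lib.H6.InvTab
import Cfsg.Agent.Lib.H6.InvWord

/-!
# Chains of conjugations between products of commuting root elements with parameter one (characteristic two)

Generic over helper29's `Cert12` tower. A product `x_{r_1}(1) ⋯ x_{r_k}(1)` of pairwise commuting root elements is moved
by an element `n_w` of the monomial group (`Step.w`), and a fixed quadruple of roots `Q0` inside it is replaced by the
triple `Q0'` (`Step.drop`, conjugation by the fixed element `x_{g_1}(1) ⋯ x_{g_m}(1)`, the roots outside `Q0` commuting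
with the `x_{g_i}`). The Boolean function `runChain` follows a list of such steps; `conj_of_chain` is its soundness.
-/

set_option autoImplicit false
set_option linter.unusedSectionVars false
set_option linter.unusedSimpArgs false
set_option linter.unusedVariables false

namespace Cfsg.Agent.Lib.H2.E8I

open Cfsg Cfsg.Lie Matrix Cfsg.Agent.Lib.H29.Chev Cfsg.Agent.Lib.H12.F4V Cfsg.Agent.Lib.H12.InvCell
  Cfsg.Agent.Lib.H6.Inv

variable {D : ChevalleyDatum} {fd : FD} {fx : FX} {fc : FC} {fz : FZ} {F : Type*} [Field F]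

/-- conjugacy in the Chevalley group -/
def ConjG (D : ChevalleyDatum) {F : Type*} [Field F] (x y : GL D.Idx F) : Prop := ∃ h ∈ D.group F, h * x * h⁻¹ = y

theorem ConjG.refl (x : GL D.Idx F) : ConjG D x x := ⟨1, one_mem _, by simp⟩

theorem ConjG.trans {x y z : GL D.Idx F} (h1 : ConjG D x y) (h2 : ConjG D y z) : ConjG D x z := by
  obtain ⟨a, ha, rfl⟩ := h1
  obtain ⟨b, hb, rfl⟩ := h2
  exact ⟨b * a, mul_mem hb ha, by group⟩

theorem ConjG.of_eq {x y : GL D.Idx F} (h : x = y) : ConjG D x y := h ▸ ConjG.refl x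

/-- the product of the root elements `x_r(1)`, `r ∈ L` -/
noncomputable def lpr (C : Cert12 D fd fx fc fz) (F : Type*) [Field F] (L : List ℕ) : GL D.Idx F :=
  lp C (L.map fun r => (r, (1 : F)))

section Gen

variable (C : Cert12 D fd fx fc fz)

theorem lpr_nil : lpr C F [] = 1 := rfl

theorem lpr_cons (r : ℕ) (L : List ℕ) : lpr C F (r :: L) = C.c6.c2.xA r (1 : F) * lpr C F L := by
  unfold lpr
  rw [List.map_cons, lp_cons]

theorem lpr_append (L L' : List ℕ) : lpr C F (L ++ L') = lpr C F L * lpr C F L' := by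
  induction L with
  | nil => rw [List.nil_append, lpr_nil, one_mul]
  | cons r L ih => rw [List.cons_append, lpr_cons, lpr_cons, ih, mul_assoc]

theorem lpr_eq_prod (L : List ℕ) : lpr C F L = (L.map fun r => C.c6.c2.xA r (1 : F)).prod := by
  induction L with
  | nil => rfl
  | cons r L ih => rw [lpr_cons, List.map_cons, List.prod_cons, ih]

theorem lpr_eq_wordG (L : List ℕ) : lpr C F L = wordG C.c6.c2 F L := lpr_eq_prod C L

theorem lpr_mem (L : List ℕ) : lpr C F L ∈ D.group F := by
  rw [lpr_eq_wordG]
  exact wordG_mem C.c6.c2 L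

theorem yS_eq_lpr (Ws : List (List ℕ × ℕ)) : Cfsg.Agent.Lib.H6.Inv.yS C F Ws = lpr C F (Ws.map (wsRoot fd fx)) := by
  unfold Cfsg.Agent.Lib.H6.Inv.yS lpr
  rw [List.map_map]
  rfl

section Char2

variable [CharP F 2]

/-- permuting pairwise commuting roots -/
theorem lpr_perm (L L' : List ℕ) (hlt : ∀ r ∈ L, r < fd.n) (hc : pairwiseB (comm2 fd) L = true)
    (hp : L.Perm L') : lpr C F L = lpr C F L' := by
  rw [lpr_eq_prod, lpr_eq_prod]
  apply List.Perm.prod_eq' (hp.map _)
  rw [List.pairwise_map]
  refine List.Pairwise.imp_of_mem ?_ (pairwiseB_spec _ _ hc)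
  intro a b ha hb hab
  exact comm2_comm C a b (hlt a ha) (hlt b hb) hab 1 1

/-- conjugation by `n_w` -/
theorem wmove (w : List ℕ) (hw : IsWd fd.l w) (L : List ℕ) (hL : ∀ r ∈ L, r < fd.n) :
    C.wordN F w * lpr C F L * (C.wordN F w)⁻¹ = lpr C F (L.map (fd.wordP fx w)) := by
  induction L with
  | nil => rw [List.map_nil, lpr_nil, mul_one, mul_inv_cancel]
  | cons r L ih =>
    have hr : r < fd.n := hL r List.mem_cons_self
    have h : C.wordN F w * C.c6.c2.xA r (1 : F) * (C.wordN F w)⁻¹ = C.c6.c2.xA (fd.wordP fx w r) 1 :=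
      C.wordN_conj_char2 (F := F) w hw r hr 1
    rw [List.map_cons, lpr_cons, lpr_cons, ← ih (fun a ha => hL a (List.mem_cons_of_mem _ ha)), ← h]
    group

end Char2

end Gen

/-- a step of a chain -/
inductive Step where
  | w (u : List ℕ)
  | drop

/-- one step; `none` if a side condition fails -/
def Step.run (fd : FD) (fx : FX) (Q0 Q0' G0 : List ℕ) : Step → List ℕ → Option (List ℕ)
  | .w u, L => bif isWdB fd.l u then some (L.map (fd.wordP fx u)) else none
  | .drop, L =>
    bif pairwiseB (comm2 fd) L && L.isPerm (Q0 ++ L.filter fun r => !Q0.contains r) &&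
        (L.filter fun r => !Q0.contains r).all fun r => G0.all fun g => comm2 fd g r
    then some (Q0' ++ L.filter fun r => !Q0.contains r) else none

/-- a chain of steps -/
def runChain (fd : FD) (fx : FX) (Q0 Q0' G0 : List ℕ) : List Step → List ℕ → Option (List ℕ)
  | [], L => some L
  | s :: ch, L =>
    match s.run fd fx Q0 Q0' G0 L with
    | none => none
    | some L' => runChain fd fx Q0 Q0' G0 ch L'

section Sound

variable [CharP F 2] (C : Cert12 D fd fx fc fz) (Q0 Q0' G0 : List ℕ)

theorem step_sound (hG0 : ∀ g ∈ G0, g < fd.n) (hQ0' : ∀ r ∈ Q0', r < fd.n)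
    (hdrop : lpr C F G0 * lpr C F Q0 * (lpr C F G0)⁻¹ = lpr C F Q0')
    (s : Step) (L L' : List ℕ) (hL : ∀ r ∈ L, r < fd.n) (h : s.run fd fx Q0 Q0' G0 L = some L') :
    (∀ r ∈ L', r < fd.n) ∧ ConjG D (lpr C F L) (lpr C F L') := by
  cases s with
  | w u =>
    simp only [Step.run] at h
    cases hu : isWdB fd.l u with
    | false => rw [hu] at h; exact absurd h (by simp)
    | true =>
      rw [hu] at h
      simp only [cond_true, Option.some.injEq] at h
      subst h
      have hw := isWdB_spec hu
      refine ⟨?_, C.wordN F u, C.c6.c2.monomial_le_group (C.wordN_mem u), wmove C u hw L hL⟩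
      intro r hr
      obtain ⟨r', hr', rfl⟩ := List.mem_map.mp hr
      exact C.wordP_lt u hw r' (hL r' hr')
  | drop =>
    simp only [Step.run] at h
    set R := L.filter fun r => !Q0.contains r with hR
    cases hb : (pairwiseB (comm2 fd) L && L.isPerm (Q0 ++ R) &&
        R.all fun r => G0.all fun g => comm2 fd g r) with
    | false => rw [hb] at h; exact absurd h (by simp)
    | true =>
      rw [hb] at h
      simp only [cond_true, Option.some.injEq] at h
      subst h
      simp only [Bool.and_eq_true, List.all_eq_true] at hb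
      obtain ⟨⟨h1, h2⟩, h3⟩ := hb
      have hperm : L.Perm (Q0 ++ R) := List.isPerm_iff.mp h2
      have hRL : ∀ r ∈ R, r < fd.n := fun r hr => hL r (List.mem_of_mem_filter hr)
      refine ⟨?_, lpr C F G0, lpr_mem C G0, ?_⟩
      · intro r hr
        rcases List.mem_append.mp hr with hr | hr
        · exact hQ0' r hr
        · exact hRL r hr
      · rw [lpr_perm C L (Q0 ++ R) hL h1 hperm, lpr_append, lpr_append, ← hdrop]
        have hcm : Commute (lpr C F G0) (lpr C F R) := by
          unfold lpr
          apply commute_lp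
          intro q hq
          obtain ⟨r, hr, rfl⟩ := List.mem_map.mp hq
          apply Commute.symm
          apply commute_lp
          intro q' hq'
          obtain ⟨g, hg, rfl⟩ := List.mem_map.mp hq'
          exact (comm2_comm C g r (hG0 g hg) (hRL r hr) (h3 r hr g hg) 1 1).symm
        calc lpr C F G0 * (lpr C F Q0 * lpr C F R) * (lpr C F G0)⁻¹
            = lpr C F G0 * lpr C F Q0 * (lpr C F R * (lpr C F G0)⁻¹) := by group
          _ = lpr C F G0 * lpr C F Q0 * ((lpr C F G0)⁻¹ * lpr C F R) := by rw [(hcm.inv_left).eq]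
          _ = lpr C F G0 * lpr C F Q0 * (lpr C F G0)⁻¹ * lpr C F R := by group

/-- **soundness of the chains** -/
theorem conj_of_chain (hG0 : ∀ g ∈ G0, g < fd.n) (hQ0' : ∀ r ∈ Q0', r < fd.n)
    (hdrop : lpr C F G0 * lpr C F Q0 * (lpr C F G0)⁻¹ = lpr C F Q0')
    (ch : List Step) (L L' : List ℕ) (hL : ∀ r ∈ L, r < fd.n)
    (h : runChain fd fx Q0 Q0' G0 ch L = some L') : ConjG D (lpr C F L) (lpr C F L') := by
  induction ch generalizing L with
  | nil =>
    simp only [runChain, Option.some.injEq] at h
    subst h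
    exact ConjG.refl _
  | cons s ch ih =>
    simp only [runChain] at h
    cases hs : s.run fd fx Q0 Q0' G0 L with
    | none => rw [hs] at h; exact absurd h (by simp)
    | some L1 =>
      rw [hs] at h
      obtain ⟨hL1, hc⟩ := step_sound C Q0 Q0' G0 hG0 hQ0' hdrop s L L1 hL hs
      exact hc.trans (ih L1 hL1 h)

end Sound

end Cfsg.Agent.Lib.H2.E8I
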