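import Mathlib
import Cfsg.Prelude.Def_LieChev
import Cfsg.Agent.Lib.H2.E8ChainData
import Cfsg.Agent.Lib.H29.ChevCert13
import Cfsg.Agent.Lib.H29.ChevDiagOrd

/-!
# `E₈(F)`, characteristic two: every involution is conjugate to one of four products of root elements

On helper12's maximal-cell theorem and helper6's table-driven case analysis (`exists_conj_yS`): the table of the `256`
subsets of the fundamental roots, the chains of conjugations (`E8Chain`) from the products over the orthogonal sets of
roots of the `63` admissible subsets to the four representatives, and the fusion inside a subsystem of type `D₄`.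
-/

set_option autoImplicit false
set_option linter.unusedSectionVars false
set_option linter.unusedSimpArgs false
set_option linter.unusedVariables false
set_option maxRecDepth 100000

namespace Cfsg.Agent.Lib.H2.E8I

open Cfsg Cfsg.Lie Matrix Cfsg.Agent.Lib.H29.Chev Cfsg.Agent.Lib.H12.F4V Cfsg.Agent.Lib.H12.InvCell
  Cfsg.Agent.Lib.H6.Inv

/-- the table of the lowering reflections for `E₈` -/
theorem lowStmt_E8 : LowStmt fdE8 fxE8 := by
  unfold LowStmt
  decide +kernel

/-- the table of the subsets of the fundamental roots -/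
theorem tabE8_chk : ∀ k < 2 ^ fdE8.l, chkEnt fdE8 fxE8 k (tabE8 k) = true := by
  decide +kernel

/-- four pairwise orthogonal roots whose half sum is a root -/
def Q0 : List ℕ := [123, 156, 232, 233]
/-- three of them -/
def Q0' : List ℕ := [156, 232, 233]
/-- the roots of the conjugating element -/
def G0 : List ℕ := [138, 102, 96, 11]
/-- the roots of the four representatives -/
def reps : List (List ℕ) := [[239], [232, 233], [228, 222, 218], [226, 220, 213, 216]]

/-- the check of the chain of the bitmask `k` -/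
noncomputable def chkRow (k : ℕ) : Bool :=
  match tabE8 k with
  | .inl _ => true
  | .inr Ws => Ws.isEmpty || ((Ws.map (wsRoot fdE8 fxE8)).all (fun r => Nat.blt r fdE8.n) &&
      match runChain fdE8 fxE8 Q0 Q0' G0 (chainE8 k) (Ws.map (wsRoot fdE8 fxE8)) with
      | none => false
      | some L => reps.contains L)

theorem chain_chk : ∀ k < 2 ^ fdE8.l, chkRow k = true := by
  decide +kernel

/-- the fusion in `D₄`, as an identity of words modulo two -/
theorem d4_chk : chkWord fdE8 2 (G0 ++ Q0) (Q0' ++ G0) = true := by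
  decide +kernel

variable {F : Type*} [Field F]

/-- the matrices of the four representatives -/
theorem lpr_val_mem (L : List ℕ) (hL : L ∈ reps) :
    ((lpr cert12_E8 F L : GL chevE8.Idx F) : Matrix chevE8.Idx chevE8.Idx F) ∈
      [chevE8.x F 239 1, chevE8.x F 232 1 * chevE8.x F 233 1,
        chevE8.x F 228 1 * chevE8.x F 222 1 * chevE8.x F 218 1,
        chevE8.x F 226 1 * chevE8.x F 220 1 * chevE8.x F 213 1 * chevE8.x F 216 1] := by
  simp only [reps, List.mem_cons, List.not_mem_nil, or_false] at hL
  rcases hL with rfl | rfl | rfl | rfl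
  · rw [lpr_eq_prod]
    simp [cert12_E8.c6.c2.xA_val]
  · rw [lpr_eq_prod]
    simp [cert12_E8.c6.c2.xA_val]
  · rw [lpr_eq_prod]
    simp [cert12_E8.c6.c2.xA_val, mul_assoc]
  · rw [lpr_eq_prod]
    simp [cert12_E8.c6.c2.xA_val, mul_assoc]

section Char2

variable [CharP F 2]

theorem d4drop : lpr cert12_E8 F G0 * lpr cert12_E8 F Q0 * (lpr cert12_E8 F G0)⁻¹ = lpr cert12_E8 F Q0' := by
  have h := word_eq (F := F) 2 cert12_E8.c6.c2 (G0 ++ Q0) (Q0' ++ G0) (by decide) (by decide) d4_chk
  rw [wordG_append, wordG_append, ← lpr_eq_wordG cert12_E8, ← lpr_eq_wordG cert12_E8,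
    ← lpr_eq_wordG cert12_E8] at h
  rw [h]
  group

theorem odd_diag_E8 [Fintype F] : Odd (Nat.card ↥(chevE8.diagonalSubgroup F)) := by
  rw [card_diag_E8]
  apply Odd.pow
  obtain ⟨n, hn⟩ := FiniteField.card F 2
  rw [Nat.card_eq_fintype_card, hn.2]
  have h1 : 1 ≤ 2 ^ (n : ℕ) := Nat.one_le_two_pow
  have h2 : Even (2 ^ (n : ℕ)) := (Nat.even_pow' n.ne_zero).mpr even_two
  exact Nat.Even.sub_odd h1 h2 odd_one

/-- **every involution of `E₈(F)` is conjugate to a product of root elements over one of the four sets of roots** -/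
theorem exists_conj_rep [Fintype F] (g : GL chevE8.Idx F) (hg : g ∈ chevE8.group F) (hg2 : g * g = 1) (hg1 : g ≠ 1) :
    ∃ L ∈ reps, ConjG chevE8 g (lpr cert12_E8 F L) := by
  obtain ⟨k, hk, Ws, hWs, h, hh, hc⟩ :=
    exists_conj_yS cert12_E8 lowStmt_E8 odd_diag_E8 tabE8 tabE8_chk g hg hg2
  have hrow := chain_chk k hk
  unfold chkRow at hrow
  rw [hWs] at hrow
  simp only [Bool.or_eq_true, Bool.and_eq_true, List.all_eq_true, natBlt_iff] at hrow
  rcases hrow with hemp | ⟨hlt, hch⟩
  · exfalso
    have : Ws = [] := List.isEmpty_iff.mp hemp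
    subst this
    have e : yS cert12_E8 F [] = 1 := rfl
    rw [e] at hc
    apply hg1
    calc g = h⁻¹ * (h * g * h⁻¹) * h := by group
      _ = 1 := by rw [hc]; group
  · cases hrun : runChain fdE8 fxE8 Q0 Q0' G0 (chainE8 k) (Ws.map (wsRoot fdE8 fxE8)) with
    | none => rw [hrun] at hch; exact absurd hch (by simp)
    | some L =>
      rw [hrun] at hch
      have hL : L ∈ reps := by simpa using hch
      refine ⟨L, hL, ?_⟩
      have hconj := conj_of_chain (F := F) cert12_E8 Q0 Q0' G0 (by decide) (by decide) d4drop (chainE8 k)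
        (Ws.map (wsRoot fdE8 fxE8)) L hlt hrun
      rw [← yS_eq_lpr] at hconj
      exact ConjG.trans ⟨h, hh, hc⟩ hconj

end Char2

end Cfsg.Agent.Lib.H2.E8I
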