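import Mathlib
import Cfsg.Agent.Lib.H18.SL2Pow
import Cfsg.Agent.Lib.H2.PSLCard

set_option autoImplicit false

/-!
# Sylow 2-subgroups of `PSL₂(q)` for `q ≡ 3, 5 (mod 8)` are Klein four groups
-/

namespace Cfsg.Agent.Lib.H2.PSL2Klein

open Matrix Cfsg.Agent.Lib.H18

variable {F : Type*} [Field F]

theorem trFib_two (t : F) : trFib t 2 = t := by simp only [trFib]; ring
theorem trFib_three (t : F) : trFib t 3 = t ^ 2 - 1 := by simp only [trFib]; ring
theorem trFib_four (t : F) : trFib t 4 = t ^ 3 - 2 * t := by simp only [trFib]; ring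

/-- a scalar matrix in `SL₂` squares to one -/
theorem sq_of_scalar (g : SpecialLinearGroup (Fin 2) F) (c : F)
    (h : g.1 = c • (1 : Matrix (Fin 2) (Fin 2) F)) : g.1 ^ 2 = 1 := by
  have hdet := g.2
  rw [h, Matrix.det_smul, Matrix.det_one, mul_one, Fintype.card_fin] at hdet
  rw [h, smul_pow, one_pow, hdet, one_smul]

/-- if `2` is not a square then `g ^ 4 = ± 1` implies `g ^ 2 = ± 1` -/
theorem sq_of_pow_four (h2 : ¬ IsSquare (2 : F)) (g : SpecialLinearGroup (Fin 2) F)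
    (h : g.1 ^ 4 = 1 ∨ g.1 ^ 4 = -1) : g.1 ^ 2 = 1 ∨ g.1 ^ 2 = -1 := by
  set t := g.1 0 0 + g.1 1 1 with ht
  have hne : t ^ 2 - 2 ≠ 0 := by
    intro h0
    apply h2
    exact ⟨t, by linear_combination -h0⟩
  have h4 : g.1 ^ 4 = (t ^ 3 - 2 * t) • g.1 - (t ^ 2 - 1) • (1 : Matrix (Fin 2) (Fin 2) F) := by
    rw [sl2_pow_succ g 3, trFib_four, trFib_three]
  have h2' : g.1 ^ 2 = t • g.1 - (1 : Matrix (Fin 2) (Fin 2) F) := by
    rw [sl2_pow_succ g 1, trFib_two, trFib_one, one_smul]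
  rcases h with h | h
  · rw [h4] at h
    by_cases ht0 : t = 0
    · right
      rw [h2', ht0, zero_smul, zero_sub]
    · left
      apply sq_of_scalar g (t / (t ^ 2 - 2))
      have h5 : (t * (t ^ 2 - 2)) • g.1 = (t ^ 2) • (1 : Matrix (Fin 2) (Fin 2) F) := by
        have : (t ^ 3 - 2 * t) • g.1 = (1 : Matrix (Fin 2) (Fin 2) F) +
            (t ^ 2 - 1) • (1 : Matrix (Fin 2) (Fin 2) F) := eq_add_of_sub_eq h
        have e : t * (t ^ 2 - 2) = t ^ 3 - 2 * t := by ring
        rw [e, this]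
        module
      have h6 : g.1 = (t * (t ^ 2 - 2))⁻¹ • ((t * (t ^ 2 - 2)) • g.1) := by
        rw [smul_smul, inv_mul_cancel₀ (mul_ne_zero ht0 hne), one_smul]
      rw [h6, h5, smul_smul]
      congr 1
      field_simp
  · rw [h4] at h
    left
    have h5 : (t * (t ^ 2 - 2)) • g.1 = (t ^ 2 - 2) • (1 : Matrix (Fin 2) (Fin 2) F) := by
      have : (t ^ 3 - 2 * t) • g.1 = -(1 : Matrix (Fin 2) (Fin 2) F) +
          (t ^ 2 - 1) • (1 : Matrix (Fin 2) (Fin 2) F) := eq_add_of_sub_eq h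
      have e : t * (t ^ 2 - 2) = t ^ 3 - 2 * t := by ring
      rw [e, this]
      module
    have ht0 : t ≠ 0 := by
      rintro ht0
      rw [ht0, zero_mul, zero_smul] at h5
      have := congrFun (congrFun h5 0) 0
      simp only [Matrix.zero_apply, Matrix.smul_apply, Matrix.one_apply_eq, smul_eq_mul,
        mul_one] at this
      rw [ht0] at hne
      exact hne this.symm
    apply sq_of_scalar g t⁻¹
    have h6 : g.1 = (t * (t ^ 2 - 2))⁻¹ • ((t * (t ^ 2 - 2)) • g.1) := by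
      rw [smul_smul, inv_mul_cancel₀ (mul_ne_zero ht0 hne), one_smul]
    rw [h6, h5, smul_smul]
    congr 1
    field_simp

/-- membership in the centre of `SL₂` -/
theorem center_cases (g : SpecialLinearGroup (Fin 2) F)
    (h : g ∈ Subgroup.center (SpecialLinearGroup (Fin 2) F)) : g.1 = 1 ∨ g.1 = -1 := by
  rw [Matrix.SpecialLinearGroup.mem_center_iff] at h
  obtain ⟨r, hr, hg⟩ := h
  rw [Fintype.card_fin] at hr
  have h1 : (r - 1) * (r + 1) = 0 := by linear_combination hr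
  rcases mul_eq_zero.1 h1 with h | h
  · left
    rw [← hg, sub_eq_zero.1 h, map_one]
  · right
    rw [← hg, eq_neg_of_add_eq_zero_left h, map_neg, map_one]

theorem mem_center_of (g : SpecialLinearGroup (Fin 2) F) (h : g.1 = 1 ∨ g.1 = -1) :
    g ∈ Subgroup.center (SpecialLinearGroup (Fin 2) F) := by
  rw [Matrix.SpecialLinearGroup.mem_center_iff]
  rcases h with h | h
  · exact ⟨1, by simp, by simp [h]⟩
  · refine ⟨-1, by simp, ?_⟩
    rw [h, map_neg, map_one]

/-- in `PSL₂(F)` with `2` a non-square, `x ^ 4 = 1` implies `x ^ 2 = 1` -/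
theorem psl_sq_of_pow_four (h2 : ¬ IsSquare (2 : F))
    (x : Matrix.ProjectiveSpecialLinearGroup (Fin 2) F) (hx : x ^ 4 = 1) : x ^ 2 = 1 := by
  obtain ⟨g, rfl⟩ := QuotientGroup.mk_surjective x
  rw [← QuotientGroup.mk_pow, QuotientGroup.eq_one_iff] at hx ⊢
  have h4 := center_cases _ hx
  rw [Matrix.SpecialLinearGroup.coe_pow] at h4
  apply mem_center_of
  rw [Matrix.SpecialLinearGroup.coe_pow]
  exact sq_of_pow_four h2 g h4

theorem card_factorization [Fintype F] (hq : Fintype.card F % 8 = 3 ∨ Fintype.card F % 8 = 5) :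
    ∃ k : ℕ, Nat.card (Matrix.ProjectiveSpecialLinearGroup (Fin 2) F) = 4 * k ∧ ¬ 2 ∣ k := by
  have h := card_PSL2_mul (F := F)
  have hg : Nat.gcd 2 (Fintype.card F - 1) = 2 := by
    apply Nat.gcd_eq_left
    omega
  rw [hg] at h
  rcases hq with hq | hq
  · obtain ⟨k, hk⟩ : ∃ k, Fintype.card F = 8 * k + 3 := ⟨Fintype.card F / 8, by omega⟩
    refine ⟨(8 * k + 3) * ((4 * k + 1) * (2 * k + 1)), ?_, ?_⟩
    · rw [hk] at h
      have e : (8 * k + 3) ^ 2 - 1 = 8 * ((4 * k + 1) * (2 * k + 1)) := by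
        apply Nat.sub_eq_of_eq_add; ring
      rw [e] at h
      have : 2 * Nat.card (Matrix.ProjectiveSpecialLinearGroup (Fin 2) F) =
          2 * (4 * ((8 * k + 3) * ((4 * k + 1) * (2 * k + 1)))) := by
        rw [h]; ring
      exact Nat.eq_of_mul_eq_mul_left (by norm_num) this
    · rw [Nat.Prime.dvd_mul Nat.prime_two, Nat.Prime.dvd_mul Nat.prime_two]
      omega
  · obtain ⟨k, hk⟩ : ∃ k, Fintype.card F = 8 * k + 5 := ⟨Fintype.card F / 8, by omega⟩
    refine ⟨(8 * k + 5) * ((2 * k + 1) * (4 * k + 3)), ?_, ?_⟩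
    · rw [hk] at h
      have e : (8 * k + 5) ^ 2 - 1 = 8 * ((2 * k + 1) * (4 * k + 3)) := by
        apply Nat.sub_eq_of_eq_add; ring
      rw [e] at h
      have : 2 * Nat.card (Matrix.ProjectiveSpecialLinearGroup (Fin 2) F) =
          2 * (4 * ((8 * k + 5) * ((2 * k + 1) * (4 * k + 3)))) := by
        rw [h]; ring
      exact Nat.eq_of_mul_eq_mul_left (by norm_num) this
    · rw [Nat.Prime.dvd_mul Nat.prime_two, Nat.Prime.dvd_mul Nat.prime_two]
      omega

theorem main [Fintype F] (hq : Fintype.card F % 8 = 3 ∨ Fintype.card F % 8 = 5)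
    (P : Sylow 2 (Matrix.ProjectiveSpecialLinearGroup (Fin 2) F)) :
    IsKleinFour (P : Subgroup (Matrix.ProjectiveSpecialLinearGroup (Fin 2) F)) := by
  have h2 : ¬ IsSquare (2 : F) := by
    rw [FiniteField.isSquare_two_iff]
    omega
  obtain ⟨k, hk, hk2⟩ := card_factorization hq
  have hk0 : k ≠ 0 := by
    rintro rfl
    exact hk2 (dvd_zero 2)
  have hcard : Nat.card (P : Subgroup (Matrix.ProjectiveSpecialLinearGroup (Fin 2) F)) = 4 := by
    rw [Sylow.card_eq_multiplicity, hk]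
    have : (4 * k).factorization 2 = 2 := by
      rw [show 4 = 2 ^ 2 by norm_num, Nat.factorization_mul (by norm_num) hk0,
        Nat.Prime.factorization_pow Nat.prime_two, Finsupp.add_apply,
        Nat.factorization_eq_zero_of_not_dvd hk2]
      simp
    rw [this]
    norm_num
  refine ⟨hcard, ?_⟩
  have hsq : ∀ x : (P : Subgroup (Matrix.ProjectiveSpecialLinearGroup (Fin 2) F)), x ^ 2 = 1 := by
    intro x
    have h4 : x ^ 4 = 1 := by
      rw [← hcard]; exact pow_card_eq_one'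
    apply Subtype.ext
    rw [Subgroup.coe_pow, Subgroup.coe_one]
    apply psl_sq_of_pow_four h2
    rw [← Subgroup.coe_pow, h4, Subgroup.coe_one]
  have hdvd : Monoid.exponent (P : Subgroup (Matrix.ProjectiveSpecialLinearGroup (Fin 2) F)) ∣ 2 :=
    Monoid.exponent_dvd_of_forall_pow_eq_one hsq
  rcases (Nat.dvd_prime Nat.prime_two).1 hdvd with h1 | h1
  · exfalso
    rw [Monoid.exp_eq_one_iff] at h1
    have := Nat.card_eq_one_iff_unique.2 ⟨h1, ⟨1⟩⟩
    omega
  · exact h1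

end Cfsg.Agent.Lib.H2.PSL2Klein
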