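import Mathlib

set_option autoImplicit false

/-!
# Cyclic Sylow subgroups from a large cyclic subgroup
-/

namespace Cfsg.Agent.Lib.H2.CycSyl

/-- If a cyclic subgroup `C` of a finite group `G` carries the full `p`-part of `|G|`, then the Sylow
`p`-subgroups of `G` are cyclic. -/
theorem isCyclic_sylow_of_cyclic_subgroup {G : Type*} [Group G] [Finite G] {p : ℕ} [Fact p.Prime]
    (C : Subgroup G) [IsCyclic C]
    (hv : (Nat.card C).factorization p = (Nat.card G).factorization p) (P : Sylow p G) :
    IsCyclic P := by
  obtain ⟨S⟩ : Nonempty (Sylow p C) := inferInstance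
  have hS : Nat.card S = p ^ (Nat.card C).factorization p := S.card_eq_multiplicity
  let S' : Subgroup G := (S : Subgroup C).map C.subtype
  let e : (S : Subgroup C) ≃* S' := (S : Subgroup C).equivMapOfInjective _ (Subgroup.subtype_injective C)
  have hS' : Nat.card S' = p ^ (Nat.card G).factorization p := by
    rw [← Nat.card_congr e.toEquiv, ← hv]
    exact hS
  let Q : Sylow p G := Sylow.ofCard S' hS'
  have hcS : IsCyclic (S : Subgroup C) := inferInstance
  have hcS' : IsCyclic S' := isCyclic_of_surjective e e.surjective
  have hcQ : IsCyclic Q := hcS'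
  let e2 : P ≃* Q := Sylow.equiv P Q
  exact isCyclic_of_surjective e2.symm e2.symm.surjective

/-- every `p`-subgroup is then cyclic -/
theorem isCyclic_of_isPGroup {G : Type*} [Group G] [Finite G] {p : ℕ} [Fact p.Prime]
    (C : Subgroup G) [IsCyclic C]
    (hv : (Nat.card C).factorization p = (Nat.card G).factorization p) (H : Subgroup G)
    (hH : IsPGroup p H) : IsCyclic H := by
  obtain ⟨P, hP⟩ := hH.exists_le_sylow
  have := isCyclic_sylow_of_cyclic_subgroup C hv P
  let φ : H →* P := Subgroup.inclusion hP
  exact isCyclic_of_injective φ (Subgroup.inclusion_injective hP)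

end Cfsg.Agent.Lib.H2.CycSyl
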