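/-
REE-C2 (helper2, for helper12's Ree tori project): the centraliser of an involution of `PSL₂(q)`, `q ≡ 3 mod 4`,
has order `q + 1`.  Reusable: `lift_involution` (an involution of `PSL₂` lifts to `g` with `g² = -1`, trace `0`),
`centralizer_mk_eq_map` (its centraliser is the image of the normaliser of `C_{SL₂}(g)`).
-/
import Mathlib
import Cfsg.Agent.Lib.H12.SL2RegCard
import Cfsg.Agent.Lib.H2.PSL2Klein
import Cfsg.Agent.Lib.H2.SLCenterCard

set_option autoImplicit false
set_option linter.unusedSectionVars false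
set_option linter.unusedSimpArgs false
set_option linter.unusedVariables false

namespace Cfsg.Agent.Lib.H2.Ree

open Matrix

variable {F : Type*} [Field F]

local notation "SL2" => Matrix.SpecialLinearGroup (Fin 2) F
local notation "M2" => Matrix (Fin 2) (Fin 2) F
local notation "PSL2" => Matrix.ProjectiveSpecialLinearGroup (Fin 2) F

theorem two_ne_zero_of_odd_card [Fintype F] (h : Odd (Fintype.card F)) : (2 : F) ≠ 0 := by
  intro h2
  have hc : ringChar F = 2 := by
    have : ringChar F ∣ 2 := by
      have := (ringChar.spec F 2).mp (by exact_mod_cast h2)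
      exact this
    rcases (Nat.dvd_prime Nat.prime_two).mp this with h1 | h1
    · exact absurd h1 (CharP.ringChar_ne_one)
    · exact h1
  have := FiniteField.even_card_of_char_two hc
  rw [Nat.odd_iff] at h
  omega

/-- the trace of an element of `SL₂` squaring to `-1` is zero -/
theorem trace_eq_zero_of_sq (g : SL2) (hg : ((g * g : SL2) : M2) = -1) : (g : M2).trace = 0 := by
  rw [Matrix.SpecialLinearGroup.coe_mul, Cfsg.Agent.Lib.H12.m2_cayley _ g.det_coe] at hg
  have h1 : (g : M2).trace • (g : M2) = 0 := by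
    have : (g : M2).trace • (g : M2) - 1 + 1 = -1 + 1 := by rw [hg]
    simpa using this
  by_contra hne
  have h2 : (g : M2) = 0 := by
    have := congrArg (fun M : M2 => (g : M2).trace⁻¹ • M) h1
    simpa only [smul_smul, inv_mul_cancel₀ hne, one_smul, smul_zero] using this
  have hdet := g.det_coe
  rw [h2] at hdet
  simp at hdet

/-- an involution of `PSL₂` (characteristic not two) lifts to an element of square `-1` -/
theorem lift_involution (h2 : (2 : F) ≠ 0) (g : SL2) (ht1 : (QuotientGroup.mk g : PSL2) ≠ 1)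
    (ht2 : (QuotientGroup.mk g : PSL2) * QuotientGroup.mk g = 1) : ((g * g : SL2) : M2) = -1 := by
  rw [← QuotientGroup.mk_mul, QuotientGroup.eq_one_iff] at ht2
  rcases Cfsg.Agent.Lib.H2.PSL2Klein.center_cases _ ht2 with h | h
  · exfalso
    apply ht1
    rw [QuotientGroup.eq_one_iff]
    have hgg : g * g = 1 := Subtype.ext (by rw [h, Matrix.SpecialLinearGroup.coe_one])
    rcases (Cfsg.Agent.Lib.H12.sl2_mul_self_eq_one_iff h2 g).mp hgg with h1 | h1
    · rw [h1]; exact Subgroup.one_mem _
    · apply Cfsg.Agent.Lib.H2.PSL2Klein.mem_center_of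
      right
      rw [h1, Matrix.SpecialLinearGroup.coe_neg, Matrix.SpecialLinearGroup.coe_one]
  · exact h

/-- `g⁻¹ = -g` when `g² = -1` -/
theorem inv_eq_neg_of_sq (g : SL2) (hg : ((g * g : SL2) : M2) = -1) : g⁻¹ = -g := by
  have h1 : g * (-g) = 1 := by
    apply Subtype.ext
    rw [Matrix.SpecialLinearGroup.coe_mul, Matrix.SpecialLinearGroup.coe_neg, Matrix.mul_neg,
      ← Matrix.SpecialLinearGroup.coe_mul, hg, neg_neg, Matrix.SpecialLinearGroup.coe_one]
  exact inv_eq_of_mul_eq_one_right h1

theorem neg_one_mem_center : (-1 : SL2) ∈ Subgroup.center SL2 := by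
  apply Cfsg.Agent.Lib.H2.PSL2Klein.mem_center_of
  right
  rw [Matrix.SpecialLinearGroup.coe_neg, Matrix.SpecialLinearGroup.coe_one]

/-- the centraliser of the image of `g` (`g² = -1`, `tr² ≠ 4`) is the image of the normaliser of `C(g)` -/
theorem centralizer_mk_eq_map (h2 : (2 : F) ≠ 0) (g : SL2) (hg : ((g * g : SL2) : M2) = -1)
    (ht : (g : M2).trace ^ 2 ≠ 4) :
    Subgroup.centralizer ({(QuotientGroup.mk g : PSL2)} : Set PSL2) =
      (Subgroup.normalizer (Subgroup.centralizer ({g} : Set SL2) : Set SL2)).map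
        (QuotientGroup.mk' (Subgroup.center SL2)) := by
  ext u
  rw [Subgroup.mem_centralizer_singleton_iff, Subgroup.mem_map]
  constructor
  · intro hu
    obtain ⟨x, rfl⟩ := QuotientGroup.mk_surjective u
    refine ⟨x, ?_, rfl⟩
    rw [← QuotientGroup.mk_mul, ← QuotientGroup.mk_mul, QuotientGroup.eq] at hu
    set c := (x * g)⁻¹ * (g * x) with hcdef
    have hcomm : ∀ z : SL2, c * z = z * c := fun z => (Subgroup.mem_center_iff.mp hu z).symm
    have h1 : x⁻¹ * g * x = g * c := by
      rw [hcdef]; group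
    have h1' : x * g * x⁻¹ = g * c⁻¹ := by
      have h0 : x * g * x⁻¹ * c = g := by
        calc x * g * x⁻¹ * c = x * g * (x⁻¹ * c) := by group
          _ = x * g * (c * x⁻¹) := by rw [hcomm]
          _ = x * (g * c) * x⁻¹ := by group
          _ = x * (x⁻¹ * g * x) * x⁻¹ := by rw [h1]
          _ = g := by group
      exact eq_mul_inv_of_mul_eq h0
    have hcinv : ∀ z : SL2, c⁻¹ * z = z * c⁻¹ := by
      intro z
      have := hcomm z
      calc c⁻¹ * z = c⁻¹ * (z * c) * c⁻¹ := by group
        _ = c⁻¹ * (c * z) * c⁻¹ := by rw [this]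
        _ = z * c⁻¹ := by group
    rw [Subgroup.mem_normalizer_iff]
    intro y
    rw [Subgroup.mem_centralizer_singleton_iff, Subgroup.mem_centralizer_singleton_iff]
    constructor
    · intro hy
      -- y g = g y
      have : x * y * x⁻¹ * (g * c⁻¹) = (g * c⁻¹) * (x * y * x⁻¹) := by
        rw [← h1']
        calc x * y * x⁻¹ * (x * g * x⁻¹) = x * (y * g) * x⁻¹ := by group
          _ = x * (g * y) * x⁻¹ := by rw [hy]
          _ = x * g * x⁻¹ * (x * y * x⁻¹) := by group
      have h3 : x * y * x⁻¹ * g * c⁻¹ = g * (x * y * x⁻¹) * c⁻¹ := by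
        calc x * y * x⁻¹ * g * c⁻¹ = x * y * x⁻¹ * (g * c⁻¹) := by group
          _ = (g * c⁻¹) * (x * y * x⁻¹) := this
          _ = g * (c⁻¹ * (x * y * x⁻¹)) := by group
          _ = g * ((x * y * x⁻¹) * c⁻¹) := by rw [hcinv]
          _ = g * (x * y * x⁻¹) * c⁻¹ := by group
      exact mul_right_cancel h3
    · intro hy
      have : y * (g * c) = (g * c) * y := by
        rw [← h1]
        calc y * (x⁻¹ * g * x) = x⁻¹ * ((x * y * x⁻¹) * g) * x := by group
          _ = x⁻¹ * (g * (x * y * x⁻¹)) * x := by rw [hy]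
          _ = x⁻¹ * g * x * y := by group
      have h3 : y * g * c = g * y * c := by
        calc y * g * c = y * (g * c) := by group
          _ = (g * c) * y := this
          _ = g * (c * y) := by group
          _ = g * (y * c) := by rw [hcomm]
          _ = g * y * c := by group
      exact mul_right_cancel h3
  · rintro ⟨x, hx, rfl⟩
    show (QuotientGroup.mk x : PSL2) * QuotientGroup.mk g = QuotientGroup.mk g * QuotientGroup.mk x
    rcases Cfsg.Agent.Lib.H12.conj_cases h2 ht hx with h | h
    · have : x * g = g * x := by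
        calc x * g = (x * g * x⁻¹) * x := by group
          _ = g * x := by rw [h]
      rw [← QuotientGroup.mk_mul, ← QuotientGroup.mk_mul, this]
    · rw [inv_eq_neg_of_sq g hg] at h
      have : x * g = g * x * (-1) := by
        calc x * g = (x * g * x⁻¹) * x := by group
          _ = -g * x := by rw [h]
          _ = g * x * (-1) := by simp
      rw [← QuotientGroup.mk_mul, ← QuotientGroup.mk_mul, this, QuotientGroup.mk_mul,
        (QuotientGroup.eq_one_iff (-1 : SL2)).mpr neg_one_mem_center, mul_one]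

/-- **REE-C2** -/
theorem card_centralizer_involution_PSL2 {F : Type*} [Field F] [Fintype F] (hq : Fintype.card F % 4 = 3)
    (t : Matrix.ProjectiveSpecialLinearGroup (Fin 2) F) (ht1 : t ≠ 1) (ht2 : t * t = 1) :
    Nat.card (Subgroup.centralizer ({t} : Set (Matrix.ProjectiveSpecialLinearGroup (Fin 2) F))) =
      Fintype.card F + 1 := by
  have hodd : Odd (Fintype.card F) := by
    rw [Nat.odd_iff]; omega
  have h2 : (2 : F) ≠ 0 := two_ne_zero_of_odd_card hodd
  obtain ⟨g, rfl⟩ := QuotientGroup.mk_surjective t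
  have hg := lift_involution h2 g ht1 ht2
  have htr := trace_eq_zero_of_sq g hg
  have h4 : (4 : F) ≠ 0 := by
    have : (4 : F) = 2 * 2 := by norm_num
    rw [this]; exact mul_ne_zero h2 h2
  have ht : (g : Matrix (Fin 2) (Fin 2) F).trace ^ 2 ≠ 4 := by
    rw [htr]; simpa using h4.symm
  have hns : ¬ IsSquare ((g : Matrix (Fin 2) (Fin 2) F).trace ^ 2 - 4) := by
    rw [htr]
    rintro ⟨s, hs⟩
    have hm1 : IsSquare (-1 : F) := by
      refine ⟨s / 2, ?_⟩
      field_simp
      linear_combination hs
    rw [FiniteField.isSquare_neg_one_iff] at hm1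
    exact hm1 hq
  have hcardC := (Cfsg.Agent.Lib.H12.regular_centralizer hodd g ht).2.2 hns
  have hN := (Cfsg.Agent.Lib.H12.classes_normalizer hodd ht).1
  rw [centralizer_mk_eq_map h2 g hg ht, ← Subgroup.relIndex_ker, QuotientGroup.ker_mk']
  have hle : Subgroup.center (Matrix.SpecialLinearGroup (Fin 2) F) ≤
      Subgroup.normalizer (Subgroup.centralizer ({g} : Set (Matrix.SpecialLinearGroup (Fin 2) F)) :
        Set (Matrix.SpecialLinearGroup (Fin 2) F)) :=
    (Subgroup.center_le_centralizer _).trans Subgroup.le_normalizer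
  have hc2 : Nat.card (Subgroup.center (Matrix.SpecialLinearGroup (Fin 2) F)) = 2 := by
    rw [Cfsg.Agent.Lib.H2.card_center_SL 2 (by norm_num)]
    have hq' : Nat.card F - 1 = 2 * ((Nat.card F - 1) / 2) := by
      rw [Nat.card_eq_fintype_card]
      omega
    rw [hq']
    exact Nat.gcd_mul_right_right _ _ ▸ (by simp)
  have hrel := Subgroup.relIndex_mul_relIndex ⊥ (Subgroup.center (Matrix.SpecialLinearGroup (Fin 2) F))
    (Subgroup.normalizer (Subgroup.centralizer ({g} : Set (Matrix.SpecialLinearGroup (Fin 2) F)) :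
        Set (Matrix.SpecialLinearGroup (Fin 2) F))) bot_le hle
  rw [Subgroup.relIndex_bot_left, Subgroup.relIndex_bot_left, hc2, hN, hcardC] at hrel
  omega

end Cfsg.Agent.Lib.H2.Ree
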