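/-
REE-C1 (helper2, for helper12's Ree tori project): three quarters of the elements of `PSL₂(q)`, `q ≡ 3 mod 8`, have odd order.
Route: helper29 REE-B1 `card_even_order` with `a = mk !![0,1;-1,0]`; all involutions are conjugate (same trace `0`, regular);
`|C(a)| = q + 1` (REE-C2); the elements of odd order of `C(a)` are the images of the `(q+1)/4` elements `x` with
`x ^ ((q+1)/4) = 1` of the cyclic group `C_{SL₂}(g₀)` of order `q + 1`.
-/
import Mathlib
import Cfsg.Agent.Lib.H2.ReeC2
import Cfsg.Agent.Lib.H12.ReeT4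
import Cfsg.Agent.Lib.H29.ReeB1

set_option autoImplicit false
set_option linter.unusedSectionVars false
set_option linter.unusedSimpArgs false
set_option linter.unusedVariables false

namespace Cfsg.Agent.Lib.H2.Ree

open Matrix

/-- in a finite cyclic group the equation `x ^ m = 1`, `m ∣ |G|`, has exactly `m` solutions -/
theorem card_pow_eq_one_of_cyclic {G : Type*} [Group G] [Finite G] [IsCyclic G] (m : ℕ) (hm : m ∣ Nat.card G) :
    Nat.card {x : G // x ^ m = 1} = m := by
  let _ : CommGroup G := IsCyclic.commGroup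
  have h := IsCyclic.card_powMonoidHom_ker G m
  rw [Nat.gcd_eq_right hm] at h
  calc Nat.card {x : G // x ^ m = 1} = Nat.card (powMonoidHom m : G →* G).ker := by
        apply Nat.card_congr
        exact Equiv.subtypeEquivRight (fun x => by rw [MonoidHom.mem_ker, powMonoidHom_apply])
    _ = m := h

variable {F : Type*} [Field F]

local notation "SL2" => Matrix.SpecialLinearGroup (Fin 2) F
local notation "M2" => Matrix (Fin 2) (Fin 2) F
local notation "PSL2" => Matrix.ProjectiveSpecialLinearGroup (Fin 2) F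

/-- the standard element of order 4 of `SL₂` -/
def g0 : SL2 := ⟨!![0, 1; -1, 0], by simp [Matrix.det_fin_two]⟩

theorem g0_sq : (((g0 : SL2) * g0 : SL2) : M2) = -1 := by
  rw [Matrix.SpecialLinearGroup.coe_mul]
  ext i j
  fin_cases i <;> fin_cases j <;> simp [g0, Matrix.mul_apply, Fin.sum_univ_two]

theorem mk_g0_ne_one : (QuotientGroup.mk (g0 : SL2) : PSL2) ≠ 1 := by
  intro h
  rw [QuotientGroup.eq_one_iff] at h
  rcases Cfsg.Agent.Lib.H2.PSL2Klein.center_cases _ h with h1 | h1
  · have := congrFun (congrFun h1 0) 1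
    simp [g0] at this
  · have := congrFun (congrFun h1 0) 1
    simp [g0] at this

theorem mk_sq_of_sq (g : SL2) (hg : ((g * g : SL2) : M2) = -1) :
    (QuotientGroup.mk g : PSL2) * QuotientGroup.mk g = 1 := by
  rw [← QuotientGroup.mk_mul, QuotientGroup.eq_one_iff]
  exact Cfsg.Agent.Lib.H2.PSL2Klein.mem_center_of _ (Or.inr hg)

variable [Fintype F]

/-- all involutions of `PSL₂(q)`, `q` odd, are conjugate to the image of `g0` -/
theorem involution_conj (hodd : Odd (Fintype.card F)) (v : PSL2) (hv1 : v ≠ 1) (hv2 : v * v = 1) :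
    ∃ γ : PSL2, γ * (QuotientGroup.mk (g0 : SL2) : PSL2) * γ⁻¹ = v := by
  have h2 : (2 : F) ≠ 0 := two_ne_zero_of_odd_card hodd
  have h4 : (4 : F) ≠ 0 := by
    have : (4 : F) = 2 * 2 := by norm_num
    rw [this]; exact mul_ne_zero h2 h2
  obtain ⟨g, rfl⟩ := QuotientGroup.mk_surjective v
  have hg := lift_involution h2 g hv1 hv2
  have htr := trace_eq_zero_of_sq g hg
  have htr0 := trace_eq_zero_of_sq (g0 : SL2) g0_sq
  have ht : (g : M2).trace ^ 2 ≠ 4 := by
    rw [htr]; simpa using h4.symm
  have ht0 : ((g0 : SL2) : M2).trace ^ 2 ≠ 4 := by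
    rw [htr0]; simpa using h4.symm
  have hns := Cfsg.Agent.Lib.H12.nonScalar_of_trace_sq_ne g ht
  obtain ⟨c, hc⟩ := isConj_iff.mp
    (Cfsg.Agent.Lib.H12.sl2_isConj_of_trace_regular hodd (g0 : SL2) g hns (by rw [htr, htr0]) ht0)
  refine ⟨QuotientGroup.mk c, ?_⟩
  rw [← hc]
  rfl

/-- the number of elements of odd order of the centraliser of the involution `mk g₀` -/
theorem card_odd_centralizer (hq : Fintype.card F % 8 = 3) :
    4 * Nat.card {w : PSL2 // w * (QuotientGroup.mk (g0 : SL2) : PSL2) = QuotientGroup.mk (g0 : SL2) * w ∧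
      Odd (orderOf w)} = Fintype.card F + 1 := by
  have hodd : Odd (Fintype.card F) := by
    rw [Nat.odd_iff]; omega
  have h2 : (2 : F) ≠ 0 := two_ne_zero_of_odd_card hodd
  have h4 : (4 : F) ≠ 0 := by
    have : (4 : F) = 2 * 2 := by norm_num
    rw [this]; exact mul_ne_zero h2 h2
  obtain ⟨m, hm4, hmodd⟩ : ∃ m : ℕ, Fintype.card F + 1 = 4 * m ∧ Odd m := by
    refine ⟨(Fintype.card F + 1) / 4, by omega, ?_⟩
    rw [Nat.odd_iff]; omega
  have htr0 := trace_eq_zero_of_sq (g0 : SL2) g0_sq
  have ht0 : ((g0 : SL2) : M2).trace ^ 2 ≠ 4 := by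
    rw [htr0]; simpa using h4.symm
  have hns : ¬ IsSquare (((g0 : SL2) : M2).trace ^ 2 - 4) := by
    rw [htr0]
    rintro ⟨s, hs⟩
    have hm1 : IsSquare (-1 : F) := by
      refine ⟨s / 2, ?_⟩
      field_simp
      linear_combination hs
    rw [FiniteField.isSquare_neg_one_iff] at hm1
    omega
  have hd : Cfsg.Agent.Lib.H12.NonScalar ((g0 : SL2) : M2) :=
    Cfsg.Agent.Lib.H12.nonScalar_of_trace_sq_ne _ ht0
  obtain ⟨hcyc, -, hcardC'⟩ := Cfsg.Agent.Lib.H12.regular_centralizer hodd (g0 : SL2) ht0
  have hcardC := hcardC' hns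
  have := hcyc
  have hK : Nat.card {x : Subgroup.centralizer ({(g0 : SL2)} : Set SL2) // x ^ m = 1} = m :=
    card_pow_eq_one_of_cyclic m (by rw [hcardC, hm4]; exact dvd_mul_left _ _)
  have hcenter_le : Subgroup.center SL2 ≤ Subgroup.centralizer ({(g0 : SL2)} : Set SL2) :=
    Subgroup.center_le_centralizer _
  -- the map
  have hwd : ∀ x : {x : Subgroup.centralizer ({(g0 : SL2)} : Set SL2) // x ^ m = 1},
      (QuotientGroup.mk (x.1.1) : PSL2) * (QuotientGroup.mk (g0 : SL2) : PSL2) =
        QuotientGroup.mk (g0 : SL2) * QuotientGroup.mk (x.1.1) ∧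
      Odd (orderOf (QuotientGroup.mk (x.1.1) : PSL2)) := by
    intro x
    constructor
    · have := Subgroup.mem_centralizer_singleton_iff.mp x.1.2
      rw [← QuotientGroup.mk_mul, ← QuotientGroup.mk_mul, this]
    · have hx : (x.1.1) ^ m = 1 := by
        have := congrArg Subtype.val x.2
        simpa using this
      have : (QuotientGroup.mk (x.1.1) : PSL2) ^ m = 1 := by
        rw [← QuotientGroup.mk_pow, hx]; rfl
      exact Odd.of_dvd_nat hmodd (orderOf_dvd_of_pow_eq_one this)
  set f : {x : Subgroup.centralizer ({(g0 : SL2)} : Set SL2) // x ^ m = 1} →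
      {w : PSL2 // w * (QuotientGroup.mk (g0 : SL2) : PSL2) = QuotientGroup.mk (g0 : SL2) * w ∧
        Odd (orderOf w)} := fun x => ⟨QuotientGroup.mk (x.1.1), hwd x⟩ with hf
  have hbij : Function.Bijective f := by
    constructor
    · intro x x' hxx'
      have h1 : (QuotientGroup.mk (x.1.1) : PSL2) = QuotientGroup.mk (x'.1.1) := congrArg Subtype.val hxx'
      rw [QuotientGroup.eq] at h1
      set c := (x.1.1)⁻¹ * x'.1.1 with hcdef
      have hc2 := Cfsg.Agent.Lib.H12.ReeT.center_sq c h1
      have hcomm : ∀ z : SL2, c * z = z * c := fun z => (Subgroup.mem_center_iff.mp h1 z).symm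
      have hx : (x.1.1) ^ m = 1 := by
        have := congrArg Subtype.val x.2
        simpa using this
      have hx' : (x'.1.1) ^ m = 1 := by
        have := congrArg Subtype.val x'.2
        simpa using this
      have hx'c : x'.1.1 = x.1.1 * c := by rw [hcdef]; group
      have hcm : c ^ m = 1 := by
        have : (x.1.1 * c) ^ m = (x.1.1) ^ m * c ^ m := Commute.mul_pow (hcomm _).symm m
        rw [← hx'c, hx', hx, one_mul] at this
        exact this.symm
      have hc1 : c = 1 := Cfsg.Agent.Lib.H12.ReeT.odd_pow_sq' hmodd hc2 hcm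
      rw [hc1, mul_one] at hx'c
      exact Subtype.ext (Subtype.ext hx'c.symm)
    · rintro ⟨w, hwa, hwodd⟩
      have hwmem : w ∈ Subgroup.centralizer ({(QuotientGroup.mk (g0 : SL2) : PSL2)} : Set PSL2) := by
        rw [Subgroup.mem_centralizer_singleton_iff]; exact hwa
      rw [centralizer_mk_eq_map h2 (g0 : SL2) g0_sq ht0, Subgroup.mem_map] at hwmem
      obtain ⟨h', hN, hh'w⟩ := hwmem
      have hwk : w ^ orderOf w = 1 := pow_orderOf_eq_one w
      have hh'C : h' ∈ Subgroup.centralizer ({(g0 : SL2)} : Set SL2) := by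
        by_contra hnot
        have hsq := Cfsg.Agent.Lib.H12.sq_eq_neg_one_of_mem_normalizer h2 ht0 hN hnot
        have hww : w * w = 1 := by
          rw [← hh'w]; exact mk_sq_of_sq h' hsq
        have hw1 : w = 1 := Cfsg.Agent.Lib.H12.ReeT.odd_pow_sq' hwodd hww hwk
        apply hnot
        apply hcenter_le
        rw [← QuotientGroup.eq_one_iff (N := Subgroup.center SL2)]
        have : (QuotientGroup.mk' (Subgroup.center SL2)) h' = w := hh'w
        rw [← hw1, ← this]; rfl
      obtain ⟨h, hhw, hhk⟩ := Cfsg.Agent.Lib.H12.ReeT.exists_lift_pow (orderOf w) hwodd w hwk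
      have hhC : h ∈ Subgroup.centralizer ({(g0 : SL2)} : Set SL2) := by
        have hc : h'⁻¹ * h ∈ Subgroup.center SL2 := by
          rw [← QuotientGroup.eq]
          have : (QuotientGroup.mk' (Subgroup.center SL2)) h' = w := hh'w
          rw [hhw, ← this]; rfl
        have : h = h' * (h'⁻¹ * h) := by group
        rw [this]
        exact Subgroup.mul_mem _ hh'C (hcenter_le hc)
      have hh4m : h ^ (4 * m) = 1 := by
        have : (⟨h, hhC⟩ : Subgroup.centralizer ({(g0 : SL2)} : Set SL2)) ^ (4 * m) = 1 := by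
          rw [← hm4, ← hcardC]; exact pow_card_eq_one'
        have := congrArg Subtype.val this
        simpa using this
      have hhm : h ^ m = 1 := by
        have hd1 : orderOf h ∣ orderOf w := orderOf_dvd_of_pow_eq_one hhk
        have hd2 : orderOf h ∣ 4 * m := orderOf_dvd_of_pow_eq_one hh4m
        have hoddh : Odd (orderOf h) := Odd.of_dvd_nat hwodd hd1
        have hcop : Nat.Coprime (orderOf h) 4 := by
          have : Nat.Coprime (orderOf h) 2 := Nat.coprime_two_right.mpr hoddh
          exact Nat.Coprime.pow_right 2 this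
        have hd3 : orderOf h ∣ m := hcop.dvd_of_dvd_mul_left hd2
        exact orderOf_dvd_iff_pow_eq_one.mp hd3
      refine ⟨⟨⟨h, hhC⟩, Subtype.ext (by simpa using hhm)⟩, ?_⟩
      apply Subtype.ext
      exact hhw
  rw [← Nat.card_eq_of_bijective f hbij, hK, hm4]

/-- **REE-C1** -/
theorem card_odd_PSL2 {F : Type*} [Field F] [Fintype F] (hq : Fintype.card F % 8 = 3) :
    4 * Nat.card {g : Matrix.ProjectiveSpecialLinearGroup (Fin 2) F // Odd (orderOf g)} =
      3 * Nat.card (Matrix.ProjectiveSpecialLinearGroup (Fin 2) F) := by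
  have hodd : Odd (Fintype.card F) := by
    rw [Nat.odd_iff]; omega
  have h2sq : ¬ IsSquare (2 : F) := by
    rw [FiniteField.isSquare_two_iff]
    omega
  set a : Matrix.ProjectiveSpecialLinearGroup (Fin 2) F :=
    QuotientGroup.mk (g0 : Matrix.SpecialLinearGroup (Fin 2) F) with ha
  have hB := Cfsg.Agent.Lib.H29.Ree.card_even_order a mk_g0_ne_one (mk_sq_of_sq _ g0_sq)
    (fun v hv1 hv2 => involution_conj hodd v hv1 hv2)
    (fun x hx => by
      have := Cfsg.Agent.Lib.H2.PSL2Klein.psl_sq_of_pow_four h2sq x hx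
      rwa [pow_two] at this)
  rw [card_centralizer_involution_PSL2 (by omega) a mk_g0_ne_one (mk_sq_of_sq _ g0_sq)] at hB
  have hO := card_odd_centralizer (F := F) hq
  have hsplit : Nat.card {g : Matrix.ProjectiveSpecialLinearGroup (Fin 2) F // Odd (orderOf g)} +
      Nat.card {g : Matrix.ProjectiveSpecialLinearGroup (Fin 2) F // Even (orderOf g)} =
      Nat.card (Matrix.ProjectiveSpecialLinearGroup (Fin 2) F) := by
    classical
    have h1 : Nat.card {g : Matrix.ProjectiveSpecialLinearGroup (Fin 2) F // Odd (orderOf g)} =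
        Nat.card {g : Matrix.ProjectiveSpecialLinearGroup (Fin 2) F // ¬ Even (orderOf g)} :=
      Nat.card_congr (Equiv.subtypeEquivRight (fun g => Nat.not_even_iff_odd.symm))
    rw [h1, add_comm, ← Nat.card_sum]
    exact Nat.card_congr (Equiv.sumCompl _)
  -- arithmetic
  set E := Nat.card {g : Matrix.ProjectiveSpecialLinearGroup (Fin 2) F // Even (orderOf g)} with hE
  set O := Nat.card {g : Matrix.ProjectiveSpecialLinearGroup (Fin 2) F // Odd (orderOf g)} with hOdef
  set N := Nat.card (Matrix.ProjectiveSpecialLinearGroup (Fin 2) F) with hNdef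
  set W := Nat.card {w : Matrix.ProjectiveSpecialLinearGroup (Fin 2) F // w * a = a * w ∧ Odd (orderOf w)} with hW
  -- hB : E * (q+1) = N * W ; hO : 4 * W = q + 1
  have h4E : 4 * E = N := by
    have : (4 * E) * W = N * W := by
      calc (4 * E) * W = E * (4 * W) := by ring
        _ = E * (Fintype.card F + 1) := by rw [hO]
        _ = N * W := hB
    have hW0 : 0 < W := by
      by_contra h0
      have : W = 0 := by omega
      rw [this] at hO
      omega
    exact Nat.eq_of_mul_eq_mul_right hW0 this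
  omega

end Cfsg.Agent.Lib.H2.Ree
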