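import Mathlib
import Cfsg.Prelude.Def_SubgroupEmbedding
import Cfsg.Prelude.Def_CaseTheorems
import Cfsg.Agent.S3020
import Cfsg.Agent.Lib.H9.PPrimeCore
import Cfsg.Agent.Lib.H1.ZStarGen
import Cfsg.Agent.Lib.H1.PCore

/-!
# S3017 piece RED (helper2): reduction to the minimal configuration

`H` an abelian extremely closed 2-subgroup of the finite group `G`; claim `G = N_G(H) O(G)`.  Strong induction on `|G|`:
* `O(G) ≠ 1`: pass to `G / O(G)` (QUOT (b)), then Frattini.
* `O(G) = 1`, `G₀ = ⟨H^G⟩ < G`: by induction (QUOT (a)) `H ⊴ G₀` (as `O(G₀) ≤ O(G) = 1`), so `G₀` is a 2-group, every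
  `T_g = ⟨H, gHg⁻¹⟩ ≤ G₀` is a 2-group, and landed S3020 (`T_g = H O(T_g)`) gives `T_g = H`: `H ⊴ G`.
* `O(G) = 1`, a central involution `u ∈ H`: pass to `G / ⟨u⟩` (QUOT (c)); `O(G/⟨u⟩) = 1` (landed), so `H/⟨u⟩ ⊴ G/⟨u⟩`.
* otherwise: the minimal configuration `hmin`.
The three QUOT facts are explicit hypotheses.
-/

set_option autoImplicit false

namespace Cfsg.Agent.Lib.H2.SH

open Cfsg

universe u

/-- the statement of S3017 for all groups (of the same universe) of smaller order -/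
def SmallerOK (G : Type u) [Group G] : Prop :=
  ∀ (G' : Type u) [Group G'] [Finite G'], Nat.card G' < Nat.card G → ∀ H' : Subgroup G',
    IsPGroup 2 H' → IsMulCommutative H' → IsExtremelyClosed H' →
    Subgroup.normalizer (H' : Set G') ⊔ oddCore G' = ⊤

/-- QUOT (a) -/
def QSub : Prop :=
  ∀ (G : Type u) [Group G] [Finite G] (H M : Subgroup G), H ≤ M → IsExtremelyClosed H →
    IsExtremelyClosed (H.subgroupOf M)

/-- QUOT (b) -/
def QOdd : Prop :=
  ∀ (G : Type u) [Group G] [Finite G] (H X : Subgroup G) [X.Normal], (Nat.card X).Coprime 2 →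
    IsPGroup 2 H → IsMulCommutative H → IsExtremelyClosed H →
    IsExtremelyClosed (H.map (QuotientGroup.mk' X))

/-- QUOT (c) -/
def QCen : Prop :=
  ∀ (G : Type u) [Group G] [Finite G] (H Z : Subgroup G) [Z.Normal], Z ≤ H →
    IsPGroup 2 H → IsMulCommutative H → IsExtremelyClosed H →
    IsExtremelyClosed (H.map (QuotientGroup.mk' Z))

section steps

variable {G : Type u} [Group G] [Finite G]

theorem card_quotient_lt (X : Subgroup G) [X.Normal] (hX : X ≠ ⊥) :
    Nat.card (G ⧸ X) < Nat.card G := by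
  rw [← Subgroup.index_eq_card, ← Subgroup.card_mul_index X]
  have h1 : 1 < Nat.card X := by
    rw [Finite.one_lt_card_iff_nontrivial]
    exact (Subgroup.nontrivial_iff_ne_bot X).mpr hX
  have h2 : 0 < X.index := Nat.pos_of_ne_zero (Subgroup.index_ne_zero_of_finite)
  nlinarith

/-- (ii): `O(G) ≠ 1`. -/
theorem step_oddCore (hquot : QOdd.{u}) (IH : SmallerOK G) (H : Subgroup G) (hH2 : IsPGroup 2 H)
    (hHab : IsMulCommutative H) (hcl : IsExtremelyClosed H) (hO : oddCore G ≠ ⊥) :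
    Subgroup.normalizer (H : Set G) ⊔ oddCore G = ⊤ := by
  have hp2 : Fact (Nat.Prime 2) := ⟨Nat.prime_two⟩
  set X : Subgroup G := oddCore G with hX
  have hXn : X.Normal := Cfsg.Agent.Lib.H22.pPrimeCore_normal 2
  have hXc : (Nat.card X).Coprime 2 := Cfsg.Agent.Lib.H22.card_pPrimeCore_coprime 2
  have hlt := card_quotient_lt X hO
  set π := QuotientGroup.mk' X with hπ
  have hb := IH (G ⧸ X) hlt (H.map π) (hH2.map π) inferInstance (hquot G H X hXc hH2 hHab hcl)
  have hbot : oddCore (G ⧸ X) = ⊥ := Cfsg.Agent.Lib.H9.pPrimeCore_quotient_eq_bot 2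
  rw [hbot, sup_bot_eq, Subgroup.normalizer_eq_top_iff] at hb
  -- `N = H X` is normal
  set N : Subgroup G := (H.map π).comap π with hN
  have hNn : N.Normal := Subgroup.Normal.comap hb π
  have hNeq : N = H ⊔ X := by
    rw [hN, Subgroup.comap_map_eq, QuotientGroup.ker_mk']
  have hHN : H ≤ N := by rw [hNeq]; exact le_sup_left
  -- `H` is a Sylow 2-subgroup of `N`
  have hH' : IsPGroup 2 (H.subgroupOf N) := hH2.comap_subtype
  have hidx : ¬ 2 ∣ (H.subgroupOf N).index := by
    intro h2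
    have h1 : Nat.card (H.subgroupOf N) * (H.subgroupOf N).index = Nat.card N :=
      Subgroup.card_mul_index _
    have h3 : Nat.card (H.subgroupOf N) = Nat.card H :=
      Nat.card_congr (Subgroup.subgroupOfEquivOfLe hHN).toEquiv
    have h4 : Nat.card N ∣ Nat.card H * Nat.card X := by
      rw [hNeq]
      exact Cfsg.Agent.Lib.H22.card_sup_dvd_mul H X
    rw [← h1, h3] at h4
    have h5 : (H.subgroupOf N).index ∣ Nat.card X :=
      Nat.dvd_of_mul_dvd_mul_left Nat.card_pos h4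
    have h6 : 2 ∣ Nat.card X := h2.trans h5
    have h7 := Nat.Coprime.eq_one_of_dvd hXc.symm h6
    omega
  have hfr := Sylow.normalizer_sup_eq_top (hH'.toSylow hidx)
  have h8 : ((hH'.toSylow hidx : Sylow 2 ↥N) : Subgroup ↥N).map N.subtype = H := by
    rw [IsPGroup.toSylow_coe, Subgroup.subgroupOf_map_subtype, inf_of_le_left hHN]
  rw [h8, hNeq, ← sup_assoc, sup_of_le_left Subgroup.le_normalizer] at hfr
  exact hfr

/-- a 2-group has trivial odd core -/
theorem oddCore_eq_bot_of_isPGroup {T : Type u} [Group T] [Finite T] (hT : IsPGroup 2 T) :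
    pPrimeCore 2 T = ⊥ := by
  have hp2 : Fact (Nat.Prime 2) := ⟨Nat.prime_two⟩
  have h1 : (Nat.card (pPrimeCore 2 T)).Coprime 2 := Cfsg.Agent.Lib.H22.card_pPrimeCore_coprime 2
  have h2 : IsPGroup 2 (pPrimeCore 2 T) := hT.to_subgroup _
  obtain ⟨k, hk⟩ := h2.exists_card_eq
  rw [hk] at h1
  rcases Nat.eq_zero_or_pos k with rfl | hkpos
  · rw [pow_zero] at hk
    exact Subgroup.card_eq_one.mp hk
  · exfalso
    have h3 : (2 : ℕ) ∣ 2 ^ k := dvd_pow_self 2 hkpos.ne'
    have h4 := Nat.Coprime.eq_one_of_dvd h1.symm h3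
    omega

/-- (iii): `O(G) = 1` and `⟨H^G⟩ < G`. -/
theorem step_normalClosure (hsub : QSub.{u}) (IH : SmallerOK G) (H : Subgroup G)
    (hH2 : IsPGroup 2 H) (hHab : IsMulCommutative H) (hcl : IsExtremelyClosed H)
    (hO : oddCore G = ⊥) (hNC : Subgroup.normalClosure (H : Set G) ≠ ⊤) : H.Normal := by
  have hp2 : Fact (Nat.Prime 2) := ⟨Nat.prime_two⟩
  set G0 : Subgroup G := Subgroup.normalClosure (H : Set G) with hG0
  have hG0n : G0.Normal := Subgroup.normalClosure_normal
  have hHG0 : H ≤ G0 := Subgroup.le_normalClosure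
  have hlt : Nat.card ↥G0 < Nat.card G := by
    rw [← Subgroup.card_mul_index G0]
    have h1 : 0 < Nat.card G0 := Nat.card_pos
    have h2 : G0.index ≠ 1 := fun h => hNC (Subgroup.index_eq_one.1 h)
    have h3 : 0 < G0.index := Nat.pos_of_ne_zero (Subgroup.index_ne_zero_of_finite)
    have h4 : 2 ≤ G0.index := by omega
    nlinarith
  have hb := IH ↥G0 hlt (H.subgroupOf G0) hH2.comap_subtype inferInstance (hsub G H G0 hHG0 hcl)
  have hbot : oddCore ↥G0 = ⊥ := by
    have h1 := Cfsg.Agent.Lib.H9.pPrimeCore_subnormal_le 2 hG0n.isSubnormal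
    have h2 : (pPrimeCore 2 ↥G0).map G0.subtype = ⊥ := by
      rw [eq_bot_iff]
      refine h1.trans ?_
      show oddCore G ≤ ⊥
      rw [hO]
    exact (Subgroup.map_eq_bot_iff_of_injective _ G0.subtype_injective).1 h2
  rw [hbot, sup_bot_eq, Subgroup.normalizer_eq_top_iff] at hb
  -- `G₀` is a 2-group
  have hQchar := Cfsg.Agent.Lib.H1.pCore_characteristic 2 ↥G0
  have hQ'n : ((pCore 2 ↥G0).map G0.subtype).Normal :=
    ConjAct.normal_of_characteristic_of_normal
  have hHQ : H ≤ (pCore 2 ↥G0).map G0.subtype := by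
    have h1 : H.subgroupOf G0 ≤ pCore 2 ↥G0 := Cfsg.Agent.Lib.H1.le_pCore hb hH2.comap_subtype
    have h2 := Subgroup.map_mono (f := G0.subtype) h1
    rwa [Subgroup.subgroupOf_map_subtype, inf_of_le_left hHG0] at h2
  have hG0Q : G0 ≤ (pCore 2 ↥G0).map G0.subtype :=
    Subgroup.normalClosure_le_normal hHQ
  have hG0p : IsPGroup 2 ↥G0 := by
    have h1 : IsPGroup 2 ↥((pCore 2 ↥G0).map G0.subtype) :=
      (Cfsg.Agent.Lib.H1.pCore_isPGroup 2 ↥G0).map _
    exact h1.to_le hG0Q
  -- every `T_g` is a 2-group, so `T_g = H`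
  refine ⟨fun x hx g => ?_⟩
  set T : Subgroup G := H ⊔ H.map (MulAut.conj g).toMonoidHom with hT
  have hconj : H.map (MulAut.conj g).toMonoidHom ≤ G0 := by
    rintro _ ⟨y, hy, rfl⟩
    exact hG0n.conj_mem y (hHG0 hy) g
  have hTG0 : T ≤ G0 := sup_le hHG0 hconj
  have hTp : IsPGroup 2 ↥T := hG0p.to_le hTG0
  have h3020 := (Cfsg.Agent.S3020.result H hH2 hHab hcl g T hT).1
  rw [oddCore_eq_bot_of_isPGroup hTp, Subgroup.map_bot, sup_bot_eq] at h3020
  have h1 : g * x * g⁻¹ ∈ T :=
    (le_sup_right : H.map (MulAut.conj g).toMonoidHom ≤ T) ⟨x, hx, rfl⟩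
  rw [← h3020] at h1
  exact h1

/-- (iv): `O(G) = 1` and `H ∩ Z(G) ≠ 1`. -/
theorem step_center (hcen : QCen.{u}) (IH : SmallerOK G) (H : Subgroup G)
    (hH2 : IsPGroup 2 H) (hHab : IsMulCommutative H) (hcl : IsExtremelyClosed H)
    (hO : oddCore G = ⊥) (hZ : H ⊓ Subgroup.center G ≠ ⊥) : H.Normal := by
  have hp2 : Fact (Nat.Prime 2) := ⟨Nat.prime_two⟩
  -- an involution `u ∈ H ∩ Z(G)`
  set A : Subgroup G := H ⊓ Subgroup.center G with hA
  have hAp : IsPGroup 2 ↥A := hH2.to_le inf_le_left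
  obtain ⟨k, hk⟩ := hAp.exists_card_eq
  have hk0 : k ≠ 0 := by
    rintro rfl
    rw [pow_zero] at hk
    exact hZ (Subgroup.card_eq_one.mp hk)
  have h2A : 2 ∣ Nat.card ↥A := by rw [hk]; exact dvd_pow_self 2 hk0
  obtain ⟨u', hu'⟩ := exists_prime_orderOf_dvd_card' 2 h2A
  set u : G := (u' : G) with hu
  have hu2 : orderOf u = 2 := by rw [hu, Subgroup.orderOf_coe]; exact hu'
  have huH : u ∈ H := (inf_le_left : A ≤ H) u'.2
  have huZ : u ∈ Subgroup.center G := (inf_le_right : A ≤ Subgroup.center G) u'.2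
  have hZn : (Subgroup.zpowers u).Normal := by
    refine ⟨fun x hx g => ?_⟩
    have hxZ : x ∈ Subgroup.center G := (Subgroup.zpowers_le.2 huZ) hx
    have h1 : g * x * g⁻¹ = x := by
      rw [Subgroup.mem_center_iff] at hxZ
      rw [hxZ g]
      group
    rw [h1]
    exact hx
  have hZH : Subgroup.zpowers u ≤ H := Subgroup.zpowers_le.2 huH
  have hZne : Subgroup.zpowers u ≠ ⊥ := by
    intro h
    have h1 : u = 1 := Subgroup.zpowers_eq_bot.1 h
    rw [h1, orderOf_one] at hu2
    omega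
  have hlt := card_quotient_lt (Subgroup.zpowers u) hZne
  set π := QuotientGroup.mk' (Subgroup.zpowers u) with hπ
  have hb := IH (G ⧸ Subgroup.zpowers u) hlt (H.map π) (hH2.map π) inferInstance
    (hcen G H (Subgroup.zpowers u) hZH hH2 hHab hcl)
  have hbot : oddCore (G ⧸ Subgroup.zpowers u) = ⊥ :=
    Cfsg.Agent.Lib.H1.ZStarGen.oddCore_quotient_eq_bot hO u hu2
  rw [hbot, sup_bot_eq, Subgroup.normalizer_eq_top_iff] at hb
  have hNn : ((H.map π).comap π).Normal := Subgroup.Normal.comap hb π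
  have hNeq : (H.map π).comap π = H := by
    rw [Subgroup.comap_map_eq, QuotientGroup.ker_mk', sup_of_le_left hZH]
  rw [hNeq] at hNn
  exact hNn

end steps

/-- **RED** (S3017): it suffices to show `H ⊴ G` in the minimal configuration. -/
theorem red (hsub : QSub.{u}) (hquot : QOdd.{u}) (hcen : QCen.{u})
    (hmin : ∀ (G : Type u) [Group G] [Finite G] (H : Subgroup G), IsPGroup 2 H →
      IsMulCommutative H → IsExtremelyClosed H → SmallerOK G → oddCore G = ⊥ →
      Subgroup.normalClosure (H : Set G) = ⊤ → H ⊓ Subgroup.center G = ⊥ → H.Normal) :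
    ∀ (G : Type u) [Group G] [Finite G] (H : Subgroup G), IsPGroup 2 H → IsMulCommutative H →
      IsExtremelyClosed H → Subgroup.normalizer (H : Set G) ⊔ oddCore G = ⊤ := by
  have key : ∀ n : ℕ, ∀ (G : Type u) [Group G] [Finite G], Nat.card G = n → ∀ H : Subgroup G,
      IsPGroup 2 H → IsMulCommutative H → IsExtremelyClosed H →
      Subgroup.normalizer (H : Set G) ⊔ oddCore G = ⊤ := by
    intro n
    induction n using Nat.strong_induction_on with
    | _ n ih =>
    intro G _ _ hn H hH2 hHab hcl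
    have IH : SmallerOK G := fun G' _ _ hlt H' h1 h2 h3 => ih _ (hn ▸ hlt) G' rfl H' h1 h2 h3
    by_cases hO : oddCore G = ⊥
    · have hnorm : H.Normal := by
        by_cases hNC : Subgroup.normalClosure (H : Set G) = ⊤
        · by_cases hZ : H ⊓ Subgroup.center G = ⊥
          · exact hmin G H hH2 hHab hcl IH hO hNC hZ
          · exact step_center hcen IH H hH2 hHab hcl hO hZ
        · exact step_normalClosure hsub IH H hH2 hHab hcl hO hNC
      rw [Subgroup.normalizer_eq_top_iff.2 hnorm, top_sup_eq]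
    · exact step_oddCore hquot IH H hH2 hHab hcl hO
  intro G _ _ H hH2 hHab hcl
  exact key _ G rfl H hH2 hHab hcl

end Cfsg.Agent.Lib.H2.SH
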