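import Cfsg.Agent.Lib.H13.HSDefs2
import Cfsg.Agent.Lib.H1.HSP1

/-!
# S2535 stage 2, piece A0 ALTBASIC (architect helper13): small facts on `altSub` and `IsPiHallOf`.
-/

namespace Cfsg.Agent.Lib.H2.HS
open Equiv MulAction Cfsg.Agent.Lib.H13.HS
open scoped Pointwise

section A0
variable {α : Type*} [Finite α] {π : Set ℕ}

instance altSub_normal : (altSub α).Normal := by
  unfold altSub
  infer_instance

theorem altSub_index (h : 2 ≤ Nat.card α) : (altSub α).index = 2 := by
  have : Nontrivial α := Finite.one_lt_card_iff_nontrivial.mp (by omega)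
  unfold altSub
  exact @alternatingGroup.index_eq_two α (Fintype.ofFinite α) (Classical.decEq α) this

theorem swap_notMem_altSub [DecidableEq α] {x y : α} (h : x ≠ y) : Equiv.swap x y ∉ altSub α := by
  let _ : Fintype α := Fintype.ofFinite α
  rw [altSub_eq, Equiv.Perm.mem_alternatingGroup, Equiv.Perm.sign_swap h]
  decide

theorem isThreeCycle_mem_altSub [Fintype α] [DecidableEq α] {g : Perm α} (h : g.IsThreeCycle) :
    g ∈ altSub α := by
  rw [altSub_eq]
  exact h.mem_alternatingGroup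

theorem mem_altSub_mul_swap [DecidableEq α] {g : Perm α} {x y : α} (h : x ≠ y)
    (hg : g ∉ altSub α) : g * Equiv.swap x y ∈ altSub α := by
  let _ : Fintype α := Fintype.ofFinite α
  rw [altSub_eq, Equiv.Perm.mem_alternatingGroup] at hg ⊢
  rw [map_mul, Equiv.Perm.sign_swap h]
  rcases Int.units_eq_one_or (Equiv.Perm.sign g) with h1 | h1
  · exact absurd h1 hg
  · rw [h1]; decide

theorem hallOf_iff {G : Type*} [Group G] {M A : Subgroup G} :
    Cfsg.IsPiHallOf π M A ↔ M ≤ A ∧ Cfsg.IsPiHall π (M.subgroupOf A) := by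
  unfold Cfsg.IsPiHallOf Cfsg.IsPiHall
  constructor
  · rintro ⟨hle, h1, h2⟩
    have hc : Nat.card (M.subgroupOf A) = Nat.card M :=
      Nat.card_congr (Subgroup.subgroupOfEquivOfLe hle).toEquiv
    refine ⟨hle, ?_, ?_⟩
    · intro p hp hpd
      rw [hc] at hpd
      exact h1 p hp hpd
    · intro p hp hpπ
      exact h2 p hp hpπ
  · rintro ⟨hle, h1, h2⟩
    have hc : Nat.card (M.subgroupOf A) = Nat.card M :=
      Nat.card_congr (Subgroup.subgroupOfEquivOfLe hle).toEquiv
    refine ⟨hle, ?_, ?_⟩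
    · intro p hp hpd
      rw [← hc] at hpd
      exact h1 p hp hpd
    · intro p hp hpπ
      exact h2 p hp hpπ

theorem altHall_inf {H : Subgroup (Perm α)} (hH : Cfsg.IsPiHall π H) :
    Cfsg.IsPiHallOf π (H ⊓ altSub α) (altSub α) := by
  rw [hallOf_iff]
  refine ⟨inf_le_right, ?_⟩
  rw [Subgroup.inf_subgroupOf_right]
  exact Cfsg.Agent.Lib.H1.HS.hall_inf_normal hH (altSub α)

theorem hall_of_altHall_of_two_notMem {M : Subgroup (Perm α)} (h2 : 2 ∉ π)
    (hM : Cfsg.IsPiHallOf π M (altSub α)) : Cfsg.IsPiHall π M := by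
  obtain ⟨hle, h1, h3⟩ := hM
  refine ⟨h1, ?_⟩
  intro p hp hpπ hpd
  have hidx : M.index = M.relIndex (altSub α) * (altSub α).index :=
    (Subgroup.relIndex_mul_index hle).symm
  rw [hidx] at hpd
  rcases (Nat.Prime.dvd_mul hp).mp hpd with hd | hd
  · exact h3 p hp hpπ hd
  · by_cases hc : 2 ≤ Nat.card α
    · rw [altSub_index hc] at hd
      have : p = 2 := (Nat.prime_dvd_prime_iff_eq hp Nat.prime_two).mp hd
      exact h2 (this ▸ hpπ)
    · have hsub : Subsingleton α := by
        rw [← Finite.card_le_one_iff_subsingleton]; omega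
      have htop : altSub α = ⊤ := by
        rw [eq_top_iff]
        intro g _
        have : g = 1 := Subsingleton.elim _ _
        rw [this]; exact Subgroup.one_mem _
      rw [htop, Subgroup.index_top] at hd
      exact hp.one_lt.ne' (Nat.dvd_one.mp hd)

theorem hallOf_eq_of_le {G : Type*} [Group G] [Finite G] {M M' A : Subgroup G}
    (hM : Cfsg.IsPiHallOf π M A) (hM' : Cfsg.IsPiHallOf π M' A) (h : M ≤ M') : M = M' := by
  have h1 := (hallOf_iff.mp hM).2
  have hle : M ≤ A := hM.1
  have hle' : M' ≤ A := hM'.1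
  have hsub : M.subgroupOf A ≤ M'.subgroupOf A := by
    intro x hx
    exact h hx
  have hK : PiNum π (Nat.card (M'.subgroupOf A)) := (hallOf_iff.mp hM').2.1
  have heq := Cfsg.Agent.Lib.H1.HS.hall_eq_of_le h1 hsub hK
  apply le_antisymm h
  intro x hx
  have hxA : x ∈ A := hle' hx
  have : (⟨x, hxA⟩ : A) ∈ M'.subgroupOf A := hx
  rw [← heq] at this
  exact this

end A0

end Cfsg.Agent.Lib.H2.HS
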