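import Cfsg.Agent.Lib.H13.HSDefs2

/-!
# S2535 stage 2, piece A1 (architect helper13): `alt_few`, `hall_top_of_full`, `card_dvd_of_transitive`.
-/

namespace Cfsg.Agent.Lib.H2.HS
open Equiv MulAction Cfsg.Agent.Lib.H13.HS
open scoped Pointwise

/-- a prime dividing the order of a subgroup of `Perm α` is at most `Nat.card α`. -/
theorem prime_le_of_dvd_card_subgroup {α : Type*} [Finite α] (K : Subgroup (Perm α)) {p : ℕ}
    (hp : p.Prime) (h : p ∣ Nat.card K) : p ≤ Nat.card α := by
  have h1 : Nat.card K ∣ Nat.card (Perm α) := Subgroup.card_subgroup_dvd_card K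
  rw [Nat.card_perm] at h1
  exact (Nat.Prime.dvd_factorial hp).mp (dvd_trans h h1)

theorem alt_few {α : Type*} [Finite α] {π : Set ℕ} (hfew : Few π (Nat.card α))
    {M : Subgroup (Perm α)} (hM : Cfsg.IsPiHallOf π M (altSub α)) :
    ∃ M₀ : Subgroup (Perm α), Cfsg.IsPiHall π M₀ ∧ M ≤ M₀ := by
  classical
  obtain ⟨_, h1, _⟩ := hM
  by_cases hex : ∃ r : ℕ, r.Prime ∧ r ∈ π ∧ r ≤ Nat.card α
  · obtain ⟨r, hr, hrπ, hrn⟩ := hex
    have : Fact r.Prime := ⟨hr⟩
    have hall : ∀ {d : ℕ}, d.Prime → d ∣ Nat.card M → d = r := by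
      intro d hd hdd
      exact hfew d r hd hr (h1 d hd hdd) hrπ (prime_le_of_dvd_card_subgroup M hd hdd) hrn
    have hcard : Nat.card M = r ^ (Nat.card M).primeFactorsList.length :=
      Nat.eq_prime_pow_of_unique_prime_dvd Nat.card_pos.ne' hall
    have hpg : IsPGroup r M := IsPGroup.of_card hcard
    obtain ⟨P, hP⟩ := hpg.exists_le_sylow
    refine ⟨P, ⟨?_, ?_⟩, hP⟩
    · intro p hp hpd
      rw [P.card_eq_multiplicity] at hpd
      have : p = r := (Nat.prime_dvd_prime_iff_eq hp hr).mp (hp.dvd_of_dvd_pow hpd)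
      exact this ▸ hrπ
    · intro p hp hpπ hpd
      have hpn : p ≤ Nat.card α := by
        have h2 : (P : Subgroup (Perm α)).index ∣ Nat.card (Perm α) := Subgroup.index_dvd_card _
        rw [Nat.card_perm] at h2
        exact (Nat.Prime.dvd_factorial hp).mp (dvd_trans hpd h2)
      have : p = r := hfew p r hp hr hpπ hrπ hpn hrn
      subst this
      exact P.not_dvd_index hpd
  · push Not at hex
    have hcard : Nat.card M = 1 := by
      by_contra hne
      obtain ⟨p, hp, hpd⟩ := Nat.exists_prime_and_dvd hne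
      exact absurd (prime_le_of_dvd_card_subgroup M hp hpd) (not_le.mpr (hex p hp (h1 p hp hpd)))
    have hbot : M = ⊥ := Subgroup.eq_bot_of_card_eq M hcard
    refine ⟨⊥, ⟨?_, ?_⟩, hbot.le⟩
    · intro p hp hpd
      rw [Subgroup.card_bot] at hpd
      exact absurd (Nat.dvd_one.mp hpd) hp.one_lt.ne'
    · intro p hp hpπ hpd
      rw [Subgroup.index_bot, Nat.card_perm] at hpd
      exact absurd ((Nat.Prime.dvd_factorial hp).mp hpd) (not_le.mpr (hex p hp hpπ))

theorem hall_top_of_full {α : Type*} [Finite α] {π : Set ℕ} (h : Full π (Nat.card α)) :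
    Cfsg.IsPiHall π (⊤ : Subgroup (Perm α)) := by
  refine ⟨?_, ?_⟩
  · intro p hp hpd
    exact h p hp (prime_le_of_dvd_card_subgroup ⊤ hp hpd)
  · intro p hp _ hpd
    rw [Subgroup.index_top] at hpd
    exact absurd (Nat.dvd_one.mp hpd) hp.one_lt.ne'

theorem card_dvd_of_transitive {α : Type*} [Finite α] [Nonempty α] (M : Subgroup (Perm α))
    (htr : IsPretransitive M α) : Nat.card α ∣ Nat.card M := by
  obtain ⟨a⟩ := ‹Nonempty α›
  have h1 : (stabilizer M a).index = Nat.card α := MulAction.index_stabilizer_of_transitive M a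
  rw [← h1]
  exact Subgroup.index_dvd_card _

end Cfsg.Agent.Lib.H2.HS
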