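import Mathlib
import Cfsg.Prelude.Def_LieExceptional
import Cfsg.Agent.Lib.H2.Sz11

set_option autoImplicit false
set_option linter.unusedSimpArgs false
set_option linter.unusedSectionVars false

namespace Cfsg.Agent.Lib.H2.Sz

open Matrix Cfsg Projectivization MulAction
open scoped Pointwise commutatorElement

variable {F : Type*} [Field F] {m : ℕ} [Fintype F] (h : Fld F m)

include h

theorem TS_le_stabilizer :
    TS h ≤ stabilizer (Sz F m) (pinf : Projectivization F (Fin 4 → F)) := by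
  rintro t ⟨a, b, hab⟩
  rw [mem_stabilizer_iff, Sz_smul_def h, hab, T_smul_pinf]

/-- a subgroup containing the translations and moving `∞` is transitive on the ovoid -/
theorem exists_mem_smul_pinf_eq {H : Subgroup (Sz F m)} (hT : TS h ≤ H) {x : Sz F m}
    (hx : x ∈ H) (hx' : x • (pinf : Projectivization F (Fin 4 → F)) ≠ pinf) (g : Sz F m) :
    ∃ y ∈ H, y • (pinf : Projectivization F (Fin 4 → F)) = g • pinf := by
  have hgp : g • (pinf : Projectivization F (Fin 4 → F)) ∈ suzukiOvoid F m :=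
    smul_mem_of_mem_Sz g.2 pinf_mem
  rcases (mem_ovoid_iff _).1 hgp with h1 | ⟨x', y', h1⟩
  · exact ⟨1, H.one_mem, by rw [one_smul, h1]⟩
  · have hxp : x • (pinf : Projectivization F (Fin 4 → F)) ∈ suzukiOvoid F m :=
      smul_mem_of_mem_Sz x.2 pinf_mem
    rcases (mem_ovoid_iff _).1 hxp with h2 | ⟨x₀, y₀, h2⟩
    · exact absurd h2 hx'
    · refine ⟨(tS h x' y' : Sz F m) * (tS h x₀ y₀ : Sz F m)⁻¹ * x,
        H.mul_mem (H.mul_mem (hT (tS h x' y').2) (H.inv_mem (hT (tS h x₀ y₀).2))) hx, ?_⟩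
      rw [mul_smul, mul_smul, h2, h1]
      show T m x' y' • (T m x₀ y₀)⁻¹ • pt m x₀ y₀ = pt m x' y'
      rw [T_inv_smul_pt h, T_smul_pt_zero h]

theorem stabilizer_pinf_ne_top :
    stabilizer (Sz F m) (pinf : Projectivization F (Fin 4 → F)) ≠ ⊤ := by
  intro htop
  have : (⟨W, W_mem h⟩ : Sz F m) ∈ stabilizer (Sz F m) (pinf : Projectivization F (Fin 4 → F)) := by
    rw [htop]
    trivial
  rw [mem_stabilizer_iff, Sz_smul_def h] at this
  have h2 : (W : SpecialLinearGroup (Fin 4) F) • pinf = pt m (0 : F) 0 := W_smul_pinf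
  rw [h2] at this
  exact pt_ne_pinf _ _ this

theorem isCoatom_stabilizer_pinf :
    IsCoatom (stabilizer (Sz F m) (pinf : Projectivization F (Fin 4 → F))) := by
  refine ⟨stabilizer_pinf_ne_top h, fun H hH => ?_⟩
  obtain ⟨x, hxH, hx⟩ := SetLike.exists_of_lt hH
  rw [mem_stabilizer_iff] at hx
  rw [eq_top_iff]
  intro g _
  obtain ⟨y, hy, hyg⟩ := exists_mem_smul_pinf_eq h ((TS_le_stabilizer h).trans hH.le) hxH hx g
  have h1 : y⁻¹ * g ∈ stabilizer (Sz F m) (pinf : Projectivization F (Fin 4 → F)) := by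
    rw [mem_stabilizer_iff, mul_smul, ← hyg, inv_smul_smul]
  have : g = y * (y⁻¹ * g) := by group
  rw [this]
  exact H.mul_mem hy (hH.le h1)

theorem TS_ne_bot : TS h ≠ ⊥ := by
  intro hbot
  have h1 : (tS h 1 0 : Sz F m) ∈ (⊥ : Subgroup (Sz F m)) := hbot ▸ (tS h 1 0).2
  rw [Subgroup.mem_bot] at h1
  have h4 : tS h (1 : F) 0 = 1 := Subtype.ext h1
  rw [tS_eq_one_iff] at h4
  exact one_ne_zero h4.1

/-- the only maximal subgroup containing the translations is the stabiliser of `∞` -/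
theorem eq_stabilizer_of_coatom (hm : 1 ≤ m) (hF : Fintype.card F = 2 ^ (2 * m + 1))
    {M : Subgroup (Sz F m)} (hM : IsCoatom M) (hT : TS h ≤ M) :
    M = stabilizer (Sz F m) (pinf : Projectivization F (Fin 4 → F)) := by
  by_cases hle : M ≤ stabilizer (Sz F m) (pinf : Projectivization F (Fin 4 → F))
  · apply eq_of_le_of_not_lt hle
    intro hlt
    exact stabilizer_pinf_ne_top h (hM.2 _ hlt)
  · exfalso
    obtain ⟨x, hxM, hx⟩ := SetLike.not_le_iff_exists.1 hle
    rw [mem_stabilizer_iff] at hx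
    have hsimple : IsSimpleGroup (Sz F m) := Cfsg.Agent.S0325.result hm hF
    have hN : Subgroup.normalClosure ((TS h : Subgroup (Sz F m)) : Set (Sz F m)) ≤ M := by
      rw [Subgroup.normalClosure, Subgroup.closure_le]
      intro c hc
      rw [Group.mem_conjugatesOfSet_iff] at hc
      obtain ⟨t, ht, htc⟩ := hc
      rw [isConj_iff] at htc
      obtain ⟨g, rfl⟩ := htc
      obtain ⟨y, hy, hyg⟩ := exists_mem_smul_pinf_eq h hT hxM hx g
      have h1 : (y⁻¹ * g) • (pinf : Projectivization F (Fin 4 → F)) = pinf := by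
        rw [mul_smul, ← hyg, inv_smul_smul]
      have h2 := conj_mem_TS_of_fix h hm hF h1 ht
      have e : g * t * g⁻¹ = y * ((y⁻¹ * g) * t * (y⁻¹ * g)⁻¹) * y⁻¹ := by group
      rw [SetLike.mem_coe, e]
      exact M.mul_mem (M.mul_mem hy (hT h2)) (M.inv_mem hy)
    have hnormal : (Subgroup.normalClosure ((TS h : Subgroup (Sz F m)) : Set (Sz F m))).Normal :=
      Subgroup.normalClosure_normal
    rcases hnormal.eq_bot_or_eq_top with h0 | h0
    · apply TS_ne_bot h
      rw [eq_bot_iff, ← h0]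
      exact Subgroup.le_normalClosure
    · apply hM.1
      rw [eq_top_iff, ← h0]
      exact hN

end Cfsg.Agent.Lib.H2.Sz
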