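import Mathlib

set_option autoImplicit false

/-!
# Two involutions: the dihedral dichotomy
-/

namespace Cfsg.Agent.Lib.H2.Dih

variable {G : Type*} [Group G]

theorem conj_pow {t u : G} (ht : t * t = 1) (_hu : u * u = 1) (n : ℕ) :
    t * (t * u) ^ n * t = (u * t) ^ n := by
  induction n with
  | zero => simp [ht]
  | succ n ih =>
    rw [pow_succ, pow_succ, ← ih]
    simp only [mul_assoc]

theorem mul_pow_mul_pow {t u : G} (ht : t * t = 1) (hu : u * u = 1) (n : ℕ) :
    (u * t) ^ n * (t * u) ^ n = 1 := by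
  have : u * t = (t * u)⁻¹ := by
    rw [eq_inv_iff_mul_eq_one]
    calc u * t * (t * u) = u * (t * t) * u := by group
      _ = 1 := by rw [ht, mul_one, hu]
  rw [this, inv_pow, inv_mul_cancel]

/-- if `t u` has odd order, some involution conjugates `t` to `u` -/
theorem exists_conj_of_odd {t u : G} (ht : t * t = 1) (hu : u * u = 1) {j : ℕ}
    (hj : (t * u) ^ (2 * j + 1) = 1) :
    ∃ τ ∈ Subgroup.closure ({t, u} : Set G), τ * τ = 1 ∧ τ * t * τ⁻¹ = u := by
  have ht_mem : t ∈ Subgroup.closure ({t, u} : Set G) := Subgroup.subset_closure (by simp)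
  have hu_mem : u ∈ Subgroup.closure ({t, u} : Set G) := Subgroup.subset_closure (by simp)
  refine ⟨t * (t * u) ^ (j + 1), Subgroup.mul_mem _ ht_mem
    (Subgroup.pow_mem _ (Subgroup.mul_mem _ ht_mem hu_mem) _), ?_, ?_⟩
  · have h1 := conj_pow ht hu (j + 1)
    calc t * (t * u) ^ (j + 1) * (t * (t * u) ^ (j + 1))
        = (t * (t * u) ^ (j + 1) * t) * (t * u) ^ (j + 1) := by group
      _ = 1 := by rw [h1, mul_pow_mul_pow ht hu]
  · have hinv : (t * (t * u) ^ (j + 1))⁻¹ = t * (t * u) ^ (j + 1) := by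
      apply inv_eq_of_mul_eq_one_left
      have h1 := conj_pow ht hu (j + 1)
      calc t * (t * u) ^ (j + 1) * (t * (t * u) ^ (j + 1))
          = (t * (t * u) ^ (j + 1) * t) * (t * u) ^ (j + 1) := by group
        _ = 1 := by rw [h1, mul_pow_mul_pow ht hu]
    rw [hinv]
    -- t r^(j+1) t t r^(j+1) = t r^(2j+2) = t r = u
    have h2 : t * (t * u) ^ (j + 1) * t * (t * (t * u) ^ (j + 1)) =
        t * ((t * u) ^ (j + 1) * (t * t) * (t * u) ^ (j + 1)) := by group
    rw [h2, ht, mul_one, ← pow_add, show j + 1 + (j + 1) = (2 * j + 1) + 1 by ring, pow_succ, hj,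
      one_mul, ← mul_assoc, ht, one_mul]

/-- if `t u` has even order `2 j` with `(t u)^j ≠ 1`, the power `(t u)^j` is a central
involution of `⟨t, u⟩` -/
theorem central_of_even {t u : G} (ht : t * t = 1) (hu : u * u = 1) {j : ℕ}
    (hj : (t * u) ^ (2 * j) = 1) :
    (t * u) ^ j * (t * u) ^ j = 1 ∧ (t * u) ^ j * t = t * (t * u) ^ j ∧
      (t * u) ^ j * u = u * (t * u) ^ j := by
  have hsq : (t * u) ^ j * (t * u) ^ j = 1 := by rw [← pow_add, ← two_mul, hj]
  have hinv : (u * t) ^ j = (t * u) ^ j := by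
    have h1 := mul_pow_mul_pow ht hu j
    have : (u * t) ^ j = ((t * u) ^ j)⁻¹ := eq_inv_of_mul_eq_one_left h1
    rw [this]
    exact inv_eq_of_mul_eq_one_left hsq
  have h1 := conj_pow ht hu j
  rw [hinv] at h1
  have hct : (t * u) ^ j * t = t * (t * u) ^ j := by
    calc (t * u) ^ j * t = (t * (t * u) ^ j * t) * t := by rw [h1]
      _ = t * (t * u) ^ j * (t * t) := by group
      _ = t * (t * u) ^ j := by rw [ht, mul_one]
  refine ⟨hsq, hct, ?_⟩
  -- u = t * (t u)
  have hu' : u = t * (t * u) := by rw [← mul_assoc, ht, one_mul]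
  calc (t * u) ^ j * u = (t * u) ^ j * (t * (t * u)) := by rw [← hu']
    _ = ((t * u) ^ j * t) * (t * u) := by group
    _ = t * (t * u) ^ j * (t * u) := by rw [hct]
    _ = t * ((t * u) * (t * u) ^ j) := by rw [mul_assoc, ← pow_succ, pow_succ']
    _ = (t * (t * u)) * (t * u) ^ j := by simp only [mul_assoc]
    _ = u * (t * u) ^ j := by rw [← hu']

/-- the dichotomy for two involutions in a finite group -/
theorem dichotomy [Finite G] {t u : G} (ht : t * t = 1) (hu : u * u = 1) :
    (∃ τ ∈ Subgroup.closure ({t, u} : Set G), τ * τ = 1 ∧ τ * t * τ⁻¹ = u) ∨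
    (∃ z ∈ Subgroup.closure ({t, u} : Set G), z ≠ 1 ∧ z * z = 1 ∧ z * t = t * z ∧ z * u = u * z) := by
  have hpos : 0 < orderOf (t * u) := orderOf_pos (t * u)
  rcases Nat.even_or_odd' (orderOf (t * u)) with ⟨j, hj | hj⟩
  · right
    have hj0 : 0 < j := by omega
    have hpow : (t * u) ^ (2 * j) = 1 := by rw [← hj]; exact pow_orderOf_eq_one _
    obtain ⟨h1, h2, h3⟩ := central_of_even ht hu hpow
    have ht_mem : t ∈ Subgroup.closure ({t, u} : Set G) := Subgroup.subset_closure (by simp)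
    have hu_mem : u ∈ Subgroup.closure ({t, u} : Set G) := Subgroup.subset_closure (by simp)
    refine ⟨(t * u) ^ j, Subgroup.pow_mem _ (Subgroup.mul_mem _ ht_mem hu_mem) _, ?_, h1, h2, h3⟩
    intro h0
    have := orderOf_dvd_of_pow_eq_one h0
    have := Nat.le_of_dvd hj0 this
    omega
  · left
    have hpow : (t * u) ^ (2 * j + 1) = 1 := by rw [← hj]; exact pow_orderOf_eq_one _
    exact exists_conj_of_odd ht hu hpow

end Cfsg.Agent.Lib.H2.Dih
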