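import Mathlib

set_option autoImplicit false

/-!
# Subfields of finite fields of characteristic two, by counting
-/

namespace Cfsg.Agent.Lib.H2.SubF

open Finset

/-- in a finite cyclic group, `x ^ d = 1` has exactly `d` solutions when `d` divides the order -/
theorem card_pow_eq_one_of_dvd {G : Type*} [Group G] [Fintype G] [DecidableEq G] [IsCyclic G]
    {d : ℕ} (hd : d ∣ Fintype.card G) : #{x : G | x ^ d = 1} = d := by
  have hd0 : d ≠ 0 := by
    rintro rfl
    rw [zero_dvd_iff] at hd
    exact Fintype.card_ne_zero hd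
  rw [← sum_card_orderOf_eq_card_pow_eq_one hd0]
  have : ∀ e ∈ d.divisors, #{x : G | orderOf x = e} = Nat.totient e := by
    intro e he
    exact IsCyclic.card_orderOf_eq_totient ((Nat.dvd_of_mem_divisors he).trans hd)
  rw [Finset.sum_congr rfl this, Nat.sum_totient]

/-- the fixed points of `x ↦ x ^ (2 ^ n)` in the field of order `2 ^ N`, `n ∣ N` -/
theorem card_fixed_pow {F : Type*} [Field F] [Fintype F] [DecidableEq F] {N n : ℕ}
    (hF : Fintype.card F = 2 ^ N) (hn : n ∣ N) :
    #{x : F | x ^ (2 ^ n) = x} = 2 ^ n := by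
  classical
  have hd : 2 ^ n - 1 ∣ Fintype.card Fˣ := by
    rw [Fintype.card_units, hF]
    exact Nat.pow_sub_one_dvd_pow_sub_one 2 hn
  have h1 := card_pow_eq_one_of_dvd (G := Fˣ) hd
  have hpos : 1 ≤ 2 ^ n := Nat.one_le_two_pow
  have hset : ({x : F | x ^ (2 ^ n) = x} : Finset F) =
      insert 0 (({k : Fˣ | k ^ (2 ^ n - 1) = 1} : Finset Fˣ).map
        ⟨Units.val, Units.val_injective⟩) := by
    ext x
    simp only [mem_filter, mem_univ, true_and, mem_insert, mem_map, Function.Embedding.coeFn_mk]
    constructor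
    · intro hx
      by_cases hx0 : x = 0
      · exact Or.inl hx0
      · right
        refine ⟨Units.mk0 x hx0, ?_, rfl⟩
        apply Units.ext
        rw [Units.val_pow_eq_pow_val, Units.val_mk0, Units.val_one]
        have h2 : x ^ (2 ^ n - 1) * x = x := by
          rw [← pow_succ, Nat.sub_add_cancel hpos, hx]
        have h3 : (x ^ (2 ^ n - 1) - 1) * x = 0 := by linear_combination h2
        rcases mul_eq_zero.1 h3 with h4 | h4
        · exact sub_eq_zero.1 h4
        · exact absurd h4 hx0
    · rintro (rfl | ⟨k, hk, rfl⟩)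
      · rw [zero_pow]
        positivity
      · have : (k : F) ^ (2 ^ n - 1) = 1 := by
          rw [← Units.val_pow_eq_pow_val, hk, Units.val_one]
        calc (k : F) ^ (2 ^ n) = (k : F) ^ (2 ^ n - 1 + 1) := by rw [Nat.sub_add_cancel hpos]
          _ = (k : F) := by rw [pow_succ, this, one_mul]
  rw [hset, card_insert_of_notMem, card_map, h1, Nat.sub_add_cancel hpos]
  simp

/-- an additive subgroup of order `2 ^ n` which is stabilised by every scalar mapping one of its
nonzero elements into it is a scalar multiple of a subfield; hence `n ∣ N` -/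
theorem dvd_of_mul_closed {F : Type*} [Field F] [Fintype F] {N n : ℕ}
    (hF : Fintype.card F = 2 ^ N) (V : AddSubgroup F) (hV : Nat.card V = 2 ^ n) (hn : 1 ≤ n)
    (hmul : ∀ c : F, c ≠ 0 → (∃ v ∈ V, v ≠ 0 ∧ c * v ∈ V) → ∀ v ∈ V, c * v ∈ V) : n ∣ N := by
  classical
  -- a nonzero element
  obtain ⟨v₀, hv₀, hv₀0⟩ : ∃ v₀ ∈ V, v₀ ≠ 0 := by
    by_contra hne
    push Not at hne
    have hbot : V = ⊥ := by
      rw [eq_bot_iff]
      intro v hv
      rw [AddSubgroup.mem_bot]
      exact hne v hv
    rw [hbot, AddSubgroup.card_bot] at hV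
    have : 2 ≤ 2 ^ n := by
      calc 2 = 2 ^ 1 := rfl
        _ ≤ 2 ^ n := Nat.pow_le_pow_right (by norm_num) hn
    omega
  let K : Subfield F :=
    { carrier := {a | a * v₀ ∈ V}
      mul_mem' := by
        intro a b ha hb
        simp only [Set.mem_ofPred_eq] at ha hb ⊢
        by_cases ha0 : a = 0
        · rw [ha0, zero_mul, zero_mul]
          exact V.zero_mem
        · rw [mul_assoc]
          exact hmul a ha0 ⟨v₀, hv₀, hv₀0, ha⟩ _ hb
      one_mem' := by
        simp only [Set.mem_ofPred_eq]
        rwa [one_mul]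
      add_mem' := by
        intro a b ha hb
        simp only [Set.mem_ofPred_eq] at ha hb ⊢
        rw [add_mul]
        exact V.add_mem ha hb
      zero_mem' := by
        simp only [Set.mem_ofPred_eq]
        rw [zero_mul]
        exact V.zero_mem
      neg_mem' := by
        intro a ha
        simp only [Set.mem_ofPred_eq] at ha ⊢
        rw [neg_mul]
        exact V.neg_mem ha
      inv_mem' := by
        intro a ha
        simp only [Set.mem_ofPred_eq] at ha ⊢
        by_cases ha0 : a = 0
        · rw [ha0, inv_zero, zero_mul]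
          exact V.zero_mem
        · apply hmul a⁻¹ (inv_ne_zero ha0) ⟨a * v₀, ha, mul_ne_zero ha0 hv₀0, ?_⟩ v₀ hv₀
          rwa [inv_mul_cancel_left₀ ha0] }
  have hK : Nat.card K = 2 ^ n := by
    rw [← hV]
    apply Nat.card_congr
    exact
      { toFun := fun a => ⟨(a : F) * v₀, a.2⟩
        invFun := fun v => ⟨(v : F) / v₀, by
          show (v : F) / v₀ * v₀ ∈ V
          rw [div_mul_cancel₀ _ hv₀0]
          exact v.2⟩
        left_inv := by
          intro a
          apply Subtype.ext
          show (a : F) * v₀ / v₀ = a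
          rw [mul_div_assoc, div_self hv₀0, mul_one]
        right_inv := by
          intro v
          apply Subtype.ext
          show (v : F) / v₀ * v₀ = v
          rw [div_mul_cancel₀ _ hv₀0] }
  have h1 := Module.natCard_eq_pow_finrank (K := K) (V := F)
  rw [Nat.card_eq_fintype_card, hF, hK, ← pow_mul] at h1
  have h2 := Nat.pow_right_injective (le_refl 2) h1
  exact ⟨_, h2⟩

end Cfsg.Agent.Lib.H2.SubF
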