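import Mathlib
import Cfsg.Prelude.Def_LieExceptional
import Cfsg.Prelude.Def_Transfer
import Cfsg.Agent.Lib.H2.Sz10
import Cfsg.Agent.Lib.H2.SubF

set_option autoImplicit false
set_option linter.unusedSimpArgs false
set_option linter.unusedSectionVars false

/-!
# Suzuki groups XIV: elementary abelian TI-subgroups
-/

namespace Cfsg.Agent.Lib.H2.Sz

open Matrix Cfsg Projectivization MulAction
open scoped Pointwise commutatorElement

variable {F : Type*} [Field F] {m : ℕ} [Fintype F] (h : Fld F m)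

include h

/-- the central translations, as elements of `Sz` -/
def t0 (b : F) : Sz F m := ⟨T m 0 b, T_mem h 0 b⟩

theorem t0_add (b b' : F) : t0 h (b + b') = t0 h b * t0 h b' := by
  apply Subtype.ext
  show T m 0 (b + b') = T m 0 b * T m 0 b'
  rw [T_mul h, θ_zero]
  congr 1 <;> ring

theorem t0_zero : t0 h (0 : F) = 1 := Subtype.ext T_zero

theorem t0_injective : Function.Injective (t0 h : F → Sz F m) := by
  intro b b' e
  exact (T_injective h (congrArg Subtype.val e)).2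

theorem t0_eq_one_iff {b : F} : t0 h b = 1 ↔ b = 0 := by
  rw [← t0_zero h]
  exact (t0_injective h).eq_iff

theorem t0_mul_self (b : F) : t0 h b * t0 h b = 1 := by
  rw [← t0_add, ← t0_zero h]
  congr 1
  linear_combination b * h.two

theorem t0_inv (b : F) : (t0 h b)⁻¹ = t0 h b := inv_eq_of_mul_eq_one_left (t0_mul_self h b)

theorem t0_comm (b b' : F) : t0 h b * t0 h b' = t0 h b' * t0 h b := by
  rw [← t0_add, ← t0_add, add_comm]

/-- conjugation of a central translation by an element of the Borel subgroup -/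
theorem conj_t0 (hm : 1 ≤ m) (hF : Fintype.card F = 2 ^ (2 * m + 1)) {x : Sz F m}
    (hx : x • (pinf : Projectivization F (Fin 4 → F)) = pinf) :
    ∃ k : Fˣ, ∀ b : F, x * t0 h b * x⁻¹ = t0 h ((k : F) * θ m (k : F) * b) := by
  obtain ⟨c, d, k, hk⟩ := exists_TD_of_fix_pinf h hm hF x.2 hx
  refine ⟨k, fun b => ?_⟩
  apply Subtype.ext
  rw [Subgroup.coe_mul, Subgroup.coe_mul, Subgroup.coe_inv, hk]
  show T m c d * D m k * T m 0 b * (T m c d * D m k)⁻¹ = T m 0 ((k : F) * θ m (k : F) * b)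
  have e1 : T m c d * D m k * T m 0 b * (T m c d * D m k)⁻¹ =
      T m c d * (D m k * T m 0 b) * (D m k)⁻¹ * (T m c d)⁻¹ := by group
  rw [e1, D_mul_T h hm hF, T_inv h, ← mul_assoc, T_mul h, mul_assoc (T m _ _), mul_inv_cancel,
    mul_one, T_mul h]
  simp only [add_zero, mul_zero]
  congr 1
  · linear_combination c * h.two
  · have h2 := h.two
    linear_combination (d + θ m c * c) * h2

theorem conj_D_t0 (hm : 1 ≤ m) (hF : Fintype.card F = 2 ^ (2 * m + 1)) (k : Fˣ) (b : F) :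
    (⟨D m k, D_mem h k⟩ : Sz F m) * t0 h b * (⟨D m k, D_mem h k⟩ : Sz F m)⁻¹ =
      t0 h ((k : F) * θ m (k : F) * b) := by
  apply Subtype.ext
  show D m k * T m 0 b * (D m k)⁻¹ = T m 0 ((k : F) * θ m (k : F) * b)
  rw [D_mul_T h hm hF, mul_assoc, mul_inv_cancel, mul_one, mul_zero]

/-- a nontrivial central translation fixes only `∞` -/
theorem eq_pinf_of_t0_smul {b : F} (hb : b ≠ 0) {p : Projectivization F (Fin 4 → F)}
    (hp : p ∈ suzukiOvoid F m) (hfix : t0 h b • p = p) : p = pinf :=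
  eq_pinf_of_T_smul h (fun h0 => hb h0.2) hp hfix

/-- the elementary abelian subgroup attached to an additive subgroup of `F` -/
def EV (V : AddSubgroup F) : Subgroup (Sz F m) where
  carrier := {g | ∃ b ∈ V, g = t0 h b}
  mul_mem' := by
    rintro _ _ ⟨b, hb, rfl⟩ ⟨b', hb', rfl⟩
    exact ⟨b + b', V.add_mem hb hb', (t0_add h b b').symm⟩
  one_mem' := ⟨0, V.zero_mem, (t0_zero h).symm⟩
  inv_mem' := by
    rintro _ ⟨b, hb, rfl⟩
    exact ⟨b, hb, t0_inv h b⟩

theorem isElementaryAbelian_EV (V : AddSubgroup F) : Cfsg.IsElementaryAbelian 2 (EV h V) := by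
  constructor
  · refine ⟨⟨?_⟩⟩
    rintro ⟨_, b, hb, rfl⟩ ⟨_, b', hb', rfl⟩
    exact Subtype.ext (t0_comm h b b')
  · rintro _ ⟨b, hb, rfl⟩
    rw [pow_two, t0_mul_self]

theorem card_EV (V : AddSubgroup F) : Nat.card (EV h V) = Nat.card V := by
  symm
  apply Nat.card_congr
  refine Equiv.ofBijective (fun v => ⟨t0 h (v : F), v, v.2, rfl⟩) ⟨?_, ?_⟩
  · intro v v' e
    exact Subtype.ext (t0_injective h (congrArg Subtype.val e))
  · rintro ⟨_, b, hb, rfl⟩
    exact ⟨⟨b, hb⟩, rfl⟩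

/-- the TI property of the subgroups attached to (multiples of) subfields -/
theorem ti_EV (hm : 1 ≤ m) (hF : Fintype.card F = 2 ^ (2 * m + 1)) (V : AddSubgroup F)
    (hV : ∀ b ∈ V, ∀ b' ∈ V, b' ≠ 0 → ∀ v ∈ V, b / b' * v ∈ V) (x : Sz F m)
    (hx : EV h V ⊓ (EV h V).map (MulAut.conj x).toMonoidHom ≠ ⊥) :
    x ∈ Subgroup.normalizer ((EV h V : Subgroup (Sz F m)) : Set (Sz F m)) := by
  obtain ⟨⟨g, hg1, hg2⟩, hgne⟩ := (Subgroup.ne_bot_iff_exists_ne_one).1 hx
  have hgne' : g ≠ 1 := fun h0 => hgne (Subtype.ext h0)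
  obtain ⟨b, hb, rfl⟩ := hg1
  obtain ⟨_, ⟨b', hb', rfl⟩, hg2⟩ := hg2
  have hg2' : x * t0 h b' * x⁻¹ = t0 h b := hg2
  have hb0 : b ≠ 0 := fun h0 => hgne' ((t0_eq_one_iff h).2 h0)
  have hb'0 : b' ≠ 0 := by
    rintro rfl
    apply hgne'
    rw [← hg2', t0_zero]
    group
  -- `x` fixes `∞`
  have hfix : x • (pinf : Projectivization F (Fin 4 → F)) = pinf := by
    have hp : x • (pinf : Projectivization F (Fin 4 → F)) ∈ suzukiOvoid F m :=
      smul_mem_of_mem_Sz x.2 pinf_mem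
    apply eq_pinf_of_t0_smul h hb0 hp
    rw [← hg2', mul_smul, mul_smul, inv_smul_smul]
    congr 1
    exact T_smul_pinf 0 b'
  obtain ⟨k, hk⟩ := conj_t0 h hm hF hfix
  have hkb : (k : F) * θ m (k : F) = b / b' := by
    rw [hk b'] at hg2'
    have := t0_injective h hg2'
    field_simp
    exact this
  apply Subgroup.mem_normalizer_fintype
  rintro _ ⟨v, hv, rfl⟩
  rw [hk v, hkb]
  exact ⟨_, hV b hb b' hb' hb'0 v hv, rfl⟩

/-- the order of an elementary abelian TI-subgroup -/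
theorem dvd_of_ti (hm : 1 ≤ m) (hF : Fintype.card F = 2 ^ (2 * m + 1)) {n : ℕ} (hn : 1 ≤ n)
    (E : Subgroup (Sz F m)) (hE : Cfsg.IsElementaryAbelian 2 E) (hcard : Nat.card E = 2 ^ n)
    (hTI : ∀ x : Sz F m, E ⊓ E.map (MulAut.conj x).toMonoidHom ≠ ⊥ →
      x ∈ Subgroup.normalizer (E : Set (Sz F m))) : n ∣ 2 * m + 1 := by
  have : Fact (Nat.Prime 2) := ⟨Nat.prime_two⟩
  have hp : IsPGroup 2 E := IsPGroup.of_card hcard
  obtain ⟨P, hEP⟩ := hp.exists_le_sylow
  obtain ⟨s, hs⟩ := exists_conj_TS h hm hF P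
  set τ : F → Sz F m := fun b => s⁻¹ * t0 h b * s with hτ
  have τ_add : ∀ b b' : F, τ (b + b') = τ b * τ b' := by
    intro b b'
    simp only [hτ]
    rw [t0_add]
    group
  have τ_zero : τ 0 = 1 := by
    simp only [hτ]
    rw [t0_zero]
    group
  have τ_inj : Function.Injective τ := by
    intro b b' e
    simp only [hτ] at e
    exact t0_injective h (mul_left_cancel (mul_right_cancel e))
  have τ_ne : ∀ b : F, b ≠ 0 → τ b ≠ 1 := by
    intro b hb e
    rw [← τ_zero] at e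
    exact hb (τ_inj e)
  let V : AddSubgroup F :=
    { carrier := {b | τ b ∈ E}
      add_mem' := by
        intro b b' hb hb'
        simp only [Set.mem_ofPred_eq] at hb hb' ⊢
        rw [τ_add]
        exact E.mul_mem hb hb'
      zero_mem' := by
        simp only [Set.mem_ofPred_eq]
        rw [τ_zero]
        exact E.one_mem
      neg_mem' := by
        intro b hb
        simp only [Set.mem_ofPred_eq] at hb ⊢
        rwa [h.neg] }
  have hVmem : ∀ b : F, b ∈ V ↔ τ b ∈ E := fun b => Iff.rfl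
  have hsurj : ∀ g ∈ E, ∃ b : F, g = τ b := by
    intro g hg
    obtain ⟨a, b, hab⟩ := (hs g).1 (hEP hg)
    have hab' : s * g * s⁻¹ = ⟨T m a b, T_mem h a b⟩ := Subtype.ext hab
    have hg2 : g ^ 2 = 1 := hE.2 g hg
    have hsq : (s * g * s⁻¹) ^ 2 = 1 := by
      have : (s * g * s⁻¹) ^ 2 = s * g ^ 2 * s⁻¹ := by rw [pow_two, pow_two]; group
      rw [this, hg2]
      group
    rw [hab', pow_two] at hsq
    have hsq' : T m a b * T m a b = 1 := congrArg Subtype.val hsq
    rw [T_mul h, ← T_zero (m := m)] at hsq'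
    obtain ⟨-, e2⟩ := T_injective h hsq'
    have ha : a = 0 := by
      have e3 : θ m a * a = 0 := by linear_combination e2 - b * h.two
      rcases mul_eq_zero.1 e3 with h4 | h4
      · exact θ_eq_zero.1 h4
      · exact h4
    subst ha
    refine ⟨b, ?_⟩
    simp only [hτ]
    have : t0 h b = s * g * s⁻¹ := hab'.symm
    rw [this]
    group
  have hV : Nat.card V = 2 ^ n := by
    rw [← hcard]
    apply Nat.card_congr
    refine Equiv.ofBijective (fun v => ⟨τ (v : F), v.2⟩) ⟨?_, ?_⟩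
    · intro v v' e
      exact Subtype.ext (τ_inj (congrArg Subtype.val e))
    · rintro ⟨g, hg⟩
      obtain ⟨b, rfl⟩ := hsurj g hg
      exact ⟨⟨b, hg⟩, rfl⟩
  apply SubF.dvd_of_mul_closed hF V hV hn
  intro c hc0 hex v' hv'
  obtain ⟨v, hv, hv0, hcv⟩ := hex
  obtain ⟨k, hk⟩ := mul_θ_surjective h c
  simp only at hk
  have hk0 : k ≠ 0 := by
    rintro rfl
    rw [zero_mul] at hk
    exact hc0 hk.symm
  set x : Sz F m := s⁻¹ * (⟨D m (Units.mk0 k hk0), D_mem h _⟩ : Sz F m) * s with hx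
  have hconj : ∀ b : F, x * τ b * x⁻¹ = τ (c * b) := by
    intro b
    simp only [hτ, hx]
    have e : s⁻¹ * (⟨D m (Units.mk0 k hk0), D_mem h _⟩ : Sz F m) * s * (s⁻¹ * t0 h b * s) *
        (s⁻¹ * (⟨D m (Units.mk0 k hk0), D_mem h _⟩ : Sz F m) * s)⁻¹ =
        s⁻¹ * ((⟨D m (Units.mk0 k hk0), D_mem h _⟩ : Sz F m) * t0 h b *
          (⟨D m (Units.mk0 k hk0), D_mem h _⟩ : Sz F m)⁻¹) * s := by group
    rw [e, conj_D_t0 h hm hF, Units.val_mk0, hk]
  have hne : E ⊓ E.map (MulAut.conj x).toMonoidHom ≠ ⊥ := by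
    intro hbot
    have hmem : τ (c * v) ∈ E ⊓ E.map (MulAut.conj x).toMonoidHom := by
      refine ⟨hcv, τ v, hv, ?_⟩
      exact hconj v
    rw [hbot, Subgroup.mem_bot] at hmem
    exact τ_ne _ (mul_ne_zero hc0 hv0) hmem
  have hxN := hTI x hne
  rw [Subgroup.mem_normalizer_iff] at hxN
  have := (hxN (τ v')).1 hv'
  rw [hconj] at this
  exact this

end Cfsg.Agent.Lib.H2.Sz
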