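import Mathlib

set_option autoImplicit false

namespace Cfsg.Agent.Lib.H2.PartArith

/-- the three torus orders of the Suzuki group, in terms of `r = 2 ^ m` -/
theorem coprime_aux {j r : ℕ} (hr : r = 2 ^ j) (hr2 : 2 ≤ r) :
    Nat.Coprime (2 * r ^ 2 - 1) (2 * r ^ 2 + 2 * r + 1) ∧
    Nat.Coprime (2 * r ^ 2 - 1) (2 * r ^ 2 - 2 * r + 1) ∧
    Nat.Coprime (2 * r ^ 2 + 2 * r + 1) (2 * r ^ 2 - 2 * r + 1) := by
  have hle : 2 * r ≤ 2 * r ^ 2 := by nlinarith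
  have h1 : 1 ≤ 2 * r ^ 2 := by nlinarith
  obtain ⟨A, hA⟩ : ∃ A, 2 * r ^ 2 = A + 1 := ⟨2 * r ^ 2 - 1, by omega⟩
  obtain ⟨C, hC⟩ : ∃ C, 2 * r ^ 2 = C + 2 * r := ⟨2 * r ^ 2 - 2 * r, by omega⟩
  have eA : 2 * r ^ 2 - 1 = A := by omega
  have eC : 2 * r ^ 2 - 2 * r + 1 = C + 1 := by omega
  have eB : 2 * r ^ 2 + 2 * r + 1 = (C + 1) + 4 * r := by omega
  rw [eA, eC]
  have hAodd : Nat.Coprime A 2 := by
    rw [Nat.coprime_two_right]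
    exact ⟨r ^ 2 - 1, by have : 1 ≤ r ^ 2 := Nat.one_le_pow _ _ (by omega); omega⟩
  have hprod : (2 * r ^ 2 + 2 * r + 1) * (C + 1) = A * (2 * r ^ 2 + 1) + 2 := by
    have e1 : (2 * r ^ 2 + 2 * r + 1) * (C + 1) = (C + 2 * r + 2 * r + 1) * (C + 1) := by
      rw [← hC]
    have e2 : A * (2 * r ^ 2 + 1) + 2 = A * (A + 1 + 1) + 2 := by rw [← hA]
    rw [e1, e2]
    have hCA : C + 2 * r = A + 1 := by omega
    -- (C + 4r + 1)(C+1) = (C + 2r + 1)^2 - 4 r^2 = (A+2)^2 - 2 (A+1)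
    have e3 : (C + 2 * r + 2 * r + 1) * (C + 1) + 4 * r ^ 2 = (C + 2 * r + 1) ^ 2 := by ring
    have e4 : 4 * r ^ 2 = 2 * (A + 1) := by omega
    rw [hCA, e4] at e3
    nlinarith
  have hcop : Nat.Coprime A ((2 * r ^ 2 + 2 * r + 1) * (C + 1)) := by
    rw [hprod]
    have : Nat.Coprime A (2 + A * (2 * r ^ 2 + 1)) := by
      rw [Nat.coprime_add_mul_left_right]
      exact hAodd
    rwa [add_comm] at this
  refine ⟨Nat.Coprime.coprime_mul_right_right hcop, Nat.Coprime.coprime_mul_left_right hcop, ?_⟩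
  rw [eB]
  have hCodd : Nat.Coprime (C + 1) 2 := by
    rw [Nat.coprime_two_right]
    exact ⟨r ^ 2 - r, by
      have : r ≤ r ^ 2 := by nlinarith
      omega⟩
  have h4r : 4 * r = 2 ^ (j + 2) := by
    rw [hr, pow_add]
    ring
  rw [h4r]
  have : Nat.Coprime (2 ^ (j + 2)) (C + 1) := (Nat.Coprime.pow_right _ hCodd).symm
  have h2 : Nat.Coprime (2 ^ (j + 2) + (C + 1)) (C + 1) := by
    rw [Nat.coprime_add_self_left]
    exact this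
  rwa [add_comm] at h2

/-- membership in the list of torus orders -/
theorem list_cases {m a : ℕ}
    (ha : a ∈ ({2 ^ (2 * m + 1) - 1, 2 ^ (2 * m + 1) + 2 ^ (m + 1) + 1,
      2 ^ (2 * m + 1) - 2 ^ (m + 1) + 1} : Set ℕ)) :
    a = 2 * (2 ^ m) ^ 2 - 1 ∨ a = 2 * (2 ^ m) ^ 2 + 2 * 2 ^ m + 1 ∨
      a = 2 * (2 ^ m) ^ 2 - 2 * 2 ^ m + 1 := by
  have e1 : 2 ^ (2 * m + 1) = 2 * (2 ^ m) ^ 2 := by
    rw [pow_succ, pow_mul', mul_comm]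
  have e2 : 2 ^ (m + 1) = 2 * 2 ^ m := by rw [pow_succ, mul_comm]
  rw [e1, e2] at ha
  simpa using ha

theorem list_odd {m a : ℕ} (hm : 1 ≤ m)
    (ha : a ∈ ({2 ^ (2 * m + 1) - 1, 2 ^ (2 * m + 1) + 2 ^ (m + 1) + 1,
      2 ^ (2 * m + 1) - 2 ^ (m + 1) + 1} : Set ℕ)) : Odd a ∧ 5 ≤ a := by
  have hr2 : 2 ≤ 2 ^ m := by
    calc 2 = 2 ^ 1 := by norm_num
      _ ≤ 2 ^ m := Nat.pow_le_pow_right (by norm_num) hm
  have hle : 2 ^ m ≤ (2 ^ m) ^ 2 := by nlinarith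
  have hle4 : 2 * 2 ^ m ≤ (2 ^ m) ^ 2 := by nlinarith
  rcases list_cases ha with rfl | rfl | rfl
  · exact ⟨⟨(2 ^ m) ^ 2 - 1, by omega⟩, by omega⟩
  · exact ⟨⟨(2 ^ m) ^ 2 + 2 ^ m, by omega⟩, by omega⟩
  · exact ⟨⟨(2 ^ m) ^ 2 - 2 ^ m, by omega⟩, by omega⟩

/-- divisibility between torus orders forces equality -/
theorem eq_of_dvd {m a c : ℕ} (hm : 1 ≤ m)
    (ha : a ∈ ({2 ^ (2 * m + 1) - 1, 2 ^ (2 * m + 1) + 2 ^ (m + 1) + 1,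
      2 ^ (2 * m + 1) - 2 ^ (m + 1) + 1} : Set ℕ))
    (hc : c ∈ ({2 ^ (2 * m + 1) - 1, 2 ^ (2 * m + 1) + 2 ^ (m + 1) + 1,
      2 ^ (2 * m + 1) - 2 ^ (m + 1) + 1} : Set ℕ)) (hac : a ∣ c) : a = c := by
  have hr2 : 2 ≤ 2 ^ m := by
    calc 2 = 2 ^ 1 := by norm_num
      _ ≤ 2 ^ m := Nat.pow_le_pow_right (by norm_num) hm
  obtain ⟨c1, c2, c3⟩ := coprime_aux (rfl : 2 ^ m = 2 ^ m) hr2
  have h5 := (list_odd hm ha).2
  have key : ∀ {x y : ℕ}, Nat.Coprime x y → a = x → c = y → a = c := by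
    intro x y hxy hx hy
    exfalso
    rw [hx, hy] at hac
    have := Nat.Coprime.eq_one_of_dvd hxy hac
    omega
  rcases list_cases ha with ea | ea | ea <;> rcases list_cases hc with ec | ec | ec
  · rw [ea, ec]
  · exact key c1 ea ec
  · exact key c2 ea ec
  · exact key c1.symm ea ec
  · rw [ea, ec]
  · exact key c3 ea ec
  · exact key c2.symm ea ec
  · exact key c3.symm ea ec
  · rw [ea, ec]

end Cfsg.Agent.Lib.H2.PartArith
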