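import Mathlib

set_option autoImplicit false

namespace Cfsg.Agent.Lib.H2.HallProd

/-- a family of pairwise coprime Hall divisors covering all primes of `Q` has product `Q` -/
theorem prod_eq_of_hall (Q : ℕ) (hQ : Q ≠ 0) (V : Finset ℕ) (hpos : ∀ c ∈ V, c ≠ 0)
    (h1 : ∀ c ∈ V, ∀ p : ℕ, p.Prime → p ∣ c → p ∣ Q)
    (h2 : ∀ p : ℕ, p.Prime → p ∣ Q → ∃ c ∈ V, c.factorization p = Q.factorization p)
    (h3 : ∀ c ∈ V, ∀ c' ∈ V, ∀ p : ℕ, p.Prime → p ∣ c → p ∣ c' → c = c') :
    ∏ c ∈ V, c = Q := by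
  classical
  have hprod0 : ∏ c ∈ V, c ≠ 0 := Finset.prod_ne_zero_iff.2 hpos
  apply Nat.eq_of_factorization_eq hprod0 hQ
  intro p
  by_cases hp : p.Prime
  · have e : (∏ c ∈ V, c).factorization p = ∑ c ∈ V, c.factorization p := by
      rw [Nat.factorization_prod hpos, Finsupp.finsetSum_apply]
    rw [e]
    by_cases hpQ : p ∣ Q
    · obtain ⟨c₀, hc₀, hc₀p⟩ := h2 p hp hpQ
      have hpc₀ : p ∣ c₀ := by
        have h4 : 0 < Q.factorization p := hp.factorization_pos_of_dvd hQ hpQ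
        rw [← hc₀p] at h4
        exact Nat.dvd_of_factorization_pos h4.ne'
      rw [Finset.sum_eq_single c₀, hc₀p]
      · intro c hc hne
        apply Nat.factorization_eq_zero_of_not_dvd
        intro hpc
        exact hne (h3 c hc c₀ hc₀ p hp hpc hpc₀)
      · intro hn
        exact absurd hc₀ hn
    · rw [Nat.factorization_eq_zero_of_not_dvd hpQ]
      apply Finset.sum_eq_zero
      intro c hc
      apply Nat.factorization_eq_zero_of_not_dvd
      intro hpc
      exact hpQ (h1 c hc p hp hpc)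
  · rw [Nat.factorization_eq_zero_of_not_prime _ hp, Nat.factorization_eq_zero_of_not_prime _ hp]

end Cfsg.Agent.Lib.H2.HallProd
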