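import Mathlib

set_option autoImplicit false
set_option linter.unusedSectionVars false

/-!
# Linear maps of prime order acting irreducibly, and their commutants
-/

namespace Cfsg.Agent.Lib.H2.LinIrr

open Module

/-- a permutation of prime order `p` of a finite set with a fixed point `x₀` has another fixed point
as soon as `p ∤ |α| - 1` -/
theorem exists_fixed_ne {α : Type*} [Fintype α] [DecidableEq α] (σ : Equiv.Perm α) {p : ℕ}
    [Fact p.Prime] (hσ : σ ^ p = 1) (x₀ : α) (hx₀ : σ x₀ = x₀)
    (h : ¬ p ∣ Fintype.card α - 1) : ∃ x, x ≠ x₀ ∧ σ x = x := by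
  have hinv : ∀ x, x ≠ x₀ ↔ σ x ≠ x₀ := by
    intro x
    constructor
    · intro hx h1
      apply hx
      rw [← hx₀] at h1
      exact σ.injective h1
    · intro hx h1
      apply hx
      rw [h1, hx₀]
  let τ : Equiv.Perm {x // x ≠ x₀} := σ.subtypePerm (fun x => (hinv x).symm)
  have hτ : τ ^ p ^ 1 = 1 := by
    rw [pow_one]
    ext x
    simp only [τ, Equiv.Perm.subtypePerm_pow, Equiv.Perm.subtypePerm_apply, Equiv.Perm.coe_one, id]
    rw [hσ]
    rfl
  have hcard : Fintype.card {x // x ≠ x₀} = Fintype.card α - 1 := by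
    rw [Fintype.card_subtype_compl, Fintype.card_subtype_eq]
  rw [← hcard] at h
  obtain ⟨⟨x, hx⟩, hfix⟩ := Equiv.Perm.exists_fixed_point_of_prime h hτ
  refine ⟨x, hx, ?_⟩
  have := congrArg Subtype.val hfix
  simpa [τ] using this

section Perm

variable {F W : Type*} [Semiring F] [AddCommMonoid W] [Module F W]

/-- the permutation defined by a linear map of finite order -/
def permOf (g : W →ₗ[F] W) {p : ℕ} (hp : 0 < p) (hg : g ^ p = 1) : Equiv.Perm W where
  toFun := g
  invFun := (g ^ (p - 1) : W →ₗ[F] W)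
  left_inv := by
    intro w
    have : g ^ (p - 1) * g = 1 := by rw [← pow_succ, Nat.sub_add_cancel hp, hg]
    calc (g ^ (p - 1)) (g w) = (g ^ (p - 1) * g) w := rfl
      _ = w := by rw [this]; rfl
  right_inv := by
    intro w
    have : g * g ^ (p - 1) = 1 := by rw [← pow_succ', Nat.sub_add_cancel hp, hg]
    calc g ((g ^ (p - 1)) w) = (g * g ^ (p - 1)) w := rfl
      _ = w := by rw [this]; rfl

theorem permOf_apply (g : W →ₗ[F] W) {p : ℕ} (hp : 0 < p) (hg : g ^ p = 1) (w : W) :
    permOf g hp hg w = g w := rfl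

theorem permOf_pow (g : W →ₗ[F] W) {p : ℕ} (hp : 0 < p) (hg : g ^ p = 1) (k : ℕ) (w : W) :
    (permOf g hp hg ^ k) w = (g ^ k) w := by
  induction k generalizing w with
  | zero => rfl
  | succ k ih =>
    rw [pow_succ, Equiv.Perm.mul_apply, ih, permOf_apply, pow_succ]
    rfl

theorem permOf_pow_eq_one (g : W →ₗ[F] W) {p : ℕ} (hp : 0 < p) (hg : g ^ p = 1) :
    permOf g hp hg ^ p = 1 := by
  ext w
  rw [permOf_pow, hg]
  rfl

end Perm

section Main

variable {F V : Type*} [Field F] [Fintype F] [AddCommGroup V] [Module F V] [Module.Finite F V]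
  (f : V →ₗ[F] V) {p : ℕ} [hpp : Fact p.Prime]

/-- an invariant subspace whose number of nonzero vectors is prime to `p` contains a nonzero
fixed vector -/
theorem exists_fixed_of_invariant (hf : f ^ p = 1) (W : Submodule F V) (hW : ∀ w ∈ W, f w ∈ W)
    (hd : ¬ p ∣ Fintype.card F ^ finrank F W - 1) : ∃ w ∈ W, w ≠ 0 ∧ f w = w := by
  classical
  have hfinV : Finite V := Module.finite_of_finite F
  have : Fintype W := Fintype.ofFinite W
  set g : W →ₗ[F] W := f.restrict hW with hg
  have hgp : g ^ p = 1 := by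
    rw [hg, Module.End.pow_restrict]
    ext w
    simp [hf]
  have hcard : Fintype.card W = Fintype.card F ^ finrank F W := by
    rw [← Nat.card_eq_fintype_card, ← Nat.card_eq_fintype_card]
    exact Module.natCard_eq_pow_finrank
  rw [← hcard] at hd
  obtain ⟨w, hw0, hw⟩ := exists_fixed_ne (permOf g hpp.out.pos hgp)
    (permOf_pow_eq_one g hpp.out.pos hgp) 0 (by rw [permOf_apply, map_zero]) hd
  refine ⟨w, w.2, fun h0 => hw0 (Subtype.ext h0), ?_⟩
  rw [permOf_apply] at hw
  exact congrArg Subtype.val hw

/-- a vector in the range of `f - 1` fixed by `f` is zero -/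
theorem eq_zero_of_fixed_of_range (hf : f ^ p = 1) (hp : (p : F) ≠ 0) (x : V)
    (hfix : f (f x - x) = f x - x) : f x - x = 0 := by
  set u := f x - x with hu
  have key : ∀ i : ℕ, (f ^ i) x = x + (i : F) • u := by
    intro i
    induction i with
    | zero => simp
    | succ i ih =>
      rw [pow_succ', Module.End.mul_apply, ih, map_add, map_smul, hfix]
      rw [Nat.cast_succ, add_smul, one_smul, hu]
      abel
  have h1 := key p
  rw [hf, Module.End.one_apply] at h1
  have h2 : (p : F) • u = 0 := by
    have : x + (p : F) • u = x + 0 := by rw [add_zero]; exact h1.symm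
    exact add_left_cancel this
  rcases smul_eq_zero.1 h2 with h3 | h3
  · exact absurd h3 hp
  · exact h3

/-- the hypotheses: `f` has prime order `p` prime to the characteristic, and `p` divides no
`q ^ d - 1` for `0 < d < dim V` -/
structure Hyp (f : V →ₗ[F] V) (p : ℕ) : Prop where
  pow : f ^ p = 1
  ne_one : f ≠ 1
  pF : (p : F) ≠ 0
  nd : ∀ d, 0 < d → d < finrank F V → ¬ p ∣ Fintype.card F ^ d - 1

variable {f}

/-- `f` acts irreducibly -/
theorem eq_bot_or_eq_top (H : Hyp f p) (W : Submodule F V) (hW : ∀ w ∈ W, f w ∈ W) :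
    W = ⊥ ∨ W = ⊤ := by
  by_contra hne
  push Not at hne
  obtain ⟨hbot, htop⟩ := hne
  have h1 : 0 < finrank F W := by
    rcases Nat.eq_zero_or_pos (finrank F W) with h0 | h0
    · exact absurd (Submodule.finrank_eq_zero.1 h0) hbot
    · exact h0
  have h2 : finrank F W < finrank F V := Submodule.finrank_lt htop
  obtain ⟨w, -, hw0, hw⟩ := exists_fixed_of_invariant f H.pow W hW (H.nd _ h1 h2)
  -- the fixed space
  set N : V →ₗ[F] V := f - 1 with hN
  have hkerbot : LinearMap.ker N ≠ ⊥ := by
    intro h0
    have : w ∈ LinearMap.ker N := by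
      rw [LinearMap.mem_ker, hN, LinearMap.sub_apply, hw, Module.End.one_apply, sub_self]
    rw [h0, Submodule.mem_bot] at this
    exact hw0 this
  have hkertop : LinearMap.ker N ≠ ⊤ := by
    intro h0
    rw [LinearMap.ker_eq_top] at h0
    apply H.ne_one
    rw [hN] at h0
    exact sub_eq_zero.1 h0
  have h3 : 0 < finrank F (LinearMap.ker N) := by
    rcases Nat.eq_zero_or_pos (finrank F (LinearMap.ker N)) with h0 | h0
    · exact absurd (Submodule.finrank_eq_zero.1 h0) hkerbot
    · exact h0
  have h4 : finrank F (LinearMap.ker N) < finrank F V := Submodule.finrank_lt hkertop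
  have h5 := LinearMap.finrank_range_add_finrank_ker N
  have h6 : 0 < finrank F (LinearMap.range N) := by omega
  have h7 : finrank F (LinearMap.range N) < finrank F V := by omega
  have hinv : ∀ u ∈ LinearMap.range N, f u ∈ LinearMap.range N := by
    rintro _ ⟨x, rfl⟩
    refine ⟨f x, ?_⟩
    rw [hN, LinearMap.sub_apply, LinearMap.sub_apply, Module.End.one_apply, Module.End.one_apply,
      map_sub]
  obtain ⟨u, ⟨x, hx⟩, hu0, hu⟩ :=
    exists_fixed_of_invariant f H.pow (LinearMap.range N) hinv (H.nd _ h6 h7)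
  apply hu0
  have hx' : u = f x - x := by
    rw [← hx, hN, LinearMap.sub_apply, Module.End.one_apply]
  rw [hx'] at hu ⊢
  exact eq_zero_of_fixed_of_range f H.pow H.pF x hu

/-- an endomorphism commuting with `f` is zero or injective -/
theorem eq_zero_or_injective (H : Hyp f p) (g : V →ₗ[F] V) (hg : g * f = f * g) :
    g = 0 ∨ Function.Injective g := by
  have hinv : ∀ w ∈ LinearMap.ker g, f w ∈ LinearMap.ker g := by
    intro w hw
    rw [LinearMap.mem_ker] at hw ⊢
    have : g (f w) = (g * f) w := rfl
    rw [this, hg, Module.End.mul_apply, hw, map_zero]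
  rcases eq_bot_or_eq_top H _ hinv with h0 | h0
  · right
    exact LinearMap.ker_eq_bot.1 h0
  · left
    exact LinearMap.ker_eq_top.1 h0

/-- the commutant of `f` is commutative -/
theorem commute_of_commute (H : Hyp f p) (g g' : V →ₗ[F] V) (hg : g * f = f * g)
    (hg' : g' * f = f * g') : g * g' = g' * g := by
  -- a nonzero vector
  obtain ⟨v, hv⟩ : ∃ v : V, v ≠ 0 := by
    by_contra hne
    push Not at hne
    apply H.ne_one
    ext x
    rw [hne x, map_zero, map_zero]
  -- the cyclic subspace is everything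
  set S : Submodule F V := Submodule.span F (Set.range fun i : ℕ => (f ^ i) v) with hS
  have hSinv : ∀ w ∈ S, f w ∈ S := by
    intro w hw
    rw [hS] at hw ⊢
    refine Submodule.span_induction ?_ ?_ ?_ ?_ hw
    · rintro _ ⟨i, rfl⟩
      apply Submodule.subset_span
      refine ⟨i + 1, ?_⟩
      show (f ^ (i + 1)) v = f ((f ^ i) v)
      rw [pow_succ', Module.End.mul_apply]
    · rw [map_zero]
      exact Submodule.zero_mem _
    · intro x y _ _ hx hy
      rw [map_add]
      exact Submodule.add_mem _ hx hy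
    · intro a x _ hx
      rw [map_smul]
      exact Submodule.smul_mem _ a hx
  have hvS : v ∈ S := Submodule.subset_span ⟨0, by simp⟩
  have hStop : S = ⊤ := by
    rcases eq_bot_or_eq_top H S hSinv with h0 | h0
    · rw [h0, Submodule.mem_bot] at hvS
      exact absurd hvS hv
    · exact h0
  -- `g v = P v` with `P` a polynomial in `f`
  have hgv : g v ∈ S := by rw [hStop]; trivial
  rw [hS, Finsupp.mem_span_range_iff_exists_finsupp] at hgv
  obtain ⟨c, hc⟩ := hgv
  set P : V →ₗ[F] V := c.sum fun i a => a • f ^ i with hP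
  have hPv : P v = g v := by
    rw [← hc, hP, Finsupp.sum, Finsupp.sum, LinearMap.sum_apply]
    rfl
  have hPcomm : ∀ k : V →ₗ[F] V, k * f = f * k → k * P = P * k := by
    intro k hk
    have hpow : ∀ i : ℕ, k * f ^ i = f ^ i * k := by
      intro i
      induction i with
      | zero => simp
      | succ i ih => rw [pow_succ, ← mul_assoc, ih, mul_assoc, hk, ← mul_assoc]
    rw [hP, Finsupp.sum, Finset.mul_sum, Finset.sum_mul]
    apply Finset.sum_congr rfl
    intro i _
    rw [mul_smul_comm, smul_mul_assoc, hpow]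
  -- `g = P`
  have hgP : g = P := by
    have hcomm : (g - P) * f = f * (g - P) := by
      rw [sub_mul, mul_sub, hg, (hPcomm f rfl).symm]
    rcases eq_zero_or_injective H (g - P) hcomm with h0 | h0
    · exact sub_eq_zero.1 h0
    · exfalso
      apply hv
      apply h0
      rw [LinearMap.sub_apply, hPv, sub_self, map_zero]
  rw [hgP]
  exact (hPcomm g' hg').symm

end Main

section Mat

variable {F : Type*} [Field F] [Fintype F] {n : Type*} [Fintype n] [DecidableEq n]

theorem hyp_of_matrix (A : Matrix n n F) {p : ℕ} [Fact p.Prime] (hA : A ^ p = 1) (hne : A ≠ 1)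
    (hpF : (p : F) ≠ 0)
    (hnd : ∀ d, 0 < d → d < Fintype.card n → ¬ p ∣ Fintype.card F ^ d - 1) :
    Hyp (Matrix.toLinAlgEquiv' A : (n → F) →ₗ[F] (n → F)) p where
  pow := by rw [← map_pow, hA, map_one]
  ne_one := by
    intro h1
    apply hne
    apply (Matrix.toLinAlgEquiv' (R := F) (n := n)).injective
    rw [h1, map_one]
  pF := hpF
  nd := by
    intro d hd hd'
    rw [Module.finrank_fintype_fun_eq_card] at hd'
    exact hnd d hd hd'

/-- matrices commuting with a matrix of prime order acting irreducibly commute with each other -/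
theorem matrix_commute (A : Matrix n n F) {p : ℕ} [Fact p.Prime] (hA : A ^ p = 1) (hne : A ≠ 1)
    (hpF : (p : F) ≠ 0)
    (hnd : ∀ d, 0 < d → d < Fintype.card n → ¬ p ∣ Fintype.card F ^ d - 1)
    (B B' : Matrix n n F) (hB : B * A = A * B) (hB' : B' * A = A * B') : B * B' = B' * B := by
  have H := hyp_of_matrix A hA hne hpF hnd
  apply (Matrix.toLinAlgEquiv' (R := F) (n := n)).injective
  rw [map_mul, map_mul]
  apply commute_of_commute H
  · rw [← map_mul, ← map_mul, hB]
  · rw [← map_mul, ← map_mul, hB']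

end Mat

end Cfsg.Agent.Lib.H2.LinIrr
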