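import Mathlib
import Cfsg.Agent.Lib.H2.LinIrr

set_option autoImplicit false
set_option linter.unusedSectionVars false
set_option linter.style.haveILetI false
set_option warn.classDefReducibility false

/-!
# The commutant of an irreducible linear map of prime order is a commutative domain
-/

namespace Cfsg.Agent.Lib.H2.LinIrr

open Module Polynomial

variable {F V : Type*} [Field F] [Fintype F] [AddCommGroup V] [Module F V] [Module.Finite F V]
  {f : V →ₗ[F] V} {p : ℕ} [hpp : Fact p.Prime]

/-- the commutant of `f` -/
abbrev Comm (f : V →ₗ[F] V) : Subalgebra F (Module.End F V) :=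
  Subalgebra.centralizer F ({f} : Set (Module.End F V))

theorem mem_Comm_iff {g : V →ₗ[F] V} : g ∈ Comm f ↔ g * f = f * g := by
  rw [Subalgebra.mem_centralizer_iff]
  constructor
  · intro h
    exact (h f rfl).symm
  · rintro h _ rfl
    exact h.symm

/-- the commutative ring structure on the commutant -/
@[reducible] noncomputable def commRingComm (H : Hyp f p) : CommRing (Comm f) :=
  { (inferInstance : Ring (Comm f)) with
    mul_comm := fun a b =>
      Subtype.ext (commute_of_commute H a b (mem_Comm_iff.1 a.2) (mem_Comm_iff.1 b.2)) }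

theorem noZeroDivisors_Comm (H : Hyp f p) : NoZeroDivisors (Comm f) := by
  constructor
  intro a b hab
  by_cases ha : a = 0
  · exact Or.inl ha
  · right
    rcases eq_zero_or_injective H a (mem_Comm_iff.1 a.2) with h0 | h0
    · exact absurd (Subtype.ext h0) ha
    · apply Subtype.ext
      ext v
      apply h0
      have : (a * b : Comm f) = 0 := hab
      have h1 : ((a : Module.End F V) * (b : Module.End F V)) v = 0 := by
        have := congrArg (fun x : Comm f => (x : Module.End F V) v) this
        simpa using this
      rw [show ((0 : Comm f) : Module.End F V) = 0 from rfl, LinearMap.zero_apply, map_zero]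
      exact h1

theorem nontrivial_Comm (H : Hyp f p) : Nontrivial (Comm f) := by
  refine ⟨⟨0, 1, ?_⟩⟩
  intro h01
  have h1 : (0 : Module.End F V) = 1 := congrArg Subtype.val h01
  have hv : ∀ v : V, v = 0 := by
    intro v
    have := congrArg (fun g : Module.End F V => g v) h1
    simpa using this.symm
  apply H.ne_one
  ext v
  rw [hv v, map_zero, map_zero]

/-- at most `deg P` elements of the commutant are roots of a nonzero polynomial `P` -/
theorem card_roots_le (H : Hyp f p) (P : F[X]) (hP : P ≠ 0) (S : Finset (Module.End F V))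
    (hS : ∀ g ∈ S, g * f = f * g ∧ aeval g P = 0) : S.card ≤ P.natDegree := by
  classical
  letI : CommRing (Comm f) := commRingComm H
  haveI : NoZeroDivisors (Comm f) := noZeroDivisors_Comm H
  haveI : Nontrivial (Comm f) := nontrivial_Comm H
  haveI : IsDomain (Comm f) := NoZeroDivisors.to_isDomain _
  set P' : (Comm f)[X] := P.map (algebraMap F (Comm f)) with hP'
  have hP'0 : P' ≠ 0 := by
    rw [hP', Ne, Polynomial.map_eq_zero_iff (FaithfulSMul.algebraMap_injective F (Comm f))]
    exact hP
  let Z : Finset (Comm f) := S.attach.image fun g => ⟨g.1, mem_Comm_iff.2 (hS g.1 g.2).1⟩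
  have hZcard : Z.card = S.card := by
    rw [Finset.card_image_of_injective, Finset.card_attach]
    intro a b hab
    have := congrArg (fun x : Comm f => (x : Module.End F V)) hab
    exact Subtype.ext this
  have hZ : Z.val ⊆ P'.roots := by
    intro z hz
    rw [Finset.mem_val, Finset.mem_image] at hz
    obtain ⟨g, -, rfl⟩ := hz
    rw [Polynomial.mem_roots hP'0, Polynomial.IsRoot, hP', Polynomial.eval_map_algebraMap]
    apply Subtype.ext
    have e := Polynomial.aeval_algHom_apply (Comm f).val
      (⟨g.1, mem_Comm_iff.2 (hS g.1 g.2).1⟩ : Comm f) P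
    exact e.symm.trans (hS g.1 g.2).2
  calc S.card = Z.card := hZcard.symm
    _ ≤ P'.natDegree := Polynomial.card_le_degree_of_subset_roots hZ
    _ ≤ P.natDegree := Polynomial.natDegree_map_le

/-- a finite group of endomorphisms commuting with `f` is cyclic -/
theorem isCyclic_of_commute (H : Hyp f p) {G : Type*} [Group G] [Finite G]
    (φ : G →* Module.End F V) (hφ : Function.Injective φ) (hc : ∀ x, φ x * f = f * φ x) :
    IsCyclic G := by
  letI : CommRing (Comm f) := commRingComm H
  haveI : NoZeroDivisors (Comm f) := noZeroDivisors_Comm H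
  haveI : Nontrivial (Comm f) := nontrivial_Comm H
  haveI : IsDomain (Comm f) := NoZeroDivisors.to_isDomain _
  let ψ : G →* Comm f :=
    { toFun := fun x => ⟨φ x, mem_Comm_iff.2 (hc x)⟩
      map_one' := Subtype.ext (map_one φ)
      map_mul' := fun x y => Subtype.ext (map_mul φ x y) }
  have hψ : Function.Injective ψ := by
    intro x y hxy
    apply hφ
    exact congrArg (fun z : Comm f => (z : Module.End F V)) hxy
  exact isCyclic_of_injective_ringHom ψ hψ

section Mat

variable {n : Type*} [Fintype n] [DecidableEq n]

/-- matrix version: a finite group of matrices commuting with `A` is cyclic -/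
theorem isCyclic_of_commute_matrix (A : Matrix n n F) (hA : A ^ p = 1) (hne : A ≠ 1)
    (hpF : (p : F) ≠ 0)
    (hnd : ∀ d, 0 < d → d < Fintype.card n → ¬ p ∣ Fintype.card F ^ d - 1)
    {G : Type*} [Group G] [Finite G] (φ : G →* Matrix n n F) (hφ : Function.Injective φ)
    (hc : ∀ x, φ x * A = A * φ x) : IsCyclic G := by
  have H := hyp_of_matrix A hA hne hpF hnd
  let φ' : G →* Module.End F (n → F) :=
    (Matrix.toLinAlgEquiv' (R := F) (n := n)).toAlgHom.toRingHom.toMonoidHom.comp φ
  apply isCyclic_of_commute H φ'
  · intro x y hxy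
    apply hφ
    exact (Matrix.toLinAlgEquiv' (R := F) (n := n)).injective hxy
  · intro x
    show Matrix.toLinAlgEquiv' (φ x) * Matrix.toLinAlgEquiv' A =
      Matrix.toLinAlgEquiv' A * Matrix.toLinAlgEquiv' (φ x)
    rw [← map_mul, ← map_mul, hc x]

/-- matrix version of `card_roots_le` -/
theorem card_roots_le_matrix (A : Matrix n n F) (hA : A ^ p = 1) (hne : A ≠ 1)
    (hpF : (p : F) ≠ 0)
    (hnd : ∀ d, 0 < d → d < Fintype.card n → ¬ p ∣ Fintype.card F ^ d - 1)
    (P : F[X]) (hP : P ≠ 0) (S : Finset (Matrix n n F))
    (hS : ∀ B ∈ S, B * A = A * B ∧ aeval B P = 0) : S.card ≤ P.natDegree := by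
  classical
  have H := hyp_of_matrix A hA hne hpF hnd
  have hinj : Function.Injective (Matrix.toLinAlgEquiv' (R := F) (n := n)) :=
    (Matrix.toLinAlgEquiv' (R := F) (n := n)).injective
  rw [← Finset.card_image_of_injective S hinj]
  apply card_roots_le H P hP
  intro g hg
  rw [Finset.mem_image] at hg
  obtain ⟨B, hB, rfl⟩ := hg
  obtain ⟨h1, h2⟩ := hS B hB
  constructor
  · rw [← map_mul, ← map_mul, h1]
  · have e := Polynomial.aeval_algHom_apply
      (Matrix.toLinAlgEquiv' (R := F) (n := n)).toAlgHom B P
    exact e.trans (by rw [h2, map_zero])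

end Mat

end Cfsg.Agent.Lib.H2.LinIrr
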