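import Mathlib
import Cfsg.Prelude.Def_LieExceptional
import Cfsg.Agent.Lib.H2.Sz10

set_option autoImplicit false
set_option linter.unusedSimpArgs false
set_option linter.unusedSectionVars false

/-!
# Suzuki groups XIII: generation by two elements
-/

namespace Cfsg.Agent.Lib.H2.Sz

open Matrix Cfsg Projectivization MulAction
open scoped Pointwise commutatorElement

variable {F : Type*} [Field F] {m : ℕ}

theorem W_mul_self : (W : SpecialLinearGroup (Fin 4) F) * W = 1 := by
  apply Subtype.ext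
  show (Wm : Matrix (Fin 4) (Fin 4) F) * Wm = 1
  ext i j
  fin_cases i <;> fin_cases j <;> simp [Wm, Matrix.mul_apply, Fin.sum_univ_four]

theorem W_inv : (W : SpecialLinearGroup (Fin 4) F)⁻¹ = W :=
  inv_eq_of_mul_eq_one_left W_mul_self

theorem ρ_inv (k : F) : ρ m k⁻¹ = (ρ m k)⁻¹ := inv_pow _ _

theorem W_mul_D (k : Fˣ) : (W : SpecialLinearGroup (Fin 4) F) * D m k = D m k⁻¹ * W := by
  apply Subtype.ext
  show (Wm : Matrix (Fin 4) (Fin 4) F) * Dm m (k : F) = Dm m ((k⁻¹ : Fˣ) : F) * Wm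
  rw [Units.val_inv_eq_inv_val]
  ext i j
  fin_cases i <;> fin_cases j <;>
    simp [Wm, Dm, Matrix.mul_apply, Fin.sum_univ_four, Matrix.diagonal, ρ_inv, mul_comm]

end Cfsg.Agent.Lib.H2.Sz

namespace Cfsg.Agent.Lib.H2.Sz

open Matrix Cfsg Projectivization MulAction

variable {F : Type*} [Field F] {m : ℕ} [Fintype F] (h : Fld F m)

include h

theorem D_conj_T (hm : 1 ≤ m) (hF : Fintype.card F = 2 ^ (2 * m + 1)) (k : Fˣ) (a b : F) :
    D m k * T m a b * (D m k)⁻¹ = T m ((k : F) * a) ((k : F) * θ m (k : F) * b) := by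
  rw [D_mul_T h hm hF, mul_assoc, mul_inv_cancel, mul_one]

/-- avoiding four values -/
theorem exists_not_mem_four (hm : 1 ≤ m) (hF : Fintype.card F = 2 ^ (2 * m + 1)) (e₁ e₂ e₃ e₄ : F) :
    ∃ c : F, c ≠ e₁ ∧ c ≠ e₂ ∧ c ≠ e₃ ∧ c ≠ e₄ := by
  classical
  have hcard : 4 < Fintype.card F := by
    rw [hF]
    calc 4 < 2 ^ 3 := by norm_num
      _ ≤ 2 ^ (2 * m + 1) := Nat.pow_le_pow_right (by norm_num) (by omega)
  by_contra hne
  push Not at hne
  have : Fintype.card F ≤ 4 := by
    calc Fintype.card F = (Finset.univ : Finset F).card := rfl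
      _ ≤ ({e₁, e₂, e₃, e₄} : Finset F).card := Finset.card_le_card (by
          intro x _
          by_cases h1 : x = e₁
          · simp [h1]
          by_cases h2 : x = e₂
          · simp [h2]
          by_cases h3 : x = e₃
          · simp [h3]
          simp [hne x h1 h2 h3])
      _ ≤ 4 := Finset.card_le_four
  omega

/-- a subgroup containing the torus and `T(1,0) W` contains all of `Sz` -/
theorem Sz_le_of_mem (hm : 1 ≤ m) (hF : Fintype.card F = 2 ^ (2 * m + 1))
    (H : Subgroup (SpecialLinearGroup (Fin 4) F)) (hD : ∀ k : Fˣ, D m k ∈ H)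
    (hb : T m (1 : F) 0 * W ∈ H) : Sz F m ≤ H := by
  have h2 := h.two
  -- step 2: `t D k t⁻¹ ∈ H`
  have s2 : ∀ k : Fˣ, T m (1 : F) 0 * D m k * (T m (1 : F) 0)⁻¹ ∈ H := by
    intro k
    have h1 : (T m (1 : F) 0 * W) * D m k⁻¹ * (T m (1 : F) 0 * W)⁻¹ ∈ H :=
      H.mul_mem (H.mul_mem hb (hD _)) (H.inv_mem hb)
    have e : (T m (1 : F) 0 * W) * D m k⁻¹ * (T m (1 : F) 0 * W)⁻¹ =
        T m (1 : F) 0 * D m k * (T m (1 : F) 0)⁻¹ := by
      have e1 : (W : SpecialLinearGroup (Fin 4) F) * D m k⁻¹ = D m k * W := by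
        rw [W_mul_D, inv_inv]
      calc (T m (1 : F) 0 * W) * D m k⁻¹ * (T m (1 : F) 0 * W)⁻¹
          = T m (1 : F) 0 * (W * D m k⁻¹) * W⁻¹ * (T m (1 : F) 0)⁻¹ := by group
        _ = T m (1 : F) 0 * D m k * (T m (1 : F) 0)⁻¹ := by
          rw [e1, W_inv]
          have : T m (1 : F) 0 * (D m k * W) * W = T m (1 : F) 0 * D m k * (W * W) := by group
          rw [this, W_mul_self, mul_one]
    rwa [e] at h1
  -- step 2': `T(1+k, kθk + k) ∈ H`
  have s2' : ∀ k : Fˣ, T m (1 + (k : F)) ((k : F) * θ m (k : F) + (k : F)) ∈ H := by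
    intro k
    have h1 := H.mul_mem (s2 k) (H.inv_mem (hD k))
    have e : T m (1 : F) 0 * D m k * (T m (1 : F) 0)⁻¹ * (D m k)⁻¹ =
        T m (1 : F) 0 * (D m k * (T m (1 : F) 0)⁻¹ * (D m k)⁻¹) := by group
    rw [e, T_inv h, D_conj_T h hm hF, T_mul h] at h1
    convert h1 using 2
    · ring
    · rw [θ_one]
      ring
  -- step 3: `T(1,c) ∈ H` for `c ≠ 0, 1`
  have s3 : ∀ c : F, c ≠ 0 → c ≠ 1 → T m (1 : F) c ∈ H := by
    intro c hc0 hc1
    have hc1' : 1 + c ≠ 0 := by
      intro h0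
      apply hc1
      exact (h.eq_of_add_eq_zero h0).symm
    have hθc : 1 + θ m c ≠ 0 := by
      intro h0
      have : θ m (1 + c) = 0 := by rw [θ_add h, θ_one, h0]
      exact hc1' (θ_eq_zero.1 this)
    let k : Fˣ := Units.mk0 (c / (1 + c)) (div_ne_zero hc0 hc1')
    let l : Fˣ := Units.mk0 (1 + c) hc1'
    have h1 := H.mul_mem (H.mul_mem (hD l) (s2' k)) (H.inv_mem (hD l))
    rw [D_conj_T h hm hF] at h1
    convert h1 using 2
    · simp only [k, l, Units.val_mk0]
      field_simp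
      linear_combination (-c) * h2
    · simp only [k, l, Units.val_mk0]
      simp only [θ_div, θ_add h, θ_one]
      field_simp
      linear_combination (-(θ m c)) * h2
  -- step 4: `T(0,e) ∈ H`
  have s4 : ∀ e : F, T m (0 : F) e ∈ H := by
    intro e
    obtain ⟨c, hc0, hc1, hce, hce'⟩ := exists_not_mem_four h hm hF 0 1 e (e + 1)
    have hc' : e + c ≠ 0 := by
      intro h0
      exact hce (h.eq_of_add_eq_zero h0).symm
    have hc'' : e + c ≠ 1 := by
      intro h0
      apply hce'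
      linear_combination h0 - e * h2
    have h1 := H.mul_mem (s3 c hc0 hc1) (H.inv_mem (s3 (e + c) hc' hc''))
    rw [T_inv h, T_mul h] at h1
    convert h1 using 2
    · linear_combination (-1 : F) * h2
    · rw [θ_one]
      linear_combination (-c - 1) * h2
  -- step 5: `T(1,0) ∈ H`
  have s5 : T m (1 : F) 0 ∈ H := by
    obtain ⟨c, hc0, hc1, -, -⟩ := exists_not_mem_four h hm hF 0 1 0 0
    have h1 := H.mul_mem (s3 c hc0 hc1) (s4 c)
    rw [T_mul h] at h1
    convert h1 using 2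
    · ring
    · linear_combination (-c) * h2
  have sW : (W : SpecialLinearGroup (Fin 4) F) ∈ H := by
    have h1 := H.mul_mem (H.inv_mem s5) hb
    rwa [inv_mul_cancel_left] at h1
  -- step 6: all translations
  have s6 : ∀ a b : F, T m a b ∈ H := by
    intro a b
    have h1 : T m a 0 ∈ H := by
      by_cases ha : a = 0
      · rw [ha, T_zero]
        exact H.one_mem
      · have h3 := H.mul_mem (H.mul_mem (hD (Units.mk0 a ha)) s5) (H.inv_mem (hD (Units.mk0 a ha)))
        rw [D_conj_T h hm hF] at h3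
        convert h3 using 2
        · simp
        · simp
    have h3 := H.mul_mem h1 (s4 b)
    rw [T_mul h] at h3
    convert h3 using 2
    · ring
    · ring
  intro g hg
  rcases bruhat h hm hF hg with ⟨a, b, k, rfl⟩ | ⟨a, b, a', b', k, rfl⟩
  · exact H.mul_mem (s6 a b) (hD k)
  · exact H.mul_mem (H.mul_mem (s6 a b) sW) (H.mul_mem (s6 a' b') (hD k))

end Cfsg.Agent.Lib.H2.Sz
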