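import Mathlib
import Cfsg.Prelude.Def_LieExceptional
import Cfsg.Agent.Lib.H2.Sz13

set_option autoImplicit false
set_option linter.unusedSimpArgs false
set_option linter.unusedSectionVars false

/-!
# Suzuki groups XV: centralisers of elements fixing a point of the ovoid
-/

namespace Cfsg.Agent.Lib.H2.Sz

open Matrix Cfsg Projectivization MulAction
open scoped Pointwise

variable {F : Type*} [Field F] {m : ℕ} [Fintype F] (h : Fld F m)

include h

theorem unit_eq_one_of_sq {k : Fˣ} (hk : k * k = 1) : k = 1 := by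
  apply Units.ext
  have h1 : (k : F) * (k : F) = 1 := by
    rw [← Units.val_mul, hk, Units.val_one]
  have h2 : ((k : F) - 1) * ((k : F) - 1) = 0 := by
    linear_combination h1 - (k : F) * h.two + h.two
  rcases mul_eq_zero.1 h2 with h3 | h3 <;> exact sub_eq_zero.1 h3

/-- a nontrivial torus element fixes only `∞` and `0` -/
theorem D_fix {k : Fˣ} (hk : k ≠ 1) {p : Projectivization F (Fin 4 → F)}
    (hp : p ∈ suzukiOvoid F m) (hfix : D m k • p = p) : p = pinf ∨ p = pt m 0 0 := by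
  rcases (mem_ovoid_iff p).1 hp with rfl | ⟨x, y, rfl⟩
  · exact Or.inl rfl
  · right
    rw [D_smul_pt h] at hfix
    obtain ⟨e1, e2⟩ := pt_injective hfix
    have hk1 : (k : F) - 1 ≠ 0 := by
      intro h0
      exact hk (Units.ext (sub_eq_zero.1 h0))
    have hk2 : (k : F) * θ m (k : F) - 1 ≠ 0 := by
      intro h0
      exact hk (Units.ext (eq_one_of_mul_θ h (sub_eq_zero.1 h0)))
    have hx : x = 0 := by
      have : ((k : F) - 1) * x = 0 := by linear_combination e1
      rcases mul_eq_zero.1 this with h3 | h3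
      · exact absurd h3 hk1
      · exact h3
    have hy : y = 0 := by
      have : ((k : F) * θ m (k : F) - 1) * y = 0 := by linear_combination e2
      rcases mul_eq_zero.1 this with h3 | h3
      · exact absurd h3 hk2
      · exact h3
    rw [hx, hy]

/-- the centraliser of a nontrivial torus element consists of torus elements -/
theorem eq_D_of_commute_D (hm : 1 ≤ m) (hF : Fintype.card F = 2 ^ (2 * m + 1)) {k : Fˣ}
    (hk : k ≠ 1) {c : SpecialLinearGroup (Fin 4) F} (hc : c ∈ Sz F m)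
    (hcomm : c * D m k = D m k * c) : ∃ l : Fˣ, c = D m l := by
  have hfixc : ∀ p ∈ suzukiOvoid F m, D m k • p = p → D m k • (c • p) = c • p := by
    intro p _ hp
    rw [← mul_smul, ← hcomm, mul_smul, hp]
  have h1 := D_fix h hk (smul_mem_of_mem_Sz hc pinf_mem) (hfixc _ pinf_mem (D_smul_pinf k))
  have h2 := D_fix h hk (smul_mem_of_mem_Sz hc (pt_mem 0 0)) (hfixc _ (pt_mem 0 0)
    (D_smul_pt_zero h k))
  have hne : c • (pinf : Projectivization F (Fin 4 → F)) ≠ c • pt m 0 0 := by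
    intro e
    exact pt_ne_pinf _ _ (smul_left_cancel _ e).symm
  rcases h1 with h1 | h1
  · rcases h2 with h2 | h2
    · rw [h1, h2] at hne
      exact absurd rfl hne
    · exact eq_D_of_fix h hm hF hc h1 h2
  · rcases h2 with h2 | h2
    · exfalso
      -- `W c` fixes both points
      have hWc : W * c ∈ Sz F m := (Sz F m).mul_mem (W_mem h) hc
      have f1 : (W * c) • (pinf : Projectivization F (Fin 4 → F)) = pinf := by
        rw [mul_smul, h1, W_smul_pt_zero]
      have f2 : (W * c) • pt m (0 : F) 0 = pt m 0 0 := by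
        rw [mul_smul, h2, W_smul_pinf]
      obtain ⟨l, hl⟩ := eq_D_of_fix h hm hF hWc f1 f2
      have hc' : c = W * D m l := by
        rw [← hl, ← mul_assoc, W_mul_self, one_mul]
      rw [hc'] at hcomm
      have e1 : D m k * W = W * D m k⁻¹ := by
        rw [W_mul_D, inv_inv]
      rw [mul_assoc, ← mul_assoc (D m k), e1, mul_assoc] at hcomm
      have e2 := mul_left_cancel hcomm
      rw [← D_mul, ← D_mul] at e2
      have e3 := D_injective e2
      have e4 : k * k = 1 := by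
        have : k = k⁻¹ := by
          have := mul_left_cancel (a := l) (by rw [e3, mul_comm] : l * k = l * k⁻¹)
          exact this
        calc k * k = k * k⁻¹ := by rw [← this]
          _ = 1 := mul_inv_cancel k
      exact hk (unit_eq_one_of_sq h e4)
    · rw [h1, h2] at hne
      exact absurd rfl hne

/-- an element `T a b * D k` with `k ≠ 1` fixes an affine point -/
theorem exists_fix_pt {k : Fˣ} (hk : k ≠ 1) (a b : F) :
    ∃ x y : F, (T m a b * D m k) • pt m x y = pt m x y := by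
  have hk1 : (k : F) + 1 ≠ 0 := by
    intro h0
    apply hk
    apply Units.ext
    rw [Units.val_one]
    exact h.eq_of_add_eq_zero h0
  have hk2 : (k : F) * θ m (k : F) + 1 ≠ 0 := by
    intro h0
    exact hk (Units.ext (eq_one_of_mul_θ h (h.eq_of_add_eq_zero h0)))
  refine ⟨a / ((k : F) + 1),
    (b + θ m a * ((k : F) * (a / ((k : F) + 1)))) / ((k : F) * θ m (k : F) + 1), ?_⟩
  rw [mul_smul, D_smul_pt h, T_smul_pt h]
  have h2 := h.two
  congr 1
  · field_simp
    linear_combination (a * (k : F)) * h2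
  · field_simp
    linear_combination ((k : F) * θ m (k : F) * (b * ((k : F) + 1) + (k : F) * θ m a * a)) * h2

omit h in
/-- the centraliser of `g` in `Sz` is commutative -/
def CommC (m : ℕ) (g : SpecialLinearGroup (Fin 4) F) : Prop :=
  ∀ c ∈ Sz F m, ∀ d ∈ Sz F m, c * g = g * c → d * g = g * d → c * d = d * c

omit h in
/-- the centraliser of `g` in `Sz` has exponent dividing `4` -/
def Exp4C (m : ℕ) (g : SpecialLinearGroup (Fin 4) F) : Prop :=
  ∀ c ∈ Sz F m, c * g = g * c → c ^ 4 = 1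

omit h in
theorem commC_conj {g u : SpecialLinearGroup (Fin 4) F} (hu : u ∈ Sz F m)
    (hc : CommC m (u * g * u⁻¹)) : CommC m g := by
  intro c hcS d hdS hcg hdg
  have h1 := hc (u * c * u⁻¹) ((Sz F m).mul_mem ((Sz F m).mul_mem hu hcS) ((Sz F m).inv_mem hu))
    (u * d * u⁻¹) ((Sz F m).mul_mem ((Sz F m).mul_mem hu hdS) ((Sz F m).inv_mem hu))
    (by
      calc u * c * u⁻¹ * (u * g * u⁻¹) = u * (c * g) * u⁻¹ := by group
        _ = u * (g * c) * u⁻¹ := by rw [hcg]
        _ = u * g * u⁻¹ * (u * c * u⁻¹) := by group)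
    (by
      calc u * d * u⁻¹ * (u * g * u⁻¹) = u * (d * g) * u⁻¹ := by group
        _ = u * (g * d) * u⁻¹ := by rw [hdg]
        _ = u * g * u⁻¹ * (u * d * u⁻¹) := by group)
  have h2 : u * (c * d) * u⁻¹ = u * (d * c) * u⁻¹ := by
    calc u * (c * d) * u⁻¹ = u * c * u⁻¹ * (u * d * u⁻¹) := by group
      _ = u * d * u⁻¹ * (u * c * u⁻¹) := h1
      _ = u * (d * c) * u⁻¹ := by group
  exact mul_left_cancel (mul_right_cancel h2)

omit h in
theorem exp4C_conj {g u : SpecialLinearGroup (Fin 4) F} (hu : u ∈ Sz F m)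
    (hc : Exp4C m (u * g * u⁻¹)) : Exp4C m g := by
  intro c hcS hcg
  have h1 := hc (u * c * u⁻¹) ((Sz F m).mul_mem ((Sz F m).mul_mem hu hcS) ((Sz F m).inv_mem hu))
    (by
      calc u * c * u⁻¹ * (u * g * u⁻¹) = u * (c * g) * u⁻¹ := by group
        _ = u * (g * c) * u⁻¹ := by rw [hcg]
        _ = u * g * u⁻¹ * (u * c * u⁻¹) := by group)
  have h2 : (u * c * u⁻¹) ^ 4 = u * c ^ 4 * u⁻¹ := by
    rw [pow_four', pow_four']
    group
  rw [h2] at h1
  have h3 : c ^ 4 = u⁻¹ * (u * c ^ 4 * u⁻¹) * u := by group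
  rw [h3, h1]
  group

theorem commC_D (hm : 1 ≤ m) (hF : Fintype.card F = 2 ^ (2 * m + 1)) {k : Fˣ} (hk : k ≠ 1) :
    CommC m (D m k) := by
  intro c hcS d hdS hcg hdg
  obtain ⟨l, rfl⟩ := eq_D_of_commute_D h hm hF hk hcS hcg
  obtain ⟨l', rfl⟩ := eq_D_of_commute_D h hm hF hk hdS hdg
  rw [← D_mul, ← D_mul, mul_comm]

theorem T_pow_four (a b : F) : (T m a b) ^ 4 = 1 := by
  have h2 := h.two
  rw [pow_four', T_mul h, T_mul h, ← T_zero (m := m)]
  congr 1
  · linear_combination (2 * a) * h2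
  · rw [show a + a = 0 by linear_combination a * h2, θ_zero]
    linear_combination (2 * b + θ m a * a) * h2

theorem exp4C_T (hm : 1 ≤ m) (hF : Fintype.card F = 2 ^ (2 * m + 1)) {a b : F}
    (hab : ¬ (a = 0 ∧ b = 0)) : Exp4C m (T m a b) := by
  intro c hcS hcg
  -- `c` fixes `∞`
  have hfix : c • (pinf : Projectivization F (Fin 4 → F)) = pinf := by
    apply eq_pinf_of_T_smul h hab (smul_mem_of_mem_Sz hcS pinf_mem)
    rw [← mul_smul, ← hcg, mul_smul, T_smul_pinf]
  obtain ⟨c', d', l, rfl⟩ := exists_TD_of_fix_pinf h hm hF hcS hfix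
  have hl : l = 1 := by
    rw [mul_assoc, D_mul_T h hm hF, ← mul_assoc, ← mul_assoc, T_mul h, T_mul h] at hcg
    obtain ⟨e1, e2, -⟩ := TD_injective h hcg
    by_cases ha : a = 0
    · subst ha
      have hb : b ≠ 0 := fun h0 => hab ⟨rfl, h0⟩
      rw [θ_zero] at e2
      have e3 : ((l : F) * θ m (l : F) - 1) * b = 0 := by linear_combination e2
      rcases mul_eq_zero.1 e3 with h4 | h4
      · exact Units.ext (eq_one_of_mul_θ h (sub_eq_zero.1 h4))
      · exact absurd h4 hb
    · have e3 : ((l : F) - 1) * a = 0 := by linear_combination e1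
      rcases mul_eq_zero.1 e3 with h4 | h4
      · exact Units.ext (sub_eq_zero.1 h4)
      · exact absurd h4 ha
  rw [hl, D_one, mul_one]
  exact T_pow_four h c' d'

/-- elements of `Sz` fixing `∞` -/
theorem cases_of_fix_pinf (hm : 1 ≤ m) (hF : Fintype.card F = 2 ^ (2 * m + 1))
    {x : SpecialLinearGroup (Fin 4) F} (hx : x ∈ Sz F m) (hx1 : x ≠ 1)
    (hfix : x • (pinf : Projectivization F (Fin 4 → F)) = pinf) : CommC m x ∨ Exp4C m x := by
  obtain ⟨a, b, k, rfl⟩ := exists_TD_of_fix_pinf h hm hF hx hfix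
  by_cases hk : k = 1
  · right
    subst hk
    rw [D_one, mul_one] at hx1 ⊢
    apply exp4C_T h hm hF
    rintro ⟨rfl, rfl⟩
    exact hx1 T_zero
  · left
    obtain ⟨x₀, y₀, hxy⟩ := exists_fix_pt h hk a b
    have hu : (T m x₀ y₀)⁻¹ ∈ Sz F m := (Sz F m).inv_mem (T_mem h x₀ y₀)
    apply commC_conj hu
    have hx' : (T m x₀ y₀)⁻¹ * (T m a b * D m k) * (T m x₀ y₀)⁻¹⁻¹ ∈ Sz F m :=
      (Sz F m).mul_mem ((Sz F m).mul_mem hu hx) ((Sz F m).inv_mem hu)
    have f1 : ((T m x₀ y₀)⁻¹ * (T m a b * D m k) * (T m x₀ y₀)⁻¹⁻¹) •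
        (pinf : Projectivization F (Fin 4 → F)) = pinf := by
      rw [inv_inv, mul_smul, mul_smul, T_smul_pinf, hfix, inv_smul_eq_iff, T_smul_pinf]
    have f2 : ((T m x₀ y₀)⁻¹ * (T m a b * D m k) * (T m x₀ y₀)⁻¹⁻¹) • pt m (0 : F) 0 =
        pt m 0 0 := by
      rw [inv_inv, mul_smul, mul_smul, T_smul_pt_zero h, hxy, T_inv_smul_pt h]
    obtain ⟨k', hk'⟩ := eq_D_of_fix h hm hF hx' f1 f2
    rw [hk']
    apply commC_D h hm hF
    rintro rfl
    rw [D_one] at hk'
    apply hx1
    have : T m a b * D m k = (T m x₀ y₀) * ((T m x₀ y₀)⁻¹ * (T m a b * D m k) *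
        (T m x₀ y₀)⁻¹⁻¹) * (T m x₀ y₀)⁻¹ := by group
    rw [this, hk']
    group

/-- elements of `Sz` fixing a point of the ovoid -/
theorem cases_of_fix (hm : 1 ≤ m) (hF : Fintype.card F = 2 ^ (2 * m + 1))
    {g : SpecialLinearGroup (Fin 4) F} (hg : g ∈ Sz F m) (hg1 : g ≠ 1)
    {p : Projectivization F (Fin 4 → F)} (hp : p ∈ suzukiOvoid F m) (hfix : g • p = p) :
    CommC m g ∨ Exp4C m g := by
  obtain ⟨s, hs, hsp⟩ : ∃ s ∈ Sz F m, s • p = pinf := by
    rcases (mem_ovoid_iff p).1 hp with rfl | ⟨x, y, rfl⟩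
    · exact ⟨1, (Sz F m).one_mem, one_smul _ _⟩
    · refine ⟨W * (T m x y)⁻¹, (Sz F m).mul_mem (W_mem h) ((Sz F m).inv_mem (T_mem h x y)), ?_⟩
      rw [mul_smul, T_inv_smul_pt h, W_smul_pt_zero]
  have hx : s * g * s⁻¹ ∈ Sz F m := (Sz F m).mul_mem ((Sz F m).mul_mem hs hg) ((Sz F m).inv_mem hs)
  have hx1 : s * g * s⁻¹ ≠ 1 := by
    intro h1
    apply hg1
    have : g = s⁻¹ * (s * g * s⁻¹) * s := by group
    rw [this, h1]
    group
  have hfix' : (s * g * s⁻¹) • (pinf : Projectivization F (Fin 4 → F)) = pinf := by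
    rw [mul_smul, mul_smul, ← hsp, inv_smul_smul, hfix]
  rcases cases_of_fix_pinf h hm hF hx hx1 hfix' with h1 | h1
  · exact Or.inl (commC_conj hs h1)
  · exact Or.inr (exp4C_conj hs h1)

end Cfsg.Agent.Lib.H2.Sz
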