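import Mathlib
import Cfsg.Prelude.Def_LieExceptional
import Cfsg.Agent.Lib.H2.Sz15
import Cfsg.Agent.Lib.H2.LinIrr
import Cfsg.Agent.S0331

set_option autoImplicit false
set_option linter.unusedSimpArgs false
set_option linter.unusedSectionVars false

/-!
# Suzuki groups XVI: elements without fixed points on the ovoid
-/

namespace Cfsg.Agent.Lib.H2.Sz

open Matrix Cfsg Projectivization MulAction
open scoped Pointwise

variable {F : Type*} [Field F] {m : ℕ} [Fintype F]

/-- the permutation of the ovoid induced by an element of `Sz` -/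
def ovPerm {g : SpecialLinearGroup (Fin 4) F} (hg : g ∈ Sz F m) :
    Equiv.Perm (suzukiOvoid F m) where
  toFun p := ⟨g • (p : Projectivization F (Fin 4 → F)), smul_mem_of_mem_Sz hg p.2⟩
  invFun p := ⟨g⁻¹ • (p : Projectivization F (Fin 4 → F)),
    smul_mem_of_mem_Sz ((Sz F m).inv_mem hg) p.2⟩
  left_inv _ := Subtype.ext (inv_smul_smul _ _)
  right_inv _ := Subtype.ext (smul_inv_smul _ _)

theorem ovPerm_pow {g : SpecialLinearGroup (Fin 4) F} (hg : g ∈ Sz F m) (k : ℕ)
    (p : suzukiOvoid F m) :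
    ((ovPerm hg ^ k) p : Projectivization F (Fin 4 → F)) = g ^ k • (p : Projectivization F (Fin 4 → F)) := by
  induction k generalizing p with
  | zero => simp
  | succ k ih =>
    rw [pow_succ, Equiv.Perm.mul_apply, ih, pow_succ, mul_smul]
    rfl

/-- an element of prime order `p ∤ q² + 1` fixes a point of the ovoid -/
theorem exists_fix_of_prime_order {g : SpecialLinearGroup (Fin 4) F} (hg : g ∈ Sz F m) {p : ℕ}
    [Fact p.Prime] (hgp : g ^ p = 1) (hp : ¬ p ∣ Fintype.card F ^ 2 + 1) :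
    ∃ x ∈ suzukiOvoid F m, g • x = x := by
  classical
  have : Fintype (suzukiOvoid F m) := Fintype.ofFinite _
  have hcard : Fintype.card (suzukiOvoid F m) = Fintype.card F ^ 2 + 1 := by
    rw [← Nat.card_eq_fintype_card, Cfsg.Agent.S0326.result]
  rw [← hcard] at hp
  have hσ : ovPerm hg ^ p ^ 1 = 1 := by
    rw [pow_one]
    ext x
    rw [ovPerm_pow, hgp, one_smul]
    rfl
  obtain ⟨x, hx⟩ := Equiv.Perm.exists_fixed_point_of_prime hp hσ
  exact ⟨x, x.2, congrArg Subtype.val hx⟩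

variable (h : Fld F m)

include h

/-- an element of `Sz` interchanging two points of the ovoid is an involution -/
theorem sq_eq_one_of_swap (hm : 1 ≤ m) (hF : Fintype.card F = 2 ^ (2 * m + 1))
    {g : SpecialLinearGroup (Fin 4) F} (hg : g ∈ Sz F m)
    {a b : Projectivization F (Fin 4 → F)} (ha : a ∈ suzukiOvoid F m) (hb : b ∈ suzukiOvoid F m)
    (hab : a ≠ b) (hga : g • a = b) (hgb : g • b = a) : g * g = 1 := by
  obtain ⟨t, ht, hta, htb⟩ := exists_move h ha hb hab
  have hg' : W * (t * g * t⁻¹) ∈ Sz F m :=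
    (Sz F m).mul_mem (W_mem h)
      ((Sz F m).mul_mem ((Sz F m).mul_mem ht hg) ((Sz F m).inv_mem ht))
  have e1 : t⁻¹ • (pinf : Projectivization F (Fin 4 → F)) = a := by
    rw [inv_smul_eq_iff, hta]
  have e2 : t⁻¹ • pt m (0 : F) 0 = b := by
    rw [inv_smul_eq_iff, htb]
  have f1 : (W * (t * g * t⁻¹)) • (pinf : Projectivization F (Fin 4 → F)) = pinf := by
    rw [mul_smul, mul_smul, mul_smul, e1, hga, htb, W_smul_pt_zero]
  have f2 : (W * (t * g * t⁻¹)) • pt m (0 : F) 0 = pt m 0 0 := by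
    rw [mul_smul, mul_smul, mul_smul, e2, hgb, hta, W_smul_pinf]
  obtain ⟨l, hl⟩ := eq_D_of_fix h hm hF hg' f1 f2
  have h1 : t * g * t⁻¹ = W * D m l := by
    rw [← hl, ← mul_assoc, W_mul_self, one_mul]
  have h2 : (t * g * t⁻¹) * (t * g * t⁻¹) = 1 := by
    rw [h1, mul_assoc, ← mul_assoc (D m l), ← inv_inv l, ← W_mul_D, inv_inv, mul_assoc,
      ← D_mul, ← mul_assoc, W_mul_self, one_mul, inv_mul_cancel, D_one]
  have h3 : g * g = t⁻¹ * ((t * g * t⁻¹) * (t * g * t⁻¹)) * t := by group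
  rw [h3, h2]
  group

omit h in
/-- `g` fixes no point of the ovoid -/
def Fpf (m : ℕ) (g : SpecialLinearGroup (Fin 4) F) : Prop :=
  ∀ p ∈ suzukiOvoid F m, g • p ≠ p

/-- involutions have fixed points -/
theorem not_fpf_of_sq (hF : Fintype.card F = 2 ^ (2 * m + 1))
    {g : SpecialLinearGroup (Fin 4) F} (hg : g ∈ Sz F m) (hsq : g * g = 1) : ¬ Fpf m g := by
  intro hfpf
  have : Fact (Nat.Prime 2) := ⟨Nat.prime_two⟩
  have hodd : ¬ 2 ∣ Fintype.card F ^ 2 + 1 := by
    rw [hF]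
    have : (2 ^ (2 * m + 1)) ^ 2 + 1 = 2 * (2 ^ (2 * m) * 2 ^ (2 * m + 1)) + 1 := by
      rw [pow_two, pow_succ (2 : ℕ) (2 * m)]
      ring
    omega
  obtain ⟨x, hx, hfix⟩ := exists_fix_of_prime_order hg (by rw [pow_two]; exact hsq) hodd
  exact hfpf x hx hfix

/-- nontrivial powers of a fixed-point-free element are fixed-point-free -/
theorem fpf_pow (hm : 1 ≤ m) (hF : Fintype.card F = 2 ^ (2 * m + 1))
    {g : SpecialLinearGroup (Fin 4) F} (hg : g ∈ Sz F m) (hfpf : Fpf m g) {j : ℕ}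
    (hj : g ^ j ≠ 1) : Fpf m (g ^ j) := by
  intro p₀ hp₀ hfix
  have hgj : g ^ j ∈ Sz F m := (Sz F m).pow_mem hg j
  have hcomm : ∀ x : Projectivization F (Fin 4 → F), g ^ j • x = x → g ^ j • (g • x) = g • x := by
    intro x hx
    rw [← mul_smul, ← pow_succ, pow_succ', mul_smul, hx]
  have h1 := hcomm _ hfix
  have h2 := hcomm _ h1
  have hp1 : g • p₀ ∈ suzukiOvoid F m := smul_mem_of_mem_Sz hg hp₀
  have hp2 : g • g • p₀ ∈ suzukiOvoid F m := smul_mem_of_mem_Sz hg hp1
  have n1 : p₀ ≠ g • p₀ := fun e => hfpf p₀ hp₀ e.symm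
  have n2 : g • p₀ ≠ g • g • p₀ := fun e => hfpf _ hp1 e.symm
  by_cases n3 : p₀ = g • g • p₀
  · -- `g` swaps two points
    have hsq := sq_eq_one_of_swap h hm hF hg hp₀ hp1 n1 rfl n3.symm
    exact not_fpf_of_sq h hF hg hsq hfpf
  · exact hj (eq_one_of_fix_three h hm hF hgj hp₀ hp1 hp2 n1 n2 n3 hfix h1 h2)

/-- the centraliser in `Sz` of a fixed-point-free element is commutative -/
theorem commC_of_fpf (hm : 1 ≤ m) (hF : Fintype.card F = 2 ^ (2 * m + 1))
    {g : SpecialLinearGroup (Fin 4) F} (hg : g ∈ Sz F m) (hfpf : Fpf m g) : CommC m g := by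
  classical
  have hg1 : g ≠ 1 := by
    rintro rfl
    exact hfpf _ pinf_mem (one_smul _ _)
  have hfin : IsOfFinOrder g := isOfFinOrder_of_finite g
  have hn1 : orderOf g ≠ 1 := fun h1 => hg1 (orderOf_eq_one_iff.1 h1)
  obtain ⟨p, hp, hpn⟩ := Nat.exists_prime_and_dvd hn1
  have : Fact p.Prime := ⟨hp⟩
  set g' := g ^ (orderOf g / p) with hg'
  have hord : orderOf g' = p := orderOf_pow_orderOf_div (orderOf_pos_iff.2 hfin).ne' hpn
  have hg'1 : g' ≠ 1 := by
    intro h1
    rw [h1, orderOf_one] at hord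
    exact hp.one_lt.ne hord
  have hg'S : g' ∈ Sz F m := (Sz F m).pow_mem hg _
  have hg'p : g' ^ p = 1 := by rw [← hord]; exact pow_orderOf_eq_one g'
  have hfpf' : Fpf m g' := fpf_pow h hm hF hg hfpf hg'1
  -- `p` divides `q² + 1`
  have hpdvd : p ∣ Fintype.card F ^ 2 + 1 := by
    by_contra hnd
    obtain ⟨x, hx, hfix⟩ := exists_fix_of_prime_order hg'S hg'p hnd
    exact hfpf' x hx hfix
  have hp2 : p ≠ 2 := by
    rintro rfl
    rw [hF] at hpdvd
    have : (2 ^ (2 * m + 1)) ^ 2 + 1 = 2 * (2 ^ (2 * m) * 2 ^ (2 * m + 1)) + 1 := by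
      rw [pow_two, pow_succ (2 : ℕ) (2 * m)]
      ring
    omega
  have hq1 : 1 ≤ Fintype.card F := Fintype.card_pos
  obtain ⟨a0, a1, a2, a3⟩ := Cfsg.Agent.S0331.arith hp2 hq1 hpdvd
  -- the matrix statement
  have hA : (g' : Matrix (Fin 4) (Fin 4) F) ^ p = 1 := by
    have := congrArg (fun x : SpecialLinearGroup (Fin 4) F => (x : Matrix (Fin 4) (Fin 4) F)) hg'p
    simpa using this
  have hAne : (g' : Matrix (Fin 4) (Fin 4) F) ≠ 1 := by
    intro h1
    exact hg'1 (Subtype.ext h1)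
  have hpF : (p : F) ≠ 0 := by
    have hchar : CharP F 2 := h.charP
    intro h0
    have := (CharP.cast_eq_zero_iff F 2 p).1 h0
    exact hp2 ((Nat.prime_dvd_prime_iff_eq Nat.prime_two hp).1 this).symm
  have hnd : ∀ d, 0 < d → d < Fintype.card (Fin 4) → ¬ p ∣ Fintype.card F ^ d - 1 := by
    intro d hd hd'
    rw [Fintype.card_fin] at hd'
    interval_cases d
    · rw [pow_one]
      exact a1
    · exact a2
    · exact a3
  intro c hcS d hdS hcg hdg
  have hpow : ∀ (x : SpecialLinearGroup (Fin 4) F), x * g = g * x → ∀ k : ℕ, x * g ^ k = g ^ k * x := by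
    intro x hx k
    induction k with
    | zero => simp
    | succ k ih => rw [pow_succ, ← mul_assoc, ih, mul_assoc, hx, ← mul_assoc]
  have hc' : (c : Matrix (Fin 4) (Fin 4) F) * (g' : Matrix (Fin 4) (Fin 4) F) =
      (g' : Matrix (Fin 4) (Fin 4) F) * (c : Matrix (Fin 4) (Fin 4) F) := by
    have e := hpow c hcg (orderOf g / p)
    rw [← hg'] at e
    have := congrArg (fun x : SpecialLinearGroup (Fin 4) F => (x : Matrix (Fin 4) (Fin 4) F)) e
    simpa using this
  have hd' : (d : Matrix (Fin 4) (Fin 4) F) * (g' : Matrix (Fin 4) (Fin 4) F) =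
      (g' : Matrix (Fin 4) (Fin 4) F) * (d : Matrix (Fin 4) (Fin 4) F) := by
    have e := hpow d hdg (orderOf g / p)
    rw [← hg'] at e
    have := congrArg (fun x : SpecialLinearGroup (Fin 4) F => (x : Matrix (Fin 4) (Fin 4) F)) e
    simpa using this
  have hfinal := LinIrr.matrix_commute _ hA hAne hpF hnd _ _ hc' hd'
  apply Subtype.ext
  simpa using hfinal

end Cfsg.Agent.Lib.H2.Sz
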