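import Mathlib
import Cfsg.Prelude.Def_LieExceptional
import Cfsg.Agent.Lib.H2.Sz16
import Cfsg.Agent.Lib.H2.LinIrr2

set_option autoImplicit false
set_option linter.unusedSimpArgs false
set_option linter.unusedSectionVars false

/-!
# Suzuki groups XVII: the tori `C(g)` of fixed-point-free elements
-/

namespace Cfsg.Agent.Lib.H2.Sz

open Matrix Cfsg Projectivization MulAction
open scoped Pointwise

variable {F : Type*} [Field F] {m : ℕ} [Fintype F] (h : Fld F m)

include h

/-- a nontrivial element commuting with a fixed-point-free element is fixed-point-free -/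
theorem fpf_of_commute (hm : 1 ≤ m) (hF : Fintype.card F = 2 ^ (2 * m + 1))
    {g y : SpecialLinearGroup (Fin 4) F} (hg : g ∈ Sz F m) (hfpf : Fpf m g) (hy : y ∈ Sz F m)
    (hy1 : y ≠ 1) (hc : y * g = g * y) : Fpf m y := by
  intro p₀ hp₀ hfix
  have hcomm : ∀ x : Projectivization F (Fin 4 → F), y • x = x → y • (g • x) = g • x := by
    intro x hx
    rw [← mul_smul, hc, mul_smul, hx]
  have h1 := hcomm _ hfix
  have h2 := hcomm _ h1
  have hp1 : g • p₀ ∈ suzukiOvoid F m := smul_mem_of_mem_Sz hg hp₀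
  have hp2 : g • g • p₀ ∈ suzukiOvoid F m := smul_mem_of_mem_Sz hg hp1
  have n1 : p₀ ≠ g • p₀ := fun e => hfpf p₀ hp₀ e.symm
  have n2 : g • p₀ ≠ g • g • p₀ := fun e => hfpf _ hp1 e.symm
  by_cases n3 : p₀ = g • g • p₀
  · have hsq := sq_eq_one_of_swap h hm hF hg hp₀ hp1 n1 rfl n3.symm
    exact not_fpf_of_sq h hF hg hsq hfpf
  · exact hy1 (eq_one_of_fix_three h hm hF hy hp₀ hp1 hp2 n1 n2 n3 hfix h1 h2)

/-- a fixed-point-free element has a power of odd prime order `p ∣ q² + 1` -/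
theorem exists_prime_pow (hm : 1 ≤ m) (hF : Fintype.card F = 2 ^ (2 * m + 1))
    {g : SpecialLinearGroup (Fin 4) F} (hg : g ∈ Sz F m) (hfpf : Fpf m g) :
    ∃ p k : ℕ, p.Prime ∧ p ≠ 2 ∧ p ∣ Fintype.card F ^ 2 + 1 ∧ (g ^ k) ^ p = 1 ∧ g ^ k ≠ 1 := by
  have hg1 : g ≠ 1 := by
    rintro rfl
    exact hfpf _ pinf_mem (one_smul _ _)
  have hfin : IsOfFinOrder g := isOfFinOrder_of_finite g
  have hn1 : orderOf g ≠ 1 := fun h1 => hg1 (orderOf_eq_one_iff.1 h1)
  obtain ⟨p, hp, hpn⟩ := Nat.exists_prime_and_dvd hn1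
  have : Fact p.Prime := ⟨hp⟩
  have hord : orderOf (g ^ (orderOf g / p)) = p :=
    orderOf_pow_orderOf_div (orderOf_pos_iff.2 hfin).ne' hpn
  have hg'1 : g ^ (orderOf g / p) ≠ 1 := by
    intro h1
    rw [h1, orderOf_one] at hord
    exact hp.one_lt.ne hord
  have hg'S : g ^ (orderOf g / p) ∈ Sz F m := (Sz F m).pow_mem hg _
  have hg'p : (g ^ (orderOf g / p)) ^ p = 1 := by
    have := pow_orderOf_eq_one (g ^ (orderOf g / p))
    rwa [hord] at this
  have hfpf' : Fpf m (g ^ (orderOf g / p)) := fpf_pow h hm hF hg hfpf hg'1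
  have hpdvd : p ∣ Fintype.card F ^ 2 + 1 := by
    by_contra hnd
    obtain ⟨x, hx, hfix⟩ := exists_fix_of_prime_order hg'S hg'p hnd
    exact hfpf' x hx hfix
  have hp2 : p ≠ 2 := by
    rintro rfl
    rw [hF] at hpdvd
    have : (2 ^ (2 * m + 1)) ^ 2 + 1 = 2 * (2 ^ (2 * m) * 2 ^ (2 * m + 1)) + 1 := by
      rw [pow_two, pow_succ (2 : ℕ) (2 * m)]
      ring
    omega
  exact ⟨p, orderOf g / p, hp, hp2, hpdvd, hg'p, hg'1⟩

/-- the hypotheses of the irreducibility lemmas for an element of odd prime order `p ∣ q² + 1` -/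
theorem mat_hyp {y : SpecialLinearGroup (Fin 4) F} {p : ℕ} [Fact p.Prime] (hp2 : p ≠ 2)
    (hpd : p ∣ Fintype.card F ^ 2 + 1) (hyp : y ^ p = 1) (hy1 : y ≠ 1) :
    (y : Matrix (Fin 4) (Fin 4) F) ^ p = 1 ∧ (y : Matrix (Fin 4) (Fin 4) F) ≠ 1 ∧ (p : F) ≠ 0 ∧
      ∀ d, 0 < d → d < Fintype.card (Fin 4) → ¬ p ∣ Fintype.card F ^ d - 1 := by
  have hp : p.Prime := Fact.out
  have hq1 : 1 ≤ Fintype.card F := Fintype.card_pos
  obtain ⟨a0, a1, a2, a3⟩ := Cfsg.Agent.S0331.arith hp2 hq1 hpd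
  refine ⟨?_, ?_, ?_, ?_⟩
  · have := congrArg (fun x : SpecialLinearGroup (Fin 4) F => (x : Matrix (Fin 4) (Fin 4) F)) hyp
    simpa using this
  · intro h1
    exact hy1 (Subtype.ext h1)
  · have hchar : CharP F 2 := h.charP
    intro h0
    have := (CharP.cast_eq_zero_iff F 2 p).1 h0
    exact hp2 ((Nat.prime_dvd_prime_iff_eq Nat.prime_two hp).1 this).symm
  · intro d hd hd'
    rw [Fintype.card_fin] at hd'
    interval_cases d
    · rw [pow_one]
      exact a1
    · exact a2
    · exact a3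

omit h in
theorem mem_centralizer_iff' {g c : Sz F m} :
    c ∈ Subgroup.centralizer ({g} : Set (Sz F m)) ↔
      (c : SpecialLinearGroup (Fin 4) F) * g = g * c := by
  rw [Subgroup.mem_centralizer_singleton_iff]
  constructor
  · intro hc
    have := congrArg Subtype.val hc
    simpa using this
  · intro hc
    apply Subtype.ext
    simpa using hc

omit h in
theorem ne_one_of_fpf {g : SpecialLinearGroup (Fin 4) F} (hfpf : Fpf m g) : g ≠ 1 := by
  rintro rfl
  exact hfpf _ pinf_mem (one_smul _ _)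

/-- the centraliser of a fixed-point-free element is commutative -/
theorem comm_centralizer (hm : 1 ≤ m) (hF : Fintype.card F = 2 ^ (2 * m + 1)) {g : Sz F m}
    (hfpf : Fpf m (g : SpecialLinearGroup (Fin 4) F)) {c d : Sz F m}
    (hc : c ∈ Subgroup.centralizer ({g} : Set (Sz F m)))
    (hd : d ∈ Subgroup.centralizer ({g} : Set (Sz F m))) : c * d = d * c := by
  apply Subtype.ext
  exact commC_of_fpf h hm hF g.2 hfpf c c.2 d d.2 (mem_centralizer_iff'.1 hc)
    (mem_centralizer_iff'.1 hd)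

/-- nontrivial elements of the torus `C(g)` are fixed-point-free -/
theorem fpf_of_mem_centralizer (hm : 1 ≤ m) (hF : Fintype.card F = 2 ^ (2 * m + 1)) {g : Sz F m}
    (hfpf : Fpf m (g : SpecialLinearGroup (Fin 4) F)) {y : Sz F m}
    (hy : y ∈ Subgroup.centralizer ({g} : Set (Sz F m))) (hy1 : y ≠ 1) :
    Fpf m (y : SpecialLinearGroup (Fin 4) F) :=
  fpf_of_commute h hm hF g.2 hfpf y.2 (fun h0 => hy1 (Subtype.ext h0)) (mem_centralizer_iff'.1 hy)

/-- the tori are TI: `C(y) = C(g)` for `1 ≠ y ∈ C(g)` -/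
theorem centralizer_eq_of_mem (hm : 1 ≤ m) (hF : Fintype.card F = 2 ^ (2 * m + 1)) {g : Sz F m}
    (hfpf : Fpf m (g : SpecialLinearGroup (Fin 4) F)) {y : Sz F m}
    (hy : y ∈ Subgroup.centralizer ({g} : Set (Sz F m))) (hy1 : y ≠ 1) :
    Subgroup.centralizer ({y} : Set (Sz F m)) = Subgroup.centralizer ({g} : Set (Sz F m)) := by
  have hyf := fpf_of_mem_centralizer h hm hF hfpf hy hy1
  have hgy : g ∈ Subgroup.centralizer ({y} : Set (Sz F m)) := by
    rw [Subgroup.mem_centralizer_singleton_iff] at hy ⊢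
    exact hy.symm
  have hgg : g ∈ Subgroup.centralizer ({g} : Set (Sz F m)) := by
    rw [Subgroup.mem_centralizer_singleton_iff]
  have hyy : y ∈ Subgroup.centralizer ({y} : Set (Sz F m)) := by
    rw [Subgroup.mem_centralizer_singleton_iff]
  ext x
  constructor
  · intro hx
    rw [Subgroup.mem_centralizer_singleton_iff]
    exact (comm_centralizer h hm hF hyf hx hgy)
  · intro hx
    rw [Subgroup.mem_centralizer_singleton_iff]
    exact (comm_centralizer h hm hF hfpf hx hy)

/-- the tori are cyclic -/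
theorem isCyclic_centralizer (hm : 1 ≤ m) (hF : Fintype.card F = 2 ^ (2 * m + 1)) {g : Sz F m}
    (hfpf : Fpf m (g : SpecialLinearGroup (Fin 4) F)) :
    IsCyclic (Subgroup.centralizer ({g} : Set (Sz F m))) := by
  obtain ⟨p, k, hp, hp2, hpd, hyp, hy1⟩ := exists_prime_pow h hm hF g.2 hfpf
  have : Fact p.Prime := ⟨hp⟩
  obtain ⟨hA, hAne, hpF, hnd⟩ := mat_hyp h hp2 hpd hyp hy1
  let φ : Subgroup.centralizer ({g} : Set (Sz F m)) →* Matrix (Fin 4) (Fin 4) F :=
    { toFun := fun c => ((c : Sz F m) : SpecialLinearGroup (Fin 4) F)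
      map_one' := rfl
      map_mul' := fun c d => rfl }
  apply LinIrr.isCyclic_of_commute_matrix _ hA hAne hpF hnd φ
  · intro c d hcd
    apply Subtype.ext
    apply Subtype.ext
    apply Subtype.ext
    exact hcd
  · intro c
    have hc := mem_centralizer_iff'.1 c.2
    have hpow : ∀ j : ℕ, ((c : Sz F m) : SpecialLinearGroup (Fin 4) F) * (g : SpecialLinearGroup (Fin 4) F) ^ j =
        (g : SpecialLinearGroup (Fin 4) F) ^ j * ((c : Sz F m) : SpecialLinearGroup (Fin 4) F) := by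
      intro j
      induction j with
      | zero => simp
      | succ j ih => rw [pow_succ, ← mul_assoc, ih, mul_assoc, hc, ← mul_assoc]
    have := congrArg (fun x : SpecialLinearGroup (Fin 4) F => (x : Matrix (Fin 4) (Fin 4) F)) (hpow k)
    show (((c : Sz F m) : SpecialLinearGroup (Fin 4) F) : Matrix (Fin 4) (Fin 4) F) * _ =
      _ * (((c : Sz F m) : SpecialLinearGroup (Fin 4) F) : Matrix (Fin 4) (Fin 4) F)
    simpa using this

omit h [Fintype F] in
theorem coe_inv_eq (x : SpecialLinearGroup (Fin 4) F) :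
    (x : Matrix (Fin 4) (Fin 4) F)⁻¹ =
      ((x⁻¹ : SpecialLinearGroup (Fin 4) F) : Matrix (Fin 4) (Fin 4) F) := by
  have hdet : (x : Matrix (Fin 4) (Fin 4) F).det = 1 := x.2
  apply Matrix.inv_eq_right_inv
  have h1 : ((x⁻¹ : SpecialLinearGroup (Fin 4) F) : Matrix (Fin 4) (Fin 4) F) =
      adjugate (x : Matrix (Fin 4) (Fin 4) F) := Matrix.SpecialLinearGroup.coe_inv x
  rw [h1, Matrix.mul_adjugate, hdet, one_smul]

omit h [Fintype F] in
/-- conjugates of `y` are roots of the characteristic polynomial of `y` -/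
theorem aeval_conj_charpoly (x y : SpecialLinearGroup (Fin 4) F) :
    Polynomial.aeval ((x * y * x⁻¹ : SpecialLinearGroup (Fin 4) F) : Matrix (Fin 4) (Fin 4) F)
      (y : Matrix (Fin 4) (Fin 4) F).charpoly = 0 := by
  have hinv := coe_inv_eq x
  have e : ((x * y * x⁻¹ : SpecialLinearGroup (Fin 4) F) : Matrix (Fin 4) (Fin 4) F) =
      (Matrix.SpecialLinearGroup.toGL x).val * (y : Matrix (Fin 4) (Fin 4) F) *
        (Matrix.SpecialLinearGroup.toGL x).val⁻¹ := by
    show _ = (x : Matrix (Fin 4) (Fin 4) F) * _ * (x : Matrix (Fin 4) (Fin 4) F)⁻¹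
    rw [hinv]
    rfl
  have e2 := Matrix.charpoly_units_conj (Matrix.SpecialLinearGroup.toGL x)
    (y : Matrix (Fin 4) (Fin 4) F)
  rw [← e] at e2
  rw [← e2]
  exact Matrix.aeval_self_charpoly _

/-- the normaliser of a torus has index at most `4` over it -/
theorem card_normalizer_le (hm : 1 ≤ m) (hF : Fintype.card F = 2 ^ (2 * m + 1)) {g : Sz F m}
    (hfpf : Fpf m (g : SpecialLinearGroup (Fin 4) F)) :
    Nat.card (Subgroup.normalizer
      ((Subgroup.centralizer ({g} : Set (Sz F m)) : Subgroup (Sz F m)) : Set (Sz F m))) ≤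
      4 * Nat.card (Subgroup.centralizer ({g} : Set (Sz F m))) := by
  classical
  obtain ⟨p, k, hp, hp2, hpd, hyp, hy1⟩ := exists_prime_pow h hm hF g.2 hfpf
  have : Fact p.Prime := ⟨hp⟩
  obtain ⟨hA, hAne, hpF, hnd⟩ := mat_hyp h hp2 hpd hyp hy1
  set T : Subgroup (Sz F m) := Subgroup.centralizer ({g} : Set (Sz F m)) with hT
  set y : Sz F m := g ^ k with hy
  have hyT : y ∈ T := by
    rw [hT, Subgroup.mem_centralizer_singleton_iff, hy, ← pow_succ, ← pow_succ']
  have hy1' : y ≠ 1 := by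
    intro h0
    apply hy1
    have := congrArg Subtype.val h0
    simpa [hy] using this
  have hCy : Subgroup.centralizer ({y} : Set (Sz F m)) = T :=
    centralizer_eq_of_mem h hm hF hfpf hyT hy1'
  set A : Matrix (Fin 4) (Fin 4) F := (((g : SpecialLinearGroup (Fin 4) F) ^ k :
    SpecialLinearGroup (Fin 4) F) : Matrix (Fin 4) (Fin 4) F) with hAdef
  have hyA : ((y : Sz F m) : SpecialLinearGroup (Fin 4) F) = (g : SpecialLinearGroup (Fin 4) F) ^ k := by
    rw [hy]
    rfl
  have : Fintype (Subgroup.normalizer ((T : Subgroup (Sz F m)) : Set (Sz F m))) := Fintype.ofFinite _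
  have : Fintype T := Fintype.ofFinite _
  -- the conjugation map
  let f : Subgroup.normalizer ((T : Subgroup (Sz F m)) : Set (Sz F m)) → Matrix (Fin 4) (Fin 4) F :=
    fun x => (((x : Sz F m) * y * (x : Sz F m)⁻¹ : Sz F m) : SpecialLinearGroup (Fin 4) F)
  have hfT : ∀ x : Subgroup.normalizer ((T : Subgroup (Sz F m)) : Set (Sz F m)),
      (x : Sz F m) * y * (x : Sz F m)⁻¹ ∈ T := by
    intro x
    exact (Subgroup.mem_normalizer_iff.1 x.2 y).1 hyT
  have hcoe : ∀ u v : Sz F m, ((u : SpecialLinearGroup (Fin 4) F) : Matrix (Fin 4) (Fin 4) F) =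
      ((v : SpecialLinearGroup (Fin 4) F) : Matrix (Fin 4) (Fin 4) F) → u = v := by
    intro u v huv
    apply Subtype.ext
    apply Subtype.ext
    exact huv
  -- the image has at most four elements
  have himg : (Finset.univ.image f).card ≤ 4 := by
    have hdeg : (A.charpoly).natDegree = 4 := by
      rw [Matrix.charpoly_natDegree_eq_dim, Fintype.card_fin]
    refine le_trans ?_ (le_of_eq hdeg)
    apply LinIrr.card_roots_le_matrix A hA hAne hpF hnd A.charpoly (Matrix.charpoly_monic A).ne_zero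
    intro B hB
    rw [Finset.mem_image] at hB
    obtain ⟨x, -, rfl⟩ := hB
    constructor
    · -- commutes with `A`
      have h1 := comm_centralizer h hm hF hfpf (hfT x) hyT
      have h2 : ((((x : Sz F m) * y * (x : Sz F m)⁻¹ : Sz F m) : SpecialLinearGroup (Fin 4) F) :
          Matrix (Fin 4) (Fin 4) F) * ((y : SpecialLinearGroup (Fin 4) F) : Matrix (Fin 4) (Fin 4) F) =
          ((y : SpecialLinearGroup (Fin 4) F) : Matrix (Fin 4) (Fin 4) F) *
          ((((x : Sz F m) * y * (x : Sz F m)⁻¹ : Sz F m) : SpecialLinearGroup (Fin 4) F) :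
          Matrix (Fin 4) (Fin 4) F) :=
        congrArg (fun z : Sz F m => ((z : SpecialLinearGroup (Fin 4) F) :
          Matrix (Fin 4) (Fin 4) F)) h1
      rw [hyA] at h2
      exact h2
    · have := aeval_conj_charpoly ((x : Sz F m) : SpecialLinearGroup (Fin 4) F)
        ((y : Sz F m) : SpecialLinearGroup (Fin 4) F)
      rw [hyA] at this
      exact this
  -- fibres have at most `|T|` elements
  have hfib : ∀ B ∈ Finset.univ.image f,
      (Finset.univ.filter fun x => f x = B).card ≤ Fintype.card T := by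
    intro B hB
    rw [Finset.mem_image] at hB
    obtain ⟨x₀, -, rfl⟩ := hB
    have key : ∀ x : Subgroup.normalizer ((T : Subgroup (Sz F m)) : Set (Sz F m)),
        f x = f x₀ → (x₀ : Sz F m)⁻¹ * (x : Sz F m) ∈ T := by
      intro x hx
      have h1 : (x : Sz F m) * y * (x : Sz F m)⁻¹ = (x₀ : Sz F m) * y * (x₀ : Sz F m)⁻¹ :=
        hcoe _ _ hx
      have h2 : (x₀ : Sz F m)⁻¹ * (x : Sz F m) ∈ Subgroup.centralizer ({y} : Set (Sz F m)) := by
        rw [Subgroup.mem_centralizer_singleton_iff]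
        calc (x₀ : Sz F m)⁻¹ * (x : Sz F m) * y
            = (x₀ : Sz F m)⁻¹ * ((x : Sz F m) * y * (x : Sz F m)⁻¹) * (x : Sz F m) := by group
          _ = (x₀ : Sz F m)⁻¹ * ((x₀ : Sz F m) * y * (x₀ : Sz F m)⁻¹) * (x : Sz F m) := by rw [h1]
          _ = y * ((x₀ : Sz F m)⁻¹ * (x : Sz F m)) := by group
      rwa [hCy] at h2
    rw [← Finset.card_univ (α := T)]
    apply Finset.card_le_card_of_injOn (fun x => if hx : f x = f x₀ then
      (⟨(x₀ : Sz F m)⁻¹ * (x : Sz F m), key x hx⟩ : T) else 1)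
    · intro x _
      exact Finset.mem_univ _
    · intro x hx x' hx' hxx
      rw [Finset.coe_filter, Set.mem_ofPred_eq] at hx hx'
      simp only [dif_pos hx.2, dif_pos hx'.2] at hxx
      have := congrArg Subtype.val hxx
      simp only at this
      exact Subtype.ext (mul_left_cancel this)
  have hmain := Finset.card_le_mul_card_image (f := f) Finset.univ (Fintype.card T) hfib
  rw [Nat.card_eq_fintype_card, Nat.card_eq_fintype_card]
  calc Fintype.card _ = (Finset.univ : Finset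
        (Subgroup.normalizer ((T : Subgroup (Sz F m)) : Set (Sz F m)))).card := rfl
    _ ≤ Fintype.card T * (Finset.univ.image f).card := hmain
    _ ≤ Fintype.card T * 4 := Nat.mul_le_mul_left _ himg
    _ = 4 * Fintype.card T := mul_comm _ _

omit h [Fintype F] in
theorem two_pow_odd_mod_three (j : ℕ) : 2 ^ (2 * j + 1) % 3 = 2 := by
  rw [pow_succ, pow_mul, Nat.mul_mod, Nat.pow_mod]
  norm_num

/-- `3` does not divide the order of a Suzuki group -/
theorem three_not_dvd_card (hm : 1 ≤ m) (hF : Fintype.card F = 2 ^ (2 * m + 1)) :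
    ¬ 3 ∣ Nat.card (Sz F m) := by
  rw [card_Sz h hm hF]
  have h1 := two_pow_odd_mod_three m
  have hq1 : 1 ≤ 2 ^ (2 * m + 1) := Nat.one_le_two_pow
  generalize 2 ^ (2 * m + 1) = q at h1 hq1
  intro hdvd
  have h2 : (q ^ 2 * (q ^ 2 + 1) * (q - 1)) % 3 = 0 := Nat.mod_eq_zero_of_dvd hdvd
  have h3 : q ^ 2 % 3 = 1 := by rw [Nat.pow_mod, h1]
  have h4 : (q ^ 2 + 1) % 3 = 2 := by omega
  have h5 : (q - 1) % 3 = 1 := by omega
  rw [Nat.mul_mod, Nat.mul_mod (q ^ 2), h3, h4, h5] at h2
  norm_num at h2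

/-- the index of a torus in its normaliser is `1`, `2` or `4` -/
theorem card_normalizer_eq (hm : 1 ≤ m) (hF : Fintype.card F = 2 ^ (2 * m + 1)) {g : Sz F m}
    (hfpf : Fpf m (g : SpecialLinearGroup (Fin 4) F)) :
    ∃ n : ℕ, (n = 1 ∨ n = 2 ∨ n = 4) ∧
      Nat.card (Subgroup.normalizer
        ((Subgroup.centralizer ({g} : Set (Sz F m)) : Subgroup (Sz F m)) : Set (Sz F m))) =
      n * Nat.card (Subgroup.centralizer ({g} : Set (Sz F m))) := by
  have hle := card_normalizer_le h hm hF hfpf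
  obtain ⟨n, hn⟩ := Subgroup.card_dvd_of_le
    (Subgroup.le_normalizer (H := Subgroup.centralizer ({g} : Set (Sz F m))))
  have hTpos : 0 < Nat.card (Subgroup.centralizer ({g} : Set (Sz F m))) := Nat.card_pos
  have hNpos : 0 < Nat.card (Subgroup.normalizer
      ((Subgroup.centralizer ({g} : Set (Sz F m)) : Subgroup (Sz F m)) : Set (Sz F m))) :=
    Nat.card_pos
  have hn4 : n ≤ 4 := by
    rw [hn, mul_comm] at hle
    exact Nat.le_of_mul_le_mul_right hle hTpos
  have hn0 : n ≠ 0 := by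
    rintro rfl
    rw [hn, mul_zero] at hNpos
    exact lt_irrefl _ hNpos
  have hn3 : n ≠ 3 := by
    rintro rfl
    apply three_not_dvd_card h hm hF
    have h1 : (3 : ℕ) ∣ Nat.card (Subgroup.normalizer
        ((Subgroup.centralizer ({g} : Set (Sz F m)) : Subgroup (Sz F m)) : Set (Sz F m))) :=
      ⟨_, by rw [hn, mul_comm]⟩
    exact h1.trans (Subgroup.card_subgroup_dvd_card _)
  refine ⟨n, ?_, by rw [hn, mul_comm]⟩
  interval_cases n <;> simp_all

end Cfsg.Agent.Lib.H2.Sz
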