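import Mathlib
import Cfsg.Prelude.Def_LieExceptional
import Cfsg.Agent.Lib.H2.Sz17

set_option autoImplicit false
set_option linter.unusedSimpArgs false
set_option linter.unusedSectionVars false

/-!
# Suzuki groups XVIII: counting the fixed-point-free elements
-/

namespace Cfsg.Agent.Lib.H2.Sz

open Matrix Cfsg Projectivization MulAction
open scoped Pointwise

variable {F : Type*} [Field F] {m : ℕ} [Fintype F] (h : Fld F m)

include h

theorem card_stab (hm : 1 ≤ m) (hF : Fintype.card F = 2 ^ (2 * m + 1))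
    {x : Projectivization F (Fin 4 → F)} (hx : x ∈ suzukiOvoid F m) :
    Nat.card {g : Sz F m // (g : SpecialLinearGroup (Fin 4) F) • x = x} =
      (2 ^ (2 * m + 1)) ^ 2 * (2 ^ (2 * m + 1) - 1) := by
  obtain ⟨s, hs, hsx⟩ : ∃ s ∈ Sz F m, s • x = pinf := by
    rcases (mem_ovoid_iff x).1 hx with rfl | ⟨a, b, rfl⟩
    · exact ⟨1, (Sz F m).one_mem, one_smul _ _⟩
    · refine ⟨W * (T m a b)⁻¹, (Sz F m).mul_mem (W_mem h) ((Sz F m).inv_mem (T_mem h a b)), ?_⟩
      rw [mul_smul, T_inv_smul_pt h, W_smul_pt_zero]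
  rw [← card_stabilizer_pinf h hm hF]
  apply Nat.card_congr
  let s' : Sz F m := ⟨s, hs⟩
  have hsx' : s⁻¹ • (pinf : Projectivization F (Fin 4 → F)) = x := by
    rw [inv_smul_eq_iff, hsx]
  refine
    { toFun := fun g => ⟨s' * g.1 * s'⁻¹, ?_⟩
      invFun := fun g => ⟨s'⁻¹ * g.1 * s', ?_⟩
      left_inv := fun g => Subtype.ext (by simp only; group)
      right_inv := fun g => Subtype.ext (by simp only; group) }
  · show (s * (g.1 : SpecialLinearGroup (Fin 4) F) * s⁻¹) • (pinf : Projectivization F (Fin 4 → F)) = pinf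
    rw [mul_smul, mul_smul, hsx', g.2, hsx]
  · have hg : (g.1 : SpecialLinearGroup (Fin 4) F) • (pinf : Projectivization F (Fin 4 → F)) = pinf :=
      g.2
    show (s⁻¹ * (g.1 : SpecialLinearGroup (Fin 4) F) * s) • x = x
    rw [mul_smul, mul_smul, hsx, hg, hsx']

theorem card_stab₂ (hm : 1 ≤ m) (hF : Fintype.card F = 2 ^ (2 * m + 1))
    {x y : Projectivization F (Fin 4 → F)} (hx : x ∈ suzukiOvoid F m) (hy : y ∈ suzukiOvoid F m)
    (hxy : x ≠ y) :
    Nat.card {g : Sz F m // (g : SpecialLinearGroup (Fin 4) F) • x = x ∧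
      (g : SpecialLinearGroup (Fin 4) F) • y = y} = 2 ^ (2 * m + 1) - 1 := by
  obtain ⟨s, hs, hsx, hsy⟩ := exists_move h hx hy hxy
  obtain ⟨e⟩ := nonempty_two_point_equiv h hm hF
  rw [← hF, ← Nat.card_eq_fintype_card (α := F), ← Nat.card_units, ← Nat.card_congr e.toEquiv]
  apply Nat.card_congr
  let s' : Sz F m := ⟨s, hs⟩
  have hsx' : s⁻¹ • (pinf : Projectivization F (Fin 4 → F)) = x := by
    rw [inv_smul_eq_iff, hsx]
  have hsy' : s⁻¹ • pt m (0 : F) 0 = y := by
    rw [inv_smul_eq_iff, hsy]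
  refine
    { toFun := fun g => ⟨s' * g.1 * s'⁻¹, ?_, ?_⟩
      invFun := fun g => ⟨s'⁻¹ * g.1 * s', ?_, ?_⟩
      left_inv := fun g => Subtype.ext (by simp only; group)
      right_inv := fun g => Subtype.ext (by simp only; group) }
  · show (s * (g.1 : SpecialLinearGroup (Fin 4) F) * s⁻¹) • (pinf : Projectivization F (Fin 4 → F)) = pinf
    rw [mul_smul, mul_smul, hsx', g.2.1, hsx]
  · show (s * (g.1 : SpecialLinearGroup (Fin 4) F) * s⁻¹) • pt m (0 : F) 0 = pt m 0 0
    rw [mul_smul, mul_smul, hsy', g.2.2, hsy]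
  · have hg : (g.1 : SpecialLinearGroup (Fin 4) F) • (pinf : Projectivization F (Fin 4 → F)) = pinf :=
      g.2.1
    show (s⁻¹ * (g.1 : SpecialLinearGroup (Fin 4) F) * s) • x = x
    rw [mul_smul, mul_smul, hsx, hg, hsx']
  · have hg : (g.1 : SpecialLinearGroup (Fin 4) F) • pt m (0 : F) 0 = pt m 0 0 := g.2.2
    show (s⁻¹ * (g.1 : SpecialLinearGroup (Fin 4) F) * s) • y = y
    rw [mul_smul, mul_smul, hsy, hg, hsy']

end Cfsg.Agent.Lib.H2.Sz

namespace Cfsg.Agent.Lib.H2.Sz

open Matrix Cfsg Projectivization MulAction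
open scoped Pointwise

variable {F : Type*} [Field F] {m : ℕ} [Fintype F] (h : Fld F m)

include h

/-- twice the number of fixed-point-free elements is `q³ (q - 1)²` -/
theorem two_mul_card_fpf (hm : 1 ≤ m) (hF : Fintype.card F = 2 ^ (2 * m + 1)) :
    2 * Nat.card {g : Sz F m // Fpf m (g : SpecialLinearGroup (Fin 4) F)} =
      (2 ^ (2 * m + 1)) ^ 3 * (2 ^ (2 * m + 1) - 1) ^ 2 := by
  classical
  have : Fintype (Sz F m) := Fintype.ofFinite _
  have : Fintype (suzukiOvoid F m) := Fintype.ofFinite _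
  set q : ℕ := 2 ^ (2 * m + 1) with hq
  have hq1 : 1 ≤ q := Nat.one_le_two_pow
  have hΩ : Fintype.card (suzukiOvoid F m) = q ^ 2 + 1 := by
    rw [← Nat.card_eq_fintype_card, Cfsg.Agent.S0326.result, hF]
  have hG : Fintype.card (Sz F m) = q ^ 2 * (q ^ 2 + 1) * (q - 1) := by
    rw [← Nat.card_eq_fintype_card, card_Sz h hm hF]
  -- the number of fixed points
  let fx : Sz F m → Finset (suzukiOvoid F m) := fun g =>
    Finset.univ.filter fun x => (g : SpecialLinearGroup (Fin 4) F) • (x : Projectivization F (Fin 4 → F)) = x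
  -- first count
  have c1 : ∑ g : Sz F m, (fx g).card = (q ^ 2 + 1) * (q ^ 2 * (q - 1)) := by
    have e1 : ∀ g : Sz F m, (fx g).card = ∑ x : suzukiOvoid F m,
        if (g : SpecialLinearGroup (Fin 4) F) • (x : Projectivization F (Fin 4 → F)) = x then 1 else 0 := by
      intro g
      rw [Finset.card_filter]
    simp_rw [e1]
    rw [Finset.sum_comm]
    have e2 : ∀ x : suzukiOvoid F m, (∑ g : Sz F m,
        if (g : SpecialLinearGroup (Fin 4) F) • (x : Projectivization F (Fin 4 → F)) = x then 1 else 0) =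
        q ^ 2 * (q - 1) := by
      intro x
      rw [← Finset.card_filter, ← card_stab h hm hF x.2, Nat.card_eq_fintype_card,
        Fintype.card_subtype]
    simp_rw [e2]
    rw [Finset.sum_const, Finset.card_univ, hΩ, smul_eq_mul]
  -- second count
  have c2 : ∑ g : Sz F m, (fx g).card * ((fx g).card - 1) = (q ^ 2 + 1) * (q ^ 2 * (q - 1)) := by
    have e1 : ∀ g : Sz F m, (fx g).card * ((fx g).card - 1) = ∑ x : suzukiOvoid F m,
        ∑ y : suzukiOvoid F m, if x ≠ y ∧
          (g : SpecialLinearGroup (Fin 4) F) • (x : Projectivization F (Fin 4 → F)) = x ∧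
          (g : SpecialLinearGroup (Fin 4) F) • (y : Projectivization F (Fin 4 → F)) = y
          then 1 else 0 := by
      intro g
      rw [Nat.mul_sub, mul_one, ← Finset.offDiag_card, ← Finset.sum_product', ← Finset.card_filter]
      congr 1
      ext ⟨x, y⟩
      simp only [Finset.mem_offDiag, Finset.mem_filter, Finset.mem_univ, true_and, fx,
        Finset.univ_product_univ]
      tauto
    simp_rw [e1]
    rw [Finset.sum_comm]
    have e2 : ∀ x : suzukiOvoid F m, (∑ g : Sz F m, ∑ y : suzukiOvoid F m, if x ≠ y ∧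
          (g : SpecialLinearGroup (Fin 4) F) • (x : Projectivization F (Fin 4 → F)) = x ∧
          (g : SpecialLinearGroup (Fin 4) F) • (y : Projectivization F (Fin 4 → F)) = y
          then 1 else 0) = q ^ 2 * (q - 1) := by
      intro x
      rw [Finset.sum_comm]
      have e3 : ∀ y : suzukiOvoid F m, (∑ g : Sz F m, if x ≠ y ∧
          (g : SpecialLinearGroup (Fin 4) F) • (x : Projectivization F (Fin 4 → F)) = x ∧
          (g : SpecialLinearGroup (Fin 4) F) • (y : Projectivization F (Fin 4 → F)) = y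
          then 1 else 0) = if x ≠ y then q - 1 else 0 := by
        intro y
        by_cases hxy : x = y
        · simp [hxy]
        · rw [if_pos hxy]
          have hxy' : (x : Projectivization F (Fin 4 → F)) ≠ y := fun e => hxy (Subtype.ext e)
          rw [← card_stab₂ h hm hF x.2 y.2 hxy', Nat.card_eq_fintype_card, Fintype.card_subtype,
            Finset.card_filter]
          apply Finset.sum_congr rfl
          intro g _
          simp [hxy]
      simp_rw [e3]
      rw [← Finset.sum_filter, Finset.sum_const, smul_eq_mul]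
      have : (Finset.univ.filter fun y : suzukiOvoid F m => x ≠ y).card = q ^ 2 := by
        have h1 : (Finset.univ.filter fun y : suzukiOvoid F m => x ≠ y) = Finset.univ.erase x := by
          ext y
          simp [eq_comm]
        rw [h1, Finset.card_erase_of_mem (Finset.mem_univ _), Finset.card_univ, hΩ]
        simp
      rw [this]
    simp_rw [e2]
    rw [Finset.sum_const, Finset.card_univ, hΩ, smul_eq_mul]
  -- fixed points of individual elements
  have c3 : ∀ g : Sz F m, g ≠ 1 → (fx g).card ≤ 2 := by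
    intro g hg
    by_contra hlt
    push Not at hlt
    obtain ⟨a, b, c, ha, hb, hc, hab, hac, hbc⟩ := Finset.two_lt_card_iff.1 hlt
    simp only [fx, Finset.mem_filter, Finset.mem_univ, true_and] at ha hb hc
    apply hg
    apply Subtype.ext
    exact eq_one_of_fix_three h hm hF g.2 a.2 b.2 c.2
      (fun e => hab (Subtype.ext e)) (fun e => hbc (Subtype.ext e)) (fun e => hac (Subtype.ext e))
      ha hb hc
  have c4 : (fx 1).card = q ^ 2 + 1 := by
    have : fx 1 = Finset.univ := by
      ext x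
      simp only [fx, Finset.mem_filter, Finset.mem_univ, true_and, iff_true]
      exact one_smul _ _
    rw [this, Finset.card_univ, hΩ]
  have c5 : ∀ g : Sz F m, Fpf m (g : SpecialLinearGroup (Fin 4) F) ↔ (fx g).card = 0 := by
    intro g
    rw [Finset.card_eq_zero, Finset.filter_eq_empty_iff]
    constructor
    · intro hf x _
      exact hf x x.2
    · intro hf x hx
      exact hf (Finset.mem_univ ⟨x, hx⟩)
  have hq2 : 1 ≤ q ^ 2 := Nat.one_le_pow _ _ hq1
  have key : ∀ g : Sz F m, (fx g).card * ((fx g).card - 1) + 2 =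
      2 * (fx g).card + (if g = 1 then q ^ 2 * (q ^ 2 - 1) else 0) +
        (if Fpf m (g : SpecialLinearGroup (Fin 4) F) then 2 else 0) := by
    intro g
    by_cases hg : g = 1
    · subst hg
      have hnf : ¬ Fpf m ((1 : Sz F m) : SpecialLinearGroup (Fin 4) F) := by
        rw [c5, c4]
        omega
      rw [if_pos rfl, if_neg hnf, c4]
      obtain ⟨t, ht⟩ : ∃ t, q ^ 2 = t + 1 := ⟨q ^ 2 - 1, by omega⟩
      rw [ht]
      simp only [Nat.add_sub_cancel]
      ring
    · rw [if_neg hg]
      have h2 := c3 g hg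
      by_cases hf : Fpf m (g : SpecialLinearGroup (Fin 4) F)
      · rw [if_pos hf, (c5 g).1 hf]
      · rw [if_neg hf]
        have h0 : (fx g).card ≠ 0 := fun e => hf ((c5 g).2 e)
        interval_cases (fx g).card
        · exact absurd rfl h0
        · rfl
        · rfl
  have hsum := Finset.sum_congr (s₁ := (Finset.univ : Finset (Sz F m))) rfl (fun g _ => key g)
  rw [Finset.sum_add_distrib, Finset.sum_add_distrib, Finset.sum_add_distrib, c2, ← Finset.mul_sum,
    c1, Finset.sum_ite_eq' Finset.univ (1 : Sz F m), if_pos (Finset.mem_univ _), Finset.sum_const,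
    Finset.card_univ, hG, smul_eq_mul, ← Finset.sum_filter, Finset.sum_const, smul_eq_mul] at hsum
  rw [Nat.card_eq_fintype_card, Fintype.card_subtype, mul_comm 2]
  obtain ⟨r, hr⟩ : ∃ r, q = r + 1 := ⟨q - 1, by omega⟩
  rw [hr] at hsum ⊢
  simp only [Nat.add_sub_cancel] at hsum ⊢
  have e1 : (r + 1) ^ 2 - 1 = r ^ 2 + 2 * r := by
    have : (r + 1) ^ 2 = r ^ 2 + 2 * r + 1 := by ring
    omega
  rw [e1] at hsum
  nlinarith [hsum]

end Cfsg.Agent.Lib.H2.Sz
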