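import Mathlib

set_option autoImplicit false

/-!
# Counting the conjugates of a self-centralising TI subgroup
-/

namespace Cfsg.Agent.Lib.H2.TIClass

open Finset

variable {G : Type*} [Group G]

/-- centralisers of conjugates -/
theorem mem_centralizer_conj_iff (x g z : G) :
    z ∈ Subgroup.centralizer ({x * g * x⁻¹} : Set G) ↔
      x⁻¹ * z * x ∈ Subgroup.centralizer ({g} : Set G) := by
  rw [Subgroup.mem_centralizer_singleton_iff, Subgroup.mem_centralizer_singleton_iff]
  constructor
  · intro hz
    calc x⁻¹ * z * x * g = x⁻¹ * (z * (x * g * x⁻¹)) * x := by group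
      _ = x⁻¹ * (x * g * x⁻¹ * z) * x := by rw [hz]
      _ = g * (x⁻¹ * z * x) := by group
  · intro hz
    calc z * (x * g * x⁻¹) = x * (x⁻¹ * z * x * g) * x⁻¹ := by group
      _ = x * (g * (x⁻¹ * z * x)) * x⁻¹ := by rw [hz]
      _ = x * g * x⁻¹ * z := by group

/-- if `t` and `u t u⁻¹` are nontrivial elements of the self-centralising subgroup `T`
then `u` normalises `T` -/
theorem mem_normalizer_of_conj_mem (T : Subgroup G)
    (hT : ∀ t ∈ T, t ≠ 1 → Subgroup.centralizer ({t} : Set G) = T) {t u : G} (ht : t ∈ T)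
    (ht1 : t ≠ 1) (hu : u * t * u⁻¹ ∈ T) : u ∈ Subgroup.normalizer (T : Set G) := by
  have hut1 : u * t * u⁻¹ ≠ 1 := by
    intro h1
    apply ht1
    have : t = u⁻¹ * (u * t * u⁻¹) * u := by group
    rw [this, h1]
    group
  rw [Subgroup.mem_normalizer_iff]
  intro z
  have h1 := hT t ht ht1
  have h2 := hT _ hu hut1
  constructor
  · intro hz
    rw [← h2, mem_centralizer_conj_iff, h1]
    have : u⁻¹ * (u * z * u⁻¹) * u = z := by group
    rwa [this]
  · intro hz
    rw [← h2, mem_centralizer_conj_iff, h1] at hz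
    have : u⁻¹ * (u * z * u⁻¹) * u = z := by group
    rwa [this] at hz

variable [Fintype G] [DecidableEq G]

/-- the union of the conjugates of a self-centralising TI subgroup `T` (minus the identity) has
`|G| (|T| - 1) / |N(T)|` elements -/
theorem card_conj_class (T : Subgroup G) [DecidablePred (· ∈ T)]
    (hT : ∀ t ∈ T, t ≠ 1 → Subgroup.centralizer ({t} : Set G) = T) :
    (univ.filter fun g : G => g ≠ 1 ∧ ∃ x : G, x * g * x⁻¹ ∈ T).card *
      Nat.card (Subgroup.normalizer (T : Set G)) = Fintype.card G * (Nat.card T - 1) := by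
  classical
  have : Fintype T := Fintype.ofFinite _
  have : Fintype (Subgroup.normalizer (T : Set G)) := Fintype.ofFinite _
  set S : Finset G := univ.filter fun g : G => g ≠ 1 ∧ ∃ x : G, x * g * x⁻¹ ∈ T with hS
  rw [← card_univ (α := G)]
  apply card_mul_eq_card_mul (fun g x : G => x * g * x⁻¹ ∈ T)
  · -- for `g ∈ S`, the conjugating elements form a coset of the normaliser
    intro g hg
    rw [hS, mem_filter] at hg
    obtain ⟨-, hg1, x₀, hx₀⟩ := hg
    have ht1 : x₀ * g * x₀⁻¹ ≠ 1 := by
      intro h1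
      apply hg1
      have : g = x₀⁻¹ * (x₀ * g * x₀⁻¹) * x₀ := by group
      rw [this, h1]
      group
    rw [Nat.card_eq_fintype_card, ← card_univ]
    symm
    apply card_bij (fun (u : Subgroup.normalizer (T : Set G)) _ => (u : G) * x₀)
    · intro u _
      rw [bipartiteAbove, mem_filter]
      refine ⟨mem_univ _, ?_⟩
      have e : (u : G) * x₀ * g * ((u : G) * x₀)⁻¹ = (u : G) * (x₀ * g * x₀⁻¹) * (u : G)⁻¹ := by
        group
      rw [e]
      exact (Subgroup.mem_normalizer_iff.1 u.2 _).1 hx₀
    · intro u _ u' _ huu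
      exact Subtype.ext (mul_right_cancel huu)
    · intro x hx
      rw [bipartiteAbove, mem_filter] at hx
      have hx' : x * g * x⁻¹ ∈ T := hx.2
      have e : x * g * x⁻¹ = (x * x₀⁻¹) * (x₀ * g * x₀⁻¹) * (x * x₀⁻¹)⁻¹ := by group
      rw [e] at hx'
      refine ⟨⟨x * x₀⁻¹, mem_normalizer_of_conj_mem T hT hx₀ ht1 hx'⟩, mem_univ _, ?_⟩
      show x * x₀⁻¹ * x₀ = x
      group
  · -- for each `x`, the elements conjugated into `T` by `x` are `x⁻¹ (T \ 1) x`
    intro x _
    have hcard : Nat.card T - 1 = (univ.filter fun t : T => t ≠ 1).card := by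
      rw [Nat.card_eq_fintype_card, filter_ne' univ (1 : T), card_erase_of_mem (mem_univ _),
        card_univ]
    rw [hcard]
    symm
    apply card_bij (fun (t : T) _ => x⁻¹ * (t : G) * x)
    · intro t ht
      rw [mem_filter] at ht
      rw [bipartiteBelow, mem_filter, hS, mem_filter]
      have e : x * (x⁻¹ * (t : G) * x) * x⁻¹ = t := by group
      refine ⟨⟨mem_univ _, ?_, x, ?_⟩, ?_⟩
      · intro h1
        apply ht.2
        apply Subtype.ext
        have : (t : G) = x * (x⁻¹ * (t : G) * x) * x⁻¹ := by group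
        rw [this, h1]
        simp
      · rw [e]
        exact t.2
      · show x * (x⁻¹ * (t : G) * x) * x⁻¹ ∈ T
        rw [e]
        exact t.2
    · intro t _ t' _ htt
      apply Subtype.ext
      exact mul_left_cancel (mul_right_cancel htt)
    · intro g hg
      rw [bipartiteBelow, mem_filter, hS, mem_filter] at hg
      obtain ⟨⟨-, hg1, -⟩, hgx⟩ := hg
      refine ⟨⟨x * g * x⁻¹, hgx⟩, ?_, ?_⟩
      · rw [mem_filter]
        refine ⟨mem_univ _, ?_⟩
        intro h1
        apply hg1
        have h2 : x * g * x⁻¹ = 1 := congrArg Subtype.val h1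
        have : g = x⁻¹ * (x * g * x⁻¹) * x := by group
        rw [this, h2]
        group
      · show x⁻¹ * (x * g * x⁻¹) * x = g
        group

end Cfsg.Agent.Lib.H2.TIClass
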