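import Mathlib
import Cfsg.Prelude.Def_LieExceptional
import Cfsg.Agent.Lib.H2.Sz18
import Cfsg.Agent.Lib.H2.TIClass

set_option autoImplicit false
set_option linter.unusedSimpArgs false
set_option linter.unusedSectionVars false

/-!
# Suzuki groups XIX: conjugacy of the tori
-/

namespace Cfsg.Agent.Lib.H2.Sz

open Matrix Cfsg Projectivization MulAction
open scoped Pointwise

theorem sylow_mem_smul_iff' {G : Type*} [Group G] {p : ℕ} (P : Sylow p G) (s g : G) :
    g ∈ s • P ↔ s⁻¹ * g * s ∈ P := by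
  show g ∈ ((s • P : Sylow p G) : Subgroup G) ↔ _
  rw [Sylow.coe_subgroup_smul, Subgroup.mem_pointwise_smul_iff_inv_smul_mem]
  simp [MulAut.smul_def]
  rfl

variable {F : Type*} [Field F] {m : ℕ} [Fintype F] (h : Fld F m)

include h

omit h in
theorem odd_sq_add_one (hF : Fintype.card F = 2 ^ (2 * m + 1)) :
    ¬ 2 ∣ Fintype.card F ^ 2 + 1 := by
  rw [hF]
  have : (2 ^ (2 * m + 1)) ^ 2 + 1 = 2 * (2 ^ (2 * m) * 2 ^ (2 * m + 1)) + 1 := by
    rw [pow_two, pow_succ (2 : ℕ) (2 * m)]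
    ring
  omega

/-- prime divisors of the order of a torus -/
theorem prime_dvd_card_centralizer (hm : 1 ≤ m) (hF : Fintype.card F = 2 ^ (2 * m + 1))
    {g : Sz F m} (hfpf : Fpf m (g : SpecialLinearGroup (Fin 4) F)) {p : ℕ} (hp : p.Prime)
    (hpd : p ∣ Nat.card (Subgroup.centralizer ({g} : Set (Sz F m)))) :
    p ≠ 2 ∧ p ∣ Fintype.card F ^ 2 + 1 ∧
      ∃ y ∈ Subgroup.centralizer ({g} : Set (Sz F m)), orderOf y = p := by
  have : Fact p.Prime := ⟨hp⟩
  obtain ⟨y', hy'⟩ := exists_prime_orderOf_dvd_card' p hpd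
  have hy : orderOf (y' : Sz F m) = p := by rw [Subgroup.orderOf_coe, hy']
  have hy1 : (y' : Sz F m) ≠ 1 := by
    intro h1
    rw [h1, orderOf_one] at hy
    exact hp.one_lt.ne hy
  have hyf := fpf_of_mem_centralizer h hm hF hfpf y'.2 hy1
  have hyp : ((y' : Sz F m) : SpecialLinearGroup (Fin 4) F) ^ p = 1 := by
    have : (y' : Sz F m) ^ p = 1 := by rw [← hy]; exact pow_orderOf_eq_one _
    exact congrArg Subtype.val this
  have hpdvd : p ∣ Fintype.card F ^ 2 + 1 := by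
    by_contra hnd
    obtain ⟨x, hx, hfix⟩ := exists_fix_of_prime_order (y' : Sz F m).2 hyp hnd
    exact hyf x hx hfix
  refine ⟨?_, hpdvd, y', y'.2, hy⟩
  rintro rfl
  exact odd_sq_add_one hF hpdvd

/-- an element of prime order `p ∣ q² + 1` is fixed-point-free -/
theorem fpf_of_orderOf (hm : 1 ≤ m) (hF : Fintype.card F = 2 ^ (2 * m + 1)) {y : Sz F m} {p : ℕ}
    (hp : p.Prime) (hpd : p ∣ Fintype.card F ^ 2 + 1) (hy : orderOf y = p) :
    Fpf m (y : SpecialLinearGroup (Fin 4) F) := by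
  have : Fact p.Prime := ⟨hp⟩
  have hp2 : p ≠ 2 := by
    rintro rfl
    exact odd_sq_add_one hF hpd
  obtain ⟨a0, a1, -, -⟩ := Cfsg.Agent.S0331.arith hp2 Fintype.card_pos hpd
  intro x hx hfix
  have hmem : y ∈ stabilizer (Sz F m) x := hfix
  have h1 : orderOf y ∣ Nat.card (stabilizer (Sz F m) x) := Subgroup.orderOf_dvd_natCard _ hmem
  have h2 : Nat.card (stabilizer (Sz F m) x) = (2 ^ (2 * m + 1)) ^ 2 * (2 ^ (2 * m + 1) - 1) :=
    card_stab h hm hF hx
  rw [hy, h2, ← hF] at h1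
  rcases (Nat.Prime.dvd_mul hp).1 h1 with h3 | h3
  · exact a0 (hp.dvd_of_dvd_pow h3)
  · exact a1 h3

/-- a Sylow `p`-subgroup (`p` odd) containing a fixed-point-free `y` lies in `C(y)` -/
theorem sylow_le_centralizer (hm : 1 ≤ m) (hF : Fintype.card F = 2 ^ (2 * m + 1)) {p : ℕ}
    [Fact p.Prime] (hp2 : p ≠ 2) (P : Sylow p (Sz F m)) {y : Sz F m} (hy : y ∈ P) :
    (P : Subgroup (Sz F m)) ≤ Subgroup.centralizer ({y} : Set (Sz F m)) := by
  have hcyc : IsCyclic P := Cfsg.Agent.S0331.result hm hF hp2 P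
  intro z hz
  rw [Subgroup.mem_centralizer_singleton_iff]
  have hcomm : (⟨z, hz⟩ : P) * ⟨y, hy⟩ = ⟨y, hy⟩ * ⟨z, hz⟩ := by
    obtain ⟨c, hc⟩ := IsCyclic.exists_generator (α := P)
    obtain ⟨i, hi⟩ := Subgroup.mem_zpowers_iff.1 (hc ⟨z, hz⟩)
    obtain ⟨j, hj⟩ := Subgroup.mem_zpowers_iff.1 (hc ⟨y, hy⟩)
    rw [← hi, ← hj, ← _root_.zpow_add, ← _root_.zpow_add, add_comm]
  exact congrArg Subtype.val hcomm

/-- two tori whose orders have a common prime divisor are conjugate -/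
theorem exists_conj_of_common_prime (hm : 1 ≤ m) (hF : Fintype.card F = 2 ^ (2 * m + 1))
    {g g' : Sz F m} (hfpf : Fpf m (g : SpecialLinearGroup (Fin 4) F))
    (hfpf' : Fpf m (g' : SpecialLinearGroup (Fin 4) F)) {p : ℕ} (hp : p.Prime)
    (hpd : p ∣ Nat.card (Subgroup.centralizer ({g} : Set (Sz F m))))
    (hpd' : p ∣ Nat.card (Subgroup.centralizer ({g'} : Set (Sz F m)))) :
    ∃ x : Sz F m, ∀ z : Sz F m, z ∈ Subgroup.centralizer ({g} : Set (Sz F m)) ↔
      x * z * x⁻¹ ∈ Subgroup.centralizer ({g'} : Set (Sz F m)) := by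
  have : Fact p.Prime := ⟨hp⟩
  obtain ⟨hp2, -, y, hyC, hy⟩ := prime_dvd_card_centralizer h hm hF hfpf hp hpd
  obtain ⟨-, -, y', hyC', hy'⟩ := prime_dvd_card_centralizer h hm hF hfpf' hp hpd'
  have hy1 : y ≠ 1 := by
    rintro rfl
    rw [orderOf_one] at hy
    exact hp.one_lt.ne hy
  have hy1' : y' ≠ 1 := by
    rintro rfl
    rw [orderOf_one] at hy'
    exact hp.one_lt.ne hy'
  -- Sylow subgroups through `y`, `y'`
  have hpg : ∀ w : Sz F m, orderOf w = p → IsPGroup p (Subgroup.zpowers w) := by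
    intro w hw
    apply IsPGroup.of_card (n := 1)
    rw [Nat.card_zpowers, hw, pow_one]
  obtain ⟨P, hP⟩ := (hpg y hy).exists_le_sylow
  obtain ⟨P', hP'⟩ := (hpg y' hy').exists_le_sylow
  have hyP : y ∈ P := hP (Subgroup.mem_zpowers y)
  have hyP' : y' ∈ P' := hP' (Subgroup.mem_zpowers y')
  obtain ⟨x, hx⟩ := MulAction.exists_smul_eq (Sz F m) P P'
  refine ⟨x, fun z => ?_⟩
  -- `x y x⁻¹ ∈ P' ≤ C(y') = C(g')`
  have hCy := centralizer_eq_of_mem h hm hF hfpf hyC hy1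
  have hCy' := centralizer_eq_of_mem h hm hF hfpf' hyC' hy1'
  have h1 : x * y * x⁻¹ ∈ P' := by
    rw [← hx, sylow_mem_smul_iff']
    have : x⁻¹ * (x * y * x⁻¹) * x = y := by group
    rwa [this]
  have h2 : x * y * x⁻¹ ∈ Subgroup.centralizer ({g'} : Set (Sz F m)) := by
    rw [← hCy']
    exact sylow_le_centralizer h hm hF hp2 P' hyP' h1
  have h3 : x * y * x⁻¹ ≠ 1 := by
    intro h0
    apply hy1
    have : y = x⁻¹ * (x * y * x⁻¹) * x := by group
    rw [this, h0]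
    group
  have hC := centralizer_eq_of_mem h hm hF hfpf' h2 h3
  rw [← hC, TIClass.mem_centralizer_conj_iff, hCy]
  have : x⁻¹ * (x * z * x⁻¹) * x = z := by group
  rw [this]

/-- every prime power dividing `q² + 1` divides the order of some torus -/
theorem exists_fpf_of_prime (hm : 1 ≤ m) (hF : Fintype.card F = 2 ^ (2 * m + 1)) {p : ℕ}
    (hp : p.Prime) (hpd : p ∣ Fintype.card F ^ 2 + 1) :
    ∃ g : Sz F m, Fpf m (g : SpecialLinearGroup (Fin 4) F) ∧
      p ^ (Nat.card (Sz F m)).factorization p ∣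
        Nat.card (Subgroup.centralizer ({g} : Set (Sz F m))) := by
  have : Fact p.Prime := ⟨hp⟩
  have hp2 : p ≠ 2 := by
    rintro rfl
    exact odd_sq_add_one hF hpd
  have hpG : p ∣ Nat.card (Sz F m) := by
    rw [card_Sz h hm hF, ← hF]
    exact Dvd.dvd.mul_right (Dvd.dvd.mul_left hpd _) _
  obtain ⟨y, hy⟩ := exists_prime_orderOf_dvd_card' p hpG
  have hyf := fpf_of_orderOf h hm hF hp hpd hy
  have hpg : IsPGroup p (Subgroup.zpowers y) := by
    apply IsPGroup.of_card (n := 1)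
    rw [Nat.card_zpowers, hy, pow_one]
  obtain ⟨P, hP⟩ := hpg.exists_le_sylow
  have hyP : y ∈ P := hP (Subgroup.mem_zpowers y)
  refine ⟨y, hyf, ?_⟩
  rw [← Sylow.card_eq_multiplicity P]
  exact Subgroup.card_dvd_of_le (sylow_le_centralizer h hm hF hp2 P hyP)

end Cfsg.Agent.Lib.H2.Sz
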