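import Mathlib

set_option autoImplicit false

namespace Cfsg.Agent.Lib.H2.TorArith

/-- the arithmetic of the class equation of the Suzuki tori -/
theorem tori_arith (r q : ℕ) (hr : 2 ≤ r) (hq : q = 2 * r ^ 2) (V : Finset ℕ) (n : ℕ → ℕ)
    (h5 : ∀ c ∈ V, 5 ≤ c) (hn : ∀ c ∈ V, n c = 1 ∨ n c = 2 ∨ n c = 4)
    (hprod : ∏ c ∈ V, c = q ^ 2 + 1)
    (hsum : ∑ c ∈ V, ((c : ℚ) - 1) / ((n c : ℚ) * c) = (q : ℚ) * (q - 1) / (2 * (q ^ 2 + 1))) :
    V = {q + 2 * r + 1, q + 1 - 2 * r} ∧ ∀ c ∈ V, n c = 4 := by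
  have hq8 : 8 ≤ q := by
    rw [hq]
    nlinarith
  have hqQ : (8 : ℚ) ≤ q := by exact_mod_cast hq8
  -- bounds on the terms
  have hterm : ∀ c ∈ V, (1 : ℚ) / 5 ≤ ((c : ℚ) - 1) / ((n c : ℚ) * c) := by
    intro c hc
    have hc5 : (5 : ℚ) ≤ c := by exact_mod_cast h5 c hc
    have hnpos : (0 : ℚ) < n c := by
      rcases hn c hc with h1 | h1 | h1 <;> rw [h1] <;> norm_num
    have hn4 : (n c : ℚ) ≤ 4 := by
      rcases hn c hc with h1 | h1 | h1 <;> rw [h1] <;> norm_num
    rw [div_le_div_iff₀ (by norm_num) (by positivity)]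
    nlinarith
  have hterm2 : ∀ c ∈ V, n c ≠ 4 → (2 : ℚ) / 5 ≤ ((c : ℚ) - 1) / ((n c : ℚ) * c) := by
    intro c hc hne
    have hc5 : (5 : ℚ) ≤ c := by exact_mod_cast h5 c hc
    have hnpos : (0 : ℚ) < n c := by
      rcases hn c hc with h1 | h1 | h1 <;> rw [h1] <;> norm_num
    have hn2 : (n c : ℚ) ≤ 2 := by
      rcases hn c hc with h1 | h1 | h1
      · rw [h1]; norm_num
      · rw [h1]; norm_num
      · exact absurd h1 hne
    rw [div_le_div_iff₀ (by norm_num) (by positivity)]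
    nlinarith
  have hrhs : (q : ℚ) * (q - 1) / (2 * (q ^ 2 + 1)) < 1 / 2 := by
    rw [div_lt_div_iff₀ (by positivity) (by norm_num)]
    nlinarith
  have hrhs0 : 0 < (q : ℚ) * (q - 1) / (2 * (q ^ 2 + 1)) := by
    apply div_pos
    · nlinarith
    · positivity
  -- at most two classes
  have hcard : V.card ≤ 2 := by
    have h1 : V.card • ((1 : ℚ) / 5) ≤ ∑ c ∈ V, ((c : ℚ) - 1) / ((n c : ℚ) * c) :=
      Finset.card_nsmul_le_sum _ _ _ hterm
    rw [hsum, nsmul_eq_mul] at h1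
    have h2 : (V.card : ℚ) < 5 / 2 := by linarith
    have h3 : (V.card : ℚ) < 3 := by linarith
    have h4 : V.card < 3 := by exact_mod_cast h3
    omega
  interval_cases hV : V.card
  · -- no class: impossible
    rw [Finset.card_eq_zero] at hV
    rw [hV, Finset.sum_empty] at hsum
    linarith
  · -- one class: impossible
    rw [Finset.card_eq_one] at hV
    obtain ⟨c, rfl⟩ := hV
    rw [Finset.prod_singleton] at hprod
    rw [Finset.sum_singleton] at hsum
    exfalso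
    have hc : (c : ℚ) = (q : ℚ) ^ 2 + 1 := by exact_mod_cast hprod
    rw [hc] at hsum
    have hQpos : (0 : ℚ) < (q : ℚ) ^ 2 + 1 := by positivity
    rcases hn c (Finset.mem_singleton_self c) with h1 | h1 | h1 <;> rw [h1] at hsum <;>
      field_simp at hsum <;> push_cast at hsum <;> nlinarith
  · -- two classes
    rw [Finset.card_eq_two] at hV
    obtain ⟨c₁, c₂, hne, rfl⟩ := hV
    rw [Finset.prod_pair hne] at hprod
    rw [Finset.sum_pair hne] at hsum
    have m1 : c₁ ∈ ({c₁, c₂} : Finset ℕ) := by simp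
    have m2 : c₂ ∈ ({c₁, c₂} : Finset ℕ) := by simp
    have hn1 : n c₁ = 4 := by
      by_contra hne1
      have := hterm2 c₁ m1 hne1
      have := hterm c₂ m2
      linarith
    have hn2 : n c₂ = 4 := by
      by_contra hne2
      have := hterm2 c₂ m2 hne2
      have := hterm c₁ m1
      linarith
    have hc1 : (5 : ℚ) ≤ c₁ := by exact_mod_cast h5 c₁ m1
    have hc2 : (5 : ℚ) ≤ c₂ := by exact_mod_cast h5 c₂ m2
    have hprodQ : (c₁ : ℚ) * c₂ = (q : ℚ) ^ 2 + 1 := by exact_mod_cast hprod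
    rw [hn1, hn2] at hsum
    have hsumQ : (c₁ : ℚ) + c₂ = 2 * q + 2 := by
      have hQpos : (0 : ℚ) < (q : ℚ) ^ 2 + 1 := by positivity
      have h1 : (0 : ℚ) < c₁ := by linarith
      have h2 : (0 : ℚ) < c₂ := by linarith
      field_simp at hsum
      push_cast at hsum
      nlinarith
    have hsumN : c₁ + c₂ = 2 * q + 2 := by exact_mod_cast hsumQ
    -- solve the quadratic
    have hsq : ((c₁ : ℤ) - c₂) ^ 2 = (4 * (r : ℤ)) ^ 2 := by
      have e1 : (c₁ : ℤ) + c₂ = 2 * q + 2 := by exact_mod_cast hsumN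
      have e2 : (c₁ : ℤ) * c₂ = (q : ℤ) ^ 2 + 1 := by exact_mod_cast hprod
      have e3 : (q : ℤ) = 2 * (r : ℤ) ^ 2 := by exact_mod_cast hq
      nlinarith
    have h2rq : 2 * r ≤ q := by
      rw [hq]
      nlinarith
    refine ⟨?_, ?_⟩
    · rcases sq_eq_sq_iff_eq_or_eq_neg.1 hsq with h1 | h1
      · have e1 : c₁ = q + 2 * r + 1 := by omega
        have e2 : c₂ = q + 1 - 2 * r := by omega
        rw [e1, e2]
      · have e1 : c₂ = q + 2 * r + 1 := by omega
        have e2 : c₁ = q + 1 - 2 * r := by omega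
        rw [e1, e2, Finset.pair_comm]
    · intro c hc
      rw [Finset.mem_insert, Finset.mem_singleton] at hc
      rcases hc with rfl | rfl
      · exact hn1
      · exact hn2

end Cfsg.Agent.Lib.H2.TorArith
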