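import Mathlib
import Cfsg.Prelude.Def_LieExceptional
import Cfsg.Agent.Lib.H2.Sz19
import Cfsg.Agent.Lib.H2.HallProd
import Cfsg.Agent.Lib.H2.TorArith

set_option autoImplicit false
set_option linter.unusedSimpArgs false
set_option linter.unusedSectionVars false

/-!
# Suzuki groups XX: the class equation for the tori
-/

namespace Cfsg.Agent.Lib.H2.Sz

open Matrix Cfsg Projectivization MulAction
open scoped Pointwise

variable {F : Type*} [Field F] {m : ℕ} [Fintype F]

/-- the order of the centraliser -/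
noncomputable def cT (g : Sz F m) : ℕ := Nat.card (Subgroup.centralizer ({g} : Set (Sz F m)))

/-- the order of the normaliser of the centraliser -/
noncomputable def nT (g : Sz F m) : ℕ :=
  Nat.card (Subgroup.normalizer
    ((Subgroup.centralizer ({g} : Set (Sz F m)) : Subgroup (Sz F m)) : Set (Sz F m)))

theorem cT_eq_of_conj {g g' x : Sz F m}
    (hx : ∀ z : Sz F m, z ∈ Subgroup.centralizer ({g} : Set (Sz F m)) ↔
      x * z * x⁻¹ ∈ Subgroup.centralizer ({g'} : Set (Sz F m))) : cT g = cT g' := by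
  unfold cT
  apply Nat.card_congr
  refine
    { toFun := fun z => ⟨x * z.1 * x⁻¹, (hx z.1).1 z.2⟩
      invFun := fun z => ⟨x⁻¹ * z.1 * x, (hx _).2 (by
        have : x * (x⁻¹ * z.1 * x) * x⁻¹ = z.1 := by group
        rw [this]
        exact z.2)⟩
      left_inv := fun z => Subtype.ext (by simp only; group)
      right_inv := fun z => Subtype.ext (by simp only; group) }

theorem fpf_conj {x g : SpecialLinearGroup (Fin 4) F} (hx : x ∈ Sz F m)
    (hf : Fpf m (x * g * x⁻¹)) : Fpf m g := by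
  intro p hp hfix
  apply hf (x • p) (smul_mem_of_mem_Sz hx hp)
  rw [mul_smul, mul_smul, inv_smul_smul, hfix]

variable (h : Fld F m)

include h

theorem one_lt_cT (hm : 1 ≤ m) (hF : Fintype.card F = 2 ^ (2 * m + 1)) {g : Sz F m}
    (hfpf : Fpf m (g : SpecialLinearGroup (Fin 4) F)) : 1 < cT g := by
  unfold cT
  rw [Finite.one_lt_card_iff_nontrivial]
  refine ⟨⟨⟨g, ?_⟩, 1, ?_⟩⟩
  · rw [Subgroup.mem_centralizer_singleton_iff]
  · intro h1
    have h2 : g = 1 := congrArg Subtype.val h1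
    exact ne_one_of_fpf hfpf (congrArg Subtype.val h2)

/-- tori of the same order are conjugate -/
theorem exists_conj_of_cT_eq (hm : 1 ≤ m) (hF : Fintype.card F = 2 ^ (2 * m + 1))
    {g g' : Sz F m} (hfpf : Fpf m (g : SpecialLinearGroup (Fin 4) F))
    (hfpf' : Fpf m (g' : SpecialLinearGroup (Fin 4) F)) (hc : cT g = cT g') :
    ∃ x : Sz F m, ∀ z : Sz F m, z ∈ Subgroup.centralizer ({g} : Set (Sz F m)) ↔
      x * z * x⁻¹ ∈ Subgroup.centralizer ({g'} : Set (Sz F m)) := by
  have h1 := one_lt_cT h hm hF hfpf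
  obtain ⟨p, hp, hpd⟩ := Nat.exists_prime_and_dvd h1.ne'
  have hpd' : p ∣ cT g' := hc ▸ hpd
  exact exists_conj_of_common_prime h hm hF hfpf hfpf' hp hpd hpd'

/-- the class of a torus: the fixed-point-free elements whose centraliser has a given order -/
theorem fiber_card (hm : 1 ≤ m) (hF : Fintype.card F = 2 ^ (2 * m + 1)) [Fintype (Sz F m)]
    [DecidableEq (Sz F m)] [DecidablePred fun g : Sz F m => Fpf m (g : SpecialLinearGroup (Fin 4) F)]
    {g₀ : Sz F m} (hfpf : Fpf m (g₀ : SpecialLinearGroup (Fin 4) F)) :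
    (Finset.univ.filter fun g : Sz F m =>
      Fpf m (g : SpecialLinearGroup (Fin 4) F) ∧ cT g = cT g₀).card * nT g₀ =
      Fintype.card (Sz F m) * (cT g₀ - 1) := by
  classical
  have hT : ∀ t ∈ Subgroup.centralizer ({g₀} : Set (Sz F m)), t ≠ 1 →
      Subgroup.centralizer ({t} : Set (Sz F m)) = Subgroup.centralizer ({g₀} : Set (Sz F m)) :=
    fun t ht ht1 => centralizer_eq_of_mem h hm hF hfpf ht ht1
  have key := TIClass.card_conj_class (Subgroup.centralizer ({g₀} : Set (Sz F m))) hT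
  have hset : (Finset.univ.filter fun g : Sz F m =>
      Fpf m (g : SpecialLinearGroup (Fin 4) F) ∧ cT g = cT g₀) =
      Finset.univ.filter fun g : Sz F m =>
        g ≠ 1 ∧ ∃ x : Sz F m, x * g * x⁻¹ ∈ Subgroup.centralizer ({g₀} : Set (Sz F m)) := by
    ext g
    simp only [Finset.mem_filter, Finset.mem_univ, true_and]
    constructor
    · rintro ⟨hg, hc⟩
      refine ⟨fun h1 => ne_one_of_fpf hg (congrArg Subtype.val h1), ?_⟩
      obtain ⟨x, hx⟩ := exists_conj_of_cT_eq h hm hF hg hfpf hc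
      refine ⟨x, (hx g).1 ?_⟩
      rw [Subgroup.mem_centralizer_singleton_iff]
    · rintro ⟨hg1, x, hx⟩
      have hx1 : x * g * x⁻¹ ≠ 1 := by
        intro h0
        apply hg1
        have : g = x⁻¹ * (x * g * x⁻¹) * x := by group
        rw [this, h0]
        group
      have hxf := fpf_of_mem_centralizer h hm hF hfpf hx hx1
      have hgf : Fpf m (g : SpecialLinearGroup (Fin 4) F) := fpf_conj x.2 hxf
      refine ⟨hgf, ?_⟩
      have hC := centralizer_eq_of_mem h hm hF hfpf hx hx1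
      apply cT_eq_of_conj (x := x)
      intro z
      rw [← hC, TIClass.mem_centralizer_conj_iff]
      have : x⁻¹ * (x * z * x⁻¹) * x = z := by group
      rw [this]
  rw [hset]
  exact key

/-- the order of a torus is at least `5` -/
theorem five_le_cT (hm : 1 ≤ m) (hF : Fintype.card F = 2 ^ (2 * m + 1)) {g : Sz F m}
    (hfpf : Fpf m (g : SpecialLinearGroup (Fin 4) F)) : 5 ≤ cT g := by
  have h1 := one_lt_cT h hm hF hfpf
  have hp : (cT g).minFac.Prime := Nat.minFac_prime h1.ne'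
  have hpd : (cT g).minFac ∣ cT g := Nat.minFac_dvd _
  obtain ⟨hp2, -, -⟩ := prime_dvd_card_centralizer h hm hF hfpf hp hpd
  have hp3 : (cT g).minFac ≠ 3 := by
    intro h3
    apply three_not_dvd_card h hm hF
    rw [h3] at hpd
    exact hpd.trans (Subgroup.card_subgroup_dvd_card _)
  have h5 : 5 ≤ (cT g).minFac := by
    have h2 := hp.two_le
    by_contra hlt
    push Not at hlt
    interval_cases hh : (cT g).minFac
    · exact hp2 rfl
    · exact hp3 rfl
    · exact absurd hp (by norm_num)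
  exact h5.trans (Nat.minFac_le (by omega))

/-- the `p`-part of the order of `Sz` for `p ∣ q² + 1` -/
theorem factorization_card_Sz_of_dvd (hm : 1 ≤ m) (hF : Fintype.card F = 2 ^ (2 * m + 1)) {p : ℕ}
    (hp : p.Prime) (hpd : p ∣ Fintype.card F ^ 2 + 1) :
    (Nat.card (Sz F m)).factorization p = (Fintype.card F ^ 2 + 1).factorization p := by
  have : Fact p.Prime := ⟨hp⟩
  have hp2 : p ≠ 2 := by
    rintro rfl
    exact odd_sq_add_one hF hpd
  obtain ⟨a0, a1, -, -⟩ := Cfsg.Agent.S0331.arith hp2 Fintype.card_pos hpd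
  rw [card_Sz h hm hF, ← hF]
  have hq1 : 1 ≤ Fintype.card F := Fintype.card_pos
  have hne1 : Fintype.card F ^ 2 ≠ 0 := by positivity
  have hne2 : Fintype.card F ^ 2 + 1 ≠ 0 := by positivity
  have hne3 : Fintype.card F - 1 ≠ 0 := by
    rw [hF]
    have : 2 ≤ 2 ^ (2 * m + 1) := by
      calc 2 = 2 ^ 1 := rfl
        _ ≤ 2 ^ (2 * m + 1) := Nat.pow_le_pow_right (by norm_num) (by omega)
    omega
  rw [Nat.factorization_mul (mul_ne_zero hne1 hne2) hne3, Nat.factorization_mul hne1 hne2,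
    Finsupp.add_apply, Finsupp.add_apply,
    Nat.factorization_eq_zero_of_not_dvd (fun hd => a0 (hp.dvd_of_dvd_pow hd)),
    Nat.factorization_eq_zero_of_not_dvd a1]
  simp

/-- the structure of the tori of the Suzuki groups -/
theorem tori_main (hm : 1 ≤ m) (hF : Fintype.card F = 2 ^ (2 * m + 1)) :
    (∀ g : Sz F m, Fpf m (g : SpecialLinearGroup (Fin 4) F) →
      (cT g = 2 ^ (2 * m + 1) + 2 * 2 ^ m + 1 ∨ cT g = 2 ^ (2 * m + 1) + 1 - 2 * 2 ^ m) ∧
        nT g = 4 * cT g) ∧
    (∃ g : Sz F m, Fpf m (g : SpecialLinearGroup (Fin 4) F) ∧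
      cT g = 2 ^ (2 * m + 1) + 2 * 2 ^ m + 1) ∧
    (∃ g : Sz F m, Fpf m (g : SpecialLinearGroup (Fin 4) F) ∧
      cT g = 2 ^ (2 * m + 1) + 1 - 2 * 2 ^ m) := by
  classical
  have : Fintype (Sz F m) := Fintype.ofFinite _
  set q : ℕ := 2 ^ (2 * m + 1) with hq
  set r : ℕ := 2 ^ m with hr
  have hqr : q = 2 * r ^ 2 := by
    rw [hq, hr, ← pow_mul, pow_succ, mul_comm m 2, mul_comm]
  have hr2 : 2 ≤ r := by
    rw [hr]
    calc 2 = 2 ^ 1 := rfl
      _ ≤ 2 ^ m := Nat.pow_le_pow_right (by norm_num) hm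
  have hq8 : 8 ≤ q := by
    rw [hqr]
    nlinarith
  set FP : Finset (Sz F m) := Finset.univ.filter fun g => Fpf m (g : SpecialLinearGroup (Fin 4) F)
    with hFP
  set V : Finset ℕ := FP.image cT with hV
  have hrep : ∀ c ∈ V, ∃ g : Sz F m, Fpf m (g : SpecialLinearGroup (Fin 4) F) ∧ cT g = c := by
    intro c hc
    rw [hV, Finset.mem_image] at hc
    obtain ⟨g, hg, rfl⟩ := hc
    rw [hFP, Finset.mem_filter] at hg
    exact ⟨g, hg.2, rfl⟩
  have hVmem : ∀ g : Sz F m, Fpf m (g : SpecialLinearGroup (Fin 4) F) → cT g ∈ V := by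
    intro g hg
    rw [hV, Finset.mem_image]
    exact ⟨g, by rw [hFP, Finset.mem_filter]; exact ⟨Finset.mem_univ _, hg⟩, rfl⟩
  -- the index function
  let n : ℕ → ℕ := fun c => if hc : c ∈ V then nT (Classical.choose (hrep c hc)) / c else 0
  have hnspec : ∀ g : Sz F m, Fpf m (g : SpecialLinearGroup (Fin 4) F) →
      (n (cT g) = 1 ∨ n (cT g) = 2 ∨ n (cT g) = 4) ∧ nT g = n (cT g) * cT g := by
    intro g hg
    have hc := hVmem g hg
    obtain ⟨hg'f, hg'c⟩ := Classical.choose_spec (hrep (cT g) hc)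
    set g' := Classical.choose (hrep (cT g) hc) with hg'
    obtain ⟨k, hk, hkN⟩ := card_normalizer_eq h hm hF hg'f
    have hkN' : nT g' = k * cT g' := hkN
    have hpos : 0 < cT g := by have := one_lt_cT h hm hF hg; omega
    have hn : n (cT g) = k := by
      simp only [n, dif_pos hc]
      rw [← hg', hkN', hg'c, Nat.mul_div_cancel _ hpos]
    -- the normalisers have the same order
    have f1 := fiber_card h hm hF hg
    have f2 := fiber_card h hm hF hg'f
    rw [hg'c] at f2
    have hpos2 : 0 < (Finset.univ.filter fun x : Sz F m =>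
        Fpf m (x : SpecialLinearGroup (Fin 4) F) ∧ cT x = cT g).card := by
      rw [Finset.card_pos]
      exact ⟨g, by simp [hg]⟩
    have hNN : nT g = nT g' := by
      have : (Finset.univ.filter fun x : Sz F m =>
        Fpf m (x : SpecialLinearGroup (Fin 4) F) ∧ cT x = cT g).card * nT g =
        (Finset.univ.filter fun x : Sz F m =>
        Fpf m (x : SpecialLinearGroup (Fin 4) F) ∧ cT x = cT g).card * nT g' := by
        rw [f1, f2]
      exact Nat.eq_of_mul_eq_mul_left hpos2 this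
    refine ⟨hn ▸ hk, ?_⟩
    rw [hNN, hkN', hn, hg'c]
  -- hypotheses of the arithmetic lemma
  have h5 : ∀ c ∈ V, 5 ≤ c := by
    intro c hc
    obtain ⟨g, hg, rfl⟩ := hrep c hc
    exact five_le_cT h hm hF hg
  have hn : ∀ c ∈ V, n c = 1 ∨ n c = 2 ∨ n c = 4 := by
    intro c hc
    obtain ⟨g, hg, rfl⟩ := hrep c hc
    exact (hnspec g hg).1
  have hprod : ∏ c ∈ V, c = q ^ 2 + 1 := by
    have hQ : q ^ 2 + 1 = Fintype.card F ^ 2 + 1 := by rw [hF]
    rw [hQ]
    apply HallProd.prod_eq_of_hall _ (by positivity) V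
    · intro c hc
      have := h5 c hc
      omega
    · intro c hc p hp hpc
      obtain ⟨g, hg, rfl⟩ := hrep c hc
      exact (prime_dvd_card_centralizer h hm hF hg hp hpc).2.1
    · intro p hp hpQ
      obtain ⟨g, hg, hpow⟩ := exists_fpf_of_prime h hm hF hp hpQ
      refine ⟨cT g, hVmem g hg, ?_⟩
      have hc0 : cT g ≠ 0 := by have := one_lt_cT h hm hF hg; omega
      have hle1 := (hp.pow_dvd_iff_le_factorization hc0).1 hpow
      have hdvd : cT g ∣ Nat.card (Sz F m) := Subgroup.card_subgroup_dvd_card _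
      have hle2 := (Nat.factorization_le_iff_dvd hc0 Nat.card_pos.ne').2 hdvd p
      rw [← factorization_card_Sz_of_dvd h hm hF hp hpQ]
      exact le_antisymm hle2 hle1
    · intro c hc c' hc' p hp hpc hpc'
      obtain ⟨g, hg, rfl⟩ := hrep c hc
      obtain ⟨g', hg', rfl⟩ := hrep c' hc'
      obtain ⟨x, hx⟩ := exists_conj_of_common_prime h hm hF hg hg' hp hpc hpc'
      exact cT_eq_of_conj hx
  have hsum : ∑ c ∈ V, ((c : ℚ) - 1) / ((n c : ℚ) * c) = (q : ℚ) * (q - 1) / (2 * (q ^ 2 + 1)) := by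
    have hcount := two_mul_card_fpf h hm hF
    rw [Nat.card_eq_fintype_card, Fintype.card_subtype, ← hFP, ← hq] at hcount
    have hG : Fintype.card (Sz F m) = q ^ 2 * (q ^ 2 + 1) * (q - 1) := by
      rw [← Nat.card_eq_fintype_card, card_Sz h hm hF]
    have hfib : ∀ c ∈ V, ((FP.filter fun g => cT g = c).card : ℚ) =
        (Fintype.card (Sz F m) : ℚ) * (((c : ℚ) - 1) / ((n c : ℚ) * c)) := by
      intro c hc
      obtain ⟨g, hg, rfl⟩ := hrep c hc
      have f1 := fiber_card h hm hF hg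
      rw [(hnspec g hg).2] at f1
      have hset : (FP.filter fun x => cT x = cT g) = Finset.univ.filter fun x : Sz F m =>
          Fpf m (x : SpecialLinearGroup (Fin 4) F) ∧ cT x = cT g := by
        rw [hFP, Finset.filter_filter]
      rw [hset]
      have hc1 := one_lt_cT h hm hF hg
      have hnpos : (0 : ℚ) < n (cT g) := by
        rcases (hnspec g hg).1 with h1 | h1 | h1 <;> rw [h1] <;> norm_num
      have hcpos : (0 : ℚ) < cT g := by exact_mod_cast (by omega : 0 < cT g)
      have f1Q : ((Finset.univ.filter fun x : Sz F m =>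
          Fpf m (x : SpecialLinearGroup (Fin 4) F) ∧ cT x = cT g).card : ℚ) *
          ((n (cT g) : ℚ) * cT g) = (Fintype.card (Sz F m) : ℚ) * ((cT g : ℚ) - 1) := by
        have := congrArg (fun x : ℕ => (x : ℚ)) f1
        simp only [Nat.cast_mul] at this
        rw [this, Nat.cast_sub (by omega : 1 ≤ cT g), Nat.cast_one]
      field_simp
      linarith
    have hsumcard : (FP.card : ℚ) = ∑ c ∈ V, ((FP.filter fun g => cT g = c).card : ℚ) := by
      rw [hV, ← Nat.cast_sum, ← Finset.card_eq_sum_card_image]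
    rw [Finset.sum_congr rfl hfib, ← Finset.mul_sum] at hsumcard
    have hGQ : (Fintype.card (Sz F m) : ℚ) = (q : ℚ) ^ 2 * ((q : ℚ) ^ 2 + 1) * ((q : ℚ) - 1) := by
      rw [hG]
      push_cast [Nat.cast_sub (by omega : 1 ≤ q)]
      ring
    have hcountQ : 2 * (FP.card : ℚ) = (q : ℚ) ^ 3 * ((q : ℚ) - 1) ^ 2 := by
      have := congrArg (fun x : ℕ => (x : ℚ)) hcount
      simp only [Nat.cast_mul, Nat.cast_pow] at this
      rw [Nat.cast_sub (by omega : 1 ≤ q)] at this
      push_cast at this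
      linarith
    have hq0 : (0 : ℚ) < q := by exact_mod_cast (by omega : 0 < q)
    have hq1 : (0 : ℚ) < (q : ℚ) - 1 := by
      have : (8 : ℚ) ≤ q := by exact_mod_cast hq8
      linarith
    rw [hGQ] at hsumcard
    have hsol : ∑ c ∈ V, ((c : ℚ) - 1) / ((n c : ℚ) * c) =
        (FP.card : ℚ) / ((q : ℚ) ^ 2 * ((q : ℚ) ^ 2 + 1) * ((q : ℚ) - 1)) := by
      rw [hsumcard]
      field_simp
    rw [hsol]
    have : (FP.card : ℚ) = (q : ℚ) ^ 3 * ((q : ℚ) - 1) ^ 2 / 2 := by linarith
    rw [this]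
    field_simp
  obtain ⟨hVeq, hn4⟩ := TorArith.tori_arith r q hr2 hqr V n h5 hn hprod hsum
  refine ⟨?_, ?_, ?_⟩
  · intro g hg
    have hc := hVmem g hg
    obtain ⟨-, hN⟩ := hnspec g hg
    rw [hn4 _ hc] at hN
    refine ⟨?_, hN⟩
    rw [hVeq, Finset.mem_insert, Finset.mem_singleton] at hc
    exact hc
  · have : q + 2 * r + 1 ∈ V := by rw [hVeq]; simp
    obtain ⟨g, hg, hc⟩ := hrep _ this
    exact ⟨g, hg, hc⟩
  · have : q + 1 - 2 * r ∈ V := by rw [hVeq]; simp
    obtain ⟨g, hg, hc⟩ := hrep _ this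
    exact ⟨g, hg, hc⟩

end Cfsg.Agent.Lib.H2.Sz
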