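import Mathlib
import Cfsg.Prelude.Def_LieExceptional
import Cfsg.Agent.Lib.H2.Sz20
import Cfsg.Agent.Lib.H2.Sz11
import Cfsg.Agent.Lib.H2.PartArith

set_option autoImplicit false
set_option linter.unusedSimpArgs false
set_option linter.unusedSectionVars false

/-!
# Suzuki groups XXI: the partition into Sylow 2-subgroups and cyclic tori
-/

namespace Cfsg.Agent.Lib.H2.Sz

open Matrix Cfsg Projectivization MulAction
open scoped Pointwise

variable {F : Type*} [Field F] {m : ℕ} [Fintype F] (h : Fld F m)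

include h

/-- the Sylow 2-subgroups of `Sz` intersect trivially -/
theorem sylow_ti (hm : 1 ≤ m) (hF : Fintype.card F = 2 ^ (2 * m + 1))
    {P P' : Sylow 2 (Sz F m)} {g : Sz F m} (hg : g ≠ 1) (h1 : g ∈ P) (h2 : g ∈ P') : P = P' := by
  obtain ⟨s, hs⟩ := exists_conj_TS h hm hF P
  obtain ⟨s', hs'⟩ := exists_conj_TS h hm hF P'
  obtain ⟨a, b, hab⟩ := (hs g).1 h1
  obtain ⟨a', b', hab'⟩ := (hs' g).1 h2
  have hne : ¬ (a = 0 ∧ b = 0) := by
    rintro ⟨rfl, rfl⟩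
    rw [T_zero] at hab
    apply hg
    have e : s * g * s⁻¹ = 1 := Subtype.ext hab
    have : g = s⁻¹ * (s * g * s⁻¹) * s := by group
    rw [this, e]
    group
  -- `g` fixes `s'⁻¹ • ∞`
  have hfix' : (s' * g * s'⁻¹) • (pinf : Projectivization F (Fin 4 → F)) = pinf := by
    rw [Sz_smul_def h, hab', T_smul_pinf]
  have hfix : (s * g * s⁻¹) • ((s * s'⁻¹) • (pinf : Projectivization F (Fin 4 → F))) =
      (s * s'⁻¹) • (pinf : Projectivization F (Fin 4 → F)) := by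
    have e : s * g * s⁻¹ * (s * s'⁻¹) = (s * s'⁻¹) * (s' * g * s'⁻¹) := by group
    rw [← mul_smul, e, mul_smul, hfix']
  have hx : (s * s'⁻¹) • (pinf : Projectivization F (Fin 4 → F)) = pinf := by
    apply eq_pinf_of_T_smul h hne
    · rw [Sz_smul_def h]
      exact smul_mem_of_mem_Sz (s * s'⁻¹).2 pinf_mem
    · rw [← hab]
      exact hfix
  have hle : (P' : Subgroup (Sz F m)) ≤ P := by
    intro y hy
    have hy' := (hs' y).1 hy
    have := conj_mem_TS_of_fix h hm hF hx hy'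
    apply (hs y).2
    have e : s * y * s⁻¹ = s * s'⁻¹ * (s' * y * s'⁻¹) * (s * s'⁻¹)⁻¹ := by group
    rw [e]
    exact this
  have := P'.is_maximal' P.isPGroup' hle
  exact Sylow.ext this

/-- an element with a fixed point which is not of order dividing `4` is conjugate to a torus
element -/
theorem exists_conj_D (hm : 1 ≤ m) (hF : Fintype.card F = 2 ^ (2 * m + 1))
    {g : SpecialLinearGroup (Fin 4) F} (hg : g ∈ Sz F m) (h4 : g ^ 4 ≠ 1)
    {p : Projectivization F (Fin 4 → F)} (hp : p ∈ suzukiOvoid F m) (hfix : g • p = p) :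
    ∃ u ∈ Sz F m, ∃ k : Fˣ, k ≠ 1 ∧ u * g * u⁻¹ = D m k := by
  obtain ⟨s, hs, hsp⟩ : ∃ s ∈ Sz F m, s • p = pinf := by
    rcases (mem_ovoid_iff p).1 hp with rfl | ⟨x, y, rfl⟩
    · exact ⟨1, (Sz F m).one_mem, one_smul _ _⟩
    · refine ⟨W * (T m x y)⁻¹, (Sz F m).mul_mem (W_mem h) ((Sz F m).inv_mem (T_mem h x y)), ?_⟩
      rw [mul_smul, T_inv_smul_pt h, W_smul_pt_zero]
  have hx : s * g * s⁻¹ ∈ Sz F m := (Sz F m).mul_mem ((Sz F m).mul_mem hs hg) ((Sz F m).inv_mem hs)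
  have hfix' : (s * g * s⁻¹) • (pinf : Projectivization F (Fin 4 → F)) = pinf := by
    rw [mul_smul, mul_smul, ← hsp, inv_smul_smul, hfix]
  obtain ⟨a, b, k, hk⟩ := exists_TD_of_fix_pinf h hm hF hx hfix'
  have hk1 : k ≠ 1 := by
    rintro rfl
    rw [D_one, mul_one] at hk
    apply h4
    have e : g = s⁻¹ * (s * g * s⁻¹) * s := by group
    have e2 : (s⁻¹ * (s * g * s⁻¹) * s) ^ 4 = s⁻¹ * (s * g * s⁻¹) ^ 4 * s := by
      rw [pow_four', pow_four']
      group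
    rw [e, e2, hk, T_pow_four h]
    group
  obtain ⟨x₀, y₀, hxy⟩ := exists_fix_pt h hk1 a b
  have hu : (T m x₀ y₀)⁻¹ * s ∈ Sz F m :=
    (Sz F m).mul_mem ((Sz F m).inv_mem (T_mem h x₀ y₀)) hs
  refine ⟨(T m x₀ y₀)⁻¹ * s, hu, ?_⟩
  have e : (T m x₀ y₀)⁻¹ * s * g * ((T m x₀ y₀)⁻¹ * s)⁻¹ =
      (T m x₀ y₀)⁻¹ * (s * g * s⁻¹) * (T m x₀ y₀) := by group
  have hx' : (T m x₀ y₀)⁻¹ * (s * g * s⁻¹) * (T m x₀ y₀) ∈ Sz F m :=
    (Sz F m).mul_mem ((Sz F m).mul_mem ((Sz F m).inv_mem (T_mem h x₀ y₀)) hx) (T_mem h x₀ y₀)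
  have f1 : ((T m x₀ y₀)⁻¹ * (s * g * s⁻¹) * (T m x₀ y₀)) •
      (pinf : Projectivization F (Fin 4 → F)) = pinf := by
    rw [mul_smul, mul_smul, T_smul_pinf, hfix', inv_smul_eq_iff, T_smul_pinf]
  have f2 : ((T m x₀ y₀)⁻¹ * (s * g * s⁻¹) * (T m x₀ y₀)) • pt m (0 : F) 0 = pt m 0 0 := by
    rw [mul_smul, mul_smul, T_smul_pt_zero h, hk, hxy, T_inv_smul_pt h]
  obtain ⟨k', hk'⟩ := eq_D_of_fix h hm hF hx' f1 f2
  refine ⟨k', ?_, by rw [e, hk']⟩
  rintro rfl
  rw [D_one] at hk'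
  apply h4
  have e3 : g = ((T m x₀ y₀)⁻¹ * s)⁻¹ * ((T m x₀ y₀)⁻¹ * (s * g * s⁻¹) * (T m x₀ y₀)) *
      ((T m x₀ y₀)⁻¹ * s) := by group
  rw [e3, hk']
  simp

/-- the centraliser of a conjugate of a nontrivial torus element is cyclic of order `q - 1` -/
theorem centralizer_of_conj_D (hm : 1 ≤ m) (hF : Fintype.card F = 2 ^ (2 * m + 1))
    {g u : Sz F m} {k : Fˣ} (hk : k ≠ 1)
    (hu : (u : SpecialLinearGroup (Fin 4) F) * g * (u : SpecialLinearGroup (Fin 4) F)⁻¹ = D m k) :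
    IsCyclic (Subgroup.centralizer ({g} : Set (Sz F m))) ∧
      Nat.card (Subgroup.centralizer ({g} : Set (Sz F m))) = 2 ^ (2 * m + 1) - 1 := by
  classical
  let φ : Fˣ →* Sz F m :=
    { toFun := fun l => u⁻¹ * ⟨D m l, D_mem h l⟩ * u
      map_one' := by
        have : (⟨D m 1, D_mem h 1⟩ : Sz F m) = 1 := Subtype.ext D_one
        rw [this]
        group
      map_mul' := fun l l' => by
        have : (⟨D m (l * l'), D_mem h (l * l')⟩ : Sz F m) =
            ⟨D m l, D_mem h l⟩ * ⟨D m l', D_mem h l'⟩ := Subtype.ext (D_mul l l')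
        rw [this]
        group }
  have hφ : ∀ l, φ l = u⁻¹ * ⟨D m l, D_mem h l⟩ * u := fun l => rfl
  have hinj : Function.Injective φ := by
    intro l l' hll
    rw [hφ, hφ] at hll
    have := mul_left_cancel (mul_right_cancel hll)
    exact D_injective (congrArg Subtype.val this)
  have hgk : g = φ k := by
    rw [hφ]
    apply Subtype.ext
    show (g : SpecialLinearGroup (Fin 4) F) = (u : SpecialLinearGroup (Fin 4) F)⁻¹ * D m k * u
    rw [← hu]
    group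
  have hrange : φ.range = Subgroup.centralizer ({g} : Set (Sz F m)) := by
    ext c
    rw [Subgroup.mem_centralizer_singleton_iff]
    constructor
    · rintro ⟨l, rfl⟩
      rw [hgk, ← map_mul, ← map_mul, mul_comm]
    · intro hc
      have h1 : (u * c * u⁻¹ : Sz F m) * ⟨D m k, D_mem h k⟩ =
          ⟨D m k, D_mem h k⟩ * (u * c * u⁻¹) := by
        have e : (⟨D m k, D_mem h k⟩ : Sz F m) = u * g * u⁻¹ := Subtype.ext hu.symm
        rw [e]
        calc u * c * u⁻¹ * (u * g * u⁻¹) = u * (c * g) * u⁻¹ := by group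
          _ = u * (g * c) * u⁻¹ := by rw [hc]
          _ = u * g * u⁻¹ * (u * c * u⁻¹) := by group
      obtain ⟨l, hl⟩ := eq_D_of_commute_D h hm hF hk (u * c * u⁻¹).2
        (congrArg Subtype.val h1)
      refine ⟨l, ?_⟩
      rw [hφ]
      have e : (⟨D m l, D_mem h l⟩ : Sz F m) = u * c * u⁻¹ := Subtype.ext hl.symm
      rw [e]
      group
  rw [← hrange]
  constructor
  · exact isCyclic_of_surjective φ.rangeRestrict φ.rangeRestrict_surjective
  · rw [← Nat.card_congr (MonoidHom.ofInjective hinj).toEquiv, Nat.card_units,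
      Nat.card_eq_fintype_card, hF]

end Cfsg.Agent.Lib.H2.Sz
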