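import Mathlib
import Cfsg.Prelude.Def_LieExceptional
import Cfsg.Agent.Lib.H2.Sz21

set_option autoImplicit false
set_option linter.unusedSimpArgs false
set_option linter.unusedSectionVars false

/-!
# Suzuki groups XXII: subfield subgroups
-/

namespace Cfsg.Agent.Lib.H2.Sz

open Matrix Cfsg Projectivization MulAction
open scoped Pointwise

/-- `2m+1 = (2k+1) * odd` gives `m = k + i (2k+1)` -/
theorem exists_mul_of_dvd {k m : ℕ} (hdiv : 2 * k + 1 ∣ 2 * m + 1) :
    ∃ i, m = k + i * (2 * k + 1) := by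
  obtain ⟨j, hj⟩ := hdiv
  have hjodd : j % 2 = 1 := by
    rcases Nat.even_or_odd j with ⟨c, hc⟩ | ⟨c, hc⟩
    · exfalso
      rw [hc] at hj
      have : 2 * m + 1 = 2 * ((2 * k + 1) * c) := by rw [hj]; ring
      omega
    · omega
  refine ⟨j / 2, ?_⟩
  have hj2 : j = 2 * (j / 2) + 1 := by omega
  have : 2 * m + 1 = 2 * (k + j / 2 * (2 * k + 1)) + 1 := by
    rw [hj]
    conv_lhs => rw [hj2]
    ring
  omega

theorem pow_two_pow_add_mul {K : Type*} [Field K] [Fintype K] {n : ℕ}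
    (hK : Fintype.card K = 2 ^ n) (e i : ℕ) (a : K) :
    a ^ (2 ^ (e + i * n)) = a ^ (2 ^ e) := by
  induction i with
  | zero => simp
  | succ i ih =>
    have : e + (i + 1) * n = (e + i * n) + n := by ring
    rw [this, pow_add, pow_mul, ih, ← pow_mul, mul_comm, pow_mul, ← hK, FiniteField.pow_card]

section Emb

variable {F : Type*} [Field F] [Fintype F] {m : ℕ} {K : Type*} [Field K] [Fintype K] {k : ℕ}
  (ι : K →+* F) (hK : Fintype.card K = 2 ^ (2 * k + 1)) (hmk : ∃ i, m = k + i * (2 * k + 1))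

include hK hmk

theorem ι_θ (a : K) : ι (θ k a) = θ m (ι a) := by
  obtain ⟨i, rfl⟩ := hmk
  unfold θ
  rw [← map_pow, show k + i * (2 * k + 1) + 1 = (k + 1) + i * (2 * k + 1) by ring,
    pow_two_pow_add_mul hK]

theorem ι_ρ (a : K) : ι (ρ k a) = ρ m (ι a) := by
  obtain ⟨i, rfl⟩ := hmk
  unfold ρ
  rw [← map_pow, pow_two_pow_add_mul hK]

theorem ι_f (a b : K) : ι (f k a b) = f m (ι a) (ι b) := by
  rw [f_eq, f_eq, map_add, map_add, map_mul, map_mul, map_pow, ι_θ ι hK hmk, ι_θ ι hK hmk]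

theorem map_T (a b : K) :
    SpecialLinearGroup.map ι (T k a b) = T m (ι a) (ι b) := by
  apply Subtype.ext
  ext i j
  have e1 := ι_θ ι hK hmk a
  have e2 := ι_f ι hK hmk a b
  show ι (Tm k a b i j) = Tm m (ι a) (ι b) i j
  fin_cases i <;> fin_cases j <;> simp [Tm, e1, e2]

theorem map_D (c : Kˣ) :
    SpecialLinearGroup.map ι (D k c) = D m (Units.map (ι : K →* F) c) := by
  apply Subtype.ext
  ext i j
  have e1 := ι_ρ ι hK hmk (c : K)
  show ι (Dm k (c : K) i j) = Dm m (ι (c : K)) i j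
  fin_cases i <;> fin_cases j <;> simp [Dm, Matrix.diagonal, e1]

omit hK hmk in
theorem map_W : SpecialLinearGroup.map ι (W : SpecialLinearGroup (Fin 4) K) = W := by
  apply Subtype.ext
  ext i j
  show ι (Wm i j) = Wm i j
  fin_cases i <;> fin_cases j <;> simp [Wm]

end Emb

section Std

variable {F : Type*} [Field F] [Fintype F] {m : ℕ}

/-- the standard generators with parameters in `R` -/
def stdGen (m : ℕ) (R : Set F) : Set (Sz F m) :=
  {g | (∃ a ∈ R, ∃ b ∈ R, (g : SpecialLinearGroup (Fin 4) F) = T m a b) ∨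
    (∃ c : Fˣ, (c : F) ∈ R ∧ (g : SpecialLinearGroup (Fin 4) F) = D m c) ∨
    (g : SpecialLinearGroup (Fin 4) F) = W}

/-- the standard subgroup with parameters in `R` -/
def stdSz (m : ℕ) (R : Set F) : Subgroup (Sz F m) := Subgroup.closure (stdGen m R)

theorem T_mem_std {R : Set F} {g : Sz F m} {a b : F} (ha : a ∈ R) (hb : b ∈ R)
    (hg : (g : SpecialLinearGroup (Fin 4) F) = T m a b) : g ∈ stdSz m R :=
  Subgroup.subset_closure (Or.inl ⟨a, ha, b, hb, hg⟩)

theorem D_mem_std {R : Set F} {g : Sz F m} {c : Fˣ} (hc : (c : F) ∈ R)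
    (hg : (g : SpecialLinearGroup (Fin 4) F) = D m c) : g ∈ stdSz m R :=
  Subgroup.subset_closure (Or.inr (Or.inl ⟨c, hc, hg⟩))

theorem W_mem_std {R : Set F} {g : Sz F m}
    (hg : (g : SpecialLinearGroup (Fin 4) F) = W) : g ∈ stdSz m R :=
  Subgroup.subset_closure (Or.inr (Or.inr hg))

variable (h : Fld F m)

include h

theorem TD_mem_std {R : Set F} {g : Sz F m} {a b : F} {c : Fˣ} (ha : a ∈ R) (hb : b ∈ R)
    (hc : (c : F) ∈ R) (hg : (g : SpecialLinearGroup (Fin 4) F) = T m a b * D m c) :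
    g ∈ stdSz m R := by
  have e : g = (⟨T m a b, T_mem h a b⟩ : Sz F m) * ⟨D m c, D_mem h c⟩ := Subtype.ext hg
  rw [e]
  exact (stdSz m R).mul_mem (T_mem_std ha hb rfl) (D_mem_std hc rfl)

theorem TWTD_mem_std {R : Set F} {g : Sz F m} {a b a' b' : F} {c : Fˣ} (ha : a ∈ R) (hb : b ∈ R)
    (ha' : a' ∈ R) (hb' : b' ∈ R)
    (hc : (c : F) ∈ R)
    (hg : (g : SpecialLinearGroup (Fin 4) F) = T m a b * W * (T m a' b' * D m c)) :
    g ∈ stdSz m R := by
  have e : g = (⟨T m a b, T_mem h a b⟩ : Sz F m) * ⟨W, W_mem h⟩ *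
      (⟨T m a' b' * D m c, (Sz F m).mul_mem (T_mem h a' b') (D_mem h c)⟩ : Sz F m) :=
    Subtype.ext hg
  rw [e]
  exact (stdSz m R).mul_mem ((stdSz m R).mul_mem (T_mem_std ha hb rfl) (W_mem_std rfl))
    (TD_mem_std h ha' hb' hc rfl)

end Std

section Emb2

variable {F : Type*} [Field F] [Fintype F] {m : ℕ} {K : Type*} [Field K] [Fintype K] {k : ℕ}
  (ι : K →+* F) (hK : Fintype.card K = 2 ^ (2 * k + 1)) (hmk : ∃ i, m = k + i * (2 * k + 1))
  (hk : 1 ≤ k) (hF : Fintype.card F = 2 ^ (2 * m + 1))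

include hK hmk hk hF

theorem map_mem_Sz {g : SpecialLinearGroup (Fin 4) K} (hg : g ∈ Sz K k) :
    SpecialLinearGroup.map ι g ∈ Sz F m := by
  have hk' := fld_of_card hK
  have h := fld_of_card hF
  rcases bruhat hk' hk hK hg with ⟨a, b, c, rfl⟩ | ⟨a, b, a', b', c, rfl⟩
  · rw [map_mul, map_T ι hK hmk, map_D ι hK hmk]
    exact (Sz F m).mul_mem (T_mem h _ _) (D_mem h _)
  · rw [map_mul, map_mul, map_mul, map_T ι hK hmk, map_T ι hK hmk, map_D ι hK hmk, map_W]
    exact (Sz F m).mul_mem ((Sz F m).mul_mem (T_mem h _ _) (W_mem h))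
      ((Sz F m).mul_mem (T_mem h _ _) (D_mem h _))

/-- the embedding of the Suzuki group over a subfield -/
def embSz : Sz K k →* Sz F m :=
  ((SpecialLinearGroup.map ι).comp (Sz K k).subtype).codRestrict (Sz F m)
    (fun g => map_mem_Sz ι hK hmk hk hF g.2)

theorem coe_embSz (g : Sz K k) :
    ((embSz ι hK hmk hk hF g : Sz F m) : SpecialLinearGroup (Fin 4) F) =
      SpecialLinearGroup.map ι (g : SpecialLinearGroup (Fin 4) K) := rfl

theorem embSz_injective : Function.Injective (embSz ι hK hmk hk hF) := by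
  intro g g' hgg
  have h1 : SpecialLinearGroup.map ι (g : SpecialLinearGroup (Fin 4) K) =
      SpecialLinearGroup.map ι (g' : SpecialLinearGroup (Fin 4) K) := by
    rw [← coe_embSz ι hK hmk hk hF, ← coe_embSz ι hK hmk hk hF, hgg]
  apply Subtype.ext
  apply Subtype.ext
  ext i j
  have h2 := congrArg (fun x : SpecialLinearGroup (Fin 4) F => (x : Matrix (Fin 4) (Fin 4) F) i j) h1
  exact ι.injective h2

theorem range_embSz : (embSz ι hK hmk hk hF).range = stdSz m (Set.range ι) := by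
  have hk' := fld_of_card hK
  have h := fld_of_card hF
  apply le_antisymm
  · rintro _ ⟨g, rfl⟩
    rcases bruhat hk' hk hK g.2 with ⟨a, b, c, hg⟩ | ⟨a, b, a', b', c, hg⟩
    · apply TD_mem_std h (R := Set.range ι) (a := ι a) (b := ι b)
        (c := Units.map (ι : K →* F) c) ⟨a, rfl⟩ ⟨b, rfl⟩ ⟨(c : K), rfl⟩
      rw [coe_embSz, hg, map_mul, map_T ι hK hmk, map_D ι hK hmk]
    · apply TWTD_mem_std h (R := Set.range ι) (a := ι a) (b := ι b) (a' := ι a') (b' := ι b')
        (c := Units.map (ι : K →* F) c) ⟨a, rfl⟩ ⟨b, rfl⟩ ⟨a', rfl⟩ ⟨b', rfl⟩ ⟨(c : K), rfl⟩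
      rw [coe_embSz, hg, map_mul, map_mul, map_mul, map_T ι hK hmk, map_T ι hK hmk,
        map_D ι hK hmk, map_W]
  · unfold stdSz
    rw [Subgroup.closure_le]
    rintro g (⟨_, ⟨a, rfl⟩, _, ⟨b, rfl⟩, hg⟩ | ⟨c, ⟨c', hc'⟩, hg⟩ | hg)
    · refine ⟨⟨T k a b, T_mem hk' a b⟩, ?_⟩
      apply Subtype.ext
      rw [coe_embSz, hg]
      exact map_T ι hK hmk a b
    · have hc0 : c' ≠ 0 := by
        rintro rfl
        rw [map_zero] at hc'
        exact c.ne_zero hc'.symm
      refine ⟨⟨D k (Units.mk0 c' hc0), D_mem hk' _⟩, ?_⟩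
      apply Subtype.ext
      rw [coe_embSz, hg]
      show SpecialLinearGroup.map ι (D k (Units.mk0 c' hc0)) = D m c
      rw [map_D ι hK hmk]
      congr 1
      apply Units.ext
      simpa using hc'
    · refine ⟨⟨W, W_mem hk'⟩, ?_⟩
      apply Subtype.ext
      rw [coe_embSz, hg]
      exact map_W ι

end Emb2



section Iso

variable {F : Type*} [Field F] [Fintype F] {m : ℕ}

/-- a subfield of order at least 4 has order `2^(2k+1)` with `1 ≤ k` and `2k+1 ∣ 2m+1` -/
theorem subfield_card (hF : Fintype.card F = 2 ^ (2 * m + 1)) (R : Subfield F)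
    (hR4 : 4 ≤ Nat.card R) :
    ∃ k, 1 ≤ k ∧ k ≤ m ∧ 2 * k + 1 ∣ 2 * m + 1 ∧ Nat.card R = 2 ^ (2 * k + 1) ∧
      (k = m → R = ⊤) := by
  classical
  have hpow : Nat.card F = Nat.card R ^ Module.finrank R F := Module.natCard_eq_pow_finrank
  rw [Nat.card_eq_fintype_card, hF] at hpow
  have hd : Module.finrank R F ≠ 0 := Module.finrank_pos.ne'
  have hdvd : Nat.card R ∣ 2 ^ (2 * m + 1) := by
    rw [hpow]
    exact dvd_pow_self _ hd
  obtain ⟨j, hj, hRj⟩ := (Nat.dvd_prime_pow Nat.prime_two).1 hdvd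
  rw [hRj, ← pow_mul] at hpow
  have hjd : 2 * m + 1 = j * Module.finrank R F := Nat.pow_right_injective (le_refl 2) hpow
  have hj2 : 2 ≤ j := by
    by_contra hlt
    have : j ≤ 1 := by omega
    have : 2 ^ j ≤ 2 ^ 1 := Nat.pow_le_pow_right (by norm_num) this
    rw [hRj] at hR4
    omega
  have hjodd : j % 2 = 1 := by
    rcases Nat.even_or_odd j with ⟨c, hc⟩ | ⟨c, hc⟩
    · exfalso
      rw [hc] at hjd
      have : 2 * m + 1 = 2 * (c * Module.finrank R F) := by rw [hjd]; ring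
      omega
    · omega
  refine ⟨j / 2, by omega, by omega, ?_, ?_, ?_⟩
  · have : 2 * (j / 2) + 1 = j := by omega
    rw [this, hjd]
    exact dvd_mul_right _ _
  · have : 2 * (j / 2) + 1 = j := by omega
    rw [this, hRj]
  · intro hkm
    have hjm : j = 2 * m + 1 := by omega
    have hcard : Nat.card R = Nat.card F := by
      rw [hRj, hjm, Nat.card_eq_fintype_card, hF]
    rw [eq_top_iff]
    intro x _
    have : (R : Set F) = Set.univ := by
      apply Set.eq_of_subset_of_ncard_le (Set.subset_univ _)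
      rw [Set.ncard_univ, ← hcard]
      exact (Nat.card_coe_set_eq _).symm.le
    have hx : x ∈ (R : Set F) := by rw [this]; trivial
    exact hx

/-- the standard subgroup over a subfield is a Suzuki group over a field in `Type` -/
theorem exists_iso_std (hF : Fintype.card F = 2 ^ (2 * m + 1)) (R : Subfield F)
    {k : ℕ} (hk : 1 ≤ k) (hdiv : 2 * k + 1 ∣ 2 * m + 1) (hR : Nat.card R = 2 ^ (2 * k + 1)) :
    ∃ (K : Type) (_ : Field K) (_ : Fintype K), Fintype.card K = 2 ^ (2 * k + 1) ∧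
      Nonempty (Sz K k ≃* stdSz m (R : Set F)) := by
  classical
  have : Fact (Nat.Prime 2) := ⟨Nat.prime_two⟩
  let _ : Fintype (GaloisField 2 (2 * k + 1)) := Fintype.ofFinite _
  have hK : Fintype.card (GaloisField 2 (2 * k + 1)) = 2 ^ (2 * k + 1) := by
    rw [← Nat.card_eq_fintype_card]
    exact GaloisField.card 2 (2 * k + 1) (by omega)
  refine ⟨GaloisField 2 (2 * k + 1), inferInstance, inferInstance, hK, ?_⟩
  have hcard : Fintype.card (GaloisField 2 (2 * k + 1)) = Fintype.card R := by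
    rw [hK, ← hR, Nat.card_eq_fintype_card]
  let e : GaloisField 2 (2 * k + 1) ≃+* R := FiniteField.ringEquivOfCardEq hcard
  let ι : GaloisField 2 (2 * k + 1) →+* F := R.subtype.comp e.toRingHom
  have hrange : Set.range ι = (R : Set F) := by
    ext x
    constructor
    · rintro ⟨y, rfl⟩
      exact (e y).2
    · intro hx
      exact ⟨e.symm ⟨x, hx⟩, by simp [ι]⟩
  have hmk := exists_mul_of_dvd hdiv
  have hr := range_embSz ι hK hmk hk hF
  rw [hrange] at hr
  exact ⟨(MonoidHom.ofInjective (embSz_injective ι hK hmk hk hF)).trans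
    (MulEquiv.subgroupCongr hr)⟩

end Iso

end Cfsg.Agent.Lib.H2.Sz
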