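import Mathlib
import Cfsg.Prelude.Def_LieExceptional
import Cfsg.Agent.Lib.H2.Sz22
import Cfsg.Agent.Lib.H2.Sz14
import Cfsg.Agent.Lib.H2.Dih

set_option autoImplicit false
set_option linter.unusedSimpArgs false
set_option linter.unusedSectionVars false

/-!
# Suzuki groups XXIII: involutions in subgroups
-/

namespace Cfsg.Agent.Lib.H2.Sz

open Matrix Cfsg Projectivization MulAction
open scoped Pointwise

variable {F : Type*} [Field F] {m : ℕ} [Fintype F] (h : Fld F m)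

include h

/-- translations as elements of `Sz` -/
def tt (a b : F) : Sz F m := ⟨T m a b, T_mem h a b⟩

/-- torus elements as elements of `Sz` -/
def dd (c : Fˣ) : Sz F m := ⟨D m c, D_mem h c⟩

/-- the Weyl element as an element of `Sz` -/
def ww : Sz F m := ⟨W, W_mem h⟩

theorem coe_tt (a b : F) : ((tt h a b : Sz F m) : SpecialLinearGroup (Fin 4) F) = T m a b := rfl

theorem coe_dd (c : Fˣ) : ((dd h c : Sz F m) : SpecialLinearGroup (Fin 4) F) = D m c := rfl

theorem coe_ww : ((ww h : Sz F m) : SpecialLinearGroup (Fin 4) F) = W := rfl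

theorem tt_mul (a b c d : F) : tt h a b * tt h c d = tt h (a + c) (b + d + θ m a * c) :=
  Subtype.ext (T_mul h a b c d)

theorem tt_zero : tt h (0 : F) 0 = 1 := Subtype.ext T_zero

theorem tt_inv (a b : F) : (tt h a b)⁻¹ = tt h a (b + θ m a * a) := Subtype.ext (T_inv h a b)

theorem tt_injective {a b a' b' : F} (e : tt h a b = tt h a' b') : a = a' ∧ b = b' :=
  T_injective h (congrArg Subtype.val e)

theorem dd_mul (c c' : Fˣ) : dd h (c * c') = dd h c * dd h c' := Subtype.ext (D_mul c c')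

theorem dd_one : dd h (1 : Fˣ) = 1 := Subtype.ext D_one

theorem dd_inv (c : Fˣ) : (dd h c)⁻¹ = dd h c⁻¹ := by
  apply inv_eq_of_mul_eq_one_left
  rw [← dd_mul, inv_mul_cancel, dd_one]

theorem dd_pow (c : Fˣ) (n : ℕ) : dd h (c ^ n) = dd h c ^ n := by
  induction n with
  | zero => simp [dd_one]
  | succ n ih => rw [pow_succ, pow_succ, dd_mul, ih]

theorem dd_injective : Function.Injective (dd h : Fˣ → Sz F m) := by
  intro c c' e
  exact D_injective (congrArg Subtype.val e)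

theorem ww_mul_self : ww h * ww h = 1 := Subtype.ext W_mul_self

theorem ww_inv : (ww h)⁻¹ = ww h := inv_eq_of_mul_eq_one_left (ww_mul_self h)

theorem t0_eq_tt (b : F) : t0 h b = tt h 0 b := rfl

theorem tt_smul_pinf (a b : F) : tt h a b • (pinf : Projectivization F (Fin 4 → F)) = pinf :=
  T_smul_pinf a b

theorem dd_smul_pinf (c : Fˣ) : dd h c • (pinf : Projectivization F (Fin 4 → F)) = pinf :=
  D_smul_pinf c

theorem tt_smul_zero (a b : F) : tt h a b • pt m (0 : F) 0 = pt m a b := T_smul_pt_zero h a b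

theorem dd_smul_zero (c : Fˣ) : dd h c • pt m (0 : F) 0 = pt m 0 0 := D_smul_pt_zero h c

theorem ww_smul_pinf : ww h • (pinf : Projectivization F (Fin 4 → F)) = pt m 0 0 := W_smul_pinf

theorem ww_smul_zero : ww h • pt m (0 : F) 0 = pinf := W_smul_pt_zero

theorem smul_mem_ovoid (g : Sz F m) {p : Projectivization F (Fin 4 → F)}
    (hp : p ∈ suzukiOvoid F m) : g • p ∈ suzukiOvoid F m :=
  smul_mem_of_mem_Sz g.2 hp

theorem dd_mul_tt (hm : 1 ≤ m) (hF : Fintype.card F = 2 ^ (2 * m + 1)) (c : Fˣ) (a b : F) :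
    dd h c * tt h a b = tt h ((c : F) * a) ((c : F) * θ m (c : F) * b) * dd h c :=
  Subtype.ext (D_mul_T h hm hF c a b)

theorem exists_tt_dd (hm : 1 ≤ m) (hF : Fintype.card F = 2 ^ (2 * m + 1)) {x : Sz F m}
    (hx : x • (pinf : Projectivization F (Fin 4 → F)) = pinf) :
    ∃ (a b : F) (c : Fˣ), x = tt h a b * dd h c := by
  obtain ⟨a, b, c, hc⟩ := exists_TD_of_fix_pinf h hm hF x.2 hx
  exact ⟨a, b, c, Subtype.ext hc⟩

theorem tt_dd_injective {a b a' b' : F} {c c' : Fˣ} (e : tt h a b * dd h c = tt h a' b' * dd h c') :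
    a = a' ∧ b = b' ∧ c = c' :=
  TD_injective h (congrArg Subtype.val e)

/-- every point of the ovoid can be moved to `∞` -/
theorem exists_smul_eq_pinf {p : Projectivization F (Fin 4 → F)} (hp : p ∈ suzukiOvoid F m) :
    ∃ s : Sz F m, s • p = pinf := by
  rcases (mem_ovoid_iff p).1 hp with rfl | ⟨x, y, rfl⟩
  · exact ⟨1, one_smul _ _⟩
  · refine ⟨ww h * (tt h x y)⁻¹, ?_⟩
    rw [mul_smul]
    show ww h • ((T m x y)⁻¹ • pt m x y) = pinf
    rw [T_inv_smul_pt h]
    exact ww_smul_zero h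

/-- an involution fixing `∞` is a central translation -/
theorem invol_of_fix_pinf (hm : 1 ≤ m) (hF : Fintype.card F = 2 ^ (2 * m + 1)) {x : Sz F m}
    (hx2 : x * x = 1) (hfix : x • (pinf : Projectivization F (Fin 4 → F)) = pinf) :
    ∃ b : F, x = t0 h b := by
  obtain ⟨a, b, c, rfl⟩ := exists_tt_dd h hm hF hfix
  have e1 : tt h a b * dd h c * (tt h a b * dd h c) =
      tt h a b * (dd h c * tt h a b) * dd h c := by group
  rw [e1, dd_mul_tt h hm hF, ← mul_assoc, tt_mul, mul_assoc, ← dd_mul] at hx2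
  have e2 : (1 : Sz F m) = tt h 0 0 * dd h 1 := by rw [tt_zero, dd_one, one_mul]
  rw [e2] at hx2
  obtain ⟨ha, hb, hc⟩ := tt_dd_injective h hx2
  have hc1 : c = 1 := unit_eq_one_of_sq h hc
  subst hc1
  rw [Units.val_one, one_mul] at ha hb
  rw [dd_one, mul_one]
  have ha0 : a = 0 := by
    rw [θ_one, one_mul, one_mul] at hb
    have h2 := h.two
    have : θ m a * a = 0 := by linear_combination hb - b * h2
    rcases mul_eq_zero.1 this with h3 | h3
    · exact θ_eq_zero.1 h3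
    · exact h3
  subst ha0
  exact ⟨b, rfl⟩

/-- a nontrivial involution has at most one fixed point on the ovoid -/
theorem invol_fix_unique (hm : 1 ≤ m) (hF : Fintype.card F = 2 ^ (2 * m + 1)) {x : Sz F m}
    (hx2 : x * x = 1) (hx1 : x ≠ 1) {p p' : Projectivization F (Fin 4 → F)}
    (hp : p ∈ suzukiOvoid F m) (hp' : p' ∈ suzukiOvoid F m) (hfix : x • p = p)
    (hfix' : x • p' = p') : p = p' := by
  obtain ⟨s, hs⟩ := exists_smul_eq_pinf h hp
  have hy2 : s * x * s⁻¹ * (s * x * s⁻¹) = 1 := by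
    calc s * x * s⁻¹ * (s * x * s⁻¹) = s * (x * x) * s⁻¹ := by group
      _ = 1 := by rw [hx2]; group
  have hyfix : (s * x * s⁻¹) • (pinf : Projectivization F (Fin 4 → F)) = pinf := by
    rw [mul_smul, mul_smul, ← hs, inv_smul_smul, hfix]
  obtain ⟨b, hb⟩ := invol_of_fix_pinf h hm hF hy2 hyfix
  have hb0 : b ≠ 0 := by
    rintro rfl
    rw [t0_zero] at hb
    apply hx1
    have : x = s⁻¹ * (s * x * s⁻¹) * s := by group
    rw [this, hb]
    group
  have hfix2 : t0 h b • (s • p') = s • p' := by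
    rw [← hb, mul_smul, mul_smul, inv_smul_smul, hfix']
  have := eq_pinf_of_t0_smul h hb0 (smul_mem_ovoid h s hp') hfix2
  rw [← hs] at this
  exact (smul_left_cancel s this).symm

/-- an involution has a fixed point on the ovoid -/
theorem invol_exists_fix (hF : Fintype.card F = 2 ^ (2 * m + 1)) {x : Sz F m}
    (hx2 : x * x = 1) : ∃ p ∈ suzukiOvoid F m, x • p = p := by
  by_contra hcon
  push Not at hcon
  have hsq : (x : SpecialLinearGroup (Fin 4) F) * x = 1 := by
    have := congrArg Subtype.val hx2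
    simpa using this
  exact not_fpf_of_sq h hF x.2 hsq (fun p hp => hcon p hp)

/-- two involutions with different fixed points are conjugate by an involution of the subgroup
they generate, which interchanges the fixed points -/
theorem exists_invol_conj (hm : 1 ≤ m) (hF : Fintype.card F = 2 ^ (2 * m + 1))
    (L : Subgroup (Sz F m)) {t u : Sz F m} (ht : t ∈ L) (hu : u ∈ L) (ht2 : t * t = 1)
    (hu2 : u * u = 1) (ht1 : t ≠ 1) (hu1 : u ≠ 1) {p p' : Projectivization F (Fin 4 → F)}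
    (hp : p ∈ suzukiOvoid F m) (hp' : p' ∈ suzukiOvoid F m) (hpp' : p ≠ p') (hfixt : t • p = p)
    (hfixu : u • p' = p') :
    ∃ τ ∈ L, τ * τ = 1 ∧ τ * t * τ⁻¹ = u ∧ τ • p = p' ∧ τ • p' = p := by
  have hle : Subgroup.closure ({t, u} : Set (Sz F m)) ≤ L := by
    rw [Subgroup.closure_le]
    rintro x (rfl | rfl)
    · exact ht
    · exact hu
  rcases Dih.dichotomy ht2 hu2 with ⟨τ, hτ, hτ2, hτc⟩ | ⟨z, -, hz1, hz2, hzt, hzu⟩
  · have h1 : τ • p = p' := by
      apply invol_fix_unique h hm hF hu2 hu1 (smul_mem_ovoid h τ hp) hp' _ hfixu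
      rw [← hτc, mul_smul, mul_smul, inv_smul_smul, hfixt]
    refine ⟨τ, hle hτ, hτ2, hτc, h1, ?_⟩
    rw [← h1, ← mul_smul, hτ2, one_smul]
  · exfalso
    have h1 : z • p = p := by
      apply invol_fix_unique h hm hF ht2 ht1 (smul_mem_ovoid h z hp) hp _ hfixt
      rw [← mul_smul, ← hzt, mul_smul, hfixt]
    have h2 : z • p' = p' := by
      apply invol_fix_unique h hm hF hu2 hu1 (smul_mem_ovoid h z hp') hp' _ hfixu
      rw [← mul_smul, ← hzu, mul_smul, hfixu]
    exact hpp' (invol_fix_unique h hm hF hz2 hz1 hp hp' h1 h2)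

/-- the stabiliser of `∞` in a subgroup not fixing `∞` is transitive on the central involutions of
the subgroup -/
theorem exists_conj_t0 (hm : 1 ≤ m) (hF : Fintype.card F = 2 ^ (2 * m + 1))
    (L : Subgroup (Sz F m)) {b b' : F} (hb : b ≠ 0) (hb' : b' ≠ 0) (hbL : t0 h b ∈ L)
    (hb'L : t0 h b' ∈ L) {g : Sz F m} (hg : g ∈ L)
    (hginf : g • (pinf : Projectivization F (Fin 4 → F)) ≠ pinf) :
    ∃ y ∈ L, y • (pinf : Projectivization F (Fin 4 → F)) = pinf ∧
      y * t0 h b * y⁻¹ = t0 h b' := by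
  set u := g * t0 h b * g⁻¹ with hu
  have huL : u ∈ L := L.mul_mem (L.mul_mem hg hbL) (L.inv_mem hg)
  have hu2 : u * u = 1 := by
    calc u * u = g * (t0 h b * t0 h b) * g⁻¹ := by rw [hu]; group
      _ = 1 := by rw [t0_mul_self]; group
  have hu1 : u ≠ 1 := by
    intro h1
    have : t0 h b = g⁻¹ * u * g := by rw [hu]; group
    rw [h1] at this
    have h0 : t0 h b = 1 := by rw [this]; group
    exact hb ((t0_eq_one_iff h).1 h0)
  have hfixu : u • (g • (pinf : Projectivization F (Fin 4 → F))) = g • pinf := by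
    rw [hu, mul_smul, mul_smul, inv_smul_smul]
    congr 1
    exact T_smul_pinf 0 b
  have hpg : g • (pinf : Projectivization F (Fin 4 → F)) ∈ suzukiOvoid F m :=
    smul_mem_ovoid h g pinf_mem
  have ht1 : ∀ {c : F}, c ≠ 0 → t0 h c ≠ 1 := fun hc h0 => hc ((t0_eq_one_iff h).1 h0)
  obtain ⟨τ₁, hτ₁L, -, hτ₁c, -, -⟩ := exists_invol_conj h hm hF L hbL huL (t0_mul_self h b) hu2
    (ht1 hb) hu1 pinf_mem hpg (Ne.symm hginf) (T_smul_pinf 0 b) hfixu
  obtain ⟨τ₂, hτ₂L, -, hτ₂c, -, -⟩ := exists_invol_conj h hm hF L hb'L huL (t0_mul_self h b') hu2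
    (ht1 hb') hu1 pinf_mem hpg (Ne.symm hginf) (T_smul_pinf 0 b') hfixu
  have hconj : τ₂⁻¹ * τ₁ * t0 h b * (τ₂⁻¹ * τ₁)⁻¹ = t0 h b' := by
    calc τ₂⁻¹ * τ₁ * t0 h b * (τ₂⁻¹ * τ₁)⁻¹ = τ₂⁻¹ * (τ₁ * t0 h b * τ₁⁻¹) * τ₂ := by group
      _ = τ₂⁻¹ * (τ₂ * t0 h b' * τ₂⁻¹) * τ₂ := by rw [hτ₁c, hτ₂c]
      _ = t0 h b' := by group
  refine ⟨τ₂⁻¹ * τ₁, L.mul_mem (L.inv_mem hτ₂L) hτ₁L, ?_, hconj⟩
  apply eq_pinf_of_t0_smul h hb' (smul_mem_ovoid h _ pinf_mem)
  rw [← hconj, mul_smul, mul_smul, inv_smul_smul]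
  congr 1
  exact T_smul_pinf 0 b

end Cfsg.Agent.Lib.H2.Sz
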