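import Mathlib
import Cfsg.Prelude.Def_LieExceptional
import Cfsg.Agent.Lib.H2.Sz23

set_option autoImplicit false
set_option linter.unusedSimpArgs false
set_option linter.unusedSectionVars false

/-!
# Suzuki groups XXIV: normalising a subgroup with several central involutions
-/

namespace Cfsg.Agent.Lib.H2.Sz

open Matrix Cfsg Projectivization MulAction
open scoped Pointwise

section Generic

variable {G : Type*} [Group G]

/-- the conjugate subgroup `s L s⁻¹` -/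
def cj (s : G) (L : Subgroup G) : Subgroup G := L.map (MulAut.conj s).toMonoidHom

theorem mem_cj {s x : G} {L : Subgroup G} : x ∈ cj s L ↔ s⁻¹ * x * s ∈ L := by
  constructor
  · rintro ⟨y, hy, rfl⟩
    have : s⁻¹ * (MulAut.conj s).toMonoidHom y * s = y := by
      simp [MulAut.conj_apply]
      group
    rw [this]
    exact hy
  · intro hx
    refine ⟨s⁻¹ * x * s, hx, ?_⟩
    simp [MulAut.conj_apply]
    group

theorem conj_mem_cj {s x : G} {L : Subgroup G} (hx : x ∈ L) : s * x * s⁻¹ ∈ cj s L := by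
  rw [mem_cj]
  have : s⁻¹ * (s * x * s⁻¹) * s = x := by group
  rw [this]
  exact hx

theorem cj_cj (s s' : G) (L : Subgroup G) : cj s (cj s' L) = cj (s * s') L := by
  ext x
  rw [mem_cj, mem_cj, mem_cj]
  have : s'⁻¹ * (s⁻¹ * x * s) * s' = (s * s')⁻¹ * x * (s * s') := by group
  rw [this]

end Generic

variable {F : Type*} [Field F] {m : ℕ} [Fintype F] (h : Fld F m)

include h

/-- the torus elements as a homomorphism -/
def ddHom : Fˣ →* Sz F m where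
  toFun := dd h
  map_one' := dd_one h
  map_mul' := dd_mul h

theorem ddHom_apply (c : Fˣ) : ddHom h c = dd h c := rfl

/-- the set of `b` with `t0 b ∈ L` -/
def Vset (L : Subgroup (Sz F m)) : AddSubgroup F where
  carrier := {b | t0 h b ∈ L}
  zero_mem' := by
    rw [Set.mem_ofPred_eq, t0_zero]
    exact L.one_mem
  add_mem' := fun {a b} ha hb => by
    rw [Set.mem_ofPred_eq, t0_add]
    exact L.mul_mem ha hb
  neg_mem' := fun {a} ha => by
    rw [Set.mem_ofPred_eq, h.neg]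
    exact ha

theorem mem_Vset {L : Subgroup (Sz F m)} {b : F} : b ∈ Vset h L ↔ t0 h b ∈ L := Iff.rfl

/-- conjugating `T a b * D c` by a translation does not change the torus part -/
theorem conj_tt_dd (hm : 1 ≤ m) (hF : Fintype.card F = 2 ^ (2 * m + 1)) (x y a b : F) (c : Fˣ) :
    ∃ a' b' : F, tt h x y * (tt h a b * dd h c) * (tt h x y)⁻¹ = tt h a' b' * dd h c := by
  rw [tt_inv]
  have e : tt h x y * (tt h a b * dd h c) * tt h x (y + θ m x * x) =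
      tt h x y * tt h a b * (dd h c * tt h x (y + θ m x * x)) := by group
  rw [e, dd_mul_tt h hm hF, ← mul_assoc, tt_mul, tt_mul]
  exact ⟨_, _, rfl⟩

theorem conj_tt_dd' (hm : 1 ≤ m) (hF : Fintype.card F = 2 ^ (2 * m + 1)) (x y a b : F) (c : Fˣ) :
    ∃ a' b' : F, (tt h x y)⁻¹ * (tt h a b * dd h c) * tt h x y = tt h a' b' * dd h c := by
  obtain ⟨a', b', e⟩ := conj_tt_dd h hm hF x (y + θ m x * x) a b c
  refine ⟨a', b', ?_⟩
  rw [← e, ← tt_inv, inv_inv]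

/-- the torus parts of the elements of `L` fixing `∞` -/
def Kset (hm : 1 ≤ m) (hF : Fintype.card F = 2 ^ (2 * m + 1)) (L : Subgroup (Sz F m)) :
    Subgroup Fˣ where
  carrier := {c | ∃ a b, tt h a b * dd h c ∈ L}
  one_mem' := ⟨0, 0, by rw [tt_zero, dd_one, one_mul]; exact L.one_mem⟩
  mul_mem' := by
    rintro c c' ⟨a, b, hab⟩ ⟨a', b', hab'⟩
    have e : tt h a b * dd h c * (tt h a' b' * dd h c') =
        tt h a b * (dd h c * tt h a' b') * dd h c' := by group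
    have := L.mul_mem hab hab'
    rw [e, dd_mul_tt h hm hF, ← mul_assoc, tt_mul, mul_assoc, ← dd_mul] at this
    exact ⟨_, _, this⟩
  inv_mem' := by
    rintro c ⟨a, b, hab⟩
    have := L.inv_mem hab
    rw [_root_.mul_inv_rev, dd_inv, tt_inv, dd_mul_tt h hm hF] at this
    exact ⟨_, _, this⟩

theorem mem_Kset (hm : 1 ≤ m) (hF : Fintype.card F = 2 ^ (2 * m + 1)) {L : Subgroup (Sz F m)}
    {c : Fˣ} : c ∈ Kset h hm hF L ↔ ∃ a b, tt h a b * dd h c ∈ L := Iff.rfl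

/-- the stabiliser of `∞` in `L` splits over the torus -/
def Split (L : Subgroup (Sz F m)) : Prop := ∀ (a b : F) (c : Fˣ), tt h a b * dd h c ∈ L → dd h c ∈ L

/-- the hypotheses: two central involutions and an element moving `∞` -/
structure Hyp (L : Subgroup (Sz F m)) : Prop where
  two : ∃ b₁ b₂ : F, b₁ ≠ 0 ∧ b₂ ≠ 0 ∧ b₁ ≠ b₂ ∧ t0 h b₁ ∈ L ∧ t0 h b₂ ∈ L
  move : ∃ g ∈ L, g • (pinf : Projectivization F (Fin 4 → F)) ≠ pinf

theorem Hyp.cj (hm : 1 ≤ m) (hF : Fintype.card F = 2 ^ (2 * m + 1)) {L : Subgroup (Sz F m)}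
    (hL : Hyp h L) {s : Sz F m} (hs : s • (pinf : Projectivization F (Fin 4 → F)) = pinf) :
    Hyp h (cj s L) := by
  obtain ⟨b₁, b₂, h1, h2, h12, hb₁, hb₂⟩ := hL.two
  obtain ⟨g, hg, hginf⟩ := hL.move
  obtain ⟨k, hk⟩ := conj_t0 h hm hF hs
  have hk0 : (k : F) * θ m (k : F) ≠ 0 := mul_ne_zero k.ne_zero (fun h0 => k.ne_zero (θ_eq_zero.1 h0))
  constructor
  · refine ⟨(k : F) * θ m (k : F) * b₁, (k : F) * θ m (k : F) * b₂, mul_ne_zero hk0 h1,
      mul_ne_zero hk0 h2, fun e => h12 (mul_left_cancel₀ hk0 e), ?_, ?_⟩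
    · rw [← hk]
      exact conj_mem_cj hb₁
    · rw [← hk]
      exact conj_mem_cj hb₂
  · refine ⟨s * g * s⁻¹, conj_mem_cj hg, ?_⟩
    intro h0
    apply hginf
    have hs' : s⁻¹ • (pinf : Projectivization F (Fin 4 → F)) = pinf := by
      rw [inv_smul_eq_iff, hs]
    rw [mul_smul, mul_smul, hs'] at h0
    have h1 : s • g • (pinf : Projectivization F (Fin 4 → F)) = s • pinf := by rw [h0, hs]
    exact smul_left_cancel s h1

theorem tt_t0_comm (a b c : F) : tt h a b * t0 h c = t0 h c * tt h a b := by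
  rw [t0_eq_tt, tt_mul, tt_mul, θ_zero]
  congr 1
  · ring
  · ring

/-- a nontrivial torus part exists -/
theorem exists_ne_one_mem_Kset (hm : 1 ≤ m) (hF : Fintype.card F = 2 ^ (2 * m + 1))
    {L : Subgroup (Sz F m)} (hL : Hyp h L) : ∃ c ∈ Kset h hm hF L, c ≠ 1 := by
  obtain ⟨b₁, b₂, h1, h2, h12, hb₁, hb₂⟩ := hL.two
  obtain ⟨g, hg, hginf⟩ := hL.move
  obtain ⟨y, hyL, hyinf, hyc⟩ := exists_conj_t0 h hm hF L h1 h2 hb₁ hb₂ hg hginf
  obtain ⟨a, b, c, rfl⟩ := exists_tt_dd h hm hF hyinf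
  refine ⟨c, ⟨a, b, hyL⟩, ?_⟩
  rintro rfl
  rw [dd_one, mul_one, tt_t0_comm, mul_assoc, mul_inv_cancel, mul_one] at hyc
  exact h12 (t0_injective h hyc)

/-- after conjugating by a translation, the stabiliser of `∞` splits -/
theorem exists_split (hm : 1 ≤ m) (hF : Fintype.card F = 2 ^ (2 * m + 1))
    {L : Subgroup (Sz F m)} (hL : Hyp h L) : ∃ x y : F, Split h (cj (tt h x y)⁻¹ L) := by
  obtain ⟨c₁, hc₁, hc₁ne⟩ := exists_ne_one_mem_Kset h hm hF hL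
  obtain ⟨⟨k₀, hk₀⟩, hgen⟩ := IsCyclic.exists_generator (α := Kset h hm hF L)
  have hk₀ne : k₀ ≠ 1 := by
    rintro rfl
    obtain ⟨n, hn⟩ := Subgroup.mem_zpowers_iff.1 (hgen ⟨c₁, hc₁⟩)
    apply hc₁ne
    have := congrArg Subtype.val hn
    simpa using this.symm
  obtain ⟨a₀, b₀, hab₀⟩ := hk₀
  obtain ⟨x₀, y₀, hxy⟩ := exists_fix_pt h hk₀ne a₀ b₀
  refine ⟨x₀, y₀, ?_⟩
  -- `D k₀` lies in the conjugate
  have hz : (tt h x₀ y₀)⁻¹ * (tt h a₀ b₀ * dd h k₀) * (tt h x₀ y₀) ∈ cj (tt h x₀ y₀)⁻¹ L := by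
    have := conj_mem_cj (s := (tt h x₀ y₀)⁻¹) hab₀
    rwa [inv_inv] at this
  obtain ⟨a', b', e⟩ := conj_tt_dd' h hm hF x₀ y₀ a₀ b₀ k₀
  have hfix : ((tt h x₀ y₀)⁻¹ * (tt h a₀ b₀ * dd h k₀) * (tt h x₀ y₀)) • pt m (0 : F) 0 =
      pt m 0 0 := by
    rw [mul_smul, mul_smul, tt_smul_zero]
    have : (tt h a₀ b₀ * dd h k₀) • pt m x₀ y₀ = pt m x₀ y₀ := hxy
    rw [this]
    exact T_inv_smul_pt h x₀ y₀
  rw [e] at hfix hz
  rw [mul_smul, dd_smul_zero, tt_smul_zero] at hfix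
  obtain ⟨ha', hb'⟩ := pt_injective hfix
  rw [ha', hb', tt_zero, one_mul] at hz
  intro a b c habc
  rw [mem_cj, inv_inv] at habc
  obtain ⟨a'', b'', e'⟩ := conj_tt_dd h hm hF x₀ y₀ a b c
  rw [e'] at habc
  have hc : c ∈ Kset h hm hF L := ⟨a'', b'', habc⟩
  obtain ⟨n, hn⟩ := Subgroup.mem_zpowers_iff.1 (hgen ⟨c, hc⟩)
  have hn' : k₀ ^ n = c := by
    have := congrArg Subtype.val hn
    simpa using this
  rw [← ddHom_apply, ← hn', map_zpow]
  exact (cj (tt h x₀ y₀)⁻¹ L).zpow_mem hz n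

/-- Frobenius-type conjugacy: `T a c * D k` with `k ≠ 1` in a split `L` is conjugate to `D k` by a
translation of `L` -/
theorem exists_conj_dd (hm : 1 ≤ m) (hF : Fintype.card F = 2 ^ (2 * m + 1))
    {L : Subgroup (Sz F m)} {a c : F} {k : Fˣ} (hk : k ≠ 1) (hac : tt h a c ∈ L)
    (hkL : dd h k ∈ L) :
    ∃ a' c' : F, tt h a' c' ∈ L ∧
      tt h a' c' * dd h k * (tt h a' c')⁻¹ = tt h a c * dd h k := by
  classical
  -- the map `s ↦ s * (D k * s⁻¹ * (D k)⁻¹)` on `L ⊓ TS`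
  have hmem : ∀ s : ↥(L ⊓ TS h), (s : Sz F m) * (dd h k * (s : Sz F m)⁻¹ * (dd h k)⁻¹) ∈ L ⊓ TS h := by
    intro s
    refine ⟨L.mul_mem s.2.1 (L.mul_mem (L.mul_mem hkL (L.inv_mem s.2.1)) (L.inv_mem hkL)), ?_⟩
    exact (TS h).mul_mem s.2.2 (conj_mem_TS_of_fix h hm hF (dd_smul_pinf h k)
      ((TS h).inv_mem s.2.2))
  let φ : ↥(L ⊓ TS h) → ↥(L ⊓ TS h) := fun s => ⟨_, hmem s⟩
  have hinj : Function.Injective φ := by
    intro s s' e
    have e1 : (s : Sz F m) * (dd h k * (s : Sz F m)⁻¹ * (dd h k)⁻¹) =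
        (s' : Sz F m) * (dd h k * (s' : Sz F m)⁻¹ * (dd h k)⁻¹) := congrArg Subtype.val e
    -- `w = s'⁻¹ s` commutes with `D k`
    have e2 : ((s' : Sz F m)⁻¹ * s) * dd h k = dd h k * ((s' : Sz F m)⁻¹ * s) := by
      have : (s' : Sz F m)⁻¹ * s = dd h k * ((s' : Sz F m)⁻¹ * s) * (dd h k)⁻¹ := by
        calc (s' : Sz F m)⁻¹ * s
            = (s' : Sz F m)⁻¹ * ((s : Sz F m) * (dd h k * (s : Sz F m)⁻¹ * (dd h k)⁻¹)) *
                (dd h k * s * (dd h k)⁻¹) := by group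
          _ = (s' : Sz F m)⁻¹ * ((s' : Sz F m) * (dd h k * (s' : Sz F m)⁻¹ * (dd h k)⁻¹)) *
                (dd h k * s * (dd h k)⁻¹) := by rw [e1]
          _ = dd h k * ((s' : Sz F m)⁻¹ * s) * (dd h k)⁻¹ := by group
      calc ((s' : Sz F m)⁻¹ * s) * dd h k
          = dd h k * ((s' : Sz F m)⁻¹ * s) * (dd h k)⁻¹ * dd h k := by rw [← this]
        _ = dd h k * ((s' : Sz F m)⁻¹ * s) := by group
    obtain ⟨l, hl⟩ := eq_D_of_commute_D h hm hF hk ((s' : Sz F m)⁻¹ * s).2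
      (congrArg Subtype.val e2)
    obtain ⟨a₁, c₁, hw⟩ : ∃ a₁ c₁ : F, (((s' : Sz F m)⁻¹ * s : Sz F m) :
        SpecialLinearGroup (Fin 4) F) = T m a₁ c₁ :=
      (TS h).mul_mem ((TS h).inv_mem s'.2.2) s.2.2
    have e3 : tt h a₁ c₁ * dd h 1 = tt h 0 0 * dd h l := by
      rw [dd_one, mul_one, tt_zero, one_mul]
      apply Subtype.ext
      rw [coe_tt, coe_dd, ← hw, hl]
    obtain ⟨ha₁, hc₁, -⟩ := tt_dd_injective h e3
    have e4 : (s' : Sz F m)⁻¹ * s = 1 := by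
      apply Subtype.ext
      rw [hw, ha₁, hc₁, T_zero]
      rfl
    apply Subtype.ext
    have : (s : Sz F m) = s' * ((s' : Sz F m)⁻¹ * s) := by group
    rw [this, e4, mul_one]
  have hsurj : Function.Surjective φ := Finite.injective_iff_surjective.1 hinj
  obtain ⟨s, hs⟩ := hsurj ⟨tt h a c, hac, ⟨a, c, rfl⟩⟩
  obtain ⟨a', c', hs'⟩ : ∃ a' c' : F, ((s : Sz F m) : SpecialLinearGroup (Fin 4) F) = T m a' c' :=
    s.2.2
  have hs'' : (s : Sz F m) = tt h a' c' := Subtype.ext hs'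
  have e5 : (s : Sz F m) * (dd h k * (s : Sz F m)⁻¹ * (dd h k)⁻¹) = tt h a c :=
    congrArg Subtype.val hs
  refine ⟨a', c', hs'' ▸ s.2.1, ?_⟩
  rw [← hs'', ← e5]
  group

/-- the orbit of `∞` under a split `L` consists of `∞` and the translates of `0` -/
theorem sub_orbit_pinf (hm : 1 ≤ m) (hF : Fintype.card F = 2 ^ (2 * m + 1))
    {L : Subgroup (Sz F m)} (hL : Hyp h L) (hS : Split h L) {g : Sz F m} (hg : g ∈ L)
    (hginf : g • (pinf : Projectivization F (Fin 4 → F)) ≠ pinf) :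
    ∃ a c : F, tt h a c ∈ L ∧ g • (pinf : Projectivization F (Fin 4 → F)) = pt m a c := by
  obtain ⟨b₁, b₂, h1, h2, h12, hb₁, hb₂⟩ := hL.two
  set x := g • (pinf : Projectivization F (Fin 4 → F)) with hx
  have hxo : x ∈ suzukiOvoid F m := smul_mem_ovoid h g pinf_mem
  set u := g * t0 h b₁ * g⁻¹ with hu
  have huL : u ∈ L := L.mul_mem (L.mul_mem hg hb₁) (L.inv_mem hg)
  have hu2 : u * u = 1 := by
    calc u * u = g * (t0 h b₁ * t0 h b₁) * g⁻¹ := by rw [hu]; group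
      _ = 1 := by rw [t0_mul_self]; group
  have hu1 : u ≠ 1 := by
    intro h0
    have : t0 h b₁ = g⁻¹ * u * g := by rw [hu]; group
    rw [h0] at this
    have h0' : t0 h b₁ = 1 := by rw [this]; group
    exact h1 ((t0_eq_one_iff h).1 h0')
  have hfixu : u • x = x := by
    rw [hu, hx, mul_smul, mul_smul, inv_smul_smul]
    congr 1
    exact T_smul_pinf 0 b₁
  have ht1 : ∀ {c : F}, c ≠ 0 → t0 h c ≠ 1 := fun hc h0 => hc ((t0_eq_one_iff h).1 h0)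
  obtain ⟨τ₁, hτ₁L, hτ₁2, hτ₁c, hτ₁a, hτ₁b⟩ := exists_invol_conj h hm hF L hb₁ huL
    (t0_mul_self h b₁) hu2 (ht1 h1) hu1 pinf_mem hxo (Ne.symm hginf) (T_smul_pinf 0 b₁) hfixu
  obtain ⟨τ₂, hτ₂L, hτ₂2, hτ₂c, hτ₂a, hτ₂b⟩ := exists_invol_conj h hm hF L hb₂ huL
    (t0_mul_self h b₂) hu2 (ht1 h2) hu1 pinf_mem hxo (Ne.symm hginf) (T_smul_pinf 0 b₂) hfixu
  have hτne : τ₁ ≠ τ₂ := by
    rintro rfl
    apply h12
    apply t0_injective h
    have e1 : t0 h b₁ = τ₁⁻¹ * u * τ₁ := by rw [← hτ₁c]; group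
    have e2 : t0 h b₂ = τ₁⁻¹ * u * τ₁ := by rw [← hτ₂c]; group
    rw [e1, e2]
  -- `y = τ₂⁻¹ τ₁` fixes `∞` and `x`
  have hyL : τ₂⁻¹ * τ₁ ∈ L := L.mul_mem (L.inv_mem hτ₂L) hτ₁L
  have hy1 : τ₂⁻¹ * τ₁ ≠ 1 := by
    intro h0
    apply hτne
    have : τ₁ = τ₂ * (τ₂⁻¹ * τ₁) := by group
    rw [this, h0, mul_one]
  have hyinf : (τ₂⁻¹ * τ₁) • (pinf : Projectivization F (Fin 4 → F)) = pinf := by
    rw [mul_smul, hτ₁a, inv_smul_eq_iff, hτ₂a]
  have hyx : (τ₂⁻¹ * τ₁) • x = x := by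
    rw [mul_smul, hτ₁b, inv_smul_eq_iff, hτ₂b]
  obtain ⟨a, c, k, hy⟩ := exists_tt_dd h hm hF hyinf
  have hk : k ≠ 1 := by
    rintro rfl
    rw [dd_one, mul_one] at hy
    rw [hy] at hyx hy1
    have hne : ¬ (a = 0 ∧ c = 0) := by
      rintro ⟨rfl, rfl⟩
      exact hy1 (tt_zero h)
    exact hginf (eq_pinf_of_T_smul h hne hxo hyx)
  rw [hy] at hyL hyx hy1 hyinf
  have hkL : dd h k ∈ L := hS a c k hyL
  have hacL : tt h a c ∈ L := by
    have : tt h a c = tt h a c * dd h k * (dd h k)⁻¹ := by group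
    rw [this]
    exact L.mul_mem hyL (L.inv_mem hkL)
  obtain ⟨a', c', hs, hconj⟩ := exists_conj_dd h hm hF hk hacL hkL
  refine ⟨a', c', hs, ?_⟩
  by_contra hne
  apply hy1
  have hfix3 : (tt h a c * dd h k) • pt m a' c' = pt m a' c' := by
    rw [← hconj, mul_smul, mul_smul, ← tt_smul_zero h a' c', inv_smul_smul, dd_smul_zero]
  apply Subtype.ext
  exact eq_one_of_fix_three h hm hF (tt h a c * dd h k).2 pinf_mem hxo (pt_mem a' c')
    (Ne.symm hginf) hne (Ne.symm (pt_ne_pinf a' c')) hyinf hyx hfix3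

theorem ww_mul_dd (c : Fˣ) : ww h * dd h c = dd h c⁻¹ * ww h := Subtype.ext (W_mul_D c)

/-- some `W * D k` lies in a split `L` -/
theorem exists_ww_dd (hm : 1 ≤ m) (hF : Fintype.card F = 2 ^ (2 * m + 1))
    {L : Subgroup (Sz F m)} (hL : Hyp h L) (hS : Split h L) : ∃ k₁ : Fˣ, ww h * dd h k₁ ∈ L := by
  obtain ⟨b₁, b₂, h1, h2, h12, hb₁, hb₂⟩ := hL.two
  obtain ⟨g, hg, hginf⟩ := hL.move
  obtain ⟨a, c, hac, hgx⟩ := sub_orbit_pinf h hm hF hL hS hg hginf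
  -- `g' = (T a c)⁻¹ g` maps `∞` to `0`
  have hg'L : (tt h a c)⁻¹ * g ∈ L := L.mul_mem (L.inv_mem hac) hg
  have hg'inf : ((tt h a c)⁻¹ * g) • (pinf : Projectivization F (Fin 4 → F)) = pt m 0 0 := by
    rw [mul_smul, hgx, inv_smul_eq_iff, tt_smul_zero]
  set g' := (tt h a c)⁻¹ * g with hg'
  set u := g' * t0 h b₁ * g'⁻¹ with hu
  have huL : u ∈ L := L.mul_mem (L.mul_mem hg'L hb₁) (L.inv_mem hg'L)
  have hu2 : u * u = 1 := by
    calc u * u = g' * (t0 h b₁ * t0 h b₁) * g'⁻¹ := by rw [hu]; group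
      _ = 1 := by rw [t0_mul_self]; group
  have hu1 : u ≠ 1 := by
    intro h0
    have : t0 h b₁ = g'⁻¹ * u * g' := by rw [hu]; group
    rw [h0] at this
    have h0' : t0 h b₁ = 1 := by rw [this]; group
    exact h1 ((t0_eq_one_iff h).1 h0')
  have hfixu : u • pt m (0 : F) 0 = pt m 0 0 := by
    rw [hu, ← hg'inf, mul_smul, mul_smul, inv_smul_smul]
    congr 1
    exact T_smul_pinf 0 b₁
  have ht1 : t0 h b₁ ≠ 1 := fun h0 => h1 ((t0_eq_one_iff h).1 h0)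
  obtain ⟨τ, hτL, -, -, hτa, hτb⟩ := exists_invol_conj h hm hF L hb₁ huL
    (t0_mul_self h b₁) hu2 ht1 hu1 pinf_mem (pt_mem 0 0) (Ne.symm (pt_ne_pinf 0 0))
    (T_smul_pinf 0 b₁) hfixu
  -- `W τ` fixes `∞` and `0`
  have f1 : (ww h * τ) • (pinf : Projectivization F (Fin 4 → F)) = pinf := by
    rw [mul_smul, hτa, ww_smul_zero]
  have f2 : (ww h * τ) • pt m (0 : F) 0 = pt m 0 0 := by
    rw [mul_smul, hτb, ww_smul_pinf]
  obtain ⟨k, hk⟩ := eq_D_of_fix h hm hF (ww h * τ).2 f1 f2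
  refine ⟨k, ?_⟩
  have : ww h * dd h k = τ := by
    have e : dd h k = ww h * τ := Subtype.ext hk.symm
    rw [e, ← mul_assoc, ww_mul_self, one_mul]
  rw [this]
  exact hτL

theorem Split.cj_dd (hm : 1 ≤ m) (hF : Fintype.card F = 2 ^ (2 * m + 1))
    {L : Subgroup (Sz F m)} (hS : Split h L) (l : Fˣ) : Split h (cj (dd h l) L) := by
  intro a b c habc
  rw [mem_cj] at habc ⊢
  have e : (dd h l)⁻¹ * (tt h a b * dd h c) * dd h l =
      ((dd h l)⁻¹ * tt h a b) * dd h c * dd h l := by group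
  have hc : l⁻¹ * c * l = c := by rw [mul_comm, ← mul_assoc, mul_inv_cancel, one_mul]
  rw [e, dd_inv, dd_mul_tt h hm hF, mul_assoc, mul_assoc, ← dd_mul, ← dd_mul, ← mul_assoc,
    hc] at habc
  have := hS _ _ _ habc
  rw [dd_inv, ← dd_mul, ← dd_mul, hc]
  exact this

/-- after conjugating by a torus element, a split `L` contains `W` -/
theorem exists_ww_mem (hm : 1 ≤ m) (hF : Fintype.card F = 2 ^ (2 * m + 1))
    {L : Subgroup (Sz F m)} (hL : Hyp h L) (hS : Split h L) : ∃ l : Fˣ, ww h ∈ cj (dd h l) L := by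
  obtain ⟨k₁, hk₁⟩ := exists_ww_dd h hm hF hL hS
  -- a square root of `k₁`
  have hsq : (k₁ ^ (2 ^ (2 * m))) * (k₁ ^ (2 ^ (2 * m))) = k₁ := by
    apply Units.ext
    rw [Units.val_mul, Units.val_pow_eq_pow_val, ← pow_add, ← two_mul, ← pow_succ']
    exact h.frob _
  refine ⟨k₁ ^ (2 ^ (2 * m)), ?_⟩
  rw [mem_cj, dd_inv, ← ww_mul_dd, mul_assoc, ← dd_mul, hsq]
  exact hk₁

end Cfsg.Agent.Lib.H2.Sz
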