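import Mathlib
import Cfsg.Prelude.Def_LieExceptional
import Cfsg.Agent.Lib.H2.Sz24

set_option autoImplicit false
set_option linter.unusedSimpArgs false
set_option linter.unusedSectionVars false

/-!
# Suzuki groups XXV: a normalised subgroup is a subfield subgroup
-/

namespace Cfsg.Agent.Lib.H2.Sz

open Matrix Cfsg Projectivization MulAction
open scoped Pointwise

variable {F : Type*} [Field F] {m : ℕ} [Fintype F] (h : Fld F m)

include h

theorem mulθ_injective {x y : F} (e : x * θ m x = y * θ m y) : x = y := by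
  by_cases hy : y = 0
  · subst hy
    rw [θ_zero, mul_zero] at e
    rcases mul_eq_zero.1 e with h1 | h1
    · exact h1
    · exact θ_eq_zero.1 h1
  · have hθy : θ m y ≠ 0 := fun h0 => hy (θ_eq_zero.1 h0)
    have : (x / y) * θ m (x / y) = 1 := by
      rw [θ_div]
      field_simp
      linear_combination e
    have := eq_one_of_mul_θ h this
    field_simp at this
    exact this

theorem divθ_injective {x y : F} (hx : x ≠ 0) (hy : y ≠ 0) (e : x / θ m x = y / θ m y) :
    x = y := by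
  have hθx : θ m x ≠ 0 := fun h0 => hx (θ_eq_zero.1 h0)
  have hθy : θ m y ≠ 0 := fun h0 => hy (θ_eq_zero.1 h0)
  have h1 : θ m (x / y) = x / y := by
    rw [θ_div]
    field_simp
    field_simp at e
    linear_combination -e
  have h2 : θ m (θ m (x / y)) = x / y := by rw [h1, h1]
  rw [θ_θ h] at h2
  have hz : x / y ≠ 0 := div_ne_zero hx hy
  have h3 : x / y = 1 := by
    have : (x / y) * (x / y - 1) = 0 := by linear_combination h2
    rcases mul_eq_zero.1 this with h4 | h4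
    · exact absurd h4 hz
    · exact sub_eq_zero.1 h4
  field_simp at h3
  exact h3

theorem conj_tt_dd_t0 (hm : 1 ≤ m) (hF : Fintype.card F = 2 ^ (2 * m + 1)) (a c : F) (k : Fˣ)
    (b : F) :
    (tt h a c * dd h k) * t0 h b * (tt h a c * dd h k)⁻¹ = t0 h ((k : F) * θ m (k : F) * b) := by
  have e : (tt h a c * dd h k) * t0 h b * (tt h a c * dd h k)⁻¹ =
      tt h a c * (dd h k * t0 h b * (dd h k)⁻¹) * (tt h a c)⁻¹ := by group
  rw [e]
  have := conj_D_t0 h hm hF k b
  have e2 : dd h k * t0 h b * (dd h k)⁻¹ = t0 h ((k : F) * θ m (k : F) * b) := this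
  rw [e2, tt_t0_comm, mul_assoc, mul_inv_cancel, mul_one]

theorem tt_sq (a c : F) : tt h a c * tt h a c = t0 h (θ m a * a) := by
  rw [tt_mul, t0_eq_tt]
  have h2 := h.two
  congr 1
  · linear_combination a * h2
  · linear_combination c * h2

/-- the subfield of multipliers of `V` -/
def Rset (L : Subgroup (Sz F m)) : Subfield F where
  carrier := {c | ∀ v, t0 h v ∈ L → t0 h (c * v) ∈ L}
  mul_mem' := fun {a b} ha hb v hv => by
    rw [mul_assoc]
    exact ha _ (hb _ hv)
  one_mem' := fun v hv => by rwa [one_mul]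
  add_mem' := fun {a b} ha hb v hv => by
    rw [add_mul, t0_add]
    exact L.mul_mem (ha _ hv) (hb _ hv)
  zero_mem' := fun v _ => by
    rw [zero_mul, t0_zero]
    exact L.one_mem
  neg_mem' := fun {a} ha => by
    rw [h.neg]
    exact ha
  inv_mem' := by
    intro a ha
    by_cases ha0 : a = 0
    · subst ha0
      rw [_root_.inv_zero]
      intro v _
      rw [zero_mul, t0_zero]
      exact L.one_mem
    · -- `a⁻¹ = a ^ (q - 2)`
      have hpow : ∀ n : ℕ, ∀ v, t0 h v ∈ L → t0 h (a ^ n * v) ∈ L := by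
        intro n
        induction n with
        | zero => intro v hv; rwa [pow_zero, one_mul]
        | succ n ih =>
          intro v hv
          rw [pow_succ, mul_assoc]
          exact ih _ (ha _ hv)
      have hq : 2 ≤ 2 ^ (2 * m + 1) := by
        calc 2 = 2 ^ 1 := by norm_num
          _ ≤ 2 ^ (2 * m + 1) := Nat.pow_le_pow_right (by norm_num) (by omega)
      have e : a⁻¹ = a ^ (2 ^ (2 * m + 1) - 2) := by
        have h1 : a ^ (2 ^ (2 * m + 1) - 2) * a ^ 2 = a := by
          rw [← pow_add, Nat.sub_add_cancel hq]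
          exact h.frob a
        symm
        apply eq_inv_of_mul_eq_one_left
        apply mul_right_cancel₀ ha0
        rw [one_mul, mul_assoc, ← pow_two]
        exact h1
      rw [e]
      exact hpow _


section Norm

variable (hm : 1 ≤ m) (hF : Fintype.card F = 2 ^ (2 * m + 1)) {L : Subgroup (Sz F m)}
  (hL : Hyp h L) (hS : Split h L) (hW : ww h ∈ L)

include hm hF hL hS hW

/-- (f): `V` is closed under inversion, and the corresponding translations lie in `L` -/
theorem tt_div_mem {b : F} (hb0 : b ≠ 0) (hb : t0 h b ∈ L) :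
    tt h (b / θ m b) 0 ∈ L ∧ t0 h b⁻¹ ∈ L := by
  have hθb : θ m b ≠ 0 := fun h0 => hb0 (θ_eq_zero.1 h0)
  have hgL : ww h * t0 h b * ww h ∈ L := L.mul_mem (L.mul_mem hW hb) hW
  have hf : f m 0 b = θ m b := by
    rw [f_eq]
    simp
  have hginf : (ww h * t0 h b * ww h) • (pinf : Projectivization F (Fin 4 → F)) =
      pt m (b / θ m b) 0 := by
    rw [mul_smul, mul_smul, ww_smul_pinf, t0_eq_tt, tt_smul_zero]
    have := W_smul_pt (m := m) h (x := (0 : F)) (y := b) (fun h0 => hb0 h0.2)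
    rw [hf, zero_div] at this
    exact this
  have hne : (ww h * t0 h b * ww h) • (pinf : Projectivization F (Fin 4 → F)) ≠ pinf := by
    rw [hginf]
    exact pt_ne_pinf _ _
  obtain ⟨a, c, hac, hx⟩ := sub_orbit_pinf h hm hF hL hS hgL hne
  rw [hginf] at hx
  obtain ⟨ha, hc⟩ := pt_injective hx
  rw [← ha, ← hc] at hac
  refine ⟨hac, ?_⟩
  have hsq := L.mul_mem hac hac
  rw [tt_sq] at hsq
  have e : θ m (b / θ m b) * (b / θ m b) = b⁻¹ := by
    rw [θ_div, θ_θ h]
    field_simp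
  rw [e] at hsq
  exact hsq

omit hm hF hL hS hW in
theorem mem_Rset {c : F} : c ∈ Rset h L ↔ ∀ v, t0 h v ∈ L → t0 h (c * v) ∈ L := Iff.rfl

/-- torus parts give multipliers -/
theorem mulθ_mem_Rset {k : Fˣ} (hk : k ∈ Kset h hm hF L) : (k : F) * θ m (k : F) ∈ Rset h L := by
  obtain ⟨a, c, hac⟩ := hk
  intro v hv
  rw [← conj_tt_dd_t0 h hm hF a c k v]
  exact L.mul_mem (L.mul_mem hac hv) (L.inv_mem hac)

/-- transitivity of the torus parts on `V \ 0` -/
theorem exists_mem_Kset {b b' : F} (hb0 : b ≠ 0) (hb'0 : b' ≠ 0) (hb : t0 h b ∈ L)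
    (hb' : t0 h b' ∈ L) : ∃ k ∈ Kset h hm hF L, (k : F) * θ m (k : F) * b = b' := by
  obtain ⟨g, hg, hginf⟩ := hL.move
  obtain ⟨y, hyL, hyinf, hyc⟩ := exists_conj_t0 h hm hF L hb0 hb'0 hb hb' hg hginf
  obtain ⟨a, c, k, rfl⟩ := exists_tt_dd h hm hF hyinf
  refine ⟨k, ⟨a, c, hyL⟩, ?_⟩
  rw [conj_tt_dd_t0 h hm hF] at hyc
  exact t0_injective h hyc

/-- (g): `V = R` -/
theorem t0_mem_iff {v : F} : t0 h v ∈ L ↔ v ∈ Rset h L := by
  obtain ⟨b₁, b₂, h1, h2, h12, hb₁, hb₂⟩ := hL.two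
  -- `V = R b₁`
  have hV : ∀ v, t0 h v ∈ L → ∃ r ∈ Rset h L, v = r * b₁ := by
    intro v hv
    by_cases hv0 : v = 0
    · exact ⟨0, (Rset h L).zero_mem, by rw [hv0, zero_mul]⟩
    · obtain ⟨k, hk, hkb⟩ := exists_mem_Kset h hm hF hL hS hW h1 hv0 hb₁ hv
      exact ⟨_, mulθ_mem_Rset h hm hF hL hS hW hk, hkb.symm⟩
  -- `b₁ ∈ R`
  have hb₁R : b₁ ∈ Rset h L := by
    obtain ⟨r, hr, e⟩ := hV _ (tt_div_mem h hm hF hL hS hW h1 hb₁).2
    have hr0 : r ≠ 0 := by
      rintro rfl
      rw [zero_mul] at e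
      exact inv_ne_zero h1 e
    have hsq : b₁ ^ 2 = r⁻¹ := by
      field_simp
      field_simp at e
      linear_combination -e
    have hsqR : b₁ ^ 2 ∈ Rset h L := by
      rw [hsq]
      exact (Rset h L).inv_mem hr
    have : b₁ = (b₁ ^ 2) ^ (2 ^ (2 * m)) := by
      rw [← pow_mul, ← pow_succ']
      exact (h.frob b₁).symm
    rw [this]
    exact (Rset h L).pow_mem hsqR _
  constructor
  · intro hv
    obtain ⟨r, hr, rfl⟩ := hV v hv
    exact (Rset h L).mul_mem hr hb₁R
  · intro hv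
    have h3 : v * b₁⁻¹ ∈ Rset h L := (Rset h L).mul_mem hv ((Rset h L).inv_mem hb₁R)
    have := h3 b₁ hb₁
    rwa [mul_assoc, inv_mul_cancel₀ h1, mul_one] at this

omit hm hF hL hS hW in
theorem θ_mem_Rset {x : F} (hx : x ∈ Rset h L) : θ m x ∈ Rset h L := (Rset h L).pow_mem hx _

/-- `x ↦ x θ(x)` is onto `R` -/
theorem exists_mulθ_eq {c : F} (hc : c ∈ Rset h L) : ∃ x ∈ Rset h L, x * θ m x = c := by
  classical
  let ψ : Rset h L → Rset h L := fun x => ⟨(x : F) * θ m (x : F),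
    (Rset h L).mul_mem x.2 (θ_mem_Rset h x.2)⟩
  have hinj : Function.Injective ψ := by
    intro x y e
    exact Subtype.ext (mulθ_injective h (congrArg Subtype.val e))
  obtain ⟨x, hx⟩ := (Finite.injective_iff_surjective.1 hinj) ⟨c, hc⟩
  exact ⟨x, x.2, congrArg Subtype.val hx⟩

/-- `x ↦ x / θ(x)` is onto `R \ 0` -/
theorem exists_divθ_eq {c : F} (hc : c ∈ Rset h L) (hc0 : c ≠ 0) :
    ∃ x ∈ Rset h L, x ≠ 0 ∧ x / θ m x = c := by
  classical
  let ψ : {x : Rset h L // (x : F) ≠ 0} → {x : Rset h L // (x : F) ≠ 0} := fun x =>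
    ⟨⟨(x : F) / θ m (x : F), (Rset h L).div_mem x.1.2 (θ_mem_Rset h x.1.2)⟩,
      div_ne_zero x.2 (fun h0 => x.2 (θ_eq_zero.1 h0))⟩
  have hinj : Function.Injective ψ := by
    intro x y e
    apply Subtype.ext
    apply Subtype.ext
    have e' : ((ψ x).1 : F) = ((ψ y).1 : F) := by rw [e]
    exact divθ_injective h x.2 y.2 e'
  obtain ⟨x, hx⟩ := (Finite.injective_iff_surjective.1 hinj) ⟨⟨c, hc⟩, hc0⟩
  have e' : ((ψ x).1 : F) = c := by rw [hx]
  exact ⟨x, x.1.2, x.2, e'⟩

/-- (h): the torus parts are the units of `R` -/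
theorem mem_Kset_iff {k : Fˣ} : k ∈ Kset h hm hF L ↔ (k : F) ∈ Rset h L := by
  constructor
  · intro hk
    obtain ⟨x, hx, e⟩ := exists_mulθ_eq h hm hF hL hS hW (mulθ_mem_Rset h hm hF hL hS hW hk)
    rw [← mulθ_injective h e]
    exact hx
  · intro hk
    have h1 : t0 h (1 : F) ∈ L := (t0_mem_iff h hm hF hL hS hW).2 (Rset h L).one_mem
    have hkθ : (k : F) * θ m (k : F) ∈ Rset h L := (Rset h L).mul_mem hk (θ_mem_Rset h hk)
    have hkθ0 : (k : F) * θ m (k : F) ≠ 0 :=
      mul_ne_zero k.ne_zero (fun h0 => k.ne_zero (θ_eq_zero.1 h0))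
    obtain ⟨k', hk', e⟩ := exists_mem_Kset h hm hF hL hS hW one_ne_zero hkθ0 h1
      ((t0_mem_iff h hm hF hL hS hW).2 hkθ)
    rw [mul_one] at e
    have : k' = k := Units.ext (mulθ_injective h e)
    rw [← this]
    exact hk'

/-- (i): the translations of `L` -/
theorem tt_mem_iff {a c : F} : tt h a c ∈ L ↔ a ∈ Rset h L ∧ c ∈ Rset h L := by
  have key : ∀ a : F, a ∈ Rset h L → tt h a 0 ∈ L := by
    intro a ha
    by_cases ha0 : a = 0
    · subst ha0
      rw [tt_zero]
      exact L.one_mem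
    · obtain ⟨b, hb, hb0, e⟩ := exists_divθ_eq h hm hF hL hS hW ha ha0
      rw [← e]
      exact (tt_div_mem h hm hF hL hS hW hb0 ((t0_mem_iff h hm hF hL hS hW).2 hb)).1
  have hprod : ∀ a c : F, tt h a c = tt h a 0 * t0 h c := by
    intro a c
    rw [t0_eq_tt, tt_mul]
    congr 1 <;> ring
  constructor
  · intro hac
    have hsq := L.mul_mem hac hac
    rw [tt_sq, t0_mem_iff h hm hF hL hS hW] at hsq
    obtain ⟨x, hx, e⟩ := exists_mulθ_eq h hm hF hL hS hW hsq
    have hax : x = a := mulθ_injective h (by rw [e]; ring)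
    have haR : a ∈ Rset h L := hax ▸ hx
    refine ⟨haR, ?_⟩
    rw [← t0_mem_iff h hm hF hL hS hW]
    have : t0 h c = (tt h a 0)⁻¹ * tt h a c := by rw [hprod a c]; group
    rw [this]
    exact L.mul_mem (L.inv_mem (key a haR)) hac
  · rintro ⟨ha, hc⟩
    rw [hprod]
    exact L.mul_mem (key a ha) ((t0_mem_iff h hm hF hL hS hW).2 hc)

/-- (j): `L` is the standard subfield subgroup -/
theorem eq_stdSz : L = stdSz m (Rset h L : Set F) := by
  have hfix : ∀ g ∈ L, g • (pinf : Projectivization F (Fin 4 → F)) = pinf →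
      g ∈ stdSz m (Rset h L : Set F) := by
    intro g hg hginf
    obtain ⟨a, c, k, rfl⟩ := exists_tt_dd h hm hF hginf
    have hk : k ∈ Kset h hm hF L := ⟨a, c, hg⟩
    have hkL : dd h k ∈ L := hS a c k hg
    have hac : tt h a c ∈ L := by
      have : tt h a c = tt h a c * dd h k * (dd h k)⁻¹ := by group
      rw [this]
      exact L.mul_mem hg (L.inv_mem hkL)
    obtain ⟨ha, hc⟩ := (tt_mem_iff h hm hF hL hS hW).1 hac
    exact TD_mem_std h (R := (Rset h L : Set F)) ha hc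
      ((mem_Kset_iff h hm hF hL hS hW).1 hk) rfl
  apply le_antisymm
  · intro g hg
    by_cases hginf : g • (pinf : Projectivization F (Fin 4 → F)) = pinf
    · exact hfix g hg hginf
    · obtain ⟨a, c, hac, hx⟩ := sub_orbit_pinf h hm hF hL hS hg hginf
      have hg'L : ww h * (tt h a c)⁻¹ * g ∈ L := L.mul_mem (L.mul_mem hW (L.inv_mem hac)) hg
      have hg'inf : (ww h * (tt h a c)⁻¹ * g) • (pinf : Projectivization F (Fin 4 → F)) =
          pinf := by
        rw [mul_smul, mul_smul, hx, ← tt_smul_zero h a c, inv_smul_smul, ww_smul_zero]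
      have h1 := hfix _ hg'L hg'inf
      obtain ⟨ha, hc⟩ := (tt_mem_iff h hm hF hL hS hW).1 hac
      have h2 : tt h a c ∈ stdSz m (Rset h L : Set F) := T_mem_std ha hc rfl
      have h3 : ww h ∈ stdSz m (Rset h L : Set F) := W_mem_std rfl
      have : g = tt h a c * ww h * (ww h * (tt h a c)⁻¹ * g) := by
        have e := ww_mul_self h
        calc g = tt h a c * 1 * ((tt h a c)⁻¹ * g) := by group
          _ = tt h a c * (ww h * ww h) * ((tt h a c)⁻¹ * g) := by rw [e]
          _ = tt h a c * ww h * (ww h * (tt h a c)⁻¹ * g) := by group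
      rw [this]
      exact Subgroup.mul_mem _ (Subgroup.mul_mem _ h2 h3) h1
  · unfold stdSz
    rw [Subgroup.closure_le]
    rintro g (⟨a, ha, c, hc, hg⟩ | ⟨k, hk, hg⟩ | hg)
    · have : g = tt h a c := Subtype.ext hg
      rw [this]
      exact (tt_mem_iff h hm hF hL hS hW).2 ⟨ha, hc⟩
    · have : g = dd h k := Subtype.ext hg
      rw [this]
      obtain ⟨a, c, hac⟩ := (mem_Kset_iff h hm hF hL hS hW).2 hk
      exact hS a c k hac
    · have : g = ww h := Subtype.ext hg
      rw [this]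
      exact hW

/-- the subfield has at least four elements -/
theorem four_le_card_Rset : 4 ≤ Nat.card (Rset h L) := by
  classical
  obtain ⟨b₁, b₂, h1, h2, h12, hb₁, hb₂⟩ := hL.two
  have hb₁R := (t0_mem_iff h hm hF hL hS hW).1 hb₁
  have hb₂R := (t0_mem_iff h hm hF hL hS hW).1 hb₂
  have hsub : (({0, b₁, b₂, b₁ + b₂} : Finset F) : Set F) ⊆ (Rset h L : Set F) := by
    intro x hx
    simp only [Finset.coe_insert, Finset.coe_singleton, Set.mem_insert_iff,
      Set.mem_singleton_iff] at hx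
    rcases hx with rfl | rfl | rfl | rfl
    · exact (Rset h L).zero_mem
    · exact hb₁R
    · exact hb₂R
    · exact (Rset h L).add_mem hb₁R hb₂R
  have hcard : ({0, b₁, b₂, b₁ + b₂} : Finset F).card = 4 := by
    have n1 : b₁ + b₂ ≠ 0 := fun h0 => h12 (h.eq_of_add_eq_zero h0)
    rw [Finset.card_insert_of_notMem, Finset.card_insert_of_notMem,
      Finset.card_insert_of_notMem, Finset.card_singleton]
    · simp only [Finset.mem_singleton]
      intro e
      apply h1
      linear_combination -e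
    · simp only [Finset.mem_insert, Finset.mem_singleton, not_or]
      refine ⟨h12, ?_⟩
      intro e
      apply h2
      linear_combination -e
    · simp only [Finset.mem_insert, Finset.mem_singleton, not_or]
      exact ⟨Ne.symm h1, Ne.symm h2, Ne.symm n1⟩
  have := Set.ncard_le_ncard hsub (Set.toFinite _)
  rw [Set.ncard_coe_finset, hcard] at this
  rw [← Nat.card_coe_set_eq] at this
  exact this

end Norm

/-- the core theorem for normalised subgroups: a subgroup with two central involutions fixing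
`∞` and an element moving `∞` is conjugate to a subfield subgroup -/
theorem core (hm : 1 ≤ m) (hF : Fintype.card F = 2 ^ (2 * m + 1)) {L : Subgroup (Sz F m)}
    (hL : Hyp h L) :
    ∃ (s : Sz F m) (R : Subfield F), 4 ≤ Nat.card R ∧ cj s L = stdSz m (R : Set F) := by
  obtain ⟨x, y, hS2⟩ := exists_split h hm hF hL
  have hfix : (tt h x y)⁻¹ • (pinf : Projectivization F (Fin 4 → F)) = pinf := by
    rw [inv_smul_eq_iff, tt_smul_pinf]
  have hL2 := hL.cj h hm hF hfix
  obtain ⟨l, hW3⟩ := exists_ww_mem h hm hF hL2 hS2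
  have hL3 := hL2.cj h hm hF (dd_smul_pinf h l)
  have hS3 := hS2.cj_dd h hm hF l
  refine ⟨dd h l * (tt h x y)⁻¹, Rset h (cj (dd h l) (cj (tt h x y)⁻¹ L)),
    four_le_card_Rset h hm hF hL3 hS3 hW3, ?_⟩
  rw [← cj_cj]
  exact eq_stdSz h hm hF hL3 hS3 hW3

/-- the conjugation-invariant hypothesis: two involutions with a common fixed point which is
moved by the subgroup -/
def HypG (m : ℕ) (M : Subgroup (Sz F m)) : Prop :=
  ∃ t₁ ∈ M, ∃ t₂ ∈ M, t₁ ≠ 1 ∧ t₂ ≠ 1 ∧ t₁ ≠ t₂ ∧ t₁ * t₁ = 1 ∧ t₂ * t₂ = 1 ∧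
    ∃ p ∈ suzukiOvoid F m, t₁ • p = p ∧ t₂ • p = p ∧ ∃ g ∈ M, g • p ≠ p

theorem core' (hm : 1 ≤ m) (hF : Fintype.card F = 2 ^ (2 * m + 1)) {M : Subgroup (Sz F m)}
    (hM : HypG m M) :
    ∃ (s : Sz F m) (R : Subfield F), 4 ≤ Nat.card R ∧ cj s M = stdSz m (R : Set F) := by
  obtain ⟨t₁, ht₁M, t₂, ht₂M, ht₁1, ht₂1, h12, ht₁2, ht₂2, p, hp, hfix₁, hfix₂, g, hgM, hgp⟩ := hM
  obtain ⟨s, hs⟩ := exists_smul_eq_pinf h hp
  have key : ∀ t : Sz F m, t * t = 1 → t • p = p → ∃ b : F, s * t * s⁻¹ = t0 h b := by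
    intro t ht2 htp
    apply invol_of_fix_pinf h hm hF
    · calc s * t * s⁻¹ * (s * t * s⁻¹) = s * (t * t) * s⁻¹ := by group
        _ = 1 := by rw [ht2]; group
    · rw [mul_smul, mul_smul, ← hs, inv_smul_smul, htp]
  obtain ⟨b₁, hb₁⟩ := key t₁ ht₁2 hfix₁
  obtain ⟨b₂, hb₂⟩ := key t₂ ht₂2 hfix₂
  have hne : ∀ {t : Sz F m} {b : F}, t ≠ 1 → s * t * s⁻¹ = t0 h b → b ≠ 0 := by
    intro t b ht1 hb
    rintro rfl
    rw [t0_zero] at hb
    apply ht1
    have : t = s⁻¹ * (s * t * s⁻¹) * s := by group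
    rw [this, hb]
    group
  have hL : Hyp h (cj s M) := by
    constructor
    · refine ⟨b₁, b₂, hne ht₁1 hb₁, hne ht₂1 hb₂, ?_, ?_, ?_⟩
      · rintro rfl
        apply h12
        have e1 : t₁ = s⁻¹ * (s * t₁ * s⁻¹) * s := by group
        have e2 : t₂ = s⁻¹ * (s * t₂ * s⁻¹) * s := by group
        rw [e1, e2, hb₁, hb₂]
      · rw [← hb₁]
        exact conj_mem_cj ht₁M
      · rw [← hb₂]
        exact conj_mem_cj ht₂M
    · refine ⟨s * g * s⁻¹, conj_mem_cj hgM, ?_⟩
      intro h0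
      apply hgp
      rw [mul_smul, mul_smul, ← hs, inv_smul_smul] at h0
      exact smul_left_cancel s h0
  obtain ⟨s', R, hR, e⟩ := core h hm hF hL
  exact ⟨s' * s, R, hR, by rw [← cj_cj]; exact e⟩

end Cfsg.Agent.Lib.H2.Sz
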