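import Mathlib
import Cfsg.Prelude.Def_LieExceptional
import Cfsg.Agent.Lib.H2.Sz25

set_option autoImplicit false
set_option linter.unusedSimpArgs false
set_option linter.unusedSectionVars false

/-!
# Suzuki groups XXVI: tori as self-centralising TI subgroups, and normalisers
-/

namespace Cfsg.Agent.Lib.H2.Sz

open Matrix Cfsg Projectivization MulAction
open scoped Pointwise

variable {F : Type*} [Field F] {m : ℕ} [Fintype F] (h : Fld F m)

include h

/-- the centraliser of a conjugate of a nontrivial torus element -/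
theorem mem_centralizer_conj_D_iff (hm : 1 ≤ m) (hF : Fintype.card F = 2 ^ (2 * m + 1))
    {g u : Sz F m} {k : Fˣ} (hk : k ≠ 1) (hu : u * g * u⁻¹ = dd h k) {c : Sz F m} :
    c ∈ Subgroup.centralizer ({g} : Set (Sz F m)) ↔ ∃ l : Fˣ, u * c * u⁻¹ = dd h l := by
  rw [Subgroup.mem_centralizer_singleton_iff]
  constructor
  · intro hc
    have h1 : (u * c * u⁻¹) * dd h k = dd h k * (u * c * u⁻¹) := by
      rw [← hu]
      calc u * c * u⁻¹ * (u * g * u⁻¹) = u * (c * g) * u⁻¹ := by group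
        _ = u * (g * c) * u⁻¹ := by rw [hc]
        _ = u * g * u⁻¹ * (u * c * u⁻¹) := by group
    obtain ⟨l, hl⟩ := eq_D_of_commute_D h hm hF hk (u * c * u⁻¹).2 (congrArg Subtype.val h1)
    exact ⟨l, Subtype.ext hl⟩
  · rintro ⟨l, hl⟩
    have hg : g = u⁻¹ * dd h k * u := by rw [← hu]; group
    have hc : c = u⁻¹ * dd h l * u := by rw [← hl]; group
    rw [hg, hc]
    calc u⁻¹ * dd h l * u * (u⁻¹ * dd h k * u) = u⁻¹ * (dd h l * dd h k) * u := by group
      _ = u⁻¹ * (dd h k * dd h l) * u := by rw [← dd_mul, ← dd_mul, mul_comm]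
      _ = u⁻¹ * dd h k * u * (u⁻¹ * dd h l * u) := by group

/-- the structure of the centraliser of an element which is not a `2`-element -/
theorem centralizer_struct (hm : 1 ≤ m) (hF : Fintype.card F = 2 ^ (2 * m + 1)) {g : Sz F m}
    (h4 : g ^ 4 ≠ 1) :
    IsCyclic (Subgroup.centralizer ({g} : Set (Sz F m))) ∧
      Nat.card (Subgroup.centralizer ({g} : Set (Sz F m))) ∈
        ({2 ^ (2 * m + 1) - 1, 2 ^ (2 * m + 1) + 2 ^ (m + 1) + 1,
          2 ^ (2 * m + 1) - 2 ^ (m + 1) + 1} : Set ℕ) := by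
  have hgv4 : (g : SpecialLinearGroup (Fin 4) F) ^ 4 ≠ 1 := by
    intro h0
    apply h4
    apply Subtype.ext
    rw [Subgroup.coe_pow, h0]
    rfl
  by_cases hfpf : Fpf m (g : SpecialLinearGroup (Fin 4) F)
  · refine ⟨isCyclic_centralizer h hm hF hfpf, ?_⟩
    have hle : 2 ^ (m + 1) ≤ 2 ^ (2 * m + 1) := Nat.pow_le_pow_right (by norm_num) (by omega)
    rcases ((tori_main h hm hF).1 g hfpf).1 with e | e
    · right; left
      show cT g = _
      rw [e, pow_succ 2 m]
      ring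
    · right; right
      show cT g = _
      rw [e, pow_succ 2 m]
      rw [pow_succ 2 m] at hle
      omega
  · unfold Fpf at hfpf
    push Not at hfpf
    obtain ⟨p, hp, hfix⟩ := hfpf
    obtain ⟨u, hu, k, hk, huk⟩ := exists_conj_D h hm hF g.2 hgv4 hp hfix
    obtain ⟨c1, c2⟩ := centralizer_of_conj_D h hm hF (g := g) (u := ⟨u, hu⟩) hk huk
    exact ⟨c1, Or.inl c2⟩

/-- the centralisers of non-`2`-elements are TI -/
theorem centralizer_eq_of_mem' (hm : 1 ≤ m) (hF : Fintype.card F = 2 ^ (2 * m + 1)) {g : Sz F m}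
    (h4 : g ^ 4 ≠ 1) {y : Sz F m} (hy : y ∈ Subgroup.centralizer ({g} : Set (Sz F m)))
    (hy1 : y ≠ 1) :
    Subgroup.centralizer ({y} : Set (Sz F m)) = Subgroup.centralizer ({g} : Set (Sz F m)) := by
  have hgv4 : (g : SpecialLinearGroup (Fin 4) F) ^ 4 ≠ 1 := by
    intro h0
    apply h4
    apply Subtype.ext
    rw [Subgroup.coe_pow, h0]
    rfl
  by_cases hfpf : Fpf m (g : SpecialLinearGroup (Fin 4) F)
  · exact centralizer_eq_of_mem h hm hF hfpf hy hy1
  · unfold Fpf at hfpf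
    push Not at hfpf
    obtain ⟨p, hp, hfix⟩ := hfpf
    obtain ⟨u, hu, k, hk, huk⟩ := exists_conj_D h hm hF g.2 hgv4 hp hfix
    have huk' : (⟨u, hu⟩ : Sz F m) * g * (⟨u, hu⟩ : Sz F m)⁻¹ = dd h k := Subtype.ext huk
    obtain ⟨l₀, hl₀⟩ := (mem_centralizer_conj_D_iff h hm hF hk huk').1 hy
    have hl₀1 : l₀ ≠ 1 := by
      rintro rfl
      rw [dd_one] at hl₀
      apply hy1
      have : y = (⟨u, hu⟩ : Sz F m)⁻¹ * ((⟨u, hu⟩ : Sz F m) * y * (⟨u, hu⟩ : Sz F m)⁻¹) *
          (⟨u, hu⟩ : Sz F m) := by group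
      rw [this, hl₀]
      group
    ext c
    rw [mem_centralizer_conj_D_iff h hm hF hk huk', mem_centralizer_conj_D_iff h hm hF hl₀1 hl₀]

/-- a subgroup all of whose elements conjugate `y` into `C(y)` normalises the torus `C(y)` -/
theorem le_normalizer_centralizer (hm : 1 ≤ m) (hF : Fintype.card F = 2 ^ (2 * m + 1))
    {M : Subgroup (Sz F m)} {y : Sz F m} (h4 : y ^ 4 ≠ 1)
    (hM : ∀ x ∈ M, (x * y * x⁻¹) * y = y * (x * y * x⁻¹)) :
    M ≤ Subgroup.normalizer
      ((Subgroup.centralizer ({y} : Set (Sz F m)) : Subgroup (Sz F m)) : Set (Sz F m)) := by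
  intro x hx
  have hy1 : y ≠ 1 := by
    rintro rfl
    exact h4 (one_pow 4)
  apply TIClass.mem_normalizer_of_conj_mem _ (fun t ht ht1 => centralizer_eq_of_mem' h hm hF h4 ht ht1)
    (t := y) _ hy1
  · rw [Subgroup.mem_centralizer_singleton_iff]
    exact hM x hx
  · rw [Subgroup.mem_centralizer_singleton_iff]

end Cfsg.Agent.Lib.H2.Sz
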