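import Mathlib

set_option autoImplicit false

/-!
# Z-groups from cyclic centralisers; a normal Z-subgroup contains an element all of whose
conjugates commute with it
-/

namespace Cfsg.Agent.Lib.H2.ZGrp

open scoped commutatorElement

/-- a finite group in which the centraliser of every nontrivial element is cyclic is a Z-group -/
theorem isZGroup_of_cyclic_centralizers {H : Type*} [Group H] [Finite H]
    (hH : ∀ y : H, y ≠ 1 → IsCyclic (Subgroup.centralizer ({y} : Set H))) : IsZGroup H := by
  refine ⟨fun p hp P => ?_⟩
  have := Fact.mk hp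
  by_cases hP : Nontrivial P
  · have hc : Nontrivial (Subgroup.center P) := IsPGroup.center_nontrivial P.isPGroup'
    obtain ⟨⟨z, hz⟩, hz1⟩ := exists_ne (1 : Subgroup.center P)
    have hzH : (z : H) ≠ 1 := by
      intro h0
      apply hz1
      apply Subtype.ext
      apply Subtype.ext
      exact h0
    have hle : (P : Subgroup H) ≤ Subgroup.centralizer ({(z : H)} : Set H) := by
      intro w hw
      rw [Subgroup.mem_centralizer_singleton_iff]
      have := (Subgroup.mem_center_iff.1 hz) ⟨w, hw⟩
      exact congrArg Subtype.val this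
    have := hH (z : H) hzH
    exact Subgroup.isCyclic_of_le hle
  · rw [not_nontrivial_iff_subsingleton] at hP
    infer_instance

/-- a nontrivial normal Z-subgroup contains a nontrivial element commuting with all its conjugates -/
theorem exists_comm_conj {H : Type*} [Group H] (K : Subgroup H) [K.Normal] [Finite K] [IsZGroup K]
    (hK : K ≠ ⊥) : ∃ y ∈ K, y ≠ 1 ∧ ∀ x : H, (x * y * x⁻¹) * y = y * (x * y * x⁻¹) := by
  have hcyc : IsCyclic (commutator K) := IsZGroup.isCyclic_commutator K
  by_cases hC : commutator K = ⊥
  · have hcomm : ∀ a b : K, a * b = b * a := by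
      intro a b
      have : ⁅a, b⁆ ∈ commutator K :=
        Subgroup.commutator_mem_commutator (Subgroup.mem_top a) (Subgroup.mem_top b)
      rw [hC, Subgroup.mem_bot, commutatorElement_def] at this
      calc a * b = (a * b * a⁻¹ * b⁻¹) * (b * a) := by group
        _ = b * a := by rw [this, one_mul]
    obtain ⟨y, hy1⟩ := (Subgroup.ne_bot_iff_exists_ne_one).1 hK
    obtain ⟨y, hyK⟩ := y
    refine ⟨y, hyK, fun h0 => hy1 (Subtype.ext h0), fun x => ?_⟩
    have hx : x * y * x⁻¹ ∈ K := ‹K.Normal›.conj_mem y hyK x
    exact congrArg Subtype.val (hcomm ⟨_, hx⟩ ⟨y, hyK⟩)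
  · obtain ⟨c, hc⟩ := IsCyclic.exists_generator (α := commutator K)
    have hc1 : (c : K) ≠ 1 := by
      intro h0
      apply hC
      rw [Subgroup.eq_bot_iff_forall]
      intro z hz
      obtain ⟨n, hn⟩ := Subgroup.mem_zpowers_iff.1 (hc ⟨z, hz⟩)
      have : (c : K) ^ n = z := by
        have := congrArg Subtype.val hn
        simpa using this
      rw [← this, h0, one_zpow]
    refine ⟨((c : K) : H), (c : K).2, fun h0 => hc1 (Subtype.ext h0), fun x => ?_⟩
    -- conjugation by `x` preserves the commutator subgroup of `K`
    have hchar : (commutator K).Characteristic := inferInstance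
    have hfix := hchar.fixed (MulAut.conjNormal x : MulAut K)
    have hmem : (MulAut.conjNormal x : MulAut K) (c : K) ∈ commutator K := by
      have : (c : K) ∈ (commutator K).comap (MulAut.conjNormal x : MulAut K).toMonoidHom := by
        rw [hfix]
        exact c.2
      exact this
    obtain ⟨n, hn⟩ := Subgroup.mem_zpowers_iff.1 (hc ⟨_, hmem⟩)
    have h1 : ((c : K) : H) ^ n = x * ((c : K) : H) * x⁻¹ := by
      have := congrArg (fun z : commutator K => ((z : K) : H)) hn
      simpa [MulAut.conjNormal_apply] using this
    rw [← h1]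
    exact (Commute.zpow_self _ n)

end Cfsg.Agent.Lib.H2.ZGrp
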