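import Mathlib
import Cfsg.Prelude.Def_LieExceptional
import Cfsg.Agent.Lib.H2.Sz26
import Cfsg.Agent.Lib.H2.ZGrp
import Cfsg.Agent.Lib.H2.Sz12

set_option autoImplicit false
set_option linter.unusedSimpArgs false
set_option linter.unusedSectionVars false

/-!
# Suzuki groups XXVII: subgroups with a normal subgroup of odd order; cyclic Sylow 2-subgroups
-/

namespace Cfsg.Agent.Lib.H2.Sz

open Matrix Cfsg Projectivization MulAction
open scoped Pointwise

variable {F : Type*} [Field F] {m : ℕ} [Fintype F] (h : Fld F m)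

include h

/-- a subgroup with a nontrivial normal subgroup without involutions normalises a torus -/
theorem le_normalizer_of_odd_normal (hm : 1 ≤ m) (hF : Fintype.card F = 2 ^ (2 * m + 1))
    (M : Subgroup (Sz F m)) (K : Subgroup M) [K.Normal] (hK : K ≠ ⊥)
    (hodd : ∀ k ∈ K, k * k = 1 → k = 1) :
    ∃ U : Subgroup (Sz F m), IsCyclic U ∧
      Nat.card U ∈ ({2 ^ (2 * m + 1) - 1, 2 ^ (2 * m + 1) + 2 ^ (m + 1) + 1,
        2 ^ (2 * m + 1) - 2 ^ (m + 1) + 1} : Set ℕ) ∧
      M ≤ Subgroup.normalizer (U : Set (Sz F m)) := by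
  -- nontrivial elements of `K` are not `2`-elements
  have h4 : ∀ y : M, y ∈ K → y ≠ 1 → ((y : M) : Sz F m) ^ 4 ≠ 1 := by
    intro y hy hy1 h0
    apply hy1
    have h0' : y ^ 4 = 1 := by
      apply Subtype.ext
      rw [Subgroup.coe_pow, h0]
      rfl
    have h1 : (y * y) * (y * y) = 1 := by
      rw [← h0', pow_four', mul_assoc]
    have h2 := hodd (y * y) (K.mul_mem hy hy) h1
    exact hodd y hy h2
  -- `K` is a Z-group
  have hZ : IsZGroup K := by
    apply ZGrp.isZGroup_of_cyclic_centralizers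
    intro y hy1
    have hy1' : (y : M) ≠ 1 := fun h0 => hy1 (Subtype.ext h0)
    have := (centralizer_struct h hm hF (h4 (y : M) y.2 hy1')).1
    let φ : Subgroup.centralizer ({y} : Set K) →*
        Subgroup.centralizer ({(((y : K) : M) : Sz F m)} : Set (Sz F m)) :=
      { toFun := fun z => ⟨(((z : K) : M) : Sz F m), by
          rw [Subgroup.mem_centralizer_singleton_iff]
          have := Subgroup.mem_centralizer_singleton_iff.1 z.2
          have h1 := congrArg (fun w : K => ((w : M) : Sz F m)) this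
          simpa using h1⟩
        map_one' := rfl
        map_mul' := fun a b => rfl }
    apply isCyclic_of_injective φ
    intro a b hab
    apply Subtype.ext
    apply Subtype.ext
    apply Subtype.ext
    exact congrArg (fun w : Subgroup.centralizer
      ({(((y : K) : M) : Sz F m)} : Set (Sz F m)) => (w : Sz F m)) hab
  obtain ⟨y, hyK, hy1, hcomm⟩ := ZGrp.exists_comm_conj K hK
  refine ⟨Subgroup.centralizer ({(y : Sz F m)} : Set (Sz F m)),
    (centralizer_struct h hm hF (h4 y hyK hy1)).1, (centralizer_struct h hm hF (h4 y hyK hy1)).2,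
    ?_⟩
  apply le_normalizer_centralizer h hm hF (h4 y hyK hy1)
  intro x hx
  have := hcomm ⟨x, hx⟩
  have h1 := congrArg (fun w : M => (w : Sz F m)) this
  simpa using h1

theorem tt_pow_four (a c : F) : tt h a c ^ 4 = 1 := Subtype.ext (by
  rw [Subgroup.coe_pow]
  exact T_pow_four h a c)

/-- a Sylow 2-subgroup with a unique involution fixing its point is cyclic -/
theorem sylow_cyclic_of_unique_invol (hm : 1 ≤ m) (hF : Fintype.card F = 2 ^ (2 * m + 1))
    (M : Subgroup (Sz F m)) (P : Sylow 2 M) {t : M} (htP : t ∈ P) (ht1 : t ≠ 1)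
    (ht2 : t * t = 1) {p : Projectivization F (Fin 4 → F)} (hp : p ∈ suzukiOvoid F m)
    (htp : (t : Sz F m) • p = p)
    (hU : ∀ x : M, x * x = 1 → (x : Sz F m) • p = p → x = 1 ∨ x = t) :
    IsCyclic P ∧ ∀ x : M, x ∈ P → (x : Sz F m) • p = p := by
  have : Fact (Nat.Prime 2) := ⟨Nat.prime_two⟩
  have hPG : IsPGroup 2 ((P : Subgroup M).map M.subtype) := P.isPGroup'.map M.subtype
  obtain ⟨P', hP'⟩ := hPG.exists_le_sylow
  obtain ⟨s, hs⟩ := exists_conj_TS h hm hF P'
  have key : ∀ x : M, x ∈ P → ∃ a c : F, s * (x : Sz F m) * s⁻¹ = tt h a c := by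
    intro x hx
    have h1 : (x : Sz F m) ∈ (P' : Subgroup (Sz F m)) :=
      hP' (Subgroup.mem_map_of_mem M.subtype hx)
    obtain ⟨a, c, hac⟩ := (hs _).1 h1
    exact ⟨a, c, Subtype.ext hac⟩
  have hrec : ∀ {x : Sz F m} {X : Sz F m}, s * x * s⁻¹ = X → x = s⁻¹ * X * s := by
    intro x X e
    rw [← e]
    group
  -- the fixed point is `s⁻¹ ∞`
  have hfixP' : ∀ x : M, x ∈ P →
      (x : Sz F m) • (s⁻¹ • (pinf : Projectivization F (Fin 4 → F))) = s⁻¹ • pinf := by
    intro x hx
    obtain ⟨a, c, hac⟩ := key x hx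
    rw [hrec hac, mul_smul, mul_smul, smul_inv_smul, tt_smul_pinf]
  have ht1' : (t : Sz F m) ≠ 1 := fun h0 => ht1 (Subtype.ext h0)
  have ht2' : (t : Sz F m) * (t : Sz F m) = 1 := by
    have := congrArg (fun w : M => (w : Sz F m)) ht2
    simpa using this
  have hp_eq : p = s⁻¹ • (pinf : Projectivization F (Fin 4 → F)) :=
    invol_fix_unique h hm hF ht2' ht1' hp (smul_mem_ovoid h _ pinf_mem) htp (hfixP' t htP)
  have hfixP : ∀ x : M, x ∈ P → (x : Sz F m) • p = p := by
    intro x hx
    rw [hp_eq]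
    exact hfixP' x hx
  refine ⟨?_, hfixP⟩
  -- squares
  have hsq : ∀ x : M, x ∈ P → x * x = 1 ∨ x * x = t := by
    intro x hx
    apply hU (x * x)
    · obtain ⟨a, c, hac⟩ := key x hx
      apply Subtype.ext
      have e : ((x * x * (x * x) : M) : Sz F m) = (x : Sz F m) ^ 4 := by
        rw [pow_four']
        simp [mul_assoc]
      rw [e, hrec hac]
      have e2 : (s⁻¹ * tt h a c * s) ^ 4 = s⁻¹ * (tt h a c) ^ 4 * s := by
        rw [pow_four', pow_four']
        group
      rw [e2, tt_pow_four]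
      simp
    · exact hfixP _ (P.mul_mem hx hx)
  rw [Subgroup.isCyclic_iff_exists_zpowers_eq_top]
  by_cases hB : ∃ x₁ : M, x₁ ∈ P ∧ x₁ * x₁ ≠ 1
  · obtain ⟨x₁, hx₁P, hx₁⟩ := hB
    have hx₁sq : x₁ * x₁ = t := (hsq x₁ hx₁P).resolve_left hx₁
    obtain ⟨a₁, c₁, hac₁⟩ := key x₁ hx₁P
    refine ⟨x₁, le_antisymm (Subgroup.zpowers_le.2 hx₁P) ?_⟩
    intro x hx
    have ht_mem : t ∈ Subgroup.zpowers x₁ := by
      rw [← hx₁sq, ← pow_two]
      exact Subgroup.pow_mem _ (Subgroup.mem_zpowers x₁) 2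
    by_cases hx2 : x * x = 1
    · rcases hU x hx2 (hfixP x hx) with rfl | rfl
      · exact Subgroup.one_mem _
      · exact ht_mem
    · have hxsq : x * x = t := (hsq x hx).resolve_left hx2
      obtain ⟨a, c, hac⟩ := key x hx
      -- compare the squares
      have e1 : s * ((x * x : M) : Sz F m) * s⁻¹ = t0 h (θ m a * a) := by
        rw [← tt_sq, ← hac]
        simp only [Subgroup.coe_mul]
        group
      have e2 : s * ((x₁ * x₁ : M) : Sz F m) * s⁻¹ = t0 h (θ m a₁ * a₁) := by
        rw [← tt_sq, ← hac₁]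
        simp only [Subgroup.coe_mul]
        group
      rw [hxsq] at e1
      rw [hx₁sq, e1] at e2
      have ha : a = a₁ := by
        apply mulθ_injective h
        have := t0_injective h e2
        linear_combination this
      subst ha
      -- `w = x₁⁻¹ x` is an involution or trivial
      have hwP : x₁⁻¹ * x ∈ P := P.mul_mem (P.inv_mem hx₁P) hx
      have hw : s * ((x₁⁻¹ * x : M) : Sz F m) * s⁻¹ = t0 h (c₁ + θ m a * a + c + θ m a * a) := by
        have : s * ((x₁⁻¹ * x : M) : Sz F m) * s⁻¹ =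
            (s * (x₁ : Sz F m) * s⁻¹)⁻¹ * (s * (x : Sz F m) * s⁻¹) := by
          simp only [Subgroup.coe_mul, Subgroup.coe_inv]
          group
        rw [this, hac, hac₁, tt_inv, tt_mul, t0_eq_tt]
        congr 1
        linear_combination a * h.two
      have hw2 : (x₁⁻¹ * x) * (x₁⁻¹ * x) = 1 := by
        apply Subtype.ext
        have e3 : (((x₁⁻¹ * x) * (x₁⁻¹ * x) : M) : Sz F m) =
            s⁻¹ * ((s * ((x₁⁻¹ * x : M) : Sz F m) * s⁻¹) * (s * ((x₁⁻¹ * x : M) : Sz F m) * s⁻¹)) *
              s := by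
          simp only [Subgroup.coe_mul, Subgroup.coe_inv]
          group
        rw [e3, hw, t0_mul_self]
        simp
      rcases hU _ hw2 (hfixP _ hwP) with h1 | h1
      · have : x = x₁ := by
          have : x = x₁ * (x₁⁻¹ * x) := by group
          rw [this, h1, mul_one]
        rw [this]
        exact Subgroup.mem_zpowers x₁
      · have : x = x₁ * t := by
          have : x = x₁ * (x₁⁻¹ * x) := by group
          rw [this, h1]
        rw [this]
        exact Subgroup.mul_mem _ (Subgroup.mem_zpowers x₁) ht_mem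
  · push Not at hB
    refine ⟨t, le_antisymm (Subgroup.zpowers_le.2 htP) ?_⟩
    intro x hx
    rcases hU x (hB x hx) (hfixP x hx) with rfl | rfl
    · exact Subgroup.one_mem _
    · exact Subgroup.mem_zpowers _

end Cfsg.Agent.Lib.H2.Sz
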