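import Mathlib
import Cfsg.Prelude.Def_LieExceptional
import Cfsg.Agent.Lib.H2.Sz27

set_option autoImplicit false
set_option linter.unusedSimpArgs false
set_option linter.unusedSectionVars false

/-!
# Suzuki groups XXVIII: the subgroup theorem
-/

namespace Cfsg.Agent.Lib.H2.Sz

open Matrix Cfsg Projectivization MulAction
open scoped Pointwise

variable {F : Type*} [Field F] {m : ℕ} [Fintype F] (h : Fld F m)

include h

/-- the stabiliser of a point of the ovoid normalises a Sylow 2-subgroup -/
theorem exists_sylow_normalizer (hm : 1 ≤ m) (hF : Fintype.card F = 2 ^ (2 * m + 1))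
    {p : Projectivization F (Fin 4 → F)} (hp : p ∈ suzukiOvoid F m) :
    ∃ P : Sylow 2 (Sz F m), ∀ x : Sz F m, x • p = p →
      x ∈ Subgroup.normalizer ((P : Subgroup (Sz F m)) : Set (Sz F m)) := by
  have : Fact (Nat.Prime 2) := ⟨Nat.prime_two⟩
  obtain ⟨s, hs⟩ := exists_smul_eq_pinf h hp
  refine ⟨s⁻¹ • sylowTS h hm hF, fun x hx => ?_⟩
  have h1 : s * x * s⁻¹ ∈ Subgroup.normalizer
      (((sylowTS h hm hF : Sylow 2 (Sz F m)) : Subgroup (Sz F m)) : Set (Sz F m)) := by
    rw [coe_sylowTS, normalizer_TS h hm hF, mem_stabilizer_iff, mul_smul, mul_smul, ← hs,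
      inv_smul_smul, hx]
  have h2 : (s * x * s⁻¹) • sylowTS h hm hF = sylowTS h hm hF :=
    Sylow.smul_eq_iff_mem_normalizer.2 h1
  apply Sylow.smul_eq_iff_mem_normalizer.1
  have e : x * s⁻¹ = s⁻¹ * (s * x * s⁻¹) := by group
  rw [← mul_smul, e, mul_smul, h2]

/-- the standard subgroup over the whole field is everything -/
theorem stdSz_univ (hm : 1 ≤ m) (hF : Fintype.card F = 2 ^ (2 * m + 1)) :
    stdSz m (Set.univ : Set F) = ⊤ := by
  rw [eq_top_iff]
  intro g _
  rcases bruhat h hm hF g.2 with ⟨a, b, c, hg⟩ | ⟨a, b, a', b', c, hg⟩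
  · exact TD_mem_std h (Set.mem_univ _) (Set.mem_univ _) (Set.mem_univ _) hg
  · exact TWTD_mem_std h (Set.mem_univ _) (Set.mem_univ _) (Set.mem_univ _) (Set.mem_univ _)
      (Set.mem_univ _) hg

omit h in
theorem cj_inv_cj {G : Type*} [Group G] (s : G) (L : Subgroup G) : cj s⁻¹ (cj s L) = L := by
  rw [cj_cj, inv_mul_cancel]
  ext x
  rw [mem_cj]
  simp

/-- the subgroup theorem for the Suzuki groups -/
theorem subgroup_theorem (hm : 1 ≤ m) (hF : Fintype.card F = 2 ^ (2 * m + 1))
    (M : Subgroup (Sz F m)) (hM : M ≠ ⊤) :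
    (∃ P : Sylow 2 (Sz F m),
      M ≤ Subgroup.normalizer ((P : Subgroup (Sz F m)) : Set (Sz F m))) ∨
    (∃ U : Subgroup (Sz F m), IsCyclic U ∧
      Nat.card U ∈ ({2 ^ (2 * m + 1) - 1, 2 ^ (2 * m + 1) + 2 ^ (m + 1) + 1,
        2 ^ (2 * m + 1) - 2 ^ (m + 1) + 1} : Set ℕ) ∧
      M ≤ Subgroup.normalizer (U : Set (Sz F m))) ∨
    (∃ (K : Type) (_ : Field K) (_ : Fintype K) (k : ℕ), 1 ≤ k ∧ k < m ∧
      Fintype.card K = 2 ^ (2 * k + 1) ∧ 2 * k + 1 ∣ 2 * m + 1 ∧
      ∃ S : Subgroup (Sz F m), Nonempty (S ≃* Sz K k) ∧ M ≤ S) := by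
  classical
  have : Fact (Nat.Prime 2) := ⟨Nat.prime_two⟩
  by_cases hinv : ∃ t ∈ M, t ≠ 1 ∧ t * t = 1
  · obtain ⟨t, htM, ht1, ht2⟩ := hinv
    obtain ⟨p, hp, htp⟩ := invol_exists_fix h hF ht2
    by_cases hfix : ∀ g ∈ M, g • p = p
    · left
      obtain ⟨P, hP⟩ := exists_sylow_normalizer h hm hF hp
      exact ⟨P, fun x hx => hP x (hfix x hx)⟩
    · push Not at hfix
      obtain ⟨g, hgM, hgp⟩ := hfix
      by_cases h2 : ∃ t' ∈ M, t' ≠ 1 ∧ t' ≠ t ∧ t' * t' = 1 ∧ t' • p = p
      · right; right
        obtain ⟨t', ht'M, ht'1, ht't, ht'2, ht'p⟩ := h2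
        have hG : HypG m M := ⟨t, htM, t', ht'M, ht1, ht'1, Ne.symm ht't, ht2, ht'2, p, hp, htp,
          ht'p, g, hgM, hgp⟩
        obtain ⟨s, R, hR4, hcj⟩ := core' h hm hF hG
        obtain ⟨k, hk1, hkm, hdiv, hRcard, htop⟩ := subfield_card hF R hR4
        have hklt : k < m := by
          rcases Nat.lt_or_ge k m with h0 | h0
          · exact h0
          · exfalso
            have hkm' : k = m := le_antisymm hkm h0
            have hRtop := htop hkm'
            apply hM
            have e : cj s M = ⊤ := by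
              rw [hcj, hRtop]
              exact stdSz_univ h hm hF
            rw [← cj_inv_cj s M, e]
            rw [eq_top_iff]
            intro x _
            rw [mem_cj]
            trivial
        obtain ⟨K, iK, iK', hKcard, ⟨e⟩⟩ := exists_iso_std hF R hk1 hdiv hRcard
        refine ⟨K, iK, iK', k, hk1, hklt, hKcard, hdiv, cj s⁻¹ (stdSz m (R : Set F)), ⟨?_⟩, ?_⟩
        · exact ((MulAut.conj s⁻¹).subgroupMap (stdSz m (R : Set F))).symm.trans e.symm
        · rw [← hcj, cj_inv_cj]
      · right; left
        push Not at h2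
        have hU : ∀ x : M, x * x = 1 → (x : Sz F m) • p = p → x = 1 ∨ x = ⟨t, htM⟩ := by
          intro x hx2 hxp
          by_cases hx1 : x = 1
          · exact Or.inl hx1
          · right
            by_contra hxt
            have hx1' : (x : Sz F m) ≠ 1 := fun h0 => hx1 (Subtype.ext h0)
            have hxt' : (x : Sz F m) ≠ t := fun h0 => hxt (Subtype.ext h0)
            have hx2' : (x : Sz F m) * (x : Sz F m) = 1 := by
              have := congrArg (fun w : M => (w : Sz F m)) hx2
              simpa using this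
            exact h2 (x : Sz F m) x.2 hx1' hxt' hx2' hxp
        -- a Sylow 2-subgroup of `M` containing `t`
        have htz : IsPGroup 2 (Subgroup.zpowers (⟨t, htM⟩ : M)) := by
          apply IsPGroup.of_card (n := 1)
          rw [Nat.card_zpowers, pow_one]
          apply orderOf_eq_prime
          · rw [pow_two]
            exact Subtype.ext ht2
          · exact fun h0 => ht1 (congrArg Subtype.val h0)
        obtain ⟨P, hP⟩ := htz.exists_le_sylow
        have htP : (⟨t, htM⟩ : M) ∈ P := hP (Subgroup.mem_zpowers _)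
        obtain ⟨hcyc, hfixP⟩ := sylow_cyclic_of_unique_invol h hm hF M P htP
          (fun h0 => ht1 (congrArg Subtype.val h0)) (Subtype.ext ht2) hp htp hU
        -- the normal 2-complement
        have h2dvd : 2 ∣ Nat.card M := by
          have : orderOf (⟨t, htM⟩ : M) = 2 := by
            apply orderOf_eq_prime
            · rw [pow_two]
              exact Subtype.ext ht2
            · exact fun h0 => ht1 (congrArg Subtype.val h0)
          rw [← this]
          exact orderOf_dvd_natCard _
        have hmin : (Nat.card M).minFac = 2 := (Nat.minFac_eq_two_iff _).2 h2dvd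
        have hcomp := IsCyclic.isComplement' hmin hcyc
        set K := (MonoidHom.transferSylow P (hcyc.normalizer_le_centralizer hmin)).ker with hKdef
        have hKodd : ¬ 2 ∣ Nat.card K :=
          MonoidHom.not_dvd_card_ker_transferSylow P (hcyc.normalizer_le_centralizer hmin)
        have hKne : K ≠ ⊥ := by
          intro h0
          -- then `P = ⊤` and `M` fixes `p`
          have hcard := hcomp.card_mul_card
          rw [h0, Subgroup.card_bot, one_mul] at hcard
          have hPtop : (P : Subgroup M) = ⊤ := (Subgroup.card_eq_iff_eq_top _).1 hcard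
          apply hgp
          have : (⟨g, hgM⟩ : M) ∈ (P : Subgroup M) := by rw [hPtop]; trivial
          exact hfixP ⟨g, hgM⟩ this
        have hodd : ∀ k ∈ K, k * k = 1 → k = 1 := by
          intro k hk hk2
          by_contra hk1
          apply hKodd
          have : orderOf (⟨k, hk⟩ : K) = 2 := by
            apply orderOf_eq_prime
            · rw [pow_two]
              exact Subtype.ext hk2
            · exact fun h0 => hk1 (congrArg Subtype.val h0)
          rw [← this]
          exact orderOf_dvd_natCard _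
        exact le_normalizer_of_odd_normal h hm hF M K hKne hodd
  · push Not at hinv
    by_cases hbot : M = ⊥
    · left
      refine ⟨sylowTS h hm hF, ?_⟩
      rw [hbot]
      exact bot_le
    · right; left
      have hKne : (⊤ : Subgroup M) ≠ ⊥ := by
        intro h0
        apply hbot
        rw [Subgroup.eq_bot_iff_forall]
        intro x hx
        have : (⟨x, hx⟩ : M) ∈ (⊤ : Subgroup M) := trivial
        rw [h0, Subgroup.mem_bot] at this
        exact congrArg Subtype.val this
      apply le_normalizer_of_odd_normal h hm hF M ⊤ hKne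
      intro k _ hk2
      by_contra hk1
      have hk1' : (k : Sz F m) ≠ 1 := fun h0 => hk1 (Subtype.ext h0)
      have hk2' : (k : Sz F m) * (k : Sz F m) = 1 := by
        have := congrArg (fun w : M => (w : Sz F m)) hk2
        simpa using this
      exact hinv (k : Sz F m) k.2 hk1' hk2'

end Cfsg.Agent.Lib.H2.Sz
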