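import Cfsg.Agent.Lib.H5.Sims.Defs
import Cfsg.Agent.Lib.H2.SimsR3

set_option autoImplicit false
open scoped Pointwise
open Cfsg.Agent.Lib.H5.Sims

/-!
# S3685 / S3385, piece (L2B): blueprint (8e) (helper2)

From the outcome `S.L2` of (8a)-(8d) to `P ≃ S₄` or `P ≃ S₄ × Z₂`.
-/

namespace Cfsg.Agent.Lib.H2.Sims

theorem isKleinFour_of_card_of_sq {K : Type*} [Group K] (V : Subgroup K) (hcard : Nat.card V = 4)
    (hsq : ∀ x ∈ V, x ^ 2 = 1) : IsKleinFour V := by
  refine ⟨hcard, ?_⟩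
  have hdvd : Monoid.exponent V ∣ 2 := by
    apply Monoid.exponent_dvd_of_forall_pow_eq_one
    rintro ⟨y, hy⟩
    apply Subtype.ext
    exact hsq y hy
  rcases (Nat.dvd_prime Nat.prime_two).1 hdvd with h | h
  · exfalso
    have hsub : Subsingleton V := Monoid.exp_eq_one_iff.1 h
    have : Nat.card V ≤ 1 := Finite.card_le_one_iff_subsingleton.2 hsub
    omega
  · exact h

variable {G : Type*} [Group G] [Finite G]

/-- (L2B) (8e) -/
theorem l2b (S : Setup G) (hb : S.Bent) (hL : S.Loc) (hC : S.Con) (h2 : S.L2) :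
    Nonempty (S.P ≃* Equiv.Perm (Fin 4)) ∨
      Nonempty (S.P ≃* Equiv.Perm (Fin 4) × Multiplicative (ZMod 2)) := by
  obtain ⟨hQV, W, hWV, hWn, hWcard, hsup, hinf, hYle, w, hwP, hw2, hwQ⟩ := h2
  have hP0 : S.Pj 0 = S.P := S.Pj_zero
  rw [hP0] at hWn hwP
  have hQP : S.Qj 0 ≤ S.P := by
    have := S.Qj_le 0
    rwa [hP0] at this
  have hWQ : W ≤ S.Qj 0 := by
    rw [hQV]
    exact hWV
  have hWP : W ≤ S.P := hWQ.trans hQP
  have hYV : S.Yj 0 ≤ S.Vj 0 := by
    rw [← hsup]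
    exact le_sup_left
  have hYQ : S.Yj 0 ≤ S.Qj 0 := by
    rw [hQV]
    exact hYV
  have hYP : S.Yj 0 ≤ S.P := hYQ.trans hQP
  -- subgroups of `↥S.P`
  set W' : Subgroup S.P := W.subgroupOf S.P with hW'
  set C' : Subgroup S.P := (S.Yj 0).subgroupOf S.P with hC'
  have hW'n : W'.Normal := (Subgroup.normal_subgroupOf_iff_le_normalizer hWP).2 hWn
  have hW'card : Nat.card W' = 4 := by
    rw [← hWcard]
    exact Nat.card_congr (Subgroup.subgroupOfEquivOfLe hWP).toEquiv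
  have hC'card : Nat.card C' = Nat.card (S.Yj 0) :=
    Nat.card_congr (Subgroup.subgroupOfEquivOfLe hYP).toEquiv
  have hW'exp : ∀ x ∈ W', x ^ 2 = 1 := by
    intro x hx
    apply Subtype.ext
    have := hC.V_sq 0 x (hWV (Subgroup.mem_subgroupOf.1 hx))
    simpa using this
  have hCW' : C' ⊓ W' = ⊥ := by
    rw [eq_bot_iff]
    rintro x ⟨hx1, hx2⟩
    have : (x : G) ∈ S.Yj 0 ⊓ W := ⟨Subgroup.mem_subgroupOf.1 hx1, Subgroup.mem_subgroupOf.1 hx2⟩
    rw [hinf] at this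
    exact Subgroup.mem_bot.2 (Subtype.ext (Subgroup.mem_bot.1 this))
  have hsup' : W' ⊔ C' = (S.Qj 0).subgroupOf S.P := by
    rw [hW', hC', ← Subgroup.subgroupOf_sup hWP hYP, sup_comm, hsup, hQV]
  have hC'c : C' ≤ Subgroup.center S.P := by
    intro x hx
    rw [Subgroup.mem_center_iff]
    intro g
    have hxY : (x : G) ∈ S.Yj 0 := Subgroup.mem_subgroupOf.1 hx
    have := (mem_zOf.1 hxY).2.2 (g : G) (by rw [hP0]; exact g.2)
    exact Subtype.ext this
  have hcent : Subgroup.centralizer ((W' ⊔ C' : Subgroup S.P) : Set S.P) ≤ W' ⊔ C' := by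
    rw [hsup']
    intro x hx
    rw [Subgroup.mem_subgroupOf]
    apply hC.cQ 0 x (by rw [hP0]; exact x.2)
    intro q hq
    have := Subgroup.mem_centralizer_iff.1 hx ⟨q, hQP hq⟩ (Subgroup.mem_subgroupOf.2 hq)
    exact (congrArg Subtype.val this).symm
  -- cardinalities
  have hcardQ : Nat.card (S.Qj 0) = 4 * Nat.card (S.Yj 0) := by
    have h1 : W'.relIndex (W' ⊔ C') = Nat.card C' := by
      rw [Subgroup.relIndex_sup_left, ← Subgroup.inf_relIndex_right, inf_comm, hCW',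
        Subgroup.relIndex_bot_left]
    have h2 := Subgroup.relIndex_mul_relIndex (H := ⊥) (K := W') (L := W' ⊔ C') bot_le le_sup_left
    rw [Subgroup.relIndex_bot_left, Subgroup.relIndex_bot_left, hW'card, h1, hsup', hC'card] at h2
    rw [h2]
    exact (Nat.card_congr (Subgroup.subgroupOfEquivOfLe hQP).toEquiv).symm
  have hcardP : Nat.card S.P = 6 * Nat.card (S.Qj 0) := by
    have h1 := S.card_Pj_eq 0
    rw [hP0] at h1
    have h2 := hL.cardQ 0
    omega
  have hYpos : 0 < Nat.card (S.Yj 0) := Nat.card_pos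
  rcases (by omega : Nat.card (S.Yj 0) = 1 ∨ Nat.card (S.Yj 0) = 2) with h1 | h2
  · left
    have hC'bot : C' = ⊥ := Subgroup.eq_bot_of_card_eq C' (by rw [hC'card, h1])
    rw [hC'bot, sup_bot_eq] at hcent
    exact Cfsg.Agent.Lib.H5.S4Recog.nonempty_mulEquiv_perm_four (by omega) W'
      (isKleinFour_of_card_of_sq W' hW'card hW'exp) hcent
  · right
    refine s4z2_of_card_48 (by omega) W' C' hW'card hW'exp (by rw [hC'card, h2]) hC'c hCW' hcent
      ⟨w, hwP⟩ (Subtype.ext (by simpa using hw2)) ?_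
    rw [hsup', Subgroup.mem_subgroupOf]
    exact hwQ

end Cfsg.Agent.Lib.H2.Sims
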