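import Cfsg.Agent.Lib.H2.SimsL3B
import Cfsg.Agent.Lib.H8.SimsL3C

set_option autoImplicit false
open scoped Pointwise
open Cfsg.Agent.Lib.H5.Sims

/-!
# S3685 / S3385, piece (L3B) with the exact signature of `tools/blueprints/S3685_sigs2.lean` (helper2)

`chain3_of_Y3` (interface to `Chain3`) followed by helper8's `Chain3.false` (blueprint (9d)).
-/

namespace Cfsg.Agent.Lib.H2.Sims

variable {G : Type*} [Group G] [Finite G]

/-- (L3B) (9d) -/
theorem l3b (S : Setup G) (hb : S.Bent) (hL : S.Loc) (hC : S.Con) (y : ℤ → G) (h : S.Y3 y) : False := by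
  have C := chain3_of_Y3 S hb hL hC y h
  have C' : Cfsg.Agent.Lib.H8.Sims.Chain3 S.Pj y :=
    ⟨C.selfnorm, C.canon, C.ysq, C.ycen, C.ymem, C.ynot, C.yrel, C.yne, C.idxR, C.idxL, C.selfp, C.pne,
      C.qnorm, C.t3, C.no3⟩
  exact C'.false

end Cfsg.Agent.Lib.H2.Sims
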