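import Cfsg.Agent.Lib.H14.C2Defs

/-!
# S5634 task A1 (helper2): the structure theorem `stprop_of_nt`

For `g ∈ G` and a column `l` put `u = g e_l`, `v = e_lᵀ g⁻¹`.  A monomial matrix `ν ∈ G` fixing `u`
satisfies `v ν = v` (apply `NT` to `g⁻¹ ν g`, the constant is `1` because `v · u = 1`).  Twisted even
permutations of the support of `u` then show that `u_k v_k` is constant on the support of `u`.
-/

set_option autoImplicit false
set_option linter.unusedSectionVars false
set_option linter.unusedVariables false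

namespace Cfsg.Agent.Lib.H2.C2

open Matrix Cfsg.Agent.Lib.H14.C2

variable {ι : Type} [Fintype ι] [DecidableEq ι] {F : Type*} [Field F]

/-- Claim 0: a member of `G` fixing the column `u = g e_l` fixes the row `v = e_lᵀ g⁻¹`. -/
theorem row_fixed_of_col_fixed {G : Subgroup (GL ι F)} (hNT : NT G) {g ν : GL ι F} (hg : g ∈ G)
    (hν : ν ∈ G) (l : ι)
    (hfix : (ν : Matrix ι ι F) *ᵥ (fun k => (g : Matrix ι ι F) k l) =
      fun k => (g : Matrix ι ι F) k l) :
    (fun k => ((g⁻¹ : GL ι F) : Matrix ι ι F) l k) ᵥ* (ν : Matrix ι ι F) =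
      fun k => ((g⁻¹ : GL ι F) : Matrix ι ι F) l k := by
  have hu : (g : Matrix ι ι F) *ᵥ Pi.single l 1 = fun k => (g : Matrix ι ι F) k l := by
    rw [Matrix.mulVec_single_one]; rfl
  have hv : Pi.single l 1 ᵥ* ((g⁻¹ : GL ι F) : Matrix ι ι F) =
      fun k => ((g⁻¹ : GL ι F) : Matrix ι ι F) l k := by
    rw [Matrix.single_one_vecMul]; rfl
  have hyG : g⁻¹ * ν * g ∈ G := G.mul_mem (G.mul_mem (G.inv_mem hg) hν) hg
  have hyval : ((g⁻¹ * ν * g : GL ι F) : Matrix ι ι F) =
      ((g⁻¹ : GL ι F) : Matrix ι ι F) * (ν : Matrix ι ι F) * (g : Matrix ι ι F) := by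
    rw [Units.val_mul, Units.val_mul]
  have hcolv : ((g⁻¹ * ν * g : GL ι F) : Matrix ι ι F) *ᵥ Pi.single l 1 = Pi.single l 1 := by
    rw [hyval, ← Matrix.mulVec_mulVec, ← Matrix.mulVec_mulVec, hu, hfix, ← hu, Matrix.mulVec_mulVec,
      ← Units.val_mul, inv_mul_cancel, Units.val_one, Matrix.one_mulVec]
  have hcol : ∀ j, ((g⁻¹ * ν * g : GL ι F) : Matrix ι ι F) j l = (Pi.single l 1 : ι → F) j := by
    intro j
    have := congrFun hcolv j
    rw [Matrix.mulVec_single_one] at this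
    exact this
  have hrow0 : ∀ j, j ≠ l → ((g⁻¹ * ν * g : GL ι F) : Matrix ι ι F) l j = 0 := by
    apply (hNT _ hyG l).1
    intro j hj
    rw [hcol j, Pi.single_eq_of_ne hj]
  have hrowv : Pi.single l 1 ᵥ* ((g⁻¹ * ν * g : GL ι F) : Matrix ι ι F) = Pi.single l 1 := by
    rw [Matrix.single_one_vecMul]
    funext j
    by_cases hj : j = l
    · subst hj
      show ((g⁻¹ * ν * g : GL ι F) : Matrix ι ι F) j j = _
      rw [hcol j]
    · show ((g⁻¹ * ν * g : GL ι F) : Matrix ι ι F) l j = _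
      rw [hrow0 j hj, Pi.single_eq_of_ne hj]
  rw [hyval, ← Matrix.vecMul_vecMul, ← Matrix.vecMul_vecMul, hv] at hrowv
  calc (fun k => ((g⁻¹ : GL ι F) : Matrix ι ι F) l k) ᵥ* (ν : Matrix ι ι F)
      = (((fun k => ((g⁻¹ : GL ι F) : Matrix ι ι F) l k) ᵥ* (ν : Matrix ι ι F)) ᵥ*
          (g : Matrix ι ι F)) ᵥ* ((g⁻¹ : GL ι F) : Matrix ι ι F) := by
        rw [Matrix.vecMul_vecMul _ (g : Matrix ι ι F), ← Units.val_mul, mul_inv_cancel,
          Units.val_one, Matrix.vecMul_one]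
    _ = Pi.single l 1 ᵥ* ((g⁻¹ : GL ι F) : Matrix ι ι F) := by rw [hrowv]
    _ = _ := hv

open Classical in
/-- the support-normalised column: `u j` if it is non-zero, `1` otherwise -/
noncomputable def wOf (u : ι → F) (j : ι) : Fˣ :=
  if h : u j ≠ 0 then Units.mk0 (u j) h else 1

theorem wOf_of_ne {u : ι → F} {j : ι} (h : u j ≠ 0) : ((wOf u j : Fˣ) : F) = u j := by
  unfold wOf
  rw [dif_pos h]
  rfl

theorem wOf_of_eq {u : ι → F} {j : ι} (h : u j = 0) : wOf u j = 1 := by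
  unfold wOf
  rw [dif_neg (not_not.2 h)]

/-- the twisted permutation matrix attached to `σ` and `u` -/
noncomputable def twist (u : ι → F) (σ : Equiv.Perm ι) : GL ι F :=
  monGL σ (fun j => wOf u (σ j) / wOf u j)

theorem det_twist (u : ι → F) (σ : Equiv.Perm ι) (hσ : Equiv.Perm.sign σ = 1) :
    ((twist u σ : GL ι F) : Matrix ι ι F).det = 1 := by
  unfold twist
  rw [det_monGL, hσ]
  have h1 : ∏ j, (((wOf u (σ j) / wOf u j : Fˣ)) : F) = ((∏ j, (wOf u (σ j) / wOf u j) : Fˣ) : F) := by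
    rw [Units.coe_prod]
  rw [h1, Finset.prod_div_distrib, Equiv.prod_comp σ (wOf u), div_self']
  simp

theorem twist_mulVec (u : ι → F) (σ : Equiv.Perm ι) (hσ : ∀ j, u j ≠ 0 ↔ u (σ j) ≠ 0) :
    ((twist u σ : GL ι F) : Matrix ι ι F) *ᵥ u = u := by
  funext i
  unfold twist
  rw [monGL_mulVec]
  have hi : σ (σ.symm i) = i := σ.apply_symm_apply i
  rw [hi]
  by_cases h : u (σ.symm i) ≠ 0
  · have h' : u i ≠ 0 := by
      have := (hσ (σ.symm i)).1 h
      rwa [hi] at this
    rw [Units.val_div_eq_div_val, wOf_of_ne h, wOf_of_ne h']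
    field_simp
  · have h0 : u (σ.symm i) = 0 := not_not.1 h
    have h' : u i = 0 := by
      by_contra hne
      have := (hσ (σ.symm i)).2 (by rw [hi]; exact hne)
      exact this h0
    rw [h0, mul_zero, h']

theorem vecMul_twist (u v : ι → F) (σ : Equiv.Perm ι) (j : ι) :
    (v ᵥ* ((twist u σ : GL ι F) : Matrix ι ι F)) j =
      v (σ j) * ((wOf u (σ j) : Fˣ) : F) / ((wOf u j : Fˣ) : F) := by
  unfold twist
  rw [monGL_val, vecMul_monMat, Units.val_div_eq_div_val, mul_div_assoc]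

theorem swap_support {u : ι → F} {a b : ι} (h : u a ≠ 0 ↔ u b ≠ 0) (j : ι) :
    u j ≠ 0 ↔ u (Equiv.swap a b j) ≠ 0 := by
  by_cases hja : j = a
  · subst hja
    rw [Equiv.swap_apply_left]
    exact h
  · by_cases hjb : j = b
    · subst hjb
      rw [Equiv.swap_apply_right]
      exact h.symm
    · rw [Equiv.swap_apply_of_ne_of_ne hja hjb]

/-- `p = u v` is constant on the support of `u` -/
theorem p_const (hn : 4 ≤ Fintype.card ι) {G : Subgroup (GL ι F)} (hG : HasMonP G) (hNT : NT G)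
    {g : GL ι F} (hg : g ∈ G) (l k₁ k₂ : ι) (h₁ : (g : Matrix ι ι F) k₁ l ≠ 0)
    (h₂ : (g : Matrix ι ι F) k₂ l ≠ 0) :
    (g : Matrix ι ι F) k₁ l * ((g⁻¹ : GL ι F) : Matrix ι ι F) l k₁ =
      (g : Matrix ι ι F) k₂ l * ((g⁻¹ : GL ι F) : Matrix ι ι F) l k₂ := by
  classical
  by_cases hk : k₁ = k₂
  · rw [hk]
  set u : ι → F := fun k => (g : Matrix ι ι F) k l with hu
  set v : ι → F := fun k => ((g⁻¹ : GL ι F) : Matrix ι ι F) l k with hv
  -- it suffices to find an even permutation preserving the support with `σ k₁ = k₂`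
  have key : ∀ σ : Equiv.Perm ι, Equiv.Perm.sign σ = 1 → (∀ j, u j ≠ 0 ↔ u (σ j) ≠ 0) →
      σ k₁ = k₂ → u k₁ * v k₁ = u k₂ * v k₂ := by
    intro σ hs hσ hσk
    have hmem : twist u σ ∈ G := hG _ (isMono_monGL σ _) (det_twist u σ hs)
    have h1 := row_fixed_of_col_fixed hNT hg hmem l (twist_mulVec u σ hσ)
    have h2 := congrFun h1 k₁
    rw [vecMul_twist, hσk, wOf_of_ne (u := u) (j := k₂) h₂, wOf_of_ne (u := u) (j := k₁) h₁] at h2
    have h3 : v k₂ * u k₂ / u k₁ = v k₁ := h2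
    have hu1 : u k₁ ≠ 0 := h₁
    field_simp at h3
    linear_combination -h3
  by_cases h3 : ∃ k₃, k₃ ≠ k₁ ∧ k₃ ≠ k₂ ∧ u k₃ ≠ 0
  · obtain ⟨k₃, h31, h32, hu3⟩ := h3
    refine key (Equiv.swap k₁ k₂ * Equiv.swap k₂ k₃) ?_ ?_ ?_
    · rw [Equiv.Perm.sign_mul, Equiv.Perm.sign_swap hk, Equiv.Perm.sign_swap (Ne.symm h32)]
      rfl
    · intro j
      rw [Equiv.Perm.mul_apply]
      exact (swap_support (u := u) (a := k₂) (b := k₃) ⟨fun _ => hu3, fun _ => h₂⟩ j).trans
        (swap_support (u := u) (a := k₁) (b := k₂) ⟨fun _ => h₂, fun _ => h₁⟩ _)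
    · rw [Equiv.Perm.mul_apply, Equiv.swap_apply_of_ne_of_ne hk (Ne.symm h31),
        Equiv.swap_apply_left]
  · push Not at h3
    -- two further indices outside `{k₁, k₂}`
    have hcard : 2 < Fintype.card ι := by omega
    obtain ⟨a, ha1, ha2⟩ : ∃ a, a ≠ k₁ ∧ a ≠ k₂ := by
      by_contra hcon
      push Not at hcon
      have : Fintype.card ι ≤ ({k₁, k₂} : Finset ι).card := by
        rw [← Finset.card_univ]
        apply Finset.card_le_card
        intro x _
        by_cases hx : x = k₁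
        · simp [hx]
        · simp [hcon x hx]
      have h2 : ({k₁, k₂} : Finset ι).card ≤ 2 := Finset.card_le_two
      omega
    obtain ⟨b, hb1, hb2, hba⟩ : ∃ b, b ≠ k₁ ∧ b ≠ k₂ ∧ b ≠ a := by
      by_contra hcon
      push Not at hcon
      have : Fintype.card ι ≤ ({k₁, k₂, a} : Finset ι).card := by
        rw [← Finset.card_univ]
        apply Finset.card_le_card
        intro x _
        by_cases hx : x = k₁
        · simp [hx]
        · by_cases hx2 : x = k₂
          · simp [hx2]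
          · simp [hcon x hx hx2]
      have h2 : ({k₁, k₂, a} : Finset ι).card ≤ 3 := Finset.card_le_three
      omega
    have hua : u a = 0 := h3 a ha1 ha2
    have hub : u b = 0 := h3 b hb1 hb2
    refine key (Equiv.swap k₁ k₂ * Equiv.swap a b) ?_ ?_ ?_
    · rw [Equiv.Perm.sign_mul, Equiv.Perm.sign_swap hk, Equiv.Perm.sign_swap (Ne.symm hba)]
      rfl
    · intro j
      rw [Equiv.Perm.mul_apply]
      exact (swap_support (u := u) (a := a) (b := b)
        ⟨fun h => absurd hua h, fun h => absurd hub h⟩ j).trans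
        (swap_support (u := u) (a := k₁) (b := k₂) ⟨fun _ => h₂, fun _ => h₁⟩ _)
    · rw [Equiv.Perm.mul_apply, Equiv.swap_apply_of_ne_of_ne (Ne.symm ha1) (Ne.symm hb1),
        Equiv.swap_apply_left]

/-- one half of the structure theorem -/
theorem stprop_half (hn : 4 ≤ Fintype.card ι) {G : Subgroup (GL ι F)} (hG : HasMonP G)
    (hNT : NT G) {g : GL ι F} (hg : g ∈ G) (k l : ι) (hkl : (g : Matrix ι ι F) k l ≠ 0) :
    ((g⁻¹ : GL ι F) : Matrix ι ι F) l k ≠ 0 ∧
      (g : Matrix ι ι F) k l * ((g⁻¹ : GL ι F) : Matrix ι ι F) l k *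
        (colWt (g : Matrix ι ι F) l : F) = 1 := by
  classical
  have hsum : ∑ j, (g : Matrix ι ι F) j l * ((g⁻¹ : GL ι F) : Matrix ι ι F) l j = 1 := by
    have h1 : (((g⁻¹ : GL ι F) : Matrix ι ι F) * (g : Matrix ι ι F)) l l = 1 := by
      rw [← Units.val_mul, inv_mul_cancel, Units.val_one, Matrix.one_apply_eq]
    rw [Matrix.mul_apply] at h1
    rw [← h1]
    exact Finset.sum_congr rfl fun j _ => mul_comm _ _
  have hprod : (g : Matrix ι ι F) k l * ((g⁻¹ : GL ι F) : Matrix ι ι F) l k *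
      (colWt (g : Matrix ι ι F) l : F) = 1 := by
    rw [← hsum]
    unfold colWt
    rw [← Finset.sum_filter_of_ne (p := fun j => (g : Matrix ι ι F) j l ≠ 0)]
    · rw [Finset.sum_congr rfl (fun j hj =>
        p_const hn hG hNT hg l j k (Finset.mem_filter.1 hj).2 hkl)]
      rw [Finset.sum_const, nsmul_eq_mul, mul_comm]
    · intro j _ hj h0
      rw [h0, zero_mul] at hj
      exact hj rfl
  refine ⟨?_, hprod⟩
  intro h0
  rw [h0, mul_zero, zero_mul] at hprod
  exact zero_ne_one hprod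

variable [Fintype F]

/-- **A1** (structure theorem). -/
theorem stprop_of_nt (hq : 3 ≤ Fintype.card F) (hn : 6 ≤ Fintype.card ι) (G : Subgroup (GL ι F))
    (hG : HasMonP G) (hNT : NT G) : STprop G := by
  intro g hg k l
  have hn4 : 4 ≤ Fintype.card ι := by omega
  refine ⟨⟨fun h => (stprop_half hn4 hG hNT hg k l h).1, fun h => ?_⟩,
    fun h => (stprop_half hn4 hG hNT hg k l h).2⟩
  have hg' : dualEquiv g ∈ G.map (dualEquiv : GL ι F ≃* GL ι F).toMonoidHom := ⟨g, hg, rfl⟩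
  have h1 : ((dualEquiv g : GL ι F) : Matrix ι ι F) k l ≠ 0 := by
    rw [dualEquiv_val, Matrix.transpose_apply]
    exact h
  have h2 := (stprop_half hn4 (hasMonP_map_dual hG) (nt_map_dual hNT) hg' k l h1).1
  rw [dualEquiv_inv_val, Matrix.transpose_apply] at h2
  exact h2

end Cfsg.Agent.Lib.H2.C2
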