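import Mathlib
import Cfsg.Prelude.Def_Sporadic_a

set_option autoImplicit false
set_option linter.unusedSectionVars false
open Cfsg

namespace Cfsg.Agent.Lib.H2.SRG100

open Finset

section
variable {V : Type*} [Fintype V] [DecidableEq V] (G : SimpleGraph V) [DecidableRel G.Adj]

theorem card_common (v w : V) :
    (G.neighborFinset v ∩ G.neighborFinset w).card = Fintype.card (G.commonNeighbors v w) := by
  rw [← Set.toFinset_card]
  congr 1
  ext x
  rw [Set.mem_toFinset]
  simp [SimpleGraph.commonNeighbors]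

variable {G}
variable (hG : G.IsSRGWith 100 22 0 6)
include hG

theorem deg (v : V) : (G.neighborFinset v).card = 22 := hG.regular v

theorem adj_common {v w : V} (h : G.Adj v w) : G.neighborFinset v ∩ G.neighborFinset w = ∅ := by
  rw [← Finset.card_eq_zero, card_common]
  exact hG.of_adj v w h

theorem nadj_common {v w : V} (hne : v ≠ w) (h : ¬ G.Adj v w) :
    (G.neighborFinset v ∩ G.neighborFinset w).card = 6 := by
  rw [card_common]
  exact hG.of_not_adj hne h

/-- no triangles -/
theorem no_tri {a b c : V} (h1 : G.Adj a b) (h2 : G.Adj a c) : ¬ G.Adj b c := by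
  intro h3
  have := adj_common hG h3
  have ha : a ∈ G.neighborFinset b ∩ G.neighborFinset c := by
    rw [Finset.mem_inter, SimpleGraph.mem_neighborFinset, SimpleGraph.mem_neighborFinset]
    exact ⟨h1.symm, h2.symm⟩
  rw [this] at ha
  exact Finset.notMem_empty _ ha

omit hG
variable (G) (v0 : V)

/-- the points: neighbours of `v0` -/
def N : Finset V := G.neighborFinset v0

/-- the block vertices: non-neighbours of `v0` other than `v0` -/
def M : Finset V := univ.filter (fun m => m ≠ v0 ∧ ¬ G.Adj v0 m)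

/-- the block of a vertex -/
def blk (m : V) : Finset V := G.neighborFinset m ∩ N G v0

variable {G v0}

theorem mem_N {x : V} : x ∈ N G v0 ↔ G.Adj v0 x := by
  rw [N, SimpleGraph.mem_neighborFinset]

theorem mem_M {m : V} : m ∈ M G v0 ↔ m ≠ v0 ∧ ¬ G.Adj v0 m := by
  rw [M, Finset.mem_filter]; simp

theorem mem_blk {m x : V} : x ∈ blk G v0 m ↔ G.Adj m x ∧ G.Adj v0 x := by
  rw [blk, Finset.mem_inter, SimpleGraph.mem_neighborFinset, mem_N]

theorem blk_subset (m : V) : blk G v0 m ⊆ N G v0 := Finset.inter_subset_right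

theorem v0_notMem_N : v0 ∉ N G v0 := by
  rw [mem_N]; exact G.irrefl

theorem v0_notMem_M : v0 ∉ M G v0 := by
  rw [mem_M]; tauto

theorem trichotomy (v : V) : v = v0 ∨ v ∈ N G v0 ∨ v ∈ M G v0 := by
  by_cases h0 : v = v0
  · exact Or.inl h0
  · by_cases h1 : G.Adj v0 v
    · exact Or.inr (Or.inl (mem_N.mpr h1))
    · exact Or.inr (Or.inr (mem_M.mpr ⟨h0, h1⟩))

theorem N_M_disjoint {v : V} (h1 : v ∈ N G v0) (h2 : v ∈ M G v0) : False :=
  (mem_M.mp h2).2 (mem_N.mp h1)

include hG

theorem card_N : (N G v0).card = 22 := deg hG v0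

theorem card_M : (M G v0).card = 77 := by
  have h1 : M G v0 = univ \ insert v0 (N G v0) := by
    ext m
    rw [mem_M, Finset.mem_sdiff, Finset.mem_insert, mem_N]
    simp
  rw [h1, Finset.card_sdiff_of_subset (Finset.subset_univ _), Finset.card_univ, hG.card,
    Finset.card_insert_of_notMem v0_notMem_N, card_N hG]

theorem indep {x y : V} (hx : x ∈ N G v0) (hy : y ∈ N G v0) : ¬ G.Adj x y :=
  no_tri hG (mem_N.mp hx) (mem_N.mp hy)

theorem card_blk {m : V} (hm : m ∈ M G v0) : (blk G v0 m).card = 6 := by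
  rw [mem_M] at hm
  exact nadj_common hG hm.1 (fun h => hm.2 h.symm)

/-- F1: each point lies in 21 blocks -/
theorem card_blocks_through {x : V} (hx : x ∈ N G v0) :
    ((M G v0).filter (fun m => x ∈ blk G v0 m)).card = 21 := by
  have h1 : G.neighborFinset x = insert v0 ((M G v0).filter (fun m => x ∈ blk G v0 m)) := by
    ext y
    rw [SimpleGraph.mem_neighborFinset, Finset.mem_insert, Finset.mem_filter, mem_blk]
    constructor
    · intro h
      by_cases hy0 : y = v0
      · exact Or.inl hy0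
      · right
        refine ⟨mem_M.mpr ⟨hy0, fun h' => ?_⟩, h.symm, mem_N.mp hx⟩
        exact indep hG hx (mem_N.mpr h') h
    · rintro (rfl | ⟨-, h, -⟩)
      · exact (mem_N.mp hx).symm
      · exact h.symm
  have h2 := deg hG x
  rw [h1, Finset.card_insert_of_notMem] at h2
  · omega
  · intro h
    exact v0_notMem_M (Finset.mem_filter.mp h).1

/-- F2: two points lie in 5 blocks -/
theorem card_blocks_through_two {x y : V} (hx : x ∈ N G v0) (hy : y ∈ N G v0) (hxy : x ≠ y) :
    ((M G v0).filter (fun m => x ∈ blk G v0 m ∧ y ∈ blk G v0 m)).card = 5 := by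
  have h1 : G.neighborFinset x ∩ G.neighborFinset y
      = insert v0 ((M G v0).filter (fun m => x ∈ blk G v0 m ∧ y ∈ blk G v0 m)) := by
    ext z
    rw [Finset.mem_inter, SimpleGraph.mem_neighborFinset, SimpleGraph.mem_neighborFinset,
      Finset.mem_insert, Finset.mem_filter, mem_blk, mem_blk]
    constructor
    · rintro ⟨h, h'⟩
      by_cases hz0 : z = v0
      · exact Or.inl hz0
      · right
        refine ⟨mem_M.mpr ⟨hz0, fun h'' => ?_⟩, ⟨h.symm, mem_N.mp hx⟩, ⟨h'.symm, mem_N.mp hy⟩⟩
        exact indep hG hx (mem_N.mpr h'') h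
    · rintro (rfl | ⟨-, ⟨h, -⟩, ⟨h', -⟩⟩)
      · exact ⟨(mem_N.mp hx).symm, (mem_N.mp hy).symm⟩
      · exact ⟨h.symm, h'.symm⟩
  have h2 := nadj_common hG hxy (indep hG hx hy)
  rw [h1, Finset.card_insert_of_notMem] at h2
  · omega
  · intro h
    exact v0_notMem_M (Finset.mem_filter.mp h).1

/-- F3: adjacent block vertices have disjoint blocks -/
theorem disjoint_of_adj {m m' : V} (h : G.Adj m m') : Disjoint (blk G v0 m) (blk G v0 m') := by
  rw [Finset.disjoint_iff_inter_eq_empty, ← Finset.subset_empty, ← adj_common hG h]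
  exact Finset.inter_subset_inter Finset.inter_subset_left Finset.inter_subset_left

/-- F4: a block vertex has 16 neighbours among the block vertices -/
theorem card_adj_M {m : V} (hm : m ∈ M G v0) :
    ((M G v0).filter (fun m' => G.Adj m m')).card = 16 := by
  have h1 : G.neighborFinset m = blk G v0 m ∪ (M G v0).filter (fun m' => G.Adj m m') := by
    ext y
    rw [SimpleGraph.mem_neighborFinset, Finset.mem_union, mem_blk, Finset.mem_filter]
    constructor
    · intro h
      rcases trichotomy (G := G) (v0 := v0) y with rfl | hy | hy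
      · exact absurd h.symm (mem_M.mp hm).2
      · exact Or.inl ⟨h, mem_N.mp hy⟩
      · exact Or.inr ⟨hy, h⟩
    · rintro (⟨h, -⟩ | ⟨-, h⟩) <;> exact h
  have h2 := deg hG m
  rw [h1, Finset.card_union_of_disjoint, card_blk hG hm] at h2
  · omega
  · rw [Finset.disjoint_left]
    intro y hy hy'
    exact N_M_disjoint (blk_subset m hy) (Finset.mem_filter.mp hy').1

/-- S1: sum of intersection sizes -/
theorem sum_inter {m : V} (hm : m ∈ M G v0) :
    ∑ m' ∈ (M G v0).erase m, (blk G v0 m ∩ blk G v0 m').card = 120 := by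
  have h1 : ∀ m' ∈ (M G v0).erase m, (blk G v0 m ∩ blk G v0 m').card
      = ((blk G v0 m).bipartiteAbove (fun m' x => x ∈ blk G v0 m') m').card := by
    intro m' _
    rw [Finset.bipartiteAbove, Finset.filter_mem_eq_inter]
  rw [Finset.sum_congr rfl h1, Finset.sum_card_bipartiteAbove_eq_sum_card_bipartiteBelow]
  have h2 : ∀ x ∈ blk G v0 m,
      (((M G v0).erase m).bipartiteBelow (fun m' x => x ∈ blk G v0 m') x).card = 20 := by
    intro x hx
    have h3 : ((M G v0).erase m).bipartiteBelow (fun m' x => x ∈ blk G v0 m') x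
        = ((M G v0).filter (fun m' => x ∈ blk G v0 m')).erase m := by
      rw [Finset.bipartiteBelow, Finset.filter_erase]
    rw [h3, Finset.card_erase_of_mem (Finset.mem_filter.mpr ⟨hm, hx⟩),
      card_blocks_through hG (blk_subset m hx)]
  rw [Finset.sum_congr rfl h2, Finset.sum_const, card_blk hG hm]
  rfl

omit hG in
theorem offDiag_inter (s t : Finset V) :
    (s ∩ t).offDiag = s.offDiag.filter (fun p => p.1 ∈ t ∧ p.2 ∈ t) := by
  ext p
  simp only [Finset.mem_offDiag, Finset.mem_inter, Finset.mem_filter]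
  tauto

/-- S2: sum of `i (i - 1)` -/
theorem sum_inter_sq {m : V} (hm : m ∈ M G v0) :
    ∑ m' ∈ (M G v0).erase m,
      ((blk G v0 m ∩ blk G v0 m').card * (blk G v0 m ∩ blk G v0 m').card
        - (blk G v0 m ∩ blk G v0 m').card) = 120 := by
  have h1 : ∀ m' ∈ (M G v0).erase m,
      ((blk G v0 m ∩ blk G v0 m').card * (blk G v0 m ∩ blk G v0 m').card
        - (blk G v0 m ∩ blk G v0 m').card)
      = ((blk G v0 m).offDiag.bipartiteAbove
          (fun m' p => p.1 ∈ blk G v0 m' ∧ p.2 ∈ blk G v0 m') m').card := by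
    intro m' _
    rw [Finset.bipartiteAbove, ← offDiag_inter, Finset.offDiag_card]
  rw [Finset.sum_congr rfl h1, Finset.sum_card_bipartiteAbove_eq_sum_card_bipartiteBelow]
  have h2 : ∀ p ∈ (blk G v0 m).offDiag,
      (((M G v0).erase m).bipartiteBelow
        (fun m' p => p.1 ∈ blk G v0 m' ∧ p.2 ∈ blk G v0 m') p).card = 4 := by
    intro p hp
    rw [Finset.mem_offDiag] at hp
    have h3 : ((M G v0).erase m).bipartiteBelow
          (fun m' p => p.1 ∈ blk G v0 m' ∧ p.2 ∈ blk G v0 m') p
        = ((M G v0).filter (fun m' => p.1 ∈ blk G v0 m' ∧ p.2 ∈ blk G v0 m')).erase m := by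
      rw [Finset.bipartiteBelow, Finset.filter_erase]
    rw [h3, Finset.card_erase_of_mem (Finset.mem_filter.mpr ⟨hm, hp.1, hp.2.1⟩),
      card_blocks_through_two hG (blk_subset m hp.1) (blk_subset m hp.2.1) hp.2.2]
  rw [Finset.sum_congr rfl h2, Finset.sum_const, Finset.offDiag_card, card_blk hG hm]
  rfl

/-- F5: non-adjacent block vertices have blocks meeting in exactly two points -/
theorem inter_of_nadj {m m' : V} (hm : m ∈ M G v0) (hm' : m' ∈ M G v0) (hne : m' ≠ m)
    (hna : ¬ G.Adj m m') : (blk G v0 m ∩ blk G v0 m').card = 2 := by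
  obtain ⟨i, hi⟩ : ∃ i : V → ℕ, i = fun m' => (blk G v0 m ∩ blk G v0 m').card := ⟨_, rfl⟩
  have hi_le : ∀ m', i m' ≤ 6 := by
    intro m'
    rw [hi, ← card_blk hG hm]
    exact Finset.card_le_card Finset.inter_subset_left
  have hi0 : ∀ m', G.Adj m m' → i m' = 0 := by
    intro m' h
    rw [hi]
    show (blk G v0 m ∩ blk G v0 m').card = 0
    rw [Finset.card_eq_zero, ← Finset.disjoint_iff_inter_eq_empty]
    exact disjoint_of_adj hG h
  obtain ⟨S, hS⟩ : ∃ S, S = ((M G v0).erase m).filter (fun m' => ¬ G.Adj m m') := ⟨_, rfl⟩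
  have hS_card : S.card = 60 := by
    have h1 := Finset.card_filter_add_card_filter_not (s := (M G v0).erase m)
      (fun m' => G.Adj m m')
    have h2 : ((M G v0).erase m).filter (fun m' => G.Adj m m')
        = (M G v0).filter (fun m' => G.Adj m m') := by
      rw [Finset.filter_erase, Finset.erase_eq_of_notMem]
      intro h
      exact G.irrefl (Finset.mem_filter.mp h).2
    rw [h2, card_adj_M hG hm, Finset.card_erase_of_mem hm, card_M hG, ← hS] at h1
    omega
  have hsum1 : ∑ m' ∈ S, i m' = 120 := by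
    rw [hS, Finset.sum_filter_of_ne]
    · rw [hi]; exact sum_inter hG hm
    · intro m' _ h0 hadj
      exact h0 (hi0 m' hadj)
  have hsum2 : ∑ m' ∈ S, (i m' * i m' - i m') = 120 := by
    rw [hS, Finset.sum_filter_of_ne]
    · rw [hi]; exact sum_inter_sq hG hm
    · intro m' _ h0 hadj
      apply h0
      rw [hi0 m' hadj]
      rfl
  have hle : ∀ m' ∈ S, 4 * i m' ≤ i m' * i m' + 4 := by
    intro m' _
    have := hi_le m'
    interval_cases (i m') <;> omega
  have hsumeq : ∑ m' ∈ S, 4 * i m' = ∑ m' ∈ S, (i m' * i m' + 4) := by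
    rw [← Finset.mul_sum, hsum1, Finset.sum_add_distrib, Finset.sum_const, hS_card]
    have h3 : ∑ m' ∈ S, i m' * i m' = ∑ m' ∈ S, (i m' * i m' - i m') + ∑ m' ∈ S, i m' := by
      rw [← Finset.sum_add_distrib]
      apply Finset.sum_congr rfl
      intro m' _
      exact (Nat.sub_add_cancel (Nat.le_mul_self _)).symm
    rw [h3, hsum1, hsum2]
    rfl
  have hall := (Finset.sum_eq_sum_iff_of_le hle).mp hsumeq
  have hmS : m' ∈ S := by
    rw [hS, Finset.mem_filter, Finset.mem_erase]
    exact ⟨⟨hne, hm'⟩, hna⟩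
  have h4 := hall m' hmS
  have h5 := hi_le m'
  have h6 : i m' = 2 := by
    interval_cases (i m') <;> omega
  rw [hi] at h6
  exact h6

theorem inter_le_two {m m' : V} (hm : m ∈ M G v0) (hm' : m' ∈ M G v0) (hne : m' ≠ m) :
    (blk G v0 m ∩ blk G v0 m').card ≤ 2 := by
  by_cases h : G.Adj m m'
  · have := disjoint_of_adj hG (v0 := v0) h
    rw [Finset.disjoint_iff_inter_eq_empty] at this
    rw [this]; simp
  · rw [inter_of_nadj hG hm hm' hne h]

theorem blk_inj {m m' : V} (hm : m ∈ M G v0) (hm' : m' ∈ M G v0)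
    (h : blk G v0 m = blk G v0 m') : m = m' := by
  by_contra hne
  have h1 := inter_le_two hG hm hm' (fun h => hne h.symm)
  rw [← h, Finset.inter_self, card_blk hG hm] at h1
  omega

theorem triple_unique {T : Finset V} (hT : T.card = 3) {m m' : V} (hm : m ∈ M G v0)
    (hm' : m' ∈ M G v0) (h1 : T ⊆ blk G v0 m) (h2 : T ⊆ blk G v0 m') : m = m' := by
  by_contra hne
  have h3 := inter_le_two hG hm hm' (fun h => hne h.symm)
  have h4 := Finset.card_le_card (Finset.subset_inter h1 h2)
  omega

theorem triple_exists {T : Finset V} (hT : T.card = 3) (hTN : T ⊆ N G v0) :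
    ∃ m ∈ M G v0, T ⊆ blk G v0 m := by
  have hle : ∀ T ∈ (N G v0).powersetCard 3,
      ((M G v0).bipartiteAbove (fun T m => T ⊆ blk G v0 m) T).card ≤ 1 := by
    intro T hT
    rw [Finset.mem_powersetCard] at hT
    rw [Finset.card_le_one]
    intro a ha b hb
    rw [Finset.bipartiteAbove, Finset.mem_filter] at ha hb
    exact triple_unique hG hT.2 ha.1 hb.1 ha.2 hb.2
  have hsum : ∑ T ∈ (N G v0).powersetCard 3,
      ((M G v0).bipartiteAbove (fun T m => T ⊆ blk G v0 m) T).card
      = ∑ T ∈ (N G v0).powersetCard 3, 1 := by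
    rw [Finset.sum_card_bipartiteAbove_eq_sum_card_bipartiteBelow]
    have h2 : ∀ m ∈ M G v0,
        (((N G v0).powersetCard 3).bipartiteBelow (fun T m => T ⊆ blk G v0 m) m).card = 20 := by
      intro m hm
      have h3 : ((N G v0).powersetCard 3).bipartiteBelow (fun T m => T ⊆ blk G v0 m) m
          = (blk G v0 m).powersetCard 3 := by
        ext T
        rw [Finset.bipartiteBelow, Finset.mem_filter, Finset.mem_powersetCard,
          Finset.mem_powersetCard]
        constructor
        · rintro ⟨⟨-, h⟩, h'⟩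
          exact ⟨h', h⟩
        · rintro ⟨h, h'⟩
          exact ⟨⟨h.trans (blk_subset m), h'⟩, h⟩
      rw [h3, Finset.card_powersetCard, card_blk hG hm]
      rfl
    rw [Finset.sum_congr rfl h2, Finset.sum_const, Finset.sum_const, Finset.card_powersetCard,
      card_M hG, card_N hG]
    rfl
  have hall := (Finset.sum_eq_sum_iff_of_le hle).mp hsum T
    (Finset.mem_powersetCard.mpr ⟨hTN, hT⟩)
  obtain ⟨m, hm⟩ := Finset.card_eq_one.mp hall
  have hm' : m ∈ (M G v0).bipartiteAbove (fun T m => T ⊆ blk G v0 m) T := by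
    rw [hm]; exact Finset.mem_singleton_self m
  rw [Finset.bipartiteAbove, Finset.mem_filter] at hm'
  exact ⟨m, hm'.1, hm'.2⟩

/-- adjacency among block vertices -/
theorem adj_iff_disjoint {m m' : V} (hm : m ∈ M G v0) (hm' : m' ∈ M G v0) (hne : m ≠ m') :
    G.Adj m m' ↔ Disjoint (blk G v0 m) (blk G v0 m') := by
  constructor
  · exact disjoint_of_adj hG
  · intro h
    by_contra hna
    have h1 := inter_of_nadj hG hm hm' (fun h => hne h.symm) hna
    rw [Finset.disjoint_iff_inter_eq_empty] at h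
    rw [h] at h1
    simp at h1

end

end Cfsg.Agent.Lib.H2.SRG100
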