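import Mathlib
import Cfsg.Prelude.Def_Sporadic_a
import Cfsg.Agent.Lib.H2.SRG100a

set_option autoImplicit false
set_option linter.unusedSectionVars false
set_option linter.unusedSimpArgs false
open Cfsg

namespace Cfsg.Agent.Lib.H2.SRG100

open Finset

section PBR
variable {α : Type*} (B : Set (Finset α))

theorem pbr_nn : pointBlockRel B none none ↔ False := Iff.rfl
theorem pbr_nl (a : α) : pointBlockRel B none (some (Sum.inl a)) ↔ True := Iff.rfl
theorem pbr_nr (b : B) : pointBlockRel B none (some (Sum.inr b)) ↔ False := Iff.rfl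
theorem pbr_ln (a : α) : pointBlockRel B (some (Sum.inl a)) none ↔ False := Iff.rfl
theorem pbr_ll (a a' : α) : pointBlockRel B (some (Sum.inl a)) (some (Sum.inl a')) ↔ False :=
  Iff.rfl
theorem pbr_lr (a : α) (b : B) :
    pointBlockRel B (some (Sum.inl a)) (some (Sum.inr b)) ↔ a ∈ (b : Finset α) := Iff.rfl
theorem pbr_rn (b : B) : pointBlockRel B (some (Sum.inr b)) none ↔ False := Iff.rfl
theorem pbr_rl (b : B) (a : α) : pointBlockRel B (some (Sum.inr b)) (some (Sum.inl a)) ↔ False :=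
  Iff.rfl
theorem pbr_rr (b c : B) :
    pointBlockRel B (some (Sum.inr b)) (some (Sum.inr c)) ↔
      Disjoint (b : Finset α) (c : Finset α) := Iff.rfl
theorem pbg_adj (x y : Option (α ⊕ B)) :
    (pointBlockGraph B).Adj x y ↔ x ≠ y ∧ (pointBlockRel B x y ∨ pointBlockRel B y x) := Iff.rfl

end PBR

section
variable {V : Type*} [Fintype V] [DecidableEq V] (G : SimpleGraph V) [DecidableRel G.Adj] (v0 : V)

/-- the point type -/
abbrev Pt : Type _ := {x : V // x ∈ N G v0}

/-- blocks as subsets of the point type -/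
def blkα (m : V) : Finset (Pt G v0) := (blk G v0 m).subtype (· ∈ N G v0)

/-- the block system -/
def Bsys : Set (Finset (Pt G v0)) := {b | ∃ m ∈ M G v0, blkα G v0 m = b}

variable {G v0}

theorem mem_blkα {m : V} {x : Pt G v0} : x ∈ blkα G v0 m ↔ x.1 ∈ blk G v0 m := Finset.mem_subtype

theorem blkα_map (m : V) :
    (blkα G v0 m).map (Function.Embedding.subtype _) = blk G v0 m := by
  rw [blkα, Finset.subtype_map, Finset.filter_true_of_mem]
  intro x hx
  exact blk_subset m hx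

theorem disjoint_blkα {m m' : V} :
    Disjoint (blkα G v0 m) (blkα G v0 m') ↔ Disjoint (blk G v0 m) (blk G v0 m') := by
  rw [← blkα_map m, ← blkα_map m', Finset.disjoint_map]

variable (hG : G.IsSRGWith 100 22 0 6)
include hG

theorem card_Pt : Fintype.card (Pt G v0) = 22 := by
  rw [Fintype.card_coe, card_N hG]

theorem card_blkα {m : V} (hm : m ∈ M G v0) : (blkα G v0 m).card = 6 := by
  rw [← Finset.card_map (Function.Embedding.subtype _), blkα_map, card_blk hG hm]

theorem blkα_inj {m m' : V} (hm : m ∈ M G v0) (hm' : m' ∈ M G v0)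
    (h : blkα G v0 m = blkα G v0 m') : m = m' :=
  blk_inj hG hm hm' (by rw [← blkα_map, h, blkα_map])

theorem steiner : IsSteinerSystem 3 6 (Bsys G v0) := by
  refine ⟨?_, ?_⟩
  · rintro b ⟨m, hm, rfl⟩
    exact card_blkα hG hm
  · intro s hs
    have hT : (s.map (Function.Embedding.subtype _)).card = 3 := by rw [Finset.card_map, hs]
    have hTN : s.map (Function.Embedding.subtype _) ⊆ N G v0 := by
      intro x hx
      obtain ⟨y, _, rfl⟩ := Finset.mem_map.mp hx
      exact y.2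
    obtain ⟨m, hm, hsub⟩ := triple_exists hG hT hTN
    refine ⟨blkα G v0 m, ⟨⟨m, hm, rfl⟩, ?_⟩, ?_⟩
    · intro x hx
      rw [mem_blkα]
      exact hsub (Finset.mem_map_of_mem _ hx)
    · rintro b ⟨⟨m', hm', rfl⟩, hsub'⟩
      have h2 : s.map (Function.Embedding.subtype _) ⊆ blk G v0 m' := by
        intro x hx
        obtain ⟨y, hy, rfl⟩ := Finset.mem_map.mp hx
        exact mem_blkα.mp (hsub' hy)
      rw [triple_unique hG hT hm hm' hsub h2]

omit hG
variable (G v0)

/-- the map to the vertex set of the point-block graph -/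
def toPB (v : V) : Option (Pt G v0 ⊕ Bsys G v0) :=
  if h0 : v = v0 then none
  else if hN : v ∈ N G v0 then some (Sum.inl ⟨v, hN⟩)
  else some (Sum.inr ⟨blkα G v0 v, v, mem_M.mpr ⟨h0, fun h => hN (mem_N.mpr h)⟩, rfl⟩)

/-- the relation generating adjacency -/
def R (v w : V) : Prop :=
  (v = v0 ∧ w ∈ N G v0) ∨ (v ∈ N G v0 ∧ w ∈ M G v0 ∧ v ∈ blk G v0 w) ∨
    (v ∈ M G v0 ∧ w ∈ M G v0 ∧ Disjoint (blk G v0 v) (blk G v0 w))

variable {G v0}

theorem ne_of_mem_N {v : V} (h : v ∈ N G v0) : v ≠ v0 := by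
  rintro rfl; exact v0_notMem_N h

theorem ne_of_mem_M {v : V} (h : v ∈ M G v0) : v ≠ v0 := (mem_M.mp h).1

theorem notMem_N_of_mem_M {v : V} (h : v ∈ M G v0) : v ∉ N G v0 := fun h' => N_M_disjoint h' h

theorem toPB_v0 : toPB G v0 v0 = none := by
  rw [toPB, dif_pos rfl]

theorem toPB_N {x : V} (hx : x ∈ N G v0) : toPB G v0 x = some (Sum.inl ⟨x, hx⟩) := by
  rw [toPB, dif_neg (ne_of_mem_N hx), dif_pos hx]

theorem toPB_M {m : V} (hm : m ∈ M G v0) :
    toPB G v0 m = some (Sum.inr ⟨blkα G v0 m, m, hm, rfl⟩) := by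
  rw [toPB, dif_neg (ne_of_mem_M hm), dif_neg (notMem_N_of_mem_M hm)]

theorem rel_toPB (v w : V) :
    pointBlockRel (Bsys G v0) (toPB G v0 v) (toPB G v0 w) ↔ R G v0 v w := by
  rcases trichotomy (G := G) (v0 := v0) v with rfl | hv | hv
  · rcases trichotomy (G := G) (v0 := v) w with rfl | hw | hw
    · rw [toPB_v0]
      simp [pbr_nn, pbr_nl, pbr_nr, pbr_ln, pbr_ll, pbr_lr, pbr_rn, pbr_rl, pbr_rr, R, v0_notMem_N, v0_notMem_M]
    · rw [toPB_v0, toPB_N hw]
      simp [pbr_nn, pbr_nl, pbr_nr, pbr_ln, pbr_ll, pbr_lr, pbr_rn, pbr_rl, pbr_rr, R, hw]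
    · rw [toPB_v0, toPB_M hw]
      simp [pbr_nn, pbr_nl, pbr_nr, pbr_ln, pbr_ll, pbr_lr, pbr_rn, pbr_rl, pbr_rr, R, v0_notMem_N, v0_notMem_M, notMem_N_of_mem_M hw]
  · rcases trichotomy (G := G) (v0 := v0) w with rfl | hw | hw
    · rw [toPB_v0, toPB_N hv]
      simp [pbr_nn, pbr_nl, pbr_nr, pbr_ln, pbr_ll, pbr_lr, pbr_rn, pbr_rl, pbr_rr, R, v0_notMem_N, v0_notMem_M, ne_of_mem_N hv]
    · rw [toPB_N hv, toPB_N hw]
      have h1 : w ∉ M G v0 := fun h => N_M_disjoint hw h
      have h2 : v ∉ M G v0 := fun h => N_M_disjoint hv h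
      simp [pbr_nn, pbr_nl, pbr_nr, pbr_ln, pbr_ll, pbr_lr, pbr_rn, pbr_rl, pbr_rr, R, ne_of_mem_N hv, h1, h2]
    · rw [toPB_N hv, toPB_M hw]
      have h2 : v ∉ M G v0 := fun h => N_M_disjoint hv h
      simp [pbr_nn, pbr_nl, pbr_nr, pbr_ln, pbr_ll, pbr_lr, pbr_rn, pbr_rl, pbr_rr, R, ne_of_mem_N hv, h2, hv, hw, mem_blkα]
  · rcases trichotomy (G := G) (v0 := v0) w with rfl | hw | hw
    · rw [toPB_v0, toPB_M hv]
      simp [pbr_nn, pbr_nl, pbr_nr, pbr_ln, pbr_ll, pbr_lr, pbr_rn, pbr_rl, pbr_rr, R, v0_notMem_N, v0_notMem_M, ne_of_mem_M hv, notMem_N_of_mem_M hv]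
    · rw [toPB_M hv, toPB_N hw]
      have h1 : w ∉ M G v0 := fun h => N_M_disjoint hw h
      simp [pbr_nn, pbr_nl, pbr_nr, pbr_ln, pbr_ll, pbr_lr, pbr_rn, pbr_rl, pbr_rr, R, ne_of_mem_M hv, notMem_N_of_mem_M hv, h1]
    · rw [toPB_M hv, toPB_M hw]
      simp [pbr_nn, pbr_nl, pbr_nr, pbr_ln, pbr_ll, pbr_lr, pbr_rn, pbr_rl, pbr_rr, R, ne_of_mem_M hv, notMem_N_of_mem_M hv, hv, hw, disjoint_blkα]

include hG

theorem adj_of_R {v w : V} (hne : v ≠ w) (h : R G v0 v w) : G.Adj v w := by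
  rcases h with ⟨rfl, hw⟩ | ⟨-, -, hvw⟩ | ⟨hv, hw, hd⟩
  · exact mem_N.mp hw
  · exact (mem_blk.mp hvw).1.symm
  · exact (adj_iff_disjoint hG hv hw hne).mpr hd

theorem adj_iff_R (v w : V) : G.Adj v w ↔ v ≠ w ∧ (R G v0 v w ∨ R G v0 w v) := by
  constructor
  · intro h
    refine ⟨G.ne_of_adj h, ?_⟩
    rcases trichotomy (G := G) (v0 := v0) v with rfl | hv | hv
    · exact Or.inl (Or.inl ⟨rfl, mem_N.mpr h⟩)
    · rcases trichotomy (G := G) (v0 := v0) w with rfl | hw | hw
      · exact Or.inr (Or.inl ⟨rfl, hv⟩)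
      · exact absurd h (indep hG hv hw)
      · exact Or.inl (Or.inr (Or.inl ⟨hv, hw, mem_blk.mpr ⟨h.symm, mem_N.mp hv⟩⟩))
    · rcases trichotomy (G := G) (v0 := v0) w with rfl | hw | hw
      · exact absurd h.symm (mem_M.mp hv).2
      · exact Or.inr (Or.inr (Or.inl ⟨hw, hv, mem_blk.mpr ⟨h, mem_N.mp hw⟩⟩))
      · exact Or.inl (Or.inr (Or.inr ⟨hv, hw, disjoint_of_adj hG h⟩))
  · rintro ⟨hne, h | h⟩
    · exact adj_of_R hG hne h
    · exact (adj_of_R hG hne.symm h).symm

theorem toPB_bijective : Function.Bijective (toPB G v0) := by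
  constructor
  · intro v w hvw
    rcases trichotomy (G := G) (v0 := v0) v with rfl | hv | hv
    · rcases trichotomy (G := G) (v0 := v) w with rfl | hw | hw
      · rfl
      · rw [toPB_v0, toPB_N hw] at hvw; simp at hvw
      · rw [toPB_v0, toPB_M hw] at hvw; simp at hvw
    · rcases trichotomy (G := G) (v0 := v0) w with rfl | hw | hw
      · rw [toPB_v0, toPB_N hv] at hvw; simp at hvw
      · rw [toPB_N hv, toPB_N hw] at hvw
        simpa using hvw
      · rw [toPB_N hv, toPB_M hw] at hvw; simp at hvw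
    · rcases trichotomy (G := G) (v0 := v0) w with rfl | hw | hw
      · rw [toPB_v0, toPB_M hv] at hvw; simp at hvw
      · rw [toPB_M hv, toPB_N hw] at hvw; simp at hvw
      · rw [toPB_M hv, toPB_M hw] at hvw
        have h1 : blkα G v0 v = blkα G v0 w :=
          congrArg Subtype.val (Sum.inr.inj (Option.some.inj hvw))
        exact blkα_inj hG hv hw h1
  · rintro (_ | x | ⟨b, m, hm, rfl⟩)
    · exact ⟨v0, toPB_v0⟩
    · exact ⟨x.1, by rw [toPB_N x.2]⟩
    · exact ⟨m, toPB_M hm⟩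

/-- the graph is the point-block graph of its block system -/
noncomputable def isoPB : G ≃g pointBlockGraph (Bsys G v0) where
  toEquiv := Equiv.ofBijective (toPB G v0) (toPB_bijective hG)
  map_rel_iff' := by
    intro v w
    show (pointBlockGraph (Bsys G v0)).Adj (toPB G v0 v) (toPB G v0 w) ↔ G.Adj v w
    rw [pbg_adj, rel_toPB, rel_toPB, adj_iff_R hG (v0 := v0),
      (toPB_bijective hG).1.ne_iff]

end

/-- transport of the point-block graph along an isomorphism of set systems -/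
theorem pointBlock_iso {α β : Type*} [DecidableEq β] {B : Set (Finset α)} {B' : Set (Finset β)}
    (h : SetSystemIso B B') : Nonempty (pointBlockGraph B ≃g pointBlockGraph B') := by
  obtain ⟨e, he⟩ := h
  have hmem : ∀ b : B, (b : Finset α).image e ∈ B' := by
    intro b
    rw [← he]
    exact ⟨b.1, b.2, rfl⟩
  have hbij : Function.Bijective (fun b : B => (⟨(b : Finset α).image e, hmem b⟩ : B')) := by
    constructor
    · intro b c hbc
      have h1 : (b : Finset α).image e = (c : Finset α).image e := congrArg Subtype.val hbc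
      exact Subtype.ext (Finset.image_injective e.injective h1)
    · rintro ⟨b', hb'⟩
      rw [← he] at hb'
      obtain ⟨b, hb, rfl⟩ := hb'
      exact ⟨⟨b, hb⟩, rfl⟩
  obtain ⟨eB, heB⟩ : ∃ eB : B ≃ B', ∀ b : B, ((eB b : B') : Finset β) = (b : Finset α).image e :=
    ⟨Equiv.ofBijective _ hbij, fun b => rfl⟩
  refine ⟨{ toEquiv := Equiv.optionCongr (Equiv.sumCongr e eB), map_rel_iff' := ?_ }⟩
  intro a b
  have key : ∀ a b : Option (α ⊕ B),
      pointBlockRel B' (Equiv.optionCongr (Equiv.sumCongr e eB) a)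
        (Equiv.optionCongr (Equiv.sumCongr e eB) b) ↔ pointBlockRel B a b := by
    rintro (_ | a | a) (_ | b | b)
    all_goals simp [pbr_nn, pbr_nl, pbr_nr, pbr_ln, pbr_ll, pbr_lr, pbr_rn, pbr_rl, pbr_rr, heB, Finset.disjoint_image e.injective,
      Function.Injective.mem_finset_image e.injective]
  rw [pbg_adj, pbg_adj, key,
    key, (Equiv.optionCongr (Equiv.sumCongr e eB)).injective.ne_iff]

end Cfsg.Agent.Lib.H2.SRG100
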