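/-
helper2 library (Witt designs, part 1): general lemmas on Steiner systems and set-system isomorphisms,
the concrete S(4,7,23) `hept` obtained from the octads, and the extension lemma `ext24`:
an S(5,8,24) on the 24 Golay points agreeing with the octads on blocks through `none` IS the octad system.
-/
import Mathlib
import Cfsg.Prelude.Def_Sporadic_a
import Cfsg.Agent.Lib.H28.GolayConcrete
import Cfsg.Agent.Lib.H27.SteinerSym
import Cfsg.Agent.Lib.H27.SteinerSmall

set_option autoImplicit false

namespace Cfsg.Agent.Lib.H2.Witt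

open Cfsg Cfsg.Agent.Lib.H28 Cfsg.Agent.Lib.H27

/-! ### General lemmas -/

theorem steiner_eq_of_subset {α : Type*} [DecidableEq α] {t k : ℕ} {B B' : Set (Finset α)}
    (hB : IsSteinerSystem t k B) (hB' : IsSteinerSystem t k B') (htk : t ≤ k) (h : B ⊆ B') : B = B' := by
  apply Set.Subset.antisymm h
  intro b' hb'
  have hc : b'.card = k := hB'.1 b' hb'
  obtain ⟨s, hsb, hs⟩ := Finset.exists_subset_card_eq (s := b') (n := t) (by omega)
  obtain ⟨b, ⟨hb, hsb2⟩, -⟩ := hB.2 s hs
  have : b = b' := (hB'.2 s hs).unique ⟨h hb, hsb2⟩ ⟨hb', hsb⟩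
  rw [← this]; exact hb

theorem steiner_image {α β : Type*} [DecidableEq α] [DecidableEq β] (e : α ≃ β) {t k : ℕ}
    {B : Set (Finset α)} (hB : IsSteinerSystem t k B) :
    IsSteinerSystem t k ((fun b => b.image e) '' B) := by
  refine ⟨?_, ?_⟩
  · rintro _ ⟨b, hb, rfl⟩
    rw [Finset.card_image_of_injective _ e.injective]
    exact hB.1 b hb
  · intro s hs
    have hs' : (s.image e.symm).card = t := by
      rw [Finset.card_image_of_injective _ e.symm.injective, hs]
    obtain ⟨b, ⟨hb, hsb⟩, huniq⟩ := hB.2 (s.image e.symm) hs'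
    refine ⟨b.image e, ⟨⟨b, hb, rfl⟩, ?_⟩, ?_⟩
    · intro x hx
      rw [Finset.mem_image]
      exact ⟨e.symm x, hsb (Finset.mem_image_of_mem _ hx), by simp⟩
    · rintro _ ⟨⟨c, hc, rfl⟩, hsc⟩
      have : c = b := by
        apply huniq
        refine ⟨hc, ?_⟩
        intro x hx
        rw [Finset.mem_image] at hx
        obtain ⟨y, hy, rfl⟩ := hx
        have := hsc hy
        rw [Finset.mem_image] at this
        obtain ⟨z, hz, hzy⟩ := this
        have : z = e.symm y := by rw [← hzy]; simp
        rw [← this]; exact hz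
      rw [this]

theorem iso_refl {α : Type*} [DecidableEq α] (B : Set (Finset α)) : SetSystemIso B B := by
  refine ⟨Equiv.refl α, ?_⟩
  ext b
  simp

theorem image_image_set {α β : Type*} [DecidableEq α] [DecidableEq β] (e : α ≃ β) (B : Set (Finset α)) :
    (fun b => b.image e.symm) '' ((fun b => b.image e) '' B) = B := by
  rw [Set.image_image]
  have : (fun b : Finset α => (b.image e).image e.symm) = id := by
    funext b
    rw [Finset.image_image]
    simp
  rw [this, Set.image_id]

theorem iso_symm {α β : Type*} [DecidableEq α] [DecidableEq β] {B : Set (Finset α)} {B' : Set (Finset β)}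
    (h : SetSystemIso B B') : SetSystemIso B' B := by
  obtain ⟨e, he⟩ := h
  refine ⟨e.symm, ?_⟩
  rw [← he]
  exact image_image_set e B

theorem iso_trans {α β γ : Type*} [DecidableEq α] [DecidableEq β] [DecidableEq γ] {B : Set (Finset α)}
    {B' : Set (Finset β)} {B'' : Set (Finset γ)}
    (h : SetSystemIso B B') (h' : SetSystemIso B' B'') : SetSystemIso B B'' := by
  obtain ⟨e, he⟩ := h
  obtain ⟨e', he'⟩ := h'
  refine ⟨e.trans e', ?_⟩
  rw [← he', ← he, Set.image_image]
  congr 1
  funext b
  rw [Finset.image_image]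
  rfl

/-! ### The concrete S(4,7,23) -/

/-- The heptads: subsets of `ZMod 23` which together with the extra point form an octad. -/
def hept : Set (Finset (ZMod 23)) := {b | Finset.insertNone b ∈ octads}

theorem mem_hept {b : Finset (ZMod 23)} : b ∈ hept ↔ Finset.insertNone b ∈ octads := Iff.rfl

theorem hept_steiner : IsSteinerSystem 4 7 hept := by
  have hO := octads_isSteinerSystem
  refine ⟨fun b hb => ?_, fun s hs => ?_⟩
  · have := hO.1 _ hb
    rw [Finset.card_insertNone] at this
    omega
  · obtain ⟨O, ⟨hO1, hO2⟩, hO3⟩ := hO.2 (Finset.insertNone s) (by rw [Finset.card_insertNone, hs])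
    have hn : none ∈ O := hO2 (by simp)
    refine ⟨Finset.eraseNone O, ⟨?_, ?_⟩, ?_⟩
    · show Finset.insertNone (Finset.eraseNone O) ∈ octads
      rw [Finset.insertNone_eraseNone, Finset.insert_eq_of_mem hn]
      exact hO1
    · intro x hx
      rw [Finset.mem_eraseNone]
      exact hO2 (by simp [hx])
    · rintro c ⟨hc1, hc2⟩
      have := hO3 (Finset.insertNone c) ⟨hc1, by
        intro x hx
        rw [Finset.mem_insertNone] at hx ⊢
        intro a ha
        exact hc2 (hx a ha)⟩
      rw [← this, Finset.eraseNone_insertNone]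

/-! ### Extension lemma for S(5,8,24) -/

theorem ext24 {D : Set (Finset GolayPt)} (hD : IsSteinerSystem 5 8 D)
    (h : ∀ b : Finset GolayPt, none ∈ b → (b ∈ D ↔ b ∈ octads)) : D = octads := by
  have hcardα : Fintype.card GolayPt = 24 := by decide
  apply steiner_eq_of_subset hD octads_isSteinerSystem (by norm_num)
  intro b hb
  by_cases hn : none ∈ b
  · exact (h b hn).1 hb
  · have hcard : b.card = 8 := hD.1 b hb
    obtain ⟨T, hTb, hT⟩ := Finset.exists_subset_card_eq (s := b) (n := 4) (by omega)
    have hnT : none ∉ T := fun h' => hn (hTb h')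
    obtain ⟨O, ⟨hO, hSO⟩, -⟩ := hD.2 (insert none T) (by rw [Finset.card_insert_of_notMem hnT, hT])
    have hnO : none ∈ O := hSO (Finset.mem_insert_self _ _)
    have hne : b ≠ O := fun e => hn (e ▸ hnO)
    have hTO : T ⊆ b ∩ O := by
      intro x hx
      rw [Finset.mem_inter]
      exact ⟨hTb hx, hSO (Finset.mem_insert_of_mem hx)⟩
    have hle : 4 ≤ (b ∩ O).card := by
      rw [← hT]; exact Finset.card_le_card hTO
    have h4 : (b ∩ O).card = 4 := by
      rcases s5824_inter hcardα hD hO hb hne with h0 | h2 | h4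
      · omega
      · omega
      · exact h4
    have hsd := s5824_symmDiff hcardα hD hb hO h4
    have hn' : none ∈ symmDiff b O := by
      rw [Finset.mem_symmDiff]; right; exact ⟨hnO, hn⟩
    have hO' := (h O hnO).1 hO
    have hsd' := (h _ hn').1 hsd
    obtain ⟨⟨u, hu, hu'⟩, -⟩ := hO'
    obtain ⟨⟨v, hv, hv'⟩, -⟩ := hsd'
    refine ⟨⟨u + v, golayCode.add_mem hu hv, ?_⟩, hcard⟩
    show support₂ (u + v) = b
    rw [← supp_eq_support₂, supp_add, supp_eq_support₂, supp_eq_support₂]
    have e1 : support₂ u = O := hu'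
    have e2 : support₂ v = symmDiff b O := hv'
    rw [e1, e2, symmDiff_comm b O, symmDiff_symmDiff_cancel_left]

end Cfsg.Agent.Lib.H2.Witt
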