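/-
helper2 library (Witt designs, part 2): self-duality of the concrete Golay code and the
dichotomy lemma: a word orthogonal to all octads through `none` and `some 0` lies in the code
or in its coset by the weight-2 word on these two points.
-/
import Mathlib
import Cfsg.Prelude.Def_Sporadic_a
import Cfsg.Agent.Lib.H28.M24Basic
import Cfsg.Agent.Lib.H2.Witt1

set_option autoImplicit false

namespace Cfsg.Agent.Lib.H2.Witt

open Cfsg Cfsg.Agent.Lib.H28

/-- dot product of binary words -/
def dot (v c : GolayPt → ZMod 2) : ZMod 2 := ∑ p, v p * c p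

theorem dot_add_left (u v c : GolayPt → ZMod 2) : dot (u + v) c = dot u c + dot v c := by
  unfold dot
  rw [← Finset.sum_add_distrib]
  apply Finset.sum_congr rfl
  intro p _
  rw [Pi.add_apply, add_mul]

theorem dot_add_right (v c d : GolayPt → ZMod 2) : dot v (c + d) = dot v c + dot v d := by
  unfold dot
  rw [← Finset.sum_add_distrib]
  apply Finset.sum_congr rfl
  intro p _
  rw [Pi.add_apply, mul_add]

theorem dot_smul_right (v c : GolayPt → ZMod 2) (a : ZMod 2) : dot v (a • c) = a * dot v c := by
  unfold dot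
  rw [Finset.mul_sum]
  apply Finset.sum_congr rfl
  intro p _
  rw [Pi.smul_apply, smul_eq_mul]
  ring

theorem dot_smul_left (v c : GolayPt → ZMod 2) (a : ZMod 2) : dot (a • v) c = a * dot v c := by
  unfold dot
  rw [Finset.mul_sum]
  apply Finset.sum_congr rfl
  intro p _
  rw [Pi.smul_apply, smul_eq_mul]
  ring

theorem dot_zero_right (v : GolayPt → ZMod 2) : dot v 0 = 0 := by
  unfold dot
  simp

theorem dot_sum_left {ι : Type*} (s : Finset ι) (f : ι → GolayPt → ZMod 2) (c : GolayPt → ZMod 2) :
    dot (∑ i ∈ s, f i) c = ∑ i ∈ s, dot (f i) c := by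
  classical
  induction s using Finset.induction_on with
  | empty =>
    simp [dot]
  | insert a s ha ih =>
    rw [Finset.sum_insert ha, Finset.sum_insert ha, dot_add_left, ih]

theorem code_dot {u c : GolayPt → ZMod 2} (hu : u ∈ golayCode) (hc : c ∈ golayCode) : dot u c = 0 :=
  golayCode_orth u hu c hc

/-- A second systematic basis, with pivots at the positions `12..23`. -/
def basis2 : List ℕ := [5279, 10558, 18147, 36294, 69395, 133817, 262637, 525274, 1050548, 2101096,
  4196943, 8391797]

theorem basis2_inC : basis2.all inC = true := by decide +kernel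

theorem basis2_pivot : ∀ i : Fin 12, ∀ p : GolayPt, 12 ≤ gIdx p →
    W (basis2.getD i.val 0) p = if gIdx p = 12 + i.val then 1 else 0 := by decide +kernel

theorem W_basis2_mem (i : Fin 12) : W (basis2.getD i.val 0) ∈ golayCode := by
  apply W_mem_of_inC
  have := List.all_eq_true.1 basis2_inC (basis2.getD i.val 0) (by revert i; decide +kernel)
  exact this

theorem bvec_mem (i : Fin 12) : bvec i ∈ golayCode := by
  apply W_basisMasks_mem_golayCode
  revert i; decide +kernel

theorem pt_eq_of_lt {p : GolayPt} (hp : gIdx p < 12) : p = some (((⟨gIdx p, hp⟩ : Fin 12).val : ℕ) : ZMod 23) := by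
  have h := gPt_gIdx p
  unfold gPt at h
  rw [if_neg (by omega)] at h
  exact h.symm

/-- The concrete code is self-dual. -/
theorem mem_of_orth (v : GolayPt → ZMod 2) (hv : ∀ c ∈ golayCode, dot v c = 0) : v ∈ golayCode := by
  set c0 : GolayPt → ZMod 2 := ∑ i : Fin 12, v (some ((i.val : ℕ) : ZMod 23)) • bvec i with hc0def
  have hc0 : c0 ∈ golayCode := Submodule.sum_mem _ (fun i _ => Submodule.smul_mem _ _ (bvec_mem i))
  have hr1 : ∀ c ∈ golayCode, dot (v + c0) c = 0 := by
    intro c hc
    rw [dot_add_left, hv c hc, code_dot hc0 hc, add_zero]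
  have hr0 : ∀ p, gIdx p < 12 → (v + c0) p = 0 := by
    intro p hp
    have hpe := pt_eq_of_lt hp
    have h1 : c0 p = v p := by
      rw [hc0def, Finset.sum_apply]
      rw [Finset.sum_eq_single (⟨gIdx p, hp⟩ : Fin 12)]
      · rw [Pi.smul_apply, smul_eq_mul, ← hpe]
        have := bvec_pivot ⟨gIdx p, hp⟩ ⟨gIdx p, hp⟩
        rw [← hpe, if_pos rfl] at this
        rw [this, mul_one]
      · intro i _ hi
        rw [Pi.smul_apply, smul_eq_mul]
        have := bvec_pivot i ⟨gIdx p, hp⟩
        rw [← hpe, if_neg (Ne.symm hi)] at this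
        rw [this, mul_zero]
      · intro h; exact absurd (Finset.mem_univ _) h
    rw [Pi.add_apply, h1]
    exact CharTwo.add_self_eq_zero _
  have hr2 : ∀ p, 12 ≤ gIdx p → (v + c0) p = 0 := by
    intro p hp
    have hlt := gIdx_lt p
    set i : Fin 12 := ⟨gIdx p - 12, by omega⟩ with hi
    have hd := hr1 _ (W_basis2_mem i)
    unfold dot at hd
    rw [Finset.sum_eq_single p] at hd
    · have h1 := basis2_pivot i p hp
      rw [if_pos (by rw [hi]; simp; omega)] at h1
      rw [h1, mul_one] at hd
      exact hd
    · intro q _ hq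
      by_cases hq12 : gIdx q < 12
      · rw [hr0 q hq12, zero_mul]
      · have h1 := basis2_pivot i q (by omega)
        rw [if_neg] at h1
        · rw [h1, mul_zero]
        · intro h
          apply hq
          apply gIdx_injective
          rw [h, hi]; simp; omega
    · intro h; exact absurd (Finset.mem_univ _) h
  have hz : v + c0 = 0 := by
    funext p
    rcases lt_or_ge (gIdx p) 12 with h | h
    · exact hr0 p h
    · exact hr2 p h
  have : v = c0 := by
    have h2 : v + c0 + c0 = c0 := by rw [hz, zero_add]
    rw [add_assoc, add_self', add_zero] at h2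
    exact h2
  rw [this]; exact hc0

/-! ### Octads through `none` and `some 0` -/

/-- Eleven independent octads through the points `0` and `23`. -/
def o2 : List ℕ := [8391797, 8398155, 8412681, 8421811, 8471941, 8524371, 8657159, 8922769, 9440193,
  10486557, 12587685]

/-- A codeword through `23` but not through `0`. -/
def g0 : ℕ := 8394986

def coefs2 : List ℕ := [2274, 2352, 2711, 3522, 875, 1741, 3487, 990, 1978, 3942, 1585, 3199]

theorem o2_props : o2.all (fun m => m.testBit 0 && m.testBit 23 && (popc m == 8) && inC m) = true := by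
  decide +kernel

theorem g0_props : g0.testBit 0 = false ∧ g0.testBit 23 = true ∧ inC g0 = true := by decide +kernel

theorem basis_in_gens2 : ∀ i < 12, xorL (sel (g0 :: o2) (coefs2.getD i 0)) = basisMasks.getD i 0 := by
  decide +kernel

theorem o2_spec {m : ℕ} (hm : m ∈ o2) : m.testBit 0 = true ∧ m.testBit 23 = true ∧ popc m = 8 ∧ W m ∈ golayCode := by
  have := List.all_eq_true.1 o2_props m hm
  simp only [Bool.and_eq_true, beq_iff_eq] at this
  exact ⟨this.1.1.1, this.1.1.2, this.1.2, W_mem_of_inC this.2⟩

theorem W_g0_mem : W g0 ∈ golayCode := W_mem_of_inC g0_props.2.2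

theorem W_none (m : ℕ) : W m none = if m.testBit 23 then 1 else 0 := rfl

theorem W_some_zero (m : ℕ) : W m (some 0) = if m.testBit 0 then 1 else 0 := rfl

theorem golayCode_le_span2 :
    golayCode ≤ Submodule.span (ZMod 2) (W '' {m | m ∈ g0 :: o2}) := by
  rw [golayCode_eq_span, Submodule.span_le]
  rintro w ⟨b, hb, rfl⟩
  obtain ⟨i, hi, rfl⟩ := List.getElem_of_mem hb
  have hlen : basisMasks.length = 12 := rfl
  have h1 := basis_in_gens2 i (by omega)
  rw [List.getD_eq_getElem _ _ hi] at h1
  rw [← h1]
  apply W_xorL_mem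
  intro m hm
  exact Submodule.subset_span ⟨m, mem_of_mem_sel hm, rfl⟩

theorem orth_span (v : GolayPt → ZMod 2) (h1 : ∀ m ∈ o2, dot v (W m) = 0) (h2 : dot v (W g0) = 0) :
    ∀ c ∈ Submodule.span (ZMod 2) (W '' {m | m ∈ g0 :: o2}), dot v c = 0 := by
  intro c hc'
  induction hc' using Submodule.span_induction with
  | mem x hx =>
    obtain ⟨m, hm, rfl⟩ := hx
    rcases List.mem_cons.1 hm with rfl | hm
    · exact h2
    · exact h1 m hm
  | zero => exact dot_zero_right v
  | add x y _ _ hx hy => rw [dot_add_right, hx, hy, add_zero]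
  | smul a x _ hx => rw [dot_smul_right, hx, mul_zero]

theorem orth_all (v : GolayPt → ZMod 2) (h1 : ∀ m ∈ o2, dot v (W m) = 0) (h2 : dot v (W g0) = 0) :
    ∀ c ∈ golayCode, dot v c = 0 :=
  fun c hc => orth_span v h1 h2 c (golayCode_le_span2 hc)

/-- The weight-2 word on `none` and `some 0`. -/
def uvec : GolayPt → ZMod 2 := fun p => if p = none ∨ p = some 0 then 1 else 0

theorem uvec_none : uvec none = 1 := by
  unfold uvec; rw [if_pos (Or.inl rfl)]

theorem uvec_some (x : ZMod 23) : uvec (some x) = if x = 0 then 1 else 0 := by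
  unfold uvec
  by_cases hx : x = 0
  · rw [if_pos hx, if_pos (Or.inr (by rw [hx]))]
  · rw [if_neg hx, if_neg]
    rintro (h | h)
    · exact Option.some_ne_none _ h
    · exact hx (Option.some.inj h)

theorem sum_aux (c : GolayPt → ZMod 2) :
    ∑ x : ZMod 23, (if x = 0 then 1 else 0) * c (some x) = c (some 0) := by
  rw [Finset.sum_eq_single (0 : ZMod 23)]
  · rw [if_pos rfl, one_mul]
  · intro x _ hx
    rw [if_neg hx, zero_mul]
  · intro h; exact absurd (Finset.mem_univ _) h

theorem dot_uvec (c : GolayPt → ZMod 2) : dot uvec c = c none + c (some 0) := by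
  have h1 : dot uvec c = uvec none * c none + ∑ x : ZMod 23, uvec (some x) * c (some x) :=
    Fintype.sum_option (fun p => uvec p * c p)
  simp only [uvec_none, uvec_some, one_mul, sum_aux] at h1
  exact h1

theorem zmod2_cases (a : ZMod 2) : a = 0 ∨ a = 1 := by
  revert a; decide

/-- Dichotomy: a word orthogonal to the octads of `o2` lies in the code or in its `uvec`-coset. -/
theorem dichotomy (v : GolayPt → ZMod 2) (h1 : ∀ m ∈ o2, dot v (W m) = 0) :
    v ∈ golayCode ∨ v + uvec ∈ golayCode := by
  rcases zmod2_cases (dot v (W g0)) with h | h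
  · left
    exact mem_of_orth v (orth_all v h1 h)
  · right
    apply mem_of_orth
    apply orth_all
    · intro m hm
      obtain ⟨hb0, hb23, -, -⟩ := o2_spec hm
      rw [dot_add_left, h1 m hm, dot_uvec, W_none, W_some_zero, hb0, hb23]
      decide
    · rw [dot_add_left, h, dot_uvec, W_none, W_some_zero, g0_props.1, g0_props.2.1]
      decide

end Cfsg.Agent.Lib.H2.Witt
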