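/-
helper2 library (Witt designs, part 3): extension lemma for S(4,7,23):
an S(4,7,23) on `ZMod 23` agreeing with the heptads on blocks through `0` is the heptad system or its twist
by `x ↦ -1/x`.
-/
import Mathlib
import Cfsg.Prelude.Def_Sporadic_a
import Cfsg.Agent.Lib.H28.M24Trans
import Cfsg.Agent.Lib.H2.Witt2

set_option autoImplicit false

namespace Cfsg.Agent.Lib.H2.Witt

open Cfsg Cfsg.Agent.Lib.H28 Cfsg.Agent.Lib.H27
open scoped Pointwise

theorem octads_even {O1 O2 : Finset GolayPt} (h1 : O1 ∈ octads) (h2 : O2 ∈ octads) :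
    Even (O1 ∩ O2).card := by
  obtain ⟨⟨u, hu, rfl⟩, -⟩ := h1
  obtain ⟨⟨v, hv, rfl⟩, -⟩ := h2
  rw [← supp_eq_support₂, ← supp_eq_support₂]
  exact even_inter_of_dot_eq_zero (golayCode_orth u hu v hv)

theorem mem_octads_of_code {v : GolayPt → ZMod 2} (hv : v ∈ golayCode) {b : Finset GolayPt}
    (hb : supp v = b) (hc : b.card = 8) : b ∈ octads := by
  refine ⟨⟨v, hv, ?_⟩, hc⟩
  show support₂ v = b
  rw [← supp_eq_support₂, hb]

theorem dot_ind (S : Finset GolayPt) (c : GolayPt → ZMod 2) :
    dot (ind S) c = ((S ∩ supp c).card : ZMod 2) := by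
  unfold dot
  rw [dot_eq, supp_ind]

theorem insertNone_inter {α : Type*} [DecidableEq α] (s t : Finset α) :
    Finset.insertNone s ∩ Finset.insertNone t = Finset.insertNone (s ∩ t) := by
  ext p
  cases p with
  | none => simp
  | some x => simp

/-- second family: 7-sets which together with `some 0` (and without `none`) form an octad -/
def fam2 (b : Finset (ZMod 23)) : Prop := (insert (0 : ZMod 23) b).image some ∈ octads

theorem supp_uvec : supp uvec = {none, some 0} := by
  ext p
  rw [mem_supp, Finset.mem_insert, Finset.mem_singleton]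
  unfold uvec
  by_cases h : p = none ∨ p = some 0
  · rw [if_pos h]; simp [h]
  · rw [if_neg h]; simp [h]

theorem symmDiff_aux (b : Finset (ZMod 23)) (h0 : (0 : ZMod 23) ∉ b) :
    symmDiff (Finset.insertNone b) ({none, some 0} : Finset GolayPt) = (insert (0 : ZMod 23) b).image some := by
  ext p
  cases p with
  | none => simp [Finset.mem_symmDiff]
  | some x =>
    rw [Finset.mem_symmDiff, Finset.some_mem_insertNone, Finset.mem_image]
    simp only [Finset.mem_insert, Finset.mem_singleton, reduceCtorEq, Option.some.injEq, false_or]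
    constructor
    · rintro (⟨hx, _⟩ | ⟨hx, _⟩)
      · exact ⟨x, Or.inr hx, rfl⟩
      · exact ⟨x, Or.inl hx, rfl⟩
    · rintro ⟨y, hy, rfl⟩
      rcases hy with rfl | hy
      · right; exact ⟨rfl, h0⟩
      · left; refine ⟨hy, ?_⟩
        rintro rfl; exact h0 hy

theorem card_Z23 : Fintype.card (ZMod 23) = 23 := ZMod.card 23

section core

variable {D : Set (Finset (ZMod 23))} (hD : IsSteinerSystem 4 7 D)
  (h : ∀ b : Finset (ZMod 23), (0 : ZMod 23) ∈ b → (b ∈ D ↔ b ∈ hept))

include hD h

theorem step1 {b : Finset (ZMod 23)} (hb : b ∈ D) (h0 : (0 : ZMod 23) ∉ b) : b ∈ hept ∨ fam2 b := by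
  have hcard : b.card = 7 := hD.1 b hb
  have hv : ∀ m ∈ o2, dot (ind (Finset.insertNone b)) (W m) = 0 := by
    intro m hm
    obtain ⟨hb0, hb23, hpop, hmem⟩ := o2_spec hm
    have hO : supp (W m) ∈ octads := by
      apply mem_octads_of_code hmem rfl
      rw [← hammingNorm_eq_card_supp, hammingNorm_W, hpop]
    have hnone : none ∈ supp (W m) := by
      rw [mem_supp, W_none, hb23]; decide
    have hzero : some 0 ∈ supp (W m) := by
      rw [mem_supp, W_some_zero, hb0]; decide
    set hm' := Finset.eraseNone (supp (W m)) with hm'def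
    have hins : Finset.insertNone hm' = supp (W m) := by
      rw [hm'def, Finset.insertNone_eraseNone, Finset.insert_eq_of_mem hnone]
    have hhept : hm' ∈ hept := by
      show Finset.insertNone hm' ∈ octads
      rw [hins]; exact hO
    have h0m : (0 : ZMod 23) ∈ hm' := by
      rw [hm'def, Finset.mem_eraseNone]; exact hzero
    have hDm : hm' ∈ D := (h hm' h0m).2 hhept
    have hne : hm' ≠ b := fun e => h0 (e ▸ h0m)
    have hodd := s4723_inter card_Z23 hD hb hDm hne
    rw [dot_ind, ← hins, Finset.inter_comm, insertNone_inter, Finset.card_insertNone]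
    rcases hodd with h1 | h3
    · rw [h1]; decide
    · rw [h3]; decide
  rcases dichotomy _ hv with hc | hc
  · left
    show Finset.insertNone b ∈ octads
    apply mem_octads_of_code hc (supp_ind _)
    rw [Finset.card_insertNone, hcard]
  · right
    show (insert (0 : ZMod 23) b).image some ∈ octads
    apply mem_octads_of_code hc
    · rw [supp_add, supp_ind, supp_uvec, symmDiff_aux b h0]
    · rw [Finset.card_image_of_injective _ (Option.some_injective _), Finset.card_insert_of_notMem h0, hcard]

omit hD h in
theorem step3 {b₁ b₂ : Finset (ZMod 23)} (h1 : b₁ ∈ hept) (h2 : fam2 b₂) (h01 : (0 : ZMod 23) ∉ b₁)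
    (hodd : Odd (b₁ ∩ b₂).card) : False := by
  have he := octads_even h1 h2
  have : Finset.insertNone b₁ ∩ (insert (0 : ZMod 23) b₂).image some = (b₁ ∩ b₂).image some := by
    ext p
    cases p with
    | none => simp
    | some x =>
      rw [Finset.mem_inter, Finset.some_mem_insertNone, Finset.mem_image, Finset.mem_image]
      constructor
      · rintro ⟨hx1, y, hy, hyx⟩
        have hyx' : y = x := Option.some.inj hyx
        subst hyx'
        rcases Finset.mem_insert.1 hy with rfl | hy
        · exact absurd hx1 h01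
        · exact ⟨y, Finset.mem_inter.2 ⟨hx1, hy⟩, rfl⟩
      · rintro ⟨y, hy, hyx⟩
        have hyx' : y = x := Option.some.inj hyx
        subst hyx'
        rw [Finset.mem_inter] at hy
        exact ⟨hy.1, y, Finset.mem_insert_of_mem hy.2, rfl⟩
  rw [this, Finset.card_image_of_injective _ (Option.some_injective _)] at he
  exact (Nat.not_even_iff_odd.2 hodd) he

omit h in
theorem odd_inter {b₁ b₂ : Finset (ZMod 23)} (hb1 : b₁ ∈ D) (hb2 : b₂ ∈ D) : Odd (b₁ ∩ b₂).card := by
  by_cases e : b₁ = b₂
  · subst e
    rw [Finset.inter_self, hD.1 b₁ hb1]; decide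
  · rcases s4723_inter card_Z23 hD hb2 hb1 e with h1 | h3
    · rw [h1]; decide
    · rw [h3]; decide

/-- Core dichotomy: all blocks are heptads, or all blocks missing `0` are of the second family. -/
theorem ext23_core : (∀ b ∈ D, b ∈ hept) ∨ (∀ b ∈ D, (0 : ZMod 23) ∉ b → fam2 b) := by
  by_cases hex : ∃ b ∈ D, (0 : ZMod 23) ∉ b ∧ fam2 b
  · right
    obtain ⟨b₂, hb2, h02, hf2⟩ := hex
    intro b hb h0
    rcases step1 hD h hb h0 with h1 | h1
    · exact (step3 h1 hf2 h0 (odd_inter hD hb hb2)).elim
    · exact h1
  · left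
    intro b hb
    by_cases h0 : (0 : ZMod 23) ∈ b
    · exact (h b h0).1 hb
    · rcases step1 hD h hb h0 with h1 | h1
      · exact h1
      · exact (hex ⟨b, hb, h0, h1⟩).elim

end core

/-! ### The twist -/

/-- The permutation `x ↦ -1/x` of `ZMod 23` (fixing `0`). -/
def theta : Equiv.Perm (ZMod 23) where
  toFun := fun x => -(x ^ 21)
  invFun := fun x => -(x ^ 21)
  left_inv := by decide
  right_inv := by decide

theorem theta_apply (x : ZMod 23) : theta x = -(x ^ 21) := rfl

theorem theta_zero : theta 0 = 0 := by decide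

theorem projInv_none : projInv none = some 0 := rfl

theorem projInv_some_zero : projInv (some 0) = none := by decide

theorem projInv_some {x : ZMod 23} (hx : x ≠ 0) : projInv (some x) = some (theta x) := by
  show (if x = 0 then none else some (-(x ^ 21))) = some (theta x)
  rw [if_neg hx]
  rfl

theorem projInv_smul_fam2 (b : Finset (ZMod 23)) (h0 : (0 : ZMod 23) ∉ b) :
    projInv • ((insert (0 : ZMod 23) b).image some) = Finset.insertNone (b.image theta) := by
  ext p
  rw [Finset.mem_smul_finset]
  cases p with
  | none =>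
    simp only [Finset.none_mem_insertNone, iff_true]
    exact ⟨some 0, Finset.mem_image_of_mem _ (Finset.mem_insert_self _ _), projInv_some_zero⟩
  | some y =>
    rw [Finset.some_mem_insertNone, Finset.mem_image]
    constructor
    · rintro ⟨q, hq, hqy⟩
      rw [Finset.mem_image] at hq
      obtain ⟨x, hx, rfl⟩ := hq
      rcases Finset.mem_insert.1 hx with rfl | hx
      · rw [Equiv.Perm.smul_def, projInv_some_zero] at hqy
        exact absurd hqy (by simp)
      · have hx0 : x ≠ 0 := by rintro rfl; exact h0 hx
        rw [Equiv.Perm.smul_def, projInv_some hx0] at hqy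
        exact ⟨x, hx, Option.some.inj hqy⟩
    · rintro ⟨x, hx, rfl⟩
      have hx0 : x ≠ 0 := by rintro rfl; exact h0 hx
      refine ⟨some x, Finset.mem_image_of_mem _ (Finset.mem_insert_of_mem hx), ?_⟩
      rw [Equiv.Perm.smul_def, projInv_some hx0]

theorem projInv_smul_hept (b : Finset (ZMod 23)) (h0 : (0 : ZMod 23) ∈ b) :
    projInv • (Finset.insertNone b) = Finset.insertNone (b.image theta) := by
  ext p
  rw [Finset.mem_smul_finset]
  cases p with
  | none =>
    simp only [Finset.none_mem_insertNone, iff_true]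
    exact ⟨some 0, Finset.some_mem_insertNone.2 h0, projInv_some_zero⟩
  | some y =>
    rw [Finset.some_mem_insertNone, Finset.mem_image]
    constructor
    · rintro ⟨q, hq, hqy⟩
      cases q with
      | none =>
        rw [Equiv.Perm.smul_def, projInv_none] at hqy
        refine ⟨0, h0, ?_⟩
        rw [theta_zero]; exact Option.some.inj hqy
      | some x =>
        rw [Finset.some_mem_insertNone] at hq
        by_cases hx0 : x = 0
        · subst hx0
          rw [Equiv.Perm.smul_def, projInv_some_zero] at hqy
          exact absurd hqy (by simp)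
        · rw [Equiv.Perm.smul_def, projInv_some hx0] at hqy
          exact ⟨x, hq, Option.some.inj hqy⟩
    · rintro ⟨x, hx, rfl⟩
      by_cases hx0 : x = 0
      · subst hx0
        refine ⟨none, Finset.none_mem_insertNone, ?_⟩
        rw [Equiv.Perm.smul_def, projInv_none, theta_zero]
      · refine ⟨some x, Finset.some_mem_insertNone.2 hx, ?_⟩
        rw [Equiv.Perm.smul_def, projInv_some hx0]

/-- Extension lemma for S(4,7,23). -/
theorem ext23 {D : Set (Finset (ZMod 23))} (hD : IsSteinerSystem 4 7 D)
    (h : ∀ b : Finset (ZMod 23), (0 : ZMod 23) ∈ b → (b ∈ D ↔ b ∈ hept)) :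
    D = hept ∨ (fun b => b.image theta) '' D = hept := by
  rcases ext23_core hD h with hall | hall
  · left
    exact steiner_eq_of_subset hD hept_steiner (by norm_num) hall
  · right
    apply steiner_eq_of_subset (steiner_image theta hD) hept_steiner (by norm_num)
    rintro _ ⟨b, hb, rfl⟩
    show Finset.insertNone (b.image theta) ∈ octads
    by_cases h0 : (0 : ZMod 23) ∈ b
    · rw [← projInv_smul_hept b h0]
      exact smul_mem_octads projInv_mem_M24 ((h b h0).1 hb)
    · rw [← projInv_smul_fam2 b h0]
      exact smul_mem_octads projInv_mem_M24 (hall b hb h0)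

theorem ext23_iso {D : Set (Finset (ZMod 23))} (hD : IsSteinerSystem 4 7 D)
    (h : ∀ b : Finset (ZMod 23), (0 : ZMod 23) ∈ b → (b ∈ D ↔ b ∈ hept)) : SetSystemIso D hept := by
  rcases ext23 hD h with h1 | h1
  · rw [h1]; exact iso_refl _
  · exact ⟨theta, h1⟩

end Cfsg.Agent.Lib.H2.Witt
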