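/-
helper2 library (Witt designs, part 4): uniqueness of S(4,7,23) and S(5,8,24).
-/
import Mathlib
import Cfsg.Prelude.Def_Sporadic_a
import Cfsg.Agent.Lib.H2.Witt3
import Cfsg.Agent.Lib.H2.S3622b
import Cfsg.Agent.S0351

set_option autoImplicit false

namespace Cfsg.Agent.Lib.H2.Witt

open Cfsg Cfsg.Agent.Lib.H28 Cfsg.Agent.Lib.H27

/-- The derived family at a point (in the form of statement S0351). -/
def derived {α : Type*} [DecidableEq α] (B : Set (Finset α)) (p : α) : Set (Finset {a : α // a ≠ p}) :=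
  {b' | ∃ b ∈ B, p ∈ b ∧ b' = Finset.subtype (fun a => a ≠ p) b}

theorem derived_steiner {α : Type*} [Fintype α] [DecidableEq α] {t k : ℕ} {B : Set (Finset α)}
    (hB : IsSteinerSystem (t + 1) (k + 1) B) (p : α) : IsSteinerSystem t k (derived B p) :=
  Cfsg.Agent.S0351.result hB p

theorem card_ne {α : Type*} [Fintype α] [DecidableEq α] (p : α) :
    Fintype.card {a : α // a ≠ p} = Fintype.card α - 1 := by
  rw [Fintype.card_subtype_compl, Fintype.card_subtype_eq]

/-! ### Extending a bijection of derived designs: target `β` with a point `p` -/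

section extA

variable {α β : Type*} [DecidableEq α] [DecidableEq β] (a : α) (p : β)
  (e₀ : {x : α // x ≠ a} ≃ {y : β // y ≠ p})

/-- extension of `e₀` by `a ↦ p` -/
def extA : α ≃ β :=
  (Equiv.optionSubtypeNe a).symm.trans ((Equiv.optionCongr e₀).trans (Equiv.optionSubtypeNe p))

theorem extA_self : extA a p e₀ a = p := by
  unfold extA
  simp

theorem extA_of_ne {x : α} (hx : x ≠ a) : extA a p e₀ x = (e₀ ⟨x, hx⟩ : β) := by
  unfold extA
  simp [Equiv.optionSubtypeNe_symm_of_ne hx]

theorem image_extA {c : Finset α} (ha : a ∈ c) {d : Finset β} (hp : p ∈ d)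
    (h : (Finset.subtype (fun x => x ≠ a) c).image e₀ = Finset.subtype (fun y => y ≠ p) d) :
    c.image (extA a p e₀) = d := by
  ext y
  rw [Finset.mem_image]
  by_cases hy : y = p
  · subst hy
    exact ⟨fun _ => hp, fun _ => ⟨a, ha, extA_self a _ e₀⟩⟩
  · constructor
    · rintro ⟨x, hx, rfl⟩
      have hxa : x ≠ a := by
        rintro rfl
        exact hy (extA_self _ p e₀)
      rw [extA_of_ne a p e₀ hxa]
      have : e₀ ⟨x, hxa⟩ ∈ (Finset.subtype (fun x => x ≠ a) c).image e₀ :=
        Finset.mem_image_of_mem _ (Finset.mem_subtype.2 hx)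
      rw [h, Finset.mem_subtype] at this
      exact this
    · intro hyd
      have : (⟨y, hy⟩ : {y : β // y ≠ p}) ∈ Finset.subtype (fun y => y ≠ p) d := Finset.mem_subtype.2 hyd
      rw [← h, Finset.mem_image] at this
      obtain ⟨x', hx', hx'y⟩ := this
      refine ⟨x'.1, Finset.mem_subtype.1 hx', ?_⟩
      rw [extA_of_ne a p e₀ x'.2]
      have : (⟨x'.1, x'.2⟩ : {x : α // x ≠ a}) = x' := rfl
      rw [this, hx'y]

theorem extA_spec (B : Set (Finset α)) (B' : Set (Finset β))
    (he₀ : (fun b => b.image e₀) '' derived B a = derived B' p) (b : Finset β) (hpb : p ∈ b) :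
    b ∈ (fun b => b.image (extA a p e₀)) '' B ↔ b ∈ B' := by
  constructor
  · rintro ⟨c, hc, rfl⟩
    have hac : a ∈ c := by
      rw [Finset.mem_image] at hpb
      obtain ⟨x, hx, hxp⟩ := hpb
      have : x = a := (extA a p e₀).injective (hxp.trans (extA_self a p e₀).symm)
      rw [← this]; exact hx
    have h1 : (Finset.subtype (fun x => x ≠ a) c).image e₀ ∈ derived B' p := by
      rw [← he₀]
      exact ⟨_, ⟨c, hc, hac, rfl⟩, rfl⟩
    obtain ⟨d, hd, hpd, hd'⟩ := h1
    show c.image (extA a p e₀) ∈ B'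
    rw [image_extA a p e₀ hac hpd hd']
    exact hd
  · intro hb
    have h1 : Finset.subtype (fun y => y ≠ p) b ∈ derived B' p := ⟨b, hb, hpb, rfl⟩
    rw [← he₀] at h1
    obtain ⟨c', ⟨c, hc, hac, rfl⟩, hc'⟩ := h1
    exact ⟨c, hc, image_extA a p e₀ hac hpb hc'⟩

end extA

/-! ### Uniqueness of S(4,7,23) -/

theorem iso_hept {α : Type*} [Fintype α] [DecidableEq α] (hα : Fintype.card α = 23) {B : Set (Finset α)}
    (hB : IsSteinerSystem 4 7 B) : SetSystemIso B hept := by
  obtain ⟨a⟩ : Nonempty α := Fintype.card_pos_iff.mp (by omega)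
  have h1 : IsSteinerSystem 3 6 (derived B a) := derived_steiner hB a
  have h2 : IsSteinerSystem 3 6 (derived hept (0 : ZMod 23)) := derived_steiner hept_steiner 0
  have c1 : Fintype.card {x : α // x ≠ a} = 22 := by rw [card_ne, hα]
  have c2 : Fintype.card {y : ZMod 23 // y ≠ 0} = 22 := by rw [card_ne, card_Z23]
  obtain ⟨e₀, he₀⟩ := Cfsg.Agent.Lib.H2.S3622.iso c1 c2 h1 h2
  have hD := steiner_image (extA a 0 e₀) hB
  have hspec := extA_spec a (0 : ZMod 23) e₀ B hept he₀
  exact iso_trans ⟨extA a 0 e₀, rfl⟩ (ext23_iso hD hspec)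

theorem iso_4_7_23 {α β : Type*} [Fintype α] [DecidableEq α] [Fintype β] [DecidableEq β]
    (hα : Fintype.card α = 23) (hβ : Fintype.card β = 23) {B : Set (Finset α)} {B' : Set (Finset β)}
    (hB : IsSteinerSystem 4 7 B) (hB' : IsSteinerSystem 4 7 B') : SetSystemIso B B' :=
  iso_trans (iso_hept hα hB) (iso_symm (iso_hept hβ hB'))

/-! ### Extending a bijection: target `Option γ` -/

section extO

variable {α γ : Type*} [DecidableEq α] [DecidableEq γ] (a : α) (e₀ : {x : α // x ≠ a} ≃ γ)

/-- extension of `e₀` by `a ↦ none` -/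
def extO : α ≃ Option γ :=
  (Equiv.optionSubtypeNe a).symm.trans (Equiv.optionCongr e₀)

omit [DecidableEq γ] in
theorem extO_self : extO a e₀ a = none := by
  unfold extO
  simp

omit [DecidableEq γ] in
theorem extO_of_ne {x : α} (hx : x ≠ a) : extO a e₀ x = some (e₀ ⟨x, hx⟩) := by
  unfold extO
  simp [Equiv.optionSubtypeNe_symm_of_ne hx]

theorem image_extO {c : Finset α} (ha : a ∈ c) :
    c.image (extO a e₀) = Finset.insertNone ((Finset.subtype (fun x => x ≠ a) c).image e₀) := by
  ext y
  rw [Finset.mem_image]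
  cases y with
  | none =>
    simp only [Finset.none_mem_insertNone, iff_true]
    exact ⟨a, ha, extO_self a e₀⟩
  | some z =>
    rw [Finset.some_mem_insertNone, Finset.mem_image]
    constructor
    · rintro ⟨x, hx, hxz⟩
      have hxa : x ≠ a := by
        rintro rfl
        rw [extO_self] at hxz
        exact absurd hxz (by simp)
      rw [extO_of_ne a e₀ hxa] at hxz
      exact ⟨⟨x, hxa⟩, Finset.mem_subtype.2 hx, Option.some.inj hxz⟩
    · rintro ⟨x', hx', rfl⟩
      refine ⟨x'.1, Finset.mem_subtype.1 hx', ?_⟩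
      rw [extO_of_ne a e₀ x'.2]

end extO

theorem extO_spec {α : Type*} [DecidableEq α] (a : α) (e₀ : {x : α // x ≠ a} ≃ ZMod 23)
    (B : Set (Finset α))
    (he₀ : (fun b => b.image e₀) '' derived B a = hept) (b : Finset GolayPt) (hpb : none ∈ b) :
    b ∈ (fun b => b.image (extO a e₀)) '' B ↔ b ∈ octads := by
  constructor
  · rintro ⟨c, hc, rfl⟩
    have hac : a ∈ c := by
      rw [Finset.mem_image] at hpb
      obtain ⟨x, hx, hxp⟩ := hpb
      have : x = a := (extO a e₀).injective (hxp.trans (extO_self a e₀).symm)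
      rw [← this]; exact hx
    have h1 : (Finset.subtype (fun x => x ≠ a) c).image e₀ ∈ hept := by
      rw [← he₀]
      exact ⟨_, ⟨c, hc, hac, rfl⟩, rfl⟩
    show c.image (extO a e₀) ∈ octads
    rw [image_extO a e₀ hac]
    exact h1
  · intro hb
    have h1 : Finset.eraseNone b ∈ hept := by
      show Finset.insertNone (Finset.eraseNone b) ∈ octads
      rw [Finset.insertNone_eraseNone, Finset.insert_eq_of_mem hpb]
      exact hb
    rw [← he₀] at h1
    obtain ⟨c', ⟨c, hc, hac, rfl⟩, hc'⟩ := h1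
    refine ⟨c, hc, ?_⟩
    show c.image (extO a e₀) = b
    have hc'' : (Finset.subtype (fun x => x ≠ a) c).image e₀ = Finset.eraseNone b := hc'
    rw [image_extO a e₀ hac, hc'', Finset.insertNone_eraseNone, Finset.insert_eq_of_mem hpb]

/-! ### Uniqueness of S(5,8,24) -/

theorem iso_octads {α : Type*} [Fintype α] [DecidableEq α] (hα : Fintype.card α = 24) {B : Set (Finset α)}
    (hB : IsSteinerSystem 5 8 B) : SetSystemIso B octads := by
  obtain ⟨a⟩ : Nonempty α := Fintype.card_pos_iff.mp (by omega)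
  have h1 : IsSteinerSystem 4 7 (derived B a) := derived_steiner hB a
  have c1 : Fintype.card {x : α // x ≠ a} = 23 := by rw [card_ne, hα]
  obtain ⟨e₀, he₀⟩ := iso_hept c1 h1
  have hD := steiner_image (extO a e₀) hB
  have hspec := extO_spec a e₀ B he₀
  exact ⟨extO a e₀, ext24 hD hspec⟩

theorem iso_5_8_24 {α β : Type*} [Fintype α] [DecidableEq α] [Fintype β] [DecidableEq β]
    (hα : Fintype.card α = 24) (hβ : Fintype.card β = 24) {B : Set (Finset α)} {B' : Set (Finset β)}
    (hB : IsSteinerSystem 5 8 B) (hB' : IsSteinerSystem 5 8 B') : SetSystemIso B B' :=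
  iso_trans (iso_octads hα hB) (iso_symm (iso_octads hβ hB'))

end Cfsg.Agent.Lib.H2.Witt
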