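/-
helper2 library (Witt designs, part 6): transport of automorphism groups along set-system isomorphisms,
and the automorphism group of any S(5,8,24).
-/
import Mathlib
import Cfsg.Prelude.Def_Sporadic_a
import Cfsg.Prelude.Def_Sporadic
import Cfsg.Agent.Lib.H2.Witt4
import Cfsg.Agent.Lib.H28.M24Stab
import Cfsg.Agent.Lib.H28.M24Simple

set_option autoImplicit false

namespace Cfsg.Agent.Lib.H2.Witt

open Cfsg Cfsg.Agent.Lib.H28
open scoped Pointwise

section transport

variable {α β : Type*} [DecidableEq α] [DecidableEq β]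

omit [DecidableEq α] [DecidableEq β] in
theorem permCongrHom_apply' (e : α ≃ β) (g : Equiv.Perm α) (y : β) :
    e.permCongrHom g y = e (g (e.symm y)) := rfl

theorem smul_image_eq (e : α ≃ β) (g : Equiv.Perm α) (b : Finset α) :
    (e.permCongrHom g) • (b.image e) = (g • b).image e := by
  ext y
  simp only [Finset.mem_smul_finset, Finset.mem_image]
  constructor
  · rintro ⟨_, ⟨x, hx, rfl⟩, rfl⟩
    refine ⟨g x, ⟨x, hx, rfl⟩, ?_⟩
    rw [Equiv.Perm.smul_def, permCongrHom_apply', e.symm_apply_apply]
  · rintro ⟨_, ⟨x, hx, rfl⟩, rfl⟩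
    refine ⟨e x, ⟨x, hx, rfl⟩, ?_⟩
    rw [Equiv.Perm.smul_def, permCongrHom_apply', e.symm_apply_apply]
    rfl

theorem smul_set_image (e : α ≃ β) (g : Equiv.Perm α) (B : Set (Finset α)) :
    (e.permCongrHom g) • ((fun b => b.image e) '' B) = (fun b => b.image e) '' (g • B) := by
  ext c
  simp only [Set.mem_smul_set, Set.mem_image]
  constructor
  · rintro ⟨_, ⟨b, hb, rfl⟩, rfl⟩
    exact ⟨g • b, ⟨b, hb, rfl⟩, (smul_image_eq e g b).symm⟩
  · rintro ⟨_, ⟨b, hb, rfl⟩, rfl⟩
    exact ⟨b.image e, ⟨b, hb, rfl⟩, smul_image_eq e g b⟩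

omit [DecidableEq α] in
theorem image_set_injective (e : α ≃ β) :
    Function.Injective (fun B : Set (Finset α) => (fun b => b.image e) '' B) :=
  Set.image_injective.2 (Finset.image_injective e.injective)

theorem aut_mem_iff (e : α ≃ β) (B : Set (Finset α)) (g : Equiv.Perm α) :
    g ∈ setSystemAut B ↔ e.permCongrHom g ∈ setSystemAut ((fun b => b.image e) '' B) := by
  unfold setSystemAut
  rw [MulAction.mem_stabilizer_iff, MulAction.mem_stabilizer_iff, smul_set_image]
  constructor
  · intro h; rw [h]
  · intro h; exact image_set_injective e h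

/-- The automorphism groups of isomorphic set systems are isomorphic. -/
noncomputable def autEquiv (e : α ≃ β) (B : Set (Finset α)) {B' : Set (Finset β)}
    (he : (fun b => b.image e) '' B = B') : setSystemAut B ≃* setSystemAut B' :=
  (e.permCongrHom.subgroupMap (setSystemAut B)).trans (MulEquiv.subgroupCongr (by
    ext g'
    rw [Subgroup.mem_map]
    constructor
    · rintro ⟨g, hg, rfl⟩
      rw [← he]
      exact (aut_mem_iff e B g).1 hg
    · intro hg'
      refine ⟨e.permCongrHom.symm g', ?_, e.permCongrHom.apply_symm_apply g'⟩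
      rw [aut_mem_iff e B, he, MulEquiv.apply_symm_apply]
      exact hg'))

theorem autEquiv_apply (e : α ≃ β) (B : Set (Finset α)) {B' : Set (Finset β)}
    (he : (fun b => b.image e) '' B = B') (g : setSystemAut B) (y : β) :
    ((autEquiv e B he g : setSystemAut B') : Equiv.Perm β) y = e ((g : Equiv.Perm α) (e.symm y)) := rfl

theorem autEquiv_symm_apply (e : α ≃ β) (B : Set (Finset α)) {B' : Set (Finset β)}
    (he : (fun b => b.image e) '' B = B') (g' : setSystemAut B') (x : α) :
    (((autEquiv e B he).symm g' : setSystemAut B) : Equiv.Perm α) x = e.symm ((g' : Equiv.Perm β) (e x)) := by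
  have h := autEquiv_apply e B he ((autEquiv e B he).symm g') (e x)
  rw [MulEquiv.apply_symm_apply, e.symm_apply_apply] at h
  rw [h, e.symm_apply_apply]

/-- Transport of multiple transitivity along an isomorphism of set systems. -/
theorem pretrans_transport (e : α ≃ β) (B : Set (Finset α)) {B' : Set (Finset β)}
    (he : (fun b => b.image e) '' B = B') (n : ℕ)
    (h : MulAction.IsMultiplyPretransitive (setSystemAut B') β n) :
    MulAction.IsMultiplyPretransitive (setSystemAut B) α n := by
  rw [MulAction.isMultiplyPretransitive_iff] at h ⊢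
  intro x y
  obtain ⟨g', hg'⟩ := h (x.trans e.toEmbedding) (y.trans e.toEmbedding)
  refine ⟨(autEquiv e B he).symm g', ?_⟩
  ext i
  have h1 := congrArg (fun f : Fin n ↪ β => f i) hg'
  simp only [Function.Embedding.smul_apply, Function.Embedding.trans_apply, Equiv.coe_toEmbedding] at h1
  rw [Function.Embedding.smul_apply]
  show (((autEquiv e B he).symm g' : setSystemAut B) : Equiv.Perm α) (x i) = y i
  rw [autEquiv_symm_apply]
  have h2 : (g' : Equiv.Perm β) (e (x i)) = e (y i) := h1
  rw [h2, e.symm_apply_apply]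

end transport

/-! ### Aut of S(5,8,24) -/

theorem aut_5_8_24 {α : Type*} [Fintype α] [DecidableEq α] (hα : Fintype.card α = 24) {B : Set (Finset α)}
    (hB : IsSteinerSystem 5 8 B) :
    IsM24 (setSystemAut B) ∧ MulAction.IsMultiplyPretransitive (setSystemAut B) α 5 := by
  obtain ⟨e, he⟩ := iso_octads hα hB
  have ψ : setSystemAut B ≃* M24 :=
    (autEquiv e B he).trans (MulEquiv.subgroupCongr M24_eq_setSystemAut_octads.symm)
  refine ⟨⟨?_, ?_⟩, ?_⟩
  · have := M24_isSimpleGroup
    exact ψ.isSimpleGroup
  · rw [Nat.card_congr ψ.toEquiv, card_M24]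
  · apply pretrans_transport e B he 5
    have h := M24_isMultiplyPretransitive
    rw [M24_eq_setSystemAut_octads] at h
    exact h

end Cfsg.Agent.Lib.H2.Witt
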