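/-
helper2 library (Witt designs, part 7): the automorphism group of the heptad system is the point stabiliser
of `M24`; automorphism group of any S(4,7,23).
-/
import Mathlib
import Cfsg.Prelude.Def_Sporadic_a
import Cfsg.Prelude.Def_Sporadic
import Cfsg.Agent.Lib.H2.Witt6
import Cfsg.Agent.S0376
import Cfsg.Agent.S0377

set_option autoImplicit false

namespace Cfsg.Agent.Lib.H2.Witt

open Cfsg Cfsg.Agent.Lib.H28
open scoped Pointwise

/-- `Equiv.optionCongr` as a group homomorphism. -/
def optHom (γ : Type*) : Equiv.Perm γ →* Equiv.Perm (Option γ) where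
  toFun := Equiv.optionCongr
  map_one' := Equiv.optionCongr_one
  map_mul' := by
    intro f g
    ext x
    cases x <;> rfl

theorem optHom_apply {γ : Type*} (h : Equiv.Perm γ) : optHom γ h = Equiv.optionCongr h := rfl

theorem optHom_injective (γ : Type*) : Function.Injective (optHom γ) := Equiv.optionCongr_injective

theorem optionCongr_some {γ : Type*} (h : Equiv.Perm γ) (x : γ) : Equiv.optionCongr h (some x) = some (h x) := rfl

theorem optionCongr_none {γ : Type*} (h : Equiv.Perm γ) : Equiv.optionCongr h none = none := rfl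

theorem smul_insertNone {γ : Type*} [DecidableEq γ] (h : Equiv.Perm γ) (c : Finset γ) :
    (Equiv.optionCongr h) • (Finset.insertNone c) = Finset.insertNone (h • c) := by
  ext p
  rw [Finset.mem_smul_finset]
  cases p with
  | none =>
    simp only [Finset.none_mem_insertNone, iff_true]
    exact ⟨none, Finset.none_mem_insertNone, rfl⟩
  | some y =>
    rw [Finset.some_mem_insertNone, Finset.mem_smul_finset]
    constructor
    · rintro ⟨q, hq, hqy⟩
      cases q with
      | none => exact absurd hqy (by simp [Equiv.Perm.smul_def])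
      | some x =>
        rw [Finset.some_mem_insertNone] at hq
        refine ⟨x, hq, ?_⟩
        rw [Equiv.Perm.smul_def, optionCongr_some] at hqy
        exact Option.some.inj hqy
    · rintro ⟨x, hx, rfl⟩
      exact ⟨some x, Finset.some_mem_insertNone.2 hx, rfl⟩

theorem aut_smul_mem {γ : Type*} [DecidableEq γ] {B : Set (Finset γ)} {h : Equiv.Perm γ}
    (hh : h ∈ setSystemAut B) {c : Finset γ} (hc : c ∈ B) : h • c ∈ B := by
  have h1 : h • B = B := MulAction.mem_stabilizer_iff.1 hh
  rw [← h1]
  exact Set.smul_mem_smul_set hc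

theorem mem_aut_of_subset {γ : Type*} [DecidableEq γ] [Fintype γ] {B : Set (Finset γ)} {h : Equiv.Perm γ}
    (hh : ∀ c ∈ B, h • c ∈ B) : h ∈ setSystemAut B := by
  unfold setSystemAut
  rw [MulAction.mem_stabilizer_set_iff_smul_set_subset (Set.toFinite B)]
  rintro _ ⟨c, hc, rfl⟩
  exact hh c hc

theorem eraseNone_mem_hept {b : Finset GolayPt} (hb : b ∈ octads) (hn : none ∈ b) :
    Finset.eraseNone b ∈ hept := by
  show Finset.insertNone (Finset.eraseNone b) ∈ octads
  rw [Finset.insertNone_eraseNone, Finset.insert_eq_of_mem hn]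
  exact hb

theorem insertNone_eraseNone' {b : Finset GolayPt} (hn : none ∈ b) :
    Finset.insertNone (Finset.eraseNone b) = b := by
  rw [Finset.insertNone_eraseNone, Finset.insert_eq_of_mem hn]

/-- An automorphism of the heptad system extends (fixing `none`) to an element of `M24`. -/
theorem optionCongr_mem_M24 {h : Equiv.Perm (ZMod 23)} (hh : h ∈ setSystemAut hept) :
    Equiv.optionCongr h ∈ M24 := by
  set g := Equiv.optionCongr h with hg
  have hinv : h⁻¹ ∈ setSystemAut hept := Subgroup.inv_mem _ hh
  rw [M24_eq_setSystemAut_octads]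
  unfold setSystemAut
  rw [MulAction.mem_stabilizer_iff]
  have hD : IsSteinerSystem 5 8 (g • octads) := steiner_image g octads_isSteinerSystem
  apply ext24 hD
  intro b hn
  constructor
  · rintro ⟨O, hO, rfl⟩
    have hnO : none ∈ O := by
      obtain ⟨q, hq, hqn⟩ := Finset.mem_smul_finset.1 hn
      have : q = none := by
        apply g.injective
        rw [← Equiv.Perm.smul_def, hqn]; rfl
      rw [← this]; exact hq
    show g • O ∈ octads
    rw [← insertNone_eraseNone' hnO, hg, smul_insertNone]
    exact aut_smul_mem hh (eraseNone_mem_hept hO hnO)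
  · intro hb
    have hc := aut_smul_mem hinv (eraseNone_mem_hept hb hn)
    refine ⟨Finset.insertNone (h⁻¹ • Finset.eraseNone b), hc, ?_⟩
    show g • Finset.insertNone (h⁻¹ • Finset.eraseNone b) = b
    rw [hg, smul_insertNone, smul_inv_smul, insertNone_eraseNone' hn]

/-- An element of `M24` fixing `none` restricts to an automorphism of the heptad system. -/
theorem exists_aut_of_M24 {g : Equiv.Perm GolayPt} (hg : g ∈ M24) (hn : g none = none) :
    ∃ h ∈ setSystemAut hept, Equiv.optionCongr h = g := by
  refine ⟨Equiv.removeNone g, ?_, ?_⟩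
  · apply mem_aut_of_subset
    intro c hc
    show Finset.insertNone (Equiv.removeNone g • c) ∈ octads
    rw [← smul_insertNone, map_equiv_removeNone, hn, Equiv.swap_self]
    exact smul_mem_octads hg hc
  · rw [map_equiv_removeNone, hn, Equiv.swap_self]
    rfl

/-- The point stabiliser of `M24`, as a subgroup of the symmetric group. -/
def stabNone : Subgroup (Equiv.Perm GolayPt) :=
  (MulAction.stabilizer M24 (none : GolayPt)).map M24.subtype

theorem mem_stabNone {g : Equiv.Perm GolayPt} : g ∈ stabNone ↔ g ∈ M24 ∧ g none = none := by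
  unfold stabNone
  rw [Subgroup.mem_map]
  constructor
  · rintro ⟨x, hx, rfl⟩
    exact ⟨x.2, MulAction.mem_stabilizer_iff.1 hx⟩
  · rintro ⟨h1, h2⟩
    exact ⟨⟨g, h1⟩, MulAction.mem_stabilizer_iff.2 h2, rfl⟩

theorem map_optHom_aut_hept : (setSystemAut hept).map (optHom (ZMod 23)) = stabNone := by
  ext g
  rw [Subgroup.mem_map, mem_stabNone]
  constructor
  · rintro ⟨h, hh, rfl⟩
    exact ⟨optionCongr_mem_M24 hh, rfl⟩
  · rintro ⟨h1, h2⟩
    obtain ⟨h, hh, hhg⟩ := exists_aut_of_M24 h1 h2
    exact ⟨h, hh, hhg⟩

/-- `Aut(hept)` is isomorphic to the point stabiliser in `M24`. -/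
noncomputable def autHeptEquiv : setSystemAut hept ≃* MulAction.stabilizer M24 (none : GolayPt) :=
  ((setSystemAut hept).equivMapOfInjective (optHom (ZMod 23)) (optHom_injective _)).trans
    ((MulEquiv.subgroupCongr map_optHom_aut_hept).trans
      ((MulAction.stabilizer M24 (none : GolayPt)).equivMapOfInjective M24.subtype
        M24.subtype_injective).symm)

theorem aut_hept_isM23 : IsM23 (setSystemAut hept) := by
  refine ⟨?_, ?_⟩
  · have := Cfsg.Agent.S0377.result (none : GolayPt)
    exact autHeptEquiv.isSimpleGroup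
  · rw [Nat.card_congr autHeptEquiv.toEquiv]
    exact Cfsg.Agent.S0376.result none

theorem aut_hept_trans : MulAction.IsMultiplyPretransitive (setSystemAut hept) (ZMod 23) 4 := by
  rw [MulAction.isMultiplyPretransitive_iff]
  intro x y
  have h5 := M24_isMultiplyPretransitive
  rw [MulAction.isMultiplyPretransitive_iff] at h5
  obtain ⟨g, hg⟩ := h5 ((finSuccEquiv 4).toEmbedding.trans x.optionMap)
    ((finSuccEquiv 4).toEmbedding.trans y.optionMap)
  have hg0 := congrArg (fun f : Fin 5 ↪ GolayPt => f 0) hg
  simp only [Function.Embedding.smul_apply, Function.Embedding.trans_apply, Equiv.coe_toEmbedding,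
    finSuccEquiv_zero] at hg0
  have hgn : (g : Equiv.Perm GolayPt) none = none := hg0
  obtain ⟨h, hh, hhg⟩ := exists_aut_of_M24 g.2 hgn
  refine ⟨⟨h, hh⟩, ?_⟩
  ext i
  have hgi := congrArg (fun f : Fin 5 ↪ GolayPt => f i.succ) hg
  simp only [Function.Embedding.smul_apply, Function.Embedding.trans_apply, Equiv.coe_toEmbedding,
    finSuccEquiv_succ] at hgi
  have h1 : (g : Equiv.Perm GolayPt) (some (x i)) = some (y i) := hgi
  rw [← hhg, optionCongr_some] at h1
  exact Option.some.inj h1

/-- Automorphism group of any S(4,7,23) (statement S0413). -/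
theorem aut_4_7_23 {α : Type*} [Fintype α] [DecidableEq α] (hα : Fintype.card α = 23) {B : Set (Finset α)}
    (hB : IsSteinerSystem 4 7 B) :
    IsM23 (setSystemAut B) ∧ MulAction.IsMultiplyPretransitive (setSystemAut B) α 4 := by
  obtain ⟨e, he⟩ := iso_hept hα hB
  have ψ : setSystemAut B ≃* setSystemAut hept := autEquiv e B he
  refine ⟨⟨?_, ?_⟩, ?_⟩
  · have := aut_hept_isM23.1
    exact ψ.isSimpleGroup
  · rw [Nat.card_congr ψ.toEquiv, aut_hept_isM23.2]
  · exact pretrans_transport e B he 4 aut_hept_trans

end Cfsg.Agent.Lib.H2.Witt
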