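/-
helper2 library (Witt designs, part 8): automorphisms of the hexad system S(3,6,22) extend to `M24`
up to the transposition of the two base points.
-/
import Mathlib
import Cfsg.Prelude.Def_Sporadic_a
import Cfsg.Prelude.Def_Sporadic
import Cfsg.Agent.Lib.H2.Witt7

set_option autoImplicit false

namespace Cfsg.Agent.Lib.H2.Witt

open Cfsg Cfsg.Agent.Lib.H28 Cfsg.Agent.Lib.H27
open scoped Pointwise

/-- `ext24` at an arbitrary point, with a one-sided hypothesis. -/
theorem ext24_pt (p : GolayPt) {D : Set (Finset GolayPt)} (hD : IsSteinerSystem 5 8 D)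
    (h : ∀ b ∈ D, p ∈ b → b ∈ octads) : D = octads := by
  have hcardα : Fintype.card GolayPt = 24 := by decide
  apply steiner_eq_of_subset hD octads_isSteinerSystem (by norm_num)
  intro b hb
  by_cases hn : p ∈ b
  · exact h b hb hn
  · have hcard : b.card = 8 := hD.1 b hb
    obtain ⟨T, hTb, hT⟩ := Finset.exists_subset_card_eq (s := b) (n := 4) (by omega)
    have hnT : p ∉ T := fun h' => hn (hTb h')
    obtain ⟨O, ⟨hO, hSO⟩, -⟩ := hD.2 (insert p T) (by rw [Finset.card_insert_of_notMem hnT, hT])
    have hnO : p ∈ O := hSO (Finset.mem_insert_self _ _)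
    have hne : b ≠ O := fun e => hn (e ▸ hnO)
    have hTO : T ⊆ b ∩ O := by
      intro x hx
      rw [Finset.mem_inter]
      exact ⟨hTb hx, hSO (Finset.mem_insert_of_mem hx)⟩
    have hle : 4 ≤ (b ∩ O).card := by
      rw [← hT]; exact Finset.card_le_card hTO
    have h4 : (b ∩ O).card = 4 := by
      rcases s5824_inter hcardα hD hO hb hne with h0 | h2 | h4
      · omega
      · omega
      · exact h4
    have hsd := s5824_symmDiff hcardα hD hb hO h4
    have hn' : p ∈ symmDiff b O := by
      rw [Finset.mem_symmDiff]; right; exact ⟨hnO, hn⟩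
    have hO' := h O hO hnO
    have hsd' := h _ hsd hn'
    obtain ⟨⟨u, hu, hu'⟩, -⟩ := hO'
    obtain ⟨⟨v, hv, hv'⟩, -⟩ := hsd'
    refine ⟨⟨u + v, golayCode.add_mem hu hv, ?_⟩, hcard⟩
    show support₂ (u + v) = b
    rw [← supp_eq_support₂, supp_add, supp_eq_support₂, supp_eq_support₂]
    have e1 : support₂ u = O := hu'
    have e2 : support₂ v = symmDiff b O := hv'
    rw [e1, e2, symmDiff_comm b O, symmDiff_symmDiff_cancel_left]

/-- The transposition of the two base points. -/
def tau : Equiv.Perm GolayPt := Equiv.swap none (some 0)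

theorem tau_none : tau none = some 0 := Equiv.swap_apply_left _ _

theorem tau_some_zero : tau (some 0) = none := Equiv.swap_apply_right _ _

theorem tau_some {x : ZMod 23} (hx : x ≠ 0) : tau (some x) = some x := by
  apply Equiv.swap_apply_of_ne_of_ne
  · simp
  · intro h; exact hx (Option.some.inj h)

theorem tau_mul_self : tau * tau = 1 := Equiv.swap_mul_self _ _

theorem tau_smul_of_mem (d : Finset (ZMod 23)) (h0 : (0 : ZMod 23) ∈ d) :
    tau • Finset.insertNone d = Finset.insertNone d := by
  ext p
  rw [Finset.mem_smul_finset]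
  constructor
  · rintro ⟨q, hq, rfl⟩
    cases q with
    | none =>
      rw [Equiv.Perm.smul_def, tau_none]; exact Finset.some_mem_insertNone.2 h0
    | some x =>
      by_cases hx : x = 0
      · subst hx
        rw [Equiv.Perm.smul_def, tau_some_zero]; exact Finset.none_mem_insertNone
      · rw [Equiv.Perm.smul_def, tau_some hx]; exact hq
  · intro hp
    cases p with
    | none => exact ⟨some 0, Finset.some_mem_insertNone.2 h0, tau_some_zero⟩
    | some x =>
      by_cases hx : x = 0
      · subst hx
        exact ⟨none, Finset.none_mem_insertNone, tau_none⟩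
      · exact ⟨some x, hp, tau_some hx⟩

theorem tau_smul_of_not_mem (d : Finset (ZMod 23)) (h0 : (0 : ZMod 23) ∉ d) :
    tau • Finset.insertNone d = (insert (0 : ZMod 23) d).image some := by
  ext p
  rw [Finset.mem_smul_finset, Finset.mem_image]
  constructor
  · rintro ⟨q, hq, rfl⟩
    cases q with
    | none =>
      rw [Equiv.Perm.smul_def, tau_none]; exact ⟨0, Finset.mem_insert_self _ _, rfl⟩
    | some x =>
      rw [Finset.some_mem_insertNone] at hq
      have hx : x ≠ 0 := by rintro rfl; exact h0 hq
      rw [Equiv.Perm.smul_def, tau_some hx]; exact ⟨x, Finset.mem_insert_of_mem hq, rfl⟩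
  · rintro ⟨x, hx, rfl⟩
    rcases Finset.mem_insert.1 hx with rfl | hx
    · exact ⟨none, Finset.none_mem_insertNone, tau_none⟩
    · have hx0 : x ≠ 0 := by rintro rfl; exact h0 hx
      exact ⟨some x, Finset.some_mem_insertNone.2 hx, tau_some hx0⟩

theorem g0_popc : popc g0 = 8 := by decide +kernel

theorem tau_not_mem_M24 : tau ∉ M24 := by
  intro h
  have hO : supp (W g0) ∈ octads := by
    apply mem_octads_of_code W_g0_mem rfl
    rw [← hammingNorm_eq_card_supp, hammingNorm_W, g0_popc]
  have hnone : none ∈ supp (W g0) := by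
    rw [mem_supp, W_none, g0_props.2.1]; decide
  have hzero : some 0 ∉ supp (W g0) := by
    rw [mem_supp, W_some_zero, g0_props.1]; decide
  set d := Finset.eraseNone (supp (W g0)) with hd
  have hins : Finset.insertNone d = supp (W g0) := insertNone_eraseNone' hnone
  have h0d : (0 : ZMod 23) ∉ d := by
    rw [hd, Finset.mem_eraseNone]; exact hzero
  have hdh : d ∈ hept := eraseNone_mem_hept hO hnone
  have h2 : fam2 d := by
    show (insert (0 : ZMod 23) d).image some ∈ octads
    rw [← tau_smul_of_not_mem d h0d]
    exact smul_mem_octads h hdh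
  have hcard : d.card = 7 := hept_steiner.1 d hdh
  exact step3 hdh h2 h0d (by rw [Finset.inter_self, hcard]; decide)

theorem tau_comm {k : Equiv.Perm (ZMod 23)} (hk : k 0 = 0) :
    tau * Equiv.optionCongr k = Equiv.optionCongr k * tau := by
  ext1 p
  rw [Equiv.Perm.mul_apply, Equiv.Perm.mul_apply]
  cases p with
  | none => rw [optionCongr_none, tau_none, optionCongr_some, hk]
  | some x =>
    by_cases hx : x = 0
    · subst hx
      rw [optionCongr_some, hk, tau_some_zero, optionCongr_none]
    · have hkx : k x ≠ 0 := by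
        intro h
        apply hx
        apply k.injective
        rw [h, hk]
      rw [optionCongr_some, tau_some hkx, tau_some hx, optionCongr_some]

/-! ### The hexad system -/

/-- The 22 points. -/
abbrev Om : Type := {y : ZMod 23 // y ≠ 0}

/-- The hexads: the derived design of the heptads at `0`. -/
def hexa : Set (Finset Om) := derived hept (0 : ZMod 23)

theorem hexa_steiner : IsSteinerSystem 3 6 hexa := derived_steiner hept_steiner 0

/-- Extension of a permutation of the 22 points to `ZMod 23`, fixing `0`. -/
def ext0 (h : Equiv.Perm Om) : Equiv.Perm (ZMod 23) := extA (0 : ZMod 23) (0 : ZMod 23) h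

theorem ext0_zero (h : Equiv.Perm Om) : ext0 h 0 = 0 := extA_self _ _ _

theorem ext0_of_ne (h : Equiv.Perm Om) {x : ZMod 23} (hx : x ≠ 0) : ext0 h x = (h ⟨x, hx⟩ : ZMod 23) :=
  extA_of_ne _ _ _ hx

theorem ext0_eq_ofSubtype (h : Equiv.Perm Om) : ext0 h = Equiv.Perm.ofSubtype h := by
  ext1 x
  by_cases hx : x = 0
  · subst hx
    rw [ext0_zero, Equiv.Perm.ofSubtype_apply_of_not_mem h (by simp)]
  · rw [ext0_of_ne h hx, Equiv.Perm.ofSubtype_apply_of_mem h hx]

/-- The embedding of `Perm Om` into `Perm GolayPt` (fixing `none` and `some 0`). -/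
def iota : Equiv.Perm Om →* Equiv.Perm GolayPt := (optHom (ZMod 23)).comp Equiv.Perm.ofSubtype

theorem iota_apply (h : Equiv.Perm Om) : iota h = Equiv.optionCongr (ext0 h) := by
  rw [ext0_eq_ofSubtype]; rfl

theorem iota_injective : Function.Injective iota :=
  (optHom_injective _).comp Equiv.Perm.ofSubtype_injective

theorem aut_hexa_image {h : Equiv.Perm Om} (hh : h ∈ setSystemAut hexa) :
    (fun b => b.image h) '' derived hept (0 : ZMod 23) = derived hept (0 : ZMod 23) := by
  have h1 : h • hexa = hexa := MulAction.mem_stabilizer_iff.1 hh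
  exact h1

/-- Key dichotomy: an automorphism of the hexad system extends to `M24`, possibly after composing with `tau`. -/
theorem aut_hexa_dichotomy {h : Equiv.Perm Om} (hh : h ∈ setSystemAut hexa) :
    iota h ∈ M24 ∨ tau * iota h ∈ M24 := by
  rw [iota_apply]
  set k := ext0 h with hk
  have he₀ := aut_hexa_image hh
  have hD : IsSteinerSystem 4 7 ((fun b => b.image k) '' hept) := steiner_image k hept_steiner
  have hspec : ∀ b : Finset (ZMod 23), (0 : ZMod 23) ∈ b → (b ∈ (fun b => b.image k) '' hept ↔ b ∈ hept) :=
    extA_spec (0 : ZMod 23) (0 : ZMod 23) h hept hept he₀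
  rcases ext23_core hD hspec with hall | hall
  · left
    have hDe : (fun b => b.image k) '' hept = hept :=
      steiner_eq_of_subset hD hept_steiner (by norm_num) hall
    apply optionCongr_mem_M24
    unfold setSystemAut
    rw [MulAction.mem_stabilizer_iff]
    exact hDe
  · right
    rw [M24_eq_setSystemAut_octads]
    unfold setSystemAut
    rw [MulAction.mem_stabilizer_iff]
    have hD2 : IsSteinerSystem 5 8 ((tau * Equiv.optionCongr k) • octads) :=
      steiner_image (tau * Equiv.optionCongr k) octads_isSteinerSystem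
    apply ext24_pt (some 0) hD2
    rintro _ ⟨O, hO, rfl⟩ hn
    have hn' : some 0 ∈ (tau * Equiv.optionCongr k) • O := hn
    show (tau * Equiv.optionCongr k) • O ∈ octads
    have hnO : none ∈ O := by
      obtain ⟨q, hq, hqn⟩ := Finset.mem_smul_finset.1 hn'
      have : q = none := by
        apply (tau * Equiv.optionCongr k).injective
        rw [← Equiv.Perm.smul_def, hqn, Equiv.Perm.mul_apply, optionCongr_none, tau_none]
      rw [← this]; exact hq
    have hc : Finset.eraseNone O ∈ hept := eraseNone_mem_hept hO hnO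
    have hkc : k • Finset.eraseNone O ∈ (fun b => b.image k) '' hept := ⟨_, hc, rfl⟩
    rw [← insertNone_eraseNone' hnO, mul_smul, smul_insertNone]
    by_cases h0 : (0 : ZMod 23) ∈ k • Finset.eraseNone O
    · rw [tau_smul_of_mem _ h0]
      exact (hspec _ h0).1 hkc
    · rw [tau_smul_of_not_mem _ h0]
      exact hall _ hkc h0

end Cfsg.Agent.Lib.H2.Witt
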