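/-
helper2 library (Witt designs, part 9): the automorphism group of any S(3,6,22).
-/
import Mathlib
import Cfsg.Prelude.Def_Sporadic_a
import Cfsg.Prelude.Def_Sporadic
import Cfsg.Agent.Lib.H2.Witt8
import Cfsg.Agent.S0378
import Cfsg.Agent.S0379

set_option autoImplicit false

namespace Cfsg.Agent.Lib.H2.Witt

open Cfsg Cfsg.Agent.Lib.H28 Cfsg.Agent.Lib.H27
open scoped Pointwise

/-- A permutation of the 24 points fixing both base points and preserving the octads through them
restricts to an automorphism of the hexad system. -/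
theorem exists_aut_hexa {g' : Equiv.Perm GolayPt} (hn : g' none = none) (h0 : g' (some 0) = some 0)
    (hoct : ∀ O ∈ octads, none ∈ O → some 0 ∈ O → g' • O ∈ octads) :
    ∃ h ∈ setSystemAut hexa, iota h = g' := by
  set k : Equiv.Perm (ZMod 23) := Equiv.removeNone g' with hkdef
  have hk : Equiv.optionCongr k = g' := by
    rw [hkdef, map_equiv_removeNone, hn, Equiv.swap_self]; rfl
  have hk0 : k 0 = 0 := by
    have : Equiv.optionCongr k (some 0) = some 0 := by rw [hk, h0]
    rw [optionCongr_some] at this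
    exact Option.some.inj this
  have hp : ∀ x, (fun y : ZMod 23 => y ≠ 0) (k x) ↔ (fun y : ZMod 23 => y ≠ 0) x := fun x =>
    not_congr ⟨fun h => k.injective (h.trans hk0.symm), fun h => by rw [h, hk0]⟩
  have hof : Equiv.Perm.ofSubtype (Equiv.Perm.subtypePerm k hp) = k :=
    Equiv.Perm.ofSubtype_subtypePerm (p := fun y : ZMod 23 => y ≠ 0) hp (fun x hx => by rintro rfl; exact hx hk0)
  refine ⟨Equiv.Perm.subtypePerm k hp, ?_, ?_⟩
  · apply mem_aut_of_subset
    rintro c' ⟨b, hb, h0b, rfl⟩
    have hO := hoct (Finset.insertNone b) hb Finset.none_mem_insertNone (Finset.some_mem_insertNone.2 h0b)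
    rw [← hk, smul_insertNone] at hO
    refine ⟨k • b, hO, Finset.mem_smul_finset.2 ⟨0, h0b, hk0⟩, ?_⟩
    ext y
    rw [Finset.mem_smul_finset, Finset.mem_subtype, Finset.mem_smul_finset]
    constructor
    · rintro ⟨x, hx, rfl⟩
      exact ⟨x.1, Finset.mem_subtype.1 hx, rfl⟩
    · rintro ⟨x, hx, hxy⟩
      have hx0 : x ≠ 0 := by
        rintro rfl
        apply y.2
        rw [← hxy]; exact hk0
      refine ⟨⟨x, hx0⟩, Finset.mem_subtype.2 hx, ?_⟩
      apply Subtype.ext
      exact hxy
  · show optHom (ZMod 23) (Equiv.Perm.ofSubtype (Equiv.Perm.subtypePerm k hp)) = g'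
    rw [hof, optHom_apply, hk]

/-- The subgroup of automorphisms of the hexad system that extend to `M24` fixing both base points. -/
def A0 : Subgroup (Equiv.Perm Om) := setSystemAut hexa ⊓ M24.comap iota

/-- The two-point stabiliser of `M24` as a subgroup of the symmetric group. -/
def G0 : Subgroup (Equiv.Perm GolayPt) :=
  (MulAction.stabilizer M24 (none : GolayPt) ⊓ MulAction.stabilizer M24 (some 0 : GolayPt)).map M24.subtype

theorem mem_G0 {g : Equiv.Perm GolayPt} : g ∈ G0 ↔ g ∈ M24 ∧ g none = none ∧ g (some 0) = some 0 := by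
  unfold G0
  rw [Subgroup.mem_map]
  constructor
  · rintro ⟨x, hx, rfl⟩
    rw [Subgroup.mem_inf] at hx
    exact ⟨x.2, MulAction.mem_stabilizer_iff.1 hx.1, MulAction.mem_stabilizer_iff.1 hx.2⟩
  · rintro ⟨h1, h2, h3⟩
    refine ⟨⟨g, h1⟩, ?_, rfl⟩
    rw [Subgroup.mem_inf]
    exact ⟨MulAction.mem_stabilizer_iff.2 h2, MulAction.mem_stabilizer_iff.2 h3⟩

theorem iota_none (h : Equiv.Perm Om) : iota h none = none := by
  rw [iota_apply]; rfl

theorem iota_some_zero (h : Equiv.Perm Om) : iota h (some 0) = some 0 := by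
  rw [iota_apply, optionCongr_some, ext0_zero]

theorem iota_some (h : Equiv.Perm Om) (x : Om) : iota h (some x.1) = some (h x).1 := by
  rw [iota_apply, optionCongr_some, ext0_of_ne h x.2]

theorem map_iota_A0 : A0.map iota = G0 := by
  ext g
  rw [Subgroup.mem_map, mem_G0]
  constructor
  · rintro ⟨h, hh, rfl⟩
    exact ⟨hh.2, iota_none h, iota_some_zero h⟩
  · rintro ⟨h1, h2, h3⟩
    obtain ⟨h, hh, hhg⟩ := exists_aut_hexa h2 h3 (fun O hO _ _ => smul_mem_octads h1 hO)
    refine ⟨h, ⟨hh, ?_⟩, hhg⟩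
    show iota h ∈ M24
    rw [hhg]; exact h1

/-- `A0` is isomorphic to the two-point stabiliser of `M24`. -/
noncomputable def A0Equiv :
    A0 ≃* ↥(MulAction.stabilizer M24 (none : GolayPt) ⊓ MulAction.stabilizer M24 (some 0 : GolayPt)) :=
  (A0.equivMapOfInjective iota iota_injective).trans
    ((MulEquiv.subgroupCongr map_iota_A0).trans
      ((MulAction.stabilizer M24 (none : GolayPt) ⊓ MulAction.stabilizer M24 (some 0 : GolayPt)).equivMapOfInjective
        M24.subtype M24.subtype_injective).symm)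

theorem none_ne_some_zero : (none : GolayPt) ≠ some 0 := by simp

theorem A0_simple : IsSimpleGroup A0 := by
  have := Cfsg.Agent.S0379.result (none : GolayPt) (some 0) none_ne_some_zero
  exact A0Equiv.isSimpleGroup

theorem A0_card : Nat.card A0 = 443520 := by
  rw [Nat.card_congr A0Equiv.toEquiv]
  exact Cfsg.Agent.S0378.result none (some 0) none_ne_some_zero

/-- An automorphism of the hexad system not extending to an element of `M24` fixing the base points. -/
theorem exists_swapper : ∃ h₀ ∈ setSystemAut hexa, iota h₀ = tau * projInv := by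
  apply exists_aut_hexa
  · rw [Equiv.Perm.mul_apply, projInv_none, tau_some_zero]
  · rw [Equiv.Perm.mul_apply, projInv_some_zero, tau_none]
  · intro O hO hn h0
    rw [mul_smul]
    have hO' : projInv • O ∈ octads := smul_mem_octads projInv_mem_M24 hO
    have hn' : none ∈ projInv • O := Finset.mem_smul_finset.2 ⟨some 0, h0, projInv_some_zero⟩
    have h0' : some 0 ∈ projInv • O := Finset.mem_smul_finset.2 ⟨none, hn, projInv_none⟩
    rw [← insertNone_eraseNone' hn', tau_smul_of_mem _ (Finset.mem_eraseNone.2 h0'),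
      insertNone_eraseNone' hn']
    exact hO'

/-- The index-two subgroup of `Aut(hexa)`. -/
def H0 : Subgroup (setSystemAut hexa) := A0.subgroupOf (setSystemAut hexa)

theorem mem_H0 (b : setSystemAut hexa) : b ∈ H0 ↔ iota (b : Equiv.Perm Om) ∈ M24 := by
  unfold H0 A0
  rw [Subgroup.mem_subgroupOf, Subgroup.mem_inf]
  constructor
  · intro h; exact h.2
  · intro h; exact ⟨b.2, h⟩

theorem H0_index : H0.index = 2 := by
  rw [Subgroup.index_eq_two_iff]
  obtain ⟨h₀, hh₀, hι⟩ := exists_swapper
  refine ⟨⟨h₀, hh₀⟩, fun b => ?_⟩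
  rw [mem_H0, mem_H0]
  have hmul : iota ((b * ⟨h₀, hh₀⟩ : setSystemAut hexa) : Equiv.Perm Om) = iota (b : Equiv.Perm Om) * (tau * projInv) := by
    rw [Subgroup.coe_mul, map_mul, hι]
  rw [hmul]
  by_cases hb : iota (b : Equiv.Perm Om) ∈ M24
  · right
    refine ⟨hb, fun h => ?_⟩
    have h1 : tau * projInv ∈ M24 := by
      have := M24.mul_mem (M24.inv_mem hb) h
      rwa [inv_mul_cancel_left] at this
    have h2 : tau ∈ M24 := by
      have := M24.mul_mem h1 (M24.inv_mem projInv_mem_M24)
      rwa [mul_inv_cancel_right] at this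
    exact tau_not_mem_M24 h2
  · left
    refine ⟨?_, hb⟩
    have h1 : tau * iota (b : Equiv.Perm Om) ∈ M24 := (aut_hexa_dichotomy b.2).resolve_left hb
    have h2 : iota (b : Equiv.Perm Om) * (tau * projInv) = (tau * iota (b : Equiv.Perm Om)) * projInv := by
      rw [← mul_assoc]
      congr 1
      rw [iota_apply]
      exact (tau_comm (ext0_zero _)).symm
    rw [h2]
    exact M24.mul_mem h1 projInv_mem_M24

noncomputable def H0Equiv : H0 ≃* A0 := Subgroup.subgroupOfEquivOfLe inf_le_left

theorem H0_isM22 : IsM22 H0 := by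
  refine ⟨?_, ?_⟩
  · have := A0_simple
    exact H0Equiv.isSimpleGroup
  · rw [Nat.card_congr H0Equiv.toEquiv, A0_card]

theorem aut_hexa_card : Nat.card (setSystemAut hexa) = 887040 := by
  rw [← Subgroup.index_mul_card H0, H0_index, H0_isM22.2]

theorem card_Om : Fintype.card Om = 22 := by
  rw [card_ne, card_Z23]

theorem aut_hexa_trans : MulAction.IsMultiplyPretransitive (setSystemAut hexa) Om 3 := by
  rw [MulAction.isMultiplyPretransitive_iff]
  intro x y
  have h5 := M24_isMultiplyPretransitive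
  rw [MulAction.isMultiplyPretransitive_iff] at h5
  have hx0 : (0 : ZMod 23) ∉ Set.range (x.trans (Function.Embedding.subtype _)) := by
    rintro ⟨i, hi⟩
    exact (x i).2 hi
  have hy0 : (0 : ZMod 23) ∉ Set.range (y.trans (Function.Embedding.subtype _)) := by
    rintro ⟨i, hi⟩
    exact (y i).2 hi
  set x4 : Fin 4 ↪ ZMod 23 := (finSuccEquiv 3).toEmbedding.trans
    (Function.Embedding.optionElim (x.trans (Function.Embedding.subtype _)) 0 hx0) with hx4
  set y4 : Fin 4 ↪ ZMod 23 := (finSuccEquiv 3).toEmbedding.trans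
    (Function.Embedding.optionElim (y.trans (Function.Embedding.subtype _)) 0 hy0) with hy4
  obtain ⟨g, hg⟩ := h5 ((finSuccEquiv 4).toEmbedding.trans x4.optionMap)
    ((finSuccEquiv 4).toEmbedding.trans y4.optionMap)
  have hg0 := congrArg (fun f : Fin 5 ↪ GolayPt => f 0) hg
  simp only [Function.Embedding.smul_apply, Function.Embedding.trans_apply, Equiv.coe_toEmbedding,
    finSuccEquiv_zero] at hg0
  have hgn : (g : Equiv.Perm GolayPt) none = none := hg0
  have hg1 := congrArg (fun f : Fin 5 ↪ GolayPt => f 1) hg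
  have hgz : (g : Equiv.Perm GolayPt) (some 0) = some 0 := by
    have e1 : ((finSuccEquiv 4).toEmbedding.trans x4.optionMap) 1 = some 0 := by
      rw [hx4]; rfl
    have e2 : ((finSuccEquiv 4).toEmbedding.trans y4.optionMap) 1 = some 0 := by
      rw [hy4]; rfl
    simp only [Function.Embedding.smul_apply] at hg1
    rw [e1, e2] at hg1
    exact hg1
  obtain ⟨h, hh, hhg⟩ := exists_aut_hexa hgn hgz (fun O hO _ _ => smul_mem_octads g.2 hO)
  refine ⟨⟨h, hh⟩, ?_⟩
  ext i
  have hgi := congrArg (fun f : Fin 5 ↪ GolayPt => f i.succ.succ) hg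
  have e1 : ((finSuccEquiv 4).toEmbedding.trans x4.optionMap) i.succ.succ = some (x i).1 := by
    rw [hx4]; rfl
  have e2 : ((finSuccEquiv 4).toEmbedding.trans y4.optionMap) i.succ.succ = some (y i).1 := by
    rw [hy4]; rfl
  simp only [Function.Embedding.smul_apply] at hgi
  rw [e1, e2] at hgi
  have h1 : (g : Equiv.Perm GolayPt) (some (x i).1) = some (y i).1 := hgi
  rw [← hhg, iota_some] at h1
  have h2 : (h (x i)).1 = (y i).1 := Option.some.inj h1
  rw [Function.Embedding.smul_apply]
  show ((h (x i) : Om) : ZMod 23) = ((y i : Om) : ZMod 23)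
  exact h2

/-- Automorphism group of any S(3,6,22) (statement S0414). -/
theorem aut_3_6_22 {α : Type*} [Fintype α] [DecidableEq α] (hα : Fintype.card α = 22) {B : Set (Finset α)}
    (hB : IsSteinerSystem 3 6 B) :
    Nat.card (setSystemAut B) = 887040 ∧ MulAction.IsMultiplyPretransitive (setSystemAut B) α 3 ∧
      ∃ H : Subgroup (setSystemAut B), H.index = 2 ∧ IsM22 H := by
  obtain ⟨e, he⟩ := Cfsg.Agent.Lib.H2.S3622.iso hα card_Om hB hexa_steiner
  set ψ : setSystemAut B ≃* setSystemAut hexa := autEquiv e B he with hψ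
  refine ⟨?_, ?_, ?_⟩
  · rw [Nat.card_congr ψ.toEquiv, aut_hexa_card]
  · exact pretrans_transport e B he 3 aut_hexa_trans
  · refine ⟨H0.map (ψ.symm : setSystemAut hexa →* setSystemAut B), ?_, ?_, ?_⟩
    · rw [Subgroup.index_map_equiv, H0_index]
    · have := H0_isM22.1
      exact (ψ.symm.subgroupMap H0).symm.isSimpleGroup
    · rw [← Nat.card_congr (ψ.symm.subgroupMap H0).toEquiv, H0_isM22.2]

end Cfsg.Agent.Lib.H2.Witt
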