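import Mathlib
import Cfsg.Agent.Lib.H2.SimpleIndex
import Cfsg.Agent.Lib.H5.SimpleTools

set_option autoImplicit false
set_option linter.unusedSectionVars false

namespace Cfsg.Agent.Lib.H2.Ord360

open Subgroup Cfsg.Agent.Lib.H5

variable {G : Type*} [Group G] [Finite G] [IsSimpleGroup G]

/-- a proper subgroup of a simple group of order 360 has index at least 6 -/
theorem six_le_index (h : Nat.card G = 360) {H : Subgroup G} (hH : H ≠ ⊤) : 6 ≤ H.index := by
  by_contra hlt
  have h5 : H.index ≤ 5 := by omega
  have h1 := Cfsg.Agent.Lib.H2.card_le_factorial_index hH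
  have h2 : Nat.factorial H.index ≤ Nat.factorial 5 := Nat.factorial_le h5
  have h3 : Nat.factorial 5 = 120 := by decide
  omega

theorem eq_top_of_card (h : Nat.card G = 360) {H : Subgroup G} (hH : 360 < 6 * Nat.card H) :
    H = ⊤ := by
  by_contra hne
  have h6 := six_le_index h hne
  have hm := H.card_mul_index
  rw [h] at hm
  nlinarith

theorem not_isPGroup (h : Nat.card G = 360) (p : ℕ) [Fact p.Prime] : ¬ IsPGroup p G := by
  by_cases hp : p = 2
  · subst hp
    exact not_isPGroup_of_prime_dvd Nat.prime_three (by norm_num) (by rw [h]; norm_num)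
  · exact not_isPGroup_of_prime_dvd Nat.prime_two (fun h2 => hp h2.symm) (by rw [h]; norm_num)

theorem card_sylow3_subgroup (h : Nat.card G = 360) (P : Sylow 3 G) :
    Nat.card (P : Subgroup G) = 9 ∧ (P : Subgroup G).index = 40 := by
  have := sylow_card_and_index P (k := 2) (m := 40) (by rw [h]; norm_num) (by norm_num)
  simpa using this

theorem card_sylow2_subgroup (h : Nat.card G = 360) (P : Sylow 2 G) :
    Nat.card (P : Subgroup G) = 8 ∧ (P : Subgroup G).index = 45 := by
  have := sylow_card_and_index P (k := 3) (m := 45) (by rw [h]; norm_num) (by norm_num)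
  simpa using this

theorem sylow3_comm (h : Nat.card G = 360) (P : Sylow 3 G) {a b : G} (ha : a ∈ P) (hb : b ∈ P) :
    a * b = b * a := by
  have hc : Nat.card (P : Subgroup G) = 3 ^ 2 := by rw [(card_sylow3_subgroup h P).1]; norm_num
  have hcm : IsMulCommutative (P : Subgroup G) := IsPGroup.isMulCommutative_of_card_eq_prime_sq hc
  have := hcm.is_comm.comm ⟨a, ha⟩ ⟨b, hb⟩
  exact congrArg Subtype.val this

theorem card_sylow3 (h : Nat.card G = 360) : Nat.card (Sylow 3 G) = 10 := by
  obtain ⟨P⟩ : Nonempty (Sylow 3 G) := inferInstance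
  obtain ⟨hPc, hPi⟩ := card_sylow3_subgroup h P
  have hmem := card_sylow_mem_filter_divisors P (by norm_num : (40 : ℕ) ≠ 0) hPi
  have hfilt : (Nat.divisors 40).filter (fun d => d % 3 = 1) = {1, 4, 10, 40} := by decide
  rw [hfilt] at hmem
  simp only [Finset.mem_insert, Finset.mem_singleton] at hmem
  have hN := card_normalizer_mul_card_sylow P
  have hI := index_normalizer_eq_card_sylow P
  rw [h] at hN
  rcases hmem with h1 | h4 | h10 | h40
  · exact absurd h1 (card_sylow_ne_one_of_simple (by rw [h]; norm_num) (not_isPGroup h 3))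
  · exfalso
    have htop : normalizer ((P : Subgroup G) : Set G) = ⊤ := by
      apply eq_top_of_card h
      rw [h4] at hN
      omega
    rw [htop, index_top] at hI
    omega
  · exact h10
  · exfalso
    rw [h40] at hN
    have hNc : Nat.card (normalizer ((P : Subgroup G) : Set G)) = 9 := by omega
    have heq : (P : Subgroup G) = normalizer ((P : Subgroup G) : Set G) :=
      Subgroup.eq_of_le_of_card_ge le_normalizer (by rw [hNc, hPc])
    apply not_normalizer_le_centralizer_of_simple (p := 3) (by rw [h]; norm_num)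
      (not_isPGroup h 3) P
    intro x hx
    have hx' : x ∈ normalizer ((P : Subgroup G) : Set G) := hx
    rw [← heq] at hx'
    rw [mem_centralizer_iff]
    intro y hy
    exact sylow3_comm h P hy hx'

theorem card_normalizer_sylow3 (h : Nat.card G = 360) (P : Sylow 3 G) :
    Nat.card (normalizer ((P : Subgroup G) : Set G)) = 36 := by
  have hN := card_normalizer_mul_card_sylow P
  rw [h, card_sylow3 h] at hN
  omega

/-- a subgroup of order 4 is never normalized by a subgroup of order 36 -/
theorem no_normal_four (h : Nat.card G = 360) {M T0 : Subgroup G} (hMc : Nat.card M = 36)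
    (hT0c : Nat.card T0 = 4) (hMN : M ≤ normalizer (T0 : Set G)) : False := by
  have hT0p : IsPGroup 2 T0 := IsPGroup.of_card (n := 2) (by rw [hT0c]; norm_num)
  obtain ⟨S, hS⟩ := hT0p.exists_le_sylow
  obtain ⟨hSc, hSi⟩ := card_sylow2_subgroup h S
  have hrel : T0.relIndex S = 2 := by
    have h1 := relIndex_mul_index hS
    have h2 := T0.card_mul_index
    rw [hT0c, h] at h2
    rw [hSi] at h1
    have : T0.index = 90 := by omega
    rw [this] at h1
    omega
  have hnorm : (T0.subgroupOf S).Normal := Subgroup.normal_of_index_eq_two hrel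
  have hSN : (S : Subgroup G) ≤ normalizer (T0 : Set G) :=
    (normal_subgroupOf_iff_le_normalizer hS).mp hnorm
  have h8 : 8 ∣ Nat.card (normalizer (T0 : Set G)) := hSc ▸ Subgroup.card_dvd_of_le hSN
  have h36 : 36 ∣ Nat.card (normalizer (T0 : Set G)) := hMc ▸ Subgroup.card_dvd_of_le hMN
  have h72 : 72 ∣ Nat.card (normalizer (T0 : Set G)) := by
    have := Nat.lcm_dvd h8 h36
    have hl : Nat.lcm 8 36 = 72 := by decide
    rwa [hl] at this
  have hpos : 0 < Nat.card (normalizer (T0 : Set G)) := Nat.card_pos
  have htop : normalizer (T0 : Set G) = ⊤ := by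
    apply eq_top_of_card h
    have := Nat.le_of_dvd hpos h72
    omega
  have hn : T0.Normal := normalizer_eq_top_iff.mp htop
  rcases hn.eq_bot_or_eq_top with hb | ht
  · rw [hb, Subgroup.card_bot] at hT0c
    omega
  · rw [ht, Subgroup.card_top, h] at hT0c
    omega

/-- two distinct Sylow 3-subgroups cannot lie in a common proper subgroup -/
theorem no_two_sylow3_in_proper (h : Nat.card G = 360) {M : Subgroup G} (hM : M ≠ ⊤)
    {P Q : Sylow 3 G} (hPQ : P ≠ Q) (hP : (P : Subgroup G) ≤ M) (hQ : (Q : Subgroup G) ≤ M) :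
    False := by
  have h6 := six_le_index h hM
  have hmi := M.card_mul_index
  rw [h] at hmi
  have h9 : 9 ∣ Nat.card M := by
    have := Subgroup.card_dvd_of_le hP
    rwa [(card_sylow3_subgroup h P).1] at this
  have hne : P.subtype hP ≠ Q.subtype hQ := fun he => hPQ (Sylow.subtype_injective he)
  have hn1 : Nat.card (Sylow 3 M) ≠ 1 := by
    intro h1
    have : Subsingleton (Sylow 3 M) := (Nat.card_eq_one_iff_unique.mp h1).1
    exact hne (Subsingleton.elim _ _)
  have hmod := card_sylow_modEq_one 3 M
  have hdvd := Sylow.card_dvd_index (P.subtype hP)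
  have hP'c : Nat.card ((P.subtype hP : Sylow 3 M) : Subgroup M) = 9 := by
    rw [Sylow.coe_subtype, Nat.card_congr (subgroupOfEquivOfLe hP).toEquiv]
    exact (card_sylow3_subgroup h P).1
  have hP'i := ((P.subtype hP : Sylow 3 M) : Subgroup M).card_mul_index
  rw [hP'c] at hP'i
  obtain ⟨k, hk⟩ := h9
  have hidx : ((P.subtype hP : Sylow 3 M) : Subgroup M).index = k := by
    rw [hk] at hP'i
    omega
  rw [hidx] at hdvd
  have hk40 : k * M.index = 40 := by
    rw [hk] at hmi
    nlinarith
  have hk6 : k ≤ 6 := by nlinarith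
  have hkpos : 0 < k := by
    rcases Nat.eq_zero_or_pos k with h0 | h0
    · rw [h0] at hk40; omega
    · exact h0
  have hnle : Nat.card (Sylow 3 M) ≤ k := Nat.le_of_dvd hkpos hdvd
  have hmod' : Nat.card (Sylow 3 M) % 3 = 1 := hmod
  have hk4 : k = 4 ∧ Nat.card (Sylow 3 M) = 4 := by
    generalize Nat.card (Sylow 3 M) = n at *
    have hidx6 : M.index ≤ 40 := by nlinarith
    generalize M.index = j at *
    interval_cases k <;> interval_cases n <;> omega
  obtain ⟨rfl, hn4⟩ := hk4
  have hMc : Nat.card M = 36 := by omega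
  -- the normalizer in `M` of the Sylow subgroup is itself
  have hNc : Nat.card (normalizer (((P.subtype hP : Sylow 3 M) : Subgroup M) : Set M)) = 9 := by
    have := card_normalizer_mul_card_sylow (P.subtype hP : Sylow 3 M)
    rw [hn4, hMc] at this
    omega
  have heq : ((P.subtype hP : Sylow 3 M) : Subgroup M) =
      normalizer (((P.subtype hP : Sylow 3 M) : Subgroup M) : Set M) :=
    Subgroup.eq_of_le_of_card_ge le_normalizer (by rw [hNc, hP'c])
  have hNC : normalizer (((P.subtype hP : Sylow 3 M) : Subgroup M) : Set M) ≤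
      centralizer (((P.subtype hP : Sylow 3 M) : Subgroup M) : Set M) := by
    intro x hx
    rw [← heq] at hx
    rw [mem_centralizer_iff]
    intro y hy
    have hx' : (x : G) ∈ P := by
      rw [Sylow.coe_subtype] at hx
      exact mem_subgroupOf.mp hx
    have hy' : (y : G) ∈ P := by
      have hy2 : y ∈ ((P.subtype hP : Sylow 3 M) : Subgroup M) := hy
      rw [Sylow.coe_subtype] at hy2
      exact mem_subgroupOf.mp hy2
    exact Subtype.ext (sylow3_comm h P hy' hx')
  have hcomp := MonoidHom.ker_transferSylow_isComplement' (P.subtype hP : Sylow 3 M) hNC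
  have hTc : Nat.card (MonoidHom.transferSylow (P.subtype hP : Sylow 3 M) hNC).ker = 4 := by
    have := hcomp.card_mul_card
    rw [hP'c, hMc] at this
    omega
  have hTn : (MonoidHom.transferSylow (P.subtype hP : Sylow 3 M) hNC).ker.Normal :=
    MonoidHom.normal_ker _
  refine no_normal_four h (M := M)
    (T0 := (MonoidHom.transferSylow (P.subtype hP : Sylow 3 M) hNC).ker.map M.subtype) hMc ?_ ?_
  · rw [Subgroup.card_subtype]
    exact hTc
  · have h1 := le_normalizer_map (H := (MonoidHom.transferSylow (P.subtype hP : Sylow 3 M) hNC).ker)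
      M.subtype
    rw [normalizer_eq_top_iff.mpr hTn, ← MonoidHom.range_eq_map, Subgroup.range_subtype] at h1
    exact h1

/-- distinct Sylow 3-subgroups intersect trivially -/
theorem sylow3_inf (h : Nat.card G = 360) {P Q : Sylow 3 G} (hPQ : P ≠ Q) :
    (P : Subgroup G) ⊓ (Q : Subgroup G) = ⊥ := by
  by_contra hD
  set D : Subgroup G := (P : Subgroup G) ⊓ (Q : Subgroup G) with hDdef
  have hPle : (P : Subgroup G) ≤ normalizer (D : Set G) := by
    intro x hx
    rw [mem_normalizer_iff]
    intro g
    constructor
    · intro hg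
      have hgP : g ∈ P := (inf_le_left : D ≤ P) hg
      have : x * g * x⁻¹ = g := by
        rw [sylow3_comm h P hx hgP, mul_inv_cancel_right]
      rwa [this]
    · intro hg
      have hgP : x * g * x⁻¹ ∈ P := (inf_le_left : D ≤ P) hg
      have hgP' : g ∈ P := by
        have hmm := mul_mem (mul_mem (inv_mem hx) hgP) hx
        rw [show x⁻¹ * (x * g * x⁻¹) * x = g by group] at hmm
        exact hmm
      have : x * g * x⁻¹ = g := by
        rw [sylow3_comm h P hx hgP', mul_inv_cancel_right]
      rwa [this] at hg
  have hQle : (Q : Subgroup G) ≤ normalizer (D : Set G) := by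
    intro x hx
    rw [mem_normalizer_iff]
    intro g
    constructor
    · intro hg
      have hgP : g ∈ Q := (inf_le_right : D ≤ Q) hg
      have : x * g * x⁻¹ = g := by
        rw [sylow3_comm h Q hx hgP, mul_inv_cancel_right]
      rwa [this]
    · intro hg
      have hgP : x * g * x⁻¹ ∈ Q := (inf_le_right : D ≤ Q) hg
      have hgP' : g ∈ Q := by
        have hmm := mul_mem (mul_mem (inv_mem hx) hgP) hx
        rw [show x⁻¹ * (x * g * x⁻¹) * x = g by group] at hmm
        exact hmm
      have : x * g * x⁻¹ = g := by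
        rw [sylow3_comm h Q hx hgP', mul_inv_cancel_right]
      rwa [this] at hg
  refine no_two_sylow3_in_proper h (M := normalizer (D : Set G)) ?_ hPQ hPle hQle
  intro htop
  have hn : D.Normal := normalizer_eq_top_iff.mp htop
  rcases hn.eq_bot_or_eq_top with hb | ht
  · exact hD hb
  · have hle : (⊤ : Subgroup G) ≤ P := ht ▸ (inf_le_left : D ≤ P)
    have := Subgroup.card_dvd_of_le hle
    rw [Subgroup.card_top, h, (card_sylow3_subgroup h P).1] at this
    omega

end Cfsg.Agent.Lib.H2.Ord360
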