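import Mathlib
import Cfsg.Agent.Lib.H2.Ord360a

set_option autoImplicit false
set_option linter.unusedSectionVars false

namespace Cfsg.Agent.Lib.H2.Ord360

open Subgroup MulAction Cfsg.Agent.Lib.H5

variable {G : Type*} [Group G] [Finite G] [IsSimpleGroup G]

/-- semiregularity of a Sylow 3-subgroup on the other Sylow 3-subgroups -/
theorem eq_one_of_smul_eq (h : Nat.card G = 360) {P Q : Sylow 3 G} (hPQ : P ≠ Q) {x : G}
    (hx : x ∈ P) (hxQ : x • Q = Q) : x = 1 := by
  have h1 : x ∈ (P : Subgroup G) ⊓ normalizer (Q : Set G) :=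
    ⟨hx, Sylow.smul_eq_iff_mem_normalizer.mp hxQ⟩
  rw [IsPGroup.inf_normalizer_sylow P.2 Q, sylow3_inf h hPQ] at h1
  exact Subgroup.mem_bot.mp h1

theorem smul_self_of_mem {P : Sylow 3 G} {x : G} (hx : x ∈ P) : x • P = P :=
  Sylow.smul_eq_iff_mem_normalizer.mpr (le_normalizer hx)

theorem smul_injOn (h : Nat.card G = 360) {P Q : Sylow 3 G} (hPQ : P ≠ Q) :
    Set.InjOn (fun x : G => x • Q) (P : Set G) := by
  intro x hx y hy hxy
  have hxy' : x • Q = y • Q := hxy
  have h1 : (y⁻¹ * x) • Q = Q := by rw [mul_smul, hxy', inv_smul_smul]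
  have h2 := eq_one_of_smul_eq h hPQ (mul_mem (inv_mem hy) hx) h1
  exact (inv_mul_eq_one.mp h2).symm

theorem smul_ne_self {P Q : Sylow 3 G} (hPQ : P ≠ Q) {x : G} (hx : x ∈ P) : x • Q ≠ P := by
  intro hxQ
  apply hPQ
  have h1 : x⁻¹ • (x • Q) = x⁻¹ • P := by rw [hxQ]
  rw [inv_smul_smul, smul_self_of_mem (inv_mem hx)] at h1
  exact h1.symm

/-- a Sylow 3-subgroup is transitive on the other nine Sylow 3-subgroups -/
theorem exists_mem_smul_eq (h : Nat.card G = 360) {P Q R : Sylow 3 G} (hQ : P ≠ Q) (hR : P ≠ R) :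
    ∃ x ∈ P, x • Q = R := by
  classical
  have hsub : (fun x : G => x • Q) '' (P : Set G) ⊆ ({P} : Set (Sylow 3 G))ᶜ := by
    rintro _ ⟨x, hx, rfl⟩
    simp only [Set.mem_compl_iff, Set.mem_singleton_iff]
    exact smul_ne_self hQ hx
  have hP9 : (P : Set G).ncard = 9 := by
    rw [← (card_sylow3_subgroup h P).1]
    exact (Nat.card_coe_set_eq (P : Set G)).symm
  have hcard : (({P} : Set (Sylow 3 G))ᶜ).ncard ≤ ((fun x : G => x • Q) '' (P : Set G)).ncard := by
    rw [(smul_injOn h hQ).ncard_image, Set.ncard_compl, card_sylow3 h,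
      Set.ncard_singleton, hP9]
  have heq := Set.eq_of_subset_of_ncard_le hsub hcard (Set.toFinite _)
  have hmem : R ∈ ({P} : Set (Sylow 3 G))ᶜ := by
    simp only [Set.mem_compl_iff, Set.mem_singleton_iff]
    exact fun hh => hR hh.symm
  rw [← heq] at hmem
  obtain ⟨x, hx, hxe⟩ := hmem
  exact ⟨x, hx, hxe⟩

theorem two_pretransitive (h : Nat.card G = 360) : IsMultiplyPretransitive G (Sylow 3 G) 2 := by
  rw [is_two_pretransitive_iff]
  intro a b c d hab hcd
  obtain ⟨P⟩ : Nonempty (Sylow 3 G) := inferInstance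
  obtain ⟨g1, hg1⟩ := exists_smul_eq G a P
  obtain ⟨g2, hg2⟩ := exists_smul_eq G c P
  have h1 : P ≠ g1 • b := by
    intro hb
    rw [← hg1] at hb
    exact hab (smul_left_cancel g1 hb)
  have h2 : P ≠ g2 • d := by
    intro hb
    rw [← hg2] at hb
    exact hcd (smul_left_cancel g2 hb)
  obtain ⟨x, hx, hxe⟩ := exists_mem_smul_eq h h1 h2
  refine ⟨g2⁻¹ * x * g1, ?_, ?_⟩
  · rw [mul_smul, mul_smul, hg1, smul_self_of_mem hx, ← hg2, inv_smul_smul]
  · rw [mul_smul, mul_smul, hxe, inv_smul_smul]

theorem card_two_point_stab (h : Nat.card G = 360) {P Q : Sylow 3 G} (hPQ : P ≠ Q) :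
    Nat.card (stabilizer G P ⊓ stabilizer G Q : Subgroup G) = 4 := by
  classical
  have : Fintype (Sylow 3 G) := Fintype.ofFinite _
  have := two_pretransitive h
  have hstab : stabilizer G (Function.Embedding.embFinTwo hPQ) = stabilizer G P ⊓ stabilizer G Q := by
    ext g
    simp only [mem_stabilizer_iff, Subgroup.mem_inf]
    constructor
    · intro hg
      constructor
      · have := congrArg (fun f => f 0) hg
        simpa [Function.Embedding.smul_apply, Function.Embedding.embFinTwo_apply_zero] using this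
      · have := congrArg (fun f => f 1) hg
        simpa [Function.Embedding.smul_apply, Function.Embedding.embFinTwo_apply_one] using this
    · rintro ⟨h1, h2⟩
      refine Function.Embedding.ext fun i => ?_
      fin_cases i
      · rw [Function.Embedding.smul_apply]
        exact h1
      · rw [Function.Embedding.smul_apply]
        exact h2
  have hidx : (stabilizer G (Function.Embedding.embFinTwo hPQ)).index = Nat.card (Fin 2 ↪ Sylow 3 G) :=
    index_stabilizer_of_transitive G _
  have hemb : Nat.card (Fin 2 ↪ Sylow 3 G) = 90 := by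
    rw [Nat.card_eq_fintype_card, Fintype.card_embedding_eq, Fintype.card_fin,
      ← Nat.card_eq_fintype_card, card_sylow3 h]
    decide
  have hmi := (stabilizer G (Function.Embedding.embFinTwo hPQ)).card_mul_index
  rw [hidx, hemb, h, hstab] at hmi
  omega

theorem eq_one_of_forall_smul (h : Nat.card G = 360) {g : G}
    (hg : ∀ R : Sylow 3 G, g • R = R) : g = 1 := by
  obtain ⟨P⟩ : Nonempty (Sylow 3 G) := inferInstance
  rcases (MulAction.toPermHom G (Sylow 3 G)).normal_ker.eq_bot_or_eq_top with hb | ht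
  · have hmem : g ∈ (MulAction.toPermHom G (Sylow 3 G)).ker := by
      rw [MonoidHom.mem_ker]
      refine Equiv.ext fun R => ?_
      exact hg R
    rw [hb] at hmem
    exact Subgroup.mem_bot.mp hmem
  · exfalso
    have htop : normalizer ((P : Subgroup G) : Set G) = ⊤ := by
      rw [eq_top_iff]
      intro x _
      have hx : x ∈ (MulAction.toPermHom G (Sylow 3 G)).ker := ht ▸ Subgroup.mem_top x
      rw [MonoidHom.mem_ker] at hx
      have hxP : x • P = P := by
        have := congrArg (fun σ : Equiv.Perm (Sylow 3 G) => σ P) hx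
        simpa using this
      exact Sylow.smul_eq_iff_mem_normalizer.mp hxP
    have := card_normalizer_sylow3 h P
    rw [htop, Subgroup.card_top, h] at this
    omega

theorem faithful (h : Nat.card G = 360) : FaithfulSMul G (Sylow 3 G) := by
  constructor
  intro g1 g2 hg
  have : g2⁻¹ * g1 = 1 := by
    apply eq_one_of_forall_smul h
    intro R
    rw [mul_smul, hg R, inv_smul_smul]
  exact (inv_mul_eq_one.mp this).symm

theorem sign_toPerm (h : Nat.card G = 360) [Fintype (Sylow 3 G)] [DecidableEq (Sylow 3 G)]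
    (g : G) : Equiv.Perm.sign (MulAction.toPerm g : Equiv.Perm (Sylow 3 G)) = 1 := by
  let ψ : G →* ℤˣ := Equiv.Perm.sign.comp (MulAction.toPermHom G (Sylow 3 G))
  rcases ψ.normal_ker.eq_bot_or_eq_top with hb | ht
  · exfalso
    have hinj : Function.Injective ψ := (MonoidHom.ker_eq_bot_iff ψ).mp hb
    have := Nat.card_le_card_of_injective ψ hinj
    rw [h] at this
    have h2 : Nat.card ℤˣ = 2 := by rw [Nat.card_eq_fintype_card, Fintype.card_units_int]
    omega
  · have : g ∈ ψ.ker := ht ▸ Subgroup.mem_top g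
    exact this

/-- if `i` fixes `P`, `Q` and `x • Q` with `x ∈ P`, then `i` commutes with `x` -/
theorem comm_of_fixed (h : Nat.card G = 360) {P Q : Sylow 3 G} (hPQ : P ≠ Q) {i x : G}
    (hiP : i • P = P) (hiQ : i • Q = Q) (hx : x ∈ P) (hix : i • (x • Q) = x • Q) :
    i * x = x * i := by
  have hiN : i ∈ normalizer ((P : Subgroup G) : Set G) := Sylow.smul_eq_iff_mem_normalizer.mp hiP
  have hx' : i * x * i⁻¹ ∈ (P : Subgroup G) := (mem_normalizer_iff.mp hiN x).mp hx
  have h1 : (x⁻¹ * (i * x * i⁻¹)) • Q = Q := by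
    have h2 : (i * x * i⁻¹) • Q = x • Q := by
      conv_lhs => rw [← hiQ]
      rw [← mul_smul, inv_mul_cancel_right, mul_smul]
      exact hix
    rw [mul_smul, h2, inv_smul_smul]
  have h3 := eq_one_of_smul_eq h hPQ (mul_mem (inv_mem hx) hx') h1
  have h4 : i * x * i⁻¹ = x := (inv_mul_eq_one.mp h3).symm
  calc i * x = i * x * i⁻¹ * i := by group
    _ = x * i := by rw [h4]

/-- an involution fixing two Sylow 3-subgroups centralizes no non-identity element of either -/
theorem centralizer_trivial (h : Nat.card G = 360) {P Q : Sylow 3 G} (hPQ : P ≠ Q) {i : G}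
    (hi1 : i ≠ 1) (hi2 : i * i = 1) (hiP : i • P = P) (hiQ : i • Q = Q) {y : G} (hy : y ∈ P)
    (hc : i * y = y * i) : y = 1 := by
  classical
  have : Fintype (Sylow 3 G) := Fintype.ofFinite _
  set K : Subgroup G := (P : Subgroup G) ⊓ centralizer {i} with hK
  have hyK : y ∈ K := by
    refine Subgroup.mem_inf.mpr ⟨hy, ?_⟩
    rw [mem_centralizer_iff]
    intro z hz
    rw [Set.mem_singleton_iff.mp hz]
    exact hc
  have hKd : Nat.card K ∣ 9 := by
    have := Subgroup.card_dvd_of_le (inf_le_left : K ≤ P)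
    rwa [(card_sylow3_subgroup h P).1] at this
  have hKP : (K : Set G) ⊆ (P : Set G) := fun z hz => hz.1
  have hfix : {R : Sylow 3 G | i • R = R} = insert P ((fun x : G => x • Q) '' (K : Set G)) := by
    ext R
    simp only [Set.mem_ofPred_eq, Set.mem_insert_iff, Set.mem_image]
    constructor
    · intro hR
      by_cases hRP : R = P
      · exact Or.inl hRP
      · right
        obtain ⟨x, hx, hxe⟩ := exists_mem_smul_eq h hPQ (fun hh => hRP hh.symm)
        refine ⟨x, Subgroup.mem_inf.mpr ⟨hx, ?_⟩, hxe⟩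
        rw [mem_centralizer_iff]
        intro z hz
        rw [Set.mem_singleton_iff.mp hz]
        exact comm_of_fixed h hPQ hiP hiQ hx (by rw [hxe]; exact hR)
    · rintro (rfl | ⟨x, hxK, rfl⟩)
      · exact hiP
      · have hxc : i * x = x * i := by
          have := (mem_centralizer_iff.mp hxK.2) i (Set.mem_singleton i)
          exact this
        rw [← mul_smul, hxc, mul_smul, hiQ]
  have hfc : {R : Sylow 3 G | i • R = R}.ncard = Nat.card K + 1 := by
    rw [hfix, Set.ncard_insert_of_notMem, ((smul_injOn h hPQ).mono hKP).ncard_image]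
    · rw [← Nat.card_coe_set_eq]; rfl
    · rintro ⟨x, hxK, hxe⟩
      exact smul_ne_self hPQ hxK.1 hxe
  set σ : Equiv.Perm (Sylow 3 G) := MulAction.toPerm i with hσ
  have hsupp : σ.support.card + (Nat.card K + 1) = 10 := by
    have h1 : (σ.support : Set (Sylow 3 G)) = {R : Sylow 3 G | i • R = R}ᶜ := by
      ext R
      simp [hσ]
    have h2 := Set.ncard_coe_finset σ.support
    rw [h1, Set.ncard_compl, hfc, card_sylow3 h] at h2
    have h3 : {R : Sylow 3 G | i • R = R}.ncard ≤ 10 := by
      rw [← card_sylow3 h, ← Set.ncard_univ]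
      exact Set.ncard_le_ncard (Set.subset_univ _) (Set.toFinite _)
    rw [hfc] at h3
    omega
  have hσ1 : σ ≠ 1 := by
    intro h1
    apply hi1
    apply eq_one_of_forall_smul h
    intro R
    have := congrArg (fun τ : Equiv.Perm (Sylow 3 G) => τ R) h1
    simpa [hσ] using this
  have hσsq : σ ^ 2 = 1 := by
    have h1 : σ ^ 2 = MulAction.toPermHom G (Sylow 3 G) (i ^ 2) := by
      rw [map_pow]
      rfl
    rw [h1, pow_two, hi2, map_one]
  have hσ2 : orderOf σ = 2 := orderOf_eq_prime hσsq hσ1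
  obtain ⟨n, hn⟩ := Equiv.Perm.cycleType_prime_order (σ := σ) (hσ2.symm ▸ Nat.prime_two)
  have hsum := Equiv.Perm.sum_cycleType σ
  rw [hn, hσ2, Multiset.sum_replicate, smul_eq_mul] at hsum
  have hsign := Equiv.Perm.sign_of_cycleType σ
  rw [hn, hσ2, Multiset.sum_replicate, smul_eq_mul, Multiset.card_replicate, hσ,
    sign_toPerm h] at hsign
  have hK1 : Nat.card K = 1 := by
    have hmem : Nat.card K ∈ Nat.divisors 9 := by simp [hKd]
    have hd : Nat.divisors 9 = {1, 3, 9} := by decide
    rw [hd] at hmem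
    simp only [Finset.mem_insert, Finset.mem_singleton] at hmem
    rcases hmem with h1 | h3 | h9
    · exact h1
    · exfalso
      have hn2 : n = 2 := by omega
      rw [hn2] at hsign
      revert hsign
      decide
    · exfalso
      omega
  have hKbot : K = ⊥ := Subgroup.card_eq_one.mp hK1
  rw [hKbot] at hyK
  exact Subgroup.mem_bot.mp hyK

end Cfsg.Agent.Lib.H2.Ord360
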