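import Mathlib
import Cfsg.Agent.Lib.H2.Ord360b
import Cfsg.Agent.Lib.H2.PSLCard
import Cfsg.Agent.S0344
import Cfsg.Agent.S0254

set_option autoImplicit false
set_option linter.unusedSectionVars false

namespace Cfsg.Agent.Lib.H2.Ord360

open Subgroup MulAction Cfsg.Agent.Lib.H5

variable {G : Type*} [Group G] [Finite G] [IsSimpleGroup G]

theorem eq_one_of_three_fixed (h : Nat.card G = 360) {P Q R : Sylow 3 G} (hPQ : P ≠ Q)
    (hQR : Q ≠ R) (hPR : P ≠ R) {g : G} (hP : g • P = P) (hQ : g • Q = Q) (hR : g • R = R) :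
    g = 1 := by
  by_contra hg1
  have hmem : g ∈ stabilizer G P ⊓ stabilizer G Q := Subgroup.mem_inf.mpr ⟨hP, hQ⟩
  have hord : orderOf g ∣ 4 := by
    have := orderOf_dvd_natCard (⟨g, hmem⟩ : (stabilizer G P ⊓ stabilizer G Q : Subgroup G))
    rw [card_two_point_stab h hPQ] at this
    rwa [Subgroup.orderOf_mk] at this
  have h2 : 2 ∣ orderOf g := by
    have hm : orderOf g ∈ Nat.divisors 4 := by simp [hord]
    have hd : Nat.divisors 4 = {1, 2, 4} := by decide
    rw [hd] at hm
    simp only [Finset.mem_insert, Finset.mem_singleton] at hm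
    rcases hm with h1 | h2 | h4
    · exact absurd (orderOf_eq_one_iff.mp h1) hg1
    · rw [h2]
    · rw [h4]; norm_num
  have hpos : orderOf g ≠ 0 := (orderOf_pos g).ne'
  have hio : orderOf (g ^ (orderOf g / 2)) = 2 := orderOf_pow_orderOf_div hpos h2
  set i := g ^ (orderOf g / 2) with hi
  have hiP : i • P = P := (stabilizer G P).pow_mem hP _
  have hiQ : i • Q = Q := (stabilizer G Q).pow_mem hQ _
  have hiR : i • R = R := (stabilizer G R).pow_mem hR _
  have hi1 : i ≠ 1 := by
    intro h1
    rw [h1, orderOf_one] at hio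
    omega
  have hi2 : i * i = 1 := by
    rw [← pow_two, ← hio, pow_orderOf_eq_one]
  obtain ⟨x, hx, hxe⟩ := exists_mem_smul_eq h hPQ hPR
  have hcomm := comm_of_fixed h hPQ hiP hiQ hx (by rw [hxe]; exact hiR)
  have hx1 := centralizer_trivial h hPQ hi1 hi2 hiP hiQ hx hcomm
  rw [hx1, one_smul] at hxe
  exact hQR hxe

theorem isZassenhaus (h : Nat.card G = 360) : Cfsg.IsZassenhausGroup G (Sylow 3 G) := by
  have hcard := card_sylow3 h
  have hex : ∃ P Q : Sylow 3 G, P ≠ Q := by
    have : Nontrivial (Sylow 3 G) := by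
      rw [← Finite.one_lt_card_iff_nontrivial, hcard]
      norm_num
    exact exists_pair_ne _
  obtain ⟨P, Q, hPQ⟩ := hex
  refine ⟨faithful h, two_pretransitive h, ?_, ?_, ?_⟩
  · intro g a b c hab hbc hac ha hb hc
    exact eq_one_of_three_fixed h hab hbc hac ha hb hc
  · have h4 := card_two_point_stab h hPQ
    have hnt : Nontrivial (stabilizer G P ⊓ stabilizer G Q : Subgroup G) := by
      rw [← Finite.one_lt_card_iff_nontrivial, h4]
      norm_num
    obtain ⟨g, hg⟩ := exists_ne (1 : (stabilizer G P ⊓ stabilizer G Q : Subgroup G))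
    refine ⟨g.1, fun h1 => hg (Subtype.ext h1), P, Q, hPQ, ?_, ?_⟩
    · exact (Subgroup.mem_inf.mp g.2).1
    · exact (Subgroup.mem_inf.mp g.2).2
  · intro N hN hNt
    rcases hN.eq_bot_or_eq_top with hb | ht
    · exfalso
      subst hb
      obtain ⟨g, hg⟩ := hNt.exists_smul_eq P Q
      have hg1 : (g : G) = 1 := Subgroup.mem_bot.mp g.2
      have : (g : G) • P = Q := hg
      rw [hg1, one_smul] at this
      exact hPQ this
    · subst ht
      refine ⟨P, ?_⟩
      intro hbot
      have h4 := card_two_point_stab h hPQ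
      have hnt : Nontrivial (stabilizer G P ⊓ stabilizer G Q : Subgroup G) := by
        rw [← Finite.one_lt_card_iff_nontrivial, h4]
        norm_num
      obtain ⟨g, hg⟩ := exists_ne (1 : (stabilizer G P ⊓ stabilizer G Q : Subgroup G))
      have hgP : (g : G) • P = P := (Subgroup.mem_inf.mp g.2).1
      have hmem : (⟨g.1, Subgroup.mem_top _⟩ : (⊤ : Subgroup G)) ∈
          stabilizer (⊤ : Subgroup G) P := by
        rw [mem_stabilizer_iff]
        exact hgP
      rw [hbot, Subgroup.mem_bot] at hmem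
      apply hg
      apply Subtype.ext
      have := congrArg (Subtype.val : (⊤ : Subgroup G) → G) hmem
      exact this

theorem main (h : Nat.card G = 360) : Nonempty (G ≃* alternatingGroup (Fin 6)) := by
  obtain ⟨P, Q, hPQ⟩ : ∃ P Q : Sylow 3 G, P ≠ Q := by
    have : Nontrivial (Sylow 3 G) := by
      rw [← Finite.one_lt_card_iff_nontrivial, card_sylow3 h]
      norm_num
    exact exists_pair_ne _
  have heven : Even (Nat.card (stabilizer G P ⊓ stabilizer G Q : Subgroup G)) := by
    rw [card_two_point_stab h hPQ]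
    decide
  obtain ⟨F, hF, hFt, hq, ⟨e⟩⟩ := Cfsg.Agent.S0344.result (isZassenhaus h) hPQ heven
  have hc : Nat.card (Matrix.ProjectiveSpecialLinearGroup (Fin 2) F) = 360 := by
    rw [← Nat.card_congr e.toEquiv, h]
  have hmul := Cfsg.Agent.Lib.H2.card_PSL2_mul (F := F)
  rw [hc] at hmul
  have hg : Nat.gcd 2 (Fintype.card F - 1) ≤ 2 := Nat.gcd_le_left _ (by norm_num)
  have hq9 : Fintype.card F = 9 := by
    generalize Fintype.card F = q at *
    have hle : q ≤ 9 := by
      by_contra hgt
      push Not at hgt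
      have h1 : 100 ≤ q ^ 2 := by nlinarith
      have h2 : 99 ≤ q ^ 2 - 1 := by omega
      have h3 : 990 ≤ q * (q ^ 2 - 1) := by nlinarith
      nlinarith
    interval_cases q <;> first | rfl | (exfalso; revert hmul; decide)
  obtain ⟨e2⟩ := Cfsg.Agent.S0254.result (F := F) hq9
  exact ⟨e.trans e2⟩

end Cfsg.Agent.Lib.H2.Ord360
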