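/-
helper2: P2-B2 + P2-F1 of the S5630 phase-2 farm-out (helper28, tools/blueprints/P2_sigs.lean).
-/
import Cfsg.Agent.Lib.Lead.AschDefs2
import Cfsg.Agent.Lib.H28.GLBasic

set_option autoImplicit false

namespace Cfsg.Agent.Lib.H2.AschP2

open Cfsg Cfsg.Geo Cfsg.Agent.Lib.Lead.Asch
open scoped MatrixGroups Matrix Kronecker

variable {F : Type*} [Field F] [Fintype F] {n : ℕ}

/-- **P2-F1**.  `n = finrank ⊤ = ∑ finrank (D i) = t * m`. -/
theorem mul_eq_of_isMDecomposition {t m : ℕ} (D : Fin t → Submodule F (Fin n → F))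
    (hD : IsMDecomposition m D) : t * m = n := by
  classical
  have hint := DirectSum.isInternal_submodule_of_iSupIndep_of_iSup_eq_top hD.indep hD.iSup_eq_top
  have b : ∀ i, Module.Basis (Fin m) F (D i) := fun i =>
    Module.finBasisOfFinrankEq F (D i) (hD.finrank_eq i)
  have B := hint.collectedBasis b
  have h1 := Module.finrank_eq_card_basis B
  rw [Module.finrank_fin_fun] at h1
  simp at h1
  omega

/-- **P2-B2**. -/
theorem not_sl_le_decompositionStabilizer {t m : ℕ} (D : Fin t → Submodule F (Fin n → F))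
    (hD : IsMDecomposition m D) : ¬ specialLinear (Fin n) F ≤ decompositionStabilizer D := by
  classical
  intro hle
  have ht := hD.two_le
  set i0 : Fin t := ⟨0, by omega⟩ with hi0
  set i1 : Fin t := ⟨1, by omega⟩ with hi1
  have h01 : i0 ≠ i1 := by
    intro h
    have := congrArg Fin.val h
    simp [hi0, hi1] at this
  have hne : ∀ i, D i ≠ ⊥ := by
    intro i h
    have := hD.finrank_eq i
    rw [h, finrank_bot] at this
    have := hD.pos
    omega
  obtain ⟨a, haD, ha0⟩ := (Submodule.ne_bot_iff _).1 (hne i0)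
  obtain ⟨b, hbD, hb0⟩ := (Submodule.ne_bot_iff _).1 (hne i1)
  have hindep := hD.indep
  -- a ∉ span {b}
  have hdis0 : Disjoint (D i0) (⨆ j, ⨆ (_ : j ≠ i0), D j) := hindep i0
  have hdis1 : Disjoint (D i1) (⨆ j, ⨆ (_ : j ≠ i1), D j) := hindep i1
  have hle1 : D i1 ≤ ⨆ j, ⨆ (_ : j ≠ i0), D j := le_iSup₂_of_le i1 (Ne.symm h01) le_rfl
  have hle0 : D i0 ≤ ⨆ j, ⨆ (_ : j ≠ i1), D j := le_iSup₂_of_le i0 h01 le_rfl
  have hx : a ∉ (⊥ : Submodule F (Fin n → F)) ⊔ Submodule.span F {b} := by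
    rw [bot_sup_eq]
    intro h
    have h2 : a ∈ D i1 := (Submodule.span_singleton_le_iff_mem b (D i1)).2 hbD h
    have := (Submodule.disjoint_def.1 hdis0) a haD (hle1 h2)
    exact ha0 this
  obtain ⟨g, hgSL, -, hga⟩ := Cfsg.Agent.Lib.H28.exists_sl_fix_add (⊥ : Submodule F (Fin n → F)) a b hx
  obtain ⟨σ, hσ⟩ := hle hgSL
  have hmem : a + b ∈ D (σ i0) := by
    rw [← hσ i0, ← hga]
    exact ⟨a, haD, by simp [Matrix.toLin'_apply]⟩
  by_cases hj : σ i0 = i0
  · rw [hj] at hmem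
    have hb' : b ∈ D i0 := by
      have := (D i0).sub_mem hmem haD
      simpa using this
    exact hb0 ((Submodule.disjoint_def.1 hdis1) b hbD (hle0 hb'))
  · have hle2 : D (σ i0) ≤ ⨆ j, ⨆ (_ : j ≠ i0), D j := le_iSup₂_of_le (σ i0) hj le_rfl
    have ha' : a ∈ ⨆ j, ⨆ (_ : j ≠ i0), D j := by
      have := Submodule.sub_mem _ (hle2 hmem) (hle1 hbD)
      simpa using this
    exact ha0 ((Submodule.disjoint_def.1 hdis0) a haD ha')

end Cfsg.Agent.Lib.H2.AschP2
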