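/-
helper2: tools for the unitary phase 2 farm-out of helper15 (tools/blueprints/UP2_sigs.lean):
isotropic vectors span, unitary transvections and their stabiliser conditions.
Form: `B = Bs φ n` (`B u v = Σ v_i φ(u_i) = hermForm n F q v u`), `φ x = x ^ q`.
-/
import Cfsg.Agent.Lib.H11.SuPar1
import Cfsg.Agent.Lib.H10.SuB
import Cfsg.Agent.Lib.H2.HermCount
import Cfsg.Agent.Lib.H2.SuSubFF
import Cfsg.Agent.Lib.H4.Herm

set_option autoImplicit false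

namespace Cfsg.Agent.Lib.H2.UP2

open Matrix
open Cfsg.Agent.S0837 (Bs Bs_apply Bs_symm Bs_nondeg)
open Cfsg.Agent.S0782 (Bs_eq_herm)
open Cfsg.Agent.Lib.H11.SuSp (tv tv_val tv_mulVec tv_mem_GU tv_mem_SL)
open Cfsg.Agent.Lib.H10.Su (yv yv_iso B_symm')

variable {F : Type*} [Field F] [Fintype F] {n q : ℕ}

/-- the Frobenius `x ↦ x ^ q` with all the facts we use -/
theorem exists_phi (hF : Fintype.card F = q ^ 2) :
    ∃ φ : F →+* F, (∀ x, φ x = x ^ q) ∧ (∀ x, φ (φ x) = x) ∧ φ ≠ RingHom.id F := by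
  obtain ⟨φ, hφ, hφ2⟩ := Cfsg.Agent.Lib.H4.exists_frob hF
  exact ⟨φ, hφ, hφ2, Cfsg.Agent.S0837.phi_ne_id φ hF hφ⟩

section phi
variable {φ : F →+* F}

theorem exists_moved (hφne : φ ≠ RingHom.id F) : ∃ ω : F, φ ω ≠ ω := by
  by_contra hcon
  push Not at hcon
  exact hφne (RingHom.ext hcon)

/-- two distinct elements of norm `-1` -/
theorem exists_two_norm (hφ : ∀ x, φ x = x ^ q) (hφ2 : ∀ x, φ (φ x) = x)
    (hφne : φ ≠ RingHom.id F) :
    ∃ ζ₁ ζ₂ : F, ζ₁ * φ ζ₁ = -1 ∧ ζ₂ * φ ζ₂ = -1 ∧ ζ₁ ≠ ζ₂ := by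
  obtain ⟨ω, hω⟩ := exists_moved hφne
  obtain ⟨ζ₁, ζ₂, -, -, -, -, h1, h2, -, h12, -, -⟩ :=
    Cfsg.Agent.Lib.H2.SuSub.exists_three_norm (F₀ := (⊤ : Subfield F)) φ hφ2 hφ
      (Subfield.mem_top ω) hω
  exact ⟨ζ₁, ζ₂, h1, h2, h12⟩

/-- a non-zero skew element -/
theorem exists_skew (hφ2 : ∀ x, φ (φ x) = x) (hφne : φ ≠ RingHom.id F) :
    ∃ c : F, c ≠ 0 ∧ c + φ c = 0 :=
  Cfsg.Agent.Lib.H11.SuPar.exists_tz_ne hφne hφ2

/-- the isotropic vectors span the space -/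
theorem span_iso (hφ : ∀ x, φ x = x ^ q) (hφ2 : ∀ x, φ (φ x) = x) (hφne : φ ≠ RingHom.id F)
    (hn : 2 ≤ n) : Submodule.span F {v : Fin n → F | Bs φ n v v = 0} = ⊤ := by
  classical
  obtain ⟨ζ₁, ζ₂, h1, h2, h12⟩ := exists_two_norm hφ hφ2 hφne
  set S := Submodule.span F {v : Fin n → F | Bs φ n v v = 0} with hS
  have hsingle : ∀ j : Fin n, (Pi.single j 1 : Fin n → F) ∈ S := by
    intro j
    obtain ⟨i, hij⟩ : ∃ i : Fin n, i ≠ j := by
      by_cases hj : j = ⟨0, by omega⟩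
      · refine ⟨⟨1, by omega⟩, ?_⟩
        rw [hj]; intro h; simp [Fin.ext_iff] at h
      · exact ⟨⟨0, by omega⟩, fun h => hj h.symm⟩
    have m1 : yv i j ζ₁ ∈ S := Submodule.subset_span (yv_iso φ hij h1)
    have m2 : yv i j ζ₂ ∈ S := Submodule.subset_span (yv_iso φ hij h2)
    have hd : ζ₁ - ζ₂ ≠ 0 := sub_ne_zero.2 h12
    have e : (Pi.single j 1 : Fin n → F) = (ζ₁ - ζ₂)⁻¹ • (yv i j ζ₁ - yv i j ζ₂) := by
      unfold yv
      rw [add_sub_add_left_eq_sub, ← sub_smul, smul_smul, inv_mul_cancel₀ hd, one_smul]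
    rw [e]
    exact S.smul_mem _ (S.sub_mem m1 m2)
  rw [eq_top_iff]
  intro x _
  have : x = ∑ j, x j • (Pi.single j 1 : Fin n → F) := by
    funext k
    simp [Finset.sum_apply, Pi.single_apply]
  rw [this]
  exact S.sum_mem fun j _ => S.smul_mem _ (hsingle j)

/-- an isotropic vector outside a proper subspace -/
theorem exists_iso_notMem (hφ : ∀ x, φ x = x ^ q) (hφ2 : ∀ x, φ (φ x) = x)
    (hφne : φ ≠ RingHom.id F) (hn : 2 ≤ n) (U : Submodule F (Fin n → F)) (hU : U ≠ ⊤) :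
    ∃ v : Fin n → F, Bs φ n v v = 0 ∧ v ∉ U := by
  by_contra hcon
  push Not at hcon
  apply hU
  rw [eq_top_iff, ← span_iso hφ hφ2 hφne hn, Submodule.span_le]
  intro v hv
  exact hcon v hv

/-- `v + c v'` can be made isotropic with `c ≠ 0` -/
theorem exists_iso_combo (hφ2 : ∀ x, φ (φ x) = x) (hφne : φ ≠ RingHom.id F) {v v' : Fin n → F}
    (hv : Bs φ n v v = 0) (hv' : Bs φ n v' v' = 0) :
    ∃ c : F, c ≠ 0 ∧ Bs φ n (v + c • v') (v + c • v') = 0 := by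
  have hsym : Bs φ n v' v = φ (Bs φ n v v') := (B_symm' φ hφ2 v v').symm
  have key : ∀ c : F, Bs φ n (v + c • v') (v + c • v') =
      c * Bs φ n v v' + φ (c * Bs φ n v v') := by
    intro c
    simp only [map_add, map_smulₛₗ, LinearMap.add_apply, LinearMap.smul_apply,
      smul_eq_mul, hv, hv', hsym, mul_zero, add_zero, zero_add, map_mul, RingHom.id_apply]
    ring
  by_cases hβ : Bs φ n v v' = 0
  · refine ⟨1, one_ne_zero, ?_⟩
    rw [key, hβ, mul_zero, map_zero, add_zero]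
  · obtain ⟨s, hs0, hs⟩ := exists_skew hφ2 hφne
    refine ⟨s / Bs φ n v v', div_ne_zero hs0 hβ, ?_⟩
    rw [key, div_mul_cancel₀ _ hβ]
    exact hs

/-- norm surjectivity onto the fixed field -/
theorem exists_norm_eq (hF : Fintype.card F = q ^ 2) (hφ : ∀ x, φ x = x ^ q) (κ : F) (hκ0 : κ ≠ 0)
    (hκ : φ κ = κ) : ∃ c : F, c ≠ 0 ∧ c * φ c = κ := by
  have h1 := Cfsg.Agent.Lib.H2.Herm.card_N_fiber hF κ hκ0 (by rw [← hφ]; exact hκ)
  have hne : Nonempty {x : F // Cfsg.Agent.Lib.H2.Herm.N q x = κ} := by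
    apply (Nat.card_pos_iff.1 (by rw [h1]; omega)).1
  obtain ⟨⟨c, hc⟩⟩ := hne
  unfold Cfsg.Agent.Lib.H2.Herm.N at hc
  refine ⟨c, ?_, by rw [hφ]; exact hc⟩
  rintro rfl
  rw [zero_mul] at hc
  exact hκ0 hc.symm

end phi

end Cfsg.Agent.Lib.H2.UP2
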