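/-
helper2: task UP2-B1 of the unitary phase 2 farm-out (helper15, tools/blueprints/UP2_sigs.lean):
`SU_n(q)` stabilises no proper non-zero subspace.
-/
import Cfsg.Agent.Lib.H2.UP2Tools

set_option autoImplicit false

namespace Cfsg.Agent.Lib.H2.UP2

open Cfsg Cfsg.Geo
open scoped MatrixGroups Matrix
open Cfsg.Agent.S0837 (Bs Bs_apply Bs_symm Bs_nondeg)
open Cfsg.Agent.Lib.H11.SuSp (tv tv_val tv_mulVec tv_mem_GU tv_mem_SL)
open Cfsg.Agent.Lib.H10.Su (B_symm')
open Cfsg.Agent.Lib.H28 (mem_subspaceStabilizer_iff)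

variable {F : Type*} [Field F] [Fintype F] {n q : ℕ}

/-- **UP2-B1**. -/
theorem not_su_le_subspaceStabilizer (hF : Fintype.card F = q ^ 2) (hn : 3 ≤ n)
    (W : Submodule F (Fin n → F)) (h0 : W ≠ ⊥) (h1 : W ≠ ⊤) :
    ¬ GU n F q ⊓ specialLinear (Fin n) F ≤ subspaceStabilizer W := by
  classical
  intro hle
  obtain ⟨φ, hφ, hφ2, hφne⟩ := exists_phi hF
  obtain ⟨c, hc0, hc⟩ := exists_skew hφ2 hφne
  set Wp : Submodule F (Fin n → F) := W.orthogonalBilin (Bs φ n) with hWp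
  -- every isotropic vector lies in `W` or in its orthogonal
  have key : ∀ v : Fin n → F, Bs φ n v v = 0 → v ∈ W ∨ v ∈ Wp := by
    intro v hv
    by_cases h : ∀ w ∈ W, Bs φ n v w = 0
    · right
      intro w hw
      rw [← B_symm' φ hφ2 v w, h w hw, map_zero]
    · left
      push Not at h
      obtain ⟨w, hw, hvw⟩ := h
      have hmem : tv φ hφ hφ2 v c hv hc ∈ subspaceStabilizer W :=
        hle (Subgroup.mem_inf.2 ⟨tv_mem_GU hφ hφ2 v c hv hc, tv_mem_SL hφ hφ2 v c hv hc⟩)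
      rw [mem_subspaceStabilizer_iff] at hmem
      have h2 := (hmem w).1 hw
      rw [tv_mulVec] at h2
      have h3 : (c * Bs φ n v w) • v ∈ W := by
        have := W.sub_mem h2 hw
        simpa using this
      have hne : c * Bs φ n v w ≠ 0 := mul_ne_zero hc0 hvw
      have := W.smul_mem (c * Bs φ n v w)⁻¹ h3
      rwa [smul_smul, inv_mul_cancel₀ hne, one_smul] at this
  have hWp_ne : Wp ≠ ⊤ := by
    intro htop
    obtain ⟨w, hw, hw0⟩ := (Submodule.ne_bot_iff _).1 h0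
    apply hw0
    apply (Bs_nondeg φ n).1 w
    intro y
    have : y ∈ Wp := by rw [htop]; exact Submodule.mem_top
    exact this w hw
  obtain ⟨v₁, hv₁, hv₁W⟩ := exists_iso_notMem hφ hφ2 hφne (by omega) Wp hWp_ne
  obtain ⟨v₂, hv₂, hv₂W⟩ := exists_iso_notMem hφ hφ2 hφne (by omega) W h1
  have m1 : v₁ ∈ W := (key v₁ hv₁).resolve_right hv₁W
  have m2 : v₂ ∈ Wp := (key v₂ hv₂).resolve_left hv₂W
  have h12 : Bs φ n v₁ v₂ = 0 := m2 v₁ m1
  have h21 : Bs φ n v₂ v₁ = 0 := by rw [← B_symm' φ hφ2 v₁ v₂, h12, map_zero]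
  have hsum : Bs φ n (v₁ + v₂) (v₁ + v₂) = 0 := by
    simp only [map_add, LinearMap.add_apply, hv₁, hv₂, h12, h21, add_zero]
  rcases key _ hsum with h | h
  · apply hv₂W
    have := W.sub_mem h m1
    simpa using this
  · apply hv₁W
    have := Wp.sub_mem h m2
    simpa using this

end Cfsg.Agent.Lib.H2.UP2
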