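/-
helper2: task UP2-B2 of the unitary phase 2 farm-out (helper15, tools/blueprints/UP2_sigs.lean):
`SU_n(q)` stabilises no decomposition into blocks of dimension at least 2.
-/
import Cfsg.Agent.Lib.H2.UP2Tools

set_option autoImplicit false

namespace Cfsg.Agent.Lib.H2.UP2

open Cfsg Cfsg.Geo
open scoped MatrixGroups Matrix
open Cfsg.Agent.S0837 (Bs Bs_apply Bs_symm Bs_nondeg)
open Cfsg.Agent.Lib.H11.SuSp (tv tv_val tv_mulVec tv_mem_GU tv_mem_SL)
open Cfsg.Agent.Lib.H10.Su (B_symm')

variable {F : Type*} [Field F] [Fintype F] {n q : ℕ}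

/-- members of different blocks: the sum is in a block only if one of them vanishes -/
theorem indep_aux {t : ℕ} {D : Fin t → Submodule F (Fin n → F)} (hindep : iSupIndep D)
    {i l : Fin t} (hli : l ≠ i) {y z : Fin n → F} (hy : y ∈ D i)
    (hz : z ∈ ⨆ m, ⨆ (_ : m ≠ i), D m) (hyz : y + z ∈ D l) : y = 0 := by
  have hle : D l ≤ ⨆ m, ⨆ (_ : m ≠ i), D m := le_iSup₂_of_le l hli le_rfl
  have h1 : y ∈ ⨆ m, ⨆ (_ : m ≠ i), D m := by
    have := Submodule.sub_mem _ (hle hyz) hz
    simpa using this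
  exact (Submodule.disjoint_def.1 (hindep i)) y hy h1

theorem mem_iSup_ne {t : ℕ} {D : Fin t → Submodule F (Fin n → F)} {i j : Fin t} (hji : j ≠ i)
    {z : Fin n → F} (hz : z ∈ D j) : z ∈ ⨆ m, ⨆ (_ : m ≠ i), D m :=
  (le_iSup₂_of_le j hji le_rfl : D j ≤ ⨆ m, ⨆ (_ : m ≠ i), D m) hz

/-- **UP2-B2** (blocks of dimension ≥ 2). -/
theorem not_su_le_decompositionStabilizer (hF : Fintype.card F = q ^ 2) (hn : 3 ≤ n) {t k : ℕ}
    (D : Fin t → Submodule F (Fin n → F)) (hD : IsMDecomposition k D) (hk : 2 ≤ k) :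
    ¬ GU n F q ⊓ specialLinear (Fin n) F ≤ decompositionStabilizer D := by
  classical
  intro hle
  obtain ⟨φ, hφ, hφ2, hφne⟩ := exists_phi hF
  obtain ⟨c, hc0, hc⟩ := exists_skew hφ2 hφne
  have hindep := hD.indep
  have ht := hD.two_le
  have hdisj : ∀ i j : Fin t, i ≠ j → ∀ y, y ∈ D i → y ∈ D j → y = 0 := by
    intro i j hij y hyi hyj
    have := indep_aux hindep (Ne.symm hij) hyi (Submodule.zero_mem _) (by rw [add_zero]; exact hyj)
    exact this
  -- every isotropic vector lies in a block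
  have key : ∀ v : Fin n → F, Bs φ n v v = 0 → ∃ i, v ∈ D i := by
    intro v hv
    by_contra hcon
    push Not at hcon
    have hv0 : v ≠ 0 := by
      rintro rfl
      exact hcon ⟨0, by omega⟩ (Submodule.zero_mem _)
    -- a block not orthogonal to `v`
    have hex : ∃ i, ∃ x ∈ D i, Bs φ n v x ≠ 0 := by
      by_contra hno
      push Not at hno
      apply hv0
      apply (Bs_nondeg φ n).1 v
      intro y
      have hle' : iSup D ≤ LinearMap.ker (Bs φ n v) := by
        apply iSup_le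
        intro i x hx
        rw [LinearMap.mem_ker]
        exact hno i x hx
      have : y ∈ iSup D := by rw [hD.iSup_eq_top]; exact Submodule.mem_top
      exact LinearMap.mem_ker.1 (hle' this)
    obtain ⟨i, x, hx, hvx⟩ := hex
    have hmem : tv φ hφ hφ2 v c hv hc ∈ decompositionStabilizer D :=
      hle (Subgroup.mem_inf.2 ⟨tv_mem_GU hφ hφ2 v c hv hc, tv_mem_SL hφ hφ2 v c hv hc⟩)
    obtain ⟨σ, hσ⟩ := hmem
    have hmap : ∀ y ∈ D i, (tv φ hφ hφ2 v c hv hc).1 *ᵥ y ∈ D (σ i) := by
      intro y hy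
      rw [← hσ i]
      exact ⟨y, hy, by simp [Matrix.toLin'_apply]⟩
    by_cases hσi : σ i = i
    · have h2 := hmap x hx
      rw [hσi, tv_mulVec] at h2
      have h3 : (c * Bs φ n v x) • v ∈ D i := by
        have := (D i).sub_mem h2 hx
        simpa using this
      have hne : c * Bs φ n v x ≠ 0 := mul_ne_zero hc0 hvx
      have := (D i).smul_mem (c * Bs φ n v x)⁻¹ h3
      rw [smul_smul, inv_mul_cancel₀ hne, one_smul] at this
      exact hcon i this
    · -- a non-zero vector of `D i` orthogonal to `v`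
      let L : ↥(D i) →ₗ[F] F := (Bs φ n v).comp (D i).subtype
      have hker : LinearMap.ker L ≠ ⊥ := by
        apply LinearMap.ker_ne_bot_of_finrank_lt
        rw [hD.finrank_eq i, Module.finrank_self]
        omega
      obtain ⟨y, hy, hy0⟩ := (Submodule.ne_bot_iff _).1 hker
      have hy1 : Bs φ n v y.1 = 0 := LinearMap.mem_ker.1 hy
      have h2 := hmap y.1 y.2
      rw [tv_mulVec, hy1, mul_zero, zero_smul, add_zero] at h2
      apply hy0
      apply Subtype.ext
      exact hdisj i (σ i) (Ne.symm hσi) y.1 y.2 h2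
  -- two isotropic vectors in different blocks
  obtain ⟨v, hv, hv0⟩ := exists_iso_notMem hφ hφ2 hφne (by omega) (⊥ : Submodule F (Fin n → F))
    (by
      intro h
      have h1 : Module.finrank F (⊥ : Submodule F (Fin n → F)) = n := by
        rw [h, finrank_top, Module.finrank_fin_fun]
      rw [finrank_bot] at h1
      omega)
  rw [Submodule.mem_bot] at hv0
  obtain ⟨i, hvi⟩ := key v hv
  have hDi : D i ≠ ⊤ := by
    intro htop
    obtain ⟨j, hji⟩ : ∃ j : Fin t, j ≠ i := by
      by_cases hi : i = ⟨0, by omega⟩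
      · refine ⟨⟨1, by omega⟩, ?_⟩
        rw [hi]; intro h; simp [Fin.ext_iff] at h
      · exact ⟨⟨0, by omega⟩, fun h => hi h.symm⟩
    have hne : D j ≠ ⊥ := by
      intro h
      have := hD.finrank_eq j
      rw [h, finrank_bot] at this
      omega
    obtain ⟨y, hy, hy0⟩ := (Submodule.ne_bot_iff _).1 hne
    exact hy0 (hdisj j i hji y hy (by rw [htop]; exact Submodule.mem_top))
  obtain ⟨v', hv', hv'i⟩ := exists_iso_notMem hφ hφ2 hφne (by omega) (D i) hDi
  obtain ⟨j, hv'j⟩ := key v' hv'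
  have hji : j ≠ i := by
    rintro rfl
    exact hv'i hv'j
  have hv'0 : v' ≠ 0 := by
    rintro rfl
    exact hv'i (Submodule.zero_mem _)
  obtain ⟨a, ha0, ha⟩ := exists_iso_combo hφ2 hφne hv hv'
  obtain ⟨l, hl⟩ := key _ ha
  by_cases hli : l = i
  · -- then `a • v'` lies in `D i`
    have h1 : a • v' ∈ D i := by
      have := (D i).sub_mem (hli ▸ hl) hvi
      simpa using this
    have h2 : a • v' = 0 := hdisj j i hji _ ((D j).smul_mem a hv'j) h1
    rcases smul_eq_zero.1 h2 with h | h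
    · exact ha0 h
    · exact hv'0 h
  · exact hv0 (indep_aux hindep hli hvi (mem_iSup_ne hji ((D j).smul_mem a hv'j)) hl)

end Cfsg.Agent.Lib.H2.UP2
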