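/-
helper2: task UP2-B2' of the unitary phase 2 farm-out (helper15, tools/blueprints/UP2_sigs.lean):
`SU_n(q)`, `n ≥ 4`, stabilises no orthogonal frame of non-degenerate lines.
-/
import Cfsg.Agent.Lib.H2.UP2B2
import Cfsg.Agent.Lib.H2.AschP2B2F1

set_option autoImplicit false

namespace Cfsg.Agent.Lib.H2.UP2

open Cfsg Cfsg.Geo
open scoped MatrixGroups Matrix
open Cfsg.Agent.S0837 (Bs Bs_apply Bs_symm Bs_nondeg)
open Cfsg.Agent.S0782 (Bs_eq_herm)
open Cfsg.Agent.Lib.H11.SuSp (tv tv_val tv_mulVec tv_mem_GU tv_mem_SL)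
open Cfsg.Agent.Lib.H10.Su (B_symm')

variable {F : Type*} [Field F] [Fintype F] {n q : ℕ}

/-- `x + c y` is isotropic when `N(c) = -B(x,x)/B(y,y)` and `x ⟂ y` -/
theorem iso_pair {φ : F →+* F} {x y : Fin n → F} {c : F}
    (hxy : Bs φ n x y = 0) (hyx : Bs φ n y x = 0) (hy : Bs φ n y y ≠ 0)
    (hc : c * φ c = -(Bs φ n x x) / Bs φ n y y) :
    Bs φ n (x + c • y) (x + c • y) = 0 := by
  simp only [map_add, map_smulₛₗ, LinearMap.add_apply, LinearMap.smul_apply, smul_eq_mul,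
    hxy, hyx, mul_zero, add_zero, zero_add]
  have : c * φ c * Bs φ n y y = -(Bs φ n x x) := by rw [hc]; field_simp
  linear_combination this

/-- **UP2-B2'** (orthogonal frame of `n ≥ 4` non-degenerate lines). -/
theorem not_su_le_decompositionStabilizer_one (hF : Fintype.card F = q ^ 2) (hn : 4 ≤ n) {t : ℕ}
    (D : Fin t → Submodule F (Fin n → F))
    (hD : IsNondegenerateMDecomposition (hermForm n F q) 1 D) :
    ¬ GU n F q ⊓ specialLinear (Fin n) F ≤ decompositionStabilizer D := by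
  classical
  intro hle
  obtain ⟨φ, hφ, hφ2, hφne⟩ := exists_phi hF
  obtain ⟨a, ha0, ha⟩ := exists_skew hφ2 hφne
  have hindep := hD.decomp.indep
  have htn : t = n := by
    have := Cfsg.Agent.Lib.H2.AschP2.mul_eq_of_isMDecomposition D hD.decomp
    omega
  -- generators of the lines
  have hx : ∀ i, ∃ x ∈ D i, x ≠ 0 := by
    intro i
    have hne : D i ≠ ⊥ := by
      intro h
      have := hD.decomp.finrank_eq i
      rw [h, finrank_bot] at this
      omega
    exact (Submodule.ne_bot_iff _).1 hne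
  choose x hxD hx0 using hx
  have hβ : ∀ i, Bs φ n (x i) (x i) ≠ 0 := by
    intro i
    obtain ⟨⟨y, hyD, hy⟩, -⟩ := hD.nondegenerate i (x i) (hxD i) (hx0 i)
    have h1 := (finrank_eq_one_iff_of_nonzero' (⟨x i, hxD i⟩ : ↥(D i))
      (fun h => hx0 i (congrArg Subtype.val h))).1 (hD.decomp.finrank_eq i) ⟨y, hyD⟩
    obtain ⟨b, hb⟩ := h1
    have hb' : b • x i = y := congrArg Subtype.val hb
    rw [← hb', Cfsg.Agent.Lib.H4.hermForm_smul_left] at hy
    rw [Bs_eq_herm φ hφ]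
    exact right_ne_zero_of_mul hy
  have horth : ∀ i j, i ≠ j → Bs φ n (x i) (x j) = 0 := by
    intro i j hij
    rw [Bs_eq_herm φ hφ]
    exact hD.orthogonal j i (Ne.symm hij) (x j) (hxD j) (x i) (hxD i)
  have hfix : ∀ i, φ (Bs φ n (x i) (x i)) = Bs φ n (x i) (x i) := fun i => B_symm' φ hφ2 _ _
  -- four indices
  set i0 : Fin t := ⟨0, by omega⟩ with hi0
  set i1 : Fin t := ⟨1, by omega⟩ with hi1
  set i2 : Fin t := ⟨2, by omega⟩ with hi2
  set i3 : Fin t := ⟨3, by omega⟩ with hi3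
  have h01 : i0 ≠ i1 := by rw [hi0, hi1]; intro h; simp [Fin.ext_iff] at h
  have h02 : i0 ≠ i2 := by rw [hi0, hi2]; intro h; simp [Fin.ext_iff] at h
  have h03 : i0 ≠ i3 := by rw [hi0, hi3]; intro h; simp [Fin.ext_iff] at h
  have h12 : i1 ≠ i2 := by rw [hi1, hi2]; intro h; simp [Fin.ext_iff] at h
  have h13 : i1 ≠ i3 := by rw [hi1, hi3]; intro h; simp [Fin.ext_iff] at h
  have h23 : i2 ≠ i3 := by rw [hi2, hi3]; intro h; simp [Fin.ext_iff] at h
  -- the coefficients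
  have hκ : ∀ i j, ∃ c : F, c ≠ 0 ∧ c * φ c = -(Bs φ n (x i) (x i)) / Bs φ n (x j) (x j) := by
    intro i j
    apply exists_norm_eq hF hφ
    · exact div_ne_zero (neg_ne_zero.2 (hβ i)) (hβ j)
    · rw [map_div₀, map_neg, hfix, hfix]
  obtain ⟨c1, hc10, hc1⟩ := hκ i0 i1
  obtain ⟨c2, hc20, hc2⟩ := hκ i2 i3
  set u1 : Fin n → F := x i0 + c1 • x i1 with hu1
  set u2 : Fin n → F := x i2 + c2 • x i3 with hu2
  have hu1i : Bs φ n u1 u1 = 0 := iso_pair (horth _ _ h01) (horth _ _ h01.symm) (hβ i1) hc1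
  have hu2i : Bs φ n u2 u2 = 0 := iso_pair (horth _ _ h23) (horth _ _ h23.symm) (hβ i3) hc2
  have hu12 : Bs φ n u1 u2 = 0 := by
    simp only [hu1, hu2, map_add, map_smulₛₗ, LinearMap.add_apply, LinearMap.smul_apply,
      smul_eq_mul, horth _ _ h02, horth _ _ h03, horth _ _ h12, horth _ _ h13, mul_zero, add_zero]
  have hu21 : Bs φ n u2 u1 = 0 := by rw [← B_symm' φ hφ2 u1 u2, hu12, map_zero]
  set v : Fin n → F := u1 + u2 with hv
  have hvi : Bs φ n v v = 0 := by
    simp only [hv, map_add, LinearMap.add_apply, hu1i, hu2i, hu12, hu21, add_zero]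
  have hvx0 : Bs φ n v (x i0) = Bs φ n (x i0) (x i0) := by
    simp only [hv, hu1, hu2, map_add, map_smulₛₗ, LinearMap.add_apply, LinearMap.smul_apply,
      smul_eq_mul, horth _ _ h01.symm, horth _ _ h02.symm, horth _ _ h03.symm, mul_zero, add_zero]
  -- the transvection
  have hmem : tv φ hφ hφ2 v a hvi ha ∈ decompositionStabilizer D :=
    hle (Subgroup.mem_inf.2 ⟨tv_mem_GU hφ hφ2 v a hvi ha, tv_mem_SL hφ hφ2 v a hvi ha⟩)
  obtain ⟨σ, hσ⟩ := hmem
  have himg : (tv φ hφ hφ2 v a hvi ha).1 *ᵥ x i0 ∈ D (σ i0) := by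
    rw [← hσ i0]
    exact ⟨x i0, hxD i0, by simp [Matrix.toLin'_apply]⟩
  rw [tv_mulVec, hvx0] at himg
  set lam : F := a * Bs φ n (x i0) (x i0) with hlam
  have hlam0 : lam ≠ 0 := mul_ne_zero ha0 (hβ i0)
  by_cases hl : σ i0 = i2
  · -- then `σ i0 ≠ i1`
    have hl1 : σ i0 ≠ i1 := by rw [hl]; exact h12.symm
    have hz : x i0 + lam • x i0 + lam • x i2 + (lam * c2) • x i3 ∈ ⨆ m, ⨆ (_ : m ≠ i1), D m := by
      refine Submodule.add_mem _ (Submodule.add_mem _ (Submodule.add_mem _ ?_ ?_) ?_) ?_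
      · exact mem_iSup_ne h01 (hxD i0)
      · exact mem_iSup_ne h01 ((D i0).smul_mem _ (hxD i0))
      · exact mem_iSup_ne h12.symm ((D i2).smul_mem _ (hxD i2))
      · exact mem_iSup_ne h13.symm ((D i3).smul_mem _ (hxD i3))
    have hy : (lam * c1) • x i1 ∈ D i1 := (D i1).smul_mem _ (hxD i1)
    have hsum : (lam * c1) • x i1 + (x i0 + lam • x i0 + lam • x i2 + (lam * c2) • x i3) ∈
        D (σ i0) := by
      convert himg using 1
      rw [hv, hu1, hu2]
      module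
    have := indep_aux hindep hl1 hy hz hsum
    rcases smul_eq_zero.1 this with h | h
    · exact mul_ne_zero hlam0 hc10 h
    · exact hx0 i1 h
  · have hz : x i0 + lam • x i0 + (lam * c1) • x i1 + (lam * c2) • x i3 ∈
        ⨆ m, ⨆ (_ : m ≠ i2), D m := by
      refine Submodule.add_mem _ (Submodule.add_mem _ (Submodule.add_mem _ ?_ ?_) ?_) ?_
      · exact mem_iSup_ne h02 (hxD i0)
      · exact mem_iSup_ne h02 ((D i0).smul_mem _ (hxD i0))
      · exact mem_iSup_ne h12 ((D i1).smul_mem _ (hxD i1))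
      · exact mem_iSup_ne h23.symm ((D i3).smul_mem _ (hxD i3))
    have hy : lam • x i2 ∈ D i2 := (D i2).smul_mem _ (hxD i2)
    have hsum : lam • x i2 + (x i0 + lam • x i0 + (lam * c1) • x i1 + (lam * c2) • x i3) ∈
        D (σ i0) := by
      convert himg using 1
      rw [hv, hu1, hu2]
      module
    have := indep_aux hindep hl hy hz hsum
    rcases smul_eq_zero.1 this with h | h
    · exact hlam0 h
    · exact hx0 i2 h

end Cfsg.Agent.Lib.H2.UP2
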