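/-
helper2: piece UM83-X of the S5663 UM8 farm-out (helper16, tools/blueprints/S5663_UM8_sigs.lean):
a perfect group of isometries of a non-degenerate hermitian form on F_4^3 is trivial.
-/
import Cfsg.Agent.Lib.H29.HermF4
import Cfsg.Agent.Lib.H25.AschUT5a
import Cfsg.Agent.S0282

set_option autoImplicit false

namespace Cfsg.Agent.Lib.H2.Asch

open Cfsg Cfsg.Geo
open scoped MatrixGroups Matrix
open Cfsg.Agent.Lib.H29.HermF4

section
variable {F : Type*} [Field F] [Fintype F]

/-- orthonormal families of any admissible length -/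
theorem um83x_exists_orthonormal {κ : Type*} [Fintype κ] {f : (κ → F) → (κ → F) → F}
    (hf : IsHerm f) (hF : Fintype.card F = 4)
    (hnd : ∀ v : κ → F, v ≠ 0 → ∃ x, f x v ≠ 0) :
    ∀ k, k ≤ Fintype.card κ →
      ∃ zs : Fin k → κ → F, ∀ i j, f (zs i) (zs j) = if i = j then 1 else 0 := by
  intro k
  induction k with
  | zero => intro _; exact ⟨Fin.elim0, fun i => i.elim0⟩
  | succ k ih =>
    intro hk
    obtain ⟨zs, hon⟩ := ih (by omega)
    obtain ⟨z, hzz, hz1, hz2⟩ := hf.exists_orthonormal_next hF hnd zs hon (by omega)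
    refine ⟨Fin.cons z zs, ?_⟩
    intro i j
    refine Fin.cases ?_ (fun i' => ?_) i <;> refine Fin.cases ?_ (fun j' => ?_) j
    · simp [hzz]
    · simp [hz1, (Fin.succ_ne_zero j').symm]
    · simp [hz2, Fin.succ_ne_zero i']
    · simp [hon, Fin.succ_inj]

/-- the sesquilinear form with Gram matrix `B` -/
def um83x_form {n : ℕ} (B : Matrix (Fin n) (Fin n) F) (u v : Fin n → F) : F :=
  u ⬝ᵥ (B *ᵥ (fun i => (v i) ^ 2))

theorem um83x_isHerm (hF : Fintype.card F = 4) {n : ℕ} (B : Matrix (Fin n) (Fin n) F)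
    (hherm : (B.map (· ^ 2))ᵀ = B) : IsHerm (um83x_form B) := by
  have hB : ∀ i j, (B j i) ^ 2 = B i j := fun i j => by
    have := congrFun (congrFun hherm i) j
    simpa using this
  refine ⟨?_, ?_, ?_⟩
  · intro x y v; unfold um83x_form; rw [add_dotProduct]
  · intro c x v; unfold um83x_form; rw [smul_dotProduct, smul_eq_mul]
  · intro v w
    unfold um83x_form
    simp only [dotProduct, Matrix.mulVec]
    rw [f4_sum_sq hF]
    simp only [mul_pow, f4_sum_sq hF, ← pow_mul, hB]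
    have h4 : ∀ x : F, x ^ (2 * 2) = x := fun x => f4_pow4 hF x
    simp only [h4, Finset.mul_sum]
    rw [Finset.sum_comm]
    refine Finset.sum_congr rfl fun i _ => Finset.sum_congr rfl fun j _ => ?_
    ring

theorem um83x_nondeg {n : ℕ} (B : Matrix (Fin n) (Fin n) F) (hB : IsUnit B.det) :
    ∀ v : Fin n → F, v ≠ 0 → ∃ x, um83x_form B x v ≠ 0 := by
  intro v hv
  by_contra hcon
  push Not at hcon
  apply hv
  have h1 : B *ᵥ (fun i => (v i) ^ 2) = 0 := by
    apply dotProduct_eq_zero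
    intro w
    rw [dotProduct_comm]
    exact hcon w
  have h2 := Matrix.eq_zero_of_mulVec_eq_zero hB.ne_zero h1
  funext i
  have := congrFun h2 i
  simpa using this


/-- conjugating a group preserving the hermitian Gram matrix `Qᵀ Q^σ` into `GU` -/
theorem um83x_conj_pres {n : ℕ} (σ : F →+* F) (hσ : ∀ x, σ x = x ^ 2)
    (P Q s B : Matrix (Fin n) (Fin n) F) (hPQ : P * Q = 1)
    (hgram : Pᵀ * B * P.map σ = 1) (hs : sᵀ * B * s.map σ = B) (u v : Fin n → F) :
    hermForm n F 2 ((Q * s * P) *ᵥ u) ((Q * s * P) *ᵥ v) = hermForm n F 2 u v := by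
  have hB : B = Qᵀ * Q.map σ := by
    have h1 : Qᵀ * Pᵀ = 1 := by rw [← Matrix.transpose_mul, hPQ, Matrix.transpose_one]
    have h2 : P.map σ * Q.map σ = 1 := by
      rw [← Matrix.map_mul, hPQ]
      exact Matrix.map_one σ σ.map_zero σ.map_one
    calc B = (Qᵀ * Pᵀ) * B * (P.map σ * Q.map σ) := by rw [h1, h2, Matrix.one_mul, Matrix.mul_one]
      _ = Qᵀ * (Pᵀ * B * P.map σ) * Q.map σ := by simp only [Matrix.mul_assoc]
      _ = Qᵀ * Q.map σ := by rw [hgram, Matrix.mul_one]
  have hg : Cfsg.Agent.Lib.H25.Asch.gramP σ (Q * s * P) = 1 := by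
    unfold Cfsg.Agent.Lib.H25.Asch.gramP
    rw [Matrix.transpose_mul, Matrix.transpose_mul, Matrix.map_mul, Matrix.map_mul]
    calc Pᵀ * (sᵀ * Qᵀ) * (Q.map σ * s.map σ * P.map σ)
        = Pᵀ * (sᵀ * (Qᵀ * Q.map σ) * s.map σ) * P.map σ := by simp only [Matrix.mul_assoc]
      _ = 1 := by rw [← hB, hs, hgram]
  rw [Cfsg.Agent.Lib.H25.Asch.hermForm_mulVec σ hσ, hg, Matrix.one_mulVec]
  simp only [hermForm, dotProduct, hσ]

/-- **UM83-X**.  Over the field with 4 elements a perfect group of isometries of a non-degenerate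
hermitian form in dimension 3 is trivial. -/
theorem bot_of_perfect_unitary_three_two (hF : Fintype.card F = 4)
    (S : Subgroup (GL (Fin 3) F)) (hperf : ⁅S, S⁆ = S)
    (B : Matrix (Fin 3) (Fin 3) F) (hB : IsUnit B.det) (hherm : (B.map (· ^ 2))ᵀ = B)
    (hinv : ∀ s ∈ S, (s : Matrix (Fin 3) (Fin 3) F)ᵀ * B *
      (s : Matrix (Fin 3) (Fin 3) F).map (· ^ 2) = B) :
    S = ⊥ := by
  classical
  have two : (2 : F) = 0 := by
    have := f4_two hF
    rw [← this]; norm_num
  have : CharP F 2 := CharTwo.of_one_ne_zero_of_two_eq_zero one_ne_zero two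
  set σ : F →+* F := frobenius F 2 with hσdef
  have hσ : ∀ x, σ x = x ^ 2 := fun x => frobenius_def 2 x
  have hmap : ∀ M : Matrix (Fin 3) (Fin 3) F, M.map (· ^ 2) = M.map σ := by
    intro M; ext i j; simp [hσ]
  -- the orthonormal basis
  obtain ⟨zs, hon⟩ := um83x_exists_orthonormal (um83x_isHerm hF B hherm) hF (um83x_nondeg B hB) 3
    (by simp)
  set P : Matrix (Fin 3) (Fin 3) F := (Matrix.of zs)ᵀ with hP
  have hgram : Pᵀ * B * P.map σ = 1 := by
    ext i j
    have := hon i j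
    rw [Matrix.one_apply, ← this, Matrix.mul_assoc]
    simp only [um83x_form, dotProduct, Matrix.mulVec, Matrix.mul_apply, hP, Matrix.transpose_apply,
      Matrix.of_apply, Matrix.map_apply, hσ]
  have hdetP : P.det ≠ 0 := by
    intro h0
    have := congrArg Matrix.det hgram
    rw [Matrix.det_mul, Matrix.det_mul, Matrix.det_transpose, h0, zero_mul, zero_mul,
      Matrix.det_one] at this
    exact zero_ne_one this
  set Pu : GL (Fin 3) F := Matrix.GeneralLinearGroup.mkOfDetNeZero P hdetP with hPu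
  have hPuv : (Pu : Matrix (Fin 3) (Fin 3) F) = P := rfl
  have hPQ : P * ((Pu⁻¹ : GL (Fin 3) F) : Matrix (Fin 3) (Fin 3) F) = 1 := by
    rw [← hPuv, ← Units.val_mul, mul_inv_cancel, Units.val_one]
  -- determinants
  have hdet : ∀ s ∈ S, (s : Matrix (Fin 3) (Fin 3) F).det = 1 := by
    have hle : S ≤ (Matrix.GeneralLinearGroup.det : GL (Fin 3) F →* Fˣ).ker := by
      rw [← hperf, Subgroup.commutator_le]
      intro g₁ _ g₂ _
      rw [MonoidHom.mem_ker, map_commutatorElement, commutatorElement_eq_one_iff_commute]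
      exact Commute.all _ _
    intro s hs
    have := hle hs
    rw [MonoidHom.mem_ker] at this
    have h2 := congrArg (fun u : Fˣ => (u : F)) this
    simpa using h2
  -- the homomorphism into `SU`
  have hval : ∀ s : GL (Fin 3) F, ((Pu⁻¹ * s * Pu : GL (Fin 3) F) : Matrix (Fin 3) (Fin 3) F) =
      ((Pu⁻¹ : GL (Fin 3) F) : Matrix (Fin 3) (Fin 3) F) * (s : Matrix (Fin 3) (Fin 3) F) * P := by
    intro s; rw [Units.val_mul, Units.val_mul, hPuv]
  have hdet' : ∀ s : ↥S, ((Pu⁻¹ * (s : GL (Fin 3) F) * Pu : GL (Fin 3) F) :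
      Matrix (Fin 3) (Fin 3) F).det = 1 := by
    intro s
    rw [Units.val_mul, Units.val_mul, Matrix.det_mul, Matrix.det_mul, hdet s.1 s.2, mul_one,
      ← Matrix.det_mul, ← Units.val_mul, inv_mul_cancel, Units.val_one, Matrix.det_one]
  have hpres : ∀ s : ↥S, (⟨((Pu⁻¹ * (s : GL (Fin 3) F) * Pu : GL (Fin 3) F) :
      Matrix (Fin 3) (Fin 3) F), hdet' s⟩ : Matrix.SpecialLinearGroup (Fin 3) F) ∈ SU 3 F 2 := by
    intro s u v
    show hermForm 3 F 2 (((Pu⁻¹ * (s : GL (Fin 3) F) * Pu : GL (Fin 3) F) :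
      Matrix (Fin 3) (Fin 3) F) *ᵥ u) (((Pu⁻¹ * (s : GL (Fin 3) F) * Pu : GL (Fin 3) F) :
      Matrix (Fin 3) (Fin 3) F) *ᵥ v) = hermForm 3 F 2 u v
    rw [hval]
    refine um83x_conj_pres σ hσ P _ _ B hPQ hgram ?_ u v
    rw [← hmap]
    exact hinv s.1 s.2
  let ψ : ↥S →* ↥(SU 3 F 2) :=
    { toFun := fun s => ⟨⟨_, hdet' s⟩, hpres s⟩
      map_one' := by
        apply Subtype.ext; apply Subtype.ext
        show ((Pu⁻¹ * ((1 : ↥S) : GL (Fin 3) F) * Pu : GL (Fin 3) F) :
          Matrix (Fin 3) (Fin 3) F) = 1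
        rw [Subgroup.coe_one, mul_one, inv_mul_cancel, Units.val_one]
      map_mul' := by
        intro s t
        apply Subtype.ext; apply Subtype.ext
        show ((Pu⁻¹ * ((s * t : ↥S) : GL (Fin 3) F) * Pu : GL (Fin 3) F) :
          Matrix (Fin 3) (Fin 3) F) =
          ((Pu⁻¹ * (s : GL (Fin 3) F) * Pu : GL (Fin 3) F) : Matrix (Fin 3) (Fin 3) F) *
          ((Pu⁻¹ * (t : GL (Fin 3) F) * Pu : GL (Fin 3) F) : Matrix (Fin 3) (Fin 3) F)
        rw [← Units.val_mul, Subgroup.coe_mul]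
        congr 1
        group }
  have hψinj : Function.Injective ψ := by
    intro s t hst
    have h1 : ((Pu⁻¹ * (s : GL (Fin 3) F) * Pu : GL (Fin 3) F) : Matrix (Fin 3) (Fin 3) F) =
        ((Pu⁻¹ * (t : GL (Fin 3) F) * Pu : GL (Fin 3) F) : Matrix (Fin 3) (Fin 3) F) :=
      congrArg (fun x : ↥(SU 3 F 2) => (x.1.1 : Matrix (Fin 3) (Fin 3) F)) hst
    have h2 : Pu⁻¹ * (s : GL (Fin 3) F) * Pu = Pu⁻¹ * (t : GL (Fin 3) F) * Pu := Units.ext h1
    exact Subtype.ext (mul_left_cancel (mul_right_cancel h2))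
  -- `S` is perfect as a group
  have hcomm : commutator ↥S = ⊤ := by
    apply Subgroup.map_injective S.subtype_injective
    rw [Subgroup.map_subtype_commutator, hperf, ← MonoidHom.range_eq_map, Subgroup.range_subtype]
  have hder : ∀ k, derivedSeries ↥S k = ⊤ := by
    intro k
    induction k with
    | zero => rfl
    | succ k ih => rw [derivedSeries_succ, ih, ← commutator_def, hcomm]
  -- the image in `PSU` is trivial
  have hsol : Group.IsSolvable (PSU 3 F 2) := (Cfsg.Agent.S0282.result hF).2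
  obtain ⟨k, hk⟩ := hsol.solvable
  let θ : ↥S →* PSU 3 F 2 := (QuotientGroup.mk' (Subgroup.center ↥(SU 3 F 2))).comp ψ
  have hθ : ∀ s : ↥S, θ s = 1 := by
    intro s
    have h1 := map_derivedSeries_le_derivedSeries θ k
    rw [hder, hk] at h1
    have h2 : θ s ∈ (⊤ : Subgroup ↥S).map θ := Subgroup.mem_map_of_mem θ (Subgroup.mem_top s)
    exact (Subgroup.mem_bot).1 (h1 h2)
  have hcent : ∀ s : ↥S, ψ s ∈ Subgroup.center ↥(SU 3 F 2) := by
    intro s
    have := hθ s
    rwa [MonoidHom.comp_apply, QuotientGroup.mk'_apply, QuotientGroup.eq_one_iff] at this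
  -- hence `S` is commutative
  have hab : ∀ s t : ↥S, s * t = t * s := by
    intro s t
    apply hψinj
    rw [map_mul, map_mul]
    exact ((Subgroup.mem_center_iff.1 (hcent t)) (ψ s))
  rw [← hperf, Subgroup.commutator_eq_bot_iff_le_centralizer]
  intro s hs
  rw [Subgroup.mem_centralizer_iff]
  intro t ht
  have := hab ⟨t, ht⟩ ⟨s, hs⟩
  exact congrArg Subtype.val this

end

end Cfsg.Agent.Lib.H2.Asch
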