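import Mathlib
import Cfsg.Prelude.Def_LieExceptional
import Cfsg.Agent.Lib.H2.SzMult3
import Cfsg.Agent.S0331

set_option autoImplicit false
set_option linter.unusedSimpArgs false
set_option linter.unusedSectionVars false

/-!
# Suzuki groups: finite stem extensions of `Sz(q)`, `q ≥ 32`, are trivial
-/

namespace Cfsg.Agent.Lib.H2.Sz

open Matrix Cfsg Projectivization MulAction
open scoped commutatorElement
open Cfsg.Agent.Lib.H2.Stem

variable {F : Type*} [Field F] {m : ℕ} [Fintype F]

/-- every finite stem extension of `Sz(q)`, `q ≥ 32`, has trivial kernel -/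
theorem stem_ker_eq_bot (hm : 2 ≤ m) (hF : Fintype.card F = 2 ^ (2 * m + 1))
    {Γ : Type*} [Group Γ] [Finite Γ] (σ : Γ →* Sz F m) (hσ : Function.Surjective σ)
    (hK : σ.ker ≤ Subgroup.center Γ) (hK' : σ.ker ≤ commutator Γ) : σ.ker = ⊥ := by
  have h := fld_of_card hF
  have hm1 : 1 ≤ m := by omega
  rw [eq_bot_iff]
  intro z hz
  rw [Subgroup.mem_bot]
  by_contra hne
  have hzc := hK hz
  have hz' := hK' hz
  have hord : orderOf z ≠ 1 := fun h1 => hne (orderOf_eq_one_iff.1 h1)
  obtain ⟨p, hp, hpz⟩ := Nat.exists_prime_and_dvd hord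
  have : Fact p.Prime := ⟨hp⟩
  by_cases hp2 : p = 2
  · -- the prime 2
    subst hp2
    set H : Subgroup Γ := (TS h).comap σ with hH
    have h1 := pow_index_mem_commutator H hzc hz'
    have h2 := pow_eq_one_of_mem_commutator h σ hσ hK hm hF h1 (Subgroup.pow_mem _ hzc _)
    rw [← pow_mul] at h2
    have h3 : orderOf z ∣ H.index * (Fintype.card F - 1) := orderOf_dvd_of_pow_eq_one h2
    have h4 : H.index = (TS h).index := Subgroup.index_comap_of_surjective _ hσ
    have h5 : ¬ 2 ∣ (TS h).index := (sylowTS h hm1 hF).not_dvd_index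
    have h6 : ¬ 2 ∣ Fintype.card F - 1 := by
      rw [hF]
      have : 2 ∣ 2 ^ (2 * m + 1) := dvd_pow_self 2 (by omega)
      have hpos : 0 < 2 ^ (2 * m + 1) := by positivity
      omega
    rw [h4] at h3
    exact (Nat.Prime.dvd_mul Nat.prime_two).not.2 (not_or.2 ⟨h5, h6⟩) (hpz.trans h3)
  · -- odd primes
    obtain ⟨S⟩ : Nonempty (Sylow p (Sz F m)) := inferInstance
    have hcyc : IsCyclic S := Cfsg.Agent.S0331.result hm1 hF hp2 S
    set H : Subgroup Γ := (S : Subgroup (Sz F m)).comap σ with hH
    have hab : ∀ a ∈ H, ∀ b ∈ H, a * b = b * a := by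
      intro a ha b hb
      have hker : (σ.subgroupComap (S : Subgroup (Sz F m))).ker ≤ Subgroup.center H := by
        intro x hx
        rw [Subgroup.mem_center_iff]
        intro g
        apply Subtype.ext
        have hx' : (x : Γ) ∈ σ.ker := by
          rw [MonoidHom.mem_ker] at hx ⊢
          exact congrArg Subtype.val hx
        have := hK hx'
        rw [Subgroup.mem_center_iff] at this
        exact this g
      have hcm := (σ.subgroupComap (S : Subgroup (Sz F m))).isMulCommutative_of_isCyclic_of_ker_le_center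
        hker
      have := hcm.is_comm.comm (⟨a, ha⟩ : H) ⟨b, hb⟩
      exact congrArg Subtype.val this
    have h1 := pow_index_eq_one H hab hzc hz'
    have h3 : orderOf z ∣ H.index := orderOf_dvd_of_pow_eq_one h1
    have h4 : H.index = (S : Subgroup (Sz F m)).index := Subgroup.index_comap_of_surjective _ hσ
    rw [h4] at h3
    exact S.not_dvd_index (hpz.trans h3)

end Cfsg.Agent.Lib.H2.Sz
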