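import Mathlib

set_option autoImplicit false

/-!
# Recognition of the dihedral and quaternion groups of order eight
-/

namespace Cfsg.Agent.Lib.H2.L34

section rec8

variable {Γ : Type*} [Group Γ]

theorem pow_val_add' {n : ℕ} [NeZero n] (a : Γ) (ha : a ^ n = 1) (i j : ZMod n) :
    a ^ (i + j).val = a ^ i.val * a ^ j.val := by
  rw [ZMod.val_add, ← pow_add, ← pow_eq_pow_mod _ ha]

theorem pow_val_neg' {n : ℕ} [NeZero n] (a : Γ) (ha : a ^ n = 1) (i : ZMod n) :
    a ^ (-i).val = (a ^ i.val)⁻¹ := by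
  rw [eq_inv_iff_mul_eq_one, ← pow_val_add' a ha, neg_add_cancel, ZMod.val_zero, pow_zero]

theorem pow_mul_refl (a b : Γ) (hab : b * a * b⁻¹ = a⁻¹) (k : ℕ) :
    a ^ k * b = b * (a ^ k)⁻¹ := by
  have h1 : b * a ^ k * b⁻¹ = (a ^ k)⁻¹ := by
    rw [← conj_pow, hab, inv_pow]
  have h2 : b * (a ^ k)⁻¹ * b⁻¹ = a ^ k := by
    calc b * (a ^ k)⁻¹ * b⁻¹ = (b * a ^ k * b⁻¹)⁻¹ := by group
      _ = a ^ k := by rw [h1, inv_inv]
  calc a ^ k * b = (b * (a ^ k)⁻¹ * b⁻¹) * b := by rw [h2]
    _ = b * (a ^ k)⁻¹ := by group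

theorem pow_lt_four {a : Γ} (ha4 : a ^ 4 = 1) (ha2 : a ^ 2 ≠ 1) :
    ∀ k : ℕ, k < 4 → a ^ k = 1 → k = 0 := by
  intro k hk h
  interval_cases k
  · rfl
  · exfalso; apply ha2; rw [pow_one] at h; rw [h, one_pow]
  · exact absurd h ha2
  · exfalso
    apply ha2
    have h1 : a = 1 := by
      have : a ^ 4 = a ^ 3 * a := pow_succ a 3
      rw [ha4, h, one_mul] at this
      exact this.symm
    rw [h1, one_pow]

/-- the reflection is not a rotation -/
theorem refl_ne_pow {a b : Γ} (ha2 : a ^ 2 ≠ 1) (hab : b * a * b⁻¹ = a⁻¹) (k : ℕ) :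
    b * a ^ k ≠ 1 := by
  intro h1
  have h2 : b = (a ^ k)⁻¹ := eq_inv_of_mul_eq_one_left h1
  apply ha2
  have h3 : b * a * b⁻¹ = a := by
    rw [h2, inv_inv]
    have hc : Commute (a ^ k) a := (Commute.refl a).pow_left _
    rw [mul_assoc, ← hc.eq, inv_mul_cancel_left]
  rw [hab] at h3
  have : a * a = 1 := by
    nth_rewrite 1 [← h3]
    exact inv_mul_cancel a
  rw [sq, this]

/-- recognition of the dihedral group of order eight -/
theorem d8_of (hcard : Nat.card Γ = 8) (a b : Γ) (ha4 : a ^ 4 = 1) (ha2 : a ^ 2 ≠ 1)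
    (hb : b * b = 1) (hab : b * a * b⁻¹ = a⁻¹) : Nonempty (Γ ≃* DihedralGroup 4) := by
  let f : DihedralGroup 4 → Γ := fun x =>
    match x with
    | DihedralGroup.r i => a ^ i.val
    | DihedralGroup.sr i => b * a ^ i.val
  have hfr : ∀ i, f (DihedralGroup.r i) = a ^ i.val := fun _ => rfl
  have hfs : ∀ i, f (DihedralGroup.sr i) = b * a ^ i.val := fun _ => rfl
  have hcomm : ∀ i j : ℕ, a ^ j * (a ^ i)⁻¹ = (a ^ i)⁻¹ * a ^ j := fun i j =>
    (((Commute.refl a).pow_pow j i).inv_right).eq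
  have hmul : ∀ x y, f (x * y) = f x * f y := by
    intro x y
    rcases x with i | i <;> rcases y with j | j
    · rw [DihedralGroup.r_mul_r, hfr, hfr, hfr, pow_val_add' a ha4]
    · rw [DihedralGroup.r_mul_sr, hfr, hfs, hfs, sub_eq_add_neg, pow_val_add' a ha4,
        pow_val_neg' a ha4]
      have h1 : a ^ i.val * (b * a ^ j.val) = b * ((a ^ i.val)⁻¹ * a ^ j.val) := by
        rw [← mul_assoc, pow_mul_refl a b hab, mul_assoc]
      rw [h1, hcomm]
    · rw [DihedralGroup.sr_mul_r, hfr, hfs, hfs, pow_val_add' a ha4, mul_assoc]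
    · rw [DihedralGroup.sr_mul_sr, hfr, hfs, hfs, sub_eq_add_neg, pow_val_add' a ha4,
        pow_val_neg' a ha4]
      have h1 : b * a ^ i.val * (b * a ^ j.val) = b * (a ^ i.val * b) * a ^ j.val := by group
      rw [h1, pow_mul_refl a b hab, ← mul_assoc, hb, one_mul, hcomm]
  let F : DihedralGroup 4 →* Γ := MonoidHom.mk' f hmul
  have hinj : Function.Injective F := by
    rw [injective_iff_map_eq_one]
    intro x hx
    rcases x with i | i
    · have h1 : a ^ i.val = 1 := hx
      have h2 := pow_lt_four ha4 ha2 _ (ZMod.val_lt i) h1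
      have h3 : i = 0 := (ZMod.val_eq_zero i).mp h2
      rw [h3]
      rfl
    · exact absurd hx (refl_ne_pow ha2 hab _)
  have hbij : Function.Bijective F := by
    have : Finite Γ := Nat.finite_of_card_ne_zero (by rw [hcard]; norm_num)
    rw [Nat.bijective_iff_injective_and_card]
    exact ⟨hinj, by rw [DihedralGroup.nat_card, hcard]⟩
  exact ⟨(MulEquiv.ofBijective F hbij).symm⟩

/-- recognition of the quaternion group of order eight -/
theorem q8_of (hcard : Nat.card Γ = 8) (a b : Γ) (ha4 : a ^ 4 = 1) (ha2 : a ^ 2 ≠ 1)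
    (hb : b * b = a ^ 2) (hab : b * a * b⁻¹ = a⁻¹) : Nonempty (Γ ≃* QuaternionGroup 2) := by
  have ha4' : a ^ (2 * 2) = 1 := ha4
  let f : QuaternionGroup 2 → Γ := fun x =>
    match x with
    | QuaternionGroup.a i => a ^ i.val
    | QuaternionGroup.xa i => b * a ^ i.val
  have hfr : ∀ i, f (QuaternionGroup.a i) = a ^ i.val := fun _ => rfl
  have hfs : ∀ i, f (QuaternionGroup.xa i) = b * a ^ i.val := fun _ => rfl
  have hcomm : ∀ i j : ℕ, a ^ j * (a ^ i)⁻¹ = (a ^ i)⁻¹ * a ^ j := fun i j =>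
    (((Commute.refl a).pow_pow j i).inv_right).eq
  have h2val : (((2 : ℕ) : ZMod (2 * 2))).val = 2 := by decide
  have hmul : ∀ x y, f (x * y) = f x * f y := by
    intro x y
    rcases x with i | i <;> rcases y with j | j
    · rw [QuaternionGroup.a_mul_a, hfr, hfr, hfr, pow_val_add' a ha4']
    · rw [QuaternionGroup.a_mul_xa, hfr, hfs, hfs, sub_eq_add_neg, pow_val_add' a ha4',
        pow_val_neg' a ha4']
      have h1 : a ^ i.val * (b * a ^ j.val) = b * ((a ^ i.val)⁻¹ * a ^ j.val) := by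
        rw [← mul_assoc, pow_mul_refl a b hab, mul_assoc]
      rw [h1, hcomm]
    · rw [QuaternionGroup.xa_mul_a, hfr, hfs, hfs, pow_val_add' a ha4', mul_assoc]
    · rw [QuaternionGroup.xa_mul_xa, hfr, hfs, hfs, sub_eq_add_neg, pow_val_add' a ha4',
        pow_val_add' a ha4', pow_val_neg' a ha4', h2val]
      have h1 : b * a ^ i.val * (b * a ^ j.val) = b * (a ^ i.val * b) * a ^ j.val := by group
      rw [h1, pow_mul_refl a b hab, ← mul_assoc, hb, mul_assoc, mul_assoc, hcomm]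
  let F : QuaternionGroup 2 →* Γ := MonoidHom.mk' f hmul
  have hinj : Function.Injective F := by
    rw [injective_iff_map_eq_one]
    intro x hx
    rcases x with i | i
    · have h1 : a ^ i.val = 1 := hx
      have h2 := pow_lt_four ha4 ha2 _ (ZMod.val_lt i) h1
      have h3 : i = 0 := (ZMod.val_eq_zero i).mp h2
      rw [h3]
      rfl
    · exact absurd hx (refl_ne_pow ha2 hab _)
  have hbij : Function.Bijective F := by
    have : Finite Γ := Nat.finite_of_card_ne_zero (by rw [hcard]; norm_num)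
    rw [Nat.bijective_iff_injective_and_card]
    refine ⟨hinj, ?_⟩
    rw [Nat.card_eq_fintype_card, QuaternionGroup.card, hcard]
  exact ⟨(MulEquiv.ofBijective F hbij).symm⟩

end rec8

end Cfsg.Agent.Lib.H2.L34
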