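import Mathlib

set_option autoImplicit false

/-!
# S2479, piece P02: determinant of a diagonal endomorphism of a finite dependent product
-/

namespace Cfsg.Agent.Lib.H2.SLK

universe u

/-- the determinant of a block diagonal matrix with blocks of varying sizes -/
theorem det_blockDiagonal'_eq {ι : Type*} [Fintype ι] [DecidableEq ι] {m' : ι → Type*}
    [∀ i, Fintype (m' i)] [∀ i, DecidableEq (m' i)] {R : Type*} [CommRing R]
    (d : ∀ i, Matrix (m' i) (m' i) R) :
    (Matrix.blockDiagonal' d).det = ∏ i, (d i).det := by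
  classical
  let _ : LinearOrder ι := LinearOrder.lift' (Fintype.equivFin ι) (Equiv.injective _)
  rw [(Matrix.blockTriangular_blockDiagonal' d).det_fintype]
  refine Finset.prod_congr rfl (fun k _ => ?_)
  let e : m' k ≃ {a : (i : ι) × m' i // a.1 = k} :=
    { toFun := fun x => ⟨⟨k, x⟩, rfl⟩
      invFun := fun a => a.2 ▸ a.1.2
      left_inv := fun x => rfl
      right_inv := by
        rintro ⟨⟨i, x⟩, h⟩
        cases h
        rfl }
  rw [← Matrix.det_submatrix_equiv_self e]
  congr 1
  ext x y
  simp [Matrix.toSquareBlock_def, Matrix.blockDiagonal'_apply, e]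

variable {F : Type u} [Field F]

/-- DETPI : determinant of a "diagonal" endomorphism of a finite dependent product -/
theorem det_pi_dep {ι : Type*} [Fintype ι] (M : ι → Type*) [∀ i, AddCommGroup (M i)]
    [∀ i, Module F (M i)] [∀ i, Module.Finite F (M i)] (f : ∀ i, M i →ₗ[F] M i) :
    LinearMap.det (LinearMap.pi (fun i => (f i).comp (LinearMap.proj i)) :
      (∀ i, M i) →ₗ[F] (∀ i, M i)) = ∏ i, LinearMap.det (f i) := by
  classical
  let b : ∀ i, Module.Basis (Fin (Module.finrank F (M i))) F (M i) := fun i => Module.finBasis F (M i)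
  let B := Pi.basis b
  rw [← LinearMap.det_toMatrix B]
  have hmat : LinearMap.toMatrix B B
      (LinearMap.pi (fun i => (f i).comp (LinearMap.proj i)) : (∀ i, M i) →ₗ[F] (∀ i, M i)) =
      Matrix.blockDiagonal' (fun i => LinearMap.toMatrix (b i) (b i) (f i)) := by
    ext ⟨i, a⟩ ⟨j, c⟩
    rw [LinearMap.toMatrix_apply, Matrix.blockDiagonal'_apply]
    simp only [B, Pi.basis_apply, Pi.basis_repr]
    by_cases h : i = j
    · subst h
      simp [LinearMap.toMatrix_apply]
    · rw [dif_neg h]
      simp [LinearMap.pi_apply, Pi.single_eq_of_ne h]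
  rw [hmat, det_blockDiagonal'_eq]
  refine Finset.prod_congr rfl ?_
  intro i _
  rw [LinearMap.det_toMatrix]

end Cfsg.Agent.Lib.H2.SLK
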