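import Mathlib
import Cfsg.Agent.Lib.H7.T648Defs
import Cfsg.Agent.Lib.H7.T648Model
import Cfsg.Agent.Lib.H18.L648Defs

/-!
# S3702 (helper18's side), piece MONO-P: `MonoOK (mP k)`

`B = {x | x.p 0 = 0 ∧ x.a = 1}`; on `B` the coordinate `v 0` is additive and `lg4` is a homomorphism
to `ℤ/4` (finite check on the sign/permutation data).
-/

set_option autoImplicit false

namespace Cfsg.Agent.Lib.H2.L648

open Cfsg Cfsg.Agent.Lib.H7.T648 Cfsg.Agent.Lib.H18 Cfsg.Agent.Lib.H18.L648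

/-- the finite check: `lg4` is additive mod 4 on the sign/permutation data of `B` -/
theorem lg4_data : ∀ (b : ℤˣ) (p : Equiv.Perm (Fin 3)) (b' : ℤˣ) (p' : Equiv.Perm (Fin 3)),
    p 0 = 0 → p' 0 = 0 →
    ((if p * p' = 1 then 0 else 1) + 2 * ng (sgf 1 b p (p' 1) * b')) % 4 =
      (((if p = 1 then 0 else 1) + 2 * ng b) + ((if p' = 1 then 0 else 1) + 2 * ng b')) % 4 := by
  decide

theorem mP_P_iff (k : ℕ) (x : M648) : (mP k).P x = true ↔ x.p 0 = 0 ∧ x.a = 1 := by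
  simp [mP]

theorem lg4_mul (x y : M648) (hx : x.p 0 = 0 ∧ x.a = 1) (hy : y.p 0 = 0 ∧ y.a = 1) :
    lg4 (x * y) % 4 = (lg4 x + lg4 y) % 4 := by
  have h := lg4_data x.b x.p y.b y.p hx.1 hy.1
  unfold lg4
  rw [M648.mul_p, M648.mul_b]
  have : x.sg (y.p 1) = sgf 1 x.b x.p (y.p 1) := by
    unfold M648.sg; rw [hx.2]
  rw [this]
  exact h

theorem v0_mul (x y : M648) (hx : x.p 0 = 0 ∧ x.a = 1) (hy : y.p 0 = 0 ∧ y.a = 1) :
    ((x * y).v 0).val % 3 = ((x.v 0).val + (y.v 0).val) % 3 := by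
  have h1 : (x * y).v 0 = y.v 0 + x.v 0 := by
    rw [M648.mul_v, hy.1]
    have : x.sz 0 = 1 := by
      unfold M648.sz M648.sg sgf
      rw [hx.2]; simp
    rw [this, one_mul]
  rw [h1, ZMod.val_add]
  simp [Nat.add_comm]

theorem countP_mP_aux :
    Kl.countP (fun x => decide (x.p 0 = 0) && decide (x.a = 1)) = 4 := by decide

theorem countP_mP (k : ℕ) : Kl.countP (fun x => (mP k).P x) = (mP k).sz := countP_mP_aux

theorem monoOK_P (k : ℕ) : MonoOK (mP k) := by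
  refine ⟨fun _ => rfl, rfl, ?_, ?_, ?_, countP_mP k⟩
  · intro x y hx hy
    rw [mP_P_iff] at hx hy ⊢
    refine ⟨?_, ?_⟩
    · rw [M648.mul_p, Equiv.Perm.mul_apply, hy.1, hx.1]
    · rw [M648.mul_a, hy.1, hy.2, mul_one]
      unfold M648.sg sgf
      simpa using hx.2
  · show (4 * ((1 : M648).v 0).val + 3 * k * lg4 1) % 12 = 0
    have : lg4 1 = 0 := by decide
    rw [this]; simp
  · intro x y hx hy
    rw [mP_P_iff] at hx hy
    show (4 * ((x * y).v 0).val + 3 * k * lg4 (x * y)) % 12 =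
      ((4 * (x.v 0).val + 3 * k * lg4 x) + (4 * (y.v 0).val + 3 * k * lg4 y)) % 12
    have h1 : ((x * y).v 0).val ≡ (x.v 0).val + (y.v 0).val [MOD 3] := v0_mul x y hx hy
    have h2 : lg4 (x * y) ≡ lg4 x + lg4 y [MOD 4] := lg4_mul x y hx hy
    have h1' : 4 * ((x * y).v 0).val ≡ 4 * ((x.v 0).val + (y.v 0).val) [MOD 12] :=
      Nat.ModEq.mul_left' 4 h1
    have h2' : 3 * lg4 (x * y) ≡ 3 * (lg4 x + lg4 y) [MOD 12] := Nat.ModEq.mul_left' 3 h2
    have h2'' : k * (3 * lg4 (x * y)) ≡ k * (3 * (lg4 x + lg4 y)) [MOD 12] :=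
      Nat.ModEq.mul_left k h2'
    have h3 := Nat.ModEq.add h1' h2''
    have e1 : 4 * ((x * y).v 0).val + 3 * k * lg4 (x * y) =
        4 * ((x * y).v 0).val + k * (3 * lg4 (x * y)) := by ring
    have e2 : (4 * (x.v 0).val + 3 * k * lg4 x) + (4 * (y.v 0).val + 3 * k * lg4 y) =
        4 * ((x.v 0).val + (y.v 0).val) + k * (3 * (lg4 x + lg4 y)) := by ring
    rw [e1, e2]
    exact h3

end Cfsg.Agent.Lib.H2.L648
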