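/-
S2347 piece WEIL-W5 (architect helper20; tools/blueprints/S2347.md, S2347_sigs.lean): the intertwiners `Yop ψ g`
of the Schroedinger representation.  `hop ψ (g v) * Yop ψ g = Yop ψ g * hop ψ v`, `Yop` commutes with parity,
has non-zero trace, is a unit, and `g ↦ Yop ψ g` is multiplicative up to non-zero scalars.
Uses WEIL-W1 (helper5), WEIL-W2 / WEIL-W3 (helper1).
-/
import Cfsg.Agent.Lib.H20.WeilDefs
import Cfsg.Agent.Lib.H5.WeilW1
import Cfsg.Agent.Lib.H1.WeilW2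
import Cfsg.Agent.Lib.H1.WeilW3

set_option autoImplicit false

namespace Cfsg.Agent.Lib.H2.Weil

open Matrix Cfsg.Agent.Lib.H12.LS2 Cfsg.Agent.Lib.H20.Weil
open Cfsg.Agent.Lib.H5.Weil Cfsg.Agent.Lib.H1.Weil

variable {F : Type*} [Field F] {n : ℕ}


theorem w5_om_add_left (u u' v : Fin n ⊕ Fin n → F) : om (u + u') v = om u v + om u' v := by
  unfold om
  rw [pA_add, pB_add, add_dotProduct, dotProduct_add]; ring

theorem w5_om_neg_left (u v : Fin n ⊕ Fin n → F) : om (-u) v = - om u v := by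
  unfold om
  rw [pA_neg, pB_neg, neg_dotProduct, dotProduct_neg]; ring

variable [Fintype F]

/-- the termwise identity behind `hop_mul_Yop` -/
theorem w5_hop_mul_term (h2 : (2 : F) ≠ 0) (ψ : AddChar F ℂ) (g : Matrix.symplecticGroup (Fin n) F)
    (u v : Fin n ⊕ Fin n → F) :
    hop ψ (g.1 *ᵥ v) * (hop ψ (g.1 *ᵥ u) * hop ψ (-u)) =
      (hop ψ (g.1 *ᵥ (u + v)) * hop ψ (-(u + v))) * hop ψ v := by
  have e1 : hop ψ (g.1 *ᵥ v) * hop ψ (g.1 *ᵥ u) = ψ (2⁻¹ * om v u) • hop ψ (g.1 *ᵥ (u + v)) := by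
    rw [hop_mul h2, om_mulVec, ← mulVec_add, add_comm v u]
  have e2 : hop ψ (-(u + v)) * hop ψ v = ψ (2⁻¹ * om v u) • hop ψ (-u) := by
    rw [hop_mul h2]
    have h1 : -(u + v) + v = -u := by abel
    have h3 : om (-(u + v)) v = om v u := by
      rw [w5_om_neg_left, w5_om_add_left, om_self, add_zero, om_swap u v]
    rw [h1, h3]
  rw [← mul_assoc, e1, mul_assoc (hop ψ (g.1 *ᵥ (u + v))), e2, smul_mul_assoc, mul_smul_comm]

theorem hop_mul_Yop (h2 : (2 : F) ≠ 0) (ψ : AddChar F ℂ) (g : Matrix.symplecticGroup (Fin n) F)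
    (v : Fin n ⊕ Fin n → F) : hop ψ (g.1 *ᵥ v) * Yop ψ g.1 = Yop ψ g.1 * hop ψ v := by
  classical
  unfold Yop
  rw [Finset.mul_sum, Finset.sum_mul]
  rw [← Equiv.sum_comp (Equiv.addRight v) (fun u => hop ψ (g.1 *ᵥ u) * hop ψ (-u) * hop ψ v)]
  refine Finset.sum_congr rfl fun u _ => ?_
  rw [w5_hop_mul_term h2]
  rfl

theorem par_mul_Yop (ψ : AddChar F ℂ) (g : Matrix (Fin n ⊕ Fin n) (Fin n ⊕ Fin n) F) :
    par * Yop ψ g = Yop ψ g * par := by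
  classical
  unfold Yop
  rw [Finset.mul_sum, Finset.sum_mul]
  rw [← Equiv.sum_comp (Equiv.neg (Fin n ⊕ Fin n → F)) (fun u => hop ψ (g *ᵥ u) * hop ψ (-u) * par)]
  refine Finset.sum_congr rfl fun u _ => ?_
  rw [← mul_assoc, par_mul_hop, mul_assoc, par_mul_hop, ← mul_assoc]
  simp only [Equiv.neg_apply, mulVec_neg]

theorem w5_trace_term (h2 : (2 : F) ≠ 0) (ψ : AddChar F ℂ) (hψ : ψ ≠ 1)
    (g : Matrix.symplecticGroup (Fin n) F) (u : Fin n ⊕ Fin n → F) [Decidable (g.1 *ᵥ u = u)] :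
    LinearMap.trace ℂ ((Fin n → F) → ℂ) (hop ψ (g.1 *ᵥ u) * hop ψ (-u)) =
      if g.1 *ᵥ u = u then (Fintype.card F : ℂ) ^ n else 0 := by
  split_ifs with h
  · rw [h, hop_mul_neg h2, ← hop_zero ψ, trace_hop_zero]
  · rw [hop_mul h2, map_smul, trace_hop_ne ψ hψ, smul_zero]
    intro h0
    apply h
    have : g.1 *ᵥ u = g.1 *ᵥ u + -u + u := by abel
    rw [this, h0, zero_add]

theorem trace_Yop_ne_zero (h2 : (2 : F) ≠ 0) (ψ : AddChar F ℂ) (hψ : ψ ≠ 1)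
    (g : Matrix.symplecticGroup (Fin n) F) :
    LinearMap.trace ℂ ((Fin n → F) → ℂ) (Yop ψ g.1) ≠ 0 := by
  classical
  unfold Yop
  rw [map_sum]
  simp_rw [w5_trace_term h2 ψ hψ g]
  rw [← Finset.sum_filter, Finset.sum_const, nsmul_eq_mul]
  apply mul_ne_zero
  · rw [Nat.cast_ne_zero]
    apply Finset.card_ne_zero.2
    exact ⟨0, by simp⟩
  · apply pow_ne_zero
    rw [Nat.cast_ne_zero]
    exact Fintype.card_ne_zero

theorem isUnit_Yop (h2 : (2 : F) ≠ 0) (ψ : AddChar F ℂ) (hψ : ψ ≠ 1)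
    (g : Matrix.symplecticGroup (Fin n) F) : IsUnit (Yop ψ g.1) := by
  rw [LinearMap.isUnit_iff_ker_eq_bot]
  by_contra hne
  have htop : LinearMap.ker (Yop ψ g.1) = ⊤ := by
    apply eq_top_of_invariant ψ hψ _ _ hne
    intro v f hf
    rw [LinearMap.mem_ker] at hf ⊢
    have h := congrArg (fun T : Module.End ℂ ((Fin n → F) → ℂ) => T f) (hop_mul_Yop h2 ψ g v)
    simp only [Module.End.mul_apply] at h
    rw [← h, hf, map_zero]
  have h0 : Yop ψ g.1 = 0 := LinearMap.ker_eq_top.1 htop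
  apply trace_Yop_ne_zero h2 ψ hψ g
  rw [h0, map_zero]

theorem Yop_mul (h2 : (2 : F) ≠ 0) (ψ : AddChar F ℂ) (hψ : ψ ≠ 1)
    (g h : Matrix.symplecticGroup (Fin n) F) :
    ∃ c : ℂ, c ≠ 0 ∧ Yop ψ g.1 * Yop ψ h.1 = c • Yop ψ (g * h).1 := by
  obtain ⟨Ygh, hYgh⟩ := isUnit_Yop h2 ψ hψ (g * h)
  have hinv1 : Yop ψ (g * h).1 * (Ygh⁻¹ : (Module.End ℂ ((Fin n → F) → ℂ))ˣ).1 = 1 := by
    rw [← hYgh]; exact Ygh.mul_inv
  have hinv2 : (Ygh⁻¹ : (Module.End ℂ ((Fin n → F) → ℂ))ˣ).1 * Yop ψ (g * h).1 = 1 := by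
    rw [← hYgh]; exact Ygh.inv_mul
  set Z : Module.End ℂ ((Fin n → F) → ℂ) := (Ygh⁻¹ : (Module.End ℂ ((Fin n → F) → ℂ))ˣ).1 with hZ
  have hcomm : ∀ u : Fin n ⊕ Fin n → F,
      (Yop ψ g.1 * Yop ψ h.1 * Z) * hop ψ u = hop ψ u * (Yop ψ g.1 * Yop ψ h.1 * Z) := by
    intro u
    set v : Fin n ⊕ Fin n → F := ((g * h)⁻¹).1 *ᵥ u with hv
    have hu : u = (g * h).1 *ᵥ v := by
      rw [hv, mulVec_mulVec]
      have : (g * h).1 * ((g * h)⁻¹).1 = ((g * h) * (g * h)⁻¹).1 := rfl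
      rw [this, mul_inv_cancel]
      simp
    have hu' : u = g.1 *ᵥ (h.1 *ᵥ v) := by
      rw [mulVec_mulVec]; exact hu
    -- Z * hop u = hop v * Z
    have hz : Z * hop ψ u = hop ψ v * Z := by
      have h3 := hop_mul_Yop h2 ψ (g * h) v
      rw [← hu] at h3
      calc Z * hop ψ u = Z * hop ψ u * (Yop ψ (g * h).1 * Z) := by rw [hinv1, mul_one]
        _ = Z * (hop ψ u * Yop ψ (g * h).1) * Z := by simp only [mul_assoc]
        _ = Z * (Yop ψ (g * h).1 * hop ψ v) * Z := by rw [h3]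
        _ = (Z * Yop ψ (g * h).1) * hop ψ v * Z := by simp only [mul_assoc]
        _ = hop ψ v * Z := by rw [hinv2, one_mul]
    calc (Yop ψ g.1 * Yop ψ h.1 * Z) * hop ψ u = Yop ψ g.1 * Yop ψ h.1 * (Z * hop ψ u) := by
          simp only [mul_assoc]
      _ = Yop ψ g.1 * (Yop ψ h.1 * hop ψ v) * Z := by rw [hz]; simp only [mul_assoc]
      _ = Yop ψ g.1 * (hop ψ (h.1 *ᵥ v) * Yop ψ h.1) * Z := by rw [hop_mul_Yop h2]
      _ = (Yop ψ g.1 * hop ψ (h.1 *ᵥ v)) * Yop ψ h.1 * Z := by simp only [mul_assoc]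
      _ = (hop ψ (g.1 *ᵥ (h.1 *ᵥ v)) * Yop ψ g.1) * Yop ψ h.1 * Z := by rw [hop_mul_Yop h2]
      _ = hop ψ u * (Yop ψ g.1 * Yop ψ h.1 * Z) := by rw [← hu']; simp only [mul_assoc]
  obtain ⟨c, hc⟩ := eq_smul_one_of_commute ψ hψ _ hcomm
  have hmul : Yop ψ g.1 * Yop ψ h.1 = c • Yop ψ (g * h).1 := by
    calc Yop ψ g.1 * Yop ψ h.1 = Yop ψ g.1 * Yop ψ h.1 * (Z * Yop ψ (g * h).1) := by
          rw [hinv2, mul_one]
      _ = (Yop ψ g.1 * Yop ψ h.1 * Z) * Yop ψ (g * h).1 := by simp only [mul_assoc]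
      _ = c • Yop ψ (g * h).1 := by rw [hc, smul_mul_assoc, one_mul]
  refine ⟨c, ?_, hmul⟩
  rintro rfl
  rw [zero_smul] at hmul
  obtain ⟨Yh, hYh⟩ := isUnit_Yop h2 ψ hψ h
  have h0 : Yop ψ g.1 = 0 := by
    calc Yop ψ g.1 = Yop ψ g.1 * (Yop ψ h.1 * (Yh⁻¹ : (Module.End ℂ ((Fin n → F) → ℂ))ˣ).1) := by
          rw [← hYh, Yh.mul_inv, mul_one]
      _ = 0 := by rw [← mul_assoc, hmul, zero_mul]
  apply trace_Yop_ne_zero h2 ψ hψ g
  rw [h0, map_zero]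

end Cfsg.Agent.Lib.H2.Weil
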