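import Mathlib
import Cfsg.Agent.Lib.H2.SpUG2

set_option autoImplicit false
set_option linter.unusedSectionVars false
set_option linter.unusedVariables false

/-!
# S2524, (g2) in the closure-of-conjugates shape used by `H20.UGlue.kv`
-/

namespace Cfsg.Agent.Lib.H2.SpU

open Matrix Cfsg.Agent.Lib.H4 Cfsg.Agent.Lib.H2.Sp Cfsg.Agent.Lib.H5.LS2 Cfsg.Agent.Lib.H12.LS2
open Cfsg.Agent.Lib.H11.SpU

variable {F : Type*} [Field F] {m : ℕ}

/-- (g2): `K1` is generated by the `K1`-conjugates of `U1` (shape of `hconj` in `H20.UGlue.kv`) -/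
theorem K1_eq_closure_conj_U1 :
    K1 m F = Subgroup.closure {g | ∃ k ∈ K1 m F, ∃ u ∈ U1 m F, g = k * u * k⁻¹} := by
  apply le_antisymm
  · apply sup_le
    · intro u hu
      exact Subgroup.subset_closure ⟨1, one_mem _, u, hu, by rw [one_mul, inv_one, mul_one]⟩
    · intro g hg
      obtain ⟨c, rfl⟩ := mem_U1m.1 hg
      have h := w1_conj_U1 (m := m) (F := F) (-c)
      rw [neg_neg] at h
      exact Subgroup.subset_closure ⟨w1 m F, w1_mem_K1, _, mem_U1.2 ⟨-c, rfl⟩, h.symm⟩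
  · rw [Subgroup.closure_le]
    rintro _ ⟨k, hk, u, hu, rfl⟩
    exact mul_mem (mul_mem hk (U1_le_K1 hu)) (inv_mem hk)

/-- the same with `K1 = U1 ⊔ U1m` by definition -/
theorem K1_eq_sup : K1 m F = U1 m F ⊔ U1m m F := rfl


theorem tv_zero_vec (n : ℕ) (c : F) : tv n (0 : K n → F) c = 1 := by
  apply sp_ext
  intro x
  rw [tv_mulVec, smul_zero, add_zero, Submonoid.coe_one, Matrix.one_mulVec]

theorem eS_ne_zero : eS F m ≠ 0 := by
  intro h
  have := congrFun h ia
  rw [eS_ia] at this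
  exact one_ne_zero this

/-- a normal subgroup of `Sp_{2(m+1)}(F)` containing the long root group `U1` is everything
(any field, any `m`): `hnormal` of `H20.UGlue.kv`. -/
theorem eq_top_of_normal_of_U1_le (N : Subgroup (Sp (m + 1) F)) (hN : N.Normal)
    (h : U1 m F ≤ N) : N = ⊤ := by
  rw [eq_top_iff, ← TS_eq_top (m + 1)]
  unfold TS
  rw [Subgroup.closure_le]
  rintro _ ⟨v, c, rfl⟩
  rw [SetLike.mem_coe]
  by_cases hv : v = 0
  · rw [hv, tv_zero_vec]
    exact one_mem N
  · obtain ⟨g, -, hg⟩ := TS_transitive (m + 1) (eS F m) v eS_ne_zero hv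
    rw [← hg, ← conj_tv]
    exact hN.conj_mem _ (h (tv_eS_mem_U1 c)) g

/-- a normal subgroup containing the Heisenberg group `H` is everything -/
theorem eq_top_of_normal_of_Hs_le (N : Subgroup (Sp (m + 1) F)) (hN : N.Normal)
    (h : Hs m F ≤ N) : N = ⊤ :=
  eq_top_of_normal_of_U1_le N hN (le_trans (le_trans U1_le_As As_le_Hs) h)

end Cfsg.Agent.Lib.H2.SpU
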