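import Mathlib
import Cfsg.Agent.Lib.H19.AlpDefs
import Cfsg.Agent.Lib.H1.LieGh

set_option autoImplicit false

/-!
# Alperin's theorem (S3782), piece PGA, core

Far out, the lower central factors of a finite `p`-group with an automorphism of order dividing
`p` with at most `p ^ n` fixed points have exponent dividing `p ^ expo p n`.  Here the two inputs
(the Lie ring theorem LT and the count FIXA of fixed points on the lower central factors) are
hypotheses.
-/

namespace Cfsg.Agent.Lib.H2.ALP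

open Cfsg.Agent.Lib.H19.ALP
open Cfsg.Agent.Lib.H1 Cfsg.Agent.Lib.H1.LieG

universe u

/-- the lower central series of a Lie ring (as additive subgroups) is decreasing, one step -/
theorem kkGam_top_succ_le {L : Type*} [LieRing L] (i : ℕ) :
    KK.Gam (i + 1) (⊤ : AddSubgroup L) ≤ KK.Gam i ⊤ := by
  induction i with
  | zero =>
    rw [KK.Gam_zero]
    exact le_top
  | succ i ih =>
    have h1 : KK.Gam (i + 1 + 1) (⊤ : AddSubgroup L) = KK.br (KK.Gam (i + 1) ⊤) ⊤ :=
      KK.Gam_succ (i + 1) ⊤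
    have h2 : KK.Gam (i + 1) (⊤ : AddSubgroup L) = KK.br (KK.Gam i ⊤) ⊤ := KK.Gam_succ i ⊤
    rw [h1]
    calc KK.br (KK.Gam (i + 1) (⊤ : AddSubgroup L)) ⊤ ≤ KK.br (KK.Gam i ⊤) ⊤ :=
          KK.br_mono ih le_rfl
      _ = KK.Gam (i + 1) ⊤ := h2.symm

/-- the lower central series of a Lie ring (as additive subgroups) is decreasing -/
theorem kkGam_top_anti {L : Type*} [LieRing L] {i j : ℕ} (h : i ≤ j) :
    KK.Gam j (⊤ : AddSubgroup L) ≤ KK.Gam i ⊤ := by
  induction h with
  | refl => exact le_rfl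
  | step _ ih => exact (kkGam_top_succ_le _).trans ih

section

variable {p : ℕ} [hp : Fact p.Prime] {G : Type u} [Group G]

/-- the lower central factors of a finite `p`-group have `p`-power order -/
theorem card_Aw_eq_pow [Finite G] (hG : IsPGroup p G) (w : ℕ) :
    ∃ k : ℕ, Nat.card (Aw G w) = p ^ k := by
  have h1 : IsPGroup p (Gam G w) := hG.to_subgroup _
  have h2 : IsPGroup p (Qw G w) := h1.to_quotient _
  obtain ⟨k, hk⟩ := IsPGroup.iff_card.1 h2
  exact ⟨k, hk⟩

/-- an element of a lower central factor fixed by `phiA` is killed by `p ^ n` -/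
theorem pow_nsmul_eq_zero_of_fixed [Finite G] (hG : IsPGroup p G) (α : MulAut G) (n : ℕ)
    (hfix : fixCard α ≤ p ^ n)
    (FIXA : ∀ w : ℕ, Nat.card {a : Aw G w // phiA α w a = a} ≤ fixCard α)
    (w : ℕ) (b : Aw G w) (hb : phiA α w b = b) : (p ^ n) • b = 0 := by
  classical
  let F : AddSubgroup (Aw G w) :=
    { carrier := {a | phiA α w a = a}
      add_mem' := by
        intro a c ha hc
        show phiA α w (a + c) = a + c
        rw [map_add, ha, hc]
      zero_mem' := map_zero _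
      neg_mem' := by
        intro a ha
        show phiA α w (-a) = -a
        rw [map_neg, ha] }
  have : Finite (Aw G w) := by
    have : Finite (Qw G w) := inferInstance
    exact this
  have hcF : Nat.card F ≤ p ^ n := (FIXA w).trans hfix
  obtain ⟨k, hk⟩ := card_Aw_eq_pow (p := p) hG w
  have hdvd : Nat.card F ∣ p ^ k := by
    rw [← hk]
    exact AddSubgroup.card_addSubgroup_dvd_card F
  obtain ⟨j, _, hj⟩ := (Nat.dvd_prime_pow hp.out).1 hdvd
  have hjn : j ≤ n := by
    rw [hj] at hcF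
    exact (Nat.pow_le_pow_iff_right hp.out.one_lt).1 hcF
  have h0 : Nat.card F • (⟨b, hb⟩ : F) = 0 := card_nsmul_eq_zero'
  have h1 : (p ^ j) • b = 0 := by
    have := congrArg (fun z : F => (z : Aw G w)) h0
    simp only [AddSubgroup.coe_nsmul, AddSubgroup.coe_zero] at this
    rw [hj] at this
    exact this
  obtain ⟨d, rfl⟩ := Nat.exists_eq_add_of_le hjn
  rw [pow_add, mul_nsmul, h1, smul_zero]

omit hp in
/-- the sum of the `α`-orbit of a class is fixed -/
theorem phiA_orbit_sum (α : MulAut G) (hα : α ^ p = 1) (w : ℕ) {x : G} (hx : x ∈ Gam G w) :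
    phiA α w (∑ k ∈ Finset.range p, clsA w ((α ^ k) x)) =
      ∑ k ∈ Finset.range p, clsA w ((α ^ k) x) := by
  have hmem : ∀ k : ℕ, (α ^ k) x ∈ Gam G w := by
    intro k
    induction k with
    | zero => simpa using hx
    | succ k ih =>
      rw [pow_succ', MulAut.mul_apply, aut_mem_iff]
      exact ih
  rw [map_sum]
  have h1 : ∀ k ∈ Finset.range p, phiA α w (clsA w ((α ^ k) x)) = clsA w ((α ^ (k + 1)) x) := by
    intro k _
    rw [phiA_clsA α (hmem k), pow_succ', MulAut.mul_apply]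
  rw [Finset.sum_congr rfl h1]
  have e1 := Finset.sum_range_succ' (fun k => clsA w ((α ^ k) x)) p
  have e2 := Finset.sum_range_succ (fun k => clsA w ((α ^ k) x)) p
  have e3 : clsA w ((α ^ p) x) = clsA w ((α ^ 0) x) := by
    rw [hα, pow_zero]
  rw [e2] at e1
  simp only [e3] at e1
  exact (add_right_cancel e1).symm

/-- the hypothesis of the Lie ring theorem: `p ^ n` kills the image of the trace of `phiE α` -/
theorem phiE_trace_smul_eq_zero [Finite G] (hG : IsPGroup p G) (α : MulAut G) (hα : α ^ p = 1)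
    (n : ℕ) (hfix : fixCard α ≤ p ^ n)
    (FIXA : ∀ w : ℕ, Nat.card {a : Aw G w // phiA α w a = a} ≤ fixCard α) (y : LG G) :
    ((p : ℤ) ^ n) • (∑ k ∈ Finset.range p, phiE α ^ k) y = 0 := by
  refine LG_induction
    (P := fun y => ((p : ℤ) ^ n) • (∑ k ∈ Finset.range p, phiE α ^ k) y = 0) ?_ ?_ ?_ y
  · rw [map_zero, smul_zero]
  · intro w x hx
    have hsum : (∑ k ∈ Finset.range p, phiE α ^ k) (clsL w x) =
        DirectSum.of (Aw G) w (∑ k ∈ Finset.range p, clsA w ((α ^ k) x)) := by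
      rw [LinearMap.sum_apply, map_sum]
      refine Finset.sum_congr rfl ?_
      intro k _
      rw [phiE_pow_clsL α k hx]
      rfl
    have hz := pow_nsmul_eq_zero_of_fixed (p := p) hG α n hfix FIXA w _
      (phiA_orbit_sum (p := p) α hα w hx)
    have hc : ((p : ℤ) ^ n) = ((p ^ n : ℕ) : ℤ) := by push_cast; rfl
    rw [hc, natCast_zsmul, hsum]
    have hm : ((p ^ n) • (DirectSum.of (Aw G) w (∑ k ∈ Finset.range p, clsA w ((α ^ k) x)) : LG G)
        : LG G) = (DirectSum.of (Aw G) w ((p ^ n) • ∑ k ∈ Finset.range p, clsA w ((α ^ k) x)) : LG G) :=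
      (map_nsmul (DirectSum.of (Aw G) w) (p ^ n) _).symm
    have hm2 : (DirectSum.of (Aw G) w ((p ^ n) • ∑ k ∈ Finset.range p, clsA w ((α ^ k) x)) : LG G)
        = 0 := by
      rw [hz]
      exact map_zero (DirectSum.of (Aw G) w)
    exact hm.trans hm2
  · intro a b ha hb
    rw [map_add, smul_add, ha, hb, add_zero]

/-- **PGA**, with the inputs LT and FIXA as hypotheses -/
theorem pow_mem_Gam_succ_core [Finite G] (hG : IsPGroup p G) (α : MulAut G) (hα : α ^ p = 1)
    (n : ℕ) (hfix : fixCard α ≤ p ^ n)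
    (LT : ∀ {φ : Module.End ℤ (LG G)}, (∀ x y, φ ⁅x, y⁆ = ⁅φ x, φ y⁆) → φ ^ p = 1 → ∀ m : ℕ,
      (∀ x : LG G, ((p : ℤ) ^ m) • (∑ k ∈ Finset.range p, φ ^ k) x = 0) →
      ∀ x ∈ KK.Gam (hkk p) (⊤ : AddSubgroup (LG G)), ((p : ℤ) ^ ((m + 2) * (hkk p + 1))) • x = 0)
    (FIXA : ∀ w : ℕ, Nat.card {a : Aw G w // phiA α w a = a} ≤ fixCard α)
    (w : ℕ) (hw : hkk p + 1 ≤ w) {x : G} (hx : x ∈ Gam G w) :
    x ^ (p ^ expo p n) ∈ Gam G (w + 1) := by
  obtain ⟨w', rfl⟩ : ∃ w', w = w' + 1 := ⟨w - 1, by omega⟩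
  have hw' : hkk p ≤ w' := by omega
  have hkill := LT (phiE_lie α) (phiE_pow_eq_one α hα) n
    (phiE_trace_smul_eq_zero (p := p) hG α hα n hfix FIXA)
  have hmem : clsL (w' + 1) x ∈ KK.Gam (hkk p) (⊤ : AddSubgroup (LG G)) :=
    kkGam_top_anti hw' (clsL_mem_Gam w' x hx)
  have h0 := hkill _ hmem
  have hc : ((p : ℤ) ^ ((n + 2) * (hkk p + 1))) = ((p ^ expo p n : ℕ) : ℤ) := by
    unfold expo
    push_cast
    rfl
  rw [hc, natCast_zsmul, ← clsL_pow hx] at h0
  exact (clsL_eq_zero_iff (pow_mem hx _)).1 h0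

end

end Cfsg.Agent.Lib.H2.ALP
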