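import Mathlib

set_option autoImplicit false

/-!
# Chevalley–Warning for two quadratic functions on `𝔽₂ᵈ`
-/

namespace Cfsg.Agent.Lib.H2.AT

open MvPolynomial

theorem zmod2_cases (a : ZMod 2) : a = 0 ∨ a = 1 := by
  revert a; decide

theorem zmod2_add_self (a : ZMod 2) : a + a = 0 := by
  revert a; decide

/-- quadratic functions on `𝔽₂ᵈ`: vanishing at zero with biadditive polar form -/
structure IsQuad {d : ℕ} (q : (Fin d → ZMod 2) → ZMod 2) : Prop where
  zero : q 0 = 0
  polar : ∀ x x' y, q (x + x' + y) + q (x + x') + q y =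
    (q (x + y) + q x + q y) + (q (x' + y) + q x' + q y)

theorem exists_poly_of_additive {d : ℕ} (l : (Fin d → ZMod 2) → ZMod 2)
    (hl : ∀ x y, l (x + y) = l x + l y) :
    ∃ P : MvPolynomial (Fin d) (ZMod 2), P.totalDegree ≤ 1 ∧ ∀ x, eval x P = l x := by
  classical
  let l' : (Fin d → ZMod 2) →+ ZMod 2 := AddMonoidHom.mk' l hl
  have hl0 : l 0 = 0 := map_zero l'
  refine ⟨∑ j, C (l (Pi.single j 1)) * X j, ?_, ?_⟩
  · refine (totalDegree_finsetSum _ _).trans ?_
    apply Finset.sup_le
    intro j _
    refine (totalDegree_mul _ _).trans ?_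
    rw [totalDegree_C, totalDegree_X, zero_add]
  · intro x
    rw [map_sum]
    simp only [map_mul, eval_C, eval_X]
    have hx : x = ∑ j, Pi.single j (x j) := (Finset.univ_sum_single x).symm
    have h1 : l x = ∑ j, l (Pi.single j (x j)) := by
      conv_lhs => rw [hx]
      exact map_sum l' _ _
    rw [h1]
    apply Finset.sum_congr rfl
    intro j _
    rcases zmod2_cases (x j) with h | h
    · rw [h, Pi.single_zero, mul_zero, hl0]
    · rw [h, mul_one]

theorem exists_poly_of_isQuad : ∀ {d : ℕ} (q : (Fin d → ZMod 2) → ZMod 2), IsQuad q →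
    ∃ P : MvPolynomial (Fin d) (ZMod 2), P.totalDegree ≤ 2 ∧ ∀ x, eval x P = q x := by
  intro d
  induction d with
  | zero =>
    intro q hq
    refine ⟨0, by simp, fun x => ?_⟩
    have : x = 0 := Subsingleton.elim _ _
    rw [this, hq.zero]; simp
  | succ d ih =>
    intro q hq
    let ι : (Fin d → ZMod 2) → (Fin (d + 1) → ZMod 2) := fun y => Fin.cons 0 y
    have hι : ∀ y y', ι (y + y') = ι y + ι y' := by
      intro y y'
      funext i
      refine Fin.cases ?_ (fun j => ?_) i
      · simp [ι]
      · simp [ι]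
    have hι0 : ι 0 = 0 := by
      funext i
      refine Fin.cases ?_ (fun j => ?_) i
      · simp [ι]
      · simp [ι]
    let e0 : Fin (d + 1) → ZMod 2 := Fin.cons 1 0
    obtain ⟨P', hP'd, hP'⟩ := ih (fun y => q (ι y)) ⟨by simp only [hι0, hq.zero], by
      intro x x' y
      simp only [hι]
      exact hq.polar _ _ _⟩
    let B : (Fin (d + 1) → ZMod 2) → (Fin (d + 1) → ZMod 2) → ZMod 2 :=
      fun x y => q (x + y) + q x + q y
    have hBs : ∀ x y, B x y = B y x := by
      intro x y
      simp only [B]
      rw [add_comm x y]; ring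
    have hB : ∀ x x' y, B (x + x') y = B x y + B x' y := by
      intro x x' y
      exact hq.polar x x' y
    obtain ⟨L, hLd, hL⟩ := exists_poly_of_additive (fun y => B e0 (ι y)) (by
      intro y y'
      show B e0 (ι (y + y')) = B e0 (ι y) + B e0 (ι y')
      rw [hι, hBs, hB, hBs (ι y), hBs (ι y')])
    refine ⟨C (q e0) * X 0 + rename Fin.succ P' + X 0 * rename Fin.succ L, ?_, ?_⟩
    · refine (totalDegree_add _ _).trans (max_le ((totalDegree_add _ _).trans (max_le ?_ ?_)) ?_)
      · refine (totalDegree_mul _ _).trans ?_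
        rw [totalDegree_C, totalDegree_X]
        omega
      · exact (totalDegree_rename_le _ _).trans hP'd
      · refine (totalDegree_mul _ _).trans ?_
        rw [totalDegree_X]
        have := (totalDegree_rename_le Fin.succ L).trans hLd
        omega
    · intro x
      have hx : x = Fin.cons (x 0) (Fin.tail x) := (Fin.cons_self_tail x).symm
      have htail : x ∘ Fin.succ = Fin.tail x := rfl
      simp only [map_add, map_mul, eval_C, eval_X, eval_rename, htail, hP', hL]
      rcases zmod2_cases (x 0) with h | h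
      · have hx' : x = ι (Fin.tail x) := by rw [hx, h]; rfl
        rw [h, mul_zero, zero_mul, zero_add, add_zero, ← hx']
      · have hx' : x = e0 + ι (Fin.tail x) := by
          conv_lhs => rw [hx, h]
          funext i
          refine Fin.cases ?_ (fun j => ?_) i
          · simp [e0, ι]
          · simp [e0, ι]
        rw [h, mul_one, one_mul]
        conv_rhs => rw [hx']
        simp only [B]
        have := zmod2_add_self (q e0)
        have := zmod2_add_self (q (ι (Fin.tail x)))
        linear_combination zmod2_add_self (q e0) + zmod2_add_self (q (ι (Fin.tail x)))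

/-- two quadratic functions in at least five variables over `𝔽₂` have a common nontrivial zero -/
theorem exists_common_zero {d : ℕ} (hd : 5 ≤ d) {q1 q2 : (Fin d → ZMod 2) → ZMod 2}
    (h1 : IsQuad q1) (h2 : IsQuad q2) : ∃ x, x ≠ 0 ∧ q1 x = 0 ∧ q2 x = 0 := by
  classical
  obtain ⟨P1, hP1d, hP1⟩ := exists_poly_of_isQuad q1 h1
  obtain ⟨P2, hP2d, hP2⟩ := exists_poly_of_isQuad q2 h2
  have hlt : P1.totalDegree + P2.totalDegree < Fintype.card (Fin d) := by
    rw [Fintype.card_fin]; omega
  have hdvd := char_dvd_card_solutions_of_add_lt 2 hlt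
  by_contra hcon
  push Not at hcon
  have hsub : Subsingleton { x : Fin d → ZMod 2 // eval x P1 = 0 ∧ eval x P2 = 0 } := by
    constructor
    rintro ⟨x, hx1, hx2⟩ ⟨y, hy1, hy2⟩
    apply Subtype.ext
    simp only
    have hx0 : x = 0 := by
      by_contra hx
      rw [hP1] at hx1
      rw [hP2] at hx2
      exact hcon x hx hx1 hx2
    have hy0 : y = 0 := by
      by_contra hy
      rw [hP1] at hy1
      rw [hP2] at hy2
      exact hcon y hy hy1 hy2
    rw [hx0, hy0]
  have hcard : Fintype.card { x : Fin d → ZMod 2 // eval x P1 = 0 ∧ eval x P2 = 0 } = 1 := by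
    apply le_antisymm
    · exact Fintype.card_le_one_iff_subsingleton.mpr hsub
    · apply Fintype.card_pos_iff.mpr
      exact ⟨⟨0, by rw [hP1, h1.zero], by rw [hP2, h2.zero]⟩⟩
  rw [hcard] at hdvd
  omega

end Cfsg.Agent.Lib.H2.AT
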