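import Mathlib
import Cfsg.Agent.Lib.H2.ATA

set_option autoImplicit false

/-!
# Extra involutions in `2`-groups of exponent four with a central four-group containing all squares
-/

namespace Cfsg.Agent.Lib.H2.AT

/-- coordinates on an elementary abelian `2`-group -/
theorem exists_coords (W : Type*) [Group W] [Finite W] (h : ∀ w : W, w * w = 1) :
    ∃ (d : ℕ) (e : (Fin d → ZMod 2) ≃ W), (∀ x y, e (x + y) = e x * e y) ∧
      Nat.card W = 2 ^ d := by
  classical
  have hinv : ∀ a : W, a⁻¹ = a := fun a => inv_eq_of_mul_eq_one_left (h a)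
  have hc : ∀ a b : W, a * b = b * a := by
    intro a b
    have h1 := h (a * b)
    calc a * b = (a * b)⁻¹⁻¹ := (inv_inv _).symm
      _ = (b⁻¹ * a⁻¹)⁻¹ := by rw [mul_inv_rev]
      _ = (b * a)⁻¹ := by rw [hinv a, hinv b]
      _ = b * a := hinv _
  let _ : CommGroup W := { ‹Group W› with mul_comm := hc }
  let _ : Module (ZMod 2) (Additive W) := AddCommGroup.zmodModule (n := 2) (by
    intro x
    rw [two_nsmul]
    exact congrArg Additive.ofMul (h (Additive.toMul x)))
  let _ : Fintype W := Fintype.ofFinite W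
  let b := Module.finBasis (ZMod 2) (Additive W)
  refine ⟨Module.finrank (ZMod 2) (Additive W),
    b.equivFun.symm.toEquiv.trans Additive.toMul, ?_, ?_⟩
  · intro x y
    simp only [Equiv.trans_apply, LinearEquiv.coe_toEquiv, map_add]
    rfl
  · have := Module.card_eq_pow_finrank (K := ZMod 2) (V := Additive W)
    rw [ZMod.card] at this
    rw [← this, ← Nat.card_eq_fintype_card]
    exact Nat.card_congr Additive.ofMul

theorem coords_zero {W : Type*} [Group W] {d : ℕ} (e : (Fin d → ZMod 2) ≃ W)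
    (he : ∀ x y, e (x + y) = e x * e y) : e 0 = 1 := by
  have := he 0 0
  rw [add_zero] at this
  exact (left_eq_mul.mp this)

variable {Q : Type*} [Group Q]

/-- the main lemma -/
theorem exists_involution_notMem [Finite Q] (V : Subgroup Q) (hVc : V ≤ Subgroup.center Q)
    (hV4 : Nat.card V = 4) (hV2 : ∀ v ∈ V, v * v = 1) (hsq : ∀ a : Q, a * a ∈ V)
    (hcard : 128 ≤ Nat.card Q) : ∃ a : Q, a ∉ V ∧ a * a = 1 := by
  classical
  have hVn : V.Normal := by
    constructor
    intro z hz g
    have := Subgroup.mem_center_iff.mp (hVc hz) g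
    rw [this, mul_inv_cancel_right]
    exact hz
  have hcm : ∀ v ∈ V, ∀ a : Q, v * a = a * v := fun v hv a =>
    (Subgroup.mem_center_iff.mp (hVc hv) a).symm
  -- coordinates on `V`
  obtain ⟨dV, eV, heV, hdV⟩ := exists_coords V (fun v => Subtype.ext (hV2 v v.2))
  have hdV2 : dV = 2 := by
    rw [hV4] at hdV
    have : (2 : ℕ) ^ 2 = 2 ^ dV := by rw [← hdV]; norm_num
    exact (Nat.pow_right_injective (le_refl 2) this).symm
  subst hdV2
  have heV0 := coords_zero eV heV
  -- coordinates on the quotient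
  have hW2 : ∀ w : Q ⧸ V, w * w = 1 := by
    intro w
    induction w using QuotientGroup.induction_on with
    | H a =>
      rw [← QuotientGroup.mk_mul, QuotientGroup.eq_one_iff]
      exact hsq a
  obtain ⟨d, eW, heW, hdW⟩ := exists_coords (Q ⧸ V) hW2
  have heW0 := coords_zero eW heW
  have hd5 : 5 ≤ d := by
    have h1 := Subgroup.card_eq_card_quotient_mul_card_subgroup V
    rw [hV4, hdW] at h1
    by_contra hcon
    have : d ≤ 4 := by omega
    have : 2 ^ d ≤ 2 ^ 4 := Nat.pow_le_pow_right (by norm_num) this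
    omega
  -- lifts
  let g : (Fin d → ZMod 2) → Q := fun x => Quotient.out (eW x)
  have hg : ∀ x, (QuotientGroup.mk (g x) : Q ⧸ V) = eW x := fun x => Quotient.out_eq' (eW x)
  -- the commutator-like term
  let c : Q → Q → Q := fun a b => a⁻¹ * b * a * b⁻¹
  have hcV : ∀ a b, c a b ∈ V := by
    intro a b
    rw [← QuotientGroup.eq_one_iff]
    simp only [c, QuotientGroup.mk_mul, QuotientGroup.mk_inv]
    have hi : ∀ w : Q ⧸ V, w⁻¹ = w := fun w => inv_eq_of_mul_eq_one_left (hW2 w)
    rw [hi, hi]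
    set α : Q ⧸ V := QuotientGroup.mk a
    set β : Q ⧸ V := QuotientGroup.mk b
    calc α * β * α * β = (α * β) * (α * β) := by group
      _ = 1 := hW2 _
  have hI1 : ∀ a b : Q, (a * b) * (a * b) = (a * a) * (b * b) * c a b := by
    intro a b
    have h1 : (a * b) * (a * b) = (a * a) * c a b * (b * b) := by simp only [c]; group
    calc (a * b) * (a * b) = (a * a) * (c a b * (b * b)) := by rw [h1, mul_assoc]
      _ = (a * a) * ((b * b) * c a b) := by rw [hcm _ (hcV a b)]
      _ = (a * a) * (b * b) * c a b := (mul_assoc _ _ _).symm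
  have hI3 : ∀ a a' b : Q, c (a * a') b = c a b * c a' b := by
    intro a a' b
    have h1 : c (a * a') b = a'⁻¹ * c a b * (b * a' * b⁻¹) := by simp only [c]; group
    rw [h1, ← hcm _ (hcV a b)]
    simp only [c]; group
  have hcv : ∀ v ∈ V, ∀ b, c v b = 1 := by
    intro v hv b
    simp only [c]
    rw [mul_assoc v⁻¹, ← hcm v hv b]
    group
  -- additive characters of `V`
  let φ : Fin 2 → Q → ZMod 2 := fun k a => if ha : a ∈ V then eV.symm ⟨a, ha⟩ k else 0
  have hφmul : ∀ k, ∀ a ∈ V, ∀ b ∈ V, φ k (a * b) = φ k a + φ k b := by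
    intro k a ha b hb
    simp only [φ, dif_pos ha, dif_pos hb, dif_pos (V.mul_mem ha hb)]
    have : eV.symm ⟨a * b, V.mul_mem ha hb⟩ = eV.symm ⟨a, ha⟩ + eV.symm ⟨b, hb⟩ := by
      apply eV.injective
      rw [Equiv.apply_symm_apply, heV, Equiv.apply_symm_apply, Equiv.apply_symm_apply]
      rfl
    rw [this]; rfl
  have hφ0 : ∀ a ∈ V, φ 0 a = 0 → φ 1 a = 0 → a = 1 := by
    intro a ha h0 h1
    simp only [φ, dif_pos ha] at h0 h1
    have : eV.symm ⟨a, ha⟩ = 0 := by
      funext k
      fin_cases k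
      · exact h0
      · exact h1
    have h2 : (⟨a, ha⟩ : V) = eV 0 := by rw [← this, Equiv.apply_symm_apply]
    rw [heV0] at h2
    exact congrArg Subtype.val h2
  have hφ1 : ∀ k, φ k 1 = 0 := by
    intro k
    have := hφmul k 1 V.one_mem 1 V.one_mem
    rw [mul_one] at this
    exact (left_eq_add.mp this)
  -- the two quadratic functions
  let S : Q → Q := fun a => a * a
  have hSv : ∀ a : Q, ∀ v ∈ V, S (a * v) = S a := by
    intro a v hv
    simp only [S]
    rw [mul_assoc a v, ← mul_assoc v a, hcm v hv a, mul_assoc a v v, hV2 v hv, mul_one]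
  -- `g (x + y) = g x * g y * v`
  have hgadd : ∀ x y, ∃ v ∈ V, g (x + y) = g x * g y * v := by
    intro x y
    refine ⟨(g x * g y)⁻¹ * g (x + y), ?_, by group⟩
    rw [← QuotientGroup.eq, QuotientGroup.mk_mul, hg, hg, hg, heW]
  have hcgv : ∀ a v b : Q, v ∈ V → c (a * v) b = c a b := by
    intro a v b hv
    rw [hI3, hcv v hv, mul_one]
  have hquad : ∀ k, IsQuad (fun x => φ k (S (g x))) := by
    intro k
    have hadd : ∀ x y, φ k (S (g (x + y))) =
        φ k (S (g x)) + φ k (S (g y)) + φ k (c (g x) (g y)) := by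
      intro x y
      obtain ⟨v, hv, hxy⟩ := hgadd x y
      rw [hxy, hSv _ _ hv]
      simp only [S]
      rw [hI1, hφmul k _ (V.mul_mem (hsq _) (hsq _)) _ (hcV _ _), hφmul k _ (hsq _) _ (hsq _)]
    constructor
    · show φ k (S (g 0)) = 0
      have : g 0 ∈ V := by
        rw [← QuotientGroup.eq_one_iff, hg, heW0]
      simp only [S]
      rw [hV2 _ this, hφ1]
    · intro x x' y
      show φ k (S (g (x + x' + y))) + φ k (S (g (x + x'))) + φ k (S (g y)) =
        (φ k (S (g (x + y))) + φ k (S (g x)) + φ k (S (g y))) +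
        (φ k (S (g (x' + y))) + φ k (S (g x')) + φ k (S (g y)))
      rw [hadd (x + x') y, hadd x y, hadd x' y]
      obtain ⟨v, hv, hxx⟩ := hgadd x x'
      rw [hxx, hcgv _ _ _ hv, hI3, hφmul k _ (hcV _ _) _ (hcV _ _)]
      rw [← hxx]
      linear_combination zmod2_add_self (φ k (S (g (x + x')))) + zmod2_add_self (φ k (S (g y)))
        - zmod2_add_self (φ k (S (g x))) - zmod2_add_self (φ k (S (g x')))
        - 2 * zmod2_add_self (φ k (S (g y)))
  obtain ⟨x, hx0, hx1, hx2⟩ := exists_common_zero hd5 (hquad 0) (hquad 1)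
  refine ⟨g x, ?_, ?_⟩
  · intro hmem
    rw [← QuotientGroup.eq_one_iff, hg, ← heW0] at hmem
    exact hx0 (eW.injective hmem)
  · exact hφ0 _ (hsq _) hx1 hx2

end Cfsg.Agent.Lib.H2.AT
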