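import Mathlib
import Cfsg.Agent.Lib.H2.SpUG2

set_option autoImplicit false
set_option linter.unusedSectionVars false
set_option linter.unusedVariables false
set_option linter.unusedSimpArgs false

/-!
# S2524, group facts (g1) part B: the Heisenberg group `Hs` as the group of Eichler transformations

`IsE g v c` : `g e_* = e_*`, `g f_* = f_* + zext v + c e_*`, `g (zext x) = zext x + ⟨x, v⟩ e_*`.
`Hs = {g | ∃ v c, IsE g v c}`; `psi B` conjugates `E(v, c)` to `E(B v, c)`, so `S` normalises `Hs`.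
-/

namespace Cfsg.Agent.Lib.H2.SpU

open Matrix Cfsg.Agent.Lib.H4 Cfsg.Agent.Lib.H2.Sp Cfsg.Agent.Lib.H5.LS2 Cfsg.Agent.Lib.H12.LS2
open Cfsg.Agent.Lib.H11.SpU

variable {F : Type*} [Field F] {m : ℕ}

/-- `g` is the Eichler transformation `E(v, c)` attached to the isotropic vector `e_*` -/
def IsE (g : Sp (m + 1) F) (v : K m → F) (c : F) : Prop :=
  (g : Matrix (K (m + 1)) (K (m + 1)) F) *ᵥ eS F m = eS F m ∧
  (g : Matrix (K (m + 1)) (K (m + 1)) F) *ᵥ fS F m = fS F m + zext v + c • eS F m ∧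
  ∀ x : K m → F, (g : Matrix (K (m + 1)) (K (m + 1)) F) *ᵥ zext x
    = zext x + Cfsg.sympForm m F x v • eS F m

theorem isE_unique {g g' : Sp (m + 1) F} {v : K m → F} {c : F} (h : IsE g v c) (h' : IsE g' v c) :
    g = g' := by
  apply sp_ext_basis
  · intro x; rw [h.2.2, h'.2.2]
  · rw [h.1, h'.1]
  · rw [h.2.1, h'.2.1]

theorem sympForm_zero_right (x : K m → F) : Cfsg.sympForm m F x 0 = 0 := by
  have := sympForm_smul_right m (0 : F) x 0
  rwa [zero_smul, zero_mul] at this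

theorem sympForm_neg_right (x v : K m → F) : Cfsg.sympForm m F x (-v) = - Cfsg.sympForm m F x v := by
  have := sympForm_smul_right m (-1 : F) x v
  rwa [neg_smul, one_smul, neg_mul, one_mul] at this

theorem zext_neg (x : K m → F) : zext (-x) = - zext x := by
  have := zext_smul (-1 : F) x
  rwa [neg_smul, one_smul, neg_smul, one_smul] at this

theorem isE_one : IsE (1 : Sp (m + 1) F) 0 0 := by
  refine ⟨by rw [Submonoid.coe_one, Matrix.one_mulVec], ?_, ?_⟩
  · rw [Submonoid.coe_one, Matrix.one_mulVec, zext_zero, zero_smul, add_zero, add_zero]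
  · intro x
    rw [Submonoid.coe_one, Matrix.one_mulVec, sympForm_zero_right, zero_smul, add_zero]

theorem isE_mul {g g' : Sp (m + 1) F} {v v' : K m → F} {c c' : F} (h : IsE g v c)
    (h' : IsE g' v' c') : IsE (g * g') (v + v') (c + c' + Cfsg.sympForm m F v' v) := by
  refine ⟨?_, ?_, ?_⟩
  · rw [Submonoid.coe_mul, ← Matrix.mulVec_mulVec, h'.1, h.1]
  · rw [Submonoid.coe_mul, ← Matrix.mulVec_mulVec, h'.2.1, Matrix.mulVec_add, Matrix.mulVec_add,
      Matrix.mulVec_smul, h.2.1, h.2.2, h.1, zext_add]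
    module
  · intro x
    rw [Submonoid.coe_mul, ← Matrix.mulVec_mulVec, h'.2.2, Matrix.mulVec_add, Matrix.mulVec_smul,
      h.2.2, h.1, sympForm_add_right]
    module

theorem isE_inv {g : Sp (m + 1) F} {v : K m → F} {c : F} (h : IsE g v c) :
    IsE g⁻¹ (-v) (-c) := by
  have hinv : ∀ y z : K (m + 1) → F, (g : Matrix (K (m + 1)) (K (m + 1)) F) *ᵥ y = z →
      ((g⁻¹ : Sp (m + 1) F) : Matrix (K (m + 1)) (K (m + 1)) F) *ᵥ z = y := by
    intro y z hyz
    rw [← hyz, Matrix.mulVec_mulVec, ← Submonoid.coe_mul, inv_mul_cancel, Submonoid.coe_one,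
      Matrix.one_mulVec]
  have h1 := hinv _ _ h.1
  have h3 : ∀ x : K m → F, ((g⁻¹ : Sp (m + 1) F) : Matrix (K (m + 1)) (K (m + 1)) F) *ᵥ zext x
      = zext x + Cfsg.sympForm m F x (-v) • eS F m := by
    intro x
    have := hinv _ _ (h.2.2 x)
    rw [Matrix.mulVec_add, Matrix.mulVec_smul, h1] at this
    rw [sympForm_neg_right, neg_smul, eq_sub_of_add_eq this, sub_eq_add_neg]
  refine ⟨h1, ?_, h3⟩
  have := hinv _ _ h.2.1
  rw [Matrix.mulVec_add, Matrix.mulVec_add, Matrix.mulVec_smul, h1] at this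
  have h4 := h3 v
  rw [sympForm_neg_right, sympForm_self, neg_zero, zero_smul, add_zero] at h4
  rw [h4] at this
  rw [zext_neg, neg_smul, eq_sub_of_add_eq (eq_sub_of_add_eq this)]
  abel

/-- the subgroup of all Eichler transformations -/
def ESub (m : ℕ) (F : Type*) [Field F] : Subgroup (Sp (m + 1) F) where
  carrier := {g | ∃ v c, IsE g v c}
  mul_mem' := by
    rintro g g' ⟨v, c, h⟩ ⟨v', c', h'⟩
    exact ⟨_, _, isE_mul h h'⟩
  one_mem' := ⟨0, 0, isE_one⟩
  inv_mem' := by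
    rintro g ⟨v, c, h⟩
    exact ⟨_, _, isE_inv h⟩

theorem mem_ESub {g : Sp (m + 1) F} : g ∈ ESub m F ↔ ∃ v c, IsE g v c := Iff.rfl

/-! ### the generators of `Hs` are Eichler transformations -/

theorem isE_tv_eS (c : F) : IsE (tv (m + 1) (eS F m) c) 0 c := by
  refine ⟨tv_eS_eS c, ?_, ?_⟩
  · rw [tv_eS_fS, zext_zero, add_zero]
  · intro x
    rw [tv_eS_zext, sympForm_zero_right, zero_smul, add_zero]

theorem isE_tEl_symX (y : Fin m → F) :
    IsE (tEl (symX (Fin.last m) (ext0 y))) (Sum.elim y 0) 0 := by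
  refine ⟨tEl_symX_eS y, ?_, ?_⟩
  · rw [tEl_symX_fS, zero_smul, add_zero]
  · intro x
    rw [tEl_symX_zext]
    congr 2
    conv_rhs => rw [← elim_comp x]
    rw [sympForm_elim, dotProduct_zero, sub_zero, dotProduct_comm]

theorem isE_r1El (u : Fin m → F) : IsE (r1El u) (Sum.elim 0 (-u)) 0 := by
  have hz : zext (Sum.elim (0 : Fin m → F) (-u)) = - zext (Sum.elim 0 u) := by
    rw [← zext_neg]
    congr 1
    funext i
    rcases i with i | i <;> simp
  refine ⟨r1El_eS u, ?_, ?_⟩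
  · rw [r1El_fS, zero_smul, add_zero, hz, sub_eq_add_neg]
  · intro x
    rw [r1El_zext]
    congr 2
    conv_rhs => rw [← elim_comp x]
    rw [sympForm_elim, dotProduct_zero, zero_sub, dotProduct_neg, neg_neg, dotProduct_comm]

/-- elements of `symA` are `c E_** + (e_* yᵀ + y e_*ᵀ)` -/
theorem symA_decomp {X : Symm (m + 1) F} (hX : X ∈ symA m F) :
    X = symE (Fin.last m) ((X : Matrix (Fin (m + 1)) (Fin (m + 1)) F) (Fin.last m) (Fin.last m)) +
      symX (Fin.last m) (ext0 fun i => (X : Matrix (Fin (m + 1)) (Fin (m + 1)) F)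
        (Fin.castSucc i) (Fin.last m)) := by
  have hsym : ∀ i j, (X : Matrix (Fin (m + 1)) (Fin (m + 1)) F) i j
      = (X : Matrix (Fin (m + 1)) (Fin (m + 1)) F) j i := by
    intro i j
    have h1 : (X : Matrix (Fin (m + 1)) (Fin (m + 1)) F)ᵀ = X := (mem_Symm _ _).1 X.2
    have h2 := congrFun (congrFun h1 i) j
    rw [Matrix.transpose_apply] at h2
    exact h2.symm
  apply Subtype.ext
  rw [AddSubgroup.coe_add, symE_val, symX_val]
  ext i j
  refine Fin.lastCases ?_ (fun i' => ?_) i <;> refine Fin.lastCases ?_ (fun j' => ?_) j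
  · simp [Matrix.vecMulVec_apply]
  · simp [Matrix.vecMulVec_apply, Matrix.single_apply, Fin.castSucc_ne_last,
      (Fin.castSucc_ne_last j').symm]
    exact hsym _ _
  · simp [Matrix.vecMulVec_apply, Matrix.single_apply, Fin.castSucc_ne_last,
      (Fin.castSucc_ne_last i').symm]
  · simp [Matrix.vecMulVec_apply, Matrix.single_apply, Fin.castSucc_ne_last,
      (Fin.castSucc_ne_last i').symm, (Fin.castSucc_ne_last j').symm]
    exact hX i' j'

theorem Hs_le_ESub : Hs m F ≤ ESub m F := by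
  apply sup_le
  · intro g hg
    obtain ⟨X, hX, rfl⟩ := mem_As.1 hg
    rw [symA_decomp hX, tEl_add, tEl_symE_last]
    exact mul_mem ⟨_, _, isE_tv_eS _⟩ ⟨_, _, isE_tEl_symX _⟩
  · intro g hg
    obtain ⟨u, rfl⟩ := mem_R1.1 hg
    exact ⟨_, _, isE_r1El u⟩

/-- every Eichler transformation is `t(X) · l(1 + e_* uᵀ)` with `X ∈ symA` -/
theorem exists_of_isE (v : K m → F) (c : F) :
    ∃ (X : Symm (m + 1) F) (u : Fin m → F), X ∈ symA m F ∧ IsE (tEl X * r1El u) v c := by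
  have h1 := isE_mul (isE_tEl_symX (F := F) (v ∘ Sum.inl)) (isE_r1El (F := F) (-(v ∘ Sum.inr)))
  have hv : (Sum.elim (v ∘ Sum.inl) (0 : Fin m → F) + Sum.elim (0 : Fin m → F) (- -(v ∘ Sum.inr)) : K m → F) = v := by
    funext i
    rcases i with i | i <;> simp
  rw [hv] at h1
  have h2 := isE_mul (isE_tv_eS (m := m) (F := F)
    (c - (0 + 0 + Cfsg.sympForm m F (Sum.elim 0 (- -(v ∘ Sum.inr))) (Sum.elim (v ∘ Sum.inl) 0)))) h1
  rw [zero_add, sympForm_zero_right, add_zero, sub_add_cancel, ← mul_assoc, ← tEl_symE_last,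
    ← tEl_add] at h2
  simp only [zero_add] at h2
  refine ⟨_, _, ?_, h2⟩
  intro i j
  rw [AddSubgroup.coe_add, symE_val, symX_val]
  simp [Matrix.vecMulVec_apply, Matrix.single_apply, Fin.castSucc_ne_last,
    (Fin.castSucc_ne_last i).symm]

theorem ESub_le_Hs : ESub m F ≤ Hs m F := by
  rintro g ⟨v, c, h⟩
  obtain ⟨X, u, hX, h'⟩ := exists_of_isE (F := F) v c
  rw [isE_unique h h']
  exact mul_mem (As_le_Hs (mem_As.2 ⟨X, hX, rfl⟩)) (R1_le_Hs (mem_R1.2 ⟨u, rfl⟩))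

/-- (g1)B, intrinsic description: `Hs` is the group of Eichler transformations -/
theorem Hs_eq_ESub : Hs m F = ESub m F := le_antisymm Hs_le_ESub ESub_le_Hs

theorem mem_Hs_iff_isE {g : Sp (m + 1) F} : g ∈ Hs m F ↔ ∃ v c, IsE g v c := by
  rw [Hs_eq_ESub]; rfl

/-- (g1)B: `Hs = As · R1` as a set -/
theorem Hs_decomp {h : Sp (m + 1) F} (hh : h ∈ Hs m F) :
    ∃ (X : Symm (m + 1) F) (u : Fin m → F), X ∈ symA m F ∧ h = tEl X * r1El u := by
  obtain ⟨v, c, hE⟩ := mem_Hs_iff_isE.1 hh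
  obtain ⟨X, u, hX, h'⟩ := exists_of_isE (F := F) v c
  exact ⟨X, u, hX, isE_unique hE h'⟩

/-! ### conjugation by `S` -/

theorem isE_conj_psi (B : Sp m F) {g : Sp (m + 1) F} {v : K m → F} {c : F} (h : IsE g v c) :
    IsE (psi B * g * (psi B)⁻¹) ((B : Matrix (K m) (K m) F) *ᵥ v) c := by
  have hinvE : ((psi B)⁻¹ : Sp (m + 1) F) = psi B⁻¹ := (map_inv psi B).symm
  have hBB : ∀ x : K m → F, (B : Matrix (K m) (K m) F) *ᵥ
      (((B⁻¹ : Sp m F) : Matrix (K m) (K m) F) *ᵥ x) = x := by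
    intro x
    rw [Matrix.mulVec_mulVec, ← Submonoid.coe_mul, mul_inv_cancel, Submonoid.coe_one,
      Matrix.one_mulVec]
  refine ⟨?_, ?_, ?_⟩
  · rw [hinvE, Submonoid.coe_mul, Submonoid.coe_mul, ← Matrix.mulVec_mulVec, ← Matrix.mulVec_mulVec,
      psi_mulVec_eS, h.1, psi_mulVec_eS]
  · rw [hinvE, Submonoid.coe_mul, Submonoid.coe_mul, ← Matrix.mulVec_mulVec, ← Matrix.mulVec_mulVec,
      psi_mulVec_fS, h.2.1, Matrix.mulVec_add, Matrix.mulVec_add, Matrix.mulVec_smul,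
      psi_mulVec_fS, psi_mulVec_zext, psi_mulVec_eS]
  · intro x
    rw [hinvE, Submonoid.coe_mul, Submonoid.coe_mul, ← Matrix.mulVec_mulVec, ← Matrix.mulVec_mulVec,
      psi_mulVec_zext, h.2.2, Matrix.mulVec_add, Matrix.mulVec_smul, psi_mulVec_zext,
      psi_mulVec_eS, hBB]
    congr 2
    have := (mem_symplecticGroup_iff_sympForm m B.1).1 B.2
      (((B⁻¹ : Sp m F) : Matrix (K m) (K m) F) *ᵥ x) v
    rw [hBB] at this
    exact this.symm

/-- (g1)B: `S` normalises `Hs` -/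
theorem Ss_normalizes_Hs {s h : Sp (m + 1) F} (hs : s ∈ Ss m F) (hh : h ∈ Hs m F) :
    s * h * s⁻¹ ∈ Hs m F := by
  obtain ⟨B, rfl⟩ := mem_Ss.1 hs
  obtain ⟨v, c, hE⟩ := mem_Hs_iff_isE.1 hh
  exact mem_Hs_iff_isE.2 ⟨_, _, isE_conj_psi B hE⟩

theorem Ss_normalizes_Hs' {s h : Sp (m + 1) F} (hs : s ∈ Ss m F) (hh : h ∈ Hs m F) :
    s⁻¹ * h * s ∈ Hs m F := by
  have := Ss_normalizes_Hs (inv_mem hs) hh
  rwa [inv_inv] at this

/-- `psi(J) t(e_* xᵀ + x e_*ᵀ) psi(J)⁻¹ = l(1 + e_* (-x)ᵀ)` -/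
theorem psiJ_conj_As' (x : Fin m → F) :
    psi (SymplecticGroup.symJ (Fin m) F) * tEl (symX (Fin.last m) (ext0 x)) *
      (psi (SymplecticGroup.symJ (Fin m) F))⁻¹ = r1El (-x) := by
  have h1 := isE_conj_psi (SymplecticGroup.symJ (Fin m) F) (isE_tEl_symX (F := F) x)
  have h2 := isE_r1El (F := F) (-x)
  have e : ((SymplecticGroup.symJ (Fin m) F : Sp m F) : Matrix (K m) (K m) F) *ᵥ
      (Sum.elim x (0 : Fin m → F) : K m → F) = Sum.elim (0 : Fin m → F) (- -x) := by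
    rw [SymplecticGroup.coe_J, Matrix.J, Matrix.fromBlocks_mulVec]
    funext i
    rcases i with i | i <;> simp
  rw [e] at h1
  exact isE_unique h1 h2

/-- (g1)B: `Hs` is generated by the `S`-conjugates of `As` -/
theorem Hs_le_closure_conj_As :
    Hs m F ≤ Subgroup.closure {g | ∃ s ∈ Ss m F, ∃ a ∈ As m F, g = s * a * s⁻¹} := by
  apply sup_le
  · intro a ha
    exact Subgroup.subset_closure ⟨1, one_mem _, a, ha, by rw [one_mul, inv_one, mul_one]⟩
  · intro g hg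
    obtain ⟨u, rfl⟩ := mem_R1.1 hg
    have h := psiJ_conj_As' (F := F) (-u)
    rw [neg_neg] at h
    exact Subgroup.subset_closure ⟨psi (SymplecticGroup.symJ (Fin m) F), ⟨_, rfl⟩, _,
      As'_le_As (mem_As'.2 ⟨-u, rfl⟩), h.symm⟩

theorem Hs_eq_closure_conj_As :
    Hs m F = Subgroup.closure {g | ∃ s ∈ Ss m F, ∃ a ∈ As m F, g = s * a * s⁻¹} := by
  apply le_antisymm Hs_le_closure_conj_As
  rw [Subgroup.closure_le]
  rintro _ ⟨s, hs, a, ha, rfl⟩
  exact Ss_normalizes_Hs hs (As_le_Hs ha)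

end Cfsg.Agent.Lib.H2.SpU
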