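import Mathlib
import Cfsg.Agent.Lib.H2.SimpleIndex

set_option autoImplicit false
set_option linter.unusedSectionVars false

namespace Cfsg.Agent.Lib.H2.A7GL4

open MulAction

section
variable {H X : Type*} [Group H] [Finite H] [IsSimpleGroup H] [Finite X] [MulAction H X]

/-- step A: all point stabilisers have index 15 -/
theorem index_stab (hH : Nat.card H = 2520) (hX : Nat.card X = 15)
    (h5 : ∀ g : H, orderOf g = 5 → ∀ x : X, g • x ≠ x) (x : X) :
    (stabilizer H x).index = 15 := by
  have : Fact (Nat.Prime 5) := ⟨by norm_num⟩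
  have key : ∀ x : X, (stabilizer H x).index = 10 ∨ (stabilizer H x).index = 15 := by
    intro x
    have h1 : ¬ 5 ∣ Nat.card (stabilizer H x) := by
      intro hd
      obtain ⟨k, hk⟩ := exists_prime_orderOf_dvd_card' 5 hd
      rw [← Subgroup.orderOf_coe] at hk
      exact h5 k hk x (mem_stabilizer_iff.mp k.2)
    have h2 := (stabilizer H x).card_mul_index
    rw [hH] at h2
    have h3 : 5 ∣ (stabilizer H x).index := by
      have h4 : 5 ∣ Nat.card (stabilizer H x) * (stabilizer H x).index := by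
        rw [h2]; norm_num
      rcases (Nat.Prime.dvd_mul (by norm_num)).mp h4 with h | h
      · exact absurd h h1
      · exact h
    have hne : stabilizer H x ≠ ⊤ := by
      intro h
      apply h1
      rw [h, Subgroup.card_top, hH]
      norm_num
    have h5' := Cfsg.Agent.Lib.H2.card_le_factorial_index hne
    rw [hH] at h5'
    have h6 : 7 ≤ (stabilizer H x).index := by
      by_contra hlt
      have h7 : (stabilizer H x).index ≤ 6 := by omega
      have h8 := Nat.factorial_le h7
      have h9 : Nat.factorial 6 = 720 := by decide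
      omega
    have h7 : (stabilizer H x).index ≤ 15 := by
      rw [index_stabilizer, ← hX]
      exact Set.ncard_le_card _
    obtain ⟨k, hk⟩ := h3
    omega
  rcases key x with h10 | h15
  · exfalso
    rw [index_stabilizer] at h10
    have hex : ∃ y, y ∉ orbit H x := by
      by_contra hcon
      push Not at hcon
      have : orbit H x = Set.univ := Set.eq_univ_of_forall hcon
      rw [this, Set.ncard_univ, hX] at h10
      omega
    obtain ⟨y, hy⟩ := hex
    have hdisj : Disjoint (orbit H x) (orbit H y) := by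
      rw [Set.disjoint_left]
      intro z hzx hzy
      apply hy
      have h1 : orbit H z = orbit H x := orbit_eq_iff.mpr hzx
      have h2 : orbit H z = orbit H y := orbit_eq_iff.mpr hzy
      rw [← h1, h2]
      exact mem_orbit_self y
    have h1 := Set.ncard_union_eq hdisj
    have h2 : (orbit H x ∪ orbit H y).ncard ≤ 15 := by
      rw [← hX]; exact Set.ncard_le_card _
    have h3 := key y
    rw [index_stabilizer] at h3
    omega
  · exact h15

/-- step B: transitivity -/
theorem exists_smul_eq (hH : Nat.card H = 2520) (hX : Nat.card X = 15)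
    (h5 : ∀ g : H, orderOf g = 5 → ∀ x : X, g • x ≠ x) (x y : X) : ∃ h : H, h • x = y := by
  have h1 := index_stab hH hX h5 x
  rw [index_stabilizer] at h1
  have h2 : orbit H x = Set.univ := by
    apply Set.eq_of_subset_of_ncard_le (Set.subset_univ _) _ Set.finite_univ
    rw [Set.ncard_univ, hX, h1]
  have h3 : y ∈ orbit H x := by rw [h2]; exact Set.mem_univ y
  exact h3

theorem card_stab (hH : Nat.card H = 2520) (hX : Nat.card X = 15)
    (h5 : ∀ g : H, orderOf g = 5 → ∀ x : X, g • x ≠ x) (x : X) :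
    Nat.card (stabilizer H x) = 168 := by
  have h1 := index_stab hH hX h5 x
  have h2 := (stabilizer H x).card_mul_index
  rw [hH, h1] at h2
  omega

theorem stab_sub (a b : X) :
    stabilizer (stabilizer H a) b = (stabilizer H a ⊓ stabilizer H b).subgroupOf (stabilizer H a) := by
  ext k
  rw [mem_stabilizer_iff, Subgroup.mem_subgroupOf, Subgroup.mem_inf, mem_stabilizer_iff,
    mem_stabilizer_iff]
  constructor
  · intro h
    exact ⟨mem_stabilizer_iff.mp k.2, h⟩
  · intro h
    exact h.2

theorem orbit_sub_subset (a b : X) (hab : a ≠ b) : orbit (stabilizer H a) b ⊆ {a}ᶜ := by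
  rintro _ ⟨k, rfl⟩
  rw [Set.mem_compl_iff, Set.mem_singleton_iff]
  intro h
  apply hab
  have h1 : (k : H) • a = a := mem_stabilizer_iff.mp k.2
  have h2 : (k : H) • b = a := h
  exact (smul_left_cancel (k : H) (h2.trans h1.symm)).symm

/-- step C: the orbits of a point stabiliser on the other points have size 7 or 14 -/
theorem orbit_sub_card (hH : Nat.card H = 2520) (hX : Nat.card X = 15)
    (h5 : ∀ g : H, orderOf g = 5 → ∀ x : X, g • x ≠ x)
    (h7 : ∀ g : H, orderOf g = 7 → ∀ x y : X, g • x = x → g • y = y → x = y)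
    (a b : X) (hab : a ≠ b) :
    ((orbit (stabilizer H a) b).ncard = 7 ∨ (orbit (stabilizer H a) b).ncard = 14) ∧
      Nat.card ↥(stabilizer H a ⊓ stabilizer H b) * (orbit (stabilizer H a) b).ncard = 168 := by
  have : Fact (Nat.Prime 7) := ⟨by norm_num⟩
  have h1 : ¬ 7 ∣ Nat.card ↥(stabilizer H a ⊓ stabilizer H b) := by
    intro hd
    obtain ⟨k, hk⟩ := exists_prime_orderOf_dvd_card' 7 hd
    rw [← Subgroup.orderOf_coe] at hk
    have hk2 := k.2
    rw [Subgroup.mem_inf, mem_stabilizer_iff, mem_stabilizer_iff] at hk2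
    exact hab (h7 k hk a b hk2.1 hk2.2)
  have h2 := ((stabilizer H a ⊓ stabilizer H b).subgroupOf (stabilizer H a)).card_mul_index
  rw [← stab_sub, index_stabilizer, stab_sub, card_stab hH hX h5 a,
    Nat.card_congr (Subgroup.subgroupOfEquivOfLe (inf_le_left)).toEquiv] at h2
  refine ⟨?_, h2⟩
  have h3 : 7 ∣ (orbit (stabilizer H a) b).ncard := by
    have h4 : 7 ∣ Nat.card ↥(stabilizer H a ⊓ stabilizer H b) *
        (orbit (stabilizer H a) b).ncard := by
      rw [h2]; norm_num
    rcases (Nat.Prime.dvd_mul (by norm_num)).mp h4 with h | h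
    · exact absurd h h1
    · exact h
  have h4 : (orbit (stabilizer H a) b).ncard ≤ 14 := by
    have h5' := Set.ncard_le_ncard (orbit_sub_subset (H := H) a b hab) (Set.toFinite _)
    have h6 := Set.ncard_add_ncard_compl ({a} : Set X)
    rw [Set.ncard_singleton, hX] at h6
    omega
  have h5' : (orbit (stabilizer H a) b).ncard ≠ 0 := by
    intro h0
    rw [h0] at h2
    omega
  obtain ⟨k, hk⟩ := h3
  omega

theorem compl_singleton_ncard (hX : Nat.card X = 15) (a : X) : ({a}ᶜ : Set X).ncard = 14 := by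
  have h6 := Set.ncard_add_ncard_compl ({a} : Set X)
  rw [Set.ncard_singleton, hX] at h6
  omega

/-- step D1 -/
theorem all_seven (hH : Nat.card H = 2520) (hX : Nat.card X = 15)
    (h5 : ∀ g : H, orderOf g = 5 → ∀ x : X, g • x ≠ x)
    (h7 : ∀ g : H, orderOf g = 7 → ∀ x y : X, g • x = x → g • y = y → x = y)
    (a b : X) (hab : a ≠ b) (h7b : (orbit (stabilizer H a) b).ncard = 7) (c : X) (hac : a ≠ c) :
    (orbit (stabilizer H a) c).ncard = 7 := by
  rcases (orbit_sub_card hH hX h5 h7 a c hac).1 with h | h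
  · exact h
  · exfalso
    have h1 : orbit (stabilizer H a) c = {a}ᶜ := by
      apply Set.eq_of_subset_of_ncard_le (orbit_sub_subset a c hac) _ (Set.toFinite _)
      rw [h, compl_singleton_ncard hX]
    have hb : b ∈ orbit (stabilizer H a) c := by
      rw [h1, Set.mem_compl_iff, Set.mem_singleton_iff]
      exact fun h => hab h.symm
    have h2 := orbit_eq_iff.mpr hb
    rw [h2] at h7b
    omega

/-- the setwise stabiliser of a pair -/
def pairStab (H : Type*) [Group H] {X : Type*} [MulAction H X] (a c : X) : Subgroup H where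
  carrier := {g | (g • a = a ∧ g • c = c) ∨ (g • a = c ∧ g • c = a)}
  one_mem' := Or.inl ⟨one_smul _ _, one_smul _ _⟩
  mul_mem' := by
    rintro g h (⟨g1, g2⟩ | ⟨g1, g2⟩) (⟨h1, h2⟩ | ⟨h1, h2⟩)
    · left; rw [mul_smul, mul_smul, h1, h2]; exact ⟨g1, g2⟩
    · right; rw [mul_smul, mul_smul, h1, h2]; exact ⟨g2, g1⟩
    · right; rw [mul_smul, mul_smul, h1, h2]; exact ⟨g1, g2⟩
    · left; rw [mul_smul, mul_smul, h1, h2]; exact ⟨g2, g1⟩
  inv_mem' := by
    rintro g (⟨g1, g2⟩ | ⟨g1, g2⟩)
    · left; exact ⟨inv_smul_eq_iff.mpr g1.symm, inv_smul_eq_iff.mpr g2.symm⟩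
    · right; exact ⟨inv_smul_eq_iff.mpr g2.symm, inv_smul_eq_iff.mpr g1.symm⟩

theorem mem_pairStab {a c : X} {g : H} :
    g ∈ pairStab H a c ↔ (g • a = a ∧ g • c = c) ∨ (g • a = c ∧ g • c = a) := Iff.rfl

/-- step D2 -/
theorem no_seven (hH : Nat.card H = 2520) (hX : Nat.card X = 15)
    (h5 : ∀ g : H, orderOf g = 5 → ∀ x : X, g • x ≠ x)
    (h7 : ∀ g : H, orderOf g = 7 → ∀ x y : X, g • x = x → g • y = y → x = y)
    (a b : X) (hab : a ≠ b) (h7b : (orbit (stabilizer H a) b).ncard = 7) : False := by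
  have : Fact (Nat.Prime 2) := ⟨Nat.prime_two⟩
  obtain ⟨t0, ht0⟩ := exists_prime_orderOf_dvd_card' (G := H) 2 (by rw [hH]; norm_num)
  have hmove : ∃ x : X, t0 • x ≠ x := by
    by_contra hcon
    push Not at hcon
    rcases (MonoidHom.normal_ker (MulAction.toPermHom H X)).eq_bot_or_eq_top with hk | hk
    · have h1 : t0 ∈ (MulAction.toPermHom H X).ker := by
        rw [MonoidHom.mem_ker]
        ext x
        exact hcon x
      rw [hk, Subgroup.mem_bot] at h1
      rw [h1, orderOf_one] at ht0
      omega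
    · have h1 : stabilizer H a = ⊤ := by
        rw [eq_top_iff]
        intro h _
        rw [mem_stabilizer_iff]
        have h2 : h ∈ (MulAction.toPermHom H X).ker := by rw [hk]; trivial
        rw [MonoidHom.mem_ker] at h2
        exact congrArg (fun σ : Equiv.Perm X => σ a) h2
      have h2 := index_stab hH hX h5 a
      rw [h1, Subgroup.index_top] at h2
      omega
  obtain ⟨x, hx⟩ := hmove
  obtain ⟨h, hh⟩ := exists_smul_eq hH hX h5 x a
  have ht0sq : t0 * t0 = 1 := by
    have := pow_orderOf_eq_one t0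
    rw [ht0, pow_two] at this
    exact this
  obtain ⟨t, ht⟩ : ∃ t : H, t = h * t0 * h⁻¹ := ⟨_, rfl⟩
  have ht2 : t * t = 1 := by
    rw [ht]
    calc h * t0 * h⁻¹ * (h * t0 * h⁻¹) = h * (t0 * t0) * h⁻¹ := by group
      _ = 1 := by rw [ht0sq]; group
  have hta : t • a ≠ a := by
    intro h'
    have h1 : h⁻¹ • a = x := by rw [← hh, inv_smul_smul]
    rw [ht, mul_smul, mul_smul, h1] at h'
    have h2 : h • t0 • x = h • x := h'.trans hh.symm
    exact hx (smul_left_cancel h h2)
  obtain ⟨c, hc⟩ : ∃ c : X, c = t • a := ⟨_, rfl⟩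
  have hac : a ≠ c := by rw [hc]; exact fun h => hta h.symm
  have htc : t • c = a := by rw [hc, ← mul_smul, ht2, one_smul]
  have hc7 := all_seven hH hX h5 h7 a b hab h7b c hac
  have hL := (orbit_sub_card hH hX h5 h7 a c hac).2
  rw [hc7] at hL
  have hLS : stabilizer H a ⊓ stabilizer H c ≤ pairStab H a c := by
    intro g hg
    rw [Subgroup.mem_inf, mem_stabilizer_iff, mem_stabilizer_iff] at hg
    exact Or.inl hg
  have htS : t ∈ pairStab H a c := Or.inr ⟨hc.symm, htc⟩
  have hidx : ((stabilizer H a ⊓ stabilizer H c).subgroupOf (pairStab H a c)).index = 2 := by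
    rw [Subgroup.index_eq_two_iff]
    refine ⟨⟨t, htS⟩, ?_⟩
    rintro ⟨g, hg⟩
    rw [Subgroup.mem_subgroupOf, Subgroup.mem_subgroupOf, Subgroup.mem_inf, Subgroup.mem_inf,
      mem_stabilizer_iff, mem_stabilizer_iff, mem_stabilizer_iff, mem_stabilizer_iff]
    show Xor ((g * t) • a = a ∧ (g * t) • c = c) (g • a = a ∧ g • c = c)
    rw [mul_smul, mul_smul, htc, ← hc]
    rcases hg with ⟨g1, g2⟩ | ⟨g1, g2⟩
    · right
      refine ⟨⟨g1, g2⟩, ?_⟩
      rintro ⟨h1, -⟩
      exact hac (h1.symm.trans g2)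
    · left
      refine ⟨⟨g2, g1⟩, ?_⟩
      rintro ⟨h1, -⟩
      exact hac (h1.symm.trans g1)
  have h1 := ((stabilizer H a ⊓ stabilizer H c).subgroupOf (pairStab H a c)).card_mul_index
  rw [hidx, Nat.card_congr (Subgroup.subgroupOfEquivOfLe hLS).toEquiv] at h1
  have h2 := (pairStab H a c).card_subgroup_dvd_card
  rw [hH, ← h1] at h2
  have h3 : Nat.card ↥(stabilizer H a ⊓ stabilizer H c) = 24 := by omega
  rw [h3] at h2
  norm_num at h2

/-- **Core lemma**: a simple group of order 2520 acting on 15 points such that elements of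
order 5 are fixed-point-free and elements of order 7 fix at most one point is 2-transitive. -/
theorem two_trans_core (hH : Nat.card H = 2520) (hX : Nat.card X = 15)
    (h5 : ∀ g : H, orderOf g = 5 → ∀ x : X, g • x ≠ x)
    (h7 : ∀ g : H, orderOf g = 7 → ∀ x y : X, g • x = x → g • y = y → x = y)
    (a b c d : X) (hab : a ≠ b) (hcd : c ≠ d) : ∃ g : H, g • a = c ∧ g • b = d := by
  obtain ⟨h, hh⟩ := exists_smul_eq hH hX h5 a c
  have h14 : (orbit (stabilizer H a) b).ncard = 14 := by
    rcases (orbit_sub_card hH hX h5 h7 a b hab).1 with h | h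
    · exact (no_seven hH hX h5 h7 a b hab h).elim
    · exact h
  have h1 : orbit (stabilizer H a) b = {a}ᶜ := by
    apply Set.eq_of_subset_of_ncard_le (orbit_sub_subset a b hab) _ (Set.toFinite _)
    rw [h14, compl_singleton_ncard hX]
  have h2 : h⁻¹ • d ∈ orbit (stabilizer H a) b := by
    rw [h1, Set.mem_compl_iff, Set.mem_singleton_iff]
    intro h3
    apply hcd
    rw [← hh, ← h3, smul_inv_smul]
  obtain ⟨k, hk⟩ := h2
  refine ⟨h * k, ?_, ?_⟩
  · rw [mul_smul, mem_stabilizer_iff.mp k.2, hh]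
  · have hk' : (k : H) • b = h⁻¹ • d := hk
    rw [mul_smul, hk', smul_inv_smul]

end

end Cfsg.Agent.Lib.H2.A7GL4
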