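import Mathlib
import Cfsg.Agent.S0256
import Cfsg.Agent.Lib.H2.A7GL4a

set_option autoImplicit false
set_option linter.unusedSectionVars false

namespace Cfsg.Agent.Lib.H2.A7GL4

open MulAction

section
variable {F : Type*} [Field F]

/-- nonzero vectors -/
def NZ (F : Type*) [Field F] : Type _ := {v : Fin 4 → F // v ≠ 0}

theorem mulVec_ne_zero (g : GL (Fin 4) F) {v : Fin 4 → F} (hv : v ≠ 0) :
    (g : Matrix (Fin 4) (Fin 4) F).mulVec v ≠ 0 := by
  intro h
  apply hv
  have h1 : ((g⁻¹ : GL (Fin 4) F) : Matrix (Fin 4) (Fin 4) F).mulVec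
      ((g : Matrix (Fin 4) (Fin 4) F).mulVec v) = v := by
    rw [Matrix.mulVec_mulVec, ← Units.val_mul, inv_mul_cancel, Units.val_one, Matrix.one_mulVec]
  rw [← h1, h, Matrix.mulVec_zero]

instance : MulAction (GL (Fin 4) F) (NZ F) where
  smul g v := ⟨(g : Matrix (Fin 4) (Fin 4) F).mulVec v.1, mulVec_ne_zero g v.2⟩
  one_smul v := Subtype.ext (Matrix.one_mulVec v.1)
  mul_smul g h v := Subtype.ext (by
    show ((g * h : GL (Fin 4) F) : Matrix (Fin 4) (Fin 4) F).mulVec v.1
      = (g : Matrix (Fin 4) (Fin 4) F).mulVec ((h : Matrix (Fin 4) (Fin 4) F).mulVec v.1)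
    rw [Matrix.mulVec_mulVec, Units.val_mul])

theorem smul_val (g : GL (Fin 4) F) (v : NZ F) :
    (g • v).1 = (g : Matrix (Fin 4) (Fin 4) F).mulVec v.1 := rfl

/-- fixed vectors -/
def fixSub (g : GL (Fin 4) F) : AddSubgroup (Fin 4 → F) where
  carrier := {v | (g : Matrix (Fin 4) (Fin 4) F).mulVec v = v}
  zero_mem' := Matrix.mulVec_zero _
  add_mem' := by
    intro a b ha hb
    rw [Set.mem_ofPred_eq] at ha hb ⊢
    rw [Matrix.mulVec_add, ha, hb]
  neg_mem' := by
    intro a ha
    rw [Set.mem_ofPred_eq] at ha ⊢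
    rw [Matrix.mulVec_neg, ha]

theorem mem_fixSub {g : GL (Fin 4) F} {v : Fin 4 → F} :
    v ∈ fixSub g ↔ (g : Matrix (Fin 4) (Fin 4) F).mulVec v = v := Iff.rfl

/-- the action of a matrix as an endofunction -/
def fE (g : GL (Fin 4) F) : Function.End (Fin 4 → F) :=
  fun v => (g : Matrix (Fin 4) (Fin 4) F).mulVec v

theorem fE_apply (g : GL (Fin 4) F) (v : Fin 4 → F) :
    fE g v = (g : Matrix (Fin 4) (Fin 4) F).mulVec v := rfl

theorem fE_one : fE (1 : GL (Fin 4) F) = 1 := by
  funext v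
  show ((1 : GL (Fin 4) F) : Matrix (Fin 4) (Fin 4) F).mulVec v = v
  rw [Units.val_one, Matrix.one_mulVec]

theorem fE_pow (g : GL (Fin 4) F) (n : ℕ) : fE g ^ n = fE (g ^ n) := by
  induction n with
  | zero => rw [pow_zero, pow_zero, fE_one]
  | succ n ih =>
    rw [pow_succ, ih, pow_succ]
    funext v
    show fE (g ^ n) (fE g v) = fE (g ^ n * g) v
    rw [fE_apply, fE_apply, fE_apply, Matrix.mulVec_mulVec, Units.val_mul]

variable [Fintype F]

theorem card_vec (hF : Fintype.card F = 2) : Nat.card (Fin 4 → F) = 16 := by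
  rw [Nat.card_eq_fintype_card, Fintype.card_fun, hF, Fintype.card_fin]
  norm_num

theorem card_NZ (hF : Fintype.card F = 2) : Nat.card (NZ F) = 15 := by
  classical
  have h1 : Nat.card (NZ F) = ({0}ᶜ : Set (Fin 4 → F)).ncard := by
    rw [← Nat.card_coe_set_eq]
    rfl
  have h2 := Set.ncard_add_ncard_compl ({0} : Set (Fin 4 → F))
  rw [Set.ncard_singleton, card_vec hF] at h2
  omega

instance : Finite (NZ F) := by
  unfold NZ
  infer_instance

theorem card_fix_modEq (g : GL (Fin 4) F) (p : ℕ) [hp : Fact p.Prime] (hg : g ^ p = 1) :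
    Nat.card (Fin 4 → F) ≡ Nat.card (fixSub g) [MOD p] := by
  classical
  have h1 : fE g ^ p ^ 1 = 1 := by
    rw [pow_one, fE_pow, hg, fE_one]
  have h2 := Equiv.Perm.card_fixedPoints_modEq (p := p) (n := 1) h1
  rw [Fintype.card_eq_nat_card, Fintype.card_eq_nat_card] at h2
  have h3 : Nat.card ↥(Function.fixedPoints (fE g)) = Nat.card ↥(fixSub g) :=
    Nat.card_congr (Equiv.subtypeEquivRight (fun v => Iff.rfl))
  rw [h3] at h2
  exact h2

theorem card_fix_cases (hF : Fintype.card F = 2) (g : GL (Fin 4) F) :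
    Nat.card (fixSub g) = 1 ∨ Nat.card (fixSub g) = 2 ∨ Nat.card (fixSub g) = 4 ∨
      Nat.card (fixSub g) = 8 ∨ Nat.card (fixSub g) = 16 := by
  have h1 := (fixSub g).card_addSubgroup_dvd_card
  rw [card_vec hF] at h1
  have h2 : (16 : ℕ) = 2 ^ 4 := by norm_num
  rw [h2] at h1
  obtain ⟨m, hm, hm'⟩ := (Nat.dvd_prime_pow Nat.prime_two).mp h1
  rw [hm']
  interval_cases m <;> simp

theorem eq_one_of_fix_top (hF : Fintype.card F = 2) (g : GL (Fin 4) F)
    (h : Nat.card (fixSub g) = 16) : g = 1 := by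
  have h1 : fixSub g = ⊤ := by
    rw [← AddSubgroup.card_eq_iff_eq_top, h, card_vec hF]
  apply Units.ext
  apply Matrix.toLin'.injective
  apply LinearMap.ext
  intro v
  have h2 : v ∈ fixSub g := by rw [h1]; trivial
  rw [Matrix.toLin'_apply, Units.val_one, Matrix.toLin'_one]
  exact h2

theorem fix_five (hF : Fintype.card F = 2) (g : GL (Fin 4) F) (hg : orderOf g = 5) (x : NZ F) :
    g • x ≠ x := by
  have : Fact (Nat.Prime 5) := ⟨by norm_num⟩
  have h1 := card_fix_modEq g 5 (by rw [← hg]; exact pow_orderOf_eq_one g)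
  rw [card_vec hF] at h1
  have h2 : Nat.card (fixSub g) ≠ 16 := by
    intro h
    rw [eq_one_of_fix_top hF g h, orderOf_one] at hg
    omega
  have h3 : Nat.card (fixSub g) = 1 := by
    unfold Nat.ModEq at h1
    rcases card_fix_cases hF g with h | h | h | h | h <;> omega
  intro hx
  have h4 : x.1 ∈ fixSub g := congrArg Subtype.val hx
  have h5 := AddSubgroup.eq_bot_of_card_eq _ h3
  rw [h5, AddSubgroup.mem_bot] at h4
  exact x.2 h4

theorem fix_seven (hF : Fintype.card F = 2) (g : GL (Fin 4) F) (hg : orderOf g = 7) (x y : NZ F)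
    (hx : g • x = x) (hy : g • y = y) : x = y := by
  have : Fact (Nat.Prime 7) := ⟨by norm_num⟩
  have h1 := card_fix_modEq g 7 (by rw [← hg]; exact pow_orderOf_eq_one g)
  rw [card_vec hF] at h1
  have h2 : Nat.card (fixSub g) ≠ 16 := by
    intro h
    rw [eq_one_of_fix_top hF g h, orderOf_one] at hg
    omega
  have h3 : Nat.card (fixSub g) = 2 := by
    unfold Nat.ModEq at h1
    rcases card_fix_cases hF g with h | h | h | h | h <;> omega
  have h4 : x.1 ∈ fixSub g := congrArg Subtype.val hx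
  have h5 : y.1 ∈ fixSub g := congrArg Subtype.val hy
  obtain ⟨z, -, hz⟩ := (Nat.card_eq_two_iff' (0 : fixSub g)).mp h3
  have h6 : (⟨x.1, h4⟩ : fixSub g) = z := hz _ (fun h => x.2 (congrArg Subtype.val h))
  have h7 : (⟨y.1, h5⟩ : fixSub g) = z := hz _ (fun h => y.2 (congrArg Subtype.val h))
  have h8 := congrArg (fun z : fixSub g => (z : Fin 4 → F)) (h6.trans h7.symm)
  exact Subtype.ext h8

/-- **Part 2**: every `A₇` inside `GL₄(2)` is 2-transitive on the nonzero vectors. -/
theorem part2 (hF : Fintype.card F = 2) (Hs : Subgroup (GL (Fin 4) F))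
    (e : Hs ≃* alternatingGroup (Fin 7)) (v w v' w' : Fin 4 → F) (hv : v ≠ 0) (hw : w ≠ 0)
    (hvw : v ≠ w) (hv' : v' ≠ 0) (hw' : w' ≠ 0) (hvw' : v' ≠ w') :
    ∃ g ∈ Hs, (g : Matrix (Fin 4) (Fin 4) F).mulVec v = v' ∧
      (g : Matrix (Fin 4) (Fin 4) F).mulVec w = w' := by
  have hs7 : IsSimpleGroup (alternatingGroup (Fin 7)) :=
    alternatingGroup.isSimpleGroup (by rw [Nat.card_fin]; norm_num)
  have hsH : IsSimpleGroup Hs := e.isSimpleGroup
  have hcard : Nat.card Hs = 2520 := by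
    rw [Nat.card_congr e.toEquiv]
    have h2 := two_mul_nat_card_alternatingGroup (α := Fin 7)
    rw [Nat.card_perm, Nat.card_fin] at h2
    have h3 : Nat.factorial 7 = 5040 := by decide
    omega
  have h5 : ∀ g : Hs, orderOf g = 5 → ∀ x : NZ F, g • x ≠ x := by
    intro g hg x
    rw [← Subgroup.orderOf_coe] at hg
    exact fix_five hF g hg x
  have h7 : ∀ g : Hs, orderOf g = 7 → ∀ x y : NZ F, g • x = x → g • y = y → x = y := by
    intro g hg x y hx hy
    rw [← Subgroup.orderOf_coe] at hg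
    exact fix_seven hF g hg x y hx hy
  obtain ⟨g, hg1, hg2⟩ := two_trans_core hcard (card_NZ hF) h5 h7
    (⟨v, hv⟩ : NZ F) ⟨w, hw⟩ ⟨v', hv'⟩ ⟨w', hw'⟩
    (fun h => hvw (congrArg Subtype.val h)) (fun h => hvw' (congrArg Subtype.val h))
  exact ⟨g.1, g.2, congrArg Subtype.val hg1, congrArg Subtype.val hg2⟩

/-- `A₇ ↪ A₈` -/
def emb78 : alternatingGroup (Fin 7) →* alternatingGroup (Fin 8) :=
  ((Equiv.Perm.extendDomainHom (finSuccAboveEquiv (Fin.last 7))).comp
    (alternatingGroup (Fin 7)).subtype).codRestrict (alternatingGroup (Fin 8)) (by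
    intro g
    rw [Equiv.Perm.mem_alternatingGroup]
    show Equiv.Perm.sign (Equiv.Perm.extendDomain g.1 _) = 1
    rw [Equiv.Perm.sign_extendDomain]
    exact Equiv.Perm.mem_alternatingGroup.mp g.2)

theorem emb78_injective : Function.Injective emb78 := by
  rw [emb78, MonoidHom.injective_codRestrict]
  exact (Equiv.Perm.extendDomainHom_injective _).comp Subtype.val_injective

theorem eq_zero_or_one (hF : Fintype.card F = 2) (r : F) : r = 0 ∨ r = 1 := by
  classical
  by_contra h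
  push Not at h
  have h1 : ({0, 1, r} : Finset F).card = 3 := by
    rw [Finset.card_insert_of_notMem, Finset.card_insert_of_notMem, Finset.card_singleton]
    · rw [Finset.mem_singleton]; exact fun h' => h.2 h'.symm
    · rw [Finset.mem_insert, Finset.mem_singleton]
      rintro (h' | h')
      · exact zero_ne_one h'
      · exact h.1 h'.symm
  have h2 := Finset.card_le_univ ({0, 1, r} : Finset F)
  omega

theorem center_SL4 (hF : Fintype.card F = 2) :
    Subgroup.center (Matrix.SpecialLinearGroup (Fin 4) F) = ⊥ := by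
  rw [eq_bot_iff]
  intro A hA
  rw [Matrix.SpecialLinearGroup.mem_center_iff] at hA
  obtain ⟨r, hr, hrA⟩ := hA
  have hr1 : r = 1 := by
    rcases eq_zero_or_one hF r with h | h
    · rw [h] at hr
      simp at hr
    · exact h
  rw [Subgroup.mem_bot]
  apply Subtype.ext
  rw [← hrA, hr1]
  simp

/-- **Part 1**: `GL₄(2)` contains a copy of `A₇`. -/
theorem part1 (hF : Fintype.card F = 2) :
    ∃ Hs : Subgroup (GL (Fin 4) F), Nonempty (Hs ≃* alternatingGroup (Fin 7)) := by
  obtain ⟨e⟩ := Cfsg.Agent.S0256.result (F := F) hF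
  have hc := center_SL4 hF
  have φ : Matrix.ProjectiveSpecialLinearGroup (Fin 4) F ≃* Matrix.SpecialLinearGroup (Fin 4) F :=
    (QuotientGroup.quotientMulEquivOfEq hc).trans QuotientGroup.quotientBot
  obtain ⟨ι, hι⟩ : ∃ ι : alternatingGroup (Fin 7) →* GL (Fin 4) F, Function.Injective ι :=
    ⟨Matrix.SpecialLinearGroup.toGL.comp (φ.toMonoidHom.comp (e.symm.toMonoidHom.comp emb78)),
      Matrix.SpecialLinearGroup.toGL_injective.comp
        (φ.injective.comp (e.symm.injective.comp emb78_injective))⟩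
  exact ⟨ι.range, ⟨(MonoidHom.ofInjective hι).symm⟩⟩

end

end Cfsg.Agent.Lib.H2.A7GL4
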