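import Mathlib

set_option autoImplicit false
set_option linter.unusedSimpArgs false
set_option linter.unusedSectionVars false
set_option linter.unusedVariables false

/-!
# Averaging the number of fixed points of `a * (g b g⁻¹)` over a 2-transitive group
-/

namespace Cfsg.Agent.Lib.H2.AH

open Equiv Finset

variable {α : Type*} [Fintype α] [DecidableEq α]

/-- number of fixed points -/
def fx (g : Perm α) : ℕ := (univ.filter fun x => g x = x).card

theorem pinv_apply (g : Perm α) (x : α) : g⁻¹ (g x) = x := g.symm_apply_apply x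

theorem papply_inv (g : Perm α) (x : α) : g (g⁻¹ x) = x := g.apply_symm_apply x

/-- a finite group of permutations, given as a finset, fixing every point outside `Ω` and
2-transitive on `Ω` -/
structure Grp (𝒢 : Finset (Perm α)) (Ω : Finset α) : Prop where
  mul : ∀ g ∈ 𝒢, ∀ h ∈ 𝒢, g * h ∈ 𝒢
  inv : ∀ g ∈ 𝒢, g⁻¹ ∈ 𝒢
  ne : 𝒢.Nonempty
  fix : ∀ g ∈ 𝒢, ∀ x, x ∉ Ω → g x = x
  tr1 : ∀ w ∈ Ω, ∀ x ∈ Ω, ∃ g ∈ 𝒢, g w = x
  tr2 : ∀ w ∈ Ω, ∀ w' ∈ Ω, ∀ x ∈ Ω, ∀ x' ∈ Ω, w ≠ w' → x ≠ x' →
    ∃ g ∈ 𝒢, g w = x ∧ g w' = x'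

/-- a permutation fixing every point outside `Ω` preserves `Ω` -/
theorem map_mem_of_fix {Ω : Finset α} {g : Perm α} (hg : ∀ x, x ∉ Ω → g x = x) {x : α}
    (hx : x ∈ Ω) : g x ∈ Ω := by
  by_contra hcon
  have h1 := hg (g x) hcon
  have h2 : g x = x := g.injective h1
  rw [h2] at hcon
  exact hcon hx

theorem symm_fix {Ω : Finset α} {g : Perm α} (hg : ∀ x, x ∉ Ω → g x = x) :
    ∀ x, x ∉ Ω → g⁻¹ x = x := by
  intro x hx
  rw [Perm.inv_eq_iff_eq, hg x hx]

variable {𝒢 : Finset (Perm α)} {Ω : Finset α}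

theorem Grp.map_mem (H : Grp 𝒢 Ω) {g : Perm α} (hg : g ∈ 𝒢) {x : α} (hx : x ∈ Ω) : g x ∈ Ω :=
  map_mem_of_fix (H.fix g hg) hx

theorem Grp.card_fiber1 (H : Grp 𝒢 Ω) {w x : α} (hw : w ∈ Ω) (hx : x ∈ Ω) :
    Ω.card * (𝒢.filter fun g => g w = x).card = 𝒢.card := by
  have h1 : 𝒢.card = ∑ x' ∈ Ω, (𝒢.filter fun g => g w = x').card :=
    Finset.card_eq_sum_card_fiberwise (f := fun g : Perm α => g w) (fun g hg => H.map_mem hg hw)
  have h2 : ∀ x' ∈ Ω, (𝒢.filter fun g => g w = x').card = (𝒢.filter fun g => g w = x).card := by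
    intro x' hx'
    obtain ⟨k, hk, hkx⟩ := H.tr1 x' hx' x hx
    refine Finset.card_bij' (fun g _ => k * g) (fun g _ => k⁻¹ * g) ?_ ?_ ?_ ?_
    · intro g hg
      rw [mem_filter] at hg ⊢
      exact ⟨H.mul k hk g hg.1, by rw [Perm.mul_apply, hg.2, hkx]⟩
    · intro g hg
      rw [mem_filter] at hg ⊢
      refine ⟨H.mul _ (H.inv k hk) g hg.1, ?_⟩
      rw [Perm.mul_apply, hg.2, Perm.inv_eq_iff_eq, hkx]
    · intro g _; simp
    · intro g _; simp
  rw [h1, Finset.sum_congr rfl h2, Finset.sum_const, smul_eq_mul]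

theorem Grp.card_fiber2 (H : Grp 𝒢 Ω) {w w' x x' : α} (hw : w ∈ Ω) (hw' : w' ∈ Ω)
    (hx : x ∈ Ω) (hx' : x' ∈ Ω) (hww : w ≠ w') (hxx : x ≠ x') :
    (Ω.card * Ω.card - Ω.card) * (𝒢.filter fun g => g w = x ∧ g w' = x').card = 𝒢.card := by
  have h1 : 𝒢.card = ∑ p ∈ Ω.offDiag, (𝒢.filter fun g => (g w, g w') = p).card :=
    Finset.card_eq_sum_card_fiberwise (f := fun g : Perm α => (g w, g w')) (fun g hg => by
      rw [Finset.mem_coe, mem_offDiag]
      exact ⟨H.map_mem hg hw, H.map_mem hg hw', fun h => hww (g.injective h)⟩)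
  have h2 : ∀ p ∈ Ω.offDiag, (𝒢.filter fun g => (g w, g w') = p).card =
      (𝒢.filter fun g => g w = x ∧ g w' = x').card := by
    rintro ⟨y, y'⟩ hp
    rw [mem_offDiag] at hp
    obtain ⟨k, hk, hkx, hkx'⟩ := H.tr2 y hp.1 y' hp.2.1 x hx x' hx' hp.2.2 hxx
    refine Finset.card_bij' (fun g _ => k * g) (fun g _ => k⁻¹ * g) ?_ ?_ ?_ ?_
    · intro g hg
      rw [mem_filter, Prod.mk.injEq] at hg
      rw [mem_filter]
      refine ⟨H.mul k hk g hg.1, ?_, ?_⟩
      · rw [Perm.mul_apply, hg.2.1, hkx]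
      · rw [Perm.mul_apply, hg.2.2, hkx']
    · intro g hg
      rw [mem_filter] at hg
      rw [mem_filter, Prod.mk.injEq]
      refine ⟨H.mul _ (H.inv k hk) g hg.1, ?_, ?_⟩
      · rw [Perm.mul_apply, hg.2.1, Perm.inv_eq_iff_eq, hkx]
      · rw [Perm.mul_apply, hg.2.2, Perm.inv_eq_iff_eq, hkx']
    · intro g _; simp
    · intro g _; simp
  rw [h1, Finset.sum_congr rfl h2, Finset.sum_const, smul_eq_mul, Finset.offDiag_card]

/-- the number of `g` with `a (g b g⁻¹) x = x`, for `x ∈ Ω` -/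
theorem Grp.count_point (H : Grp 𝒢 Ω) (a b : Perm α) (ha : ∀ x, x ∉ Ω → a x = x)
    (hb : ∀ x, x ∉ Ω → b x = x) {x : α} (hx : x ∈ Ω) :
    (Ω.card * Ω.card - Ω.card) * (𝒢.filter fun g => (a * (g * b * g⁻¹)) x = x).card =
      if a x = x then (Ω.card - 1) * (Ω.filter fun w => b w = w).card * 𝒢.card
      else (Ω.filter fun w => b w ≠ w).card * 𝒢.card := by
  set M := Ω.card * Ω.card - Ω.card with hM
  have hMN : M = (Ω.card - 1) * Ω.card := by
    rw [hM, Nat.sub_mul, one_mul]
  -- fibre over w = g⁻¹ x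
  have h1 : (𝒢.filter fun g => (a * (g * b * g⁻¹)) x = x).card =
      ∑ w ∈ Ω, ((𝒢.filter fun g => (a * (g * b * g⁻¹)) x = x).filter fun g => g⁻¹ x = w).card :=
    Finset.card_eq_sum_card_fiberwise (f := fun g : Perm α => g⁻¹ x) (fun g hg => by
      rw [Finset.mem_coe, mem_filter] at hg
      exact H.map_mem (H.inv g hg.1) hx)
  have hax : a⁻¹ x ∈ Ω := map_mem_of_fix (symm_fix ha) hx
  have h2 : ∀ w ∈ Ω, M * ((𝒢.filter fun g => (a * (g * b * g⁻¹)) x = x).filter
      fun g => g⁻¹ x = w).card =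
      if a x = x then (if b w = w then (Ω.card - 1) * 𝒢.card else 0)
      else (if b w = w then 0 else 𝒢.card) := by
    intro w hw
    have hbw : b w ∈ Ω := map_mem_of_fix hb hw
    by_cases hbw' : b w = w
    · by_cases hax' : a x = x
      · rw [if_pos hax', if_pos hbw']
        have : ((𝒢.filter fun g => (a * (g * b * g⁻¹)) x = x).filter fun g => g⁻¹ x = w) =
            𝒢.filter fun g => g w = x := by
          ext g
          rw [Finset.mem_filter, Finset.mem_filter, Finset.mem_filter]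
          constructor
          · rintro ⟨⟨hg, _⟩, h3⟩
            exact ⟨hg, by rw [← h3, papply_inv]⟩
          · rintro ⟨hg, h3⟩
            have h4 : g⁻¹ x = w := by rw [← h3, pinv_apply]
            exact ⟨⟨hg, by
              rw [Perm.mul_apply, Perm.mul_apply, Perm.mul_apply, h4, hbw', h3, hax']⟩, h4⟩
        rw [this, hMN, mul_assoc, H.card_fiber1 hw hx]
      · rw [if_neg hax', if_pos hbw']
        have : ((𝒢.filter fun g => (a * (g * b * g⁻¹)) x = x).filter fun g => g⁻¹ x = w) = ∅ := by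
          rw [Finset.eq_empty_iff_forall_notMem]
          intro g hg
          rw [Finset.mem_filter, Finset.mem_filter] at hg
          obtain ⟨⟨hg, h3⟩, h4⟩ := hg
          rw [Perm.mul_apply, Perm.mul_apply, Perm.mul_apply, h4, hbw', ← h4, papply_inv] at h3
          exact hax' h3
        rw [this, card_empty, mul_zero]
    · by_cases hax' : a x = x
      · rw [if_pos hax', if_neg hbw']
        have : ((𝒢.filter fun g => (a * (g * b * g⁻¹)) x = x).filter fun g => g⁻¹ x = w) = ∅ := by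
          rw [Finset.eq_empty_iff_forall_notMem]
          intro g hg
          rw [Finset.mem_filter, Finset.mem_filter] at hg
          obtain ⟨⟨hg, h3⟩, h4⟩ := hg
          rw [Perm.mul_apply, Perm.mul_apply, Perm.mul_apply, h4] at h3
          have h5 : g (b w) = x := by
            have := congrArg (fun y => a⁻¹ y) h3
            simp only [pinv_apply] at this
            rw [this, Perm.inv_eq_iff_eq, hax']
          have h6 : g w = x := by rw [← h4, papply_inv]
          exact hbw' (g.injective (h5.trans h6.symm))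
        rw [this, card_empty, mul_zero]
      · rw [if_neg hax', if_neg hbw']
        have : ((𝒢.filter fun g => (a * (g * b * g⁻¹)) x = x).filter fun g => g⁻¹ x = w) =
            𝒢.filter fun g => g w = x ∧ g (b w) = a⁻¹ x := by
          ext g
          rw [Finset.mem_filter, Finset.mem_filter, Finset.mem_filter]
          constructor
          · rintro ⟨⟨hg, h3⟩, h4⟩
            refine ⟨hg, by rw [← h4, papply_inv], ?_⟩
            rw [Perm.mul_apply, Perm.mul_apply, Perm.mul_apply, h4] at h3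
            rw [← h3, pinv_apply]
          · rintro ⟨hg, h3, h4⟩
            have h5 : g⁻¹ x = w := by rw [← h3, pinv_apply]
            exact ⟨⟨hg, by
              rw [Perm.mul_apply, Perm.mul_apply, Perm.mul_apply, h5, h4, papply_inv]⟩, h5⟩
        rw [this]
        refine H.card_fiber2 hw hbw hx hax (fun h => hbw' h.symm) ?_
        intro h
        apply hax'
        have := congrArg (fun y => a y) h
        simp only [papply_inv] at this
        exact this
  rw [h1, Finset.mul_sum, Finset.sum_congr rfl h2]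
  by_cases hax' : a x = x
  · simp only [if_pos hax']
    rw [← Finset.sum_filter, Finset.sum_const, smul_eq_mul]
    ring
  · simp only [if_neg hax']
    rw [Finset.sum_ite, Finset.sum_const_zero, zero_add, Finset.sum_const, smul_eq_mul]

/-- the averaging identity -/
theorem Grp.sum_fx (H : Grp 𝒢 Ω) (a b : Perm α) (ha : ∀ x, x ∉ Ω → a x = x)
    (hb : ∀ x, x ∉ Ω → b x = x) :
    (Ω.card * Ω.card - Ω.card) * ∑ g ∈ 𝒢, fx (a * (g * b * g⁻¹)) =
      𝒢.card * ((Ω.card * Ω.card - Ω.card) * (Fintype.card α - Ω.card) +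
        (Ω.card - 1) * (Ω.filter fun x => a x = x).card * (Ω.filter fun x => b x = x).card +
        (Ω.filter fun x => a x ≠ x).card * (Ω.filter fun x => b x ≠ x).card) := by
  set M := Ω.card * Ω.card - Ω.card with hM
  have h1 : ∑ g ∈ 𝒢, fx (a * (g * b * g⁻¹)) =
      ∑ x, (𝒢.filter fun g => (a * (g * b * g⁻¹)) x = x).card := by
    unfold fx
    simp_rw [Finset.card_filter]
    exact Finset.sum_comm
  have h2 : ∀ x ∈ Ωᶜ, (𝒢.filter fun g => (a * (g * b * g⁻¹)) x = x).card = 𝒢.card := by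
    intro x hx
    rw [mem_compl] at hx
    congr 1
    rw [Finset.filter_eq_self]
    intro g hg
    rw [Perm.mul_apply, Perm.mul_apply, Perm.mul_apply, symm_fix (H.fix g hg) x hx, hb x hx,
      H.fix g hg x hx, ha x hx]
  rw [h1, ← Finset.sum_add_sum_compl Ω, mul_add, Finset.sum_congr rfl h2, Finset.sum_const,
    smul_eq_mul, Finset.card_compl, Finset.mul_sum,
    Finset.sum_congr rfl (fun x hx => H.count_point a b ha hb hx), Finset.sum_ite,
    Finset.sum_const, Finset.sum_const, smul_eq_mul, smul_eq_mul]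
  ring

end Cfsg.Agent.Lib.H2.AH
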