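import Mathlib
import Cfsg.Agent.Lib.H2.AH1

set_option autoImplicit false
set_option linter.unusedSimpArgs false
set_option linter.unusedSectionVars false
set_option linter.unusedVariables false

/-!
# Even permutations with prescribed values; the groups `Alt` and its point stabiliser
-/

namespace Cfsg.Agent.Lib.H2.AH

open Equiv Finset

variable {α : Type*} [Fintype α] [DecidableEq α]

/-- an even permutation extending a partial injection, when two points are left over -/
theorem exists_even_extending {ι : Type*} [Fintype ι] (f g : ι → α) (hf : Function.Injective f)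
    (hg : Function.Injective g) (hcard : Fintype.card ι + 2 ≤ Fintype.card α) :
    ∃ σ : Perm α, Perm.sign σ = 1 ∧ ∀ i, σ (f i) = g i := by
  classical
  obtain ⟨σ, hσ⟩ := Perm.exists_extending_pair f g hf hg
  rcases Int.units_eq_one_or (Perm.sign σ) with h1 | h1
  · exact ⟨σ, h1, hσ⟩
  · have hc : 2 ≤ (univ \ univ.image f).card := by
      rw [Finset.card_sdiff_of_subset (subset_univ _), Finset.card_image_of_injective _ hf,
        Finset.card_univ, Finset.card_univ]
      omega
    obtain ⟨a, ha, b, hb, hab⟩ := Finset.one_lt_card.1 hc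
    rw [mem_sdiff, mem_image] at ha hb
    refine ⟨σ * swap a b, ?_, fun i => ?_⟩
    · rw [Perm.sign_mul, h1, Perm.sign_swap hab]
      rfl
    · rw [Perm.mul_apply, swap_apply_of_ne_of_ne, hσ]
      · intro h
        exact ha.2 ⟨i, mem_univ _, h⟩
      · intro h
        exact hb.2 ⟨i, mem_univ _, h⟩

/-- the even permutations as a finset -/
def altF (α : Type*) [Fintype α] [DecidableEq α] : Finset (Perm α) :=
  univ.filter fun g => Perm.sign g = 1

theorem mem_altF {g : Perm α} : g ∈ altF α ↔ Perm.sign g = 1 := by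
  unfold altF; simp

theorem one_mem_altF : (1 : Perm α) ∈ altF α := mem_altF.2 (map_one _)

theorem mul_mem_altF {g h : Perm α} (hg : g ∈ altF α) (hh : h ∈ altF α) : g * h ∈ altF α := by
  rw [mem_altF] at *
  rw [map_mul, hg, hh, one_mul]

theorem inv_mem_altF {g : Perm α} (hg : g ∈ altF α) : g⁻¹ ∈ altF α := by
  rw [mem_altF] at *
  rw [map_inv, hg, inv_one]

theorem injective_vec2 {x y : α} (h : x ≠ y) : Function.Injective ![x, y] := by
  intro i j hij
  fin_cases i <;> fin_cases j <;> simp_all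

theorem injective_vec3 {x y z : α} (h1 : x ≠ y) (h2 : x ≠ z) (h3 : y ≠ z) :
    Function.Injective ![x, y, z] := by
  intro i j hij
  fin_cases i <;> fin_cases j <;> simp_all

theorem injective_vec4 {x y z t : α} (h1 : x ≠ y) (h2 : x ≠ z) (h3 : x ≠ t) (h4 : y ≠ z)
    (h5 : y ≠ t) (h6 : z ≠ t) : Function.Injective ![x, y, z, t] := by
  intro i j hij
  fin_cases i <;> fin_cases j <;> simp_all

/-- 2-transitivity of the even permutations -/
theorem exists_even2 (hn : 4 ≤ Fintype.card α) {w w' x x' : α} (hw : w ≠ w') (hx : x ≠ x') :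
    ∃ g ∈ altF α, g w = x ∧ g w' = x' := by
  obtain ⟨σ, h1, h2⟩ := exists_even_extending ![w, w'] ![x, x'] (injective_vec2 hw)
    (injective_vec2 hx) (by simpa using hn)
  exact ⟨σ, mem_altF.2 h1, h2 0, h2 1⟩

/-- 3-transitivity of the even permutations -/
theorem exists_even3 (hn : 5 ≤ Fintype.card α) {w w' w'' x x' x'' : α} (hw : w ≠ w')
    (hw2 : w ≠ w'') (hw3 : w' ≠ w'') (hx : x ≠ x') (hx2 : x ≠ x'') (hx3 : x' ≠ x'') :
    ∃ g ∈ altF α, g w = x ∧ g w' = x' ∧ g w'' = x'' := by
  obtain ⟨σ, h1, h2⟩ := exists_even_extending ![w, w', w''] ![x, x', x'']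
    (injective_vec3 hw hw2 hw3) (injective_vec3 hx hx2 hx3) (by simpa using hn)
  exact ⟨σ, mem_altF.2 h1, h2 0, h2 1, h2 2⟩

/-- transitivity of the even permutations -/
theorem exists_even1 (hn : 3 ≤ Fintype.card α) (w x : α) : ∃ g ∈ altF α, g w = x := by
  obtain ⟨σ, h1, h2⟩ := exists_even_extending (fun _ : Fin 1 => w) (fun _ : Fin 1 => x)
    (Function.injective_of_subsingleton _) (Function.injective_of_subsingleton _)
    (by simpa using hn)
  exact ⟨σ, mem_altF.2 h1, h2 0⟩

theorem grp_alt (hn : 4 ≤ Fintype.card α) : Grp (altF α) (univ : Finset α) where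
  mul g hg h hh := mul_mem_altF hg hh
  inv g hg := inv_mem_altF hg
  ne := ⟨1, one_mem_altF⟩
  fix g hg x hx := absurd (mem_univ x) hx
  tr1 w _ x _ := exists_even1 (by omega) w x
  tr2 w _ w' _ x _ x' _ hw hx := exists_even2 hn hw hx

theorem grp_stab (hn : 5 ≤ Fintype.card α) (p : α) :
    Grp ((altF α).filter fun g => g p = p) (univ.erase p) where
  mul g hg h hh := by
    rw [mem_filter] at *
    exact ⟨mul_mem_altF hg.1 hh.1, by rw [Perm.mul_apply, hh.2, hg.2]⟩
  inv g hg := by
    rw [mem_filter] at *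
    exact ⟨inv_mem_altF hg.1, by rw [Perm.inv_eq_iff_eq, hg.2]⟩
  ne := ⟨1, by rw [mem_filter]; exact ⟨one_mem_altF, rfl⟩⟩
  fix g hg x hx := by
    rw [mem_filter] at hg
    have : x = p := by
      by_contra h
      exact hx (mem_erase.2 ⟨h, mem_univ _⟩)
    rw [this, hg.2]
  tr1 w hw x hx := by
    rw [mem_erase] at hw hx
    obtain ⟨g, hg, h1, h2⟩ := exists_even2 (by omega) (Ne.symm hw.1) (Ne.symm hx.1)
    exact ⟨g, mem_filter.2 ⟨hg, h1⟩, h2⟩
  tr2 w hw w' hw' x hx x' hx' hww hxx := by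
    rw [mem_erase] at hw hw' hx hx'
    obtain ⟨g, hg, h1, h2, h3⟩ := exists_even3 hn (Ne.symm hw.1) (Ne.symm hw'.1) hww
      (Ne.symm hx.1) (Ne.symm hx'.1) hxx
    exact ⟨g, mem_filter.2 ⟨hg, h1⟩, h2, h3⟩

/-- fixed point count is a class function -/
theorem fx_conj (g h : Perm α) : fx (h * g * h⁻¹) = fx g := by
  unfold fx
  refine Finset.card_bij' (fun x _ => h⁻¹ x) (fun x _ => h x) ?_ ?_ ?_ ?_
  · intro x hx
    rw [mem_filter] at hx ⊢
    refine ⟨mem_univ _, ?_⟩
    have := hx.2
    rw [Perm.mul_apply, Perm.mul_apply] at this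
    exact Perm.eq_inv_iff_eq.2 this
  · intro x hx
    rw [mem_filter] at hx ⊢
    refine ⟨mem_univ _, ?_⟩
    rw [Perm.mul_apply, Perm.mul_apply, pinv_apply, hx.2]
  · intro x _; exact papply_inv h x
  · intro x _; exact pinv_apply h x

theorem fx_mul_comm (g h : Perm α) : fx (g * h) = fx (h * g) := by
  have := fx_conj (g * h) h
  rw [← this]
  congr 1
  group

/-- the symmetry `fx (a * h b h⁻¹) = fx (b * h⁻¹ a h)` -/
theorem fx_symm (a b h : Perm α) : fx (a * (h * b * h⁻¹)) = fx (b * (h⁻¹ * a * h⁻¹⁻¹)) := by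
  rw [← fx_conj (a * (h * b * h⁻¹)) h⁻¹,
    show h⁻¹ * (a * (h * b * h⁻¹)) * h⁻¹⁻¹ = (h⁻¹ * a * h⁻¹⁻¹) * b by group, fx_mul_comm]

theorem fx_add_support (g : Perm α) : fx g + g.support.card = Fintype.card α := by
  unfold fx
  have : g.support = univ.filter fun x => ¬ g x = x := by
    ext x; simp [Perm.mem_support]
  rw [this, Finset.card_filter_add_card_filter_not, Finset.card_univ]

/-- two distinct fixed points -/
theorem two_le_fx {g : Perm α} {x y : α} (hxy : x ≠ y) (hx : g x = x) (hy : g y = y) :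
    2 ≤ fx g := by
  unfold fx
  apply Finset.one_lt_card.2
  exact ⟨x, mem_filter.2 ⟨mem_univ _, hx⟩, y, mem_filter.2 ⟨mem_univ _, hy⟩, hxy⟩

end Cfsg.Agent.Lib.H2.AH
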