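import Mathlib
import Cfsg.Agent.Lib.H2.AH2

set_option autoImplicit false
set_option linter.unusedSimpArgs false
set_option linter.unusedSectionVars false
set_option linter.unusedVariables false

/-!
# Explicit constructions of conjugates agreeing with a given permutation at two points
-/

namespace Cfsg.Agent.Lib.H2.AH

open Equiv Finset

variable {α : Type*} [Fintype α] [DecidableEq α]

theorem conj_apply' (h b : Perm α) {w x : α} (hw : h w = x) : (h * b * h⁻¹) x = h (b w) := by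
  rw [Perm.mul_apply, Perm.mul_apply, ← hw, pinv_apply]

/-- `c` has two disjoint edges `x₁ → c x₁`, `x₂ → c x₂` -/
def TwoEdges (c : Perm α) : Prop :=
  ∃ x₁ x₂ : α, c x₁ ≠ x₁ ∧ c x₂ ≠ x₂ ∧ x₁ ≠ x₂ ∧ x₁ ≠ c x₂ ∧ c x₁ ≠ x₂ ∧ c x₁ ≠ c x₂

/-- two disjoint edges in a permutation without 2-cycles -/
theorem twoEdges_of_no_two_cycle (c : Perm α) (hc : ∀ x, c x ≠ x → c (c x) ≠ x)
    (hs : 4 ≤ c.support.card) : TwoEdges c := by
  have hne : c.support.Nonempty := Finset.card_pos.1 (by omega)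
  obtain ⟨x, hx⟩ := hne
  rw [Perm.mem_support] at hx
  have h2 : c (c x) ≠ c x := fun h => hx (c.injective h)
  by_cases h3 : c (c (c x)) = x
  · have hlt : ({x, c x, c (c x)} : Finset α).card < c.support.card := by
      have : ({x, c x, c (c x)} : Finset α).card ≤ 3 := Finset.card_le_three
      omega
    obtain ⟨x', hx', hx'n⟩ := Finset.exists_mem_notMem_of_card_lt_card hlt
    rw [Perm.mem_support] at hx'
    simp only [mem_insert, mem_singleton, not_or] at hx'n
    obtain ⟨n1, n2, n3⟩ := hx'n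
    refine ⟨x, x', hx, hx', Ne.symm n1, ?_, Ne.symm n2, ?_⟩
    · intro h
      apply n3
      apply c.injective
      rw [h3, ← h]
    · intro h
      exact n1 (c.injective h).symm
  · refine ⟨x, c (c x), hx, ?_, ?_, ?_, ?_, ?_⟩
    · intro h
      exact h2 (c.injective h)
    · exact Ne.symm (hc x hx)
    · exact Ne.symm h3
    · exact Ne.symm h2
    · intro h
      exact hc x hx (c.injective h).symm

/-- two disjoint 2-cycles in an involution -/
theorem twoEdges_of_involution (c : Perm α) (hc : ∀ x, c (c x) = x)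
    (hs : 3 ≤ c.support.card) : TwoEdges c := by
  have hne : c.support.Nonempty := Finset.card_pos.1 (by omega)
  obtain ⟨x, hx⟩ := hne
  rw [Perm.mem_support] at hx
  have hlt : ({x, c x} : Finset α).card < c.support.card := by
    have : ({x, c x} : Finset α).card ≤ 2 := Finset.card_le_two
    omega
  obtain ⟨x', hx', hx'n⟩ := Finset.exists_mem_notMem_of_card_lt_card hlt
  rw [Perm.mem_support] at hx'
  simp only [mem_insert, mem_singleton, not_or] at hx'n
  obtain ⟨n1, n2⟩ := hx'n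
  refine ⟨x, x', hx, hx', Ne.symm n1, ?_, Ne.symm n2, ?_⟩
  · intro h
    apply n2
    rw [h, hc]
  · intro h
    exact n1 (c.injective h).symm

/-- agreement at two points, from two disjoint edges when one of the two is an involution -/
theorem exists_agree_of_twoEdges (A b : Perm α) (hA : TwoEdges A) (hb : TwoEdges b)
    (hinv : (∀ x, A (A x) = x) ∨ (∀ w, b (b w) = w)) :
    ∃ h ∈ altF α, ∃ x y : α, x ≠ y ∧ (h * b * h⁻¹) x = A x ∧ (h * b * h⁻¹) y = A y := by
  obtain ⟨x₁, x₂, hx1, hx2, e1, e2, e3, e4⟩ := hA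
  obtain ⟨w₁, w₂, hw1, hw2, d1, d2, d3, d4⟩ := hb
  obtain ⟨σ, hσ⟩ := Perm.exists_extending_pair ![w₁, b w₁, w₂, b w₂] ![x₁, A x₁, x₂, A x₂]
    (injective_vec4 (Ne.symm hw1) d1 d2 d3 d4 (Ne.symm hw2))
    (injective_vec4 (Ne.symm hx1) e1 e2 e3 e4 (Ne.symm hx2))
  have s1 : σ w₁ = x₁ := hσ 0
  have s2 : σ (b w₁) = A x₁ := hσ 1
  have s3 : σ w₂ = x₂ := hσ 2
  have s4 : σ (b w₂) = A x₂ := hσ 3
  rcases Int.units_eq_one_or (Perm.sign σ) with h1 | h1
  · refine ⟨σ, mem_altF.2 h1, x₁, x₂, e1, ?_, ?_⟩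
    · rw [conj_apply' σ b s1, s2]
    · rw [conj_apply' σ b s3, s4]
  · rcases hinv with hA2 | hb2
    · -- A is an involution: h = swap x₁ (A x₁) * σ
      set h := swap x₁ (A x₁) * σ with hh
      have hs : Perm.sign h = 1 := by
        rw [hh, Perm.sign_mul, h1, Perm.sign_swap (Ne.symm hx1)]; rfl
      have t1 : h w₁ = A x₁ := by rw [hh, Perm.mul_apply, s1, swap_apply_left]
      have t2 : h (b w₁) = x₁ := by rw [hh, Perm.mul_apply, s2, swap_apply_right]
      have t3 : h w₂ = x₂ := by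
        rw [hh, Perm.mul_apply, s3, swap_apply_of_ne_of_ne (Ne.symm e1) (Ne.symm e3)]
      have t4 : h (b w₂) = A x₂ := by
        rw [hh, Perm.mul_apply, s4, swap_apply_of_ne_of_ne (Ne.symm e2) (Ne.symm e4)]
      refine ⟨h, mem_altF.2 hs, A x₁, x₂, e3, ?_, ?_⟩
      · rw [conj_apply' h b t1, t2, hA2]
      · rw [conj_apply' h b t3, t4]
    · -- b is an involution: h = σ * swap w₁ (b w₁)
      set h := σ * swap w₁ (b w₁) with hh
      have hs : Perm.sign h = 1 := by
        rw [hh, Perm.sign_mul, h1, Perm.sign_swap (Ne.symm hw1)]; rfl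
      have t1 : h w₁ = A x₁ := by rw [hh, Perm.mul_apply, swap_apply_left, s2]
      have t2 : h (b w₁) = x₁ := by rw [hh, Perm.mul_apply, swap_apply_right, s1]
      have t3 : h w₂ = x₂ := by
        rw [hh, Perm.mul_apply, swap_apply_of_ne_of_ne (Ne.symm d1) (Ne.symm d3), s3]
      have t4 : h (b w₂) = A x₂ := by
        rw [hh, Perm.mul_apply, swap_apply_of_ne_of_ne (Ne.symm d2) (Ne.symm d4), s4]
      refine ⟨h, mem_altF.2 hs, x₁, x₂, e1, ?_, ?_⟩
      · rw [conj_apply' h b t2, hb2, t1]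
      · rw [conj_apply' h b t3, t4]

/-- agreement at two points from a path of length two in both -/
theorem exists_agree_of_paths (hn : 5 ≤ Fintype.card α) (A b : Perm α) {x w : α}
    (hx1 : A x ≠ x) (hx2 : A (A x) ≠ x) (hw1 : b w ≠ w) (hw2 : b (b w) ≠ w) :
    ∃ h ∈ altF α, ∃ x y : α, x ≠ y ∧ (h * b * h⁻¹) x = A x ∧ (h * b * h⁻¹) y = A y := by
  have hx3 : A x ≠ A (A x) := fun h => hx1 (A.injective h).symm
  have hw3 : b w ≠ b (b w) := fun h => hw1 (b.injective h).symm
  obtain ⟨h, hh, t1, t2, t3⟩ := exists_even3 hn (Ne.symm hw1) (Ne.symm hw2) hw3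
    (Ne.symm hx1) (Ne.symm hx2) hx3
  refine ⟨h, hh, x, A x, Ne.symm hx1, ?_, ?_⟩
  · rw [conj_apply' h b t1, t2]
  · rw [conj_apply' h b t2, t3]

/-- agreement at two points from a 2-cycle in both -/
theorem exists_agree_of_cycles (hn : 5 ≤ Fintype.card α) (A b : Perm α) {x w : α}
    (hx1 : A x ≠ x) (hx2 : A (A x) = x) (hw1 : b w ≠ w) (hw2 : b (b w) = w) :
    ∃ h ∈ altF α, ∃ x y : α, x ≠ y ∧ (h * b * h⁻¹) x = A x ∧ (h * b * h⁻¹) y = A y := by
  obtain ⟨h, hh, t1, t2⟩ := exists_even2 (by omega) (Ne.symm hw1) (Ne.symm hx1)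
  refine ⟨h, hh, x, A x, Ne.symm hx1, ?_, ?_⟩
  · rw [conj_apply' h b t1, t2]
  · rw [conj_apply' h b t2, hw2, t1, hx2]

/-- if `A` is fixed-point-free and `b` has at most one fixed point, some even conjugate of `b`
agrees with `A` at two points -/
theorem exists_agree (hn : 5 ≤ Fintype.card α) (A b : Perm α) (hA : ∀ x, A x ≠ x)
    (hb : Fintype.card α ≤ b.support.card + 1) :
    ∃ h ∈ altF α, ∃ x y : α, x ≠ y ∧ (h * b * h⁻¹) x = A x ∧ (h * b * h⁻¹) y = A y := by
  have hAs : A.support = univ := by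
    ext x; simp [Perm.mem_support, hA x]
  have hAc : 4 ≤ A.support.card := by rw [hAs, Finset.card_univ]; omega
  have hbc : 4 ≤ b.support.card := by omega
  obtain ⟨w₀, hw₀⟩ : b.support.Nonempty := Finset.card_pos.1 (by omega)
  rw [Perm.mem_support] at hw₀
  obtain ⟨x₀⟩ : Nonempty α := Fintype.card_pos_iff.1 (by omega)
  by_cases hA3 : ∃ x, A (A x) ≠ x
  · obtain ⟨x, hx⟩ := hA3
    by_cases hb3 : ∃ w, b w ≠ w ∧ b (b w) ≠ w
    · obtain ⟨w, hw1, hw2⟩ := hb3
      exact exists_agree_of_paths hn A b (hA x) hx hw1 hw2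
    · push Not at hb3
      have hb2 : ∀ w, b (b w) = w := by
        intro w
        by_cases hw : b w = w
        · rw [hw, hw]
        · exact hb3 w hw
      by_cases hA2 : ∃ x, A (A x) = x
      · obtain ⟨x', hx'⟩ := hA2
        exact exists_agree_of_cycles hn A b (hA x') hx' hw₀ (hb2 w₀)
      · push Not at hA2
        exact exists_agree_of_twoEdges A b
          (twoEdges_of_no_two_cycle A (fun x _ => hA2 x) hAc)
          (twoEdges_of_involution b hb2 (by omega)) (Or.inr hb2)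
  · push Not at hA3
    by_cases hb2 : ∃ w, b w ≠ w ∧ b (b w) = w
    · obtain ⟨w, hw1, hw2⟩ := hb2
      exact exists_agree_of_cycles hn A b (hA x₀) (hA3 x₀) hw1 hw2
    · push Not at hb2
      exact exists_agree_of_twoEdges A b
        (twoEdges_of_involution A hA3 (by omega))
        (twoEdges_of_no_two_cycle b hb2 hbc) (Or.inl hA3)

end Cfsg.Agent.Lib.H2.AH
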