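import Mathlib
import Cfsg.Agent.Lib.H2.AH3

set_option autoImplicit false
set_option linter.unusedSimpArgs false
set_option linter.unusedSectionVars false
set_option linter.unusedVariables false

/-!
# The number of fixed points is not constant on `a^{A_n} b^{A_n}`
-/

namespace Cfsg.Agent.Lib.H2.AH

open Equiv Finset

variable {α : Type*} [Fintype α] [DecidableEq α]

/-- the averaging identity when the number of fixed points is constant -/
theorem Grp.const_eq {𝒢 : Finset (Perm α)} {Ω : Finset α} (H : Grp 𝒢 Ω) (a b : Perm α)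
    (ha : ∀ x, x ∉ Ω → a x = x) (hb : ∀ x, x ∉ Ω → b x = x) (k : ℕ)
    (hk : ∀ g ∈ 𝒢, fx (a * (g * b * g⁻¹)) = k) :
    (Ω.card * Ω.card - Ω.card) * k =
      (Ω.card * Ω.card - Ω.card) * (Fintype.card α - Ω.card) +
        (Ω.card - 1) * (Ω.filter fun x => a x = x).card * (Ω.filter fun x => b x = x).card +
        (Ω.filter fun x => a x ≠ x).card * (Ω.filter fun x => b x ≠ x).card := by
  have h1 := H.sum_fx a b ha hb
  rw [Finset.sum_congr rfl hk, Finset.sum_const, smul_eq_mul] at h1
  have hpos : 0 < 𝒢.card := Finset.card_pos.2 H.ne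
  apply Nat.eq_of_mul_eq_mul_left hpos
  rw [← h1]
  ring

theorem filter_fix_univ (a : Perm α) : ((univ : Finset α).filter fun x => a x = x).card = fx a := rfl

theorem filter_ne_univ (a : Perm α) :
    ((univ : Finset α).filter fun x => a x ≠ x).card = a.support.card := by
  congr 1

theorem filter_fix_erase (a : Perm α) {p : α} (hp : a p = p) :
    ((univ.erase p).filter fun x => a x = x).card + 1 = fx a := by
  unfold fx
  have : (univ.erase p).filter (fun x => a x = x) = (univ.filter fun x => a x = x).erase p := by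
    ext x
    simp only [mem_filter, mem_erase, mem_univ, true_and, and_true]
  rw [this, Finset.card_erase_add_one]
  exact mem_filter.2 ⟨mem_univ _, hp⟩

theorem filter_ne_erase (a : Perm α) {p : α} (hp : a p = p) :
    ((univ.erase p).filter fun x => a x ≠ x).card = a.support.card := by
  congr 1
  ext x
  simp only [mem_filter, mem_erase, mem_univ, and_true, Perm.mem_support]
  constructor
  · rintro ⟨_, h⟩; exact h
  · intro h
    refine ⟨?_, h⟩
    rintro rfl
    exact h hp

/-- the first equation: over the whole alternating group -/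
theorem eq_one (hn : 5 ≤ Fintype.card α) (a b : Perm α) (k : ℕ)
    (hk : ∀ g ∈ altF α, fx (a * (g * b * g⁻¹)) = k) :
    (Fintype.card α * Fintype.card α - Fintype.card α) * k =
      (Fintype.card α - 1) * fx a * fx b + a.support.card * b.support.card := by
  have := (grp_alt (α := α) (by omega)).const_eq a b (fun x hx => absurd (mem_univ x) hx)
    (fun x hx => absurd (mem_univ x) hx) k hk
  rw [Finset.card_univ, filter_fix_univ, filter_fix_univ, filter_ne_univ, filter_ne_univ,
    Nat.sub_self, mul_zero, zero_add] at this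
  exact this

/-- the fixed-point-free case -/
theorem no_const_fpf (hn : 5 ≤ Fintype.card α) (a b : Perm α) (ha : ∀ x, a x ≠ x) (hb : b ≠ 1)
    (k : ℕ) (hk : ∀ g ∈ altF α, fx (a * (g * b * g⁻¹)) = k) : False := by
  have e1 := eq_one hn a b k hk
  have hfa : fx a = 0 := by
    unfold fx
    rw [Finset.card_eq_zero, Finset.filter_eq_empty_iff]
    intro x _
    exact ha x
  have hsa : a.support.card = Fintype.card α := by
    have := fx_add_support a
    omega
  have hsb2 : 2 ≤ b.support.card := Perm.two_le_card_support_of_ne_one hb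
  have hsbn : b.support.card ≤ Fintype.card α := by
    have := fx_add_support b
    omega
  rw [hfa, mul_zero, zero_mul, zero_add, hsa] at e1
  obtain ⟨N, hN⟩ : ∃ N, Fintype.card α = N + 1 := ⟨Fintype.card α - 1, by omega⟩
  rw [hN] at e1 hsbn
  have e2 : (N + 1) * (N + 1) - (N + 1) = (N + 1) * N := Nat.sub_eq_of_eq_add (by ring)
  rw [e2, mul_assoc] at e1
  have e3 : N * k = b.support.card := Nat.eq_of_mul_eq_mul_left (Nat.succ_pos N) e1
  have hk1 : k = 1 := by
    rcases Nat.lt_or_ge k 1 with h0 | h1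
    · have : k = 0 := by omega
      rw [this, mul_zero] at e3
      omega
    · rcases Nat.lt_or_ge k 2 with h2 | h2
      · omega
      · have : N * 2 ≤ N * k := Nat.mul_le_mul_left N h2
        omega
  rw [hk1, mul_one] at e3
  -- now exhibit a conjugate with two fixed points
  obtain ⟨h, hh, x, y, hxy, hx, hy⟩ := exists_agree hn a⁻¹ b (fun x hx' => ha x (by
    have := congrArg (fun z => a z) hx'
    simp only [papply_inv] at this
    exact this.symm)) (by omega)
  have h2 : 2 ≤ fx (a * (h * b * h⁻¹)) := by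
    apply two_le_fx hxy
    · rw [Perm.mul_apply, hx, papply_inv]
    · rw [Perm.mul_apply, hy, papply_inv]
  rw [hk h hh, hk1] at h2
  omega

set_option maxHeartbeats 1600000 in
/-- the case where both have a fixed point -/
theorem no_const_fixed (hn : 5 ≤ Fintype.card α) (a b : Perm α) (ha : a ≠ 1) (hb : b ≠ 1)
    {p q : α} (hp : a p = p) (hq : b q = q)
    (k : ℕ) (hk : ∀ g ∈ altF α, fx (a * (g * b * g⁻¹)) = k) : False := by
  have e1 := eq_one hn a b k hk
  obtain ⟨h₀, hh₀, hqp⟩ := exists_even1 (by omega) q p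
  set b₀ := h₀ * b * h₀⁻¹ with hb₀
  have hb₀p : b₀ p = p := by rw [hb₀, conj_apply' h₀ b hqp, hq, hqp]
  have hk' : ∀ g ∈ (altF α).filter (fun g => g p = p), fx (a * (g * b₀ * g⁻¹)) = k := by
    intro g hg
    rw [mem_filter] at hg
    have h3 := hk (g * h₀) (mul_mem_altF hg.1 hh₀)
    have h4 : g * (h₀ * b * h₀⁻¹) * g⁻¹ = (g * h₀) * b * (g * h₀)⁻¹ := by group
    rw [← h3, hb₀, h4]
  have e2 := (grp_stab hn p).const_eq a b₀
    (fun x hx => by
      have : x = p := by
        by_contra h
        exact hx (mem_erase.2 ⟨h, mem_univ _⟩)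
      rw [this, hp])
    (fun x hx => by
      have : x = p := by
        by_contra h
        exact hx (mem_erase.2 ⟨h, mem_univ _⟩)
      rw [this, hb₀p]) k hk'
  have hfb₀ : fx b₀ = fx b := fx_conj b h₀
  have hsb₀ : b₀.support.card = b.support.card := Perm.card_support_conj
  have hA := filter_fix_erase a hp
  have hB := filter_fix_erase b₀ hb₀p
  rw [filter_ne_erase a hp, filter_ne_erase b₀ hb₀p, hsb₀, Finset.card_erase_of_mem (mem_univ p),
    Finset.card_univ] at e2
  have hsa2 : 2 ≤ a.support.card := Perm.two_le_card_support_of_ne_one ha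
  have hsb2 : 2 ≤ b.support.card := Perm.two_le_card_support_of_ne_one hb
  have hfa := fx_add_support a
  have hfb := fx_add_support b
  rw [hfb₀] at hB
  set fa' := ((univ.erase p).filter fun x => a x = x).card with hfa'
  set fb' := ((univ.erase p).filter fun x => b₀ x = x).card with hfb'
  set u := a.support.card with hu
  set v := b.support.card with hv
  obtain ⟨L, hL⟩ : ∃ L, Fintype.card α = L + 2 := ⟨Fintype.card α - 2, by omega⟩
  rw [hL] at e1 e2 hfa hfb
  have c1 : (L + 2) * (L + 2) - (L + 2) = (L + 2) * (L + 1) := Nat.sub_eq_of_eq_add (by ring)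
  have c2 : (L + 2 - 1) * (L + 2 - 1) - (L + 2 - 1) = (L + 1) * L := by
    have : L + 2 - 1 = L + 1 := rfl
    rw [this]
    exact Nat.sub_eq_of_eq_add (by ring)
  have c3 : L + 2 - (L + 2 - 1) = 1 := by omega
  have c4 : L + 2 - 1 - 1 = L := by omega
  have c5 : L + 2 - 1 = L + 1 := rfl
  rw [c1, c5] at e1
  rw [c2, c3, c4] at e2
  rw [← hA, ← hB] at e1
  have hfa'' : (fa' : ℤ) = L + 1 - u := by
    have h5 : fa' + 1 + u = L + 2 := by rw [hA]; exact hfa
    have h6 : ((fa' + 1 + u : ℕ) : ℤ) = ((L + 2 : ℕ) : ℤ) := by rw [h5]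
    push_cast at h6
    linarith
  have hfb'' : (fb' : ℤ) = L + 1 - v := by
    have h5 : fb' + 1 + v = L + 2 := by rw [hB]; exact hfb
    have h6 : ((fb' + 1 + v : ℕ) : ℤ) = ((L + 2 : ℕ) : ℤ) := by rw [h5]
    push_cast at h6
    linarith
  have E1 : ((L : ℤ) + 2) * (L + 1) * k = (L + 1) * (fa' + 1) * (fb' + 1) + u * v := by
    exact_mod_cast e1
  have E2 : ((L : ℤ) + 1) * L * k = (L + 1) * L * 1 + L * fa' * fb' + u * v := by
    exact_mod_cast e2
  rw [hfa'', hfb''] at E1 E2
  have X1 : ((L : ℤ) + 2) * ((L + 1) * k - (L + 1) * (L + 2) + (L + 1) * (u + v) - u * v) = 0 := by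
    linear_combination E1
  have X2 : ((L : ℤ) + 1) * (L * (k - 1) - L * (L + 1) + L * (u + v) - u * v) = 0 := by
    linear_combination E2
  have hL2 : ((L : ℤ) + 2) ≠ 0 := by positivity
  have hL1 : ((L : ℤ) + 1) ≠ 0 := by positivity
  have Y1 := (mul_eq_zero.1 X1).resolve_left hL2
  have Y2 := (mul_eq_zero.1 X2).resolve_left hL1
  have huv : (u : ℤ) * v = 0 := by
    linear_combination ((L : ℤ) + 1) * (Y1 - Y2) - Y1
  have hu2 : (2 : ℤ) ≤ u := by exact_mod_cast hsa2
  have hv2 : (2 : ℤ) ≤ v := by exact_mod_cast hsb2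
  nlinarith

/-- the main theorem: the number of fixed points is not constant -/
theorem exists_ne (hn : 5 ≤ Fintype.card α) (a b : Perm α) (ha : a ≠ 1) (hb : b ≠ 1) :
    ∃ h ∈ altF α, fx (a * (h * b * h⁻¹)) ≠ fx (a * b) := by
  by_contra hcon
  push Not at hcon
  have hk : ∀ g ∈ altF α, fx (a * (g * b * g⁻¹)) = fx (a * b) := hcon
  by_cases hfa : ∀ x, a x ≠ x
  · exact no_const_fpf hn a b hfa hb _ hk
  by_cases hfb : ∀ x, b x ≠ x
  · have hk2 : ∀ g ∈ altF α, fx (b * (g * a * g⁻¹)) = fx (a * b) := by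
      intro g hg
      have h1 := hk g⁻¹ (inv_mem_altF hg)
      rw [fx_symm, inv_inv] at h1
      exact h1
    exact no_const_fpf hn b a hfb ha _ hk2
  push Not at hfa hfb
  obtain ⟨p, hp⟩ := hfa
  obtain ⟨q, hq⟩ := hfb
  exact no_const_fixed hn a b ha hb hp hq _ hk

end Cfsg.Agent.Lib.H2.AH
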