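import Mathlib
import Cfsg.Prelude.Def_Blocks
import Cfsg.Prelude.Def_CharExt
import Cfsg.Agent.Lib.H21.AD.Defs
import Cfsg.Agent.Lib.H28.NT.Defs
import Cfsg.Agent.Lib.H21.AP.Defs
import Cfsg.Agent.Lib.H21.AP.Copies
import Cfsg.Agent.Lib.H24.CharLinearMul
import Cfsg.Agent.Lib.H4.ADCOSET
import Cfsg.Agent.Lib.H4.ADEND1
import Cfsg.Agent.Lib.H6.ADLC4
import Cfsg.Agent.Lib.H2.ADSOLCore
import Cfsg.Agent.Lib.L0.CharOps

/-!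
# S4551, pieces (EXT) and (UNIQT) (helper2)

(EXT): the body of `Cfsg/Agent/S4937.lean` in function form.
(UNIQT): two principal extensions of `θ` to `G` agree (`keyF'` on `⊤`).
-/

set_option autoImplicit false
open Cfsg.Agent.Lib.H21.AD Cfsg.Agent.Lib.H28.NT Cfsg.Agent.Lib.H21.AP

namespace Cfsg.Agent.Lib.H2.AP

variable {G : Type*} [Group G] [Finite G] {p : ℕ} {M : Ideal Cfsg.AlgInt} {N Q : Subgroup G} {θ : G → ℂ}

/-- (EXT) = the body of `Cfsg/Agent/S4937.lean` in function form: `H6.AD.exists_lam`, `χ := ψ·λ`,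
`H4.AD.coset_count` + `H4.AD.coset_const` with `J = ⊤`. -/
theorem exists_principal_ext [N.Normal] (hM : Cfsg.IsPModular p M) (hQN : Q ≤ N) (hQ : ¬ p ∣ Q.relIndex N)
    (hcov : ∀ g : G, ∃ n ∈ N, ∃ z ∈ Subgroup.centralizer (Q : Set G), g = n * z)
    (ψ : G → ℂ) (hψ : Cfsg.IsIrrCharacter G ψ) (hψN : Cfsg.IsIrrCharacter N (fun n : N => ψ n))
    (hB : sSum p N ψ ≠ 0) :
    ∃ χ : G → ℂ, Cfsg.IsIrrCharacter G χ ∧ (∀ n ∈ N, χ n = ψ n) ∧ sSum p ⊤ χ ≠ 0 := by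
  obtain ⟨lam, hlamN, hlam⟩ := Cfsg.Agent.Lib.H6.AD.exists_lam hM N Q hQN hQ hcov ψ hψ hψN hB
  set χf : G → ℂ := fun g => ψ g * (lam g : ℂ) with hχf
  have hχirr : Cfsg.IsIrrCharacter G χf := Cfsg.Agent.Lib.H24.isIrrCharacter_mul_hom ψ hψ lam
  have hχN : ∀ n ∈ N, χf n = ψ n := fun n hn => by
    rw [hχf]
    show ψ n * (lam n : ℂ) = _
    rw [hlamN n hn]; simp
  refine ⟨χf, hχirr, hχN, ?_⟩
  obtain ⟨k, hk, hsum⟩ := Cfsg.Agent.Lib.H4.AD.coset_count p N ⊤ le_top χf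
    (fun y _ hyp => Cfsg.Agent.Lib.H4.AD.coset_const hM N Q hQN hQ hcov ψ hψ hψN lam hlamN hlam y hyp)
  rw [hsum]
  have h1 : sSum p N χf = sSum p N ψ := Cfsg.Agent.Lib.H2.AD.sSum_congr p N χf ψ hχN
  rw [h1]
  exact mul_ne_zero (Nat.cast_ne_zero.2 hk.ne') hB

/-- an irreducible character of `G`, restricted to `⊤` -/
theorem isIrrCharacter_top (χ : G → ℂ) (hχ : Cfsg.IsIrrCharacter G χ) :
    Cfsg.IsIrrCharacter (⊤ : Subgroup G) (fun y : (⊤ : Subgroup G) => χ y) := by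
  have := Cfsg.Agent.Lib.L0.isIrrCharacter_comp_of_surjective
    (Subgroup.topEquiv (G := G)).toMonoidHom (Subgroup.topEquiv (G := G)).surjective hχ
  exact this

/-- (UNIQT) two principal extensions to `G` agree: both are `GoodA` on `⊤`, `keyF'` with `J₁ = J₂ = ⊤`. -/
theorem principal_ext_unique [N.Normal] (h : HypA p M N Q θ) (hidx : ¬ p ∣ N.index) (χ₁ χ₂ : G → ℂ)
    (h₁ : Cfsg.IsIrrCharacter G χ₁) (h₂ : Cfsg.IsIrrCharacter G χ₂) (h₁N : ∀ n ∈ N, χ₁ n = θ n)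
    (h₂N : ∀ n ∈ N, χ₂ n = θ n) (h₁B : sSum p ⊤ χ₁ ≠ 0) (h₂B : sSum p ⊤ χ₂ ≠ 0) : ∀ g, χ₁ g = χ₂ g := by
  intro g
  have hp2 : ¬ p ∣ N.relIndex ⊤ := by
    rw [Subgroup.relIndex_top_right]
    exact hidx
  exact Cfsg.Agent.Lib.H21.AP.keyF' h ⊤ ⊤ le_top le_rfl hp2 χ₁ χ₂
    ⟨⟨isIrrCharacter_top χ₁ h₁, h₁N⟩, h₁B⟩ ⟨⟨isIrrCharacter_top χ₂ h₂, h₂N⟩, h₂B⟩ g (Subgroup.mem_top g)

end Cfsg.Agent.Lib.H2.AP
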