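import Mathlib

set_option autoImplicit false

/-!
# Fixed-point-free automorphisms of order three (basics)
-/

namespace Cfsg.Agent.Lib.H2.L34

variable {T : Type*} [Group T]

/-- `ρ` has order dividing three and fixes only the identity -/
structure Fpf3 (ρ : MulAut T) : Prop where
  cube : ∀ y : T, ρ (ρ (ρ y)) = y
  fpf : ∀ y : T, ρ y = y → y = 1

namespace Fpf3

variable {ρ : MulAut T}

theorem of_orderOf (h3 : orderOf ρ = 3) (hfp : ∀ y : T, ρ y = y → y = 1) : Fpf3 ρ := by
  refine ⟨fun y => ?_, hfp⟩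
  have h : ρ ^ 3 = 1 := by rw [← h3]; exact pow_orderOf_eq_one ρ
  have h2 : (ρ ^ 3) y = y := by rw [h]; rfl
  simpa [pow_succ, MulAut.mul_apply] using h2

theorem ne_of_ne_one (h : Fpf3 ρ) {y : T} (hy : y ≠ 1) : ρ y ≠ y := fun e => hy (h.fpf y e)

theorem twist_injective (h : Fpf3 ρ) : Function.Injective fun y : T => y⁻¹ * ρ y := by
  intro y z e
  simp only at e
  have h1 : ρ (z * y⁻¹) = z * y⁻¹ := by
    rw [map_mul, map_inv]
    have : ρ z = z * (y⁻¹ * ρ y) := by rw [e]; group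
    rw [this]; group
  have h2 := h.fpf _ h1
  exact (mul_inv_eq_one.mp h2).symm

theorem prod3 [Finite T] (h : Fpf3 ρ) (g : T) : g * ρ g * ρ (ρ g) = 1 := by
  obtain ⟨y, rfl⟩ := (Finite.injective_iff_surjective.mp h.twist_injective) g
  simp only [map_mul, map_inv, h.cube]
  group

theorem prod3' [Finite T] (h : Fpf3 ρ) (g : T) : ρ (ρ g) * ρ g * g = 1 := by
  have := h.prod3 g⁻¹
  simp only [map_inv] at this
  have h2 : (ρ (ρ g) * ρ g * g)⁻¹ = 1 := by rw [← this]; group
  exact inv_eq_one.mp h2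

theorem rho_rho [Finite T] (h : Fpf3 ρ) (g : T) : ρ (ρ g) = (g * ρ g)⁻¹ :=
  eq_inv_of_mul_eq_one_right (h.prod3 g)

theorem comm_aux [Finite T] (h : Fpf3 ρ) (g : T) : ρ g * ρ (ρ g) = ρ (ρ g) * ρ g := by
  have h1 : ρ g * ρ (ρ g) = g⁻¹ := by
    have := h.prod3 g
    rw [mul_assoc] at this
    exact eq_inv_of_mul_eq_one_right this
  have h2 : ρ (ρ g) * ρ g = g⁻¹ := eq_inv_of_mul_eq_one_left (h.prod3' g)
  rw [h1, h2]

/-- every element commutes with its image -/
theorem comm [Finite T] (h : Fpf3 ρ) (g : T) : g * ρ g = ρ g * g := by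
  have := h.comm_aux (ρ (ρ g))
  simpa [h.cube] using this

theorem comm' [Finite T] (h : Fpf3 ρ) (g : T) : g * ρ (ρ g) = ρ (ρ g) * g := by
  have := h.comm (ρ (ρ g))
  simp only [h.cube] at this
  exact this.symm

/-- a `ρ`-invariant finite subgroup has order `≡ 1 mod 3` -/
theorem card_modEq [Finite T] (h : Fpf3 ρ) (H : Subgroup T) (hH : ∀ y, y ∈ H ↔ ρ y ∈ H) :
    Nat.card H ≡ 1 [MOD 3] := by
  classical
  let _ : Fintype H := Fintype.ofFinite H
  let σ : Equiv.Perm H := Equiv.subtypeEquiv ρ.toEquiv (fun a => hH a)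
  have hσ : ∀ y : H, ((σ y : H) : T) = ρ (y : T) := fun y => rfl
  have h3 : σ ^ 3 ^ 1 = 1 := by
    ext y
    simp only [pow_succ, pow_zero, one_mul, Equiv.Perm.mul_apply, hσ, Equiv.Perm.one_apply]
    exact h.cube _
  have : Fact (Nat.Prime 3) := ⟨by norm_num⟩
  have h4 := Equiv.Perm.card_compl_support_modEq h3
  have h5 : (Equiv.Perm.support σ)ᶜ = {1} := by
    ext y
    simp only [Finset.mem_compl, Equiv.Perm.mem_support, not_not, Finset.mem_singleton]
    constructor
    · intro e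
      have : ρ (y : T) = y := by rw [← hσ, e]
      exact Subtype.ext (h.fpf _ this)
    · rintro rfl
      exact Subtype.ext (by rw [hσ]; simp)
  rw [h5, Finset.card_singleton] at h4
  rw [Nat.card_eq_fintype_card]
  exact h4.symm

end Fpf3

end Cfsg.Agent.Lib.H2.L34
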