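import Mathlib
import Cfsg.Agent.Lib.H2.L34A

set_option autoImplicit false

/-!
# Structure of a nonabelian group of order 64 with a fixed-point-free automorphism of order 3
-/

namespace Cfsg.Agent.Lib.H2.L34

open Subgroup

variable {T : Type*} [Group T]

theorem mem_center_rho (ρ : MulAut T) (y : T) : ρ y ∈ center T ↔ y ∈ center T := by
  have h := (Subgroup.characteristic_iff_comap_eq.mp (inferInstance : (center T).Characteristic)) ρ
  have h2 : y ∈ comap ρ.toMonoidHom (center T) ↔ y ∈ center T := by rw [h]
  rw [← h2, Subgroup.mem_comap]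
  rfl

namespace Fpf3

variable {ρ : MulAut T}

/-- the centre cannot have index four -/
theorem no_index_four [Finite T] (h : Fpf3 ρ) (hc : Nat.card T = 4 * Nat.card (center T)) :
    False := by
  have hZpos : 0 < Nat.card (center T) := Nat.card_pos
  have hne : center T ≠ ⊤ := by
    intro e
    rw [e, Subgroup.card_top] at hc
    have := Nat.card_pos (α := T)
    omega
  obtain ⟨g, hg⟩ : ∃ g : T, g ∉ center T := by
    by_contra hcon
    push Not at hcon
    exact hne (eq_top_iff.mpr fun x _ => hcon x)
  set H : Subgroup T := centralizer ({g} : Set T) with hH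
  have hZH : center T ≤ H := Subgroup.center_le_centralizer _
  have hgH : g ∈ H := by
    rw [hH, Subgroup.mem_centralizer_iff]
    intro y hy
    rw [Set.mem_singleton_iff.mp hy]
  have hρgH : ρ g ∈ H := by
    rw [hH, Subgroup.mem_centralizer_iff]
    intro y hy
    rw [Set.mem_singleton_iff.mp hy]
    exact h.comm g
  have hHne : H ≠ ⊤ := by
    intro e
    apply hg
    rw [Subgroup.mem_center_iff]
    intro y
    have hy : y ∈ H := e ▸ Subgroup.mem_top y
    rw [hH, Subgroup.mem_centralizer_iff] at hy
    exact (hy g rfl).symm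
  -- cardinalities
  have h1 : (center T).relIndex H * H.index = (center T).index := Subgroup.relIndex_mul_index hZH
  have h2 : Nat.card (center T) * (center T).index = Nat.card T := Subgroup.card_mul_index _
  have hidx : H.index ≠ 1 := fun e => hHne (Subgroup.index_eq_one.mp e)
  have hrel : (center T).relIndex H ≠ 1 := by
    intro e
    rw [Subgroup.relIndex_eq_one] at e
    exact hg (e hgH)
  have hprod : (center T).relIndex H * H.index = 4 := by
    have : Nat.card (center T) * ((center T).relIndex H * H.index) = Nat.card (center T) * 4 := by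
      rw [h1, h2, hc, mul_comm]
    exact Nat.eq_of_mul_eq_mul_left hZpos this
  have hrel2 : (center T).relIndex H = 2 := by
    have hd : (center T).relIndex H ∣ 4 := ⟨_, hprod.symm⟩
    have hle : (center T).relIndex H ≤ 4 := Nat.le_of_dvd (by norm_num) hd
    have hpos : 0 < H.index := Nat.pos_of_ne_zero (Subgroup.index_ne_zero_of_finite)
    interval_cases hr : (center T).relIndex H
    · omega
    · exact absurd rfl hrel
    · rfl
    · omega
    · have : H.index = 1 := by omega
      exact absurd this hidx
  -- index two argument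
  have hkey : ρ g * g ∈ center T := by
    have hi : ((center T).subgroupOf H).index = 2 := hrel2
    have := Subgroup.mul_mem_iff_of_index_two hi (a := ⟨ρ g, hρgH⟩) (b := ⟨g, hgH⟩)
    simp only [Subgroup.mem_subgroupOf, Subgroup.coe_mul] at this
    rw [this]
    constructor
    · intro hh; exact absurd ((mem_center_rho ρ g).mp hh) hg
    · intro hh; exact absurd hh hg
  set z := ρ g * g with hz
  have hρz : ρ z ∈ center T := (mem_center_rho ρ z).mpr hkey
  have hρg : ρ g = z * g⁻¹ := by rw [hz]; group
  have hρρg : ρ (ρ g) = ρ z * g * z⁻¹ := by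
    rw [hρg, map_mul, map_inv, hρg]; group
  have hp := h.prod3 g
  rw [hρρg, hρg] at hp
  have hzc : ∀ y : T, y * z = z * y := fun y => (Subgroup.mem_center_iff.mp hkey y)
  have hρzc : ∀ y : T, y * ρ z = ρ z * y := fun y => (Subgroup.mem_center_iff.mp hρz y)
  have e1 : g * (z * g⁻¹) = z := by
    rw [← mul_assoc, hzc g, mul_assoc, mul_inv_cancel, mul_one]
  have e2 : z * (ρ z * g * z⁻¹) = ρ z * g := by
    rw [← hzc (ρ z * g * z⁻¹)]; group
  have hp2 : ρ z * g = 1 := by
    rw [← e2, ← hp, e1]
  apply hg
  have : g = (ρ z)⁻¹ := eq_inv_of_mul_eq_one_right hp2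
  rw [this]
  exact inv_mem hρz

/-- orders of invariant subgroups when `|T|` divides `64` -/
theorem card_cases [Finite T] (h : Fpf3 ρ) (hT : Nat.card T ∣ 64) (H : Subgroup T)
    (hH : ∀ y, y ∈ H ↔ ρ y ∈ H) :
    Nat.card H = 1 ∨ Nat.card H = 4 ∨ Nat.card H = 16 ∨ Nat.card H = 64 := by
  have h1 : Nat.card H ∣ 2 ^ 6 := (Subgroup.card_subgroup_dvd_card H).trans hT
  obtain ⟨k, hk, hk2⟩ := (Nat.dvd_prime_pow Nat.prime_two).mp h1
  have hm := h.card_modEq H hH
  rw [hk2] at hm ⊢
  interval_cases k <;> first | (exfalso; revert hm; decide) | norm_num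

theorem center_inv (ρ : MulAut T) : ∀ y, y ∈ center T ↔ ρ y ∈ center T :=
  fun y => (mem_center_rho ρ y).symm

/-- the induced automorphism of the central quotient -/
noncomputable def quotAut (ρ : MulAut T) : MulAut (T ⧸ center T) :=
  QuotientGroup.congr (center T) (center T) ρ
    ((Subgroup.characteristic_iff_map_eq.mp (inferInstance : (center T).Characteristic)) ρ)

theorem quotAut_mk (ρ : MulAut T) (y : T) :
    quotAut ρ (QuotientGroup.mk y) = QuotientGroup.mk (ρ y) := rfl

/-- a fixed point of the induced automorphism comes from the centre -/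
theorem mem_center_of_twist [Finite T] (h : Fpf3 ρ) (hT : ∀ y : T, y ^ 128 = 1) {y : T}
    (hy : y⁻¹ * ρ y ∈ center T) : y ∈ center T := by
  set z := y⁻¹ * ρ y with hz
  have hρz : ρ z ∈ center T := (mem_center_rho ρ z).mpr hy
  have hρy : ρ y = y * z := by rw [hz]; group
  have hρρy : ρ (ρ y) = y * z * ρ z := by rw [hρy, map_mul, hρy]
  have hp := h.prod3 y
  rw [hρρy, hρy] at hp
  have hzc : ∀ u : T, u * z = z * u := fun u => (Subgroup.mem_center_iff.mp hy u)
  have hρzc : ∀ u : T, u * ρ z = ρ z * u := fun u => (Subgroup.mem_center_iff.mp hρz u)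
  have hy3 : y ^ 3 * (z * z * ρ z) = 1 := by
    rw [← hp, pow_succ, pow_two]
    calc y * y * y * (z * z * ρ z) = y * y * (y * z) * z * ρ z := by group
      _ = y * y * (z * y) * z * ρ z := by rw [hzc y]
      _ = y * (y * z) * (y * z) * ρ z := by group
      _ = y * (y * z) * (y * z * ρ z) := by group
  have hy3c : y ^ 3 ∈ center T := by
    have : y ^ 3 = (z * z * ρ z)⁻¹ := eq_inv_of_mul_eq_one_left hy3
    rw [this]
    exact inv_mem (mul_mem (mul_mem hy hy) hρz)
  have : y = (y ^ 3) ^ 43 := by
    rw [← pow_mul]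
    have : y ^ (3 * 43) = y ^ 128 * y := by rw [← pow_succ]
    rw [this, hT, one_mul]
  rw [this]
  exact pow_mem hy3c 43

theorem quot_fpf3 [Finite T] (h : Fpf3 ρ) (hT : ∀ y : T, y ^ 128 = 1) : Fpf3 (quotAut ρ) := by
  constructor
  · intro y
    induction y using QuotientGroup.induction_on with
    | H y => rw [quotAut_mk, quotAut_mk, quotAut_mk, h.cube]
  · intro y
    induction y using QuotientGroup.induction_on with
    | H y =>
      intro e
      rw [quotAut_mk, eq_comm, QuotientGroup.eq] at e
      exact (QuotientGroup.eq_one_iff y).mpr (h.mem_center_of_twist hT e)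

end Fpf3

section order64

variable {ρ : MulAut T}

theorem pow_128 (hT : Nat.card T = 64) (y : T) : y ^ 128 = 1 := by
  have : y ^ 64 = 1 := by rw [← hT]; exact pow_card_eq_one'
  rw [show 128 = 64 * 2 by norm_num, pow_mul, this, one_pow]

theorem isPGroup_of (hT : Nat.card T = 64) : IsPGroup 2 T :=
  IsPGroup.of_card (n := 6) (by rw [hT]; norm_num)

variable [Finite T]

/-- the centre has order four -/
theorem card_center (h : Fpf3 ρ) (hT : Nat.card T = 64) (hna : ¬ IsMulCommutative T) :
    Nat.card (center T) = 4 := by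
  have : Nontrivial T := by
    rw [← Finite.one_lt_card_iff_nontrivial, hT]; norm_num
  rcases h.card_cases (by rw [hT]) (center T) (Fpf3.center_inv ρ) with h1 | h1 | h1 | h1
  · exfalso
    have := (isPGroup_of hT).bot_lt_center
    rw [Subgroup.card_eq_one.mp h1] at this
    exact lt_irrefl _ this
  · exact h1
  · exfalso
    exact h.no_index_four (by rw [hT, h1])
  · exfalso
    apply hna
    have htop : center T = ⊤ := Subgroup.eq_top_of_card_eq _ (by rw [h1, hT])
    refine ⟨⟨fun a b => ?_⟩⟩
    have hb : b ∈ center T := htop ▸ Subgroup.mem_top b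
    exact (Subgroup.mem_center_iff.mp hb a)

/-- commutators are central -/
theorem comm_mem_center (h : Fpf3 ρ) (hT : Nat.card T = 64) (hna : ¬ IsMulCommutative T)
    (g k : T) : g * k * g⁻¹ * k⁻¹ ∈ center T := by
  have hZ := card_center h hT hna
  have hq : Nat.card (T ⧸ center T) = 16 := by
    have := Subgroup.card_eq_card_quotient_mul_card_subgroup (center T)
    rw [hT, hZ] at this
    omega
  have hq2 := h.quot_fpf3 (pow_128 hT)
  have : Nontrivial (T ⧸ center T) := by
    rw [← Finite.one_lt_card_iff_nontrivial, hq]; norm_num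
  have hP : IsPGroup 2 (T ⧸ center T) := IsPGroup.of_card (n := 4) (by rw [hq]; norm_num)
  have htop : center (T ⧸ center T) = ⊤ := by
    rcases hq2.card_cases (by rw [hq]; norm_num) (center (T ⧸ center T))
      (Fpf3.center_inv _) with h1 | h1 | h1 | h1
    · exfalso
      have := hP.bot_lt_center
      rw [Subgroup.card_eq_one.mp h1] at this
      exact lt_irrefl _ this
    · exfalso
      exact hq2.no_index_four (by rw [hq, h1])
    · exact Subgroup.eq_top_of_card_eq _ (by rw [h1, hq])
    · exfalso
      have := Subgroup.card_le_card_group (center (T ⧸ center T))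
      omega
  have hk : (QuotientGroup.mk k : T ⧸ center T) ∈ center (T ⧸ center T) :=
    htop ▸ Subgroup.mem_top _
  have := Subgroup.mem_center_iff.mp hk (QuotientGroup.mk g)
  rw [← QuotientGroup.eq_one_iff]
  simp only [QuotientGroup.mk_mul, QuotientGroup.mk_inv]
  rw [this]
  group

/-- the centre has exponent two -/
theorem center_sq (h : Fpf3 ρ) (hT : Nat.card T = 64) (hna : ¬ IsMulCommutative T)
    {z : T} (hz : z ∈ center T) : z * z = 1 := by
  have hZ := card_center h hT hna
  let K : Subgroup T :=
    { carrier := {z | z ∈ center T ∧ z * z = 1}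
      one_mem' := ⟨one_mem _, by simp⟩
      mul_mem' := by
        rintro a b ⟨ha, ha2⟩ ⟨hb, hb2⟩
        refine ⟨mul_mem ha hb, ?_⟩
        have hc := Subgroup.mem_center_iff.mp ha b
        calc a * b * (a * b) = a * (b * a) * b := by group
          _ = a * (a * b) * b := by rw [hc]
          _ = (a * a) * (b * b) := by group
          _ = 1 := by rw [ha2, hb2, one_mul]
      inv_mem' := by
        rintro a ⟨ha, ha2⟩
        refine ⟨inv_mem ha, ?_⟩
        rw [← mul_inv_rev, ha2, inv_one] }
  have hKmem : ∀ y, y ∈ K ↔ (y ∈ center T ∧ y * y = 1) := fun y => Iff.rfl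
  have hKinv : ∀ y, y ∈ K ↔ ρ y ∈ K := by
    intro y
    rw [hKmem, hKmem, mem_center_rho, ← map_mul]
    constructor
    · rintro ⟨h1, h2⟩; exact ⟨h1, by rw [h2, map_one]⟩
    · rintro ⟨h1, h2⟩; exact ⟨h1, by rwa [← map_one ρ, ρ.injective.eq_iff] at h2⟩
  have hKZ : K ≤ center T := fun y hy => hy.1
  have hK4 : Nat.card K = 4 := by
    have hle : Nat.card K ≤ 4 := hZ ▸ Subgroup.card_le_of_le hKZ
    rcases h.card_cases (by rw [hT]) K hKinv with h1 | h1 | h1 | h1
    · exfalso
      have : Fact (Nat.Prime 2) := ⟨Nat.prime_two⟩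
      obtain ⟨x, hx⟩ := exists_prime_orderOf_dvd_card' (G := center T) 2 (by rw [hZ]; norm_num)
      have hxK : (x : T) ∈ K := by
        refine ⟨x.2, ?_⟩
        have : x ^ 2 = 1 := by rw [← hx]; exact pow_orderOf_eq_one x
        have h2 : ((x ^ 2 : center T) : T) = 1 := by rw [this]; rfl
        simpa [pow_two] using h2
      rw [Subgroup.card_eq_one] at h1
      rw [h1, Subgroup.mem_bot] at hxK
      have hx1 : x = 1 := Subtype.ext hxK
      rw [hx1, orderOf_one] at hx
      omega
    · exact h1
    · omega
    · omega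
  have hKeq : K = center T := Subgroup.eq_of_le_of_card_ge hKZ (by rw [hK4, hZ])
  have : z ∈ K := hKeq ▸ hz
  exact this.2

/-- squares are central -/
theorem sq_mem_center (h : Fpf3 ρ) (hT : Nat.card T = 64) (hna : ¬ IsMulCommutative T)
    (g : T) : g * g ∈ center T := by
  rw [Subgroup.mem_center_iff]
  intro k
  have hc := comm_mem_center h hT hna g k
  set c := g * k * g⁻¹ * k⁻¹ with hcdef
  have hc2 := center_sq h hT hna hc
  have hcc : ∀ u : T, u * c = c * u := fun u => Subgroup.mem_center_iff.mp hc u
  have hgk : g * k = c * k * g := by rw [hcdef]; group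
  calc k * (g * g) = (c * c) * k * g * g := by rw [hc2]; group
    _ = c * (c * k * g) * g := by group
    _ = c * (g * k) * g := by rw [hgk]
    _ = (c * g) * k * g := by group
    _ = (g * c) * k * g := by rw [hcc g]
    _ = g * (c * k * g) := by group
    _ = g * (g * k) := by rw [hgk]
    _ = g * g * k := by group

end order64

end Cfsg.Agent.Lib.H2.L34
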