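import Mathlib
import Cfsg.Agent.Lib.H2.L34B

set_option autoImplicit false

/-!
# Commutator calculus in the special group of order 64
-/

namespace Cfsg.Agent.Lib.H2.L34

open Subgroup

variable {T : Type*} [Group T]

/-- the commutator `g k g⁻¹ k⁻¹` -/
def cm (g k : T) : T := g * k * g⁻¹ * k⁻¹

theorem cm_def (g k : T) : cm g k = g * k * g⁻¹ * k⁻¹ := rfl

theorem swap (g k : T) : g * k = cm g k * k * g := by rw [cm_def]; group

theorem cm_self (g : T) : cm g g = 1 := by rw [cm_def]; group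

theorem cm_one_left (k : T) : cm 1 k = 1 := by rw [cm_def]; group

theorem cm_one_right (k : T) : cm k 1 = 1 := by rw [cm_def]; group

theorem cm_inv_swap (g k : T) : (cm g k)⁻¹ = cm k g := by rw [cm_def, cm_def]; group

theorem cm_eq_one_iff (g k : T) : cm g k = 1 ↔ g * k = k * g := by
  rw [cm_def]
  constructor
  · intro h
    calc g * k = (g * k * g⁻¹ * k⁻¹) * (k * g) := by group
      _ = k * g := by rw [h, one_mul]
  · intro h
    calc g * k * g⁻¹ * k⁻¹ = (g * k) * g⁻¹ * k⁻¹ := by group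
      _ = 1 := by rw [h]; group

/-- the structure obtained in `L34B` -/
structure Sp (ρ : MulAut T) : Prop where
  fpf : Fpf3 ρ
  comm : ∀ g k : T, cm g k ∈ center T
  zsq : ∀ z : T, z ∈ center T → z * z = 1
  sq : ∀ g : T, g * g ∈ center T
  cardZ : Nat.card (center T) = 4
  card : Nat.card T = 64

theorem sp_of [Finite T] {ρ : MulAut T} (h : Fpf3 ρ) (hT : Nat.card T = 64)
    (hna : ¬ IsMulCommutative T) : Sp ρ :=
  ⟨h, fun g k => comm_mem_center h hT hna g k, fun _ hz => center_sq h hT hna hz,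
    fun g => sq_mem_center h hT hna g, card_center h hT hna, hT⟩

namespace Sp

variable {ρ : MulAut T}

theorem cmc (S : Sp ρ) (g k u : T) : u * cm g k = cm g k * u :=
  Subgroup.mem_center_iff.mp (S.comm g k) u

theorem cm_sq (S : Sp ρ) (g k : T) : cm g k * cm g k = 1 := S.zsq _ (S.comm g k)

theorem z_inv (S : Sp ρ) {z : T} (hz : z ∈ center T) : z⁻¹ = z :=
  inv_eq_of_mul_eq_one_left (S.zsq z hz)

theorem cm_inv (S : Sp ρ) (g k : T) : (cm g k)⁻¹ = cm g k := S.z_inv (S.comm g k)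

theorem cm_symm (S : Sp ρ) (g k : T) : cm k g = cm g k := by
  rw [← cm_inv_swap, S.cm_inv]

theorem cm_mul_left (S : Sp ρ) (g g' k : T) : cm (g * g') k = cm g k * cm g' k := by
  have h1 : cm (g * g') k = g * cm g' k * k * g⁻¹ * k⁻¹ := by
    rw [cm_def, cm_def]; group
  rw [h1, S.cmc g' k g, S.cmc g' k (cm g k), cm_def g k]
  group

theorem cm_mul_right (S : Sp ρ) (g k k' : T) : cm g (k * k') = cm g k * cm g k' := by
  rw [← S.cm_symm, S.cm_mul_left, S.cm_symm, S.cm_symm k']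

theorem cm_inv_left (S : Sp ρ) (g k : T) : cm g⁻¹ k = cm g k := by
  have h := S.cm_mul_left g⁻¹ g k
  rw [inv_mul_cancel, cm_one_left] at h
  have : cm g⁻¹ k = (cm g k)⁻¹ := eq_inv_of_mul_eq_one_left h.symm
  rw [this, S.cm_inv]

theorem cm_inv_right (S : Sp ρ) (g k : T) : cm g k⁻¹ = cm g k := by
  rw [← S.cm_symm, S.cm_inv_left, S.cm_symm]

theorem cm_center_left (_S : Sp ρ) {z : T} (hz : z ∈ center T) (k : T) : cm z k = 1 := by
  rw [cm_eq_one_iff]
  exact (Subgroup.mem_center_iff.mp hz k).symm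

theorem cm_center_right (S : Sp ρ) {z : T} (hz : z ∈ center T) (k : T) : cm k z = 1 := by
  rw [← S.cm_symm, S.cm_center_left hz]

theorem rho_cm (ρ' : MulAut T) (g k : T) : ρ' (cm g k) = cm (ρ' g) (ρ' k) := by
  simp only [cm_def, map_mul, map_inv]

theorem sq_mul (S : Sp ρ) (g k : T) : (g * k) * (g * k) = cm g k * (g * g) * (k * k) := by
  have h := swap k g
  rw [S.cm_symm] at h
  calc g * k * (g * k) = g * (k * g) * k := by group
    _ = g * (cm g k * g * k) * k := by rw [h]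
    _ = (g * cm g k) * g * k * k := by group
    _ = (cm g k * g) * g * k * k := by rw [S.cmc]
    _ = cm g k * (g * g) * (k * k) := by group

section fin

variable [Finite T]

theorem cm_rho_self (S : Sp ρ) (g : T) : cm g (ρ g) = 1 := by
  rw [cm_eq_one_iff]; exact S.fpf.comm g

theorem rho_rho_inv (S : Sp ρ) (g : T) : ρ (ρ g) = (g * ρ g)⁻¹ := S.fpf.rho_rho g

theorem cm_rho_swap (S : Sp ρ) (g k : T) : cm g (ρ k) = cm (ρ g) k := by
  have h := S.cm_rho_self (g * k)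
  rw [map_mul, S.cm_mul_left, S.cm_mul_right, S.cm_mul_right, S.cm_rho_self, S.cm_rho_self,
    one_mul, mul_one] at h
  have : cm g (ρ k) = (cm k (ρ g))⁻¹ := eq_inv_of_mul_eq_one_left h
  rw [this, S.cm_inv, S.cm_symm]

/-- on the centre `ρ² z = z ρ(z)` -/
theorem rho_rho_center (S : Sp ρ) {z : T} (hz : z ∈ center T) : ρ (ρ z) = z * ρ z := by
  rw [S.rho_rho_inv]
  have hρz : ρ z ∈ center T := (mem_center_rho ρ z).mpr hz
  exact S.z_inv (mul_mem hz hρz)

theorem cm_rho_key (S : Sp ρ) (g k : T) : cm g (ρ k) = ρ (ρ (cm g k)) := by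
  set w1 := cm g k with hw1
  set w3 := cm g (ρ k) with hw3
  have hw1c : w1 ∈ center T := S.comm g k
  have hw3c : w3 ∈ center T := S.comm g (ρ k)
  have h1 : ρ w3 = w3 * ρ w1 := by
    rw [hw3, rho_cm, S.rho_rho_inv k, S.cm_inv_right, S.cm_mul_right, ← S.cm_rho_swap g k,
      ← rho_cm, ← hw3]
  have h2 := S.rho_rho_center hw3c
  have h3 := S.rho_rho_center hw1c
  -- ρ² w3 = ρ w3 * ρ² w1
  have h4 : ρ (ρ w3) = ρ w3 * ρ (ρ w1) := by
    conv_lhs => rw [h1]
    rw [map_mul]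
  rw [h2, h1] at h4
  -- w3 * (w3 * ρ w1) = w3 * ρ w1 * ρ² w1
  have hρw1c : ρ w1 ∈ center T := (mem_center_rho ρ w1).mpr hw1c
  have e1 : w3 * (w3 * ρ w1) = ρ w1 := by rw [← mul_assoc, S.zsq w3 hw3c, one_mul]
  rw [e1, h3] at h4
  -- ρ w1 = w3 * ρ w1 * (w1 * ρ w1)
  have hc : ∀ u, u * ρ w1 = ρ w1 * u := fun u => Subgroup.mem_center_iff.mp hρw1c u
  have e2 : w3 * ρ w1 * (w1 * ρ w1) = w3 * w1 := by
    calc w3 * ρ w1 * (w1 * ρ w1) = w3 * ((ρ w1 * w1) * ρ w1) := by group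
      _ = w3 * ((w1 * ρ w1) * ρ w1) := by rw [← hc w1]
      _ = w3 * w1 * (ρ w1 * ρ w1) := by group
      _ = w3 * w1 := by rw [S.zsq _ hρw1c, mul_one]
  rw [e2] at h4
  -- ρ w1 = w3 * w1  =>  w3 = ρ w1 * w1 = ρ² w1
  rw [h3]
  have : w3 = ρ w1 * w1 := by
    rw [h4, mul_assoc, S.zsq w1 hw1c, mul_one]
  rw [this]
  exact (Subgroup.mem_center_iff.mp hw1c _)

theorem cm_rho_eq_one (S : Sp ρ) {g k : T} (h : cm g k = 1) : cm g (ρ k) = 1 := by
  rw [S.cm_rho_key, h, map_one, map_one]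

end fin

end Sp

end Cfsg.Agent.Lib.H2.L34
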