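import Mathlib
import Cfsg.Agent.Lib.H2.L34C

set_option autoImplicit false

/-!
# The involutory automorphism inverting `ρ`: fixed points in the centre
-/

namespace Cfsg.Agent.Lib.H2.L34

open Subgroup

variable {T : Type*} [Group T]

/-- a subgroup of order four is the set of any four distinct members -/
theorem four_cases [Finite T] (H : Subgroup T) (hH : Nat.card H = 4) {a b c d : T}
    (ha : a ∈ H) (hb : b ∈ H) (hc : c ∈ H) (hd : d ∈ H)
    (hab : a ≠ b) (hac : a ≠ c) (had : a ≠ d) (hbc : b ≠ c) (hbd : b ≠ d) (hcd : c ≠ d)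
    {y : T} (hy : y ∈ H) : y = a ∨ y = b ∨ y = c ∨ y = d := by
  classical
  by_contra hcon
  push Not at hcon
  obtain ⟨h1, h2, h3, h4⟩ := hcon
  let s : Finset T := {a, b, c, d, y}
  have hs : s.card = 5 := by
    simp only [s]
    rw [Finset.card_insert_of_notMem, Finset.card_insert_of_notMem, Finset.card_insert_of_notMem,
      Finset.card_insert_of_notMem, Finset.card_singleton]
    · simpa using Ne.symm h4
    · simp only [Finset.mem_insert, Finset.mem_singleton, not_or]
      exact ⟨hcd, Ne.symm h3⟩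
    · simp only [Finset.mem_insert, Finset.mem_singleton, not_or]
      exact ⟨hbc, hbd, Ne.symm h2⟩
    · simp only [Finset.mem_insert, Finset.mem_singleton, not_or]
      exact ⟨hab, hac, had, Ne.symm h1⟩
  have hsub : (s : Set T) ⊆ (H : Set T) := by
    intro u hu
    simp only [s, Finset.coe_insert, Finset.coe_singleton, Set.mem_insert_iff,
      Set.mem_singleton_iff] at hu
    rcases hu with rfl | rfl | rfl | rfl | rfl <;> assumption
  have h5 : (s : Set T).ncard ≤ (H : Set T).ncard := Set.ncard_le_ncard hsub (Set.toFinite _)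
  rw [Set.ncard_coe_finset, hs] at h5
  have h6 : (H : Set T).ncard = Nat.card H := rfl
  omega

/-- `x` is an involution inverting `ρ` -/
structure XHyp (ρ x : MulAut T) : Prop where
  inv : ∀ y : T, x (x y) = y
  tw : ∀ y : T, x (ρ y) = ρ (ρ (x y))

theorem xhyp_of {ρ x : MulAut T} (h : Fpf3 ρ) (hx : orderOf x = 2)
    (hxr : x * ρ * x⁻¹ = ρ⁻¹) : XHyp ρ x := by
  constructor
  · intro y
    have h2 : x ^ 2 = 1 := by rw [← hx]; exact pow_orderOf_eq_one x
    have h3 : (x ^ 2) y = y := by rw [h2]; rfl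
    simpa [pow_two, MulAut.mul_apply] using h3
  · intro y
    have h1 : x * ρ = ρ⁻¹ * x := by
      rw [← hxr]; group
    have h2 : (x * ρ) y = (ρ⁻¹ * x) y := by rw [h1]
    simp only [MulAut.mul_apply] at h2
    rw [h2]
    have h3 : ρ (ρ (ρ (ρ⁻¹ (x y)))) = ρ⁻¹ (x y) := h.cube _
    rw [MulAut.apply_inv_self] at h3
    exact h3.symm

namespace Sp

variable {ρ x : MulAut T}

theorem x_center (x : MulAut T) (y : T) : x y ∈ center T ↔ y ∈ center T := mem_center_rho x y

/-- the fixed points of `x` on the centre -/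
theorem exists_z0 [Finite T] (S : Sp ρ) (X : XHyp ρ x) :
    ∃ z0 z1 : T, z0 ∈ center T ∧ z1 ∈ center T ∧ z0 ≠ 1 ∧ x z0 = z0 ∧ z1 * x z1 = z0 ∧
      ∀ z ∈ center T, x z = z → z = 1 ∨ z = z0 := by
  -- x moves some central element
  have hmove : ∃ z1 ∈ center T, x z1 ≠ z1 := by
    by_contra hcon
    push Not at hcon
    have : Nontrivial (center T) := by
      rw [← Finite.one_lt_card_iff_nontrivial, S.cardZ]; norm_num
    obtain ⟨w, hw⟩ := exists_ne (1 : center T)
    have hw1 : (w : T) ≠ 1 := fun e => hw (Subtype.ext e)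
    have hρw : ρ (w : T) ∈ center T := (mem_center_rho ρ _).mpr w.2
    have e1 := hcon _ hρw
    rw [X.tw, hcon _ w.2] at e1
    have e2 : ρ (w : T) = w := ρ.injective e1
    exact hw1 (S.fpf.fpf _ e2)
  obtain ⟨z1, hz1, hx1⟩ := hmove
  have hz2 : x z1 ∈ center T := (x_center x z1).mpr hz1
  refine ⟨z1 * x z1, z1, mul_mem hz1 hz2, hz1, ?_, ?_, rfl, ?_⟩
  · intro e
    have : x z1 = z1⁻¹ := eq_inv_of_mul_eq_one_right e
    rw [S.z_inv hz1] at this
    exact hx1 this
  · rw [map_mul, X.inv]
    exact (Subgroup.mem_center_iff.mp hz1 _)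
  · intro z hz hxz
    have hz11 : z1 ≠ 1 := by
      rintro rfl
      exact hx1 (map_one x)
    have hz21 : x z1 ≠ 1 := by
      intro e
      rw [← map_one x] at e
      exact hz11 (x.injective e)
    have hz01 : z1 * x z1 ≠ 1 := by
      intro e
      have : x z1 = z1⁻¹ := eq_inv_of_mul_eq_one_right e
      rw [S.z_inv hz1] at this
      exact hx1 this
    have h01 : z1 * x z1 ≠ z1 := by
      intro e
      exact hz21 (mul_eq_left.mp e)
    have h02 : z1 * x z1 ≠ x z1 := by
      intro e
      exact hz11 (mul_eq_right.mp e)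
    rcases four_cases (center T) S.cardZ (one_mem _) hz1 hz2 (mul_mem hz1 hz2)
      (Ne.symm hz11) (Ne.symm hz21) (Ne.symm hz01) (Ne.symm hx1) (Ne.symm h01) (Ne.symm h02) hz
      with rfl | rfl | rfl | rfl
    · left; rfl
    · exact absurd hxz hx1
    · exfalso
      rw [X.inv] at hxz
      exact hx1 hxz.symm
    · right; rfl

end Sp

end Cfsg.Agent.Lib.H2.L34
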