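import Mathlib
import Cfsg.Agent.Lib.H2.L34D

set_option autoImplicit false

/-!
# The fixed points of `x` have order eight
-/

namespace Cfsg.Agent.Lib.H2.L34

open Subgroup

/-- fixed points of an automorphism -/
def fixSub {G : Type*} [Group G] (f : MulAut G) : Subgroup G where
  carrier := {v | f v = v}
  one_mem' := map_one f
  mul_mem' := by
    intro a b ha hb
    simp only [Set.mem_ofPred_eq] at ha hb ⊢
    rw [map_mul, ha, hb]
  inv_mem' := by
    intro a ha
    simp only [Set.mem_ofPred_eq] at ha ⊢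
    rw [map_inv, ha]

theorem mem_fixSub {G : Type*} [Group G] (f : MulAut G) (v : G) : v ∈ fixSub f ↔ f v = v :=
  Iff.rfl

/-- an involution of an elementary abelian 2-group has many fixed points -/
theorem card_le_fix_sq {G : Type*} [Group G] [Finite G] (hc : ∀ u v : G, u * v = v * u)
    (hs : ∀ v : G, v * v = 1) (f : MulAut G) (hf : ∀ v, f (f v) = v) :
    Nat.card G ≤ Nat.card (fixSub f) * Nat.card (fixSub f) := by
  let ν : G →* G := MonoidHom.mk' (fun v => v * f v) (by
    intro u v
    simp only [map_mul]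
    calc u * v * (f u * f v) = u * (v * f u) * f v := by group
      _ = u * (f u * v) * f v := by rw [hc v (f u)]
      _ = u * f u * (v * f v) := by group)
  have hν : ∀ v, ν v = v * f v := fun v => rfl
  have hinv : ∀ v : G, v⁻¹ = v := fun v => inv_eq_of_mul_eq_one_left (hs v)
  have hker : ν.ker = fixSub f := by
    ext v
    rw [MonoidHom.mem_ker, hν, mem_fixSub]
    constructor
    · intro e
      have : f v = v⁻¹ := eq_inv_of_mul_eq_one_right e
      rw [this, hinv]
    · intro e
      rw [e, hs]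
  have hrange : ν.range ≤ fixSub f := by
    rintro _ ⟨v, rfl⟩
    rw [mem_fixSub, hν, map_mul, hf, hc]
  have h1 : Nat.card ν.ker * ν.ker.index = Nat.card G := Subgroup.card_mul_index _
  rw [Subgroup.index_ker, hker] at h1
  rw [← h1]
  exact Nat.mul_le_mul_left _ (Subgroup.card_le_of_le hrange)

variable {T : Type*} [Group T]

namespace Sp

variable {ρ x : MulAut T}

theorem V_comm (S : Sp ρ) (u v : T ⧸ center T) : u * v = v * u := by
  induction u using QuotientGroup.induction_on with
  | H g =>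
    induction v using QuotientGroup.induction_on with
    | H k =>
      rw [← QuotientGroup.mk_mul, ← QuotientGroup.mk_mul, QuotientGroup.eq]
      have := S.comm k⁻¹ g⁻¹
      rw [cm_def] at this
      simpa [mul_assoc] using this

theorem V_sq (S : Sp ρ) (v : T ⧸ center T) : v * v = 1 := by
  induction v using QuotientGroup.induction_on with
  | H g =>
    rw [← QuotientGroup.mk_mul, QuotientGroup.eq_one_iff]
    exact S.sq g

theorem card_V (S : Sp ρ) : Nat.card (T ⧸ center T) = 16 := by
  have := Subgroup.card_eq_card_quotient_mul_card_subgroup (center T)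
  rw [S.card, S.cardZ] at this
  omega

/-- the preimage of the fixed points of `x` on the central quotient -/
noncomputable def dSub (x : MulAut T) : Subgroup T :=
  (fixSub (Fpf3.quotAut x)).comap (QuotientGroup.mk' (center T))

theorem mem_dSub (x : MulAut T) (g : T) : g ∈ dSub x ↔ g⁻¹ * x g ∈ center T := by
  rw [dSub, Subgroup.mem_comap, mem_fixSub, QuotientGroup.mk'_apply, Fpf3.quotAut_mk, eq_comm,
    QuotientGroup.eq]

variable [Finite T]

theorem card_dSub (S : Sp ρ) (X : XHyp ρ x) : 16 ≤ Nat.card (dSub x) := by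
  have hinv : ∀ v : T ⧸ center T, Fpf3.quotAut x (Fpf3.quotAut x v) = v := by
    intro v
    induction v using QuotientGroup.induction_on with
    | H g => rw [Fpf3.quotAut_mk, Fpf3.quotAut_mk, X.inv]
  have h1 := card_le_fix_sq S.V_comm S.V_sq (Fpf3.quotAut x) hinv
  rw [S.card_V] at h1
  have h2 : (dSub x).index = (fixSub (Fpf3.quotAut x)).index :=
    Subgroup.index_comap_of_surjective _ (QuotientGroup.mk'_surjective _)
  have h3 := Subgroup.card_mul_index (dSub x)
  have h4 := Subgroup.card_mul_index (fixSub (Fpf3.quotAut x))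
  rw [S.card] at h3
  rw [S.card_V] at h4
  rw [h2] at h3
  set c := Nat.card (fixSub (Fpf3.quotAut x)) with hc
  set i := (fixSub (Fpf3.quotAut x)).index with hi
  set d := Nat.card (dSub x) with hd
  have hc4 : 4 ≤ c := by
    by_contra hlt
    push Not at hlt
    have : c * c ≤ 3 * 3 := Nat.mul_le_mul (by omega) (by omega)
    omega
  have hipos : 0 < i := Nat.pos_of_ne_zero (fun e => by rw [e] at h4; omega)
  -- d * i = 64 = 4 * (c * i)
  have : d * i = (4 * c) * i := by rw [h3, mul_assoc, h4]; norm_num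
  have hd4 : d = 4 * c := Nat.eq_of_mul_eq_mul_right hipos this
  omega

omit [Finite T] in
/-- structure of an element of `dSub` -/
theorem dSub_cases (S : Sp ρ) (X : XHyp ρ x) {z0 : T}
    (hfix : ∀ z ∈ center T, x z = z → z = 1 ∨ z = z0) {g : T} (hg : g ∈ dSub x) :
    x g = g ∨ x g = g * z0 := by
  rw [mem_dSub] at hg
  set z := g⁻¹ * x g with hz
  have hxg : x g = g * z := by rw [hz]; group
  have h1 : x (x g) = g := X.inv g
  rw [hxg, map_mul, hxg] at h1
  have h2 : z * x z = 1 := by
    have : g * (z * x z) = g * 1 := by rw [mul_one, ← mul_assoc]; exact h1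
    exact mul_left_cancel this
  have h3 : x z = z := by
    have : x z = z⁻¹ := eq_inv_of_mul_eq_one_right h2
    rw [this, S.z_inv hg]
  rcases hfix z hg h3 with e | e
  · left; rw [hxg, e, mul_one]
  · right; rw [hxg, e]

theorem card_dSub_le (S : Sp ρ) (X : XHyp ρ x) :
    Nat.card (dSub x) ≤ 2 * Nat.card (fixSub x) := by
  classical
  obtain ⟨z0, z1, hz0, hz1, hz01, hxz0, hz1x, hfix⟩ := S.exists_z0 X
  have hxz1 : x z1 ∈ center T := (x_center x z1).mpr hz1
  have hmem2 : ∀ g : T, x g = g * z0 → g * z1 ∈ fixSub x := by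
    intro g hg
    rw [mem_fixSub, map_mul, hg, ← hz1x]
    calc g * (z1 * x z1) * x z1 = g * z1 * (x z1 * x z1) := by group
      _ = g * z1 := by rw [S.zsq _ hxz1, mul_one]
  let F : dSub x → fixSub x × Bool := fun g =>
    if h : x (g : T) = g then (⟨g, (mem_fixSub x _).mpr h⟩, true)
    else (⟨g * z1, hmem2 g ((S.dSub_cases X hfix g.2).resolve_left h)⟩, false)
  have hF : Function.Injective F := by
    intro g k e
    simp only [F] at e
    by_cases hg : x (g : T) = g <;> by_cases hk : x (k : T) = k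
    · rw [dif_pos hg, dif_pos hk] at e
      exact Subtype.ext (congrArg (fun p => ((p.1 : fixSub x) : T)) e)
    · rw [dif_pos hg, dif_neg hk] at e
      exact absurd (congrArg Prod.snd e) (by simp)
    · rw [dif_neg hg, dif_pos hk] at e
      exact absurd (congrArg Prod.snd e) (by simp)
    · rw [dif_neg hg, dif_neg hk] at e
      have := congrArg (fun p => ((p.1 : fixSub x) : T)) e
      simp only at this
      exact Subtype.ext (mul_right_cancel this)
  have := Nat.card_le_card_of_injective F hF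
  rw [Nat.card_prod, Nat.card_eq_fintype_card (α := Bool), Fintype.card_bool] at this
  omega

omit [Finite T] in
theorem pair_injective (S : Sp ρ) (X : XHyp ρ x) :
    Function.Injective fun p : fixSub x × fixSub x => (p.1 : T) * ρ (p.2 : T) := by
  rintro ⟨⟨c1, h1⟩, ⟨c1', h1'⟩⟩ ⟨⟨c2, h2⟩, ⟨c2', h2'⟩⟩ e
  simp only at e
  rw [mem_fixSub] at h1 h1' h2 h2'
  have hu : c2⁻¹ * c1 = ρ (c2' * c1'⁻¹) := by
    rw [map_mul, map_inv]
    calc c2⁻¹ * c1 = c2⁻¹ * (c1 * ρ c1') * (ρ c1')⁻¹ := by group
      _ = c2⁻¹ * (c2 * ρ c2') * (ρ c1')⁻¹ := by rw [e]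
      _ = ρ c2' * (ρ c1')⁻¹ := by group
  have hxu : x (c2⁻¹ * c1) = c2⁻¹ * c1 := by rw [map_mul, map_inv, h1, h2]
  have hxv : x (c2' * c1'⁻¹) = c2' * c1'⁻¹ := by rw [map_mul, map_inv, h1', h2']
  have h3 : ρ (c2' * c1'⁻¹) = ρ (ρ (c2' * c1'⁻¹)) := by
    have := hxu
    rw [hu, X.tw, hxv] at this
    exact this.symm
  have h4 : c2' * c1'⁻¹ = 1 := S.fpf.fpf _ (ρ.injective h3).symm
  have h5 : c2⁻¹ * c1 = 1 := by rw [hu, h4, map_one]
  have e1 : c1 = c2 := by
    have := inv_mul_eq_one.mp h5
    exact this.symm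
  have e2 : c1' = c2' := by
    have := mul_inv_eq_one.mp h4
    exact this.symm
  subst e1 e2
  rfl

theorem card_fix (S : Sp ρ) (X : XHyp ρ x) : Nat.card (fixSub x) = 8 := by
  have h1 := S.card_dSub X
  have h2 := S.card_dSub_le X
  have h3 := Nat.card_le_card_of_injective _ (S.pair_injective X)
  rw [Nat.card_prod, S.card] at h3
  have h4 : Nat.card (fixSub x) ∣ 2 ^ 6 := by
    have := Subgroup.card_subgroup_dvd_card (fixSub x)
    rwa [S.card] at this
  obtain ⟨k, hk, hk2⟩ := (Nat.dvd_prime_pow Nat.prime_two).mp h4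
  rw [hk2] at h2 h3 ⊢
  interval_cases k <;> omega

theorem exists_pair (S : Sp ρ) (X : XHyp ρ x) (t : T) :
    ∃ c c' : T, x c = c ∧ x c' = c' ∧ t = c * ρ c' := by
  have hb : Function.Bijective fun p : fixSub x × fixSub x => (p.1 : T) * ρ (p.2 : T) := by
    rw [Nat.bijective_iff_injective_and_card]
    refine ⟨S.pair_injective X, ?_⟩
    rw [Nat.card_prod, S.card_fix X, S.card]
  obtain ⟨⟨c, c'⟩, hp⟩ := hb.2 t
  exact ⟨c, c', c.2, c'.2, hp.symm⟩

/-- the fixed points of `x` do not commute -/
theorem exists_noncomm (S : Sp ρ) (X : XHyp ρ x) :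
    ∃ a c : T, x a = a ∧ x c = c ∧ cm a c ≠ 1 := by
  by_contra hcon
  push Not at hcon
  have hle : fixSub x ≤ center T := by
    intro a ha
    rw [mem_fixSub] at ha
    rw [Subgroup.mem_center_iff]
    intro t
    obtain ⟨c, c', hc, hc', rfl⟩ := S.exists_pair X t
    have h1 : cm a c = 1 := hcon a c ha hc
    have h2 : cm a (ρ c') = 1 := S.cm_rho_eq_one (hcon a c' ha hc')
    have h3 : cm a (c * ρ c') = 1 := by rw [S.cm_mul_right, h1, h2, one_mul]
    exact ((cm_eq_one_iff _ _).mp h3).symm
  have := Subgroup.card_le_of_le hle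
  rw [S.card_fix X, S.cardZ] at this
  omega

end Sp

end Cfsg.Agent.Lib.H2.L34
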