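import Mathlib
import Cfsg.Agent.Lib.H2.L34E

set_option autoImplicit false

/-!
# Generalities on automorphisms: fixed points of involutions, quotients, twisted automorphisms
-/

namespace Cfsg.Agent.Lib.H2.RT

open Subgroup Cfsg.Agent.Lib.H2.L34

variable {T : Type*} [Group T]

/-- an involutory automorphism of a `2`-group has a nontrivial fixed point in every nontrivial
invariant subgroup -/
theorem exists_fixed_ne_one [Finite T] (hT : IsPGroup 2 T) (τ : MulAut T)
    (hτ : ∀ y, τ (τ y) = y) (H : Subgroup T) (hH : ∀ y, y ∈ H ↔ τ y ∈ H) (hne : H ≠ ⊥) :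
    ∃ h ∈ H, h ≠ 1 ∧ τ h = h := by
  classical
  let _ : Fintype H := Fintype.ofFinite H
  let σ : Equiv.Perm H := Equiv.subtypeEquiv τ.toEquiv (fun a => hH a)
  have hσ : ∀ y : H, ((σ y : H) : T) = τ (y : T) := fun y => rfl
  have h2 : σ ^ 2 ^ 1 = 1 := by
    ext y
    simp only [pow_succ, pow_zero, one_mul, Equiv.Perm.mul_apply, hσ, Equiv.Perm.one_apply]
    exact hτ _
  have : Fact (Nat.Prime 2) := ⟨Nat.prime_two⟩
  have h4 := Equiv.Perm.card_compl_support_modEq h2
  have hHp : IsPGroup 2 H := hT.to_subgroup H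
  obtain ⟨k, hk⟩ := IsPGroup.iff_card.mp hHp
  have hk0 : k ≠ 0 := by
    rintro rfl
    rw [pow_zero] at hk
    exact hne ((Subgroup.card_eq_one).mp hk)
  have hev : 2 ∣ Fintype.card H := by
    rw [← Nat.card_eq_fintype_card, hk]
    exact dvd_pow_self 2 hk0
  have h5 : 2 ∣ (Equiv.Perm.support σ)ᶜ.card := by
    have := (Nat.modEq_zero_iff_dvd.mpr hev)
    exact Nat.modEq_zero_iff_dvd.mp (h4.trans this)
  have h1 : (1 : H) ∈ (Equiv.Perm.support σ)ᶜ := by
    simp only [Finset.mem_compl, Equiv.Perm.mem_support, not_not]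
    exact Subtype.ext (by rw [hσ]; simp)
  have h6 : 1 < (Equiv.Perm.support σ)ᶜ.card := by
    have hpos : 0 < (Equiv.Perm.support σ)ᶜ.card := Finset.card_pos.mpr ⟨1, h1⟩
    obtain ⟨c, hc⟩ := h5
    omega
  obtain ⟨y, hy, hy1⟩ := Finset.exists_mem_ne h6 (1 : H)
  simp only [Finset.mem_compl, Equiv.Perm.mem_support, not_not] at hy
  refine ⟨y, y.2, fun e => hy1 (Subtype.ext e), ?_⟩
  rw [← hσ, hy]

/-- an automorphism preserving a normal subgroup induces an automorphism of the quotient -/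
noncomputable def quotA (f : MulAut T) (N : Subgroup T) [N.Normal] (hN : ∀ y, y ∈ N ↔ f y ∈ N) :
    MulAut (T ⧸ N) :=
  QuotientGroup.congr N N f (by
    ext y
    rw [Subgroup.mem_map]
    constructor
    · rintro ⟨x, hx, rfl⟩
      exact (hN x).mp hx
    · intro hy
      refine ⟨f.symm y, ?_, f.apply_symm_apply y⟩
      rw [hN, f.apply_symm_apply]
      exact hy)

theorem quotA_mk (f : MulAut T) (N : Subgroup T) [N.Normal] (hN : ∀ y, y ∈ N ↔ f y ∈ N) (y : T) :
    quotA f N hN (QuotientGroup.mk y) = QuotientGroup.mk (f y) := rfl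

/-- a fixed-point-free automorphism of order three stays so on invariant quotients -/
theorem fpf3_quot [Finite T] {ρ : MulAut T} (h : Fpf3 ρ) (N : Subgroup T) [N.Normal]
    (hN : ∀ y, y ∈ N ↔ ρ y ∈ N) : Fpf3 (quotA ρ N hN) := by
  constructor
  · intro y
    induction y using QuotientGroup.induction_on with
    | H y => rw [quotA_mk, quotA_mk, quotA_mk, h.cube]
  · intro y
    induction y using QuotientGroup.induction_on with
    | H y =>
      intro e
      rw [quotA_mk, eq_comm, QuotientGroup.eq] at e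
      -- `y⁻¹ ρ(y) ∈ N`
      let tw : N → N := fun u => ⟨(u : T)⁻¹ * ρ (u : T), N.mul_mem (N.inv_mem u.2) ((hN _).mp u.2)⟩
      have htw : Function.Injective tw := by
        intro u v huv
        have := congrArg Subtype.val huv
        exact Subtype.ext (h.twist_injective this)
      obtain ⟨u, hu⟩ := (Finite.injective_iff_surjective.mp htw) ⟨y⁻¹ * ρ y, e⟩
      have hu' : (u : T)⁻¹ * ρ (u : T) = y⁻¹ * ρ y := congrArg Subtype.val hu
      have : (u : T) = y := h.twist_injective hu'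
      rw [QuotientGroup.eq_one_iff, ← this]
      exact u.2

/-- the automorphism `y ↦ t⁻¹ ρ(y) t` -/
def twistA (ρ : MulAut T) (t : T) : MulAut T := MulAut.conj t⁻¹ * ρ

theorem twistA_apply (ρ : MulAut T) (t y : T) : twistA ρ t y = t⁻¹ * ρ y * t := by
  simp [twistA, MulAut.mul_apply]

theorem fpf3_twistA [Finite T] {ρ : MulAut T} (h : Fpf3 ρ) (t : T) : Fpf3 (twistA ρ t) := by
  constructor
  · intro y
    simp only [twistA_apply, map_mul, map_inv, h.cube]
    have h1 := h.prod3' t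
    have h2 : ρ (ρ t) = (ρ t * t)⁻¹ := by
      rw [mul_assoc] at h1
      exact eq_inv_of_mul_eq_one_left h1
    rw [h2]
    group
  · intro y hy
    rw [twistA_apply] at hy
    -- `t = ρ(s)⁻¹ s`
    obtain ⟨s, hs⟩ := (Finite.injective_iff_surjective.mp h.twist_injective) t⁻¹
    simp only at hs
    have ht : t = (ρ s)⁻¹ * s := by
      have : t = (s⁻¹ * ρ s)⁻¹ := by rw [hs, inv_inv]
      rw [this]; group
    have h1 : ρ (s * y * s⁻¹) = s * y * s⁻¹ := by
      have hy' : ρ y = t * y * t⁻¹ := by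
        calc ρ y = t * (t⁻¹ * ρ y * t) * t⁻¹ := by group
          _ = t * y * t⁻¹ := by rw [hy]
      rw [map_mul, map_mul, map_inv, hy', ht]
      group
    have h2 := h.fpf _ h1
    have : y = s⁻¹ * (s * y * s⁻¹) * s := by group
    rw [this, h2]; group

/-- a group with a fixed-point-free automorphism of order three is `2`-Engel: every element commutes
with all its conjugates -/
theorem engel [Finite T] {ρ : MulAut T} (h : Fpf3 ρ) (x t : T) :
    x * (t * x * t⁻¹) = (t * x * t⁻¹) * x := by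
  -- `x` commutes with all conjugates of `ρ x` and of `ρ (ρ x)`
  have h1 : ∀ (y s : T), y * (s⁻¹ * ρ y * s) = (s⁻¹ * ρ y * s) * y := by
    intro y s
    have := (fpf3_twistA h s).comm y
    rwa [twistA_apply] at this
  have h2 : ∀ (y s : T), (s * ρ (ρ y) * s⁻¹) * y = y * (s * ρ (ρ y) * s⁻¹) := by
    intro y s
    have := h1 (ρ (ρ y)) s
    rw [h.cube] at this
    -- `ρ²y * (s⁻¹ y s) = (s⁻¹ y s) * ρ² y`; conjugate by `s`
    calc (s * ρ (ρ y) * s⁻¹) * y = s * (ρ (ρ y) * (s⁻¹ * y * s)) * s⁻¹ := by group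
      _ = s * ((s⁻¹ * y * s) * ρ (ρ y)) * s⁻¹ := by rw [this]
      _ = y * (s * ρ (ρ y) * s⁻¹) := by group
  have h3 : t * x⁻¹ * t⁻¹ = (t * ρ x * t⁻¹) * (t * ρ (ρ x) * t⁻¹) := by
    have hx : x⁻¹ = ρ x * ρ (ρ x) := by
      have h' : x * (ρ x * ρ (ρ x)) = 1 := by rw [← mul_assoc]; exact h.prod3 x
      exact inv_eq_of_mul_eq_one_right h'
    rw [hx]; group
  have h4 : x * (t * ρ x * t⁻¹) = (t * ρ x * t⁻¹) * x := by
    have := h1 x t⁻¹
    rwa [inv_inv] at this
  have h5 : x * (t * x⁻¹ * t⁻¹) = (t * x⁻¹ * t⁻¹) * x := by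
    rw [h3]
    have cA : Commute x (t * ρ x * t⁻¹) := h4
    have cB : Commute x (t * ρ (ρ x) * t⁻¹) := (h2 x t).symm
    exact (cA.mul_right cB).eq
  have h6 : t * x * t⁻¹ = (t * x⁻¹ * t⁻¹)⁻¹ := by group
  rw [h6]
  have : Commute x (t * x⁻¹ * t⁻¹) := h5
  exact this.inv_right

end Cfsg.Agent.Lib.H2.RT
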