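import Mathlib
import Cfsg.Agent.Lib.H2.RTA

set_option autoImplicit false
set_option linter.unusedSectionVars false
set_option linter.style.haveILetI false

/-!
# 2-groups with a commuting involution and Singer automorphism: hypotheses and basics
-/

namespace Cfsg.Agent.Lib.H2.QN

open Subgroup Cfsg.Agent.Lib.H2.L34 Cfsg.Agent.Lib.H2.RT

variable {T : Type*} [Group T]

theorem pow_succ_apply (ρ : MulAut T) (k : ℕ) (x : T) : (ρ ^ (k + 1)) x = ρ ((ρ ^ k) x) := by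
  rw [pow_succ', MulAut.mul_apply]

theorem pow_succ_apply' (ρ : MulAut T) (k : ℕ) (x : T) : (ρ ^ (k + 1)) x = (ρ ^ k) (ρ x) := by
  rw [pow_succ, MulAut.mul_apply]

theorem pow_add_apply (ρ : MulAut T) (i j : ℕ) (x : T) :
    (ρ ^ (i + j)) x = (ρ ^ i) ((ρ ^ j) x) := by
  rw [pow_add, MulAut.mul_apply]

theorem pow_zero_apply (ρ : MulAut T) (x : T) : (ρ ^ 0) x = x := by
  rw [pow_zero, MulAut.one_apply]

theorem pow_one_apply (ρ : MulAut T) (x : T) : (ρ ^ 1) x = ρ x := by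
  rw [pow_one]

theorem pow_mul_apply_fixed (ρ : MulAut T) (n k : ℕ) (x : T) (h : ∀ y, (ρ ^ n) y = y) :
    (ρ ^ (n * k)) x = x := by
  induction k with
  | zero => rw [Nat.mul_zero, pow_zero_apply]
  | succ k ih => rw [Nat.mul_succ, pow_add_apply, h, ih]

/-- the twisted difference `x⁻¹ α(x)` -/
def dd (α : MulAut T) (x : T) : T := x⁻¹ * α x

theorem dd_def (α : MulAut T) (x : T) : dd α x = x⁻¹ * α x := rfl

/-- the hypotheses -/
structure Hyp (q : ℕ) (α ρ : MulAut T) : Prop where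
  pg : IsPGroup 2 T
  hq : 4 ≤ q
  inv : ∀ x, α (α x) = x
  comm : ∀ x, α (ρ x) = ρ (α x)
  per : ∀ x, (ρ ^ (q - 1)) x = x
  semi : ∀ (k : ℕ) (x : T), (ρ ^ k) x = x → x ≠ 1 → (q - 1) ∣ k
  card : Nat.card (fixSub α) = q

namespace Hyp

variable {q : ℕ} {α ρ : MulAut T}

theorem comm_pow (H : Hyp q α ρ) (k : ℕ) (x : T) : α ((ρ ^ k) x) = (ρ ^ k) (α x) := by
  induction k with
  | zero => rw [pow_zero_apply, pow_zero_apply]
  | succ k ih => rw [pow_succ_apply, pow_succ_apply, H.comm, ih]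

theorem rho_mem (H : Hyp q α ρ) {c : T} (hc : c ∈ fixSub α) (k : ℕ) : (ρ ^ k) c ∈ fixSub α := by
  rw [mem_fixSub] at hc ⊢
  rw [H.comm_pow, hc]

theorem rho_mem_iff (H : Hyp q α ρ) (c : T) : c ∈ fixSub α ↔ ρ c ∈ fixSub α := by
  rw [mem_fixSub, mem_fixSub, H.comm]
  constructor
  · intro h; rw [h]
  · intro h; exact ρ.injective h

theorem pow_mod (H : Hyp q α ρ) (k : ℕ) (x : T) : (ρ ^ k) x = (ρ ^ (k % (q - 1))) x := by
  conv_lhs => rw [← Nat.mod_add_div k (q - 1)]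
  rw [pow_add_apply, pow_mul_apply_fixed ρ (q - 1) _ x H.per]

theorem pow_eq_of_modEq (H : Hyp q α ρ) {i j : ℕ} (h : i ≡ j [MOD (q - 1)]) (x : T) :
    (ρ ^ i) x = (ρ ^ j) x := by
  rw [H.pow_mod i, H.pow_mod j, h]

theorem pow_inj (H : Hyp q α ρ) {c : T} (hc1 : c ≠ 1) {i j : ℕ} (hi : i < q - 1) (hj : j < q - 1)
    (h : (ρ ^ i) c = (ρ ^ j) c) : i = j := by
  wlog hij : i ≤ j generalizing i j
  · exact (this hj hi h.symm (by omega)).symm
  obtain ⟨d, rfl⟩ := Nat.exists_eq_add_of_le hij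
  rw [pow_add_apply] at h
  have h1 : (ρ ^ d) c = c := ((ρ ^ i).injective h).symm
  have h2 := H.semi d c h1 hc1
  have : d = 0 := Nat.eq_zero_of_dvd_of_lt h2 (by omega)
  omega

variable [Finite T]

theorem card_pos (H : Hyp q α ρ) : 0 < q - 1 := by have := H.hq; omega

/-- transitivity on the nonidentity fixed points -/
theorem trans (H : Hyp q α ρ) {c c' : T} (hc : c ∈ fixSub α) (hc1 : c ≠ 1)
    (hc' : c' ∈ fixSub α) (hc'1 : c' ≠ 1) : ∃ k : ℕ, (ρ ^ k) c = c' := by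
  classical
  let _ : Fintype (fixSub α) := Fintype.ofFinite _
  let f : Fin (q - 1) → {x : fixSub α // x ≠ 1} := fun i =>
    ⟨⟨(ρ ^ (i : ℕ)) c, H.rho_mem hc _⟩, fun e => by
      have h1 : (ρ ^ (i : ℕ)) c = 1 := congrArg Subtype.val e
      have h2 : (ρ ^ (i : ℕ)) c = (ρ ^ (i : ℕ)) 1 := by rw [h1, map_one]
      exact hc1 ((ρ ^ (i : ℕ)).injective h2)⟩
  have hf : Function.Injective f := by
    intro i j hij
    have h1 : (ρ ^ (i : ℕ)) c = (ρ ^ (j : ℕ)) c := congrArg (fun z => ((z.1 : fixSub α) : T)) hij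
    exact Fin.ext (H.pow_inj hc1 i.2 j.2 h1)
  have hcard : Fintype.card (Fin (q - 1)) = Fintype.card {x : fixSub α // x ≠ 1} := by
    rw [Fintype.card_fin, Fintype.card_subtype_compl, Fintype.card_subtype_eq,
      ← Nat.card_eq_fintype_card, H.card]
  have hb := (Fintype.bijective_iff_injective_and_card f).mpr ⟨hf, hcard⟩
  obtain ⟨i, hi⟩ := hb.2 ⟨⟨c', hc'⟩, fun e => hc'1 (congrArg Subtype.val e)⟩
  exact ⟨i, congrArg (fun z => ((z.1 : fixSub α) : T)) hi⟩

theorem C_ne_bot (H : Hyp q α ρ) : fixSub α ≠ ⊥ := by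
  intro h
  have := H.card
  rw [h, Subgroup.card_bot] at this
  have := H.hq
  omega

theorem exists_C_ne_one (H : Hyp q α ρ) : ∃ c ∈ fixSub α, c ≠ 1 := by
  have := H.C_ne_bot
  rw [Ne, Subgroup.eq_bot_iff_forall] at this
  push Not at this
  exact this

theorem nontrivial (H : Hyp q α ρ) : Nontrivial T := by
  obtain ⟨c, -, hc⟩ := H.exists_C_ne_one
  exact ⟨⟨c, 1, hc⟩⟩

theorem aut_center (f : MulAut T) (y : T) : y ∈ center T ↔ f y ∈ center T := by
  rw [Subgroup.mem_center_iff, Subgroup.mem_center_iff]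
  constructor
  · intro h g
    obtain ⟨g', rfl⟩ := f.surjective g
    rw [← map_mul, ← map_mul, h]
  · intro h g
    apply f.injective
    rw [map_mul, map_mul, h]

theorem pow_center (f : MulAut T) (k : ℕ) {y : T} (hy : y ∈ center T) : (f ^ k) y ∈ center T :=
  (aut_center (f ^ k) y).mp hy

theorem C_le_center (H : Hyp q α ρ) : fixSub α ≤ center T := by
  haveI := H.nontrivial
  have hne : center T ≠ ⊥ := by
    have := H.pg.center_nontrivial
    intro h
    rw [h] at this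
    exact not_nontrivial _ this
  obtain ⟨z, hz, hz1, hfz⟩ := exists_fixed_ne_one H.pg α H.inv (center T) (aut_center α) hne
  intro c hc
  by_cases hc1 : c = 1
  · rw [hc1]; exact one_mem _
  · obtain ⟨k, rfl⟩ := H.trans ((mem_fixSub α z).mpr hfz) hz1 hc hc1
    exact pow_center ρ k hz

theorem C_comm (H : Hyp q α ρ) {c : T} (hc : c ∈ fixSub α) (y : T) : c * y = y * c :=
  (Subgroup.mem_center_iff.mp (H.C_le_center hc) y).symm

theorem C_normal (H : Hyp q α ρ) : (fixSub α).Normal := by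
  constructor
  intro c hc g
  rw [← H.C_comm hc, mul_inv_cancel_right]
  exact hc

theorem two_dvd_q (H : Hyp q α ρ) : 2 ∣ q := by
  obtain ⟨n, hn⟩ := IsPGroup.iff_card.mp (H.pg.to_subgroup (fixSub α))
  rw [H.card] at hn
  have hq := H.hq
  rcases n with _ | n
  · rw [pow_zero] at hn; omega
  · rw [hn, pow_succ]; exact Dvd.intro_left _ rfl

theorem exists_pow_two (H : Hyp q α ρ) : ∃ n : ℕ, 2 ≤ n ∧ q = 2 ^ n := by
  obtain ⟨n, hn⟩ := IsPGroup.iff_card.mp (H.pg.to_subgroup (fixSub α))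
  rw [H.card] at hn
  refine ⟨n, ?_, hn⟩
  have hq := H.hq
  by_contra h
  have : n = 0 ∨ n = 1 := by omega
  rcases this with rfl | rfl <;> omega

theorem C_sq (H : Hyp q α ρ) {c : T} (hc : c ∈ fixSub α) : c * c = 1 := by
  haveI : Fact (Nat.Prime 2) := ⟨Nat.prime_two⟩
  have h2 : 2 ∣ Nat.card (fixSub α) := by rw [H.card]; exact H.two_dvd_q
  obtain ⟨c0, hc0⟩ := exists_prime_orderOf_dvd_card' 2 h2
  have hc01 : (c0 : T) ≠ 1 := by
    intro e
    have : c0 = 1 := Subtype.ext e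
    rw [this, orderOf_one] at hc0
    omega
  have hc0s : (c0 : T) * c0 = 1 := by
    have := pow_orderOf_eq_one c0
    rw [hc0, pow_two] at this
    exact congrArg Subtype.val this
  by_cases hc1 : c = 1
  · rw [hc1, mul_one]
  · obtain ⟨k, rfl⟩ := H.trans c0.2 hc01 hc hc1
    rw [← map_mul, hc0s, map_one]

theorem C_inv (H : Hyp q α ρ) {c : T} (hc : c ∈ fixSub α) : c⁻¹ = c :=
  inv_eq_of_mul_eq_one_left (H.C_sq hc)

theorem C_fix (_H : Hyp q α ρ) {c : T} (hc : c ∈ fixSub α) : α c = c := hc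

/-- the relations `1 + R^i = R^m` on the fixed points -/
theorem rel_C (H : Hyp q α ρ) (i : ℕ) (hi : ¬ (q - 1) ∣ i) :
    ∃ m : ℕ, ∀ c ∈ fixSub α, c * (ρ ^ i) c = (ρ ^ m) c := by
  obtain ⟨c0, hc0, hc01⟩ := H.exists_C_ne_one
  have h1 : c0 * (ρ ^ i) c0 ≠ 1 := by
    intro e
    have h2 : (ρ ^ i) c0 = c0 := by
      have : (ρ ^ i) c0 = c0⁻¹ := eq_inv_of_mul_eq_one_right e
      rw [this, H.C_inv hc0]
    exact hi (H.semi i c0 h2 hc01)
  obtain ⟨m, hm⟩ := H.trans hc0 hc01 (mul_mem hc0 (H.rho_mem hc0 i)) h1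
  refine ⟨m, fun c hc => ?_⟩
  by_cases hc1 : c = 1
  · rw [hc1, map_one, map_one, mul_one]
  · obtain ⟨k, rfl⟩ := H.trans hc0 hc01 hc hc1
    rw [← pow_add_apply, Nat.add_comm, pow_add_apply, ← map_mul, ← hm, ← pow_add_apply,
      Nat.add_comm, pow_add_apply]

end Hyp

end Cfsg.Agent.Lib.H2.QN
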