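import Mathlib
import Cfsg.Agent.Lib.H2.QNA

set_option autoImplicit false
set_option linter.unusedSectionVars false
set_option linter.style.haveILetI false

/-!
# Quotients and invariant subgroups
-/

namespace Cfsg.Agent.Lib.H2.QN

open Subgroup Cfsg.Agent.Lib.H2.L34 Cfsg.Agent.Lib.H2.RT

variable {T : Type*} [Group T]

theorem pow_inj_of (ρ : MulAut T) (n : ℕ)
    (hsemi : ∀ (k : ℕ) (x : T), (ρ ^ k) x = x → x ≠ 1 → n ∣ k) {c : T} (hc1 : c ≠ 1) {i j : ℕ}
    (hi : i < n) (hj : j < n) (h : (ρ ^ i) c = (ρ ^ j) c) : i = j := by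
  wlog hij : i ≤ j generalizing i j
  · exact (this hj hi h.symm (by omega)).symm
  obtain ⟨d, rfl⟩ := Nat.exists_eq_add_of_le hij
  rw [pow_add_apply] at h
  have h1 : (ρ ^ d) c = c := ((ρ ^ i).injective h).symm
  have h2 := hsemi d c h1 hc1
  have : d = 0 := Nat.eq_zero_of_dvd_of_lt h2 (by omega)
  omega

/-- the twist `u ↦ u⁻¹ β(u)` of a fixed-point-free automorphism is injective -/
theorem twist_inj (β : MulAut T) (hβ : ∀ x, β x = x → x = 1) {u v : T}
    (h : u⁻¹ * β u = v⁻¹ * β v) : u = v := by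
  have h1 : β (v * u⁻¹) = v * u⁻¹ := by
    rw [map_mul, map_inv]
    calc β v * (β u)⁻¹ = v * (v⁻¹ * β v) * (u⁻¹ * β u)⁻¹ * u⁻¹ := by group
      _ = v * u⁻¹ := by rw [h]; group
  have h2 := hβ _ h1
  exact (mul_inv_eq_one.mp h2).symm

theorem quotA_pow (f : MulAut T) (N : Subgroup T) [N.Normal] (hN : ∀ y, y ∈ N ↔ f y ∈ N)
    (k : ℕ) (y : T) :
    (quotA f N hN ^ k) (QuotientGroup.mk y) = QuotientGroup.mk ((f ^ k) y) := by
  induction k with
  | zero => rw [pow_zero_apply, pow_zero_apply]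
  | succ k ih => rw [pow_succ_apply, pow_succ_apply, ih, quotA_mk]

theorem card_comap_mk [Finite T] (N : Subgroup T) [N.Normal] (K : Subgroup (T ⧸ N)) :
    Nat.card (K.comap (QuotientGroup.mk' N)) = Nat.card K * Nat.card N := by
  have h2 : (K.comap (QuotientGroup.mk' N)).index = K.index :=
    Subgroup.index_comap_of_surjective _ (QuotientGroup.mk'_surjective _)
  have h3 := Subgroup.card_mul_index (K.comap (QuotientGroup.mk' N))
  have h4 := Subgroup.card_mul_index K
  have h5 := Subgroup.card_eq_card_quotient_mul_card_subgroup N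
  rw [h2] at h3
  have hipos : 0 < K.index := Nat.pos_of_ne_zero (Subgroup.index_ne_zero_of_finite)
  have : Nat.card (K.comap (QuotientGroup.mk' N)) * K.index =
      (Nat.card K * Nat.card N) * K.index := by
    rw [h3, h5, ← h4]; ring
  exact Nat.eq_of_mul_eq_mul_right hipos this

/-- restriction of an automorphism to an invariant subgroup -/
def resA (f : MulAut T) (K : Subgroup T) (hK : ∀ y, y ∈ K ↔ f y ∈ K) : MulAut K where
  toFun y := ⟨f (y : T), (hK y).mp y.2⟩
  invFun y := ⟨f.symm (y : T), by rw [hK, f.apply_symm_apply]; exact y.2⟩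
  left_inv y := Subtype.ext (f.symm_apply_apply (y : T))
  right_inv y := Subtype.ext (f.apply_symm_apply (y : T))
  map_mul' y z := Subtype.ext (map_mul f (y : T) (z : T))

theorem resA_coe (f : MulAut T) (K : Subgroup T) (hK : ∀ y, y ∈ K ↔ f y ∈ K) (y : K) :
    ((resA f K hK y : K) : T) = f y := rfl

theorem resA_pow (f : MulAut T) (K : Subgroup T) (hK : ∀ y, y ∈ K ↔ f y ∈ K) (k : ℕ) (y : K) :
    (((resA f K hK ^ k) y : K) : T) = (f ^ k) y := by
  induction k with
  | zero => rw [pow_zero_apply, pow_zero_apply]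
  | succ k ih => rw [pow_succ_apply, pow_succ_apply, resA_coe, ih]

namespace Hyp

variable {q : ℕ} {α ρ : MulAut T}

theorem alpha_mem_iff (H : Hyp q α ρ) (y : T) : y ∈ fixSub α ↔ α y ∈ fixSub α := by
  rw [mem_fixSub, mem_fixSub, H.inv]
  constructor
  · intro h; exact h.symm
  · intro h; exact h.symm

/-- the induced involution on the quotient -/
noncomputable def qα (H : Hyp q α ρ) [(fixSub α).Normal] : MulAut (T ⧸ fixSub α) :=
  quotA α (fixSub α) H.alpha_mem_iff

/-- the induced Singer automorphism on the quotient -/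
noncomputable def qρ (H : Hyp q α ρ) [(fixSub α).Normal] : MulAut (T ⧸ fixSub α) :=
  quotA ρ (fixSub α) H.rho_mem_iff

theorem qα_mk (H : Hyp q α ρ) [(fixSub α).Normal] (y : T) :
    H.qα (QuotientGroup.mk y) = QuotientGroup.mk (α y) := rfl

theorem qρ_mk (H : Hyp q α ρ) [(fixSub α).Normal] (y : T) :
    H.qρ (QuotientGroup.mk y) = QuotientGroup.mk (ρ y) := rfl

theorem qρ_pow_mk (H : Hyp q α ρ) [(fixSub α).Normal] (k : ℕ) (y : T) :
    (H.qρ ^ k) (QuotientGroup.mk y) = QuotientGroup.mk ((ρ ^ k) y) :=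
  quotA_pow ρ (fixSub α) H.rho_mem_iff k y

/-- `dd α` descends to the quotient -/
def dq (H : Hyp q α ρ) [Finite T] [(fixSub α).Normal] (v : T ⧸ fixSub α) : T :=
  Quotient.liftOn' v (fun x => dd α x) (by
    intro a b hab
    rw [QuotientGroup.leftRel_apply] at hab
    simp only [dd_def]
    obtain ⟨c, hc, rfl⟩ : ∃ c ∈ fixSub α, b = a * c := ⟨a⁻¹ * b, hab, by group⟩
    have hcc := H.C_comm hc
    rw [map_mul, (mem_fixSub α _).mp hc]
    calc a⁻¹ * α a = c⁻¹ * (c * (a⁻¹ * α a)) := by group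
      _ = c⁻¹ * ((a⁻¹ * α a) * c) := by rw [hcc]
      _ = (a * c)⁻¹ * (α a * c) := by group)

theorem dq_mk (H : Hyp q α ρ) [Finite T] [(fixSub α).Normal] (x : T) :
    H.dq (QuotientGroup.mk x) = dd α x := rfl

variable [Finite T]

theorem mk_mem_fix (H : Hyp q α ρ) [(fixSub α).Normal] (x : T) :
    (QuotientGroup.mk x : T ⧸ fixSub α) ∈ fixSub H.qα ↔ dd α x ∈ fixSub α := by
  rw [mem_fixSub, qα_mk, eq_comm, QuotientGroup.eq, dd_def]

theorem mk_eq_one_iff (_H : Hyp q α ρ) [(fixSub α).Normal] (x : T) :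
    (QuotientGroup.mk x : T ⧸ fixSub α) = 1 ↔ x ∈ fixSub α :=
  QuotientGroup.eq_one_iff x

omit [Finite T] in
theorem dd_eq_one_iff' (α : MulAut T) (x : T) : dd α x = 1 ↔ x ∈ fixSub α := by
  rw [dd_def, mem_fixSub, inv_mul_eq_one, eq_comm]

/-- `dd α` is multiplicative where its values are central -/
theorem dd_mul (H : Hyp q α ρ) {x : T} (hx : dd α x ∈ fixSub α) (y : T) :
    dd α (x * y) = dd α x * dd α y := by
  have hc := H.C_comm hx
  simp only [dd_def] at hc ⊢
  rw [map_mul]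
  calc (x * y)⁻¹ * (α x * α y) = y⁻¹ * ((x⁻¹ * α x) * α y) := by group
    _ = y⁻¹ * (α y * (x⁻¹ * α x)) := by rw [hc]
    _ = (y⁻¹ * α y) * (x⁻¹ * α x) := by group
    _ = x⁻¹ * α x * (y⁻¹ * α y) := (hc _).symm

theorem semi_quot (H : Hyp q α ρ) [(fixSub α).Normal] (k : ℕ) (v : T ⧸ fixSub α)
    (hv : (H.qρ ^ k) v = v) (hv1 : v ≠ 1) : (q - 1) ∣ k := by
  induction v using QuotientGroup.induction_on with
  | H x =>
    rw [qρ_pow_mk, eq_comm, QuotientGroup.eq] at hv
    rw [Ne, H.mk_eq_one_iff] at hv1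
    by_contra hk
    set β := ρ ^ k with hβ
    have hfp : ∀ y, β y = y → y = 1 := by
      intro y hy
      by_contra hy1
      exact hk (H.semi k y hy hy1)
    let tw : fixSub α → fixSub α := fun u =>
      ⟨(u : T)⁻¹ * β (u : T), mul_mem (inv_mem u.2) (H.rho_mem u.2 k)⟩
    have htw : Function.Injective tw := by
      intro u v huv
      exact Subtype.ext (twist_inj β hfp (congrArg Subtype.val huv))
    obtain ⟨u, hu⟩ := (Finite.injective_iff_surjective.mp htw) ⟨(x⁻¹ * β x)⁻¹, inv_mem hv⟩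
    have hu' : (u : T)⁻¹ * β (u : T) = (x⁻¹ * β x)⁻¹ := congrArg Subtype.val hu
    have hfix : β (x * u) = x * u := by
      rw [map_mul]
      have h1 : β (u : T) = u * (x⁻¹ * β x)⁻¹ := by rw [← hu']; group
      have h2 := H.C_comm (inv_mem hv) (u : T)
      rw [h1, ← h2]
      group
    have h3 := hfp _ hfix
    apply hv1
    have : x = (u : T)⁻¹ := eq_inv_of_mul_eq_one_left h3
    rw [this]
    exact inv_mem u.2

theorem dq_injOn (H : Hyp q α ρ) [(fixSub α).Normal] {v w : T ⧸ fixSub α}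
    (hv : v ∈ fixSub H.qα) (hw : w ∈ fixSub H.qα) (h : H.dq v = H.dq w) : v = w := by
  induction v using QuotientGroup.induction_on with
  | H x =>
    induction w using QuotientGroup.induction_on with
    | H y =>
      rw [dq_mk, dq_mk] at h
      rw [mk_mem_fix] at hv hw
      rw [QuotientGroup.eq]
      have h1 : dd α x = dd α (x * (x⁻¹ * y)) := by rw [h]; congr 1; group
      rw [H.dd_mul hv] at h1
      have h2 : dd α (x⁻¹ * y) = 1 := by
        have : dd α x * 1 = dd α x * dd α (x⁻¹ * y) := by rw [mul_one]; exact h1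
        exact (mul_left_cancel this).symm
      exact (dd_eq_one_iff' α _).mp h2

theorem card_fix_quot_le (H : Hyp q α ρ) [(fixSub α).Normal] :
    Nat.card (fixSub H.qα) ≤ q := by
  let f : fixSub H.qα → fixSub α := fun v => ⟨H.dq v, by
    obtain ⟨v, hv⟩ := v
    induction v using QuotientGroup.induction_on with
    | H x => rw [dq_mk]; exact (H.mk_mem_fix x).mp hv⟩
  have hf : Function.Injective f := by
    intro v w hvw
    exact Subtype.ext (H.dq_injOn v.2 w.2 (congrArg Subtype.val hvw))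
  have := Nat.card_le_card_of_injective f hf
  rwa [H.card] at this

theorem qα_inv (H : Hyp q α ρ) [(fixSub α).Normal] (v : T ⧸ fixSub α) : H.qα (H.qα v) = v := by
  induction v using QuotientGroup.induction_on with
  | H x => rw [qα_mk, qα_mk, H.inv]

theorem qcomm (H : Hyp q α ρ) [(fixSub α).Normal] (v : T ⧸ fixSub α) :
    H.qα (H.qρ v) = H.qρ (H.qα v) := by
  induction v using QuotientGroup.induction_on with
  | H x => rw [qρ_mk, qα_mk, qα_mk, qρ_mk, H.comm]

theorem qcomm_pow (H : Hyp q α ρ) [(fixSub α).Normal] (k : ℕ) (v : T ⧸ fixSub α) :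
    H.qα ((H.qρ ^ k) v) = (H.qρ ^ k) (H.qα v) := by
  induction v using QuotientGroup.induction_on with
  | H x => rw [qρ_pow_mk, qα_mk, qα_mk, qρ_pow_mk, H.comm_pow]

theorem card_fix_quot (H : Hyp q α ρ) [(fixSub α).Normal] (hne : ∃ y, y ∉ fixSub α) :
    Nat.card (fixSub H.qα) = q := by
  classical
  apply le_antisymm H.card_fix_quot_le
  obtain ⟨y, hy⟩ := hne
  have hne' : (⊤ : Subgroup (T ⧸ fixSub α)) ≠ ⊥ := by
    intro h
    have : (QuotientGroup.mk y : T ⧸ fixSub α) ∈ (⊥ : Subgroup (T ⧸ fixSub α)) := by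
      rw [← h]; exact Subgroup.mem_top _
    rw [Subgroup.mem_bot, H.mk_eq_one_iff] at this
    exact hy this
  obtain ⟨v, -, hv1, hv⟩ := exists_fixed_ne_one (H.pg.to_quotient (fixSub α)) H.qα H.qα_inv ⊤
    (fun _ => ⟨fun _ => Subgroup.mem_top _, fun _ => Subgroup.mem_top _⟩) hne'
  let _ : Fintype (fixSub H.qα) := Fintype.ofFinite _
  let f : Fin (q - 1) → {x : fixSub H.qα // x ≠ 1} := fun i =>
    ⟨⟨(H.qρ ^ (i : ℕ)) v, by rw [mem_fixSub, H.qcomm_pow, hv]⟩, fun e => by
      have h1 : (H.qρ ^ (i : ℕ)) v = 1 := congrArg Subtype.val e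
      have h2 : (H.qρ ^ (i : ℕ)) v = (H.qρ ^ (i : ℕ)) 1 := by rw [h1, map_one]
      exact hv1 ((H.qρ ^ (i : ℕ)).injective h2)⟩
  have hf : Function.Injective f := by
    intro i j hij
    have h1 : (H.qρ ^ (i : ℕ)) v = (H.qρ ^ (j : ℕ)) v :=
      congrArg (fun z => ((z.1 : fixSub H.qα) : T ⧸ fixSub α)) hij
    exact Fin.ext (pow_inj_of H.qρ (q - 1) H.semi_quot hv1 i.2 j.2 h1)
  have h1 := Fintype.card_le_of_injective f hf
  rw [Fintype.card_fin, Fintype.card_subtype_compl, Fintype.card_subtype_eq,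
    ← Nat.card_eq_fintype_card] at h1
  have := H.hq
  omega

/-- the quotient by the fixed points satisfies the hypotheses again -/
theorem quot (H : Hyp q α ρ) [(fixSub α).Normal] (hne : ∃ y, y ∉ fixSub α) :
    Hyp q H.qα H.qρ where
  pg := H.pg.to_quotient (fixSub α)
  hq := H.hq
  inv := H.qα_inv
  comm := H.qcomm
  per := by
    intro v
    induction v using QuotientGroup.induction_on with
    | H x => rw [qρ_pow_mk, H.per]
  semi := H.semi_quot
  card := H.card_fix_quot hne

theorem card_quot (H : Hyp q α ρ) [(fixSub α).Normal] :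
    Nat.card T = Nat.card (T ⧸ fixSub α) * q := by
  have := Subgroup.card_eq_card_quotient_mul_card_subgroup (fixSub α)
  rwa [H.card] at this

/-- invariant subgroups containing the fixed points satisfy the hypotheses -/
theorem sub (H : Hyp q α ρ) (K : Subgroup T) (hKα : ∀ y, y ∈ K ↔ α y ∈ K)
    (hKρ : ∀ y, y ∈ K ↔ ρ y ∈ K) (hCK : fixSub α ≤ K) :
    Hyp q (resA α K hKα) (resA ρ K hKρ) where
  pg := H.pg.to_subgroup K
  hq := H.hq
  inv := fun x => Subtype.ext (by rw [resA_coe, resA_coe, H.inv])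
  comm := fun x => Subtype.ext (by rw [resA_coe, resA_coe, resA_coe, resA_coe, H.comm])
  per := fun x => Subtype.ext (by rw [resA_pow, H.per])
  semi := by
    intro k x hx hx1
    have h1 : (ρ ^ k) (x : T) = x := by rw [← resA_pow ρ K hKρ, hx]
    exact H.semi k x h1 (fun e => hx1 (Subtype.ext e))
  card := by
    rw [← H.card]
    refine Nat.card_congr ⟨fun x => ⟨x.1.1, ?_⟩, fun c => ⟨⟨c.1, hCK c.2⟩, ?_⟩, ?_, ?_⟩
    · have := x.2
      rw [mem_fixSub] at this ⊢
      have h := congrArg Subtype.val this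
      rwa [resA_coe] at h
    · rw [mem_fixSub]
      exact Subtype.ext (by rw [resA_coe]; exact c.2)
    · intro x; rfl
    · intro c; rfl

end Hyp

end Cfsg.Agent.Lib.H2.QN
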