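import Mathlib
import Cfsg.Agent.Lib.H2.QNB

set_option autoImplicit false
set_option linter.unusedSectionVars false
set_option linter.style.haveILetI false

/-!
# Class two calculus and the abelian case
-/

namespace Cfsg.Agent.Lib.H2.QN

open Subgroup Cfsg.Agent.Lib.H2.L34 Cfsg.Agent.Lib.H2.RT

variable {T : Type*} [Group T]

/-- commutators lie in a central subgroup of exponent two -/
structure CC (C : Subgroup T) : Prop where
  cen : C ≤ center T
  csq : ∀ c ∈ C, c * c = 1
  comm : ∀ g k : T, cm g k ∈ C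

namespace CC

variable {C : Subgroup T}

theorem aut_cm (f : MulAut T) (g k : T) : f (cm g k) = cm (f g) (f k) := by
  simp only [cm_def, map_mul, map_inv]

theorem c_comm (S : CC C) {c : T} (hc : c ∈ C) (u : T) : u * c = c * u :=
  Subgroup.mem_center_iff.mp (S.cen hc) u

theorem cmc (S : CC C) (g k u : T) : u * cm g k = cm g k * u := S.c_comm (S.comm g k) u

theorem cm_sq (S : CC C) (g k : T) : cm g k * cm g k = 1 := S.csq _ (S.comm g k)

theorem c_inv (S : CC C) {z : T} (hz : z ∈ C) : z⁻¹ = z :=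
  inv_eq_of_mul_eq_one_left (S.csq z hz)

theorem cm_inv (S : CC C) (g k : T) : (cm g k)⁻¹ = cm g k := S.c_inv (S.comm g k)

theorem cm_symm (S : CC C) (g k : T) : cm k g = cm g k := by
  rw [← cm_inv_swap, S.cm_inv]

theorem cm_mul_left (S : CC C) (g g' k : T) : cm (g * g') k = cm g k * cm g' k := by
  have h1 : cm (g * g') k = g * cm g' k * k * g⁻¹ * k⁻¹ := by
    rw [cm_def, cm_def]; group
  rw [h1, S.cmc g' k g, S.cmc g' k (cm g k), cm_def g k]
  group

theorem cm_mul_right (S : CC C) (g k k' : T) : cm g (k * k') = cm g k * cm g k' := by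
  rw [← S.cm_symm, S.cm_mul_left, S.cm_symm, S.cm_symm k']

theorem cm_inv_left (S : CC C) (g k : T) : cm g⁻¹ k = cm g k := by
  have h := S.cm_mul_left g⁻¹ g k
  rw [inv_mul_cancel, cm_one_left] at h
  have : cm g⁻¹ k = (cm g k)⁻¹ := eq_inv_of_mul_eq_one_left h.symm
  rw [this, S.cm_inv]

theorem cm_inv_right (S : CC C) (g k : T) : cm g k⁻¹ = cm g k := by
  rw [← S.cm_symm, S.cm_inv_left, S.cm_symm]

theorem cm_c_left (S : CC C) {z : T} (hz : z ∈ C) (k : T) : cm z k = 1 := by
  rw [cm_eq_one_iff]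
  exact (S.c_comm hz k).symm

theorem cm_c_right (S : CC C) {z : T} (hz : z ∈ C) (k : T) : cm k z = 1 := by
  rw [← S.cm_symm, S.cm_c_left hz]

theorem cm_mul_c_left (S : CC C) (g : T) {z : T} (hz : z ∈ C) (k : T) : cm (g * z) k = cm g k := by
  rw [S.cm_mul_left, S.cm_c_left hz, mul_one]

theorem cm_mul_c_right (S : CC C) (g k : T) {z : T} (hz : z ∈ C) : cm g (k * z) = cm g k := by
  rw [S.cm_mul_right, S.cm_c_right hz, mul_one]

theorem sq_mul (S : CC C) (g k : T) : (g * k) * (g * k) = cm g k * (g * g) * (k * k) := by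
  have h := swap k g
  rw [S.cm_symm] at h
  calc g * k * (g * k) = g * (k * g) * k := by group
    _ = g * (cm g k * g * k) * k := by rw [h]
    _ = (g * cm g k) * g * k * k := by group
    _ = (cm g k * g) * g * k * k := by rw [S.cmc]
    _ = cm g k * (g * g) * (k * k) := by group

/-- squares are central -/
theorem cm_sq_left (S : CC C) (g k : T) : cm (g * g) k = 1 := by
  rw [S.cm_mul_left, S.cm_sq]

theorem sq_comm (S : CC C) (g k : T) : (g * g) * k = k * (g * g) :=
  (cm_eq_one_iff _ _).mp (S.cm_sq_left g k)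

theorem sq_mul_c (S : CC C) (g : T) {z : T} (hz : z ∈ C) : (g * z) * (g * z) = g * g := by
  rw [S.sq_mul, S.cm_c_right hz, one_mul, S.csq z hz, mul_one]

theorem sq_inv (g : T) : g⁻¹ * g⁻¹ = (g * g)⁻¹ := by group

end CC

namespace Hyp

variable {q : ℕ} {α ρ : MulAut T} [Finite T]

theorem cc (H : Hyp q α ρ) (hcomm : ∀ g k : T, cm g k ∈ fixSub α) : CC (fixSub α) :=
  ⟨H.C_le_center, fun _ hc => H.C_sq hc, hcomm⟩

/-- the preimage of the fixed points of the quotient -/
noncomputable def XX (H : Hyp q α ρ) [(fixSub α).Normal] : Subgroup T :=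
  (fixSub H.qα).comap (QuotientGroup.mk' (fixSub α))

theorem mem_XX (H : Hyp q α ρ) [(fixSub α).Normal] (x : T) : x ∈ H.XX ↔ dd α x ∈ fixSub α := by
  rw [XX, Subgroup.mem_comap, QuotientGroup.mk'_apply, H.mk_mem_fix]

theorem card_XX (H : Hyp q α ρ) [(fixSub α).Normal] (hne : ∃ y, y ∉ fixSub α) :
    Nat.card H.XX = q * q := by
  rw [XX, card_comap_mk, H.card_fix_quot hne, H.card]

theorem C_le_XX (H : Hyp q α ρ) [(fixSub α).Normal] : fixSub α ≤ H.XX := by
  intro c hc
  rw [mem_XX, (dd_eq_one_iff' α c).mpr hc]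
  exact one_mem _

/-- abelian groups satisfying the hypotheses: either all involutions are fixed or the group is
elementary abelian of order `q²` -/
theorem abelian_cases (H : Hyp q α ρ) (hc : ∀ x y : T, x * y = y * x) :
    (∀ x : T, x * x = 1 → x ∈ fixSub α) ∨ ((∀ x : T, x * x = 1) ∧ Nat.card T = q * q) := by
  by_cases hR : ∀ x : T, x * x = 1 → x ∈ fixSub α
  · exact Or.inl hR
  right
  push Not at hR
  obtain ⟨t, ht2, htC⟩ := hR
  haveI := H.C_normal
  have hne : ∃ y, y ∉ fixSub α := ⟨t, htC⟩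
  -- the involutions
  let W : Subgroup T :=
    { carrier := {x | x * x = 1}
      one_mem' := by simp
      mul_mem' := by
        intro a b ha hb
        simp only [Set.mem_ofPred_eq] at ha hb ⊢
        calc a * b * (a * b) = a * (b * a) * b := by group
          _ = a * (a * b) * b := by rw [hc b a]
          _ = (a * a) * (b * b) := by group
          _ = 1 := by rw [ha, hb, one_mul]
      inv_mem' := by
        intro a ha
        simp only [Set.mem_ofPred_eq] at ha ⊢
        rw [CC.sq_inv, ha, inv_one] }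
  have hW : ∀ x, x ∈ W ↔ x * x = 1 := fun x => Iff.rfl
  -- the norm map
  let ν : T →* T := MonoidHom.mk' (fun x => x * α x) (by
    intro a b
    rw [map_mul]
    calc a * b * (α a * α b) = a * (b * α a) * α b := by group
      _ = a * (α a * b) * α b := by rw [hc b]
      _ = a * α a * (b * α b) := by group)
  have hν : ∀ x, ν x = x * α x := fun x => rfl
  have hνρ : ∀ k x, ν ((ρ ^ k) x) = (ρ ^ k) (ν x) := by
    intro k x
    rw [hν, hν, map_mul, H.comm_pow]
  have hνC : ∀ x, ν x ∈ fixSub α := by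
    intro x
    rw [mem_fixSub, hν, map_mul, H.inv, hc]
  have hνt : ν t ≠ 1 := by
    intro e
    rw [hν] at e
    have h1 : α t = t⁻¹ := eq_inv_of_mul_eq_one_right e
    have h2 : t⁻¹ = t := inv_eq_of_mul_eq_one_left ht2
    rw [h2] at h1
    exact htC h1
  -- a section of the norm
  have hsec : ∀ c : fixSub α, ∃ w : W, ν (w : T) = c := by
    intro c
    by_cases hc1 : (c : T) = 1
    · exact ⟨1, by rw [hc1]; simp⟩
    · obtain ⟨k, hk⟩ := H.trans (hνC t) hνt c.2 hc1
      refine ⟨⟨(ρ ^ k) t, ?_⟩, ?_⟩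
      · rw [hW, ← map_mul, ht2, map_one]
      · rw [hνρ, hk]
  choose s hs using hsec
  have hνc : ∀ c ∈ fixSub α, ν c = 1 := by
    intro c hcC
    rw [hν, (mem_fixSub α c).mp hcC, H.C_sq hcC]
  have hCW : fixSub α ≤ W := fun c hcC => (hW c).mpr (H.C_sq hcC)
  let F : fixSub α × fixSub α → W := fun p => ⟨(p.1 : T) * (s p.2 : T), mul_mem (hCW p.1.2) (s p.2).2⟩
  have hF : Function.Injective F := by
    rintro ⟨c, c'⟩ ⟨e, e'⟩ h
    have h1 : (c : T) * (s c' : T) = (e : T) * (s e' : T) := congrArg Subtype.val h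
    have h2 := congrArg ν h1
    rw [map_mul, map_mul, hνc _ c.2, hνc _ e.2, one_mul, one_mul, hs, hs] at h2
    have h3 : c' = e' := Subtype.ext h2
    subst h3
    have h4 : (c : T) = e := mul_right_cancel h1
    have h5 : c = e := Subtype.ext h4
    rw [h5]
  have hWcard : q * q ≤ Nat.card W := by
    have := Nat.card_le_card_of_injective F hF
    rwa [Nat.card_prod, H.card] at this
  -- `W ≤ X`
  have hWX : W ≤ H.XX := by
    intro x hx
    rw [hW] at hx
    rw [mem_XX, mem_fixSub, dd_def, map_mul, map_inv, H.inv]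
    have hxi : x⁻¹ = x := inv_eq_of_mul_eq_one_left hx
    have h1 : α x * α x = 1 := by rw [← map_mul, hx, map_one]
    have hai : (α x)⁻¹ = α x := inv_eq_of_mul_eq_one_left h1
    rw [hai, hxi, hc]
  have hWeq : W = H.XX := by
    apply Subgroup.eq_of_le_of_card_ge hWX
    rw [H.card_XX hne]
    exact hWcard
  -- no elements of order four
  have h4 : ∀ y : T, y * y * (y * y) = 1 → y * y = 1 := by
    intro y hy
    rw [← hW, hWeq, mem_XX]
    -- `ν y ∈ C` so `α (y²) = y²`
    have h1 := H.C_sq (hνC y)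
    rw [hν] at h1
    have h2 : (y * y) * (α y * α y) = 1 := by
      rw [← h1]
      calc y * y * (α y * α y) = y * (y * α y) * α y := by group
        _ = y * (α y * y) * α y := by rw [hc y (α y)]
        _ = y * α y * (y * α y) := by group
    have h3 : α y * α y = y * y := by
      have : α y * α y = (y * y)⁻¹ := eq_inv_of_mul_eq_one_right h2
      rw [this]
      exact inv_eq_of_mul_eq_one_left hy
    -- `(y⁻¹ α y)² = 1`
    have h5 : dd α y * dd α y = 1 := by
      rw [dd_def]
      calc y⁻¹ * α y * (y⁻¹ * α y) = y⁻¹ * (α y * y⁻¹) * α y := by group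
        _ = y⁻¹ * (y⁻¹ * α y) * α y := by rw [hc (α y)]
        _ = (y * y)⁻¹ * (α y * α y) := by group
        _ = 1 := by rw [h3]; group
    have h6 : α (dd α y) = (dd α y)⁻¹ := by
      rw [dd_def, map_mul, map_inv, H.inv]; group
    rw [mem_fixSub, h6]
    exact inv_eq_of_mul_eq_one_left h5
  have hexp : ∀ x : T, x * x = 1 := by
    intro x
    obtain ⟨k, hk⟩ := (IsPGroup.iff_orderOf.mp H.pg) x
    have key : ∀ (k : ℕ) (x : T), x ^ (2 ^ k) = 1 → x * x = 1 := by
      intro k
      induction k with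
      | zero =>
        intro x hx
        rw [pow_zero, pow_one] at hx
        rw [hx, one_mul]
      | succ k ih =>
        intro x hx
        rcases k with _ | k
        · rw [zero_add, pow_one, pow_two] at hx
          exact hx
        · have h1 : (x * x) ^ (2 ^ (k + 1)) = 1 := by
            rw [← pow_two, ← pow_mul, ← pow_succ']
            exact hx
          have h2 := ih (x * x) h1
          exact h4 x h2
    apply key k
    rw [← hk]
    exact pow_orderOf_eq_one x
  refine ⟨hexp, ?_⟩
  have hWtop : W = ⊤ := by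
    rw [Subgroup.eq_top_iff']
    intro x
    exact (hW x).mpr (hexp x)
  have h1 : Nat.card W = q * q := by rw [hWeq, H.card_XX hne]
  rw [hWtop] at h1
  rw [← h1]
  exact (Nat.card_congr (Subgroup.topEquiv (G := T)).toEquiv).symm

end Hyp

end Cfsg.Agent.Lib.H2.QN
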