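import Mathlib
import Cfsg.Agent.Lib.H2.L34E

set_option autoImplicit false

/-!
# Involutions outside the centre and a generating system
-/

namespace Cfsg.Agent.Lib.H2.L34

open Subgroup

variable {T : Type*} [Group T]

/-- the relations of the Sylow 2-subgroup of `L₃(4)` -/
structure Gens (a a' c c' w w' : T) : Prop where
  aa : a * a = 1
  a'a' : a' * a' = 1
  cc : c * c = 1
  c'c' : c' * c' = 1
  ww : w * w = 1
  w'w' : w' * w' = 1
  a'a : a' * a = a * a'
  c'c : c' * c = c * c'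
  ca : c * a = a * (c * w)
  c'a' : c' * a' = a' * (c' * w')
  c'a : c' * a = a * (c' * (w * w'))
  ca' : c * a' = a' * (c * (w * w'))
  wc : ∀ u : T, w * u = u * w
  w'c : ∀ u : T, w' * u = u * w'
  w_ne : w ≠ 1
  w'_ne : w' ≠ 1
  ww'_ne : w * w' ≠ 1

namespace Sp

variable {ρ x : MulAut T} [Finite T]

theorem exists_inv_outside (S : Sp ρ) (X : XHyp ρ x) : ∃ a : T, a * a = 1 ∧ a ∉ center T := by
  obtain ⟨z0, z1, hz0, hz1, hz01, hxz0, hz1x, hfix⟩ := S.exists_z0 X
  obtain ⟨a, c, ha, hc, hac⟩ := S.exists_noncomm X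
  have haZ : a ∉ center T := fun h => hac (S.cm_center_left h c)
  have hcZ : c ∉ center T := fun h => hac (S.cm_center_right h a)
  have haa : a * a = 1 ∨ a * a = z0 := hfix _ (S.sq a) (by rw [map_mul, ha])
  have hcc : c * c = 1 ∨ c * c = z0 := hfix _ (S.sq c) (by rw [map_mul, hc])
  have hw : cm a c = z0 := by
    rcases hfix _ (S.comm a c) (by rw [rho_cm, ha, hc]) with e | e
    · exact absurd e hac
    · exact e
  rcases haa with haa | haa
  · exact ⟨a, haa, haZ⟩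
  rcases hcc with hcc | hcc
  · exact ⟨c, hcc, hcZ⟩
  refine ⟨ρ a * c, ?_, ?_⟩
  · rw [S.sq_mul, ← S.cm_rho_swap, S.cm_rho_key, hw, ← map_mul, haa, hcc]
    exact S.fpf.prod3' z0
  · intro h
    have h1 := S.cm_center_left h a
    rw [S.cm_mul_left, S.cm_symm, S.cm_rho_self, one_mul, S.cm_symm, hw] at h1
    exact hz01 h1

theorem center_cases (S : Sp ρ) {w : T} (hw : w ∈ center T) (hw1 : w ≠ 1) {r : T}
    (hr : r ∈ center T) : r = 1 ∨ r = w ∨ r = ρ w ∨ r = ρ (ρ w) := by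
  have hρw : ρ w ∈ center T := (mem_center_rho ρ w).mpr hw
  have hρρw : ρ (ρ w) ∈ center T := (mem_center_rho ρ _).mpr hρw
  have h1 : ρ w ≠ 1 := fun e => hw1 (by rw [← map_one ρ] at e; exact ρ.injective e)
  have h2 : ρ (ρ w) ≠ 1 := fun e => h1 (by rw [← map_one ρ] at e; exact ρ.injective e)
  have h3 : w ≠ ρ w := fun e => hw1 (S.fpf.fpf w e.symm)
  have h4 : ρ w ≠ ρ (ρ w) := fun e => h3 (ρ.injective e)
  have h5 : w ≠ ρ (ρ w) := by
    intro e
    apply h3
    have : ρ w = ρ (ρ (ρ w)) := congrArg ρ e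
    rw [S.fpf.cube] at this
    exact this.symm
  exact four_cases (center T) S.cardZ (one_mem _) hw hρw hρρw (Ne.symm hw1) (Ne.symm h1)
    (Ne.symm h2) h3 h5 h4 hr

theorem exists_gens (S : Sp ρ) (X : XHyp ρ x) :
    ∃ a c : T, a * a = 1 ∧ c * c = 1 ∧ cm a c ≠ 1 := by
  obtain ⟨a, haa, haZ⟩ := S.exists_inv_outside X
  obtain ⟨k, hk⟩ : ∃ k : T, cm a k ≠ 1 := by
    by_contra hcon
    push Not at hcon
    apply haZ
    rw [Subgroup.mem_center_iff]
    intro k
    exact ((cm_eq_one_iff _ _).mp (hcon k)).symm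
  set w := cm a k with hw
  have hwZ : w ∈ center T := S.comm a k
  have hρw : ρ w ∈ center T := (mem_center_rho ρ w).mpr hwZ
  have hρaa : ρ a * ρ a = 1 := by rw [← map_mul, haa, map_one]
  rcases S.center_cases hwZ hk (S.sq k) with hr | hr | hr | hr
  · exact ⟨a, k, haa, hr, hk⟩
  · refine ⟨a, k * a, haa, ?_, ?_⟩
    · rw [S.sq_mul, S.cm_symm, ← hw, hr, haa, mul_one]
      exact S.zsq w hwZ
    · rw [S.cm_mul_right, cm_self, mul_one]; exact hk
  · refine ⟨a, k * (a * ρ a), haa, ?_, ?_⟩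
    · have e1 : cm k (a * ρ a) = ρ w := by
        rw [S.cm_mul_right, S.cm_rho_key, S.cm_symm, ← hw, S.rho_rho_center hwZ, ← mul_assoc,
          S.zsq w hwZ, one_mul]
      have e2 : (a * ρ a) * (a * ρ a) = 1 := by
        rw [S.sq_mul, S.cm_rho_self, haa, hρaa]; group
      rw [S.sq_mul, e1, hr, e2, mul_one]
      exact S.zsq _ hρw
    · rw [S.cm_mul_right, S.cm_mul_right, cm_self, S.cm_rho_self, mul_one, mul_one]; exact hk
  · refine ⟨a, k * ρ a, haa, ?_, ?_⟩
    · rw [S.sq_mul, S.cm_rho_key, S.cm_symm, ← hw, hr, hρaa, mul_one]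
      exact S.zsq _ ((mem_center_rho ρ _).mpr hρw)
    · rw [S.cm_mul_right, S.cm_rho_self, mul_one]; exact hk

theorem gens_of (S : Sp ρ) {a c : T} (ha : a * a = 1) (hc : c * c = 1) (hw : cm a c ≠ 1) :
    Gens a (ρ a) c (ρ c) (cm a c) (ρ (cm a c)) := by
  set w := cm a c with hwd
  have hwZ : w ∈ center T := S.comm a c
  have hρw : ρ w ∈ center T := (mem_center_rho ρ w).mpr hwZ
  have hwc : ∀ u : T, w * u = u * w := fun u => (Subgroup.mem_center_iff.mp hwZ u).symm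
  have hw'c : ∀ u : T, ρ w * u = u * ρ w := fun u => (Subgroup.mem_center_iff.mp hρw u).symm
  have hca : c * a = a * (c * w) := by
    rw [swap c a, S.cm_symm, ← hwd, hwc a, mul_assoc, hwc c]
  refine ⟨ha, by rw [← map_mul, ha, map_one], hc, by rw [← map_mul, hc, map_one],
    S.zsq w hwZ, S.zsq _ hρw, (S.fpf.comm a).symm, (S.fpf.comm c).symm, hca, ?_, ?_, ?_,
    hwc, hw'c, hw, ?_, ?_⟩
  · rw [← map_mul, hca, map_mul, map_mul]
  · have : cm (ρ c) a = w * ρ w := by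
      rw [S.cm_symm, S.cm_rho_key, ← hwd, S.rho_rho_center hwZ]
    rw [swap (ρ c) a, this]
    have hc2 : ∀ u : T, (w * ρ w) * u = u * (w * ρ w) := fun u =>
      (Subgroup.mem_center_iff.mp (mul_mem hwZ hρw) u).symm
    rw [hc2, mul_assoc, hc2]
  · have : cm c (ρ a) = w * ρ w := by
      rw [S.cm_rho_swap, S.cm_symm, S.cm_rho_key, ← hwd, S.rho_rho_center hwZ]
    rw [swap c (ρ a), this]
    have hc2 : ∀ u : T, (w * ρ w) * u = u * (w * ρ w) := fun u =>
      (Subgroup.mem_center_iff.mp (mul_mem hwZ hρw) u).symm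
    rw [hc2, mul_assoc, hc2]
  · intro e
    rw [← map_one ρ] at e
    exact hw (ρ.injective e)
  · intro e
    have : ρ w = w⁻¹ := eq_inv_of_mul_eq_one_right e
    rw [S.z_inv hwZ] at this
    exact hw (S.fpf.fpf w this)

end Sp

end Cfsg.Agent.Lib.H2.L34
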