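import Mathlib
import Cfsg.Agent.Lib.H2.L34F
import Cfsg.Agent.Lib.H3.F4a

set_option autoImplicit false
set_option linter.unusedSimpArgs false

/-!
# The Heisenberg group over `F₄` and the groups with relations `Gens`
-/

namespace Cfsg.Agent.Lib.H2.L34

open Cfsg.Agent.Lib.H3.F4

/-- the Heisenberg group over `F₄`: triples with `(α,γ,β)(α',γ',β') = (α+α', γ+γ', β+β'+α'γ)` -/
@[ext]
structure Heis where
  a : F4
  c : F4
  b : F4
  deriving DecidableEq

namespace Heis

instance : Mul Heis := ⟨fun h k => ⟨h.a + k.a, h.c + k.c, h.b + k.b + k.a * h.c⟩⟩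
instance : One Heis := ⟨⟨0, 0, 0⟩⟩
instance : Inv Heis := ⟨fun h => ⟨-h.a, -h.c, -h.b + h.a * h.c⟩⟩

theorem mul_a (h k : Heis) : (h * k).a = h.a + k.a := rfl
theorem mul_c (h k : Heis) : (h * k).c = h.c + k.c := rfl
theorem mul_b (h k : Heis) : (h * k).b = h.b + k.b + k.a * h.c := rfl
theorem one_a : (1 : Heis).a = 0 := rfl
theorem one_c : (1 : Heis).c = 0 := rfl
theorem one_b : (1 : Heis).b = 0 := rfl
theorem inv_a (h : Heis) : (h⁻¹).a = -h.a := rfl
theorem inv_c (h : Heis) : (h⁻¹).c = -h.c := rfl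
theorem inv_b (h : Heis) : (h⁻¹).b = -h.b + h.a * h.c := rfl

instance : Group Heis where
  mul_assoc := by
    intro x y z
    ext <;> simp only [mul_a, mul_c, mul_b] <;> ring
  one_mul := by
    intro x
    ext <;> simp only [mul_a, mul_c, mul_b, one_a, one_c, one_b] <;> ring
  mul_one := by
    intro x
    ext <;> simp only [mul_a, mul_c, mul_b, one_a, one_c, one_b] <;> ring
  inv_mul_cancel := by
    intro x
    ext <;> simp only [mul_a, mul_c, mul_b, one_a, one_c, one_b, inv_a, inv_c, inv_b] <;> ring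

/-- the underlying triple -/
def equivProd : Heis ≃ F4 × F4 × F4 where
  toFun h := (h.a, h.c, h.b)
  invFun p := ⟨p.1, p.2.1, p.2.2⟩
  left_inv _ := rfl
  right_inv _ := rfl

instance : Fintype Heis := Fintype.ofEquiv _ equivProd.symm

theorem card_eq : Nat.card Heis = 64 := by
  rw [Nat.card_congr equivProd, Nat.card_prod, Nat.card_prod, Nat.card_eq_fintype_card,
    F4.card_eq]

end Heis

theorem add_tbl (x y : F4) : x + y = F4.add x y := rfl
theorem mul_tbl (x y : F4) : x * y = F4.mul x y := rfl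
theorem zero_tbl : (0 : F4) = F4.z := rfl
theorem one_tbl : (1 : F4) = F4.o := rfl

variable {T : Type*} [Group T]

/-- the elementary abelian group generated by two elements, parametrised by `F₄` -/
def pm (a a' : T) : F4 → T
  | .z => 1
  | .o => a
  | .w => a'
  | .w2 => a * a'

/-- the central parametrisation: `1 ↦ w`, `ω ↦ w w'`, `ω² ↦ w'` -/
def pw (w w' : T) : F4 → T
  | .z => 1
  | .o => w
  | .w => w * w'
  | .w2 => w'

namespace Gens

variable {a a' c c' w w' : T}

theorem s_a (G : Gens a a' c c' w w') : a * a = 1 := G.aa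
theorem s_aR (G : Gens a a' c c' w w') (u : T) : a * (a * u) = u := by rw [← mul_assoc, G.s_a, one_mul]
theorem s_a1 (G : Gens a a' c c' w w') : a' * a' = 1 := G.a'a'
theorem s_a1R (G : Gens a a' c c' w w') (u : T) : a' * (a' * u) = u := by rw [← mul_assoc, G.s_a1, one_mul]
theorem s_c (G : Gens a a' c c' w w') : c * c = 1 := G.cc
theorem s_cR (G : Gens a a' c c' w w') (u : T) : c * (c * u) = u := by rw [← mul_assoc, G.s_c, one_mul]
theorem s_c1 (G : Gens a a' c c' w w') : c' * c' = 1 := G.c'c'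
theorem s_c1R (G : Gens a a' c c' w w') (u : T) : c' * (c' * u) = u := by rw [← mul_assoc, G.s_c1, one_mul]
theorem s_w (G : Gens a a' c c' w w') : w * w = 1 := G.ww
theorem s_wR (G : Gens a a' c c' w w') (u : T) : w * (w * u) = u := by rw [← mul_assoc, G.s_w, one_mul]
theorem s_w1 (G : Gens a a' c c' w w') : w' * w' = 1 := G.w'w'
theorem s_w1R (G : Gens a a' c c' w w') (u : T) : w' * (w' * u) = u := by rw [← mul_assoc, G.s_w1, one_mul]
theorem r_c_a (G : Gens a a' c c' w w') : c * a = a * (c * w) := G.ca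
theorem r_c_aR (G : Gens a a' c c' w w') (u : T) : c * (a * u) = a * (c * (w * u)) := by
  rw [← mul_assoc, G.r_c_a]; simp only [mul_assoc]
theorem r_c_a1 (G : Gens a a' c c' w w') : c * a' = a' * (c * (w * w')) := G.ca'
theorem r_c_a1R (G : Gens a a' c c' w w') (u : T) : c * (a' * u) = a' * (c * (w * (w' * u))) := by
  rw [← mul_assoc, G.r_c_a1]; simp only [mul_assoc]
theorem r_c1_a (G : Gens a a' c c' w w') : c' * a = a * (c' * (w * w')) := G.c'a
theorem r_c1_aR (G : Gens a a' c c' w w') (u : T) : c' * (a * u) = a * (c' * (w * (w' * u))) := by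
  rw [← mul_assoc, G.r_c1_a]; simp only [mul_assoc]
theorem r_c1_a1 (G : Gens a a' c c' w w') : c' * a' = a' * (c' * w') := G.c'a'
theorem r_c1_a1R (G : Gens a a' c c' w w') (u : T) : c' * (a' * u) = a' * (c' * (w' * u)) := by
  rw [← mul_assoc, G.r_c1_a1]; simp only [mul_assoc]
theorem r_a1_a (G : Gens a a' c c' w w') : a' * a = a * a' := G.a'a
theorem r_a1_aR (G : Gens a a' c c' w w') (u : T) : a' * (a * u) = a * (a' * u) := by
  rw [← mul_assoc, G.r_a1_a]; simp only [mul_assoc]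
theorem r_c1_c (G : Gens a a' c c' w w') : c' * c = c * c' := G.c'c
theorem r_c1_cR (G : Gens a a' c c' w w') (u : T) : c' * (c * u) = c * (c' * u) := by
  rw [← mul_assoc, G.r_c1_c]; simp only [mul_assoc]
theorem r_w_a (G : Gens a a' c c' w w') : w * a = a * w := G.wc _
theorem r_w_aR (G : Gens a a' c c' w w') (u : T) : w * (a * u) = a * (w * u) := by
  rw [← mul_assoc, G.r_w_a, mul_assoc]
theorem r_w_a1 (G : Gens a a' c c' w w') : w * a' = a' * w := G.wc _
theorem r_w_a1R (G : Gens a a' c c' w w') (u : T) : w * (a' * u) = a' * (w * u) := by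
  rw [← mul_assoc, G.r_w_a1, mul_assoc]
theorem r_w_c (G : Gens a a' c c' w w') : w * c = c * w := G.wc _
theorem r_w_cR (G : Gens a a' c c' w w') (u : T) : w * (c * u) = c * (w * u) := by
  rw [← mul_assoc, G.r_w_c, mul_assoc]
theorem r_w_c1 (G : Gens a a' c c' w w') : w * c' = c' * w := G.wc _
theorem r_w_c1R (G : Gens a a' c c' w w') (u : T) : w * (c' * u) = c' * (w * u) := by
  rw [← mul_assoc, G.r_w_c1, mul_assoc]
theorem r_w1_a (G : Gens a a' c c' w w') : w' * a = a * w' := G.w'c _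
theorem r_w1_aR (G : Gens a a' c c' w w') (u : T) : w' * (a * u) = a * (w' * u) := by
  rw [← mul_assoc, G.r_w1_a, mul_assoc]
theorem r_w1_a1 (G : Gens a a' c c' w w') : w' * a' = a' * w' := G.w'c _
theorem r_w1_a1R (G : Gens a a' c c' w w') (u : T) : w' * (a' * u) = a' * (w' * u) := by
  rw [← mul_assoc, G.r_w1_a1, mul_assoc]
theorem r_w1_c (G : Gens a a' c c' w w') : w' * c = c * w' := G.w'c _
theorem r_w1_cR (G : Gens a a' c c' w w') (u : T) : w' * (c * u) = c * (w' * u) := by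
  rw [← mul_assoc, G.r_w1_c, mul_assoc]
theorem r_w1_c1 (G : Gens a a' c c' w w') : w' * c' = c' * w' := G.w'c _
theorem r_w1_c1R (G : Gens a a' c c' w w') (u : T) : w' * (c' * u) = c' * (w' * u) := by
  rw [← mul_assoc, G.r_w1_c1, mul_assoc]
theorem r_w1_w (G : Gens a a' c c' w w') : w' * w = w * w' := G.w'c _
theorem r_w1_wR (G : Gens a a' c c' w w') (u : T) : w' * (w * u) = w * (w' * u) := by
  rw [← mul_assoc, G.r_w1_w, mul_assoc]

theorem pmA_add (G : Gens a a' c c' w w') (α β : F4) :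
    pm a a' (α + β) = pm a a' α * pm a a' β := by
  cases α <;> cases β <;>
    simp only [add_tbl, F4.add, pm, mul_assoc, mul_one, one_mul, G.s_a, G.s_aR, G.s_a1, G.s_a1R, G.s_c, G.s_cR, G.s_c1, G.s_c1R, G.s_w, G.s_wR, G.s_w1, G.s_w1R, G.r_c_a, G.r_c_aR, G.r_c_a1, G.r_c_a1R, G.r_c1_a, G.r_c1_aR, G.r_c1_a1, G.r_c1_a1R, G.r_a1_a, G.r_a1_aR, G.r_c1_c, G.r_c1_cR, G.r_w_a, G.r_w_aR, G.r_w_a1, G.r_w_a1R, G.r_w_c, G.r_w_cR, G.r_w_c1, G.r_w_c1R, G.r_w1_a, G.r_w1_aR, G.r_w1_a1, G.r_w1_a1R, G.r_w1_c, G.r_w1_cR, G.r_w1_c1, G.r_w1_c1R, G.r_w1_w, G.r_w1_wR]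

theorem pmC_add (G : Gens a a' c c' w w') (α β : F4) :
    pm c c' (α + β) = pm c c' α * pm c c' β := by
  cases α <;> cases β <;>
    simp only [add_tbl, F4.add, pm, mul_assoc, mul_one, one_mul, G.s_a, G.s_aR, G.s_a1, G.s_a1R, G.s_c, G.s_cR, G.s_c1, G.s_c1R, G.s_w, G.s_wR, G.s_w1, G.s_w1R, G.r_c_a, G.r_c_aR, G.r_c_a1, G.r_c_a1R, G.r_c1_a, G.r_c1_aR, G.r_c1_a1, G.r_c1_a1R, G.r_a1_a, G.r_a1_aR, G.r_c1_c, G.r_c1_cR, G.r_w_a, G.r_w_aR, G.r_w_a1, G.r_w_a1R, G.r_w_c, G.r_w_cR, G.r_w_c1, G.r_w_c1R, G.r_w1_a, G.r_w1_aR, G.r_w1_a1, G.r_w1_a1R, G.r_w1_c, G.r_w1_cR, G.r_w1_c1, G.r_w1_c1R, G.r_w1_w, G.r_w1_wR]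

theorem pw_add (G : Gens a a' c c' w w') (α β : F4) :
    pw w w' (α + β) = pw w w' α * pw w w' β := by
  cases α <;> cases β <;>
    simp only [add_tbl, F4.add, pw, mul_assoc, mul_one, one_mul, G.s_a, G.s_aR, G.s_a1, G.s_a1R, G.s_c, G.s_cR, G.s_c1, G.s_c1R, G.s_w, G.s_wR, G.s_w1, G.s_w1R, G.r_c_a, G.r_c_aR, G.r_c_a1, G.r_c_a1R, G.r_c1_a, G.r_c1_aR, G.r_c1_a1, G.r_c1_a1R, G.r_a1_a, G.r_a1_aR, G.r_c1_c, G.r_c1_cR, G.r_w_a, G.r_w_aR, G.r_w_a1, G.r_w_a1R, G.r_w_c, G.r_w_cR, G.r_w_c1, G.r_w_c1R, G.r_w1_a, G.r_w1_aR, G.r_w1_a1, G.r_w1_a1R, G.r_w1_c, G.r_w1_cR, G.r_w1_c1, G.r_w1_c1R, G.r_w1_w, G.r_w1_wR]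

theorem pw_comm (G : Gens a a' c c' w w') (β : F4) (u : T) : pw w w' β * u = u * pw w w' β := by
  cases β <;> simp only [pw, one_mul, mul_one]
  · exact G.wc u
  · rw [mul_assoc, G.w'c, ← mul_assoc, G.wc, mul_assoc]
  · exact G.w'c u

theorem key (G : Gens a a' c c' w w') (γ α : F4) :
    pm c c' γ * pm a a' α = pm a a' α * (pm c c' γ * pw w w' (α * γ)) := by
  cases α <;> cases γ <;>
    simp only [mul_tbl, F4.mul, pm, pw, mul_assoc, mul_one, one_mul, G.s_a, G.s_aR, G.s_a1, G.s_a1R, G.s_c, G.s_cR, G.s_c1, G.s_c1R, G.s_w, G.s_wR, G.s_w1, G.s_w1R, G.r_c_a, G.r_c_aR, G.r_c_a1, G.r_c_a1R, G.r_c1_a, G.r_c1_aR, G.r_c1_a1, G.r_c1_a1R, G.r_a1_a, G.r_a1_aR, G.r_c1_c, G.r_c1_cR, G.r_w_a, G.r_w_aR, G.r_w_a1, G.r_w_a1R, G.r_w_c, G.r_w_cR, G.r_w_c1, G.r_w_c1R, G.r_w1_a, G.r_w1_aR, G.r_w1_a1, G.r_w1_a1R, G.r_w1_c, G.r_w1_cR, G.r_w1_c1, G.r_w1_c1R, G.r_w1_w, G.r_w1_wR]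

theorem pw_eq_one (G : Gens a a' c c' w w') {β : F4} (h : pw w w' β = 1) : β = 0 := by
  cases β
  · rfl
  · exact absurd h G.w_ne
  · exact absurd h G.ww'_ne
  · exact absurd h G.w'_ne

/-- the parametrisation of the group -/
def phi (a a' c c' w w' : T) (h : Heis) : T := pm a a' h.a * pm c c' h.c * pw w w' h.b

theorem phi_mul (G : Gens a a' c c' w w') (h k : Heis) :
    phi a a' c c' w w' (h * k) = phi a a' c c' w w' h * phi a a' c c' w w' k := by
  obtain ⟨α, γ, β⟩ := h
  obtain ⟨α', γ', β'⟩ := k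
  simp only [phi, Heis.mul_a, Heis.mul_c, Heis.mul_b]
  rw [G.pmA_add, G.pmC_add, G.pw_add, G.pw_add]
  set A := pm a a' α
  set A' := pm a a' α'
  set C := pm c c' γ
  set C' := pm c c' γ'
  set W := pw w w' β
  set W' := pw w w' β'
  set K := pw w w' (α' * γ) with hK
  have hW : ∀ u : T, W * u = u * W := fun u => G.pw_comm β u
  have hK' : ∀ u : T, K * u = u * K := fun u => G.pw_comm _ u
  have hkey : C * A' = A' * (C * K) := G.key γ α'
  symm
  calc A * C * W * (A' * C' * W') = A * C * (W * (A' * C' * W')) := by group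
    _ = A * C * ((A' * C' * W') * W) := by rw [hW]
    _ = A * (C * A') * C' * W' * W := by group
    _ = A * (A' * (C * K)) * C' * W' * W := by rw [hkey]
    _ = A * A' * C * (K * (C' * W' * W)) := by group
    _ = A * A' * C * ((C' * W' * W) * K) := by rw [hK']
    _ = A * A' * (C * C') * (W' * W * K) := by group
    _ = A * A' * (C * C') * (W * W' * K) := by rw [← hW W']

theorem phi_injective (G : Gens a a' c c' w w') :
    Function.Injective (phi a a' c c' w w') := by
  have hone : ∀ h : Heis, phi a a' c c' w w' h = 1 → h = 1 := by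
    rintro ⟨α, γ, β⟩ h1
    simp only [phi] at h1
    set A := pm a a' α with hA
    set C := pm c c' γ with hC
    set W := pw w w' β with hW
    have hWc : ∀ u : T, W * u = u * W := fun u => G.pw_comm β u
    -- commute with `a`
    have hγ : γ = 0 := by
      have hAa : A * a = a * A := by
        have h1 := G.pmA_add α 1
        have h2 := G.pmA_add 1 α
        rw [add_comm] at h1
        rw [h1] at h2
        exact h2
      have hk := G.key γ 1
      rw [one_mul] at hk
      have hpa : pm a a' 1 = a := rfl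
      rw [hpa] at hk
      have e : (A * C * W) * a = a * (A * C * W) * pw w w' γ := by
        calc (A * C * W) * a = A * C * (W * a) := by group
          _ = A * C * (a * W) := by rw [hWc]
          _ = A * (C * a) * W := by group
          _ = A * (a * (C * pw w w' γ)) * W := by rw [hk]
          _ = (A * a) * C * (pw w w' γ * W) := by group
          _ = (a * A) * C * (W * pw w w' γ) := by rw [hAa, G.pw_comm γ W]
          _ = a * (A * C * W) * pw w w' γ := by group
      rw [h1, one_mul, mul_one] at e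
      exact G.pw_eq_one (mul_left_cancel (a := a) (by rw [← e, mul_one]))
    have hα : α = 0 := by
      have hCc : C * c = c * C := by
        have h1 := G.pmC_add γ 1
        have h2 := G.pmC_add 1 γ
        rw [add_comm] at h1
        rw [h1] at h2
        exact h2
      have hk := G.key 1 α
      rw [mul_one] at hk
      have hpc : pm c c' 1 = c := rfl
      rw [hpc] at hk
      have e : c * (A * C * W) = (A * C * W) * c * pw w w' α := by
        calc c * (A * C * W) = (c * A) * C * W := by group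
          _ = (A * (c * pw w w' α)) * C * W := by rw [hk]
          _ = A * c * (pw w w' α * (C * W)) := by group
          _ = A * c * ((C * W) * pw w w' α) := by rw [G.pw_comm α]
          _ = A * (c * C) * W * pw w w' α := by group
          _ = A * (C * c) * W * pw w w' α := by rw [hCc]
          _ = A * C * (c * W) * pw w w' α := by group
          _ = A * C * (W * c) * pw w w' α := by rw [hWc]
          _ = (A * C * W) * c * pw w w' α := by group
      rw [h1, one_mul, mul_one] at e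
      exact G.pw_eq_one (mul_left_cancel (a := c) (by rw [← e, mul_one]))
    have hβ : β = 0 := by
      rw [hA, hC, hα, hγ] at h1
      have e1 : pm a a' 0 = 1 := rfl
      have e2 : pm c c' 0 = 1 := rfl
      rw [e1, e2, one_mul, one_mul] at h1
      exact G.pw_eq_one h1
    rw [hα, hγ, hβ]
    rfl
  intro h k e
  have h2 : phi a a' c c' w w' (h⁻¹ * k) = 1 := by
    have h3 : phi a a' c c' w w' (h * (h⁻¹ * k)) = phi a a' c c' w w' h := by
      rw [mul_inv_cancel_left, e]
    rw [G.phi_mul] at h3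
    exact mul_left_cancel (a := phi a a' c c' w w' h) (by rw [h3, mul_one])
  have := hone _ h2
  exact (inv_mul_eq_one.mp this)

/-- a group of order 64 with the relations `Gens` is the Heisenberg group over `F₄` -/
theorem nonempty_heis_equiv [Finite T] (G : Gens a a' c c' w w') (hT : Nat.card T = 64) :
    Nonempty (Heis ≃* T) := by
  have hb : Function.Bijective (phi a a' c c' w w') := by
    rw [Nat.bijective_iff_injective_and_card]
    exact ⟨G.phi_injective, by rw [Heis.card_eq, hT]⟩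
  exact ⟨MulEquiv.ofBijective (MonoidHom.mk' (phi a a' c c' w w') G.phi_mul) hb⟩

end Gens

end Cfsg.Agent.Lib.H2.L34
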