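import Mathlib
import Cfsg.Agent.Lib.H2.L34G
import Cfsg.Agent.Lib.H2.L34H
import Cfsg.Agent.Lib.H2.PSLCard
import Cfsg.Agent.Lib.H12.CardSL

set_option autoImplicit false

/-!
# The Heisenberg group over `F₄` is a Sylow 2-subgroup of `PSL₃(4)`
-/

namespace Cfsg.Agent.Lib.H2.L34

open Cfsg.Agent.Lib.H3.F4 Matrix

/-- the unitriangular matrix of an element of the Heisenberg group -/
def hmat (h : Heis) : Matrix (Fin 3) (Fin 3) F4 := !![1, h.c, h.b; 0, 1, h.a; 0, 0, 1]

theorem det_hmat (h : Heis) : (hmat h).det = 1 := by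
  simp [hmat, Matrix.det_fin_three]

theorem hmat_mul (h k : Heis) : hmat (h * k) = hmat h * hmat k := by
  ext i j
  fin_cases i <;> fin_cases j <;>
    simp [hmat, Matrix.mul_apply, Fin.sum_univ_three, Heis.mul_a, Heis.mul_b, Heis.mul_c] <;> ring

/-- the embedding into `SL₃(4)` -/
def toSL : Heis →* SpecialLinearGroup (Fin 3) F4 :=
  MonoidHom.mk' (fun h => ⟨hmat h, det_hmat h⟩) (fun h k => Subtype.ext (hmat_mul h k))

theorem toSL_coe (h : Heis) : (toSL h : Matrix (Fin 3) (Fin 3) F4) = hmat h := rfl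

/-- the embedding into `PSL₃(4)` -/
def toPSL : Heis →* ProjectiveSpecialLinearGroup (Fin 3) F4 :=
  (QuotientGroup.mk' (Subgroup.center (SpecialLinearGroup (Fin 3) F4))).comp toSL

theorem toPSL_injective : Function.Injective toPSL := by
  rw [injective_iff_map_eq_one]
  intro h hh
  have h1 : toSL h ∈ Subgroup.center (SpecialLinearGroup (Fin 3) F4) :=
    (QuotientGroup.eq_one_iff _).mp hh
  rw [Matrix.SpecialLinearGroup.mem_center_iff] at h1
  obtain ⟨r, -, hr⟩ := h1
  have e : ∀ i j, (scalar (Fin 3) r) i j = hmat h i j := fun i j => by rw [hr, toSL_coe]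
  have e1 := e 0 1
  have e2 := e 0 2
  have e3 := e 1 2
  simp [hmat, Matrix.scalar_apply] at e1 e2 e3
  ext
  · exact e3.symm
  · exact e1.symm
  · exact e2.symm

theorem card_PSL34 : Nat.card (ProjectiveSpecialLinearGroup (Fin 3) F4) = 20160 := by
  have h1 := Cfsg.Agent.Lib.H2.card_PSL_mul (F := F4) 3 (by norm_num)
  have h2 := Cfsg.Agent.Lib.H12.card_SL_mul (F := F4) 3 (by norm_num)
  rw [F4.card_eq] at h1 h2
  rw [Fin.prod_univ_three] at h2
  norm_num at h1 h2
  rw [Nat.card_eq_fintype_card]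
  omega

theorem factorization_20160 : (20160 : ℕ).factorization 2 = 6 := by
  have : (20160 : ℕ) = 2 ^ 6 * 315 := by norm_num
  rw [this, Nat.factorization_mul (by norm_num) (by norm_num),
    Nat.Prime.factorization_pow Nat.prime_two]
  simp [Nat.factorization_eq_zero_of_not_dvd (show ¬ 2 ∣ 315 by norm_num)]

theorem card_range : Nat.card toPSL.range = 64 := by
  rw [← Heis.card_eq]
  exact (Nat.card_congr (MonoidHom.ofInjective toPSL_injective).toEquiv).symm

/-- the Sylow 2-subgroup -/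
noncomputable def sylPSL : Sylow 2 (ProjectiveSpecialLinearGroup (Fin 3) F4) :=
  haveI : Fact (Nat.Prime 2) := ⟨Nat.prime_two⟩
  Sylow.ofCard toPSL.range (by rw [card_range, card_PSL34, factorization_20160]; norm_num)

theorem nonempty_heis_sylow :
    Nonempty (Heis ≃* ↥(sylPSL : Subgroup (ProjectiveSpecialLinearGroup (Fin 3) F4))) := by
  have : ((sylPSL : Sylow 2 _) : Subgroup (ProjectiveSpecialLinearGroup (Fin 3) F4)) =
      toPSL.range := Sylow.coe_ofCard _ _
  rw [this]
  exact ⟨MonoidHom.ofInjective toPSL_injective⟩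

end Cfsg.Agent.Lib.H2.L34
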