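import Mathlib
import Cfsg.Agent.Lib.H2.RTA

set_option autoImplicit false

/-!
# The hypothesis `Hyp`: a fixed-point-free `ρ` of order three commuting with an involution `τ`
whose fixed points form a subgroup `V` of order four
-/

namespace Cfsg.Agent.Lib.H2.RT

open Subgroup Cfsg.Agent.Lib.H2.L34

variable {T : Type*} [Group T]

/-- a `ρ`-invariant subgroup of order four is a single orbit together with `1` -/
theorem orbit_cases [Finite T] {ρ : MulAut T} (h : Fpf3 ρ) (H : Subgroup T)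
    (hH : Nat.card H = 4) (hinv : ∀ y, y ∈ H → ρ y ∈ H) {z : T} (hz : z ∈ H) (hz1 : z ≠ 1)
    {y : T} (hy : y ∈ H) : y = 1 ∨ y = z ∨ y = ρ z ∨ y = ρ (ρ z) := by
  have hρz : ρ z ∈ H := hinv z hz
  have hρρz : ρ (ρ z) ∈ H := hinv _ hρz
  have h1 : ρ z ≠ 1 := fun e => hz1 (by rw [← map_one ρ] at e; exact ρ.injective e)
  have h2 : ρ (ρ z) ≠ 1 := fun e => h1 (by rw [← map_one ρ] at e; exact ρ.injective e)
  have h3 : z ≠ ρ z := fun e => hz1 (h.fpf z e.symm)
  have h4 : ρ z ≠ ρ (ρ z) := fun e => h3 (ρ.injective e)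
  have h5 : z ≠ ρ (ρ z) := by
    intro e
    apply h3
    have : ρ z = ρ (ρ (ρ z)) := congrArg ρ e
    rw [h.cube] at this
    exact this.symm
  exact four_cases H hH (one_mem _) hz hρz hρρz (Ne.symm hz1) (Ne.symm h1)
    (Ne.symm h2) h3 h5 h4 hy

/-- the standing hypothesis -/
structure Hyp (ρ τ : MulAut T) (V : Subgroup T) : Prop where
  pg : IsPGroup 2 T
  fpf : Fpf3 ρ
  invol : ∀ y, τ (τ y) = y
  comm : ∀ y, τ (ρ y) = ρ (τ y)
  fix : ∀ y, τ y = y ↔ y ∈ V
  cardV : Nat.card V = 4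

namespace Hyp

variable {ρ τ : MulAut T} {V : Subgroup T}

theorem rho_mem (H : Hyp ρ τ V) {y : T} (hy : y ∈ V) : ρ y ∈ V := by
  rw [← H.fix, H.comm, (H.fix y).mpr hy]

theorem rho_mem_iff (H : Hyp ρ τ V) (y : T) : y ∈ V ↔ ρ y ∈ V := by
  constructor
  · exact H.rho_mem
  · intro hy
    have := H.rho_mem (H.rho_mem hy)
    rwa [H.fpf.cube] at this

theorem tau_mem_iff (H : Hyp ρ τ V) (y : T) : y ∈ V ↔ τ y ∈ V := by
  constructor
  · intro hy
    rw [(H.fix y).mpr hy]; exact hy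
  · intro hy
    have h1 := (H.fix _).mpr hy
    rw [H.invol] at h1
    rw [← H.fix, ← h1]

theorem tau_center (τ : MulAut T) (y : T) : y ∈ center T ↔ τ y ∈ center T :=
  (mem_center_rho τ y).symm

variable [Finite T]

omit [Finite T] in
theorem V_ne_bot (H : Hyp ρ τ V) : V ≠ ⊥ := by
  intro e
  have := H.cardV
  rw [e, Subgroup.card_bot] at this
  omega

omit [Finite T] in
theorem nontrivial (H : Hyp ρ τ V) : Nontrivial T := by
  by_contra hcon
  rw [not_nontrivial_iff_subsingleton] at hcon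
  exact H.V_ne_bot (Subsingleton.elim _ _)

/-- `V` lies in the centre -/
theorem exists_central (H : Hyp ρ τ V) : ∃ z ∈ V, z ≠ 1 ∧ z ∈ center T := by
  have : Fact (Nat.Prime 2) := ⟨Nat.prime_two⟩
  have : Nontrivial T := H.nontrivial
  have hZ : center T ≠ ⊥ := (IsPGroup.bot_lt_center H.pg).ne'
  obtain ⟨z, hz, hz1, hτz⟩ := exists_fixed_ne_one H.pg τ H.invol (center T) (tau_center τ) hZ
  exact ⟨z, (H.fix z).mp hτz, hz1, hz⟩

theorem V_le_center (H : Hyp ρ τ V) : V ≤ center T := by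
  obtain ⟨z, hzV, hz1, hzZ⟩ := H.exists_central
  intro y hy
  have hρz : ρ z ∈ center T := (mem_center_rho ρ z).mpr hzZ
  have hρρz : ρ (ρ z) ∈ center T := (mem_center_rho ρ _).mpr hρz
  rcases orbit_cases H.fpf V H.cardV (fun _ => H.rho_mem) hzV hz1 hy with e | e | e | e <;> rw [e]
  · exact one_mem _
  · exact hzZ
  · exact hρz
  · exact hρρz

theorem V_comm (H : Hyp ρ τ V) {v : T} (hv : v ∈ V) (y : T) : v * y = y * v :=
  (Subgroup.mem_center_iff.mp (H.V_le_center hv) y).symm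

theorem normal (H : Hyp ρ τ V) : V.Normal := by
  refine ⟨fun n hn g => ?_⟩
  have : g * n * g⁻¹ = n := by
    rw [← H.V_comm hn g]; group
  rw [this]; exact hn

/-- `V` is elementary abelian -/
theorem V_sq (H : Hyp ρ τ V) {v : T} (hv : v ∈ V) : v * v = 1 := by
  have : Fact (Nat.Prime 2) := ⟨Nat.prime_two⟩
  -- the subgroup of elements of `V` of order at most two
  let K : Subgroup T :=
    { carrier := {u | u ∈ V ∧ u * u = 1}
      one_mem' := ⟨one_mem _, by simp⟩
      mul_mem' := by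
        rintro a b ⟨ha, ha2⟩ ⟨hb, hb2⟩
        refine ⟨mul_mem ha hb, ?_⟩
        calc a * b * (a * b) = a * (b * a) * b := by group
          _ = a * (a * b) * b := by rw [H.V_comm hb a]
          _ = (a * a) * (b * b) := by group
          _ = 1 := by rw [ha2, hb2, one_mul]
      inv_mem' := by
        rintro a ⟨ha, ha2⟩
        refine ⟨inv_mem ha, ?_⟩
        calc a⁻¹ * a⁻¹ = (a * a)⁻¹ := by group
          _ = 1 := by rw [ha2, inv_one] }
  have hKmem : ∀ u, u ∈ K ↔ u ∈ V ∧ u * u = 1 := fun u => Iff.rfl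
  have hKV : K ≤ V := fun u hu => hu.1
  have hKρ : ∀ y, y ∈ K ↔ ρ y ∈ K := by
    intro y
    rw [hKmem, hKmem, ← H.rho_mem_iff, ← map_mul]
    constructor
    · rintro ⟨h1, h2⟩
      exact ⟨h1, by rw [h2, map_one]⟩
    · rintro ⟨h1, h2⟩
      refine ⟨h1, ?_⟩
      rw [← map_one ρ] at h2
      exact ρ.injective h2
  have hmod := H.fpf.card_modEq K hKρ
  -- `K` is nontrivial
  have hVp : IsPGroup 2 V := H.pg.to_subgroup V
  have h2V : 2 ∣ Nat.card V := by rw [H.cardV]; norm_num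
  obtain ⟨u, hu⟩ := exists_prime_orderOf_dvd_card' 2 h2V
  have huK : (u : T) ∈ K := by
    refine ⟨u.2, ?_⟩
    have : u ^ 2 = 1 := by rw [← hu]; exact pow_orderOf_eq_one u
    have h' := congrArg Subtype.val this
    rw [← pow_two]
    simpa using h'
  have hu1 : (u : T) ≠ 1 := by
    intro e
    have : u = 1 := Subtype.ext e
    rw [this, orderOf_one] at hu
    omega
  have hK1 : Nat.card K ≠ 1 := by
    intro e
    have := (Subgroup.card_eq_one).mp e
    rw [this, Subgroup.mem_bot] at huK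
    exact hu1 huK
  have hKd : Nat.card K ∣ 4 := by
    rw [← H.cardV]
    exact Subgroup.card_dvd_of_le hKV
  have hK4 : Nat.card K = 4 := by
    have hle : Nat.card K ≤ 4 := Nat.le_of_dvd (by norm_num) hKd
    have hpos : 0 < Nat.card K := Nat.card_pos
    interval_cases hk : Nat.card K
    · exact absurd rfl hK1
    · exfalso; revert hmod; decide
    · exfalso; revert hKd; decide
    · rfl
  have hKeq : K = V := Subgroup.eq_of_le_of_card_ge hKV (by rw [hK4, H.cardV])
  have : v ∈ K := by rw [hKeq]; exact hv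
  exact this.2

theorem V_inv (H : Hyp ρ τ V) {v : T} (hv : v ∈ V) : v⁻¹ = v :=
  inv_eq_of_mul_eq_one_left (H.V_sq hv)

omit [Finite T] in
theorem tau_fix (H : Hyp ρ τ V) {v : T} (hv : v ∈ V) : τ v = v := (H.fix v).mpr hv

theorem card_pos_four (H : Hyp ρ τ V) : 4 ≤ Nat.card T := by
  rw [← H.cardV]
  exact Subgroup.card_le_card_group V

end Hyp

end Cfsg.Agent.Lib.H2.RT
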