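import Mathlib
import Cfsg.Agent.Lib.H2.RTB
import Cfsg.Agent.Lib.H2.L34H

set_option autoImplicit false

/-!
# The abelian case
-/

namespace Cfsg.Agent.Lib.H2.RT

open Subgroup Cfsg.Agent.Lib.H2.L34

variable {T : Type*} [Group T]

section comm

variable (hc : ∀ x y : T, x * y = y * x)
include hc

theorem c_mul_pow (a b : T) (n : ℕ) : (a * b) ^ n = a ^ n * b ^ n :=
  (show Commute a b from hc a b).mul_pow n

theorem c_four (a b c d : T) : (a * b) * (c * d) = (a * c) * (b * d) := by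
  calc (a * b) * (c * d) = a * (b * c) * d := by group
    _ = a * (c * b) * d := by rw [hc b c]
    _ = (a * c) * (b * d) := by group

theorem c_sq_mul (a b : T) : (a * b) * (a * b) = (a * a) * (b * b) := c_four hc a b a b

end comm

namespace Hyp

variable {ρ τ : MulAut T} {V : Subgroup T} [Finite T]

/-- abelian case, all involutions in `V`: the group is generated by `x` and `ρ x` -/
theorem abelian_gen (H : Hyp ρ τ V) (hc : ∀ x y : T, x * y = y * x)
    (hinv : ∀ e : T, e * e = 1 → e ∈ V) :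
    ∃ (n : ℕ) (x : T), 1 ≤ n ∧ x ^ (2 ^ n) = 1 ∧
      (∀ i j : ℕ, x ^ i * (ρ x) ^ j = 1 → 2 ^ n ∣ i ∧ 2 ^ n ∣ j) ∧
      ∀ y : T, ∃ i j : ℕ, y = x ^ i * (ρ x) ^ j := by
  have : Fact (Nat.Prime 2) := ⟨Nat.prime_two⟩
  obtain ⟨x, hx⟩ := Finite.exists_max (fun y : T => orderOf y)
  obtain ⟨n, hn⟩ : ∃ n, orderOf x = 2 ^ n := by
    rw [exists_orderOf_eq_prime_pow_iff]
    exact H.pg x
  have hpow : ∀ y : T, y ^ (2 ^ n) = 1 := by
    intro y
    obtain ⟨k, hk⟩ : ∃ k, orderOf y = 2 ^ k := by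
      rw [exists_orderOf_eq_prime_pow_iff]
      exact H.pg y
    have hle := hx y
    rw [hk, hn] at hle
    have hkn : k ≤ n := (Nat.pow_le_pow_iff_right (by norm_num)).mp hle
    rw [← orderOf_dvd_iff_pow_eq_one, hk]
    exact pow_dvd_pow 2 hkn
  have hn1 : 1 ≤ n := by
    by_contra hcon
    have hn0 : n = 0 := by omega
    obtain ⟨z, _, hz1, _⟩ := H.exists_central
    have := hpow z
    rw [hn0, pow_zero, pow_one] at this
    exact hz1 this
  set z₀ := x ^ (2 ^ (n - 1)) with hz₀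
  have h2n : 2 ^ (n - 1) * 2 = 2 ^ n := by
    rw [← pow_succ]; congr 1; omega
  have hz₀2 : z₀ ^ 2 = 1 := by
    rw [hz₀, ← pow_mul, h2n, hpow]
  have hz₀sq : z₀ * z₀ = 1 := by rw [← pow_two]; exact hz₀2
  have hz₀1 : z₀ ≠ 1 := by
    rw [hz₀]
    apply pow_ne_one_of_lt_orderOf (by positivity)
    rw [hn]
    exact Nat.pow_lt_pow_right (by norm_num) (by omega)
  have hρz₀1 : ρ z₀ ≠ 1 := fun e => hz₀1 (by rw [← map_one ρ] at e; exact ρ.injective e)
  have hρz₀2 : ρ z₀ ^ 2 = 1 := by rw [← map_pow, hz₀2, map_one]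
  -- key: independence of `z₀` and `ρ z₀`
  have hK : ∀ a b : ℕ, z₀ ^ a * (ρ z₀) ^ b = 1 → 2 ∣ a ∧ 2 ∣ b := by
    intro a b hab
    rw [pow_eq_pow_mod a hz₀2, pow_eq_pow_mod b hρz₀2] at hab
    have ha : a % 2 = 0 ∨ a % 2 = 1 := by omega
    have hb : b % 2 = 0 ∨ b % 2 = 1 := by omega
    rcases ha with ha | ha <;> rcases hb with hb | hb <;> rw [ha, hb] at hab
    · exact ⟨Nat.dvd_of_mod_eq_zero ha, Nat.dvd_of_mod_eq_zero hb⟩
    · rw [pow_zero, pow_one, one_mul] at hab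
      exact absurd hab hρz₀1
    · rw [pow_zero, pow_one, mul_one] at hab
      exact absurd hab hz₀1
    · rw [pow_one, pow_one] at hab
      exfalso
      have h1 : ρ z₀ = z₀⁻¹ := eq_inv_of_mul_eq_one_right hab
      have h2 : z₀⁻¹ = z₀ := inv_eq_of_mul_eq_one_left hz₀sq
      rw [h2] at h1
      exact hz₀1 (H.fpf.fpf z₀ h1)
  -- Claim A
  have hA : ∀ k, k ≤ n → ∀ i j : ℕ, x ^ i * (ρ x) ^ j = 1 → 2 ^ k ∣ i ∧ 2 ^ k ∣ j := by
    intro k
    induction k with
    | zero => intro _ i j _; simp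
    | succ k ih =>
      intro hk i j hij
      obtain ⟨⟨i', rfl⟩, ⟨j', rfl⟩⟩ := ih (by omega) i j hij
      have h1 : (x ^ (2 ^ k * i') * (ρ x) ^ (2 ^ k * j')) ^ (2 ^ (n - 1 - k)) = 1 := by
        rw [hij, one_pow]
      rw [c_mul_pow hc, ← pow_mul, ← pow_mul] at h1
      have e1 : 2 ^ k * i' * 2 ^ (n - 1 - k) = 2 ^ (n - 1) * i' := by
        have : 2 ^ (n - 1) = 2 ^ k * 2 ^ (n - 1 - k) := by
          rw [← pow_add]; congr 1; omega
        rw [this]; ring
      have e2 : 2 ^ k * j' * 2 ^ (n - 1 - k) = 2 ^ (n - 1) * j' := by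
        have : 2 ^ (n - 1) = 2 ^ k * 2 ^ (n - 1 - k) := by
          rw [← pow_add]; congr 1; omega
        rw [this]; ring
      rw [e1, e2, pow_mul, pow_mul, ← map_pow, ← hz₀] at h1
      obtain ⟨⟨a, rfl⟩, ⟨b, rfl⟩⟩ := hK i' j' h1
      constructor
      · exact ⟨a, by rw [pow_succ]; ring⟩
      · exact ⟨b, by rw [pow_succ]; ring⟩
  have hmm : ∀ a b c d : ℕ, x ^ a * (ρ x) ^ b * (x ^ c * (ρ x) ^ d) =
      x ^ (a + c) * (ρ x) ^ (b + d) := by
    intro a b c d
    rw [c_four hc, ← pow_add, ← pow_add]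
  -- Claim B
  have hB : ∀ k, k ≤ n → ∀ y : T, y ^ (2 ^ k) = 1 → ∃ i j : ℕ, y = x ^ i * (ρ x) ^ j := by
    intro k
    induction k with
    | zero =>
      intro _ y hy
      rw [pow_zero, pow_one] at hy
      exact ⟨0, 0, by rw [hy]; simp⟩
    | succ k ih =>
      intro hk y hy
      have hw : (y * y) ^ (2 ^ k) = 1 := by
        rw [← pow_two, ← pow_mul, ← pow_succ']; exact hy
      obtain ⟨i, j, hij⟩ := ih (by omega) (y * y) hw
      have h1 : x ^ (i * 2 ^ k) * (ρ x) ^ (j * 2 ^ k) = 1 := by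
        rw [pow_mul, pow_mul, ← c_mul_pow hc, ← hij, hw]
      obtain ⟨hi, hj⟩ := hA n le_rfl _ _ h1
      have h2n' : 2 ^ n = 2 ^ (n - k - 1) * 2 * 2 ^ k := by
        rw [← pow_succ, ← pow_add]; congr 1; omega
      have hi2 : 2 ∣ i := by
        rw [h2n'] at hi
        have := Nat.dvd_of_mul_dvd_mul_right (by positivity) hi
        exact (Dvd.intro_left _ rfl).trans this
      have hj2 : 2 ∣ j := by
        rw [h2n'] at hj
        have := Nat.dvd_of_mul_dvd_mul_right (by positivity) hj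
        exact (Dvd.intro_left _ rfl).trans this
      obtain ⟨i', rfl⟩ := hi2
      obtain ⟨j', rfl⟩ := hj2
      set h := x ^ i' * (ρ x) ^ j' with hh
      have hhh : h * h = y * y := by
        rw [hij, hh, hmm]
        congr 1 <;> ring_nf
      set e := y * h⁻¹ with he
      have hee : e * e = 1 := by
        rw [he, c_sq_mul hc]
        have : h⁻¹ * h⁻¹ = (h * h)⁻¹ := by group
        rw [this, hhh]; group
      have heV : e ∈ V := hinv e hee
      have hz₀V : z₀ ∈ V := hinv z₀ hz₀sq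
      have hye : y = e * h := by rw [he]; group
      have hρρ : ρ (ρ z₀) = z₀ * ρ z₀ := by
        rw [H.fpf.rho_rho]
        have : (z₀ * ρ z₀) * (z₀ * ρ z₀) = 1 := by
          rw [c_sq_mul hc, hz₀sq, ← map_mul, hz₀sq, map_one, one_mul]
        exact inv_eq_of_mul_eq_one_left this
      have hρz : ρ z₀ = (ρ x) ^ (2 ^ (n - 1)) := by rw [hz₀, map_pow]
      rcases orbit_cases H.fpf V H.cardV (fun _ => H.rho_mem) hz₀V hz₀1 heV with e1 | e1 | e1 | e1
      · exact ⟨i', j', by rw [hye, e1, one_mul]⟩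
      · refine ⟨2 ^ (n - 1) + i', 0 + j', ?_⟩
        rw [hye, e1, hh, ← hmm, pow_zero, mul_one]
      · refine ⟨0 + i', 2 ^ (n - 1) + j', ?_⟩
        rw [hye, e1, hh, ← hmm, pow_zero, one_mul, ← hρz]
      · refine ⟨2 ^ (n - 1) + i', 2 ^ (n - 1) + j', ?_⟩
        rw [hye, e1, hh, ← hmm, hρρ, ← hρz]
  exact ⟨n, x, hn1, hpow x, hA n le_rfl, fun y => hB n le_rfl y (hpow y)⟩

/-- abelian case with an involution outside `V`: elementary abelian of order sixteen -/
theorem abelian_sq (H : Hyp ρ τ V) (hc : ∀ x y : T, x * y = y * x)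
    {e₀ : T} (he₀ : e₀ * e₀ = 1) (he₀V : e₀ ∉ V) :
    (∀ x : T, x * x = 1) ∧ Nat.card T = 16 := by
  have : Fact (Nat.Prime 2) := ⟨Nat.prime_two⟩
  have hinvE : ∀ u : T, u * u = 1 → u⁻¹ = u := fun u hu => inv_eq_of_mul_eq_one_left hu
  have hνV : ∀ u : T, u * τ u ∈ V := by
    intro u
    rw [← H.fix, map_mul, H.invol, hc]
  set v₀ := e₀ * τ e₀ with hv₀
  have hv₀1 : v₀ ≠ 1 := by
    intro e
    apply he₀V
    rw [← H.fix]
    have : τ e₀ = e₀⁻¹ := eq_inv_of_mul_eq_one_right e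
    rw [this, hinvE e₀ he₀]
  have hv₀V : v₀ ∈ V := hνV e₀
  have hsurj : ∀ v ∈ V, ∃ u : T, u * u = 1 ∧ u * τ u = v := by
    intro v hv
    rcases orbit_cases H.fpf V H.cardV (fun _ => H.rho_mem) hv₀V hv₀1 hv with e | e | e | e
    · exact ⟨1, by simp, by rw [e]; simp⟩
    · exact ⟨e₀, he₀, by rw [e]⟩
    · refine ⟨ρ e₀, by rw [← map_mul, he₀, map_one], ?_⟩
      rw [e, H.comm, ← map_mul]
    · refine ⟨ρ (ρ e₀), by rw [← map_mul, ← map_mul, he₀, map_one, map_one], ?_⟩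
      rw [e, H.comm, H.comm, ← map_mul, ← map_mul]
  have hall : ∀ x : T, x * x = 1 := by
    by_contra hcon
    push Not at hcon
    obtain ⟨y, hy⟩ := hcon
    obtain ⟨k, hk⟩ : ∃ k, orderOf y = 2 ^ k := by
      rw [exists_orderOf_eq_prime_pow_iff]
      exact H.pg y
    have hk2 : 2 ≤ k := by
      by_contra hlt
      have : k = 0 ∨ k = 1 := by omega
      apply hy
      rw [← pow_two, ← orderOf_dvd_iff_pow_eq_one, hk]
      rcases this with rfl | rfl <;> norm_num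
    set y₀ := y ^ (2 ^ (k - 2)) with hy₀
    have hy₀4 : y₀ ^ 4 = 1 := by
      rw [hy₀, ← pow_mul]
      have : 2 ^ (k - 2) * 4 = 2 ^ k := by
        rw [show (4 : ℕ) = 2 ^ 2 by norm_num, ← pow_add]; congr 1; omega
      rw [this, ← hk, pow_orderOf_eq_one]
    have hy₀2 : y₀ ^ 2 ≠ 1 := by
      rw [hy₀, ← pow_mul]
      apply pow_ne_one_of_lt_orderOf (by positivity)
      rw [hk]
      have : 2 ^ (k - 2) * 2 = 2 ^ (k - 1) := by
        rw [← pow_succ]; congr 1; omega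
      rw [this]
      exact Nat.pow_lt_pow_right (by norm_num) (by omega)
    set u := y₀ * y₀ with hu
    have hu1 : u ≠ 1 := by rw [hu, ← pow_two]; exact hy₀2
    have huu : u * u = 1 := by
      rw [hu, ← pow_two, ← pow_two, ← pow_mul]; exact hy₀4
    obtain ⟨y₁, v, hy₁, hvV, hv1⟩ : ∃ y₁ v : T, y₁ * y₁ = v ∧ v ∈ V ∧ v ≠ 1 := by
      by_cases hcase : u * τ u = 1
      · refine ⟨y₀, u, rfl, ?_, hu1⟩
        rw [← H.fix]
        have : τ u = u⁻¹ := eq_inv_of_mul_eq_one_right hcase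
        rw [this, hinvE u huu]
      · refine ⟨y₀ * τ y₀, u * τ u, ?_, hνV u, hcase⟩
        rw [c_sq_mul hc, ← map_mul]
    set e := y₁⁻¹ * τ y₁ with he
    have hee : e * e = 1 := by
      rw [he, c_sq_mul hc, ← map_mul, hy₁, H.tau_fix hvV]
      have : y₁⁻¹ * y₁⁻¹ = (y₁ * y₁)⁻¹ := by group
      rw [this, hy₁, inv_mul_cancel]
    have heV : e ∈ V := by
      rw [← H.fix, he, map_mul, map_inv, H.invol]
      have h1 : (τ y₁)⁻¹ * y₁ = (y₁⁻¹ * τ y₁)⁻¹ := by group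
      rw [h1, ← he, hinvE e hee]
    obtain ⟨u', hu'2, hu'e⟩ := hsurj e heV
    have hτy₁ : τ y₁ = y₁ * e := by rw [he]; group
    have hτu' : τ u' * τ u' = 1 := by rw [← map_mul, hu'2, map_one]
    have hfix : τ (y₁ * u') = y₁ * u' := by
      rw [map_mul, hτy₁, ← hu'e]
      calc y₁ * (u' * τ u') * τ u' = y₁ * u' * (τ u' * τ u') := by group
        _ = y₁ * u' := by rw [hτu', mul_one]
    have hmem : y₁ * u' ∈ V := (H.fix _).mp hfix
    have h1 := H.V_sq hmem
    rw [c_sq_mul hc, hy₁, hu'2, mul_one] at h1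
    exact hv1 h1
  refine ⟨hall, ?_⟩
  have hle := card_le_fix_sq hc hall τ H.invol
  have hfixV : fixSub τ = V := by
    ext y
    rw [mem_fixSub, H.fix]
  rw [hfixV, H.cardV] at hle
  obtain ⟨k, hk⟩ := IsPGroup.iff_card.mp H.pg
  have hmod := H.fpf.card_modEq ⊤ (fun y => by simp)
  rw [Subgroup.card_top] at hmod
  have hgt : 4 < Nat.card T := by
    by_contra hcon
    have hV : V = ⊤ := Subgroup.eq_top_of_le_card V (by rw [H.cardV]; omega)
    exact he₀V (by rw [hV]; exact Subgroup.mem_top _)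
  rw [hk] at hle hmod hgt ⊢
  have hk4 : k ≤ 4 := by
    by_contra hcon
    have : 2 ^ 5 ≤ 2 ^ k := Nat.pow_le_pow_right (by norm_num) (by omega)
    omega
  interval_cases k <;> first | omega | (exfalso; revert hmod; decide)

end Hyp

/-- a group generated by two independent commuting elements of order `2ⁿ` -/
theorem nonempty_equiv_zmod (hc : ∀ x y : T, x * y = y * x) {x x' : T} {n : ℕ}
    (hx : x ^ (2 ^ n) = 1) (hx' : x' ^ (2 ^ n) = 1)
    (hA : ∀ i j : ℕ, x ^ i * x' ^ j = 1 → 2 ^ n ∣ i ∧ 2 ^ n ∣ j)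
    (hB : ∀ y : T, ∃ i j : ℕ, y = x ^ i * x' ^ j) :
    Nonempty (T ≃* Multiplicative (ZMod (2 ^ n)) × Multiplicative (ZMod (2 ^ n))) := by
  have : NeZero (2 ^ n) := ⟨by positivity⟩
  let ψ : Multiplicative (ZMod (2 ^ n)) × Multiplicative (ZMod (2 ^ n)) →* T :=
    MonoidHom.mk' (fun p => x ^ (Multiplicative.toAdd p.1).val * x' ^ (Multiplicative.toAdd p.2).val)
      (by
        intro p q
        simp only [Prod.fst_mul, Prod.snd_mul, toAdd_mul]
        rw [pow_val_add' x hx, pow_val_add' x' hx', c_four hc])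
  have hψ : ∀ p, ψ p = x ^ (Multiplicative.toAdd p.1).val * x' ^ (Multiplicative.toAdd p.2).val :=
    fun p => rfl
  have hinj : Function.Injective ψ := by
    rw [injective_iff_map_eq_one]
    rintro ⟨a, b⟩ hab
    rw [hψ] at hab
    obtain ⟨h1, h2⟩ := hA _ _ hab
    have ha : (Multiplicative.toAdd a).val = 0 :=
      Nat.eq_zero_of_dvd_of_lt h1 (ZMod.val_lt _)
    have hb : (Multiplicative.toAdd b).val = 0 :=
      Nat.eq_zero_of_dvd_of_lt h2 (ZMod.val_lt _)
    rw [ZMod.val_eq_zero] at ha hb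
    apply Prod.ext
    · exact ha
    · exact hb
  have hsurj : Function.Surjective ψ := by
    intro y
    obtain ⟨i, j, rfl⟩ := hB y
    refine ⟨(Multiplicative.ofAdd (i : ZMod (2 ^ n)), Multiplicative.ofAdd (j : ZMod (2 ^ n))), ?_⟩
    rw [hψ]
    simp only [toAdd_ofAdd, ZMod.val_natCast]
    rw [← pow_eq_pow_mod _ hx, ← pow_eq_pow_mod _ hx']
  exact ⟨(MulEquiv.ofBijective ψ ⟨hinj, hsurj⟩).symm⟩

end Cfsg.Agent.Lib.H2.RT
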