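import Mathlib
import Cfsg.Agent.Lib.H2.RTC

set_option autoImplicit false

/-!
# The hypothesis `Hyp` passes to the quotient by `V`
-/

namespace Cfsg.Agent.Lib.H2.RT

open Subgroup Cfsg.Agent.Lib.H2.L34

variable {T : Type*} [Group T]

namespace Hyp

variable {ρ τ : MulAut T} {V : Subgroup T} [Finite T]

omit [Finite T] in
theorem mk_mem_fix (H : Hyp ρ τ V) [V.Normal] (x : T) :
    (QuotientGroup.mk x : T ⧸ V) ∈ fixSub (quotA τ V H.tau_mem_iff) ↔ x⁻¹ * τ x ∈ V := by
  rw [mem_fixSub, quotA_mk, eq_comm, QuotientGroup.eq]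

/-- the quotient by `V` again satisfies the hypothesis, unless it is trivial -/
theorem quot (H : Hyp ρ τ V) [V.Normal] (hne : ∃ y, y ∉ V) :
    Hyp (quotA ρ V H.rho_mem_iff) (quotA τ V H.tau_mem_iff)
      (fixSub (quotA τ V H.tau_mem_iff)) := by
  have hfpf : Fpf3 (quotA ρ V H.rho_mem_iff) := fpf3_quot H.fpf V H.rho_mem_iff
  have hinvol : ∀ y : T ⧸ V, quotA τ V H.tau_mem_iff (quotA τ V H.tau_mem_iff y) = y := by
    intro y
    induction y using QuotientGroup.induction_on with
    | H y => rw [quotA_mk, quotA_mk, H.invol]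
  have hcomm : ∀ y : T ⧸ V, quotA τ V H.tau_mem_iff (quotA ρ V H.rho_mem_iff y) =
      quotA ρ V H.rho_mem_iff (quotA τ V H.tau_mem_iff y) := by
    intro y
    induction y using QuotientGroup.induction_on with
    | H y => rw [quotA_mk, quotA_mk, quotA_mk, quotA_mk, H.comm]
  have hpg : IsPGroup 2 (T ⧸ V) := H.pg.to_quotient V
  refine ⟨hpg, hfpf, hinvol, hcomm, fun y => (mem_fixSub _ y).symm, ?_⟩
  set V₁ := fixSub (quotA τ V H.tau_mem_iff) with hV₁
  -- at most four
  have hle : Nat.card V₁ ≤ 4 := by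
    have hout : ∀ q : V₁, (Quotient.out (q : T ⧸ V))⁻¹ * τ (Quotient.out (q : T ⧸ V)) ∈ V := by
      intro q
      rw [← H.mk_mem_fix, QuotientGroup.out_eq']
      exact q.2
    let f : V₁ → V := fun q => ⟨_, hout q⟩
    have hf : Function.Injective f := by
      intro q q' hqq
      have h1 : (Quotient.out (q : T ⧸ V))⁻¹ * τ (Quotient.out (q : T ⧸ V)) =
          (Quotient.out (q' : T ⧸ V))⁻¹ * τ (Quotient.out (q' : T ⧸ V)) := congrArg Subtype.val hqq
      set a := Quotient.out (q : T ⧸ V) with ha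
      set b := Quotient.out (q' : T ⧸ V) with hb
      set c := a⁻¹ * τ a with hc
      have hcV : c ∈ V := hout q
      have hτa : τ a = a * c := by rw [hc]; group
      have hτb : τ b = b * c := by rw [h1]; group
      have hmem : a⁻¹ * b ∈ V := by
        rw [← H.fix, map_mul, map_inv, hτa, hτb]
        calc (a * c)⁻¹ * (b * c) = c⁻¹ * (a⁻¹ * b) * c := by group
          _ = (a⁻¹ * b) * c⁻¹ * c := by rw [H.V_comm (inv_mem hcV)]
          _ = a⁻¹ * b := by group
      apply Subtype.ext
      rw [← QuotientGroup.out_eq' (q : T ⧸ V), ← QuotientGroup.out_eq' (q' : T ⧸ V)]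
      exact QuotientGroup.eq.mpr hmem
    have := Nat.card_le_card_of_injective f hf
    rwa [H.cardV] at this
  -- nontrivial
  have hne1 : Nat.card V₁ ≠ 1 := by
    intro e
    have hbot := (Subgroup.card_eq_one).mp e
    obtain ⟨y, hy⟩ := hne
    have htop : (⊤ : Subgroup (T ⧸ V)) ≠ ⊥ := by
      intro e2
      have : (QuotientGroup.mk y : T ⧸ V) ∈ (⊥ : Subgroup (T ⧸ V)) := by
        rw [← e2]; exact Subgroup.mem_top _
      rw [Subgroup.mem_bot, QuotientGroup.eq_one_iff] at this
      exact hy this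
    obtain ⟨h, _, hh1, hτh⟩ := exists_fixed_ne_one hpg _ hinvol ⊤ (fun _ => by simp) htop
    have : h ∈ V₁ := hτh
    rw [hbot, Subgroup.mem_bot] at this
    exact hh1 this
  have hmod : Nat.card V₁ ≡ 1 [MOD 3] := by
    apply hfpf.card_modEq
    intro y
    rw [hV₁, mem_fixSub, mem_fixSub, hcomm]
    constructor
    · intro e; rw [e]
    · intro e; exact (quotA ρ V H.rho_mem_iff).injective e
  have hpos : 0 < Nat.card V₁ := Nat.card_pos
  interval_cases hk : Nat.card V₁
  · exact absurd rfl hne1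
  · exfalso; revert hmod; decide
  · exfalso; revert hmod; decide
  · rfl

omit [Finite T] in
theorem card_quot (H : Hyp ρ τ V) [V.Normal] : Nat.card T = Nat.card (T ⧸ V) * 4 := by
  rw [Subgroup.card_eq_card_quotient_mul_card_subgroup V, H.cardV]

end Hyp

end Cfsg.Agent.Lib.H2.RT
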