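import Mathlib
import Cfsg.Agent.Lib.H2.RTD
import Cfsg.Agent.Lib.H2.L34F

set_option autoImplicit false

/-!
# Lifting through the quotient by `V`
-/

namespace Cfsg.Agent.Lib.H2.RT

open Subgroup Cfsg.Agent.Lib.H2.L34

variable {T : Type*} [Group T]

theorem not_isMulCommutative {Q : Type*} [Group Q] (h : ¬ ∀ a b : Q, a * b = b * a) :
    ¬ IsMulCommutative Q := by
  intro hc
  exact h (fun a b => hc.is_comm.comm a b)

theorem map_cm {Q : Type*} [Group Q] (f : T →* Q) (g k : T) : f (cm g k) = cm (f g) (f k) := by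
  simp only [cm_def, map_mul, map_inv]

theorem cm_mul_right_gen (x d d' : T) : cm x (d * d') = cm x d * (d * cm x d' * d⁻¹) := by
  simp only [cm_def]; group

theorem cm_mul_left_gen (x x' d : T) : cm (x * x') d = x * cm x' d * x⁻¹ * cm x d := by
  simp only [cm_def]; group

namespace Hyp

variable {ρ τ : MulAut T} {V : Subgroup T} [Finite T]

/-- if the quotient by `V` is abelian then the group is abelian or of order 64 -/
theorem of_quot_comm (H : Hyp ρ τ V) [V.Normal] (hne : ∃ y, y ∉ V)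
    (hq : ∀ a b : T ⧸ V, a * b = b * a) :
    (∀ x y : T, x * y = y * x) ∨ Nat.card T = 64 := by
  have HQ := H.quot hne
  by_cases hinv : ∀ e : T ⧸ V, e * e = 1 → e ∈ fixSub (quotA τ V H.tau_mem_iff)
  · left
    obtain ⟨n, xq, _, _, _, hgen⟩ := HQ.abelian_gen hq hinv
    induction xq using QuotientGroup.induction_on with
    | H x =>
      have hx : Commute x (ρ x) := H.fpf.comm x
      have hrep : ∀ y : T, ∃ (i j : ℕ) (v : T), v ∈ V ∧ y = x ^ i * (ρ x) ^ j * v := by
        intro y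
        obtain ⟨i, j, hij⟩ := hgen (QuotientGroup.mk y)
        rw [quotA_mk, ← QuotientGroup.mk_pow, ← QuotientGroup.mk_pow, ← QuotientGroup.mk_mul,
          eq_comm, QuotientGroup.eq] at hij
        exact ⟨i, j, _, hij, by group⟩
      have hww : ∀ i j i' j' : ℕ, Commute (x ^ i * (ρ x) ^ j) (x ^ i' * (ρ x) ^ j') := by
        intro i j i' j'
        apply Commute.mul_left <;> apply Commute.mul_right
        · exact (Commute.refl x).pow_pow _ _
        · exact hx.pow_pow _ _
        · exact hx.symm.pow_pow _ _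
        · exact (Commute.refl _).pow_pow _ _
      have cv : ∀ v ∈ V, ∀ u : T, Commute v u := fun v hv u => H.V_comm hv u
      intro y y'
      obtain ⟨i, j, v, hv, rfl⟩ := hrep y
      obtain ⟨i', j', v', hv', rfl⟩ := hrep y'
      have : Commute (x ^ i * (ρ x) ^ j * v) (x ^ i' * (ρ x) ^ j' * v') :=
        Commute.mul_left (Commute.mul_right (hww i j i' j') (cv v' hv' _).symm) (cv v hv _)
      exact this.eq
  · right
    push Not at hinv
    obtain ⟨e₀, he₀, he₀V⟩ := hinv
    have := (HQ.abelian_sq hq he₀ he₀V).2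
    rw [H.card_quot, this]

/-- the quotient by `V` is not a nonabelian group of order 64 -/
theorem quot_not_sp (H : Hyp ρ τ V) [V.Normal] (hcard : Nat.card (T ⧸ V) = 64)
    (hna : ¬ ∀ a b : T ⧸ V, a * b = b * a) : False := by
  have hne : ∃ y, y ∉ V := by
    by_contra hcon
    push Not at hcon
    have hV : V = ⊤ := by ext y; simp [hcon y]
    have h1 := H.card_quot
    rw [hcard] at h1
    have h2 := H.cardV
    rw [hV, Subgroup.card_top] at h2
    omega
  have HQ := H.quot hne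
  set ρ₁ := quotA ρ V H.rho_mem_iff with hρ₁
  set τ₁ := quotA τ V H.tau_mem_iff with hτ₁
  set V₁ := fixSub τ₁ with hV₁
  have S : Sp ρ₁ := sp_of HQ.fpf hcard (not_isMulCommutative hna)
  let mk : T →* T ⧸ V := QuotientGroup.mk' V
  have hmk : ∀ y : T, mk y = (QuotientGroup.mk y : T ⧸ V) := fun y => rfl
  have hmkρ : ∀ y : T, mk (ρ y) = ρ₁ (mk y) := fun y => rfl
  have hmkτ : ∀ y : T, mk (τ y) = τ₁ (mk y) := fun y => rfl
  have hmk1 : ∀ y : T, mk y = 1 ↔ y ∈ V := fun y => QuotientGroup.eq_one_iff y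
  have hmkeq : ∀ y y' : T, mk y = mk y' → ∃ v ∈ V, y = y' * v := by
    intro y y' e
    have : y'⁻¹ * y ∈ V := by
      rw [← hmk1, map_mul, map_inv, e, inv_mul_cancel]
    exact ⟨_, this, by group⟩
  have hV₁Z : V₁ = center (T ⧸ V) :=
    Subgroup.eq_of_le_of_card_ge HQ.V_le_center (by rw [S.cardZ, HQ.cardV])
  -- `D` is the preimage of the centre
  have cmD : ∀ g k : T, mk (cm g k) ∈ center (T ⧸ V) := by
    intro g k; rw [map_cm]; exact S.comm _ _
  have VD : ∀ v ∈ V, mk v ∈ center (T ⧸ V) := by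
    intro v hv; rw [(hmk1 v).mpr hv]; exact one_mem _
  have cmV : ∀ (x d : T), mk d ∈ center (T ⧸ V) → cm x d ∈ V := by
    intro x d hd
    rw [← hmk1, map_cm, S.cm_center_right hd]
  have cm_V : ∀ (x v : T), v ∈ V → cm x v = 1 := by
    intro x v hv
    rw [cm_eq_one_iff]; exact (H.V_comm hv x).symm
  have Vc : ∀ v ∈ V, ∀ u : T, u * v * u⁻¹ = v := by
    intro v hv u
    rw [← H.V_comm hv u]; group
  have F5 : ∀ (x d d' : T), mk d' ∈ center (T ⧸ V) → cm x (d * d') = cm x d * cm x d' := by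
    intro x d d' hd'
    rw [cm_mul_right_gen, Vc _ (cmV x d' hd')]
  have F6 : ∀ (x x' d : T), mk d ∈ center (T ⧸ V) → cm (x * x') d = cm x d * cm x' d := by
    intro x x' d hd
    rw [cm_mul_left_gen, Vc _ (cmV x' d hd), H.V_comm (cmV x' d hd)]
  have FV : ∀ x g k : T, cm x (cm g k) ∈ V := fun x g k => cmV x _ (cmD g k)
  have Finv : ∀ x g k : T, (cm x (cm g k))⁻¹ = cm x (cm g k) := fun x g k => H.V_inv (FV x g k)
  have eq_of_mul : ∀ a b : T, a ∈ V → a * b = 1 → a = b := by
    intro a b ha hab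
    have : b = a⁻¹ := eq_inv_of_mul_eq_one_right hab
    rw [this, H.V_inv ha]
  -- additivity in the second and third slots
  have F8 : ∀ x g g' k : T, cm x (cm (g * g') k) = cm x (cm g k) * cm x (cm g' k) := by
    intro x g g' k
    have e : cm (g * g') k = (cm g (cm g' k) * cm g' k) * cm g k := by
      rw [cm_mul_left_gen]; simp only [cm_def]; group
    rw [e, F5 _ _ _ (cmD g k), F5 _ _ _ (cmD g' k), cm_V x _ (FV g g' k), one_mul,
      H.V_comm (FV x g' k)]
  have F9 : ∀ x g k k' : T, cm x (cm g (k * k')) = cm x (cm g k) * cm x (cm g k') := by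
    intro x g k k'
    have e : cm g (k * k') = cm g k * (cm k (cm g k') * cm g k') := by
      rw [cm_mul_right_gen]; simp only [cm_def]; group
    have hD : mk (cm k (cm g k') * cm g k') ∈ center (T ⧸ V) := by
      rw [map_mul]; exact mul_mem (VD _ (FV k g k')) (cmD g k')
    rw [e, F5 _ _ _ hD, F5 _ _ _ (cmD g k'), cm_V x _ (FV k g k'), one_mul]
  have F10 : ∀ x x' g k : T, cm (x * x') (cm g k) = cm x (cm g k) * cm x' (cm g k) :=
    fun x x' g k => F6 x x' _ (cmD g k)
  -- Engel conditions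
  have F11a : ∀ g k : T, cm g (cm g k) = 1 := by
    intro g k
    rw [cm_eq_one_iff]
    have h1 : Commute g (k * g * k⁻¹) := engel H.fpf g k
    have h2 : cm g k = g * (k * g * k⁻¹)⁻¹ := by simp only [cm_def]; group
    rw [h2]
    exact ((Commute.refl g).mul_right h1.inv_right).eq
  have F11b : ∀ g k : T, cm k (cm g k) = 1 := by
    intro g k
    rw [cm_eq_one_iff]
    have h1 : Commute k (g * k * g⁻¹) := engel H.fpf k g
    have h2 : cm g k = (g * k * g⁻¹) * k⁻¹ := by simp only [cm_def]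
    rw [h2]
    exact (h1.mul_right (Commute.refl k).inv_right).eq
  -- symmetry
  have S12 : ∀ g x k : T, cm g (cm x k) = cm x (cm g k) := by
    intro g x k
    have h := F11a (g * x) k
    rw [F10, F8, F8, F11a, F11a, one_mul, mul_one] at h
    exact eq_of_mul _ _ (FV g x k) h
  have S13 : ∀ k g x : T, cm k (cm g x) = cm x (cm g k) := by
    intro k g x
    have h := F11b g (k * x)
    rw [F10, F9, F9, F11b, F11b, one_mul, mul_one] at h
    exact eq_of_mul _ _ (FV k g x) h
  -- moving `ρ`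
  have M23 : ∀ a b c : T, cm a (cm (ρ b) c) = cm a (cm b (ρ c)) := by
    intro a b c
    have e : mk (cm (ρ b) c) = mk (cm b (ρ c)) := by
      rw [map_cm, map_cm, hmkρ, hmkρ, S.cm_rho_swap]
    obtain ⟨v, hv, e2⟩ := hmkeq _ _ e
    rw [e2, F5 _ _ _ (VD v hv), cm_V a v hv, mul_one]
  have M12 : ∀ a b c : T, cm (ρ a) (cm b c) = cm a (cm (ρ b) c) := by
    intro a b c
    rw [← S13 c b (ρ a), ← M23, S13]
  have Fone : ∀ a b c : T, cm a (cm b c) = 1 := by
    intro a b c
    apply H.fpf.fpf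
    rw [Sp.rho_cm, Sp.rho_cm, M12, M23, M23, H.fpf.cube]
  -- every element of `D` is a commutator times an element of `V`
  have hDrep : ∀ d : T, mk d ∈ center (T ⧸ V) → ∃ g k v : T, v ∈ V ∧ d = cm g k * v := by
    intro d hd
    obtain ⟨gq, kq, hgk⟩ : ∃ gq kq : T ⧸ V, cm gq kq ≠ 1 := by
      by_contra hcon
      push Not at hcon
      exact hna (fun a b => (cm_eq_one_iff a b).mp (hcon a b))
    obtain ⟨g, rfl⟩ := QuotientGroup.mk'_surjective V gq
    obtain ⟨k, rfl⟩ := QuotientGroup.mk'_surjective V kq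
    have key : ∃ g' k' : T, mk d = mk (cm g' k') := by
      rcases S.center_cases (S.comm _ _) hgk hd with e | e | e | e
      · exact ⟨1, 1, by rw [e, cm_one_left, map_one]⟩
      · exact ⟨g, k, by rw [e, map_cm]⟩
      · exact ⟨ρ g, ρ k, by rw [e, map_cm, hmkρ, hmkρ, Sp.rho_cm]⟩
      · exact ⟨ρ (ρ g), ρ (ρ k), by rw [e, map_cm, hmkρ, hmkρ, hmkρ, hmkρ, Sp.rho_cm, Sp.rho_cm]⟩
    obtain ⟨g', k', e⟩ := key
    obtain ⟨v, hv, e2⟩ := hmkeq _ _ e
    exact ⟨g', k', v, hv, e2⟩
  -- `D` is central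
  have Dc : ∀ d : T, mk d ∈ center (T ⧸ V) → ∀ x : T, x * d = d * x := by
    intro d hd x
    obtain ⟨g, k, v, hv, rfl⟩ := hDrep d hd
    rw [← cm_eq_one_iff, F5 _ _ _ (VD v hv), Fone, cm_V x v hv, one_mul]
  -- `D` has exponent two
  have Dsq : ∀ d : T, mk d ∈ center (T ⧸ V) → d * d = 1 := by
    intro d hd
    obtain ⟨g, k, v, hv, rfl⟩ := hDrep d hd
    have hcD := cmD g k
    have h1 : cm g k * cm g k = 1 := by
      have hgg : mk (g * g) ∈ center (T ⧸ V) := by rw [map_mul]; exact S.sq _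
      have h2 : cm (g * g) k = 1 := by
        rw [cm_eq_one_iff]; exact (Dc _ hgg k).symm
      rw [cm_mul_left_gen] at h2
      have h3 : g * cm g k * g⁻¹ = cm g k := by
        rw [Dc _ hcD g]; group
      rw [h3] at h2
      exact h2
    calc cm g k * v * (cm g k * v) = cm g k * (v * cm g k) * v := by group
      _ = cm g k * (cm g k * v) * v := by rw [H.V_comm hv]
      _ = (cm g k * cm g k) * (v * v) := by group
      _ = 1 := by rw [h1, H.V_sq hv, one_mul]
  -- a fixed point of `τ` on `T / D`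
  have hne₁ : ∃ q : T ⧸ V, q ∉ V₁ := by
    by_contra hcon
    push Not at hcon
    have hV : V₁ = ⊤ := by ext y; simp [hcon y]
    have h2 := HQ.cardV
    rw [hV, Subgroup.card_top, hcard] at h2
    omega
  have : V₁.Normal := HQ.normal
  have HQ2 := HQ.quot hne₁
  obtain ⟨⟨q₂, hq₂⟩, hq₂ne⟩ := (Subgroup.ne_bot_iff_exists_ne_one).mp HQ2.V_ne_bot
  have hq₂1 : q₂ ≠ 1 := fun e => hq₂ne (Subtype.ext e)
  induction q₂ using QuotientGroup.induction_on with
  | H q =>
    have hqV₁ : q ∉ V₁ := fun h => hq₂1 ((QuotientGroup.eq_one_iff q).mpr h)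
    rw [HQ.mk_mem_fix] at hq₂
    obtain ⟨x, rfl⟩ := QuotientGroup.mk'_surjective V q
    set a := x⁻¹ * τ x with ha
    have haD : mk a ∈ center (T ⧸ V) := by
      rw [← hV₁Z, ha, map_mul, map_inv, hmkτ]
      exact hq₂
    have haa := Dsq a haD
    have hτa : τ a = a := by
      rw [ha, map_mul, map_inv, H.invol]
      have : (τ x)⁻¹ * x = (x⁻¹ * τ x)⁻¹ := by group
      rw [this, ← ha]
      exact inv_eq_of_mul_eq_one_left haa
    have haV : a ∈ V := (H.fix a).mp hτa
    apply hqV₁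
    exact (H.mk_mem_fix x).mpr haV

end Hyp

end Cfsg.Agent.Lib.H2.RT
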