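import Mathlib
import Cfsg.Agent.Lib.H2.RTE

set_option autoImplicit false

/-!
# Under `Hyp` the group is abelian or of order 64
-/

namespace Cfsg.Agent.Lib.H2.RT

open Subgroup Cfsg.Agent.Lib.H2.L34

universe u

theorem abelian_or_card_aux (n : ℕ) : ∀ (T : Type u) [Group T] [Finite T] (ρ τ : MulAut T)
    (V : Subgroup T), Nat.card T = n → Hyp ρ τ V →
    (∀ x y : T, x * y = y * x) ∨ Nat.card T = 64 := by
  induction n using Nat.strong_induction_on with
  | _ n ih =>
    intro T _ _ ρ τ V hn H
    have : V.Normal := H.normal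
    by_cases hne : ∃ y, y ∉ V
    · have HQ := H.quot hne
      have hcq := H.card_quot
      have hlt : Nat.card (T ⧸ V) < n := by
        have : 0 < Nat.card (T ⧸ V) := Nat.card_pos
        omega
      rcases ih _ hlt (T ⧸ V) _ _ _ rfl HQ with hq | hq
      · exact H.of_quot_comm hne hq
      · by_cases hq2 : ∀ a b : T ⧸ V, a * b = b * a
        · exact H.of_quot_comm hne hq2
        · exact (H.quot_not_sp hq hq2).elim
    · left
      push Not at hne
      intro x y
      exact H.V_comm (hne x) y

/-- the main dichotomy -/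
theorem Hyp.abelian_or_card {T : Type u} [Group T] [Finite T] {ρ τ : MulAut T} {V : Subgroup T}
    (H : Hyp ρ τ V) : (∀ x y : T, x * y = y * x) ∨ Nat.card T = 64 :=
  abelian_or_card_aux _ T ρ τ V rfl H

end Cfsg.Agent.Lib.H2.RT
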