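import Mathlib
import Cfsg.Agent.Lib.H2.L34G

set_option autoImplicit false
set_option linter.unusedSimpArgs false

/-!
# The group `Ell` of order 64 (a Sylow 2-subgroup of `U₃(4)`) and its presentation
-/

namespace Cfsg.Agent.Lib.H2.RT

open Cfsg.Agent.Lib.H3.F4 Cfsg.Agent.Lib.H2.L34

/-- triples over `F₄` with `(α,γ,β)(α',γ',β') = (α+α', γ+γ', β+β'+(α+γ)α'+ω²γγ')` -/
@[ext]
structure Ell where
  a : F4
  c : F4
  b : F4
  deriving DecidableEq

namespace Ell

instance : Mul Ell :=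
  ⟨fun h k => ⟨h.a + k.a, h.c + k.c, h.b + k.b + (h.a + h.c) * k.a + F4.w2 * h.c * k.c⟩⟩
instance : One Ell := ⟨⟨0, 0, 0⟩⟩
instance : Inv Ell :=
  ⟨fun h => ⟨-h.a, -h.c, -h.b + (h.a + h.c) * h.a + F4.w2 * h.c * h.c⟩⟩

theorem mul_a (h k : Ell) : (h * k).a = h.a + k.a := rfl
theorem mul_c (h k : Ell) : (h * k).c = h.c + k.c := rfl
theorem mul_b (h k : Ell) :
    (h * k).b = h.b + k.b + (h.a + h.c) * k.a + F4.w2 * h.c * k.c := rfl
theorem one_a : (1 : Ell).a = 0 := rfl
theorem one_c : (1 : Ell).c = 0 := rfl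
theorem one_b : (1 : Ell).b = 0 := rfl
theorem inv_a (h : Ell) : (h⁻¹).a = -h.a := rfl
theorem inv_c (h : Ell) : (h⁻¹).c = -h.c := rfl
theorem inv_b (h : Ell) : (h⁻¹).b = -h.b + (h.a + h.c) * h.a + F4.w2 * h.c * h.c := rfl

instance : Group Ell where
  mul_assoc := by
    intro x y z
    ext <;> simp only [mul_a, mul_c, mul_b] <;> ring
  one_mul := by
    intro x
    ext <;> simp only [mul_a, mul_c, mul_b, one_a, one_c, one_b] <;> ring
  mul_one := by
    intro x
    ext <;> simp only [mul_a, mul_c, mul_b, one_a, one_c, one_b] <;> ring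
  inv_mul_cancel := by
    intro x
    ext <;> simp only [mul_a, mul_c, mul_b, one_a, one_c, one_b, inv_a, inv_c, inv_b] <;> ring

/-- the underlying triple -/
def equivProd : Ell ≃ F4 × F4 × F4 where
  toFun h := (h.a, h.c, h.b)
  invFun p := ⟨p.1, p.2.1, p.2.2⟩
  left_inv _ := rfl
  right_inv _ := rfl

instance : Fintype Ell := Fintype.ofEquiv _ equivProd.symm

theorem card_eq : Nat.card Ell = 64 := by
  rw [Nat.card_congr equivProd, Nat.card_prod, Nat.card_prod, Nat.card_eq_fintype_card,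
    F4.card_eq]

end Ell

variable {T : Type*} [Group T]

/-- the relations of the Sylow 2-subgroup of `U₃(4)` -/
structure EGens (x x' y y' z z' : T) : Prop where
  xx : x * x = z
  x'x' : x' * x' = z'
  yy : y * y = z'
  y'y' : y' * y' = z * z'
  zz : z * z = 1
  z'z' : z' * z' = 1
  x'x : x' * x = x * x'
  y'y : y' * y = y * y'
  yx : y * x = x * (y * z)
  y'x' : y' * x' = x' * (y' * z')
  y'x : y' * x = x * (y' * (z * z'))
  yx' : y * x' = x' * (y * (z * z'))
  zc : ∀ u : T, z * u = u * z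
  z'c : ∀ u : T, z' * u = u * z'
  z_ne : z ≠ 1
  z'_ne : z' ≠ 1
  zz'_ne : z * z' ≠ 1

/-- first layer parametrisation -/
def pX (x x' z z' : T) : F4 → T
  | .z => 1
  | .o => x
  | .w => x'
  | .w2 => x * (x' * (z * z'))

/-- second layer parametrisation -/
def pY (y y' z : T) : F4 → T
  | .z => 1
  | .o => y
  | .w => y'
  | .w2 => y * (y' * z)

namespace EGens

variable {x x' y y' z z' : T}

theorem s_x (G : EGens x x' y y' z z') : x * x = z := G.xx
theorem s_xR (G : EGens x x' y y' z z') (u : T) : x * (x * u) = z * u := by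
  rw [← mul_assoc, G.s_x]
theorem s_x1 (G : EGens x x' y y' z z') : x' * x' = z' := G.x'x'
theorem s_x1R (G : EGens x x' y y' z z') (u : T) : x' * (x' * u) = z' * u := by
  rw [← mul_assoc, G.s_x1]
theorem s_y (G : EGens x x' y y' z z') : y * y = z' := G.yy
theorem s_yR (G : EGens x x' y y' z z') (u : T) : y * (y * u) = z' * u := by
  rw [← mul_assoc, G.s_y]
theorem s_y1 (G : EGens x x' y y' z z') : y' * y' = z * z' := G.y'y'
theorem s_y1R (G : EGens x x' y y' z z') (u : T) : y' * (y' * u) = z * (z' * u) := by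
  rw [← mul_assoc, G.s_y1]; simp only [mul_assoc]
theorem s_z (G : EGens x x' y y' z z') : z * z = 1 := G.zz
theorem s_zR (G : EGens x x' y y' z z') (u : T) : z * (z * u) = u := by rw [← mul_assoc, G.s_z, one_mul]
theorem s_z1 (G : EGens x x' y y' z z') : z' * z' = 1 := G.z'z'
theorem s_z1R (G : EGens x x' y y' z z') (u : T) : z' * (z' * u) = u := by rw [← mul_assoc, G.s_z1, one_mul]
theorem r_y_x (G : EGens x x' y y' z z') : y * x = x * (y * z) := G.yx
theorem r_y_xR (G : EGens x x' y y' z z') (u : T) : y * (x * u) = x * (y * (z * u)) := by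
  rw [← mul_assoc, G.r_y_x]; simp only [mul_assoc]
theorem r_y_x1 (G : EGens x x' y y' z z') : y * x' = x' * (y * (z * z')) := G.yx'
theorem r_y_x1R (G : EGens x x' y y' z z') (u : T) : y * (x' * u) = x' * (y * (z * (z' * u))) := by
  rw [← mul_assoc, G.r_y_x1]; simp only [mul_assoc]
theorem r_y1_x (G : EGens x x' y y' z z') : y' * x = x * (y' * (z * z')) := G.y'x
theorem r_y1_xR (G : EGens x x' y y' z z') (u : T) : y' * (x * u) = x * (y' * (z * (z' * u))) := by
  rw [← mul_assoc, G.r_y1_x]; simp only [mul_assoc]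
theorem r_y1_x1 (G : EGens x x' y y' z z') : y' * x' = x' * (y' * z') := G.y'x'
theorem r_y1_x1R (G : EGens x x' y y' z z') (u : T) : y' * (x' * u) = x' * (y' * (z' * u)) := by
  rw [← mul_assoc, G.r_y1_x1]; simp only [mul_assoc]
theorem r_x1_x (G : EGens x x' y y' z z') : x' * x = x * x' := G.x'x
theorem r_x1_xR (G : EGens x x' y y' z z') (u : T) : x' * (x * u) = x * (x' * u) := by
  rw [← mul_assoc, G.r_x1_x]; simp only [mul_assoc]
theorem r_y1_y (G : EGens x x' y y' z z') : y' * y = y * y' := G.y'y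
theorem r_y1_yR (G : EGens x x' y y' z z') (u : T) : y' * (y * u) = y * (y' * u) := by
  rw [← mul_assoc, G.r_y1_y]; simp only [mul_assoc]
theorem r_z_x (G : EGens x x' y y' z z') : z * x = x * z := G.zc _
theorem r_z_xR (G : EGens x x' y y' z z') (u : T) : z * (x * u) = x * (z * u) := by
  rw [← mul_assoc, G.r_z_x, mul_assoc]
theorem r_z_x1 (G : EGens x x' y y' z z') : z * x' = x' * z := G.zc _
theorem r_z_x1R (G : EGens x x' y y' z z') (u : T) : z * (x' * u) = x' * (z * u) := by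
  rw [← mul_assoc, G.r_z_x1, mul_assoc]
theorem r_z_y (G : EGens x x' y y' z z') : z * y = y * z := G.zc _
theorem r_z_yR (G : EGens x x' y y' z z') (u : T) : z * (y * u) = y * (z * u) := by
  rw [← mul_assoc, G.r_z_y, mul_assoc]
theorem r_z_y1 (G : EGens x x' y y' z z') : z * y' = y' * z := G.zc _
theorem r_z_y1R (G : EGens x x' y y' z z') (u : T) : z * (y' * u) = y' * (z * u) := by
  rw [← mul_assoc, G.r_z_y1, mul_assoc]
theorem r_z1_x (G : EGens x x' y y' z z') : z' * x = x * z' := G.z'c _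
theorem r_z1_xR (G : EGens x x' y y' z z') (u : T) : z' * (x * u) = x * (z' * u) := by
  rw [← mul_assoc, G.r_z1_x, mul_assoc]
theorem r_z1_x1 (G : EGens x x' y y' z z') : z' * x' = x' * z' := G.z'c _
theorem r_z1_x1R (G : EGens x x' y y' z z') (u : T) : z' * (x' * u) = x' * (z' * u) := by
  rw [← mul_assoc, G.r_z1_x1, mul_assoc]
theorem r_z1_y (G : EGens x x' y y' z z') : z' * y = y * z' := G.z'c _
theorem r_z1_yR (G : EGens x x' y y' z z') (u : T) : z' * (y * u) = y * (z' * u) := by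
  rw [← mul_assoc, G.r_z1_y, mul_assoc]
theorem r_z1_y1 (G : EGens x x' y y' z z') : z' * y' = y' * z' := G.z'c _
theorem r_z1_y1R (G : EGens x x' y y' z z') (u : T) : z' * (y' * u) = y' * (z' * u) := by
  rw [← mul_assoc, G.r_z1_y1, mul_assoc]
theorem r_z1_z (G : EGens x x' y y' z z') : z' * z = z * z' := G.z'c _
theorem r_z1_zR (G : EGens x x' y y' z z') (u : T) : z' * (z * u) = z * (z' * u) := by
  rw [← mul_assoc, G.r_z1_z, mul_assoc]

theorem pX_add (G : EGens x x' y y' z z') (α β : F4) :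
    pX x x' z z' α * pX x x' z z' β = pX x x' z z' (α + β) * pw z z' (α * β) := by
  cases α <;> cases β <;>
    simp only [add_tbl, mul_tbl, F4.add, F4.mul, pX, pY, pw, mul_assoc, mul_one, one_mul, G.s_x, G.s_xR, G.s_x1, G.s_x1R, G.s_y, G.s_yR, G.s_y1, G.s_y1R, G.s_z, G.s_zR, G.s_z1, G.s_z1R, G.r_y_x, G.r_y_xR, G.r_y_x1, G.r_y_x1R, G.r_y1_x, G.r_y1_xR, G.r_y1_x1, G.r_y1_x1R, G.r_x1_x, G.r_x1_xR, G.r_y1_y, G.r_y1_yR, G.r_z_x, G.r_z_xR, G.r_z_x1, G.r_z_x1R, G.r_z_y, G.r_z_yR, G.r_z_y1, G.r_z_y1R, G.r_z1_x, G.r_z1_xR, G.r_z1_x1, G.r_z1_x1R, G.r_z1_y, G.r_z1_yR, G.r_z1_y1, G.r_z1_y1R, G.r_z1_z, G.r_z1_zR]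

theorem pY_add (G : EGens x x' y y' z z') (γ δ : F4) :
    pY y y' z γ * pY y y' z δ = pY y y' z (γ + δ) * pw z z' (F4.w2 * γ * δ) := by
  cases γ <;> cases δ <;>
    simp only [add_tbl, mul_tbl, F4.add, F4.mul, pX, pY, pw, mul_assoc, mul_one, one_mul, G.s_x, G.s_xR, G.s_x1, G.s_x1R, G.s_y, G.s_yR, G.s_y1, G.s_y1R, G.s_z, G.s_zR, G.s_z1, G.s_z1R, G.r_y_x, G.r_y_xR, G.r_y_x1, G.r_y_x1R, G.r_y1_x, G.r_y1_xR, G.r_y1_x1, G.r_y1_x1R, G.r_x1_x, G.r_x1_xR, G.r_y1_y, G.r_y1_yR, G.r_z_x, G.r_z_xR, G.r_z_x1, G.r_z_x1R, G.r_z_y, G.r_z_yR, G.r_z_y1, G.r_z_y1R, G.r_z1_x, G.r_z1_xR, G.r_z1_x1, G.r_z1_x1R, G.r_z1_y, G.r_z1_yR, G.r_z1_y1, G.r_z1_y1R, G.r_z1_z, G.r_z1_zR]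

theorem pw_add (G : EGens x x' y y' z z') (α β : F4) :
    pw z z' (α + β) = pw z z' α * pw z z' β := by
  cases α <;> cases β <;>
    simp only [add_tbl, mul_tbl, F4.add, F4.mul, pX, pY, pw, mul_assoc, mul_one, one_mul, G.s_x, G.s_xR, G.s_x1, G.s_x1R, G.s_y, G.s_yR, G.s_y1, G.s_y1R, G.s_z, G.s_zR, G.s_z1, G.s_z1R, G.r_y_x, G.r_y_xR, G.r_y_x1, G.r_y_x1R, G.r_y1_x, G.r_y1_xR, G.r_y1_x1, G.r_y1_x1R, G.r_x1_x, G.r_x1_xR, G.r_y1_y, G.r_y1_yR, G.r_z_x, G.r_z_xR, G.r_z_x1, G.r_z_x1R, G.r_z_y, G.r_z_yR, G.r_z_y1, G.r_z_y1R, G.r_z1_x, G.r_z1_xR, G.r_z1_x1, G.r_z1_x1R, G.r_z1_y, G.r_z1_yR, G.r_z1_y1, G.r_z1_y1R, G.r_z1_z, G.r_z1_zR]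

theorem pw_comm (G : EGens x x' y y' z z') (β : F4) (u : T) : pw z z' β * u = u * pw z z' β := by
  cases β <;> simp only [pw, one_mul, mul_one]
  · exact G.zc u
  · rw [mul_assoc, G.z'c, ← mul_assoc, G.zc, mul_assoc]
  · exact G.z'c u

theorem key (G : EGens x x' y y' z z') (γ α : F4) :
    pY y y' z γ * pX x x' z z' α = pX x x' z z' α * (pY y y' z γ * pw z z' (γ * α)) := by
  cases α <;> cases γ <;>
    simp only [add_tbl, mul_tbl, F4.add, F4.mul, pX, pY, pw, mul_assoc, mul_one, one_mul, G.s_x, G.s_xR, G.s_x1, G.s_x1R, G.s_y, G.s_yR, G.s_y1, G.s_y1R, G.s_z, G.s_zR, G.s_z1, G.s_z1R, G.r_y_x, G.r_y_xR, G.r_y_x1, G.r_y_x1R, G.r_y1_x, G.r_y1_xR, G.r_y1_x1, G.r_y1_x1R, G.r_x1_x, G.r_x1_xR, G.r_y1_y, G.r_y1_yR, G.r_z_x, G.r_z_xR, G.r_z_x1, G.r_z_x1R, G.r_z_y, G.r_z_yR, G.r_z_y1, G.r_z_y1R, G.r_z1_x, G.r_z1_xR, G.r_z1_x1, G.r_z1_x1R, G.r_z1_y, G.r_z1_yR, G.r_z1_y1, G.r_z1_y1R, G.r_z1_z, G.r_z1_zR]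

theorem pw_eq_one (G : EGens x x' y y' z z') {β : F4} (h : pw z z' β = 1) : β = 0 := by
  cases β
  · rfl
  · exact absurd h G.z_ne
  · exact absurd h G.zz'_ne
  · exact absurd h G.z'_ne

end EGens

/-- the parametrisation of the group -/
def ephi (x x' y y' z z' : T) (h : Ell) : T :=
  pX x x' z z' h.a * pY y y' z h.c * pw z z' h.b

namespace EGens

variable {x x' y y' z z' : T}

theorem ephi_mul (G : EGens x x' y y' z z') (h k : Ell) :
    ephi x x' y y' z z' (h * k) = ephi x x' y y' z z' h * ephi x x' y y' z z' k := by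
  obtain ⟨α, γ, β⟩ := h
  obtain ⟨α', γ', β'⟩ := k
  simp only [ephi, Ell.mul_a, Ell.mul_c, Ell.mul_b]
  have e1 : β + β' + (α + γ) * α' + F4.w2 * γ * γ' =
      α * α' + (F4.w2 * γ * γ' + (γ * α' + (β + β'))) := by ring
  rw [e1, G.pw_add, G.pw_add, G.pw_add, G.pw_add]
  set A := pX x x' z z' α
  set A' := pX x x' z z' α'
  set C := pY y y' z γ
  set C' := pY y y' z γ'
  set W := pw z z' β
  set W' := pw z z' β'
  set K := pw z z' (γ * α') with hK
  set KA := pw z z' (α * α') with hKA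
  set KC := pw z z' (F4.w2 * γ * γ') with hKC
  have hW : ∀ u : T, W * u = u * W := fun u => G.pw_comm β u
  have hK' : ∀ u : T, K * u = u * K := fun u => G.pw_comm _ u
  have hKA' : ∀ u : T, KA * u = u * KA := fun u => G.pw_comm _ u
  have hKC' : ∀ u : T, KC * u = u * KC := fun u => G.pw_comm _ u
  have hkey : C * A' = A' * (C * K) := G.key γ α'
  have hA : A * A' = pX x x' z z' (α + α') * KA := G.pX_add α α'
  have hC : C * C' = pY y y' z (γ + γ') * KC := G.pY_add γ γ'
  set AA := pX x x' z z' (α + α')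
  set CC := pY y y' z (γ + γ')
  symm
  calc A * C * W * (A' * C' * W') = A * C * (W * (A' * C' * W')) := by group
    _ = A * C * ((A' * C' * W') * W) := by rw [hW]
    _ = A * (C * A') * C' * W' * W := by group
    _ = A * (A' * (C * K)) * C' * W' * W := by rw [hkey]
    _ = (A * A') * C * (K * (C' * W' * W)) := by group
    _ = (A * A') * C * ((C' * W' * W) * K) := by rw [hK']
    _ = (A * A') * (C * C') * (W' * W * K) := by group
    _ = (AA * KA) * (CC * KC) * (W' * W * K) := by rw [hA, hC]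
    _ = AA * (KA * (CC * KC * (W' * W * K))) := by group
    _ = AA * ((CC * KC * (W' * W * K)) * KA) := by rw [hKA']
    _ = AA * CC * (KC * ((W' * W * K) * KA)) := by group
    _ = AA * CC * (((W' * W * K) * KA) * KC) := by rw [hKC']
    _ = AA * CC * ((W' * W) * (K * KA * KC)) := by group
    _ = AA * CC * ((W * W') * (K * KA * KC)) := by rw [← hW W']
    _ = AA * CC * (W * W' * K * (KA * KC)) := by group
    _ = AA * CC * (W * W' * K * (KC * KA)) := by rw [hKA' KC]
    _ = AA * CC * (K * (W * W') * (KC * KA)) := by rw [hK' (W * W')]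
    _ = AA * CC * ((K * (W * W') * KC) * KA) := by group
    _ = AA * CC * (KA * (K * (W * W') * KC)) := by rw [← hKA']
    _ = AA * CC * (KA * ((K * (W * W')) * KC)) := by group
    _ = AA * CC * (KA * (KC * (K * (W * W')))) := by rw [← hKC']
    _ = AA * CC * (KA * (KC * (K * (W * W')))) := rfl

theorem ephi_injective (G : EGens x x' y y' z z') :
    Function.Injective (ephi x x' y y' z z') := by
  have hone : ∀ h : Ell, ephi x x' y y' z z' h = 1 → h = 1 := by
    rintro ⟨α, γ, β⟩ h1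
    simp only [ephi] at h1
    set A := pX x x' z z' α with hA
    set C := pY y y' z γ with hC
    set W := pw z z' β with hW
    have hWc : ∀ u : T, W * u = u * W := fun u => G.pw_comm β u
    have hγ : γ = 0 := by
      have hAx : A * x = x * A := by
        have h1 := G.pX_add α 1
        have h2 := G.pX_add 1 α
        rw [add_comm, mul_comm α 1] at h1
        rw [← h2] at h1
        exact h1
      have hk := G.key γ 1
      rw [mul_one] at hk
      have hpx : pX x x' z z' 1 = x := rfl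
      rw [hpx] at hk
      have e : (A * C * W) * x = x * (A * C * W) * pw z z' γ := by
        calc (A * C * W) * x = A * C * (W * x) := by group
          _ = A * C * (x * W) := by rw [hWc]
          _ = A * (C * x) * W := by group
          _ = A * (x * (C * pw z z' γ)) * W := by rw [hk]
          _ = (A * x) * C * (pw z z' γ * W) := by group
          _ = (x * A) * C * (W * pw z z' γ) := by rw [hAx, G.pw_comm γ W]
          _ = x * (A * C * W) * pw z z' γ := by group
      rw [h1, one_mul, mul_one] at e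
      exact G.pw_eq_one (mul_left_cancel (a := x) (by rw [← e, mul_one]))
    have hα : α = 0 := by
      have hCy : C * y = y * C := by
        have h1 := G.pY_add γ 1
        have h2 := G.pY_add 1 γ
        have e3 : F4.w2 * γ * 1 = F4.w2 * 1 * γ := by ring
        rw [add_comm, e3] at h1
        exact h1.trans h2.symm
      have hk := G.key 1 α
      rw [one_mul] at hk
      have hpy : pY y y' z 1 = y := rfl
      rw [hpy] at hk
      have e : y * (A * C * W) = (A * C * W) * y * pw z z' α := by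
        calc y * (A * C * W) = (y * A) * C * W := by group
          _ = (A * (y * pw z z' α)) * C * W := by rw [hk]
          _ = A * y * (pw z z' α * (C * W)) := by group
          _ = A * y * ((C * W) * pw z z' α) := by rw [G.pw_comm α]
          _ = A * (y * C) * W * pw z z' α := by group
          _ = A * (C * y) * W * pw z z' α := by rw [hCy]
          _ = A * C * (y * W) * pw z z' α := by group
          _ = A * C * (W * y) * pw z z' α := by rw [hWc]
          _ = (A * C * W) * y * pw z z' α := by group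
      rw [h1, one_mul, mul_one] at e
      exact G.pw_eq_one (mul_left_cancel (a := y) (by rw [← e, mul_one]))
    have hβ : β = 0 := by
      rw [hA, hC, hα, hγ] at h1
      have e1 : pX x x' z z' 0 = 1 := rfl
      have e2 : pY y y' z 0 = 1 := rfl
      rw [e1, e2, one_mul, one_mul] at h1
      exact G.pw_eq_one h1
    rw [hα, hγ, hβ]
    rfl
  intro h k e
  have h2 : ephi x x' y y' z z' (h⁻¹ * k) = 1 := by
    have h3 : ephi x x' y y' z z' (h * (h⁻¹ * k)) = ephi x x' y y' z z' h := by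
      rw [mul_inv_cancel_left, e]
    rw [G.ephi_mul] at h3
    exact mul_left_cancel (a := ephi x x' y y' z z' h) (by rw [h3, mul_one])
  have := hone _ h2
  exact (inv_mul_eq_one.mp this)

/-- a group of order 64 with the relations `EGens` is the group `Ell` -/
theorem nonempty_ell_equiv [Finite T] (G : EGens x x' y y' z z') (hT : Nat.card T = 64) :
    Nonempty (Ell ≃* T) := by
  have hb : Function.Bijective (ephi x x' y y' z z') := by
    rw [Nat.bijective_iff_injective_and_card]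
    exact ⟨G.ephi_injective, by rw [Ell.card_eq, hT]⟩
  exact ⟨MulEquiv.ofBijective (MonoidHom.mk' (ephi x x' y y' z z') G.ephi_mul) hb⟩

end EGens

end Cfsg.Agent.Lib.H2.RT
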