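import Mathlib
import Cfsg.Agent.Lib.H2.RTG

set_option autoImplicit false

/-!
# Nonabelian groups of order 64 with a fixed-point-free automorphism of order three
-/

namespace Cfsg.Agent.Lib.H2.RT

open Subgroup Cfsg.Agent.Lib.H2.L34

variable {T : Type*} [Group T]

namespace SpX

variable {ρ : MulAut T} [Finite T]

omit [Finite T] in
theorem exists_noncomm_of_notMem (_S : Sp ρ) {a : T} (haZ : a ∉ center T) : ∃ k : T, cm a k ≠ 1 := by
  by_contra hcon
  push Not at hcon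
  apply haZ
  rw [Subgroup.mem_center_iff]
  intro k
  exact ((cm_eq_one_iff _ _).mp (hcon k)).symm

/-- hyperbolic case: a noncentral involution -/
theorem exists_gens_of_inv (S : Sp ρ) {a : T} (haa : a * a = 1) (haZ : a ∉ center T) :
    ∃ a c : T, a * a = 1 ∧ c * c = 1 ∧ cm a c ≠ 1 := by
  obtain ⟨k, hk⟩ := exists_noncomm_of_notMem S haZ
  set w := cm a k with hw
  have hwZ : w ∈ center T := S.comm a k
  have hρw : ρ w ∈ center T := (mem_center_rho ρ w).mpr hwZ
  have hρaa : ρ a * ρ a = 1 := by rw [← map_mul, haa, map_one]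
  rcases S.center_cases hwZ hk (S.sq k) with hr | hr | hr | hr
  · exact ⟨a, k, haa, hr, hk⟩
  · refine ⟨a, k * a, haa, ?_, ?_⟩
    · rw [S.sq_mul, S.cm_symm, ← hw, hr, haa, mul_one]
      exact S.zsq w hwZ
    · rw [S.cm_mul_right, cm_self, mul_one]; exact hk
  · refine ⟨a, k * (a * ρ a), haa, ?_, ?_⟩
    · have e1 : cm k (a * ρ a) = ρ w := by
        rw [S.cm_mul_right, S.cm_rho_key, S.cm_symm, ← hw, S.rho_rho_center hwZ, ← mul_assoc,
          S.zsq w hwZ, one_mul]
      have e2 : (a * ρ a) * (a * ρ a) = 1 := by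
        rw [S.sq_mul, S.cm_rho_self, haa, hρaa]; group
      rw [S.sq_mul, e1, hr, e2, mul_one]
      exact S.zsq _ hρw
    · rw [S.cm_mul_right, S.cm_mul_right, cm_self, S.cm_rho_self, mul_one, mul_one]; exact hk
  · refine ⟨a, k * ρ a, haa, ?_, ?_⟩
    · rw [S.sq_mul, S.cm_rho_key, S.cm_symm, ← hw, hr, hρaa, mul_one]
      exact S.zsq _ ((mem_center_rho ρ _).mpr hρw)
    · rw [S.cm_mul_right, S.cm_rho_self, mul_one]; exact hk

theorem heis_of_inv (S : Sp ρ) {a : T} (haa : a * a = 1) (haZ : a ∉ center T) :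
    Nonempty (Heis ≃* T) := by
  obtain ⟨a, c, ha, hc, hac⟩ := exists_gens_of_inv S haa haZ
  exact (S.gens_of ha hc hac).nonempty_heis_equiv S.card

/-- elliptic case: all involutions central -/
theorem egens_of_ell (S : Sp ρ) (h : ∀ a : T, a * a = 1 → a ∈ center T) :
    ∃ x y z : T, EGens x (ρ x) y (ρ y) z (ρ z) := by
  -- a noncentral element
  obtain ⟨x, hx⟩ : ∃ x : T, x ∉ center T := by
    by_contra hcon
    push Not at hcon
    have : center T = ⊤ := by ext y; simp [hcon y]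
    have h1 := S.cardZ
    rw [this, Subgroup.card_top, S.card] at h1
    omega
  set z := x * x with hz
  have hzZ : z ∈ center T := S.sq x
  have hz1 : z ≠ 1 := fun e => hx (h x e)
  have hρzZ : ρ z ∈ center T := (mem_center_rho ρ z).mpr hzZ
  have hρρz : ρ (ρ z) = z * ρ z := S.rho_rho_center hzZ
  have hprod : z * ρ z * ρ (ρ z) = 1 := S.fpf.prod3 z
  obtain ⟨k, hk⟩ := exists_noncomm_of_notMem S hx
  set w := cm x k with hw
  have hwZ : w ∈ center T := S.comm x k
  -- `y₀` with `[x, y₀] = z`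
  obtain ⟨y₀, hy₀⟩ : ∃ y₀ : T, cm x y₀ = z := by
    rcases S.center_cases hwZ hk hzZ with e | e | e | e
    · exact absurd e hz1
    · exact ⟨k, e.symm⟩
    · exact ⟨ρ (ρ k), by rw [S.cm_rho_key, S.cm_rho_key, ← hw, S.fpf.cube, e]⟩
    · exact ⟨ρ k, by rw [S.cm_rho_key, ← hw, e]⟩
  have hcmρ : cm x (ρ x) = 1 := S.cm_rho_self x
  have hcy₀ρ : cm y₀ (ρ x) = ρ (ρ z) := by
    rw [S.cm_rho_key, S.cm_symm, hy₀]
  have hρxx : ρ x * ρ x = ρ z := by rw [← map_mul]
  obtain ⟨y, hxy, hyy⟩ : ∃ y : T, cm x y = z ∧ y * y = ρ z := by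
    rcases S.center_cases hzZ hz1 (S.sq y₀) with e | e | e | e
    · exfalso
      have := h y₀ e
      rw [S.cm_center_right this] at hy₀
      exact hz1 hy₀.symm
    · exfalso
      have e2 : (y₀ * ρ x) * (y₀ * ρ x) = 1 := by
        rw [S.sq_mul, hcy₀ρ, e, hρxx]
        calc ρ (ρ z) * z * ρ z = z * ρ z * ρ (ρ z) := by
              rw [Subgroup.mem_center_iff.mp ((mem_center_rho ρ _).mpr hρzZ) (z * ρ z),
                mul_assoc]
          _ = 1 := hprod
      have := h _ e2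
      have h3 := S.cm_center_right this x
      rw [S.cm_mul_right, hy₀, hcmρ, mul_one] at h3
      exact hz1 h3
    · exact ⟨y₀, hy₀, e⟩
    · refine ⟨y₀ * ρ x, by rw [S.cm_mul_right, hy₀, hcmρ, mul_one], ?_⟩
      rw [S.sq_mul, hcy₀ρ, e, hρxx, S.zsq _ ((mem_center_rho ρ _).mpr hρzZ), one_mul]
  have hzc : ∀ u : T, z * u = u * z := fun u => (Subgroup.mem_center_iff.mp hzZ u).symm
  have hz'c : ∀ u : T, ρ z * u = u * ρ z := fun u => (Subgroup.mem_center_iff.mp hρzZ u).symm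
  have hyx : y * x = x * (y * z) := by
    rw [swap y x, S.cm_symm, hxy, hzc x, mul_assoc, hzc y]
  have hc2 : ∀ u : T, (z * ρ z) * u = u * (z * ρ z) := fun u =>
    (Subgroup.mem_center_iff.mp (mul_mem hzZ hρzZ) u).symm
  refine ⟨x, y, z, rfl, hρxx, hyy, by rw [← map_mul, hyy, hρρz], S.zsq z hzZ, S.zsq _ hρzZ,
    (S.fpf.comm x).symm, (S.fpf.comm y).symm, hyx, ?_, ?_, ?_, hzc, hz'c, hz1, ?_, ?_⟩
  · rw [← map_mul, hyx, map_mul, map_mul]
  · have : cm (ρ y) x = z * ρ z := by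
      rw [S.cm_symm, S.cm_rho_key, hxy, hρρz]
    rw [swap (ρ y) x, this, hc2, mul_assoc, hc2]
  · have : cm y (ρ x) = z * ρ z := by
      rw [S.cm_rho_key, S.cm_symm, hxy, hρρz]
    rw [swap y (ρ x), this, hc2, mul_assoc, hc2]
  · intro e
    rw [← map_one ρ] at e
    exact hz1 (ρ.injective e)
  · intro e
    have : ρ z = z⁻¹ := eq_inv_of_mul_eq_one_right e
    rw [S.z_inv hzZ] at this
    exact hz1 (S.fpf.fpf z this)

/-- the two groups of order 64 -/
theorem heis_or_ell (S : Sp ρ) : Nonempty (Heis ≃* T) ∨ Nonempty (Ell ≃* T) := by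
  by_cases h : ∀ a : T, a * a = 1 → a ∈ center T
  · right
    obtain ⟨x, y, z, G⟩ := egens_of_ell S h
    exact G.nonempty_ell_equiv S.card
  · left
    push Not at h
    obtain ⟨a, haa, haZ⟩ := h
    exact heis_of_inv S haa haZ

end SpX

end Cfsg.Agent.Lib.H2.RT
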