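import Mathlib
import Cfsg.Agent.Lib.H13.AutPSU1

set_option autoImplicit false
set_option linter.unusedSimpArgs false
set_option linter.unusedSectionVars false
set_option linter.unusedVariables false

/-!
# A model of the Sylow 2-subgroup of `SU_3(q)`, `q` even
-/

namespace Cfsg.Agent.Lib.H2.SU3

open Cfsg.Agent.Lib.H13.AutPSU

variable {F : Type*} [Field F] {q : ℕ} (D : UF F q)

/-- the model: pairs `(a, β)` with `β + τ β = a τ a` -/
def TU : Type _ := {p : F × F // p.2 + D.τ p.2 = p.1 * D.τ p.1}

namespace TU

variable {D}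

/-- first coordinate -/
def ca (x : TU D) : F := x.1.1

/-- second coordinate -/
def cb (x : TU D) : F := x.1.2

theorem rel (x : TU D) : cb x + D.τ (cb x) = ca x * D.τ (ca x) := x.2

theorem ext {x y : TU D} (h1 : ca x = ca y) (h2 : cb x = cb y) : x = y :=
  Subtype.ext (Prod.ext h1 h2)

/-- constructor -/
def mk (a β : F) (h : β + D.τ β = a * D.τ a) : TU D := ⟨(a, β), h⟩

@[simp] theorem ca_mk (a β : F) (h : β + D.τ β = a * D.τ a) : ca (mk a β h) = a := rfl

@[simp] theorem cb_mk (a β : F) (h : β + D.τ β = a * D.τ a) : cb (mk a β h) = β := rfl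

instance : Mul (TU D) :=
  ⟨fun x y => mk (ca x + ca y) (cb x + cb y + D.τ (ca x) * ca y) (by
    have hx := rel x
    have hy := rel y
    simp only [map_add, map_mul, D.hτ2]
    linear_combination hx + hy)⟩

instance : One (TU D) := ⟨mk 0 0 (by simp)⟩

instance : Inv (TU D) :=
  ⟨fun x => mk (-ca x) (D.τ (cb x)) (by
    have hx := rel x
    simp only [map_neg, D.hτ2]
    linear_combination hx)⟩

@[simp] theorem ca_mul (x y : TU D) : ca (x * y) = ca x + ca y := rfl

@[simp] theorem cb_mul (x y : TU D) : cb (x * y) = cb x + cb y + D.τ (ca x) * ca y := rfl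

@[simp] theorem ca_one : ca (1 : TU D) = 0 := rfl

@[simp] theorem cb_one : cb (1 : TU D) = 0 := rfl

@[simp] theorem ca_inv (x : TU D) : ca x⁻¹ = -ca x := rfl

@[simp] theorem cb_inv (x : TU D) : cb x⁻¹ = D.τ (cb x) := rfl

instance : Group (TU D) where
  mul_assoc x y z := by
    apply ext
    · simp only [ca_mul]; ring
    · simp only [cb_mul, ca_mul, map_add]; ring
  one_mul x := by
    apply ext
    · simp
    · simp
  mul_one x := by
    apply ext
    · simp
    · simp
  inv_mul_cancel x := by
    apply ext
    · simp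
    · have hx := rel x
      simp only [cb_mul, cb_inv, ca_inv, cb_one, map_neg]
      linear_combination hx

end TU

/-- the fixed field of `τ`, as an additive subgroup -/
def fixK : AddSubgroup F where
  carrier := {c | D.τ c = c}
  add_mem' := by
    intro a b ha hb
    show D.τ (a + b) = a + b
    rw [map_add, ha, hb]
  zero_mem' := map_zero _
  neg_mem' := by
    intro a ha
    show D.τ (-a) = -a
    rw [map_neg, ha]

theorem mem_fixK {c : F} : c ∈ fixK D ↔ D.τ c = c := Iff.rfl

theorem tau_fixK (c : fixK D) : D.τ (c : F) = c := c.2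

/-- the norm, as an element of the fixed field -/
def nmK (a : F) : fixK D := ⟨a * D.τ a, fixed_mul_tau D a⟩

/-- the trace, as an element of the fixed field -/
def trK (a : F) : fixK D := ⟨a + D.τ a, fixed_add_tau D a⟩

@[simp] theorem coe_nmK (a : F) : (nmK D a : F) = a * D.τ a := rfl

@[simp] theorem coe_trK (a : F) : (trK D a : F) = a + D.τ a := rfl

theorem trK_add (a b : F) : trK D (a + b) = trK D a + trK D b := by
  apply Subtype.ext
  simp only [coe_trK, AddSubgroup.coe_add, map_add]
  ring

theorem nmK_add (a b : F) : nmK D (a + b) = nmK D a + nmK D b + trK D (a * D.τ b) := by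
  apply Subtype.ext
  simp only [coe_trK, coe_nmK, AddSubgroup.coe_add, map_add, map_mul, D.hτ2]
  ring

theorem exists_trK_eq (c : fixK D) : ∃ a : F, trK D a = c := by
  obtain ⟨a, ha⟩ := D.tr_surj c.1 c.2
  exact ⟨a, Subtype.ext ha⟩

theorem exists_nmK_eq (c : fixK D) : ∃ a : F, nmK D a = c := by
  by_cases hc : (c : F) = 0
  · exact ⟨0, Subtype.ext (by simp [hc])⟩
  · obtain ⟨a, ha⟩ := D.nm_surj c.1 c.2 hc
    exact ⟨a, Subtype.ext ha⟩

theorem exists_not_fixed : ∃ θ : F, D.τ θ ≠ θ := D.hne

section chartwo

variable [CharP F 2]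

theorem add_self (a : F) : a + a = 0 := CharTwo.add_self_eq_zero a

theorem eq_of_add_eq_zero {a b : F} (h : a + b = 0) : a = b := by
  have := CharTwo.add_self_eq_zero b
  have h2 : a = -b := eq_neg_of_add_eq_zero_left h
  rw [h2, CharTwo.neg_eq]

theorem trK_of_fixed (c : fixK D) : trK D (c : F) = 0 := by
  apply Subtype.ext
  rw [coe_trK, tau_fixK, add_self]
  rfl

namespace TU

variable {D}

/-- central elements -/
def zU (c : fixK D) : TU D := mk 0 c.1 (by rw [tau_fixK, add_self]; simp)

@[simp] theorem ca_zU (c : fixK D) : ca (zU c) = 0 := rfl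

@[simp] theorem cb_zU (c : fixK D) : cb (zU c) = c := rfl

theorem zU_add (c d : fixK D) : zU (c + d) = zU c * zU d := by
  apply ext
  · simp
  · simp

theorem zU_zero : zU (0 : fixK D) = 1 := by
  apply ext
  · simp
  · simp

theorem zU_injective : Function.Injective (zU : fixK D → TU D) := by
  intro c d h
  apply Subtype.ext
  have := congrArg cb h
  simpa using this

theorem exists_ca (a : F) : ∃ x : TU D, ca x = a := by
  obtain ⟨β, hβ⟩ := D.tr_surj (a * D.τ a) (fixed_mul_tau D a)
  exact ⟨mk a β hβ, rfl⟩

/-- a chosen element with given first coordinate -/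
noncomputable def lift (a : F) : TU D := (exists_ca (D := D) a).choose

@[simp] theorem ca_lift (a : F) : ca (lift (D := D) a) = a := (exists_ca (D := D) a).choose_spec

theorem zU_comm (c : fixK D) (x : TU D) : zU c * x = x * zU c := by
  apply ext
  · simp [add_comm]
  · simp [add_comm]

theorem cb_fixed_of_ca_eq_zero {x : TU D} (h : ca x = 0) : D.τ (cb x) = cb x := by
  have := rel x
  rw [h, zero_mul] at this
  exact (eq_of_add_eq_zero this).symm

/-- elements with zero first coordinate are central elements `zU` -/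
theorem eq_zU_of_ca_eq_zero {x : TU D} (h : ca x = 0) :
    x = zU ⟨cb x, cb_fixed_of_ca_eq_zero h⟩ := by
  apply ext
  · rw [h]; rfl
  · rfl

theorem mem_center_iff {x : TU D} : x ∈ Subgroup.center (TU D) ↔ ca x = 0 := by
  constructor
  · intro hx
    rw [Subgroup.mem_center_iff] at hx
    have key : ∀ c : F, D.τ c * ca x = D.τ (ca x) * c := by
      intro c
      have := congrArg cb (hx (lift c))
      simp only [cb_mul, ca_lift] at this
      linear_combination this
    have h1 := key 1
    rw [map_one, one_mul, mul_one] at h1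
    obtain ⟨θ, hθ⟩ := D.hne
    have h2 := key θ
    rw [← h1] at h2
    have h3 : ca x * (D.τ θ - θ) = 0 := by linear_combination h2
    rcases mul_eq_zero.1 h3 with h4 | h4
    · exact h4
    · exact absurd (sub_eq_zero.1 h4) hθ
  · intro hx
    rw [Subgroup.mem_center_iff]
    intro y
    apply ext
    · simp [add_comm]
    · simp only [cb_mul, hx, map_zero]
      ring

theorem mul_self_eq (x : TU D) : x * x = zU (nmK D (ca x)) := by
  apply ext
  · simp [add_self]
  · simp only [cb_mul, cb_zU, coe_nmK, add_self]
    ring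

end TU

end chartwo

end Cfsg.Agent.Lib.H2.SU3
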