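import Mathlib
import Cfsg.Agent.Lib.H2.SU3A

set_option autoImplicit false
set_option linter.unusedSimpArgs false
set_option linter.unusedSectionVars false
set_option linter.unusedVariables false

/-!
# Automorphisms of the model `TU`: the induced maps on `S/Z(S)` and on `Z(S)`
-/

namespace Cfsg.Agent.Lib.H2.SU3

open Cfsg.Agent.Lib.H13.AutPSU TU

variable {F : Type*} [Field F] {q : ℕ} {D : UF F q} [CharP F 2]

theorem aut_mem_center (α : MulAut (TU D)) {x : TU D} (hx : x ∈ Subgroup.center (TU D)) :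
    α x ∈ Subgroup.center (TU D) := by
  rw [Subgroup.mem_center_iff] at hx ⊢
  intro y
  have e1 : y = α (α.symm y) := (α.apply_symm_apply y).symm
  rw [e1, ← map_mul, ← map_mul, hx]

theorem ca_aut_of_ca_eq_zero (α : MulAut (TU D)) {x : TU D} (hx : ca x = 0) : ca (α x) = 0 :=
  mem_center_iff.1 (aut_mem_center α (mem_center_iff.2 hx))

theorem ca_aut_congr (α : MulAut (TU D)) {x y : TU D} (h : ca x = ca y) :
    ca (α x) = ca (α y) := by
  have h1 : ca (x⁻¹ * y) = 0 := by rw [ca_mul, ca_inv, h]; ring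
  have h2 := ca_aut_of_ca_eq_zero α h1
  have h3 : y = x * (x⁻¹ * y) := by group
  rw [h3, map_mul, ca_mul, h2, add_zero]

/-- the action of an automorphism on `S/Z(S) = F` -/
noncomputable def rhoFun (α : MulAut (TU D)) (a : F) : F := ca (α (lift a))

theorem rhoFun_ca (α : MulAut (TU D)) (x : TU D) : rhoFun α (ca x) = ca (α x) :=
  ca_aut_congr α (ca_lift _)

theorem rhoFun_add (α : MulAut (TU D)) (a a' : F) :
    rhoFun α (a + a') = rhoFun α a + rhoFun α a' := by
  have h1 : a + a' = ca (lift (D := D) a * lift a') := by rw [ca_mul, ca_lift, ca_lift]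
  rw [h1, rhoFun_ca, map_mul, ca_mul]
  rfl

theorem rhoFun_one (a : F) : rhoFun (1 : MulAut (TU D)) a = a := by
  unfold rhoFun
  rw [MulAut.one_apply, ca_lift]

theorem rhoFun_mul (α β : MulAut (TU D)) (a : F) :
    rhoFun (α * β) a = rhoFun α (rhoFun β a) := by
  show ca ((α * β) (lift a)) = rhoFun α (ca (β (lift a)))
  rw [rhoFun_ca]
  rfl

/-- the homomorphism `Aut(S) → Sym(S/Z(S))` -/
noncomputable def rho : MulAut (TU D) →* Equiv.Perm F where
  toFun α :=
    { toFun := rhoFun α
      invFun := rhoFun α⁻¹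
      left_inv := fun a => by rw [← rhoFun_mul, inv_mul_cancel, rhoFun_one]
      right_inv := fun a => by rw [← rhoFun_mul, mul_inv_cancel, rhoFun_one] }
  map_one' := by
    ext a
    exact rhoFun_one a
  map_mul' := by
    intro α β
    ext a
    exact rhoFun_mul α β a

theorem rho_ca (α : MulAut (TU D)) (x : TU D) : rho α (ca x) = ca (α x) := rhoFun_ca α x

theorem rho_add (α : MulAut (TU D)) (a a' : F) : rho α (a + a') = rho α a + rho α a' :=
  rhoFun_add α a a'

theorem rho_zero (α : MulAut (TU D)) : rho α 0 = 0 := by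
  have := rho_add α 0 0
  rw [add_zero] at this
  exact left_eq_add.1 this

theorem rho_ne_zero (α : MulAut (TU D)) {a : F} (ha : a ≠ 0) : rho α a ≠ 0 := by
  intro h0
  apply ha
  apply (rho α).injective
  rw [h0, rho_zero]

theorem rho_inv_apply (α : MulAut (TU D)) (a : F) : rho α⁻¹ (rho α a) = a := by
  rw [← Equiv.Perm.mul_apply, ← map_mul, inv_mul_cancel, map_one]
  rfl

theorem rho_apply_inv (α : MulAut (TU D)) (a : F) : rho α (rho α⁻¹ a) = a := by
  rw [← Equiv.Perm.mul_apply, ← map_mul, mul_inv_cancel, map_one]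
  rfl

/-- the action of an automorphism on the centre -/
noncomputable def gam (α : MulAut (TU D)) (c : fixK D) : fixK D :=
  ⟨cb (α (zU c)), cb_fixed_of_ca_eq_zero (ca_aut_of_ca_eq_zero α (ca_zU c))⟩

theorem aut_zU (α : MulAut (TU D)) (c : fixK D) : α (zU c) = zU (gam α c) :=
  eq_zU_of_ca_eq_zero (ca_aut_of_ca_eq_zero α (ca_zU c))

theorem gam_add (α : MulAut (TU D)) (c d : fixK D) : gam α (c + d) = gam α c + gam α d := by
  apply zU_injective
  rw [← aut_zU, zU_add, map_mul, aut_zU, aut_zU, zU_add]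

theorem gam_zero (α : MulAut (TU D)) : gam α 0 = 0 := by
  have := gam_add α 0 0
  rw [add_zero] at this
  exact left_eq_add.1 this

theorem gam_one (c : fixK D) : gam (1 : MulAut (TU D)) c = c := by
  apply zU_injective
  rw [← aut_zU, MulAut.one_apply]

theorem gam_mul (α β : MulAut (TU D)) (c : fixK D) : gam (α * β) c = gam α (gam β c) := by
  apply zU_injective
  rw [← aut_zU, MulAut.mul_apply, aut_zU, aut_zU]

theorem gam_inv (α : MulAut (TU D)) (c : fixK D) : gam α⁻¹ (gam α c) = c := by
  rw [← gam_mul, inv_mul_cancel, gam_one]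

theorem gam_inv' (α : MulAut (TU D)) (c : fixK D) : gam α (gam α⁻¹ c) = c := by
  rw [← gam_mul, mul_inv_cancel, gam_one]

theorem gam_injective (α : MulAut (TU D)) : Function.Injective (gam α) := by
  intro c d h
  rw [← gam_inv α c, h, gam_inv]

/-- squares: `γ(N a) = N(ρ a)` -/
theorem gam_nmK (α : MulAut (TU D)) (a : F) : gam α (nmK D a) = nmK D (rho α a) := by
  apply zU_injective
  have h1 := mul_self_eq (lift (D := D) a)
  have h2 := mul_self_eq (α (lift (D := D) a))
  rw [← map_mul, h1, aut_zU, ca_lift] at h2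
  rw [h2]
  rfl

/-- the polarisation: `γ(Tr(a τ c)) = Tr(ρ a τ(ρ c))` -/
theorem gam_trK (α : MulAut (TU D)) (a c : F) :
    gam α (trK D (a * D.τ c)) = trK D (rho α a * D.τ (rho α c)) := by
  have e1 := gam_nmK α (a + c)
  rw [nmK_add, gam_add, gam_add, gam_nmK, gam_nmK, rho_add, nmK_add] at e1
  exact add_left_cancel e1

end Cfsg.Agent.Lib.H2.SU3
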