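import Mathlib
import Cfsg.Agent.Lib.H2.SU3B

set_option autoImplicit false
set_option linter.unusedSimpArgs false
set_option linter.unusedSectionVars false
set_option linter.unusedVariables false

/-!
# Additive bijections preserving the lines over the fixed field are semilinear
-/

namespace Cfsg.Agent.Lib.H2.SU3

open Cfsg.Agent.Lib.H13.AutPSU TU

variable {F : Type*} [Field F] {q : ℕ} (D : UF F q)

/-- `c` lies on the line through `a` over the fixed field -/
def Kl (a c : F) : Prop := ∃ l : F, D.τ l = l ∧ c = l * a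

theorem Kl_self_mul {l : F} (hl : D.τ l = l) (a : F) : Kl D a (l * a) := ⟨l, hl, rfl⟩

theorem fixed_sub {a b : F} (ha : D.τ a = a) (hb : D.τ b = b) : D.τ (a - b) = a - b := by
  rw [map_sub, ha, hb]

theorem fixed_div {a b : F} (ha : D.τ a = a) (hb : D.τ b = b) : D.τ (a / b) = a / b := by
  rw [map_div₀, ha, hb]

theorem fixed_mul {a b : F} (ha : D.τ a = a) (hb : D.τ b = b) : D.τ (a * b) = a * b := by
  rw [map_mul, ha, hb]

theorem fixed_add {a b : F} (ha : D.τ a = a) (hb : D.τ b = b) : D.τ (a + b) = a + b := by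
  rw [map_add, ha, hb]

section semilinear

variable (f : F → F) (hadd : ∀ a b, f (a + b) = f a + f b) (hinj : ∀ a, f a = 0 → a = 0)
  (hline : ∀ a c, a ≠ 0 → (Kl D a c ↔ Kl D (f a) (f c)))

include hadd hinj hline

theorem semi_step1 {a c : F} (ha : a ≠ 0) (hc : ¬ Kl D a c) {l m₁ m₂ : F} (hl : D.τ l = l)
    (hm₁ : D.τ m₁ = m₁) (hm₂ : D.τ m₂ = m₂)
    (h1 : f (l * a) = m₁ * f a) (h2 : f (l * c) = m₂ * f c) : m₁ = m₂ := by
  have hac : a + c ≠ 0 := by
    intro h0
    apply hc
    refine ⟨-1, by rw [map_neg, map_one], ?_⟩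
    linear_combination h0
  obtain ⟨m₃, hm₃, h3⟩ := (hline (a + c) (l * (a + c)) hac).1 (Kl_self_mul D hl _)
  rw [mul_add, hadd, hadd, h1, h2] at h3
  have hfa : f a ≠ 0 := fun h0 => ha (hinj a h0)
  have hfc : ¬ Kl D (f a) (f c) := fun h => hc ((hline a c ha).2 h)
  have e1 : (m₁ - m₃) * f a = (m₃ - m₂) * f c := by linear_combination h3
  by_cases h32 : m₃ = m₂
  · rw [h32, sub_self, zero_mul] at e1
    rcases mul_eq_zero.1 e1 with h4 | h4
    · exact sub_eq_zero.1 h4
    · exact absurd h4 hfa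
  · exfalso
    apply hfc
    have h5 : m₃ - m₂ ≠ 0 := sub_ne_zero.2 h32
    refine ⟨(m₁ - m₃) / (m₃ - m₂), fixed_div D (fixed_sub D hm₁ hm₃) (fixed_sub D hm₃ hm₂), ?_⟩
    field_simp
    linear_combination -e1

theorem semi_f_one_ne : f 1 ≠ 0 := fun h0 => one_ne_zero (hinj 1 h0)

theorem semi_fixed {l : F} (hl : D.τ l = l) :
    D.τ (f l / f 1) = f l / f 1 ∧ f l = f l / f 1 * f 1 := by
  have h1 := semi_f_one_ne D f hadd hinj hline
  obtain ⟨m, hm, h2⟩ := (hline 1 (l * 1) one_ne_zero).1 (Kl_self_mul D hl 1)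
  rw [mul_one] at h2
  have h3 : f l / f 1 = m := by rw [h2]; field_simp
  rw [h3]
  exact ⟨hm, h2⟩

theorem semi_main {l : F} (hl : D.τ l = l) (a : F) : f (l * a) = f l / f 1 * f a := by
  have h0 : f 0 = 0 := by
    have := hadd 0 0
    rw [add_zero] at this
    exact left_eq_add.1 this
  by_cases ha : a = 0
  · rw [ha, mul_zero, h0, mul_zero]
  obtain ⟨hs, hs1⟩ := semi_fixed D f hadd hinj hline hl
  have hs1' : f (l * 1) = f l / f 1 * f 1 := by rw [mul_one]; exact hs1
  obtain ⟨m, hm, hma⟩ := (hline a (l * a) ha).1 (Kl_self_mul D hl a)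
  rw [hma]
  congr 1
  by_cases hKa : Kl D 1 a
  · obtain ⟨l', hl', ha'⟩ := hKa
    rw [mul_one] at ha'
    obtain ⟨θ, hθ⟩ := D.hne
    have hθ0 : θ ≠ 0 := by
      rintro rfl
      exact hθ (map_zero _)
    have h1θ : ¬ Kl D 1 θ := by
      rintro ⟨l₂, hl₂, h2⟩
      rw [mul_one] at h2
      exact hθ (by rw [h2, hl₂])
    have haθ : ¬ Kl D a θ := by
      rintro ⟨l₂, hl₂, h2⟩
      apply hθ
      rw [h2, ha']
      exact fixed_mul D hl₂ hl'
    obtain ⟨mθ, hmθ, h3⟩ := (hline θ (l * θ) hθ0).1 (Kl_self_mul D hl θ)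
    have e1 := semi_step1 D f hadd hinj hline one_ne_zero h1θ hl hs hmθ hs1' h3
    have e2 := semi_step1 D f hadd hinj hline ha haθ hl hm hmθ hma h3
    rw [e1, e2]
  · exact (semi_step1 D f hadd hinj hline one_ne_zero hKa hl hs hm hs1' hma).symm

end semilinear

section extend

variable [CharP F 2]

theorem two_eq_zero' : (2 : F) = 0 := CharTwo.two_eq_zero

/-- decomposition with respect to an element of trace one -/
theorem exists_dec {ω : F} (hω : ω + D.τ ω = 1) (a : F) :
    ∃ x y : F, D.τ x = x ∧ D.τ y = y ∧ a = x + y * ω := by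
  have h2 : (2 : F) = 0 := CharTwo.two_eq_zero
  refine ⟨a + (a + D.τ a) * ω, a + D.τ a, ?_, ?_, ?_⟩
  · have h1 : (a + (a + D.τ a) * ω) + D.τ (a + (a + D.τ a) * ω) = 0 := by
      simp only [map_add, map_mul, D.hτ2]
      linear_combination (a + D.τ a) * hω + (a + D.τ a) * h2
    exact (eq_of_add_eq_zero h1).symm
  · rw [map_add, D.hτ2, add_comm]
  · linear_combination (-(a + D.τ a) * ω) * h2

variable (f : F → F) (hadd : ∀ a b, f (a + b) = f a + f b) (hbij : Function.Bijective f)
  (hline : ∀ a c, a ≠ 0 → (Kl D a c ↔ Kl D (f a) (f c)))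
  (g : fixK D → fixK D) (gadd : ∀ c d, g (c + d) = g c + g d)
  (hN : ∀ a, (g (nmK D a) : F) = f a * D.τ (f a))

include hadd hbij hline gadd hN

theorem exists_kappa_sigma : ∃ (κ : F) (σ : F ≃+* F), κ ≠ 0 ∧ ∀ a, f a = κ * σ a := by
  have h2 : (2 : F) = 0 := CharTwo.two_eq_zero
  have f0 : f 0 = 0 := by
    have := hadd 0 0
    rw [add_zero] at this
    exact left_eq_add.1 this
  have hinj : ∀ a, f a = 0 → a = 0 := fun a ha => hbij.1 (by rw [ha, f0])
  set κ := f 1 with hκ
  have hκ0 : κ ≠ 0 := semi_f_one_ne D f hadd hinj hline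
  have hNκ0 : κ * D.τ κ ≠ 0 := mul_ne_zero hκ0 ((map_ne_zero D.τ).2 hκ0)
  -- the normalised maps
  set f' : F → F := fun a => κ⁻¹ * f a with hf'
  set g' : fixK D → F := fun c => (κ * D.τ κ)⁻¹ * (g c : F) with hg'
  have f'add : ∀ a b, f' (a + b) = f' a + f' b := by
    intro a b
    simp only [hf', hadd]
    ring
  have g'add : ∀ c d, g' (c + d) = g' c + g' d := by
    intro c d
    simp only [hg', gadd, AddSubgroup.coe_add]
    ring
  have P1 : ∀ l a, D.τ l = l → f' (l * a) = f' l * f' a := by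
    intro l a hl
    simp only [hf']
    rw [semi_main D f hadd hinj hline hl a, ← hκ]
    field_simp
  have P2 : ∀ l, D.τ l = l → D.τ (f' l) = f' l := by
    intro l hl
    have := (semi_fixed D f hadd hinj hline hl).1
    simp only [hf']
    rw [← hκ, div_eq_inv_mul] at this
    exact this
  have P3 : f' 1 = 1 := by
    simp only [hf']
    exact inv_mul_cancel₀ hκ0
  have hN' : ∀ a, f' a * D.τ (f' a) = g' (nmK D a) := by
    intro a
    simp only [hf', hg', hN, map_mul, map_inv₀]
    field_simp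
  have hT' : ∀ a c, f' a * D.τ (f' c) + D.τ (f' a) * f' c = g' (trK D (a * D.τ c)) := by
    intro a c
    have e1 := hN' (a + c)
    rw [nmK_add, g'add, g'add, ← hN', ← hN', f'add, map_add] at e1
    linear_combination e1
  -- an element of trace one
  obtain ⟨ω, hω⟩ := D.tr_surj 1 (map_one _)
  set w := f' ω with hw
  have hA0 : ∀ l : fixK D, g' l = f' l * (w + D.τ w) := by
    intro l
    have e1 := hT' ((l : F) * ω) 1
    have e2 : trK D ((l : F) * ω * D.τ 1) = l := by
      apply Subtype.ext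
      simp only [coe_trK, map_one, mul_one, map_mul, tau_fixK]
      linear_combination (l : F) * hω
    rw [e2, P3, map_one, mul_one, mul_one, P1 _ _ (tau_fixK D l), map_mul, P2 _ (tau_fixK D l)] at e1
    rw [← e1]
    ring
  have hnm1 : nmK D (1 : F) = ⟨1, map_one _⟩ := by
    apply Subtype.ext
    simp
  have hw1 : w + D.τ w = 1 := by
    have e1 := hN' 1
    rw [P3, map_one, mul_one, hnm1, hA0] at e1
    have e3 : f' ((⟨1, map_one _⟩ : fixK D) : F) = 1 := P3
    rw [e3, one_mul] at e1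
    exact e1.symm
  have hA : ∀ l : fixK D, g' l = f' l := by
    intro l
    rw [hA0, hw1, mul_one]
  have hNw : w * D.τ w = f' (ω * D.τ ω) := by
    rw [hw, hN', hA]
    rfl
  have hω2 : ω * ω = ω + ω * D.τ ω := by
    linear_combination ω * hω - (ω * D.τ ω) * h2
  have hw2 : w * w = w + w * D.τ w := by
    linear_combination w * hw1 - (w * D.τ w) * h2
  have hfω2 : f' (ω * ω) = w * w := by
    rw [hω2, f'add, ← hNw, hw2]
  have mulω : ∀ a, f' (a * ω) = f' a * w := by
    intro a
    obtain ⟨x, y, hx, hy, rfl⟩ := exists_dec D hω a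
    have e1 : (x + y * ω) * ω = x * ω + y * (ω * ω) := by ring
    rw [e1, f'add, f'add, P1 _ _ hx, P1 _ _ hy, P1 _ _ hy, hfω2]
    ring
  have hmul : ∀ a b, f' (a * b) = f' a * f' b := by
    intro a b
    obtain ⟨x, y, hx, hy, rfl⟩ := exists_dec D hω b
    have e1 : a * (x + y * ω) = x * a + y * (a * ω) := by ring
    rw [e1, f'add, f'add, P1 _ _ hx, P1 _ _ hy, P1 _ _ hy, mulω]
    ring
  have hbij' : Function.Bijective f' := by
    constructor
    · intro a b hab
      apply hbij.1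
      simp only [hf'] at hab
      exact mul_left_cancel₀ (inv_ne_zero hκ0) hab
    · intro y
      obtain ⟨x, hx⟩ := hbij.2 (κ * y)
      refine ⟨x, ?_⟩
      simp only [hf', hx]
      field_simp
  let σ₀ : F →+* F :=
    { toFun := f'
      map_one' := P3
      map_mul' := hmul
      map_zero' := by simp only [hf', f0, mul_zero]
      map_add' := f'add }
  refine ⟨κ, RingEquiv.ofBijective σ₀ hbij', hκ0, fun a => ?_⟩
  show f a = κ * (κ⁻¹ * f a)
  rw [← mul_assoc, mul_inv_cancel₀ hκ0, one_mul]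

end extend

end Cfsg.Agent.Lib.H2.SU3
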