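import Mathlib
import Cfsg.Agent.Lib.H2.SU3C

set_option autoImplicit false
set_option linter.unusedSimpArgs false
set_option linter.unusedSectionVars false
set_option linter.unusedVariables false

/-!
# Automorphisms of the model `TU`: every automorphism acts as `a ↦ l σ(a)` on `S/Z(S)`
-/

namespace Cfsg.Agent.Lib.H2.SU3

open Cfsg.Agent.Lib.H13.AutPSU TU

variable {F : Type*} [Field F] {q : ℕ} {D : UF F q} [CharP F 2]

theorem Kl_iff_trK {a c : F} (ha : a ≠ 0) : Kl D a c ↔ trK D (a * D.τ c) = 0 := by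
  have h2 : (2 : F) = 0 := CharTwo.two_eq_zero
  constructor
  · rintro ⟨l, hl, rfl⟩
    apply Subtype.ext
    simp only [coe_trK, map_mul, D.hτ2, hl]
    show a * (l * D.τ a) + D.τ a * (l * a) = 0
    linear_combination (a * l * D.τ a) * h2
  · intro h
    have h1 : a * D.τ c + D.τ a * c = 0 := by
      have := congrArg Subtype.val h
      simpa [coe_trK, map_mul, D.hτ2] using this
    have hτa : D.τ a ≠ 0 := (map_ne_zero D.τ).2 ha
    refine ⟨c / a, ?_, by field_simp⟩
    rw [map_div₀]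
    field_simp
    linear_combination h1 - (D.τ a * c) * h2

theorem rho_line (α : MulAut (TU D)) (a c : F) (ha : a ≠ 0) :
    Kl D a c ↔ Kl D (rho α a) (rho α c) := by
  rw [Kl_iff_trK ha, Kl_iff_trK (rho_ne_zero α ha), ← gam_trK]
  constructor
  · intro h
    rw [h, gam_zero]
  · intro h
    apply gam_injective α
    rw [h, gam_zero]

/-- every automorphism acts on `S/Z(S) = F` as `a ↦ l σ(a)` -/
theorem exists_rho_eq (α : MulAut (TU D)) :
    ∃ (l : Fˣ) (σ : F ≃+* F), ∀ a, rho α a = (l : F) * σ a := by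
  obtain ⟨κ, σ, hκ, h⟩ := exists_kappa_sigma D (rho α) (rho_add α) (rho α).bijective
    (rho_line α) (gam α) (gam_add α) (fun a => by rw [gam_nmK]; rfl)
  exact ⟨Units.mk0 κ hκ, σ, h⟩

theorem tau_comm (σ : F ≃+* F) (a : F) : σ (D.τ a) = D.τ (σ a) := by
  rw [D.hτ, D.hτ, map_pow]

/-- the induced action on the centre -/
theorem gam_eq (α : MulAut (TU D)) (l : Fˣ) (σ : F ≃+* F) (h : ∀ a, rho α a = (l : F) * σ a)
    (c : fixK D) : (gam α c : F) = (l : F) * D.τ (l : F) * σ (c : F) := by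
  obtain ⟨a, rfl⟩ := exists_nmK_eq D c
  rw [gam_nmK, coe_nmK, coe_nmK, h, map_mul, map_mul, tau_comm]
  ring

/-- the automorphism attached to `(l, σ)` as a homomorphism -/
noncomputable def autHom (l : Fˣ) (σ : F ≃+* F) : TU D →* TU D :=
  MonoidHom.mk' (fun x => mk ((l : F) * σ (ca x)) ((l : F) * D.τ (l : F) * σ (cb x)) (by
    have hx := congrArg σ (rel x)
    rw [map_add, map_mul, tau_comm, tau_comm] at hx
    simp only [map_mul, D.hτ2, ← tau_comm]
    rw [tau_comm σ (cb x), tau_comm σ (ca x)]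
    linear_combination ((l : F) * D.τ (l : F)) * hx)) (by
    intro x y
    apply ext
    · simp only [ca_mk, ca_mul, map_add]; ring
    · simp only [cb_mk, cb_mul, ca_mk, map_add, map_mul, tau_comm]; ring)

@[simp] theorem ca_autHom (l : Fˣ) (σ : F ≃+* F) (x : TU D) :
    ca (autHom l σ x) = (l : F) * σ (ca x) := rfl

@[simp] theorem cb_autHom (l : Fˣ) (σ : F ≃+* F) (x : TU D) :
    cb (autHom l σ x) = (l : F) * D.τ (l : F) * σ (cb x) := rfl

theorem autHom_comp (l l' : Fˣ) (σ σ' : F ≃+* F) (x : TU D) :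
    autHom l σ (autHom l' σ' x) = autHom (l * Units.map σ.toRingHom.toMonoidHom l') (σ * σ') x := by
  apply ext
  · simp only [ca_autHom, map_mul, Units.val_mul]
    show _ = (l : F) * σ (l' : F) * σ (σ' (ca x))
    ring
  · simp only [cb_autHom, map_mul, Units.val_mul, tau_comm]
    show _ = (l : F) * σ (l' : F) * (D.τ (l : F) * D.τ (σ (l' : F))) * σ (σ' (cb x))
    ring

theorem autHom_one (x : TU D) : autHom (1 : Fˣ) (1 : F ≃+* F) x = x := by
  apply ext
  · simp
  · simp

/-- the automorphism attached to `(l, σ)` -/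
noncomputable def autOf (l : Fˣ) (σ : F ≃+* F) : MulAut (TU D) where
  toFun := autHom l σ
  invFun := autHom (Units.map σ⁻¹.toRingHom.toMonoidHom l⁻¹) σ⁻¹
  left_inv x := by
    have e1 : Units.map σ⁻¹.toRingHom.toMonoidHom l⁻¹ * Units.map σ⁻¹.toRingHom.toMonoidHom l = 1 := by
      rw [← map_mul, inv_mul_cancel, map_one]
    rw [autHom_comp, e1, inv_mul_cancel, autHom_one]
  right_inv x := by
    have e1 : l * Units.map σ.toRingHom.toMonoidHom (Units.map σ⁻¹.toRingHom.toMonoidHom l⁻¹) = 1 := by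
      have : Units.map σ.toRingHom.toMonoidHom (Units.map σ⁻¹.toRingHom.toMonoidHom l⁻¹) = l⁻¹ := by
        apply Units.ext
        show σ (σ⁻¹ ((l⁻¹ : Fˣ) : F)) = _
        exact σ.apply_symm_apply _
      rw [this, mul_inv_cancel]
    rw [autHom_comp, e1, mul_inv_cancel, autHom_one]
  map_mul' := map_mul _

@[simp] theorem ca_autOf (l : Fˣ) (σ : F ≃+* F) (x : TU D) :
    ca (autOf l σ x) = (l : F) * σ (ca x) := rfl

@[simp] theorem cb_autOf (l : Fˣ) (σ : F ≃+* F) (x : TU D) :
    cb (autOf l σ x) = (l : F) * D.τ (l : F) * σ (cb x) := rfl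

theorem rho_autOf (l : Fˣ) (σ : F ≃+* F) (a : F) : rho (autOf (D := D) l σ) a = (l : F) * σ a := by
  have := rho_ca (autOf (D := D) l σ) (lift a)
  rw [ca_lift] at this
  rw [this, ca_autOf, ca_lift]

end Cfsg.Agent.Lib.H2.SU3
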