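import Mathlib
import Cfsg.Agent.Lib.H2.SU3D
import Cfsg.Agent.Lib.H2.SzAutCard

set_option autoImplicit false
set_option linter.unusedSimpArgs false
set_option linter.unusedSectionVars false
set_option linter.unusedVariables false

/-!
# Automorphisms of the model `TU`: central automorphisms, the kernel and the order
-/

namespace Cfsg.Agent.Lib.H2.SU3

open Cfsg.Agent.Lib.H13.AutPSU TU

/-- counting homomorphisms between elementary abelian 2-groups -/
theorem card_addMonoidHom_two {M N : Type*} [AddCommGroup M] [AddCommGroup N] [Finite M] [Finite N]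
    (hM : ∀ x : M, 2 • x = 0) (hN : ∀ x : N, 2 • x = 0) {a b : ℕ}
    (ha : Nat.card M = 2 ^ a) (hb : Nat.card N = 2 ^ b) :
    Nat.card (M →+ N) = 2 ^ (a * b) := by
  let _ := AddCommGroup.zmodModule hM
  let _ := AddCommGroup.zmodModule hN
  have : Fact (Nat.Prime 2) := ⟨Nat.prime_two⟩
  have fa : Module.finrank (ZMod 2) M = a := by
    have h1 : Nat.card M = 2 ^ Module.finrank (ZMod 2) M := by
      rw [Module.natCard_eq_pow_finrank (K := ZMod 2), Nat.card_zmod]
    rw [ha] at h1
    exact (Nat.pow_right_injective (le_refl 2) h1).symm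
  have fb : Module.finrank (ZMod 2) N = b := by
    have h1 : Nat.card N = 2 ^ Module.finrank (ZMod 2) N := by
      rw [Module.natCard_eq_pow_finrank (K := ZMod 2), Nat.card_zmod]
    rw [hb] at h1
    exact (Nat.pow_right_injective (le_refl 2) h1).symm
  rw [Nat.card_congr (AddMonoidHom.toZModLinearMapEquiv 2).toEquiv,
    Module.natCard_eq_pow_finrank (K := ZMod 2), Nat.card_zmod, Module.finrank_linearMap, fa, fb]

variable {F : Type*} [Field F] {q : ℕ} {D : UF F q} [CharP F 2]

theorem fixK_add_self (c : fixK D) : c + c = 0 := Subtype.ext (add_self (c : F))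

/-- the trace as an additive map -/
def trHom (D : UF F q) : F →+ F := AddMonoidHom.mk' (fun a => a + D.τ a) (by
  intro a b
  rw [map_add]; ring)

theorem trHom_ker : (trHom D).ker = fixK D := by
  ext a
  rw [AddMonoidHom.mem_ker, mem_fixK]
  show a + D.τ a = 0 ↔ _
  constructor
  · intro h
    exact (eq_of_add_eq_zero h).symm
  · intro h
    rw [h, add_self]

theorem trHom_range : (trHom D).range = fixK D := by
  ext c
  constructor
  · rintro ⟨a, rfl⟩
    exact fixed_add_tau D a
  · intro hc
    obtain ⟨a, ha⟩ := D.tr_surj c hc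
    exact ⟨a, ha⟩

theorem card_fixK [Finite F] (hF : Nat.card F = q ^ 2) : Nat.card (fixK D) = q := by
  have e1 := AddSubgroup.card_mul_index (trHom D).ker
  rw [AddSubgroup.index_ker, trHom_ker, trHom_range, hF, ← sq] at e1
  exact Nat.pow_left_injective (by norm_num : 2 ≠ 0) e1

/-- the central automorphism attached to an additive map -/
noncomputable def cenAut (c : F →+ fixK D) : MulAut (TU D) where
  toFun x := x * zU (c (ca x))
  invFun x := x * zU (c (ca x))
  left_inv x := by
    show x * zU (c (ca x)) * zU (c (ca (x * zU (c (ca x))))) = x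
    rw [ca_mul, ca_zU, add_zero, mul_assoc, ← zU_add, fixK_add_self, zU_zero, mul_one]
  right_inv x := by
    show x * zU (c (ca x)) * zU (c (ca (x * zU (c (ca x))))) = x
    rw [ca_mul, ca_zU, add_zero, mul_assoc, ← zU_add, fixK_add_self, zU_zero, mul_one]
  map_mul' x y := by
    show x * y * zU (c (ca (x * y))) = x * zU (c (ca x)) * (y * zU (c (ca y)))
    rw [ca_mul, map_add, zU_add, mul_assoc x (zU _), ← mul_assoc (zU _) y, zU_comm _ y]
    group

theorem cenAut_apply (c : F →+ fixK D) (x : TU D) : cenAut c x = x * zU (c (ca x)) := rfl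

theorem cenAut_mul (c c' : F →+ fixK D) : cenAut c * cenAut c' = cenAut (c + c') := by
  refine MulEquiv.ext fun x => ?_
  rw [MulAut.mul_apply, cenAut_apply, cenAut_apply, cenAut_apply, ca_mul, ca_zU, add_zero,
    AddMonoidHom.add_apply, zU_add, mul_assoc, zU_comm (c' (ca x)) (zU (c (ca x)))]

theorem cenAut_zero : cenAut (0 : F →+ fixK D) = 1 := by
  refine MulEquiv.ext fun x => ?_
  rw [cenAut_apply, AddMonoidHom.zero_apply, zU_zero, mul_one]
  rfl

theorem cenAut_injective : Function.Injective (cenAut : (F →+ fixK D) → MulAut (TU D)) := by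
  intro c c' hcc
  ext a
  have h1 := congrArg (fun α : MulAut (TU D) => α (lift a)) hcc
  simp only [cenAut_apply, ca_lift] at h1
  have h2 := zU_injective (mul_left_cancel h1)
  rw [h2]

theorem rho_cenAut (c : F →+ fixK D) : rho (cenAut c) = 1 := by
  ext a
  have := rho_ca (cenAut c) (lift a)
  rw [ca_lift] at this
  rw [this, cenAut_apply, ca_mul, ca_zU, add_zero, ca_lift]
  rfl

/-- the kernel of `rho` consists of the central automorphisms -/
theorem exists_cenAut_of_mem_ker {α : MulAut (TU D)} (hα : α ∈ (rho (D := D)).ker) :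
    ∃ c : F →+ fixK D, α = cenAut c := by
  rw [MonoidHom.mem_ker] at hα
  have hr : ∀ x, ca (α x) = ca x := by
    intro x
    rw [← rho_ca, hα]
    rfl
  have hg : ∀ c, gam α c = c := by
    intro c
    obtain ⟨a, rfl⟩ := exists_nmK_eq D c
    rw [gam_nmK, hα]
    rfl
  have hαc : ∀ c, α (zU c) = zU c := by
    intro c
    rw [aut_zU, hg]
  -- the difference `x⁻¹ α(x)` is central
  have hd0 : ∀ x, ca (x⁻¹ * α x) = 0 := by
    intro x
    rw [ca_mul, ca_inv, hr]
    ring
  let δ : TU D → fixK D := fun x => ⟨cb (x⁻¹ * α x), cb_fixed_of_ca_eq_zero (hd0 x)⟩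
  have hδ : ∀ x, x⁻¹ * α x = zU (δ x) := fun x => eq_zU_of_ca_eq_zero (hd0 x)
  have hδ' : ∀ x, α x = x * zU (δ x) := by
    intro x
    rw [← hδ]
    group
  have hδmul : ∀ x y, δ (x * y) = δ x + δ y := by
    intro x y
    apply zU_injective
    rw [zU_add, ← hδ, ← hδ, ← hδ, map_mul]
    have e1 : (x * y)⁻¹ * (α x * α y) = y⁻¹ * (x⁻¹ * α x) * α y := by group
    rw [e1, hδ x, ← zU_comm, mul_assoc]
  have hδz : ∀ c, δ (zU c) = 0 := by
    intro c
    apply zU_injective
    rw [← hδ, hαc, inv_mul_cancel, zU_zero]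
  have hδca : ∀ x y, ca x = ca y → δ x = δ y := by
    intro x y hxy
    have h1 : ca (x⁻¹ * y) = 0 := by rw [ca_mul, ca_inv, hxy]; ring
    have h2 : y = x * (x⁻¹ * y) := by group
    rw [h2, hδmul, eq_zU_of_ca_eq_zero h1, hδz, add_zero]
  refine ⟨AddMonoidHom.mk' (fun a => δ (lift a)) ?_, ?_⟩
  · intro a a'
    rw [← hδmul]
    apply hδca
    rw [ca_mul, ca_lift, ca_lift, ca_lift]
  · refine MulEquiv.ext fun x => ?_
    rw [cenAut_apply, hδ']
    congr 2
    apply hδca
    rw [ca_lift]

theorem ker_rho_eq : ((rho (D := D)).ker : Set (MulAut (TU D))) = Set.range cenAut := by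
  ext α
  constructor
  · intro hα
    obtain ⟨c, rfl⟩ := exists_cenAut_of_mem_ker hα
    exact ⟨c, rfl⟩
  · rintro ⟨c, rfl⟩
    exact rho_cenAut c

end Cfsg.Agent.Lib.H2.SU3
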