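import Mathlib
import Cfsg.Prelude.Def_Transfer
import Cfsg.Prelude.Def_Solvable
import Cfsg.Agent.Lib.H2.SU3E

set_option autoImplicit false
set_option linter.unusedSimpArgs false
set_option linter.unusedSectionVars false
set_option linter.unusedVariables false

/-!
# Automorphisms of the model `TU`: the order of `Aut`, and `O_2(Aut)`
-/

namespace Cfsg.Agent.Lib.H2.SU3

open Cfsg.Agent.Lib.H13.AutPSU TU

variable {F : Type*} [Field F] {q : ℕ} {D : UF F q} [CharP F 2]

theorem eq_one_of_pow_two_pow {y : F} : ∀ k : ℕ, y ^ 2 ^ k = 1 → y = 1 := by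
  intro k
  induction k with
  | zero => intro h; simpa using h
  | succ k ih =>
    intro h
    apply ih
    rw [pow_succ, pow_mul] at h
    have h1 : (y ^ 2 ^ k + 1) ^ 2 = 0 := by
      rw [add_pow_char (y ^ 2 ^ k) 1 (p := 2), h, one_pow, add_self]
    have h2 : y ^ 2 ^ k + 1 = 0 := pow_eq_zero_iff (by norm_num) |>.1 h1
    exact eq_of_add_eq_zero h2

/-- the diagonal automorphisms -/
noncomputable def diagHom : Fˣ →* MulAut (TU D) where
  toFun l := autOf l 1
  map_one' := by
    refine MulEquiv.ext fun x => ?_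
    exact autHom_one x
  map_mul' := by
    intro l l'
    refine MulEquiv.ext fun x => ?_
    show autHom (l * l') 1 x = autHom l 1 (autHom l' 1 x)
    rw [autHom_comp]
    congr 1

theorem rho_diagHom (l : Fˣ) (a : F) : rho (diagHom (D := D) l) a = (l : F) * a := by
  show rho (autOf l 1) a = _
  rw [rho_autOf]
  rfl

theorem rho_eq_one_of_mem_normal (N : Subgroup (MulAut (TU D))) [hn : N.Normal] (hN : IsPGroup 2 N)
    {x : MulAut (TU D)} (hx : x ∈ N) : rho x = 1 := by
  obtain ⟨l, σ, hl⟩ := exists_rho_eq x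
  have key : ∀ (c : MulAut (TU D)) (y : Fˣ), c ∈ N → (∀ a, rho c a = (y : F) * a) → y = 1 := by
    intro c y hc hy
    obtain ⟨k, hk⟩ := hN ⟨c, hc⟩
    have hk' : c ^ 2 ^ k = 1 := by
      have := congrArg Subtype.val hk
      simpa using this
    have h1 : rho c = rho (diagHom (D := D) y) := by
      ext a
      rw [hy, rho_diagHom]
    have h2 : rho (diagHom (D := D) (y ^ 2 ^ k)) = 1 := by
      rw [map_pow, map_pow, ← h1, ← map_pow, hk', map_one]
    have h3 := congrArg (fun e : Equiv.Perm F => e 1) h2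
    simp only [rho_diagHom, mul_one, Equiv.Perm.one_apply, Units.val_pow_eq_pow_val] at h3
    exact Units.ext (eq_one_of_pow_two_pow _ h3)
  have hσ : ∀ u : Fˣ, σ (u : F) = u := by
    intro u
    have hc : x * diagHom u * x⁻¹ * (diagHom u)⁻¹ ∈ N := by
      rw [mul_assoc, mul_assoc, ← mul_assoc (diagHom u)]
      exact N.mul_mem hx (hn.conj_mem _ (N.inv_mem hx) _)
    have h1 := key _ (Units.map σ.toRingHom.toMonoidHom u * u⁻¹) hc (by
      intro a
      rw [map_mul, map_mul, map_mul, Equiv.Perm.mul_apply, Equiv.Perm.mul_apply,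
        Equiv.Perm.mul_apply, ← map_inv, rho_diagHom, rho_diagHom, hl, map_mul, ← mul_assoc,
        mul_comm (l : F), mul_assoc, ← hl, rho_apply_inv]
      show σ (u : F) * (((u⁻¹ : Fˣ) : F) * a) = σ (u : F) * ((u⁻¹ : Fˣ) : F) * a
      ring)
    have h2 := congrArg (fun v : Fˣ => ((v * u : Fˣ) : F)) h1
    simp only [inv_mul_cancel_right, one_mul] at h2
    exact h2
  have hσ' : ∀ a : F, σ a = a := by
    intro a
    by_cases ha : a = 0
    · rw [ha, map_zero]
    · exact hσ (Units.mk0 a ha)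
  have hl1 := key x l hx (fun a => by rw [hl, hσ'])
  ext a
  rw [hl, hσ', hl1]
  simp

variable [Fintype F] {n : ℕ}

theorem two_nsmul_F (x : F) : 2 • x = 0 := by
  rw [two_nsmul]; exact add_self x

theorem two_nsmul_K (x : fixK D) : 2 • x = 0 := by
  rw [two_nsmul]; exact fixK_add_self x

variable (hq : q = 2 ^ n) (hF : Fintype.card F = 4 ^ n)

include hq hF

theorem card_hom : Nat.card (F →+ fixK D) = 2 ^ (2 * n ^ 2) := by
  have h1 : Nat.card F = 2 ^ (2 * n) := by
    rw [Nat.card_eq_fintype_card, hF, pow_mul]; norm_num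
  have h2 : Nat.card (fixK D) = 2 ^ n := by
    rw [← hq]
    apply card_fixK
    rw [h1, hq, ← pow_mul, mul_comm]
  rw [card_addMonoidHom_two two_nsmul_F two_nsmul_K h1 h2]
  congr 1
  ring

theorem card_ker_rho : Nat.card (rho (D := D)).ker = 2 ^ (2 * n ^ 2) := by
  rw [← SetLike.coe_sort_coe, ker_rho_eq, Nat.card_range_of_injective cenAut_injective,
    card_hom hq hF]

theorem card_range_rho : Nat.card (rho (D := D)).range = 2 * n * ((2 ^ n) ^ 2 - 1) := by
  classical
  have hp : Fact (Nat.Prime 2) := ⟨Nat.prime_two⟩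
  let ψ : Fˣ × (F ≃+* F) → Equiv.Perm F := fun p => rho (autOf (D := D) p.1 p.2)
  have hψ : Function.Injective ψ := by
    rintro ⟨l, σ⟩ ⟨l', σ'⟩ hll
    have key : ∀ a, (l : F) * σ a = (l' : F) * σ' a := by
      intro a
      have := congrArg (fun e : Equiv.Perm F => e a) hll
      simp only [ψ, rho_autOf] at this
      exact this
    have h1 : l = l' := by
      have := key 1
      rw [map_one, map_one, mul_one, mul_one] at this
      exact Units.ext this
    subst h1
    have h2 : σ = σ' := by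
      ext a
      exact mul_left_cancel₀ l.ne_zero (key a)
    rw [h2]
  have hrange : ((rho (D := D)).range : Set (Equiv.Perm F)) = Set.range ψ := by
    ext e
    constructor
    · rintro ⟨α, rfl⟩
      obtain ⟨l, σ, hl⟩ := exists_rho_eq α
      refine ⟨⟨l, σ⟩, ?_⟩
      ext a
      show rho (autOf l σ) a = _
      rw [rho_autOf, hl]
    · rintro ⟨p, rfl⟩
      exact ⟨_, rfl⟩
  have hF2 : Fintype.card F = 2 ^ (2 * n) := by rw [hF, pow_mul]; norm_num
  rw [← SetLike.coe_sort_coe, hrange, Nat.card_range_of_injective hψ, Nat.card_prod,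
    Cfsg.Agent.Lib.H2.SzAut.card_ringAut (p := 2) hF2, Nat.card_eq_fintype_card, Fintype.card_units,
    hF2, mul_comm, pow_mul, pow_right_comm]

theorem card_mulAut_TU :
    Nat.card (MulAut (TU D)) = 2 ^ (2 * n ^ 2) * (2 * n * ((2 ^ n) ^ 2 - 1)) := by
  rw [← Subgroup.card_mul_index (rho (D := D)).ker, Subgroup.index_ker, card_ker_rho hq hF,
    card_range_rho hq hF]

theorem pCore_mulAut_TU : Cfsg.pCore 2 (MulAut (TU D)) = (rho (D := D)).ker := by
  apply le_antisymm
  · apply sSup_le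
    rintro N ⟨hN, hp⟩ x hx
    rw [MonoidHom.mem_ker]
    exact rho_eq_one_of_mem_normal N hp hx
  · apply le_sSup
    exact ⟨inferInstance, IsPGroup.of_card (card_ker_rho hq hF)⟩

theorem main_TU :
    Cfsg.IsElementaryAbelian 2 (Cfsg.pCore 2 (MulAut (TU D))) ∧
      Nat.card ↥(Cfsg.pCore 2 (MulAut (TU D))) = 2 ^ (2 * n ^ 2) ∧
      Nat.card (MulAut (TU D)) = 2 ^ (2 * n ^ 2) * (2 * n * ((2 ^ n) ^ 2 - 1)) := by
  rw [pCore_mulAut_TU hq hF]
  refine ⟨⟨⟨⟨?_⟩⟩, ?_⟩, card_ker_rho hq hF, card_mulAut_TU hq hF⟩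
  · rintro ⟨x, hx⟩ ⟨y, hy⟩
    obtain ⟨c, rfl⟩ := exists_cenAut_of_mem_ker hx
    obtain ⟨c', rfl⟩ := exists_cenAut_of_mem_ker hy
    apply Subtype.ext
    show cenAut c * cenAut c' = cenAut c' * cenAut c
    rw [cenAut_mul, cenAut_mul, add_comm]
  · intro x hx
    obtain ⟨c, rfl⟩ := exists_cenAut_of_mem_ker hx
    rw [pow_two, cenAut_mul]
    have : c + c = 0 := by
      ext a
      exact congrArg Subtype.val (fixK_add_self (c a))
    rw [this, cenAut_zero]

end Cfsg.Agent.Lib.H2.SU3
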