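import Mathlib
import Cfsg.Agent.Lib.H2.SU3F
import Cfsg.Agent.Lib.H25.PSUD

set_option autoImplicit false
set_option linter.unusedSimpArgs false
set_option linter.unusedSectionVars false
set_option linter.unusedVariables false

/-!
# The unitriangular subgroup of `SU_3(q)`, `q` even, is isomorphic to the model `TU`
-/

namespace Cfsg.Agent.Lib.H2.SU3

open Cfsg.Agent.Lib.H13.AutPSU Cfsg.Agent.Lib.H25.PSU TU

variable {F : Type*} [Field F] [Fintype F] {q : ℕ} {D : UF F q} [CharP F 2] (b : Frame D 3 1 1)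

theorem elok (x : TU D) : ELOK D (b.e 0) (ca x • b.w 0) (cb x) := by
  refine ⟨b.ee 0 0, ?_, ?_⟩
  · rw [H_smul_left, b.we, mul_zero]
  · rw [H_smul_left, H_smul_right, b.ww, if_pos rfl, mul_one, rel x]
    exact add_self _

/-- the map from the model to `SU_3` -/
noncomputable def Phi (x : TU D) : ↥(Cfsg.SU 3 F q) := EL D (b.e 0) (ca x • b.w 0) (cb x)

theorem Phi_mul (x y : TU D) : Phi b (x * y) = Phi b x * Phi b y := by
  unfold Phi
  rw [EL_mul D (elok b x) (elok b y)]
  congr 1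
  · rw [ca_mul, add_smul]
  · rw [cb_mul, H_smul_left, H_smul_right, b.ww, if_pos rfl, mul_one, CharTwo.sub_eq_add]
    ring

theorem sv_Phi_e (x : TU D) : sv (Phi b x) (b.e 0) = b.e 0 := by
  unfold Phi
  rw [sv_EL D (elok b x), b.ee, H_smul_right, b.ew]
  simp

theorem sv_Phi_w (x : TU D) : sv (Phi b x) (b.w 0) = b.w 0 + D.τ (ca x) • b.e 0 := by
  unfold Phi
  rw [sv_EL D (elok b x), b.we, H_smul_right, b.ww, if_pos rfl]
  simp only [zero_smul, add_zero, mul_one, mul_zero, CharTwo.sub_eq_add]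

theorem sv_Phi_f (x : TU D) :
    sv (Phi b x) (b.f 0) = b.f 0 + ca x • b.w 0 + cb x • b.e 0 := by
  unfold Phi
  rw [sv_EL D (elok b x), b.fe, if_pos rfl, H_smul_right, b.fw]
  simp only [one_smul, mul_zero, zero_smul, sub_zero, mul_one]

theorem Phi_mem_U (x : TU D) : Phi b x ∈ U b := by
  unfold Phi
  refine EL_mem_U b (le_refl 1) (elok b x) 0 1 ?_ ?_ (by norm_num) (Or.inr (by norm_num))
  · exact fv_supp b (Sum.inl 0)
  · intro j hj
    rw [co_smul] at hj
    have h1 : co b (b.w 0) j ≠ 0 := fun h0 => hj (by rw [h0, mul_zero])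
    exact fv_supp b (Sum.inr (Sum.inl 0)) j h1

theorem Phi_injective : Function.Injective (Phi b) := by
  intro x y hxy
  have h1 := congrArg (fun s => sv s (b.f 0)) hxy
  simp only [sv_Phi_f] at h1
  have h2 := congrArg (fun v => H D v (b.w 0)) h1
  have h3 := congrArg (fun v => H D v (b.f 0)) h1
  simp only [H_add_left, H_smul_left, b.fw, b.ww, b.ew, b.ff, b.ef, b.wf, if_pos, mul_one, mul_zero,
    zero_add, add_zero] at h2 h3
  exact TU.ext h2 h3

theorem exists_Phi_eq {s : ↥(Cfsg.SU 3 F q)} (hs : s ∈ U b) : ∃ x : TU D, Phi b x = s := by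
  have hU := mem_U_iff_sv.1 hs
  -- conditions from unitriangularity
  have he1 : H D (sv s (b.e 0)) (b.w 0) = 0 := (hU (Sum.inl 0)).1 (Sum.inr (Sum.inl 0)) (by simp [rk])
  have he2 : H D (sv s (b.e 0)) (b.e 0) = 0 := (hU (Sum.inl 0)).1 (Sum.inr (Sum.inr 0)) (by simp [rk])
  have he3 : H D (sv s (b.e 0)) (b.f 0) = 1 := (hU (Sum.inl 0)).2
  have hw1 : H D (sv s (b.w 0)) (b.e 0) = 0 :=
    (hU (Sum.inr (Sum.inl 0))).1 (Sum.inr (Sum.inr 0)) (by simp [rk])
  have hw2 : H D (sv s (b.w 0)) (b.w 0) = 1 := (hU (Sum.inr (Sum.inl 0))).2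
  have hf1 : H D (sv s (b.f 0)) (b.e 0) = 1 := (hU (Sum.inr (Sum.inr 0))).2
  -- the images of the frame vectors
  have hse : sv s (b.e 0) = b.e 0 := by
    have := b.complete (sv s (b.e 0))
    simp only [Fin.sum_univ_one, he1, he2, he3, one_smul, zero_smul, add_zero] at this
    exact this
  set γ := H D (sv s (b.w 0)) (b.f 0) with hγ
  have hsw : sv s (b.w 0) = γ • b.e 0 + b.w 0 := by
    have := b.complete (sv s (b.w 0))
    simp only [Fin.sum_univ_one, hw1, hw2, one_smul, zero_smul, add_zero] at this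
    exact this
  set β := H D (sv s (b.f 0)) (b.f 0) with hβ
  set a := H D (sv s (b.f 0)) (b.w 0) with ha
  have hsf : sv s (b.f 0) = β • b.e 0 + b.f 0 + a • b.w 0 := by
    have := b.complete (sv s (b.f 0))
    simp only [Fin.sum_univ_one, hf1, one_smul] at this
    exact this
  -- unitarity
  have h1 : H D (sv s (b.f 0)) (sv s (b.f 0)) = 0 := by rw [H_sv, b.ff]
  have h2 : H D (sv s (b.w 0)) (sv s (b.f 0)) = 0 := by rw [H_sv, b.wf]
  rw [hsf] at h1
  rw [hsw, hsf] at h2
  simp only [H_add_left, H_add_right, H_smul_left, H_smul_right, b.ee, b.ef, b.ew, b.fe, b.ff,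
    b.fw, b.we, b.wf, b.ww, if_pos, mul_one, mul_zero, zero_add, add_zero, map_one] at h1 h2
  have hrel : β + D.τ β = a * D.τ a := by
    have : β + D.τ β + a * D.τ a = 0 := by linear_combination h1
    exact eq_of_add_eq_zero (by linear_combination this)
  have hγa : γ = D.τ a := eq_of_add_eq_zero (by linear_combination h2)
  refine ⟨TU.mk a β hrel, ?_⟩
  apply ext_fv b
  intro l
  rcases l with i | i | i
  · have hi : i = 0 := Subsingleton.elim _ _
    subst hi
    show sv (Phi b _) (b.e 0) = sv s (b.e 0)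
    rw [sv_Phi_e, hse]
  · have hi : i = 0 := Subsingleton.elim _ _
    subst hi
    show sv (Phi b _) (b.w 0) = sv s (b.w 0)
    rw [sv_Phi_w, hsw, ca_mk, hγa, add_comm]
  · have hi : i = 0 := Subsingleton.elim _ _
    subst hi
    show sv (Phi b _) (b.f 0) = sv s (b.f 0)
    rw [sv_Phi_f, hsf, ca_mk, cb_mk]
    abel

/-- the isomorphism from the model onto the unitriangular subgroup -/
noncomputable def equivU : TU D ≃* ↥(U b) :=
  MulEquiv.ofBijective
    (MonoidHom.mk' (fun x => (⟨Phi b x, Phi_mem_U b x⟩ : ↥(U b))) (by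
      intro x y
      apply Subtype.ext
      exact Phi_mul b x y))
    ⟨fun x y h => Phi_injective b (congrArg Subtype.val h), fun s => by
      obtain ⟨x, hx⟩ := exists_Phi_eq b s.2
      exact ⟨x, Subtype.ext hx⟩⟩

end Cfsg.Agent.Lib.H2.SU3
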