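import Mathlib
import Cfsg.Agent.Lib.H2.SU3G

set_option autoImplicit false
set_option linter.unusedSimpArgs false
set_option linter.unusedSectionVars false
set_option linter.unusedVariables false

/-!
# The standard frame of `SU_3(q)`, `q` even, and the Sylow 2-subgroups
-/

namespace Cfsg.Agent.Lib.H2.SU3

open Cfsg.Agent.Lib.H13.AutPSU Cfsg.Agent.Lib.H25.PSU TU

variable {F : Type*} [Field F] {q : ℕ} (D : UF F q)

theorem H_three (u v : Fin 3 → F) :
    H D u v = u 0 * D.τ (v 0) + u 1 * D.τ (v 1) + u 2 * D.τ (v 2) := by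
  simp [H, cj, dotProduct, Fin.sum_univ_three]

variable [CharP F 2]

/-- the standard frame in characteristic 2 -/
def stdFrame : Frame D 3 1 1 where
  e := fun _ => ![1, 1, 0]
  f := fun _ => ![1, 0, 1]
  w := fun _ => ![1, 1, 1]
  ee := by
    intro i j
    simp [H_three]
    exact add_self 1
  ff := by
    intro i j
    simp [H_three]
    exact add_self 1
  ef := by
    intro i j
    have : i = j := Subsingleton.elim _ _
    simp [H_three, this]
  we := by
    intro i j
    simp [H_three]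
    exact add_self 1
  wf := by
    intro i j
    simp [H_three]
    exact add_self 1
  ww := by
    intro i j
    have : i = j := Subsingleton.elim _ _
    simp [H_three, this]
    exact add_self 1
  complete := by
    intro x
    have h2 : (2 : F) = 0 := CharTwo.two_eq_zero
    funext j
    fin_cases j
    · simp [H_three]
      linear_combination (-(x 0) - x 1 - x 2) * h2
    · simp [H_three]
      linear_combination (-(x 0) - x 2) * h2
    · simp [H_three]
      linear_combination (-(x 0) - x 1) * h2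

/-- the `p`-core is preserved by isomorphisms -/
theorem pCore_map_le {A B : Type*} [Group A] [Group B] (p : ℕ) (φ : A ≃* B) :
    (Cfsg.pCore p A).map φ.toMonoidHom ≤ Cfsg.pCore p B := by
  rw [Subgroup.map_le_iff_le_comap]
  apply sSup_le
  rintro N ⟨hN, hp⟩
  rw [← Subgroup.map_le_iff_le_comap]
  apply le_sSup
  exact ⟨hN.map _ φ.surjective, hp.map _⟩

theorem pCore_map_eq {A B : Type*} [Group A] [Group B] (p : ℕ) (φ : A ≃* B) :
    (Cfsg.pCore p A).map φ.toMonoidHom = Cfsg.pCore p B := by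
  apply le_antisymm (pCore_map_le p φ)
  intro b hb
  have h1 := pCore_map_le p φ.symm ⟨b, hb, rfl⟩
  exact ⟨φ.symm b, h1, φ.apply_symm_apply b⟩

/-- transport of the three assertions along an isomorphism of automorphism groups -/
theorem transport {A B : Type*} [Group A] [Group B] (φ : A ≃* B) {k n : ℕ}
    (hB : Cfsg.IsElementaryAbelian 2 (Cfsg.pCore 2 B) ∧ Nat.card ↥(Cfsg.pCore 2 B) = k ∧
      Nat.card B = n) :
    Cfsg.IsElementaryAbelian 2 (Cfsg.pCore 2 A) ∧ Nat.card ↥(Cfsg.pCore 2 A) = k ∧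
      Nat.card A = n := by
  obtain ⟨⟨hc, hsq⟩, hk, hn⟩ := hB
  have hmap := pCore_map_eq 2 φ
  have hmem : ∀ a ∈ Cfsg.pCore 2 A, φ a ∈ Cfsg.pCore 2 B := by
    intro a ha
    rw [← hmap]
    exact ⟨a, ha, rfl⟩
  refine ⟨⟨⟨⟨?_⟩⟩, ?_⟩, ?_, ?_⟩
  · rintro ⟨a, ha⟩ ⟨b, hb⟩
    apply Subtype.ext
    apply φ.injective
    have := hc.is_comm.comm ⟨φ a, hmem a ha⟩ ⟨φ b, hmem b hb⟩
    have := congrArg Subtype.val this
    simpa using this
  · intro a ha
    apply φ.injective
    rw [map_pow, map_one]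
    exact hsq _ (hmem a ha)
  · rw [← hk, ← hmap]
    exact (Subgroup.card_map_of_injective φ.injective).symm
  · rw [← hn]
    exact Nat.card_congr φ.toEquiv

variable [Fintype F]

/-- every Sylow 2-subgroup of `SU_3(q)`, `q` even, is isomorphic to the model -/
theorem nonempty_equiv_TU (P : Sylow 2 ↥(Cfsg.SU 3 F q)) :
    Nonempty (↥(P : Subgroup ↥(Cfsg.SU 3 F q)) ≃* TU D) := by
  have : Fact (Nat.Prime 2) := ⟨Nat.prime_two⟩
  let P₀ : Sylow 2 ↥(Cfsg.SU 3 F q) := sylSU 2 (stdFrame D) (le_refl 1) (le_refl 1)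
  obtain ⟨g, hg⟩ := MulAction.exists_smul_eq (↥(Cfsg.SU 3 F q)) P₀ P
  have e1 : ↥(P₀ : Subgroup ↥(Cfsg.SU 3 F q)) ≃* ↥(P : Subgroup ↥(Cfsg.SU 3 F q)) := by
    rw [← hg]
    exact Sylow.equivSMul P₀ g
  have e2 : TU D ≃* ↥(P₀ : Subgroup ↥(Cfsg.SU 3 F q)) := equivU (stdFrame D)
  exact ⟨(e2.trans e1).symm⟩

end Cfsg.Agent.Lib.H2.SU3
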