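import Mathlib
import Cfsg.Agent.Lib.H2.SU3H

set_option autoImplicit false
set_option linter.unusedSimpArgs false
set_option linter.unusedSectionVars false
set_option linter.unusedVariables false

/-!
# Involutory automorphisms of a finite field; automorphisms of `TU` whose square is inner
-/

namespace Cfsg.Agent.Lib.H2.SU3

open Cfsg.Agent.Lib.H13.AutPSU TU

/-- the automorphism group of a finite field is cyclic -/
theorem ringAut_isCyclic {F : Type*} [Field F] [Finite F] (p : ℕ) [Fact p.Prime] [CharP F p] :
    IsCyclic (F ≃+* F) := by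
  let _ : Algebra (ZMod p) F := ZMod.algebra F p
  let φ : (F ≃ₐ[ZMod p] F) →* (F ≃+* F) :=
    { toFun := fun e => e.toRingEquiv
      map_one' := rfl
      map_mul' := fun _ _ => rfl }
  have hφ : Function.Surjective φ := by
    intro e
    refine ⟨AlgEquiv.ofRingEquiv (f := e) (fun x => ?_), rfl⟩
    exact RingHom.congr_fun (Subsingleton.elim ((e : F →+* F).comp (algebraMap (ZMod p) F))
      (algebraMap (ZMod p) F)) x
  exact isCyclic_of_surjective φ hφ

/-- in a finite cyclic group there are at most two elements of square one -/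
theorem eq_of_sq_eq_one {G : Type*} [Group G] [Finite G] [IsCyclic G] {a b : G}
    (ha : a * a = 1) (hb : b * b = 1) (ha1 : a ≠ 1) : b = 1 ∨ b = a := by
  classical
  have : Fintype G := Fintype.ofFinite G
  by_contra hcon
  push Not at hcon
  have h1 := IsCyclic.card_pow_eq_one_le (α := G) (n := 2) (by norm_num)
  have h2 : ({1, a, b} : Finset G) ⊆ Finset.univ.filter (fun x : G => x ^ 2 = 1) := by
    intro x hx
    simp only [Finset.mem_insert, Finset.mem_singleton] at hx
    rw [Finset.mem_filter]
    refine ⟨Finset.mem_univ _, ?_⟩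
    rcases hx with rfl | rfl | rfl
    · simp
    · rw [pow_two, ha]
    · rw [pow_two, hb]
  have h3 : ({1, a, b} : Finset G).card = 3 := by
    rw [Finset.card_insert_of_notMem, Finset.card_insert_of_notMem, Finset.card_singleton]
    · rw [Finset.mem_singleton]
      exact fun h => hcon.2 h.symm
    · simp only [Finset.mem_insert, Finset.mem_singleton]
      push Not
      exact ⟨fun h => ha1 h.symm, fun h => hcon.1 h.symm⟩
  have h4 := Finset.card_le_card h2
  omega

variable {F : Type*} [Field F] {q : ℕ} {D : UF F q} [CharP F 2] [Finite F]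

theorem eq_one_or_tau (σ : F ≃+* F) (h : σ * σ = 1) : σ = 1 ∨ σ = D.τ := by
  have : Fact (Nat.Prime 2) := ⟨Nat.prime_two⟩
  have := ringAut_isCyclic (F := F) 2
  have hfin : Finite (F ≃+* F) :=
    Finite.of_injective (fun e : F ≃+* F => (e : F → F)) DFunLike.coe_injective
  have hτ : D.τ * D.τ = 1 := by
    ext a
    exact D.hτ2 a
  have hτ1 : D.τ ≠ 1 := by
    intro h1
    obtain ⟨a, ha⟩ := D.hne
    apply ha
    rw [h1]
    rfl
  exact eq_of_sq_eq_one hτ h hτ1

/-- an automorphism whose square acts trivially on `S/Z(S)` fixes the centre pointwise -/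
theorem aut_center_fixed (α : MulAut (TU D)) (h : rho (α * α) = 1) {x : TU D} (hx : ca x = 0) :
    α x = x := by
  obtain ⟨l, σ, hl⟩ := exists_rho_eq α
  have h1 : ∀ a, (l : F) * σ ((l : F) * σ a) = a := by
    intro a
    have := congrArg (fun e : Equiv.Perm F => e a) h
    rw [map_mul] at this
    simp only [Equiv.Perm.mul_apply, Equiv.Perm.one_apply] at this
    rw [hl, hl] at this
    exact this
  have h2 : (l : F) * σ (l : F) = 1 := by
    have := h1 1
    rwa [map_one, mul_one] at this
  have h3 : σ * σ = 1 := by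
    ext a
    have := h1 a
    rw [map_mul, ← mul_assoc, h2, one_mul] at this
    exact this
  have hN : ∀ c : fixK D, (l : F) * D.τ (l : F) * σ (c : F) = c := by
    intro c
    rcases eq_one_or_tau (D := D) σ h3 with h4 | h4
    · rw [h4] at h2 ⊢
      have h5 : (l : F) = 1 := by
        have : (l : F) ^ 2 ^ 1 = 1 := by rw [pow_one, pow_two]; exact h2
        exact eq_one_of_pow_two_pow 1 this
      rw [h5, map_one]
      simp
    · rw [h4] at h2 ⊢
      rw [h2, one_mul, tau_fixK]
  rw [eq_zU_of_ca_eq_zero hx, aut_zU]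
  congr 1
  apply Subtype.ext
  rw [gam_eq α l σ hl, hN]

theorem rho_eq_one_of_ca (β : MulAut (TU D)) (h : ∀ x, ca (β x) = ca x) : rho β = 1 := by
  ext a
  have := rho_ca β (lift a)
  rw [ca_lift] at this
  rw [this, h, ca_lift]
  rfl

/-- if a copy of `TU` has index two in a group, its centre is central in the whole group -/
theorem center_le_of_index_two {R : Type*} [Group R] (S' : Subgroup R) (hidx : S'.index = 2)
    (E : ↥S' ≃* TU D) : (Subgroup.center ↥S').map S'.subtype ≤ Subgroup.center R := by
  have hnorm : S'.Normal := Subgroup.normal_of_index_eq_two hidx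
  rintro _ ⟨z, hz, rfl⟩
  rw [Subgroup.mem_center_iff]
  intro r
  let φ : MulAut ↥S' := MulAut.conjNormal r
  let α : MulAut (TU D) := MulAut.congr E φ
  have hα : ∀ x, α x = E (φ (E.symm x)) := fun x => rfl
  have hsq : r * r ∈ S' := Subgroup.mul_self_mem_of_index_two hidx r
  have hφφ : ∀ h : ↥S', φ (φ h) = ⟨r * r, hsq⟩ * h * ⟨r * r, hsq⟩⁻¹ := by
    intro h
    apply Subtype.ext
    simp only [φ, MulAut.conjNormal_apply, Subgroup.coe_mul, Subgroup.coe_inv]
    group
  have h1 : rho (α * α) = 1 := by
    apply rho_eq_one_of_ca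
    intro x
    rw [MulAut.mul_apply, hα, hα, MulEquiv.symm_apply_apply, hφφ, map_mul, map_mul,
      MulEquiv.apply_symm_apply, ca_mul, ca_mul, map_inv, ca_inv]
    ring
  have hEz : ca (E z) = 0 := by
    rw [← mem_center_iff, Subgroup.mem_center_iff]
    intro y
    have hz' := Subgroup.mem_center_iff.1 hz (E.symm y)
    have := congrArg E hz'
    rwa [map_mul, map_mul, MulEquiv.apply_symm_apply] at this
  have h2 := aut_center_fixed α h1 hEz
  rw [hα, MulEquiv.symm_apply_apply] at h2
  have h3 : φ z = z := E.injective h2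
  have h4 := congrArg Subtype.val h3
  simp only [φ, MulAut.conjNormal_apply] at h4
  show r * (z : R) = (z : R) * r
  have h5 : r * (z : R) = (r * (z : R) * r⁻¹) * r := by group
  rw [h5, h4]

end Cfsg.Agent.Lib.H2.SU3
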