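import Mathlib
import Cfsg.Agent.Lib.H2.SU3I

set_option autoImplicit false
set_option linter.unusedSimpArgs false
set_option linter.unusedSectionVars false
set_option linter.unusedVariables false

/-!
# Sylow 2-subgroups of `PSU_3(q)`, `q` even; no `S_3` in `Aut` for `q = 4`
-/

namespace Cfsg.Agent.Lib.H2.SU3

open Cfsg.Agent.Lib.H13.AutPSU Cfsg.Agent.Lib.H25.PSU TU

section bridge

variable {F : Type*} [Field F] [Fintype F] {q : ℕ} (D : UF F q) [CharP F 2]

theorem pr_injOn_U (b : Frame D 3 1 1) {s t : ↥(Cfsg.SU 3 F q)} (hs : s ∈ U b) (ht : t ∈ U b)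
    (h : pr s = pr t) : s = t := by
  have : Fact (Nat.Prime 2) := ⟨Nat.prime_two⟩
  have hz := pr_eq_pr_iff.1 h
  have hzU : s⁻¹ * t ∈ U b := (U b).mul_mem ((U b).inv_mem hs) ht
  obtain ⟨k, hk⟩ := isPGroup_U b 2 (le_refl 1) ⟨s⁻¹ * t, hzU⟩
  have hk' : (s⁻¹ * t) ^ 2 ^ k = 1 := by
    have := congrArg Subtype.val hk
    simpa using this
  have h1 := eq_one_of_center_of_pow D (by norm_num : 2 ≤ 3) 2 hz hk'
  exact inv_mul_eq_one.1 h1

/-- the unitriangular subgroup maps isomorphically to `PSU` -/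
noncomputable def equivUbar (b : Frame D 3 1 1) : ↥(U b) ≃* ↥(Ubar b) :=
  MulEquiv.ofBijective
    (MonoidHom.mk' (fun s : ↥(U b) => (⟨pr s.1, ⟨s.1, s.2, rfl⟩⟩ : ↥(Ubar b))) (by
      intro s t
      apply Subtype.ext
      exact map_mul pr s.1 t.1))
    ⟨fun s t h => Subtype.ext (pr_injOn_U D b s.2 t.2 (congrArg Subtype.val h)), fun y => by
      obtain ⟨s, hs, hy⟩ := y.2
      exact ⟨⟨s, hs⟩, Subtype.ext hy⟩⟩

/-- every Sylow 2-subgroup of `PSU_3(q)`, `q` even, is isomorphic to the model -/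
theorem nonempty_equiv_TU_PSU (P : Sylow 2 (Cfsg.PSU 3 F q)) :
    Nonempty (↥(P : Subgroup (Cfsg.PSU 3 F q)) ≃* TU D) := by
  have : Fact (Nat.Prime 2) := ⟨Nat.prime_two⟩
  let P₀ : Sylow 2 (Cfsg.PSU 3 F q) := sylPSU 2 (stdFrame D) (le_refl 1) (le_refl 1)
  obtain ⟨g, hg⟩ := MulAction.exists_smul_eq (Cfsg.PSU 3 F q) P₀ P
  have e1 : ↥(P₀ : Subgroup (Cfsg.PSU 3 F q)) ≃* ↥(P : Subgroup (Cfsg.PSU 3 F q)) := by
    rw [← hg]
    exact Sylow.equivSMul P₀ g
  have e2 : ↥(Ubar (stdFrame D)) ≃* ↥(P₀ : Subgroup (Cfsg.PSU 3 F q)) := by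
    rw [coe_sylPSU]
  exact ⟨(((equivU (stdFrame D)).trans (equivUbar D (stdFrame D))).trans (e2.trans e1)).symm⟩

end bridge

section noS3

variable {F : Type*} [Field F] [Fintype F] {D : UF F 4} [CharP F 2]

theorem no_S3 (hF : Fintype.card F = 16) (H : Subgroup (MulAut (TU D))) :
    ¬ Nonempty (↥H ≃* Equiv.Perm (Fin 3)) := by
  rintro ⟨e⟩
  have hp : Fact (Nat.Prime 2) := ⟨Nat.prime_two⟩
  have hF' : Fintype.card F = 4 ^ 2 := by rw [hF]; norm_num
  have hq : (4 : ℕ) = 2 ^ 2 := by norm_num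
  -- elements of order 3 and 2
  let c : Equiv.Perm (Fin 3) := Equiv.swap 0 1 * Equiv.swap 1 2
  let t : Equiv.Perm (Fin 3) := Equiv.swap 0 1
  have hc3 : c ^ 3 = 1 := by decide
  have hc1 : c ≠ 1 := by decide
  have ht2 : t * t = 1 := by decide
  have htc : t * c = c⁻¹ * t := by decide
  let ρ : MulAut (TU D) := (e.symm c : ↥H)
  let x : MulAut (TU D) := (e.symm t : ↥H)
  have hρ3 : ρ ^ 3 = 1 := by
    show ((e.symm c : ↥H) : MulAut (TU D)) ^ 3 = 1
    rw [← Subgroup.coe_pow, ← map_pow, hc3, map_one]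
    rfl
  have hρ1 : ρ ≠ 1 := by
    intro h
    apply hc1
    apply e.symm.injective
    apply Subtype.ext
    rw [map_one]
    exact h
  have hx2 : x * x = 1 := by
    show ((e.symm t : ↥H) : MulAut (TU D)) * ((e.symm t : ↥H) : MulAut (TU D)) = 1
    rw [← Subgroup.coe_mul, ← map_mul, ht2, map_one]
    rfl
  have hxρ : x * ρ = ρ⁻¹ * x := by
    show ((e.symm t : ↥H) : MulAut (TU D)) * ((e.symm c : ↥H) : MulAut (TU D)) =
      ((e.symm c : ↥H) : MulAut (TU D))⁻¹ * ((e.symm t : ↥H) : MulAut (TU D))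
    rw [← Subgroup.coe_mul, ← map_mul, htc, map_mul, map_inv]
    rfl
  -- the action of ρ
  obtain ⟨l, σ, hl⟩ := exists_rho_eq ρ
  have hcardAut : Nat.card (F ≃+* F) = 4 :=
    Cfsg.Agent.Lib.H2.SzAut.card_ringAut (p := 2) (n := 4) (by rw [hF]; norm_num)
  have h1 : ∀ a, (l : F) * σ ((l : F) * σ ((l : F) * σ a)) = a := by
    intro a
    have := congrArg (fun f : Equiv.Perm F => f a) (congrArg rho hρ3)
    rw [pow_succ, pow_two, map_mul, map_mul, map_one] at this
    simp only [Equiv.Perm.mul_apply, Equiv.Perm.one_apply] at this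
    rw [hl, hl, hl] at this
    exact this
  have h2 : (l : F) * σ ((l : F) * σ (l : F)) = 1 := by
    have := h1 1
    rwa [map_one, mul_one] at this
  have hσ3 : σ ^ 3 = 1 := by
    ext a
    have := h1 a
    simp only [map_mul] at this h2
    show σ (σ (σ a)) = a
    linear_combination this - σ (σ (σ a)) * h2
  have hσ4 : σ ^ 4 = 1 := by
    have hfin : Finite (F ≃+* F) :=
      Finite.of_injective (fun e : F ≃+* F => (e : F → F)) DFunLike.coe_injective
    rw [← hcardAut]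
    exact pow_card_eq_one'
  have hσ1 : σ = 1 := by
    have : σ ^ 4 = σ ^ 3 * σ := pow_succ σ 3
    rw [hσ4, hσ3, one_mul] at this
    exact this.symm
  have hl' : ∀ a, rho ρ a = (l : F) * a := by
    intro a
    rw [hl, hσ1]
    rfl
  have hl3 : (l : F) ^ 3 = 1 := by
    rw [hσ1] at h2
    have : (l : F) * ((l : F) * (l : F)) = 1 := h2
    rw [← this]
    ring
  have hl1 : l ≠ 1 := by
    intro h
    -- then ρ lies in the kernel of rho, a 2-group
    have hker : ρ ∈ (rho (D := D)).ker := by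
      rw [MonoidHom.mem_ker]
      ext a
      rw [hl', h]
      simp
    have h3 : orderOf ρ ∣ 2 ^ (2 * 2 ^ 2) := by
      rw [← card_ker_rho (D := D) hq hF']
      have := Subgroup.orderOf_dvd_natCard (rho (D := D)).ker hker
      exact this
    have h4 : orderOf ρ ∣ 3 := orderOf_dvd_of_pow_eq_one hρ3
    have h5 : orderOf ρ = 1 := by
      have hco : Nat.Coprime (2 ^ (2 * 2 ^ 2)) 3 := by norm_num
      exact Nat.eq_one_of_dvd_coprimes hco h3 h4
    exact hρ1 (orderOf_eq_one_iff.1 h5)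
  -- the action of x
  obtain ⟨l', σ', hl''⟩ := exists_rho_eq x
  have k1 : ∀ a, (l' : F) * σ' ((l' : F) * σ' a) = a := by
    intro a
    have := congrArg (fun f : Equiv.Perm F => f a) (congrArg rho hx2)
    rw [map_mul, map_one] at this
    simp only [Equiv.Perm.mul_apply, Equiv.Perm.one_apply] at this
    rw [hl'', hl''] at this
    exact this
  have k2 : (l' : F) * σ' (l' : F) = 1 := by
    have := k1 1
    rwa [map_one, mul_one] at this
  have k3 : σ' * σ' = 1 := by
    ext a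
    have := k1 a
    rw [map_mul, ← mul_assoc, k2, one_mul] at this
    exact this
  have hinv : ∀ a, rho ρ⁻¹ a = (l : F)⁻¹ * a := by
    intro a
    have := rho_inv_apply ρ ((l : F)⁻¹ * a)
    rw [hl', ← mul_assoc, mul_inv_cancel₀ l.ne_zero, one_mul] at this
    exact this
  have k4 : σ' (l : F) = (l : F)⁻¹ := by
    have := congrArg (fun f : Equiv.Perm F => f 1) (congrArg rho hxρ)
    rw [map_mul, map_mul] at this
    simp only [Equiv.Perm.mul_apply] at this
    rw [hl', hl'', hinv, hl'', mul_one, map_one, mul_one] at this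
    have h5 : (l' : F) * σ' (l : F) = (l' : F) * (l : F)⁻¹ := by
      rw [this]; ring
    exact mul_left_cancel₀ l'.ne_zero h5
  have k5 : σ' (l : F) = (l : F) := by
    rcases eq_one_or_tau (D := D) σ' k3 with h | h
    · rw [h]; rfl
    · rw [h, D.hτ]
      have : (l : F) ^ 4 = (l : F) ^ 3 * l := pow_succ _ 3
      rw [this, hl3, one_mul]
  have k6 : (l : F) * (l : F) = 1 := by
    rw [k5] at k4
    have := congrArg (fun y => (l : F) * y) k4
    simp only [mul_inv_cancel₀ l.ne_zero] at this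
    exact this
  apply hl1
  apply Units.ext
  have : (l : F) ^ 2 ^ 1 = 1 := by rw [pow_one, pow_two]; exact k6
  exact eq_one_of_pow_two_pow 1 this

end noS3

end Cfsg.Agent.Lib.H2.SU3
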