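import Mathlib
import Cfsg.Agent.Lib.H2.RTH
import Cfsg.Agent.Lib.H2.SU3J

set_option autoImplicit false
set_option linter.unusedSectionVars false

/-!
# The Sylow 2-subgroup of `U₃(4)` is the group `Ell`
-/

namespace Cfsg.Agent.Lib.H2.RT

open Cfsg.Agent.Lib.H2.L34 Cfsg.Agent.Lib.H2.SU3 Cfsg.Agent.Lib.H13.AutPSU TU

variable {F : Type*} [Field F] [Fintype F] {q : ℕ} (D : UF F q) [CharP F 2]

/-- the model as a set -/
noncomputable def tuEquiv : TU D ≃ F × fixK D where
  toFun x := (ca x, ⟨cb x + cb (lift (D := D) (ca x)), by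
    rw [mem_fixK, map_add]
    have h1 := rel x
    have h2 := rel (lift (D := D) (ca x))
    rw [ca_lift] at h2
    have e1 : D.τ (cb x) = cb x + ca x * D.τ (ca x) := by
      rw [← h1]
      linear_combination (-1 : F) * add_self (cb x)
    have e2 : D.τ (cb (lift (D := D) (ca x))) =
        cb (lift (D := D) (ca x)) + ca x * D.τ (ca x) := by
      rw [← h2]
      linear_combination (-1 : F) * add_self (cb (lift (D := D) (ca x)))
    rw [e1, e2]
    linear_combination add_self (ca x * D.τ (ca x))⟩)
  invFun p := mk p.1 (cb (lift (D := D) p.1) + (p.2 : F)) (by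
    have h2 := rel (lift (D := D) p.1)
    rw [ca_lift] at h2
    rw [map_add, tau_fixK]
    linear_combination h2 + add_self (p.2 : F))
  left_inv x := by
    apply ext
    · rfl
    · show cb (lift (D := D) (ca x)) + (cb x + cb (lift (D := D) (ca x))) = cb x
      linear_combination add_self (cb (lift (D := D) (ca x)))
  right_inv p := by
    apply Prod.ext
    · rfl
    · apply Subtype.ext
      show cb (lift (D := D) p.1) + (p.2 : F) + cb (lift (D := D) p.1) = (p.2 : F)
      linear_combination add_self (cb (lift (D := D) p.1))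

theorem card_TU (hF : Fintype.card F = q ^ 2) : Nat.card (TU D) = q ^ 3 := by
  rw [Nat.card_congr (tuEquiv D), Nat.card_prod, card_fixK (D := D) (by rw [Nat.card_eq_fintype_card, hF]),
    Nat.card_eq_fintype_card, hF]
  ring

section sixteen

variable {D4 : UF F 4} (hF : Fintype.card F = 16)
include hF

theorem exists_cube_root : ∃ l : Fˣ, l ^ 3 = 1 ∧ l ≠ 1 := by
  have : Fact (Nat.Prime 3) := ⟨by norm_num⟩
  have h3 : 3 ∣ Nat.card Fˣ := by
    rw [Nat.card_units, Nat.card_eq_fintype_card, hF]
    norm_num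
  obtain ⟨l, hl⟩ := exists_prime_orderOf_dvd_card' 3 h3
  refine ⟨l, ?_, ?_⟩
  · rw [← hl]; exact pow_orderOf_eq_one l
  · rintro rfl
    rw [orderOf_one] at hl
    omega

theorem fpf3_autOf {l : Fˣ} (hl3 : l ^ 3 = 1) (hl1 : l ≠ 1) :
    Fpf3 (autOf (D := D4) l 1) := by
  have hl3' : (l : F) ^ 3 = 1 := by
    have := congrArg Units.val hl3
    simpa using this
  have hτl : D4.τ (l : F) = (l : F) ^ 4 := D4.hτ _
  have hN : (l : F) * D4.τ (l : F) = (l : F) ^ 2 := by
    rw [hτl]
    calc (l : F) * (l : F) ^ 4 = (l : F) ^ 3 * (l : F) ^ 2 := by ring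
      _ = (l : F) ^ 2 := by rw [hl3', one_mul]
  have hl1' : (l : F) ≠ 1 := fun e => hl1 (Units.ext e)
  have hl2 : (l : F) ^ 2 ≠ 1 := by
    intro e
    apply hl1'
    calc (l : F) = (l : F) ^ 3 * ((l : F) ^ 2)⁻¹ := by
          field_simp
      _ = 1 := by rw [hl3', e]; simp
  constructor
  · intro x
    apply ext
    · simp only [ca_autOf, RingAut.one_apply]
      calc (l : F) * ((l : F) * ((l : F) * ca x)) = (l : F) ^ 3 * ca x := by ring
        _ = ca x := by rw [hl3', one_mul]
    · simp only [cb_autOf, RingAut.one_apply, hN]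
      calc (l : F) ^ 2 * ((l : F) ^ 2 * ((l : F) ^ 2 * cb x)) = ((l : F) ^ 3) ^ 2 * cb x := by ring
        _ = cb x := by rw [hl3', one_pow, one_mul]
  · intro x hx
    have h1 := congrArg ca hx
    have h2 := congrArg cb hx
    simp only [ca_autOf, cb_autOf, RingAut.one_apply, hN] at h1 h2
    have ha : ca x = 0 := by
      have : ((l : F) - 1) * ca x = 0 := by linear_combination h1
      rcases mul_eq_zero.mp this with h | h
      · exact absurd (sub_eq_zero.mp h) hl1'
      · exact h
    have hb : cb x = 0 := by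
      have : ((l : F) ^ 2 - 1) * cb x = 0 := by linear_combination h2
      rcases mul_eq_zero.mp this with h | h
      · exact absurd (sub_eq_zero.mp h) hl2
      · exact h
    apply ext
    · rw [ha]; rfl
    · rw [hb]; rfl

theorem not_comm_TU : ¬ IsMulCommutative (TU D4) := by
  intro hc
  have h1 : lift (D := D4) 1 ∈ Subgroup.center (TU D4) := by
    rw [Subgroup.mem_center_iff]
    intro g
    exact hc.is_comm.comm g _
  rw [mem_center_iff, ca_lift] at h1
  exact one_ne_zero h1

theorem ell_TU (a : TU D4) (ha : a * a = 1) : a ∈ Subgroup.center (TU D4) := by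
  rw [mem_center_iff]
  rw [mul_self_eq, ← zU_zero] at ha
  have h1 := zU_injective ha
  have h2 := congrArg Subtype.val h1
  simp only [coe_nmK] at h2
  have h3 : ca a * D4.τ (ca a) = 0 := h2
  rcases mul_eq_zero.mp h3 with h | h
  · exact h
  · exact (map_eq_zero D4.τ).mp h

/-- the model is the group `Ell` -/
theorem nonempty_ell_equiv_TU : Nonempty (Ell ≃* TU D4) := by
  have hF' : Fintype.card F = 4 ^ 2 := by rw [hF]; norm_num
  have hcard : Nat.card (TU D4) = 64 := by rw [card_TU D4 hF']; norm_num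
  have : Finite (TU D4) := Nat.finite_of_card_ne_zero (by rw [hcard]; norm_num)
  obtain ⟨l, hl3, hl1⟩ := exists_cube_root hF
  have hfpf := fpf3_autOf (D4 := D4) hF hl3 hl1
  have S : Sp (autOf (D := D4) l 1) := sp_of hfpf hcard (not_comm_TU hF)
  obtain ⟨x, y, z, G⟩ := SpX.egens_of_ell S (ell_TU hF)
  exact G.nonempty_ell_equiv hcard

end sixteen

end Cfsg.Agent.Lib.H2.RT
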