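import Mathlib
import Cfsg.Agent.Lib.H2.RTF
import Cfsg.Agent.Lib.H2.RTI
import Cfsg.Agent.Lib.H2.L34I

set_option autoImplicit false

/-!
# `2`-groups with a fixed-point-free `ρ` of order three and an involution `t` with `C_T(t) = V`
-/

namespace Cfsg.Agent.Lib.H2.RT

open Cfsg.Agent.Lib.H2.L34

universe u

section typeLevel

variable {T : Type u} [Group T] [Finite T]

theorem fpf3_of (hT : IsPGroup 2 T) (ρ τ : MulAut T) (hcube : ∀ y, ρ (ρ (ρ y)) = y)
    (hinvol : ∀ y, τ (τ y) = y) (hcomm : ∀ y, τ (ρ y) = ρ (τ y)) (V : Subgroup T)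
    (hfix : ∀ y, τ y = y ↔ y ∈ V) (hfpV : ∀ v ∈ V, ρ v = v → v = 1) : Fpf3 ρ := by
  refine ⟨hcube, fun y hy => ?_⟩
  by_contra hy1
  have hne : fixSub ρ ≠ ⊥ := by
    intro e
    have : y ∈ fixSub ρ := hy
    rw [e, Subgroup.mem_bot] at this
    exact hy1 this
  have hinv : ∀ u, u ∈ fixSub ρ ↔ τ u ∈ fixSub ρ := by
    intro u
    rw [mem_fixSub, mem_fixSub, ← hcomm]
    constructor
    · intro e; rw [e]
    · intro e; exact τ.injective e
  obtain ⟨h, hh, hh1, hτh⟩ := exists_fixed_ne_one hT τ hinvol (fixSub ρ) hinv hne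
  exact hh1 (hfpV h ((hfix h).mp hτh) hh)

theorem Hyp.abelian_case {ρ τ : MulAut T} {V : Subgroup T} (H : Hyp ρ τ V)
    (hc : ∀ x y : T, x * y = y * x) :
    (Nat.card T = 16 ∧ ∀ x : T, x ^ 2 = 1) ∨
    (∃ n : ℕ, 1 ≤ n ∧
      Nonempty (T ≃* Multiplicative (ZMod (2 ^ n)) × Multiplicative (ZMod (2 ^ n)))) := by
  by_cases hinv : ∀ e : T, e * e = 1 → e ∈ V
  · right
    obtain ⟨n, x, hn, hx, hA, hB⟩ := H.abelian_gen hc hinv
    exact ⟨n, hn, nonempty_equiv_zmod hc hx (by rw [← map_pow, hx, map_one]) hA hB⟩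
  · left
    push Not at hinv
    obtain ⟨e₀, he₀, he₀V⟩ := hinv
    obtain ⟨h1, h2⟩ := H.abelian_sq hc he₀ he₀V
    exact ⟨h2, fun x => by rw [pow_two]; exact h1 x⟩

theorem Hyp.main_type {ρ τ : MulAut T} {V : Subgroup T} (H : Hyp ρ τ V) :
    (Nat.card T = 16 ∧ ∀ x : T, x ^ 2 = 1) ∨
    (∃ n : ℕ, 1 ≤ n ∧
      Nonempty (T ≃* Multiplicative (ZMod (2 ^ n)) × Multiplicative (ZMod (2 ^ n)))) ∨
    Nonempty (Heis ≃* T) ∨ Nonempty (Ell ≃* T) := by
  by_cases hc : ∀ x y : T, x * y = y * x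
  · rcases H.abelian_case hc with h | h
    · exact Or.inl h
    · exact Or.inr (Or.inl h)
  · rcases H.abelian_or_card with h | h
    · exact absurd h hc
    · have S : Sp ρ := sp_of H.fpf h (not_isMulCommutative hc)
      exact Or.inr (Or.inr (SpX.heis_or_ell S))

end typeLevel

section subgroupLevel

variable {G : Type u} [Group G]

/-- conjugation by an element of the normaliser -/
def conjAut (T : Subgroup G) (g : G) (hg : g ∈ Subgroup.normalizer (T : Set G)) : MulAut T where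
  toFun y := ⟨g * y * g⁻¹, (Subgroup.mem_normalizer_iff.mp hg y).mp y.2⟩
  invFun y := ⟨g⁻¹ * y * g, by
    have := (Subgroup.mem_normalizer_iff.mp (inv_mem hg) y).mp y.2
    simpa using this⟩
  left_inv y := Subtype.ext (by simp only; group)
  right_inv y := Subtype.ext (by simp only; group)
  map_mul' y y' := Subtype.ext (by simp only [Subgroup.coe_mul]; group)

theorem conjAut_coe (T : Subgroup G) (g : G) (hg : g ∈ Subgroup.normalizer (T : Set G)) (y : T) :
    ((conjAut T g hg y : T) : G) = g * y * g⁻¹ := rfl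

/-- a nontrivial action on a four-group is fixed-point-free -/
theorem fpV_of [Finite G] (V : Subgroup G) (hV4 : Nat.card V = 4) (hV2 : ∀ v ∈ V, v ^ 2 = 1)
    (r : G) (hr3 : r ^ 3 = 1) (hrn : r ∈ Subgroup.normalizer (V : Set G))
    (hVr : ⁅V, Subgroup.zpowers r⁆ = V) : ∀ v ∈ V, r * v * r⁻¹ = v → v = 1 := by
  intro v hv hfix
  by_contra hv1
  have hc : ∀ w : G, w ∈ V → r * w * r⁻¹ ∈ V := fun w hw => (Subgroup.mem_normalizer_iff.mp hrn w).mp hw
  have hsq : ∀ w ∈ V, w * w = 1 := fun w hw => by rw [← pow_two]; exact hV2 w hw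
  have hinv : ∀ w ∈ V, w⁻¹ = w := fun w hw => inv_eq_of_mul_eq_one_left (hsq w hw)
  have hcmul : ∀ a b : G, r * (a * b) * r⁻¹ = (r * a * r⁻¹) * (r * b * r⁻¹) := by
    intro a b; group
  have hc3 : ∀ w : G, r * (r * (r * w * r⁻¹) * r⁻¹) * r⁻¹ = w := by
    intro w
    have hrrr : r * r * r = 1 := by rw [← hr3]; simp [pow_succ]
    have : r * (r * (r * w * r⁻¹) * r⁻¹) * r⁻¹ = (r * r * r) * w * (r * r * r)⁻¹ := by group
    rw [this, hrrr]; group
  have hall : ∀ w ∈ V, r * w * r⁻¹ = w := by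
    intro w hw
    by_cases hw1 : w = 1
    · rw [hw1]; group
    by_cases hwv : w = v
    · rw [hwv]; exact hfix
    have hvw : v * w ∈ V := mul_mem hv hw
    have h1 : (1 : G) ≠ v := Ne.symm hv1
    have h2 : (1 : G) ≠ w := Ne.symm hw1
    have h3 : (1 : G) ≠ v * w := by
      intro e
      apply hwv
      have : w = v⁻¹ := (eq_inv_of_mul_eq_one_right e.symm)
      rw [this, hinv v hv]
    have h4 : v ≠ w := Ne.symm hwv
    have h5 : v ≠ v * w := by
      intro e
      apply hw1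
      have : v * 1 = v * w := by rw [mul_one]; exact e
      exact (mul_left_cancel this).symm
    have h6 : w ≠ v * w := by
      intro e
      apply hv1
      have : 1 * w = v * w := by rw [one_mul]; exact e
      exact (mul_right_cancel this).symm
    rcases four_cases V hV4 (one_mem _) hv hw hvw h1 h2 h3 h4 h5 h6 (hc w hw) with e | e | e | e
    · exfalso
      apply hw1
      have : w = r⁻¹ * (r * w * r⁻¹) * r := by group
      rw [this, e]; group
    · exfalso
      apply hwv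
      have h7 : r * w * r⁻¹ = r * v * r⁻¹ := by rw [e, hfix]
      have : w = r⁻¹ * (r * w * r⁻¹) * r := by group
      rw [this, h7]; group
    · exact e
    · exfalso
      have h7 := hc3 w
      have h8 : r * (v * w) * r⁻¹ = w := by
        rw [hcmul, hfix, e, ← mul_assoc, hsq v hv, one_mul]
      rw [e, h8, e] at h7
      exact h6 h7.symm
  have hle : V ≤ Subgroup.centralizer (Subgroup.zpowers r : Set G) := by
    intro w hw
    rw [Subgroup.mem_centralizer_iff]
    rintro h ⟨k, rfl⟩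
    have hcomm : Commute r w := by
      have := hall w hw
      show r * w = w * r
      calc r * w = (r * w * r⁻¹) * r := by group
        _ = w * r := by rw [this]
    exact (hcomm.zpow_left k).eq
  have hbot : ⁅V, Subgroup.zpowers r⁆ = ⊥ :=
    Subgroup.commutator_eq_bot_iff_le_centralizer.mpr hle
  rw [hVr] at hbot
  rw [hbot, Subgroup.card_bot] at hV4
  omega

/-- the theorem for subgroups, with abstract models of the two groups of order 64 -/
theorem main_subgroup [Finite G] (T V : Subgroup G) (hT : IsPGroup 2 ↥T)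
    (hVT : V ≤ T ⊓ Subgroup.centralizer (T : Set G))
    (hV : Nat.card ↥V = 4 ∧ ∀ v ∈ V, v ^ 2 = 1) (t ρ : G) (ht : orderOf t = 2)
    (hρ : orderOf ρ = 3)
    (htn : t ∈ Subgroup.normalizer (V : Set G) ⊓ Subgroup.normalizer (T : Set G))
    (hρn : ρ ∈ Subgroup.normalizer (V : Set G) ⊓ Subgroup.normalizer (T : Set G))
    (htρ : t * ρ = ρ * t) (hVρ : ⁅V, Subgroup.zpowers ρ⁆ = V)
    (hCt : T ⊓ Subgroup.centralizer ({t} : Set G) = V) :
    (Nat.card ↥T = 16 ∧ ∀ x : T, x ^ 2 = 1) ∨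
    (∃ n : ℕ, 1 ≤ n ∧
      Nonempty (↥T ≃* Multiplicative (ZMod (2 ^ n)) × Multiplicative (ZMod (2 ^ n)))) ∨
    Nonempty (Heis ≃* ↥T) ∨ Nonempty (Ell ≃* ↥T) := by
  have hρ3 : ρ ^ 3 = 1 := by rw [← hρ]; exact pow_orderOf_eq_one ρ
  have ht2 : t ^ 2 = 1 := by rw [← ht]; exact pow_orderOf_eq_one t
  have htt : t * t = 1 := by rw [← pow_two]; exact ht2
  have htinv : t⁻¹ = t := inv_eq_of_mul_eq_one_left htt
  set ρ' := conjAut T ρ hρn.2 with hρ'
  set τ' := conjAut T t htn.2 with hτ'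
  set V' := V.subgroupOf T with hV'
  have hVleT : V ≤ T := fun v hv => (hVT hv).1
  have hcube : ∀ y, ρ' (ρ' (ρ' y)) = y := by
    intro y
    apply Subtype.ext
    simp only [hρ', conjAut_coe]
    have hrrr : ρ * ρ * ρ = 1 := by rw [← hρ3]; simp [pow_succ]
    have : ρ * (ρ * (ρ * (y : G) * ρ⁻¹) * ρ⁻¹) * ρ⁻¹ = (ρ * ρ * ρ) * y * (ρ * ρ * ρ)⁻¹ := by group
    rw [this, hrrr]; group
  have hinvol : ∀ y, τ' (τ' y) = y := by
    intro y
    apply Subtype.ext
    simp only [hτ', conjAut_coe]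
    have : t * (t * (y : G) * t⁻¹) * t⁻¹ = (t * t) * y * (t * t)⁻¹ := by group
    rw [this, htt]; group
  have hcomm : ∀ y, τ' (ρ' y) = ρ' (τ' y) := by
    intro y
    apply Subtype.ext
    simp only [hτ', hρ', conjAut_coe]
    have h1 : t * (ρ * (y : G) * ρ⁻¹) * t⁻¹ = (t * ρ) * y * (t * ρ)⁻¹ := by group
    have h2 : ρ * (t * (y : G) * t⁻¹) * ρ⁻¹ = (ρ * t) * y * (ρ * t)⁻¹ := by group
    rw [h1, h2, htρ]
  have hfix : ∀ y, τ' y = y ↔ y ∈ V' := by
    intro y
    rw [hV', Subgroup.mem_subgroupOf, ← hCt, Subgroup.mem_inf, Subgroup.mem_centralizer_iff]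
    constructor
    · intro e
      refine ⟨y.2, ?_⟩
      intro h hh
      rw [Set.mem_singleton_iff] at hh
      subst hh
      have e' : h * (y : G) * h⁻¹ = y := congrArg Subtype.val e
      calc h * (y : G) = (h * y * h⁻¹) * h := by group
        _ = y * h := by rw [e']
    · rintro ⟨_, hc⟩
      apply Subtype.ext
      show t * (y : G) * t⁻¹ = y
      rw [hc t (Set.mem_singleton t)]; group
  have hcardV' : Nat.card V' = 4 := by
    rw [hV', Nat.card_congr (Subgroup.subgroupOfEquivOfLe hVleT).toEquiv]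
    exact hV.1
  have hfpV : ∀ v ∈ V', ρ' v = v → v = 1 := by
    intro v hv e
    have e' : ρ * (v : G) * ρ⁻¹ = v := congrArg Subtype.val e
    have := fpV_of V hV.1 hV.2 ρ hρ3 hρn.1 hVρ (v : G) (Subgroup.mem_subgroupOf.mp hv) e'
    exact Subtype.ext this
  have : Finite T := inferInstance
  have hfpf : Fpf3 ρ' := fpf3_of hT ρ' τ' hcube hinvol hcomm V' hfix hfpV
  have H : Hyp ρ' τ' V' := ⟨hT, hfpf, hinvol, hcomm, hfix, hcardV'⟩
  exact H.main_type

end subgroupLevel

end Cfsg.Agent.Lib.H2.RT
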