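import Mathlib
import Cfsg.Agent.Lib.H2.RTJ
import Cfsg.Agent.Lib.H2.QNC

set_option autoImplicit false

/-!
# General lemmas: free actions, odd automorphisms
-/

namespace Cfsg.Agent.Lib.H2.AT

open Subgroup Cfsg.Agent.Lib.H2.L34 Cfsg.Agent.Lib.H2.RT Cfsg.Agent.Lib.H2.QN

/-- a group acting freely on a finite set has order dividing the size of the set -/
theorem card_dvd_of_free {G X : Type*} [Group G] [MulAction G X]
    (hfree : ∀ (g : G) (x : X), g • x = x → g = 1) : Nat.card G ∣ Nat.card X := by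
  have h : ∀ b : X, MulAction.stabilizer G b = ⊥ := by
    intro b
    rw [eq_bot_iff]
    intro g hg
    rw [Subgroup.mem_bot]
    exact hfree g b (MulAction.mem_stabilizer_iff.mp hg)
  have e := MulAction.selfEquivOrbitsQuotientProd h
  rw [Nat.card_congr e, Nat.card_prod]
  exact Dvd.intro_left _ rfl

/-- a permutation of order dividing nine whose cube has no fixed points -/
theorem nine_dvd_card {X : Type*} [Finite X] (π : Equiv.Perm X) (h9 : π ^ 9 = 1)
    (h3 : ∀ x, (π ^ 3) x ≠ x) : 9 ∣ Nat.card X := by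
  classical
  rcases isEmpty_or_nonempty X with hX | hX
  · rw [Nat.card_of_isEmpty]; exact dvd_zero 9
  obtain ⟨x0⟩ := hX
  have hne3 : π ^ 3 ≠ 1 := by
    intro e
    apply h3 x0
    rw [e]; rfl
  have hord : orderOf π = 9 := by
    have hdvd : orderOf π ∣ 3 ^ 2 := by
      rw [orderOf_dvd_iff_pow_eq_one]; exact h9
    obtain ⟨k, hk, hk'⟩ := (Nat.dvd_prime_pow Nat.prime_three).mp hdvd
    have : k = 2 := by
      by_contra hcon
      have hk1 : k ≤ 1 := by omega
      apply hne3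
      have : orderOf π ∣ 3 := by
        rw [hk']
        calc 3 ^ k ∣ 3 ^ 1 := pow_dvd_pow 3 hk1
          _ = 3 := pow_one 3
      exact orderOf_dvd_iff_pow_eq_one.mp this
    rw [hk', this]; norm_num
  have hcard : Nat.card (Subgroup.zpowers π) = 9 := by
    rw [Nat.card_zpowers, hord]
  rw [← hcard]
  apply card_dvd_of_free
  rintro ⟨g, hg⟩ x hx
  apply Subtype.ext
  simp only [Subgroup.coe_one]
  have hx' : g x = x := hx
  obtain ⟨k, rfl⟩ := (mem_zpowers_iff_mem_range_orderOf.mp hg |> fun h => by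
    simp only [Finset.mem_image, Finset.mem_range] at h
    obtain ⟨k, _, hk⟩ := h
    exact ⟨k, hk.symm⟩ : ∃ k : ℕ, g = π ^ k)
  by_contra hne
  have hk9 : ¬ 9 ∣ k := by
    intro hd
    apply hne
    obtain ⟨c, rfl⟩ := hd
    rw [pow_mul, h9, one_pow]
  -- some power of `π ^ k` is `π ^ 3`
  have hpow : ∀ j : ℕ, ((π ^ k) ^ j) x = x := by
    intro j
    induction j with
    | zero => rfl
    | succ j ih => rw [pow_succ, Equiv.Perm.mul_apply, hx', ih]
  have hmod : ∀ m : ℕ, π ^ m = π ^ (m % 9) := by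
    intro m
    conv_lhs => rw [← Nat.div_add_mod m 9, pow_add, pow_mul, h9, one_pow, one_mul]
  have : ∃ j : ℕ, (k * j) % 9 = 3 := by
    have hk' : k % 9 < 9 := Nat.mod_lt _ (by norm_num)
    have hk0 : k % 9 ≠ 0 := fun e => hk9 (Nat.dvd_of_mod_eq_zero e)
    rcases (by omega : k % 9 = 1 ∨ k % 9 = 2 ∨ k % 9 = 3 ∨ k % 9 = 4 ∨ k % 9 = 5 ∨ k % 9 = 6 ∨
      k % 9 = 7 ∨ k % 9 = 8) with h | h | h | h | h | h | h | h
    · exact ⟨3, by rw [Nat.mul_mod, h]⟩
    · exact ⟨6, by rw [Nat.mul_mod, h]⟩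
    · exact ⟨1, by rw [Nat.mul_mod, h]⟩
    · exact ⟨3, by rw [Nat.mul_mod, h]⟩
    · exact ⟨6, by rw [Nat.mul_mod, h]⟩
    · exact ⟨2, by rw [Nat.mul_mod, h]⟩
    · exact ⟨3, by rw [Nat.mul_mod, h]⟩
    · exact ⟨6, by rw [Nat.mul_mod, h]⟩
  obtain ⟨j, hj⟩ := this
  apply h3 x
  have := hpow j
  rwa [← pow_mul, hmod, hj] at this

variable {Q : Type*} [Group Q]

theorem pow_twist (σ : MulAut Q) {x c : Q} (hx : σ x = x * c) (hc : σ c = c) (k : ℕ) :
    (σ ^ k) x = x * c ^ k := by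
  induction k with
  | zero => simp
  | succ k ih =>
    rw [pow_succ', MulAut.mul_apply, ih, map_mul, map_pow, hx, hc, pow_succ', mul_assoc]

/-- an automorphism of odd order moving `x` by a fixed `2`-element fixes `x` -/
theorem eq_one_of_twist (σ : MulAut Q) {o : ℕ} (ho : Odd o) (hσ : σ ^ o = 1) {x c : Q}
    (hx : σ x = x * c) (hc : σ c = c) {k : ℕ} (hck : c ^ 2 ^ k = 1) : c = 1 := by
  have h1 := pow_twist σ hx hc o
  rw [hσ, MulAut.one_apply] at h1
  have h2 : c ^ o = 1 := by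
    have := h1.symm
    rwa [mul_eq_left] at this
  have hcop : Nat.Coprime o (2 ^ k) := by
    apply Nat.Coprime.pow_right
    exact (Nat.coprime_comm.mp (Nat.coprime_two_left.mpr ho))
  have hd1 : orderOf c ∣ o := orderOf_dvd_of_pow_eq_one h2
  have hd2 : orderOf c ∣ 2 ^ k := orderOf_dvd_of_pow_eq_one hck
  have : orderOf c ∣ 1 := by
    have := Nat.dvd_gcd hd1 hd2
    rwa [hcop] at this
  exact orderOf_eq_one_iff.mp (Nat.dvd_one.mp this)

theorem odd_three_pow (a : ℕ) : Odd (3 ^ a) := Odd.pow (by decide)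

/-- in a finite `2`-group every element has `2`-power order -/
theorem exists_two_pow [Finite Q] (hQ : IsPGroup 2 Q) (c : Q) : ∃ k : ℕ, c ^ 2 ^ k = 1 := hQ c

end Cfsg.Agent.Lib.H2.AT
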