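import Mathlib
import Cfsg.Agent.Lib.H2.ATB
import Cfsg.Agent.Lib.H2.ATC
import Cfsg.Agent.Lib.H1.PGroupBasic

set_option autoImplicit false

/-!
# Theorem K, basics: an automorphism of `3`-power order permuting the three involutions
of a `2`-group transitively
-/

namespace Cfsg.Agent.Lib.H2.AT

open Subgroup Cfsg.Agent.Lib.H2.L34 Cfsg.Agent.Lib.H2.RT Cfsg.Agent.Lib.H2.QN

variable {Q : Type*} [Group Q]

theorem pow_apply_comm (f : MulAut Q) (k : ℕ) (y : Q) : (f ^ k) (f y) = f ((f ^ k) y) := by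
  rw [← MulAut.mul_apply, ← MulAut.mul_apply, ← pow_succ, ← pow_succ']

theorem pow_apply_comm' (f : MulAut Q) (k l : ℕ) (y : Q) :
    (f ^ k) ((f ^ l) y) = (f ^ l) ((f ^ k) y) := by
  rw [← MulAut.mul_apply, ← MulAut.mul_apply, ← pow_add, ← pow_add, add_comm]

/-- forward invariance of a subgroup of a finite group under an automorphism is invariance -/
theorem inv_iff_of_forward [Finite Q] (f : MulAut Q) (S : Subgroup Q) (h : ∀ y ∈ S, f y ∈ S) :
    ∀ y, y ∈ S ↔ f y ∈ S := by
  intro y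
  refine ⟨h y, fun hy => ?_⟩
  let r : S → S := fun s => ⟨f s, h s s.2⟩
  have hr : Function.Injective r := by
    intro a b hab
    have := congrArg Subtype.val hab
    exact Subtype.ext (f.injective this)
  obtain ⟨s, hs⟩ := (Finite.injective_iff_surjective.mp hr) ⟨f y, hy⟩
  have : f (s : Q) = f y := congrArg Subtype.val hs
  rw [← f.injective this]
  exact s.2

/-- the standing hypothesis -/
structure KHyp (ρ : MulAut Q) (z : Q) : Prop where
  pg : IsPGroup 2 Q
  pow : ∃ a : ℕ, ρ ^ 3 ^ a = 1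
  z1 : z ≠ 1
  zz : z * z = 1
  ne : ρ z ≠ z
  cube : ρ (ρ (ρ z)) = z
  inv : ∀ x : Q, x * x = 1 → x = 1 ∨ x = z ∨ x = ρ z ∨ x = ρ (ρ z)

namespace KHyp

variable {ρ : MulAut Q} {z : Q}

theorem rz_sq (h : KHyp ρ z) : ρ z * ρ z = 1 := by rw [← map_mul, h.zz, map_one]

theorem rrz_sq (h : KHyp ρ z) : ρ (ρ z) * ρ (ρ z) = 1 := by rw [← map_mul, h.rz_sq, map_one]

theorem rz_ne_one (h : KHyp ρ z) : ρ z ≠ 1 := fun e =>
  h.z1 (by rw [← map_one ρ] at e; exact ρ.injective e)

theorem rrz_ne_one (h : KHyp ρ z) : ρ (ρ z) ≠ 1 := fun e =>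
  h.rz_ne_one (by rw [← map_one ρ] at e; exact ρ.injective e)

theorem rrz_ne (h : KHyp ρ z) : ρ (ρ z) ≠ z := by
  intro e
  apply h.ne
  have := h.cube
  rw [e] at this
  exact this

theorem rz_ne_rrz (h : KHyp ρ z) : ρ z ≠ ρ (ρ z) := fun e => h.ne (ρ.injective e).symm

theorem cube_apply (_h : KHyp ρ z) (y : Q) : (ρ ^ 3) y = ρ (ρ (ρ y)) := by
  simp [pow_succ, MulAut.mul_apply]

/-- `ρ³` fixes the involutions -/
theorem inv_fix (h : KHyp ρ z) {x : Q} (hx : x * x = 1) : (ρ ^ 3) x = x := by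
  rw [h.cube_apply]
  rcases h.inv x hx with e | e | e | e
  · rw [e, map_one, map_one, map_one]
  · rw [e, h.cube]
  · rw [e, h.cube]
  · rw [e, h.cube]

/-- an involution of a nontrivial `2`-subgroup -/
theorem exists_inv_mem [Finite Q] (h : KHyp ρ z) (S : Subgroup Q) (hS : S ≠ ⊥) :
    ∃ u ∈ S, u ≠ 1 ∧ u * u = 1 := by
  have : Fact (Nat.Prime 2) := ⟨Nat.prime_two⟩
  obtain ⟨k, hk⟩ := IsPGroup.iff_card.mp (h.pg.to_subgroup S)
  have hk0 : k ≠ 0 := by
    rintro rfl
    rw [pow_zero] at hk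
    exact hS (Subgroup.card_eq_one.mp hk)
  have hdvd : 2 ∣ Nat.card S := by rw [hk]; exact dvd_pow_self 2 hk0
  obtain ⟨u, hu⟩ := exists_prime_orderOf_dvd_card' 2 hdvd
  refine ⟨u, u.2, ?_, ?_⟩
  · intro e
    have : u = 1 := Subtype.ext e
    rw [this, orderOf_one] at hu
    omega
  · have := pow_orderOf_eq_one u
    rw [hu, pow_two] at this
    exact congrArg Subtype.val this

/-- no fixed points -/
theorem fix_eq_one [Finite Q] (h : KHyp ρ z) {x : Q} (hx : ρ x = x) : x = 1 := by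
  by_contra hx1
  have hF : fixSub ρ ≠ ⊥ := by
    intro e
    have : x ∈ fixSub ρ := hx
    rw [e, Subgroup.mem_bot] at this
    exact hx1 this
  obtain ⟨u, hu, hu1, huu⟩ := h.exists_inv_mem _ hF
  have hρu : ρ u = u := hu
  rcases h.inv u huu with e | e | e | e
  · exact hu1 e
  · rw [e] at hρu; exact h.ne hρu
  · rw [e] at hρu; exact h.ne (ρ.injective hρu)
  · rw [e] at hρu; exact h.ne (ρ.injective (ρ.injective hρu))

/-- all involutions are central -/
theorem z_central [Finite Q] (h : KHyp ρ z) : z ∈ center Q := by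
  have : Fact (Nat.Prime 2) := ⟨Nat.prime_two⟩
  have : Nontrivial Q := ⟨⟨z, 1, h.z1⟩⟩
  have hc : center Q ≠ ⊥ := by
    have := h.pg.center_nontrivial
    intro e
    rw [e] at this
    exact not_nontrivial _ this
  obtain ⟨u, hu, hu1, huu⟩ := h.exists_inv_mem _ hc
  rcases h.inv u huu with e | e | e | e
  · exact absurd e hu1
  · rw [← e]; exact hu
  · rw [e] at hu
    exact (Hyp.tau_center ρ z).mpr hu
  · rw [e] at hu
    exact (Hyp.tau_center ρ z).mpr ((Hyp.tau_center ρ _).mpr hu)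

theorem inv_central [Finite Q] (h : KHyp ρ z) {x : Q} (hx : x * x = 1) : x ∈ center Q := by
  rcases h.inv x hx with e | e | e | e
  · rw [e]; exact one_mem _
  · rw [e]; exact h.z_central
  · rw [e]; exact (Hyp.tau_center ρ z).mp h.z_central
  · rw [e]; exact (Hyp.tau_center ρ _).mp ((Hyp.tau_center ρ z).mp h.z_central)

/-- the subgroup of involutions -/
def omega [Finite Q] (h : KHyp ρ z) : Subgroup Q where
  carrier := {x | x * x = 1}
  one_mem' := by simp
  mul_mem' := by
    intro a b ha hb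
    simp only [Set.mem_ofPred_eq] at ha hb ⊢
    have hac := Subgroup.mem_center_iff.mp (h.inv_central ha) b
    calc a * b * (a * b) = a * (b * a) * b := by group
      _ = a * (a * b) * b := by rw [hac]
      _ = (a * a) * (b * b) := by group
      _ = 1 := by rw [ha, hb, one_mul]
  inv_mem' := by
    intro a ha
    simp only [Set.mem_ofPred_eq] at ha ⊢
    have : a⁻¹ * a⁻¹ = (a * a)⁻¹ := by group
    rw [this, ha, inv_one]

theorem mem_omega [Finite Q] (h : KHyp ρ z) (x : Q) : x ∈ h.omega ↔ x * x = 1 := Iff.rfl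

theorem omega_le_center [Finite Q] (h : KHyp ρ z) : h.omega ≤ center Q := fun _ hx =>
  h.inv_central hx

theorem card_omega [Finite Q] (h : KHyp ρ z) : Nat.card h.omega = 4 := by
  classical
  have hset : (h.omega : Set Q) = {1, z, ρ z, ρ (ρ z)} := by
    ext x
    simp only [SetLike.mem_coe, h.mem_omega, Set.mem_insert_iff, Set.mem_singleton_iff]
    constructor
    · exact h.inv x
    · rintro (e | e | e | e)
      · rw [e, one_mul]
      · rw [e, h.zz]
      · rw [e, h.rz_sq]
      · rw [e, h.rrz_sq]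
  have h1 : Nat.card h.omega = (h.omega : Set Q).ncard := rfl
  rw [h1, hset]
  rw [Set.ncard_insert_of_notMem, Set.ncard_insert_of_notMem, Set.ncard_insert_of_notMem,
    Set.ncard_singleton]
  · simp only [Set.mem_singleton_iff]
    exact h.rz_ne_rrz
  · simp only [Set.mem_insert_iff, Set.mem_singleton_iff, not_or]
    exact ⟨Ne.symm h.ne, Ne.symm h.rrz_ne⟩
  · simp only [Set.mem_insert_iff, Set.mem_singleton_iff, not_or]
    exact ⟨Ne.symm h.z1, Ne.symm h.rz_ne_one, Ne.symm h.rrz_ne_one⟩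

theorem omega_inv [Finite Q] (h : KHyp ρ z) (f : MulAut Q) (y : Q) :
    y ∈ h.omega ↔ f y ∈ h.omega := by
  rw [h.mem_omega, h.mem_omega, ← map_mul]
  constructor
  · intro e; rw [e, map_one]
  · intro e
    rw [← map_one f] at e
    exact f.injective e

/-- the hypothesis passes to invariant subgroups -/
theorem sub [Finite Q] (h : KHyp ρ z) (S : Subgroup Q) (hS : ∀ y, y ∈ S ↔ ρ y ∈ S)
    (hne : S ≠ ⊥) : ∃ z' : S, KHyp (resA ρ S hS) z' := by
  obtain ⟨u, hu, hu1, huu⟩ := h.exists_inv_mem S hne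
  have hρu : ρ u ≠ u := fun e => hu1 (h.fix_eq_one e)
  have hcube : ρ (ρ (ρ u)) = u := by rw [← h.cube_apply, h.inv_fix huu]
  refine ⟨⟨u, hu⟩, ⟨h.pg.to_subgroup S, ?_, ?_, ?_, ?_, ?_, ?_⟩⟩
  · obtain ⟨a, ha⟩ := h.pow
    refine ⟨a, ?_⟩
    ext y
    rw [resA_pow, ha]; rfl
  · intro e
    exact hu1 (congrArg Subtype.val e)
  · exact Subtype.ext huu
  · intro e
    exact hρu (congrArg Subtype.val e)
  · exact Subtype.ext hcube
  · intro x hx
    have hx' : (x : Q) * (x : Q) = 1 := congrArg Subtype.val hx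
    have key : (x : Q) = 1 ∨ (x : Q) = u ∨ (x : Q) = ρ u ∨ (x : Q) = ρ (ρ u) := by
      rcases h.inv u huu with e | e | e | e
      · exact absurd e hu1
      · rw [e]; exact h.inv x hx'
      · rw [e, h.cube]
        rcases h.inv x hx' with e' | e' | e' | e'
        · exact Or.inl e'
        · exact Or.inr (Or.inr (Or.inr e'))
        · exact Or.inr (Or.inl e')
        · exact Or.inr (Or.inr (Or.inl e'))
      · rw [e, h.cube]
        rcases h.inv x hx' with e' | e' | e' | e'
        · exact Or.inl e'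
        · exact Or.inr (Or.inr (Or.inl e'))
        · exact Or.inr (Or.inr (Or.inr e'))
        · exact Or.inr (Or.inl e')
    rcases key with e | e | e | e
    · exact Or.inl (Subtype.ext e)
    · exact Or.inr (Or.inl (Subtype.ext e))
    · exact Or.inr (Or.inr (Or.inl (Subtype.ext e)))
    · exact Or.inr (Or.inr (Or.inr (Subtype.ext e)))

end KHyp

end Cfsg.Agent.Lib.H2.AT
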