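import Mathlib
import Cfsg.Agent.Lib.H2.ATD

set_option autoImplicit false

/-!
# Theorem K: the minimal configuration
-/

namespace Cfsg.Agent.Lib.H2.AT

open Subgroup Cfsg.Agent.Lib.H2.L34 Cfsg.Agent.Lib.H2.RT Cfsg.Agent.Lib.H2.QN

variable {Q : Type*} [Group Q]

/-- a minimal counterexample -/
structure KMin (ρ : MulAut Q) (z : Q) : Prop where
  hyp : KHyp ρ z
  star : ∀ S : Subgroup Q, (∀ y, y ∈ S ↔ ρ y ∈ S) → S ≠ ⊤ → ∀ s ∈ S, (ρ ^ 3) s = s
  ne1 : ρ ^ 3 ≠ 1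

namespace KMin

variable {ρ : MulAut Q} {z : Q}

theorem D_inv (_M : KMin ρ z) (y : Q) : y ∈ fixSub (ρ ^ 3) ↔ ρ y ∈ fixSub (ρ ^ 3) := by
  rw [mem_fixSub, mem_fixSub, pow_apply_comm]
  constructor
  · intro e; rw [e]
  · intro e; exact ρ.injective e

theorem D_ne_top (M : KMin ρ z) : fixSub (ρ ^ 3) ≠ ⊤ := by
  intro e
  apply M.ne1
  ext y
  have : y ∈ fixSub (ρ ^ 3) := by rw [e]; exact Subgroup.mem_top y
  exact this

/-- the commutator subgroup `[Q, σ]` -/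
def comm (ρ : MulAut Q) : Subgroup Q := closure (Set.range fun x : Q => x⁻¹ * (ρ ^ 3) x)

theorem comm_inv [Finite Q] (_M : KMin ρ z) (y : Q) : y ∈ comm ρ ↔ ρ y ∈ comm ρ := by
  apply inv_iff_of_forward
  intro y hy
  have : comm ρ ≤ (comm ρ).comap ρ.toMonoidHom := by
    rw [comm, closure_le]
    rintro _ ⟨x, rfl⟩
    simp only [Subgroup.coe_comap, Set.mem_preimage, SetLike.mem_coe]
    apply Subgroup.subset_closure
    refine ⟨ρ x, ?_⟩
    simp only [MulEquiv.coe_toMonoidHom, map_mul, map_inv, pow_apply_comm]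
  exact this hy

/-- an odd exponent for `ρ³` -/
theorem exists_odd_pow (M : KMin ρ z) : ∃ o : ℕ, Odd o ∧ (ρ ^ 3) ^ o = 1 := by
  obtain ⟨a, ha⟩ := M.hyp.pow
  refine ⟨3 ^ a, odd_three_pow a, ?_⟩
  rw [← pow_mul, mul_comm, pow_mul, ha, one_pow]

theorem fix_of_twist_mem [Finite Q] (M : KMin ρ z) {x : Q}
    (hx : (ρ ^ 3) (x⁻¹ * (ρ ^ 3) x) = x⁻¹ * (ρ ^ 3) x) : (ρ ^ 3) x = x := by
  obtain ⟨o, ho, hσ⟩ := M.exists_odd_pow
  obtain ⟨k, hk⟩ := M.hyp.pg (x⁻¹ * (ρ ^ 3) x)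
  have h1 : (ρ ^ 3) x = x * (x⁻¹ * (ρ ^ 3) x) := by group
  have := eq_one_of_twist (ρ ^ 3) ho hσ h1 hx hk
  rw [this, mul_one] at h1
  exact h1

theorem comm_eq_top [Finite Q] (M : KMin ρ z) : comm ρ = ⊤ := by
  by_contra hne
  apply M.ne1
  ext x
  apply M.fix_of_twist_mem
  apply M.star (comm ρ) M.comm_inv hne
  exact Subgroup.subset_closure ⟨x, rfl⟩

theorem frattini_inv (f : MulAut Q) (y : Q) : y ∈ frattini Q ↔ f y ∈ frattini Q := by
  have h := (Subgroup.characteristic_iff_comap_eq.mp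
    (inferInstance : (frattini Q).Characteristic)) f
  constructor
  · intro hy
    rw [← h] at hy
    exact hy
  · intro hy
    rw [← h]
    exact hy

theorem frattini_ne_top [Finite Q] (M : KMin ρ z) : frattini Q ≠ ⊤ := by
  have : Nontrivial Q := ⟨⟨z, 1, M.hyp.z1⟩⟩
  have : Nontrivial (Subgroup Q) := inferInstance
  obtain ⟨K, hK⟩ := IsCoatomic.exists_coatom (Subgroup Q)
  intro e
  have := frattini_le_coatom hK
  rw [e] at this
  exact hK.1 (top_le_iff.mp this)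

theorem sq_mem_D [Finite Q] (M : KMin ρ z) (x : Q) : (ρ ^ 3) (x * x) = x * x := by
  have : Fact (Nat.Prime 2) := ⟨Nat.prime_two⟩
  apply M.star (frattini Q) (frattini_inv ρ) M.frattini_ne_top
  have := Cfsg.Agent.Lib.H1.isPGroup_pow_mem_frattini M.hyp.pg x
  rwa [pow_two] at this

theorem cm_mem_D [Finite Q] (M : KMin ρ z) (x y : Q) : (ρ ^ 3) (cm x y) = cm x y := by
  have : Fact (Nat.Prime 2) := ⟨Nat.prime_two⟩
  apply M.star (frattini Q) (frattini_inv ρ) M.frattini_ne_top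
  apply Cfsg.Agent.Lib.H1.isPGroup_commutator_le_frattini M.hyp.pg
  rw [cm_def, ← commutatorElement_def]
  exact Subgroup.commutator_mem_commutator (Subgroup.mem_top x) (Subgroup.mem_top y)

/-- the fixed points of `ρ³` are central -/
theorem D_le_center [Finite Q] (M : KMin ρ z) {d : Q} (hd : (ρ ^ 3) d = d) : d ∈ center Q := by
  have h1 : comm ρ ≤ Subgroup.centralizer {d} := by
    rw [comm, closure_le]
    rintro _ ⟨x, rfl⟩
    simp only [SetLike.mem_coe, Subgroup.mem_centralizer_iff, Set.mem_singleton_iff, forall_eq]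
    have h2 := M.cm_mem_D x d
    rw [cm_def, map_mul, map_mul, map_mul, map_inv, map_inv, hd] at h2
    -- `σx d σx⁻¹ d⁻¹ = x d x⁻¹ d⁻¹`
    have h3 : (ρ ^ 3) x * d * ((ρ ^ 3) x)⁻¹ = x * d * x⁻¹ := by
      calc (ρ ^ 3) x * d * ((ρ ^ 3) x)⁻¹ = ((ρ ^ 3) x * d * ((ρ ^ 3) x)⁻¹ * d⁻¹) * d := by group
        _ = (x * d * x⁻¹ * d⁻¹) * d := by rw [h2]
        _ = x * d * x⁻¹ := by group
    calc d * (x⁻¹ * (ρ ^ 3) x) = x⁻¹ * (x * d * x⁻¹) * (ρ ^ 3) x := by group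
      _ = x⁻¹ * ((ρ ^ 3) x * d * ((ρ ^ 3) x)⁻¹) * (ρ ^ 3) x := by rw [h3]
      _ = x⁻¹ * (ρ ^ 3) x * d := by group
  rw [M.comm_eq_top] at h1
  rw [Subgroup.mem_center_iff]
  intro g
  have := h1 (Subgroup.mem_top g)
  rw [Subgroup.mem_centralizer_iff] at this
  exact (this d rfl).symm

theorem center_ne_top [Finite Q] (M : KMin ρ z) : center Q ≠ ⊤ := by
  intro e
  have hc : ∀ a b : Q, a * b = b * a := by
    intro a b
    have : a ∈ center Q := by rw [e]; exact Subgroup.mem_top a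
    exact (Subgroup.mem_center_iff.mp this b).symm
  apply M.ne1
  ext x
  apply M.fix_of_twist_mem
  apply M.hyp.inv_fix
  have h1 := M.sq_mem_D x
  rw [map_mul] at h1
  calc x⁻¹ * (ρ ^ 3) x * (x⁻¹ * (ρ ^ 3) x) = x⁻¹ * ((ρ ^ 3) x * x⁻¹) * (ρ ^ 3) x := by group
    _ = x⁻¹ * (x⁻¹ * (ρ ^ 3) x) * (ρ ^ 3) x := by rw [hc ((ρ ^ 3) x) x⁻¹]
    _ = x⁻¹ * x⁻¹ * ((ρ ^ 3) x * (ρ ^ 3) x) := by group
    _ = 1 := by rw [h1]; group

theorem center_le_D [Finite Q] (M : KMin ρ z) {d : Q} (hd : d ∈ center Q) : (ρ ^ 3) d = d :=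
  M.star (center Q) (Hyp.tau_center ρ) M.center_ne_top d hd

theorem sq_central [Finite Q] (M : KMin ρ z) (x : Q) : x * x ∈ center Q :=
  M.D_le_center (M.sq_mem_D x)

theorem cm_central [Finite Q] (M : KMin ρ z) (x y : Q) : cm x y ∈ center Q :=
  M.D_le_center (M.cm_mem_D x y)

theorem cm_sq [Finite Q] (M : KMin ρ z) (x y : Q) : cm x y * cm x y = 1 := by
  -- `x y = k y x`
  have hk := Subgroup.mem_center_iff.mp (M.cm_central x y)
  have hs := Subgroup.mem_center_iff.mp (M.sq_central x)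
  have h1 : x * y = cm x y * y * x := swap x y
  have h2 : (x * x) * y = cm x y * cm x y * (y * (x * x)) := by
    calc (x * x) * y = x * (x * y) := by group
      _ = x * (cm x y * y * x) := by rw [← h1]
      _ = (x * cm x y) * y * x := by group
      _ = (cm x y * x) * y * x := by rw [hk x]
      _ = cm x y * (x * y) * x := by group
      _ = cm x y * (cm x y * y * x) * x := by rw [← h1]
      _ = cm x y * cm x y * (y * (x * x)) := by group
  rw [← hs y] at h2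
  exact right_eq_mul.mp h2

theorem cc [Finite Q] (M : KMin ρ z) : CC M.hyp.omega :=
  ⟨M.hyp.omega_le_center, fun _ hc => hc, fun g k => M.cm_sq g k⟩

end KMin

end Cfsg.Agent.Lib.H2.AT
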