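import Mathlib
import Cfsg.Agent.Lib.H2.ATE

set_option autoImplicit false

/-!
# Theorem K: conclusion
-/

namespace Cfsg.Agent.Lib.H2.AT

open Subgroup Cfsg.Agent.Lib.H2.L34 Cfsg.Agent.Lib.H2.RT Cfsg.Agent.Lib.H2.QN

universe u

variable {Q : Type*} [Group Q]

namespace KMin

variable {ρ : MulAut Q} {z : Q}

/-- the elements with square in `Ω` -/
def sqSub [Finite Q] (M : KMin ρ z) : Subgroup Q where
  carrier := {x | x * x ∈ M.hyp.omega}
  one_mem' := by
    simp only [Set.mem_ofPred_eq, mul_one]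
    exact one_mem _
  mul_mem' := by
    intro a b ha hb
    simp only [Set.mem_ofPred_eq] at ha hb ⊢
    rw [M.cc.sq_mul]
    exact mul_mem (mul_mem (M.cc.comm a b) ha) hb
  inv_mem' := by
    intro a ha
    simp only [Set.mem_ofPred_eq] at ha ⊢
    rw [CC.sq_inv]
    exact inv_mem ha

theorem sq_mem [Finite Q] (M : KMin ρ z) (x : Q) : x * x ∈ M.hyp.omega := by
  have h1 : comm ρ ≤ M.sqSub := by
    rw [comm, closure_le]
    rintro _ ⟨x, rfl⟩
    show (x⁻¹ * (ρ ^ 3) x) * (x⁻¹ * (ρ ^ 3) x) ∈ M.hyp.omega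
    set u := x⁻¹ * (ρ ^ 3) x with hu
    have hσx : (ρ ^ 3) x = x * u := by rw [hu]; group
    have h2 : (x * u) * (x * u) = x * x := by
      rw [← hσx, ← map_mul, M.sq_mem_D]
    rw [M.cc.sq_mul, ← M.cc.cmc x u (x * x), mul_assoc, mul_eq_left] at h2
    have h3 : u * u = (cm x u)⁻¹ := eq_inv_of_mul_eq_one_right h2
    rw [h3, M.cc.cm_inv]
    exact M.cc.comm x u
  rw [M.comm_eq_top] at h1
  exact h1 (Subgroup.mem_top x)

theorem omega_normal [Finite Q] (M : KMin ρ z) : M.hyp.omega.Normal := by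
  constructor
  intro v hv g
  have := Subgroup.mem_center_iff.mp (M.hyp.omega_le_center hv) g
  rw [this, mul_inv_cancel_right]
  exact hv

/-- `C_Q(ρ³) = Ω` -/
theorem D_le_omega [Finite Q] (M : KMin ρ z) {d : Q} (hd : (ρ ^ 3) d = d) : d ∈ M.hyp.omega := by
  have hn : M.hyp.omega.Normal := M.omega_normal
  set V := M.hyp.omega with hV
  let σ' := quotA (ρ ^ 3) V (M.hyp.omega_inv (ρ ^ 3))
  have hcomm : ∀ a b : Q ⧸ V, a * b = b * a := by
    intro a b
    induction a using QuotientGroup.induction_on with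
    | H a =>
      induction b using QuotientGroup.induction_on with
      | H b =>
        rw [← QuotientGroup.mk_mul, ← QuotientGroup.mk_mul, eq_comm, QuotientGroup.eq]
        have : (b * a)⁻¹ * (a * b) = cm a⁻¹ b⁻¹ := by rw [cm_def]; group
        rw [this]
        exact M.cc.comm _ _
  let f : (Q ⧸ V) →* (Q ⧸ V) := MonoidHom.mk' (fun w => w⁻¹ * σ' w) (by
    intro a b
    simp only [map_mul, mul_inv_rev]
    rw [hcomm b⁻¹ a⁻¹, mul_assoc, mul_assoc, ← mul_assoc b⁻¹, hcomm b⁻¹ (σ' a), mul_assoc])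
  have hf : ∀ w, f w = w⁻¹ * σ' w := fun w => rfl
  have hsurj : Function.Surjective f := by
    have h1 : comm ρ ≤ (f.range).comap (QuotientGroup.mk' V) := by
      rw [comm, closure_le]
      rintro _ ⟨x, rfl⟩
      simp only [Subgroup.coe_comap, Set.mem_preimage, SetLike.mem_coe, QuotientGroup.mk'_apply]
      refine ⟨QuotientGroup.mk x, ?_⟩
      rw [hf, quotA_mk]
      rfl
    rw [M.comm_eq_top] at h1
    intro w
    induction w using QuotientGroup.induction_on with
    | H x =>
      have := h1 (Subgroup.mem_top x)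
      simpa using this
  have hinj : Function.Injective f := Finite.injective_iff_surjective.mpr hsurj
  have h2 : f (QuotientGroup.mk d) = f 1 := by
    rw [hf, hf, quotA_mk, hd, map_one]
    simp
  have h3 := hinj h2
  exact (QuotientGroup.eq_one_iff d).mp h3

theorem card_lt [Finite Q] (M : KMin ρ z) : Nat.card Q < 128 := by
  by_contra hcon
  push Not at hcon
  obtain ⟨a, ha, haa⟩ := exists_involution_notMem M.hyp.omega M.hyp.omega_le_center
    M.hyp.card_omega (fun v hv => hv) M.sq_mem hcon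
  exact ha haa

theorem false [Finite Q] (M : KMin ρ z) : False := by
  classical
  have hV4 := M.hyp.card_omega
  set V := M.hyp.omega with hV
  -- the minimal exponent
  set a := Nat.find M.hyp.pow with ha
  have hspec : ρ ^ 3 ^ a = 1 := Nat.find_spec M.hyp.pow
  have ha2 : 2 ≤ a := by
    by_contra hcon
    have : a = 0 ∨ a = 1 := by omega
    rcases this with e | e
    · rw [e, pow_zero, pow_one] at hspec
      apply M.ne1
      rw [hspec, one_pow]
    · rw [e, pow_one] at hspec
      exact M.ne1 hspec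
  set τ := ρ ^ 3 ^ (a - 2) with hτ
  have hτ9 : τ ^ 9 = 1 := by
    rw [hτ, ← pow_mul]
    have : 3 ^ (a - 2) * 9 = 3 ^ a := by
      have : a = (a - 2) + 2 := by omega
      conv_rhs => rw [this, pow_add]
      norm_num
    rw [this, hspec]
  have hτ3 : τ ^ 3 = ρ ^ 3 ^ (a - 1) := by
    rw [hτ, ← pow_mul]
    congr 1
    have : a - 1 = (a - 2) + 1 := by omega
    rw [this, pow_succ]
  have hτ3ne : τ ^ 3 ≠ 1 := by
    rw [hτ3]
    exact Nat.find_min M.hyp.pow (by omega : a - 1 < a)
  -- fixed points of `τ³` lie in `V`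
  have hfix : ∀ x : Q, (τ ^ 3) x = x → x ∈ V := by
    intro x hx
    apply M.D_le_omega
    have hinv : ∀ y, y ∈ fixSub (τ ^ 3) ↔ ρ y ∈ fixSub (τ ^ 3) := by
      intro y
      rw [mem_fixSub, mem_fixSub, hτ3, pow_apply_comm]
      constructor
      · intro e; rw [e]
      · intro e; exact ρ.injective e
    have hne : fixSub (τ ^ 3) ≠ ⊤ := by
      intro e
      apply hτ3ne
      ext y
      have : y ∈ fixSub (τ ^ 3) := by rw [e]; exact Subgroup.mem_top y
      exact this
    exact M.star _ hinv hne x hx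
  -- the permutation of the complement of `V`
  let π : Equiv.Perm {x : Q // x ∉ V} :=
    Equiv.subtypeEquiv τ.toEquiv (fun a => not_congr (M.hyp.omega_inv τ a))
  have hπ : ∀ (k : ℕ) (x : {x : Q // x ∉ V}), (((π ^ k) x : {x : Q // x ∉ V}) : Q) = (τ ^ k) x := by
    intro k
    induction k with
    | zero => intro x; rfl
    | succ k ih =>
      intro x
      rw [pow_succ', Equiv.Perm.mul_apply, pow_succ', MulAut.mul_apply, ← ih]
      rfl
  have h9 := nine_dvd_card π (by
    ext x
    rw [hπ, hτ9]; rfl) (by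
    intro x hx
    have := congrArg Subtype.val hx
    rw [hπ] at this
    exact x.2 (hfix _ this))
  -- counting
  have hcard : Nat.card Q = 4 + Nat.card {x : Q // x ∉ V} := by
    rw [← hV4]
    rw [Nat.card_congr (Equiv.sumCompl (fun x => x ∈ V)).symm, Nat.card_sum]
  have hX : 0 < Nat.card {x : Q // x ∉ V} := by
    obtain ⟨x, hx⟩ : ∃ x : Q, (ρ ^ 3) x ≠ x := by
      by_contra hcon
      push Not at hcon
      apply M.ne1
      ext y
      exact hcon y
    have : Nonempty {x : Q // x ∉ V} := ⟨⟨x, fun hxV => hx (M.hyp.inv_fix hxV)⟩⟩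
    exact Nat.card_pos
  have : Fact (Nat.Prime 2) := ⟨Nat.prime_two⟩
  obtain ⟨k, hk⟩ := IsPGroup.iff_card.mp M.hyp.pg
  have hlt := M.card_lt
  rw [hk] at hlt hcard
  have hk7 : k < 7 := by
    by_contra hcon
    have : 2 ^ 7 ≤ 2 ^ k := Nat.pow_le_pow_right (by norm_num) (by omega)
    omega
  obtain ⟨c, hc⟩ := h9
  interval_cases k <;> omega

end KMin

/-- **Theorem K** -/
theorem K_aux (n : ℕ) : ∀ (Q : Type u) [Group Q] [Finite Q] (ρ : MulAut Q) (z : Q),
    Nat.card Q = n → KHyp ρ z → ρ ^ 3 = 1 := by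
  induction n using Nat.strong_induction_on with
  | _ n ih =>
    intro Q _ _ ρ z hn h
    by_contra hne
    have M : KMin ρ z := by
      refine ⟨h, ?_, hne⟩
      intro S hS hStop s hs
      by_cases hbot : S = ⊥
      · rw [hbot, Subgroup.mem_bot] at hs
        rw [hs, map_one]
      obtain ⟨z', hz'⟩ := h.sub S hS hbot
      have hlt : Nat.card S < n := by
        rw [← hn]
        apply lt_of_le_of_ne (Subgroup.card_le_card_group S)
        intro e
        exact hStop (Subgroup.eq_top_of_card_eq S e)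
      have h3 := ih _ hlt S (resA ρ S hS) z' rfl hz'
      have h4 := resA_pow ρ S hS 3 ⟨s, hs⟩
      rw [h3] at h4
      exact h4.symm
    exact M.false

theorem KHyp.cube_eq_one {Q : Type u} [Group Q] [Finite Q] {ρ : MulAut Q} {z : Q}
    (h : KHyp ρ z) : ρ ^ 3 = 1 := K_aux _ Q ρ z rfl h

end Cfsg.Agent.Lib.H2.AT
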