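import Mathlib
import Cfsg.Agent.Lib.H2.ATF

set_option autoImplicit false

/-!
# Theorem P, preparations: invariant subgroups of index four, abelian normal closures
-/

namespace Cfsg.Agent.Lib.H2.AT

open Subgroup Cfsg.Agent.Lib.H2.L34 Cfsg.Agent.Lib.H2.RT Cfsg.Agent.Lib.H2.QN

universe u

/-- product formula -/
theorem card_sup_mul_card_inf' {G : Type*} [Group G] [Finite G] (H N : Subgroup G) [N.Normal] :
    Nat.card (H ⊔ N : Subgroup G) * Nat.card (H ⊓ N : Subgroup G) = Nat.card H * Nat.card N := by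
  have e := QuotientGroup.quotientInfEquivProdNormalQuotient H N
  have h1 := Subgroup.card_eq_card_quotient_mul_card_subgroup (N.subgroupOf H)
  have h2 := Subgroup.card_eq_card_quotient_mul_card_subgroup (N.subgroupOf (H ⊔ N))
  have h3 : Nat.card (N.subgroupOf (H ⊔ N)) = Nat.card N :=
    Nat.card_congr (Subgroup.subgroupOfEquivOfLe le_sup_right).toEquiv
  have h4 : Nat.card (N.subgroupOf H) = Nat.card (H ⊓ N : Subgroup G) := by
    rw [← Subgroup.inf_subgroupOf_left N H]
    exact Nat.card_congr (Subgroup.subgroupOfEquivOfLe inf_le_left).toEquiv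
  rw [Nat.card_congr e.toEquiv] at h1
  rw [h2, h1, h3, h4]
  ring

section

variable {Q : Type u} [Group Q]

theorem KHyp.fpf3 [Finite Q] {ρ : MulAut Q} {z : Q} (h : KHyp ρ z) : Fpf3 ρ := by
  refine ⟨fun y => ?_, fun y hy => h.fix_eq_one hy⟩
  rw [← h.cube_apply, h.cube_eq_one]; rfl

theorem KHyp.omega_le [Finite Q] {ρ : MulAut Q} {z : Q} (h : KHyp ρ z) (S : Subgroup Q)
    (hS : ∀ y, y ∈ S ↔ ρ y ∈ S) (hne : S ≠ ⊥) : h.omega ≤ S := by
  obtain ⟨u, hu, hu1, huu⟩ := h.exists_inv_mem S hne
  have hz : z ∈ S := by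
    rcases h.inv u huu with e | e | e | e
    · exact absurd e hu1
    · rw [← e]; exact hu
    · rw [e] at hu; exact (hS z).mpr hu
    · rw [e] at hu; exact (hS z).mpr ((hS _).mpr hu)
  intro x hx
  rcases h.inv x hx with e | e | e | e
  · rw [e]; exact one_mem _
  · rw [e]; exact hz
  · rw [e]; exact (hS z).mp hz
  · rw [e]; exact (hS _).mp ((hS z).mp hz)

end

variable {Q : Type*} [Group Q] {ρ : MulAut Q}

/-- between invariant subgroups of relative index four there is nothing invariant -/
theorem sandwich [Finite Q] (h : Fpf3 ρ) {A B C : Subgroup Q} (hAB : A ≤ B) (hBC : B ≤ C)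
    (hA : ∀ y, y ∈ A ↔ ρ y ∈ A) (hB : ∀ y, y ∈ B ↔ ρ y ∈ B)
    (hcard : Nat.card C = 4 * Nat.card A) : B = A ∨ B = C := by
  have h1 := Subgroup.card_dvd_of_le hAB
  have h2 := Subgroup.card_dvd_of_le hBC
  have hmA := h.card_modEq A hA
  have hmB := h.card_modEq B hB
  obtain ⟨k, hk⟩ := h1
  rw [hcard, hk] at h2
  have hApos : 0 < Nat.card A := Nat.card_pos
  have hk4 : k ∣ 4 := by
    rw [mul_comm 4] at h2
    exact Nat.dvd_of_mul_dvd_mul_left hApos h2
  have hk' : k = 1 ∨ k = 2 ∨ k = 4 := by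
    have : k ≤ 4 := Nat.le_of_dvd (by norm_num) hk4
    interval_cases k
    · exfalso; revert hk4; decide
    · left; rfl
    · right; left; rfl
    · exfalso; revert hk4; decide
    · right; right; rfl
  rcases hk' with e | e | e
  · left
    symm
    apply Subgroup.eq_of_le_of_card_ge hAB
    rw [hk, e, mul_one]
  · exfalso
    rw [hk, e] at hmB
    unfold Nat.ModEq at hmA hmB
    omega
  · right
    apply Subgroup.eq_of_le_of_card_ge hBC
    rw [hcard, hk, e, mul_comm]

theorem frattini_ne_top' (W : Type*) [Group W] [Finite W] [Nontrivial W] : frattini W ≠ ⊤ := by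
  have : Nontrivial (Subgroup W) := inferInstance
  obtain ⟨K, hK⟩ := IsCoatomic.exists_coatom (Subgroup W)
  intro e
  have := frattini_le_coatom hK
  rw [e] at this
  exact hK.1 (top_le_iff.mp this)

/-- invariant normal subgroups of index four above a given proper one -/
theorem exists_index_four [Finite Q] (h : Fpf3 ρ) (hQ : IsPGroup 2 Q) (N : Subgroup Q)
    (hNn : N.Normal) (hN : ∀ y, y ∈ N ↔ ρ y ∈ N) (hne : N ≠ ⊤) :
    ∃ M : Subgroup Q, N ≤ M ∧ M.Normal ∧ (∀ y, y ∈ M ↔ ρ y ∈ M) ∧
      Nat.card Q = 4 * Nat.card M ∧ ∀ g : Q, g * g ∈ M := by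
  classical
  have : Fact (Nat.Prime 2) := ⟨Nat.prime_two⟩
  obtain ⟨M, hNM, hmax⟩ := Finite.exists_le_maximal
    (p := fun M : Subgroup Q => M.Normal ∧ (∀ y, y ∈ M ↔ ρ y ∈ M) ∧ M ≠ ⊤) ⟨hNn, hN, hne⟩
  obtain ⟨⟨hMn, hM, hMne⟩, hMmax⟩ := hmax
  -- maximality
  have hmx : ∀ F : Subgroup Q, F.Normal → (∀ y, y ∈ F ↔ ρ y ∈ F) → M ≤ F → F = M ∨ F = ⊤ := by
    intro F hFn hF hMF
    by_cases hFt : F = ⊤
    · exact Or.inr hFt
    · left
      exact le_antisymm (hMmax ⟨hFn, hF, hFt⟩ hMF) hMF
  let ρ' := quotA ρ M hM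
  have hfq : Fpf3 ρ' := fpf3_quot h M hM
  have hWpg : IsPGroup 2 (Q ⧸ M) := hQ.to_quotient M
  have hnt : Nontrivial (Q ⧸ M) := by
    obtain ⟨x, hx⟩ : ∃ x, x ∉ M := by
      by_contra hcon
      push Not at hcon
      exact hMne (eq_top_iff.mpr fun x _ => hcon x)
    exact ⟨⟨QuotientGroup.mk x, 1, fun e => hx ((QuotientGroup.eq_one_iff x).mp e)⟩⟩
  -- the Frattini subgroup of the quotient is trivial
  have hfr : frattini (Q ⧸ M) = ⊥ := by
    let F := (frattini (Q ⧸ M)).comap (QuotientGroup.mk' M)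
    have hFn : F.Normal := Subgroup.Normal.comap (inferInstance) _
    have hF : ∀ y, y ∈ F ↔ ρ y ∈ F := by
      intro y
      simp only [F, Subgroup.mem_comap, QuotientGroup.mk'_apply]
      rw [KMin.frattini_inv ρ' (QuotientGroup.mk y), quotA_mk]
    have hMF : M ≤ F := by
      intro m hm
      simp only [F, Subgroup.mem_comap, QuotientGroup.mk'_apply]
      rw [(QuotientGroup.eq_one_iff m).mpr hm]
      exact one_mem _
    rcases hmx F hFn hF hMF with e | e
    · rw [eq_bot_iff]
      intro w hw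
      induction w using QuotientGroup.induction_on with
      | H x =>
        have : x ∈ F := hw
        rw [e] at this
        rw [Subgroup.mem_bot, QuotientGroup.eq_one_iff]
        exact this
    · exfalso
      apply frattini_ne_top' (Q ⧸ M)
      rw [eq_top_iff]
      intro w _
      induction w using QuotientGroup.induction_on with
      | H x =>
        have : x ∈ F := by rw [e]; exact Subgroup.mem_top x
        exact this
  have hsq : ∀ w : Q ⧸ M, w * w = 1 := by
    intro w
    have := Cfsg.Agent.Lib.H1.isPGroup_pow_mem_frattini hWpg w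
    rw [hfr, Subgroup.mem_bot, pow_two] at this
    exact this
  have hinvW : ∀ w : Q ⧸ M, w⁻¹ = w := fun w => inv_eq_of_mul_eq_one_left (hsq w)
  have hcomm : ∀ a b : Q ⧸ M, a * b = b * a := by
    intro a b
    have h1 := hsq (a * b)
    calc a * b = (a * b)⁻¹⁻¹ := (inv_inv _).symm
      _ = (b⁻¹ * a⁻¹)⁻¹ := by rw [mul_inv_rev]
      _ = (b * a)⁻¹ := by rw [hinvW a, hinvW b]
      _ = b * a := hinvW _
  -- a four-subgroup
  obtain ⟨w, hw⟩ := exists_ne (1 : Q ⧸ M)
  set r := ρ' w with hr
  set rr := ρ' r with hrr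
  have hp3 : w * r * rr = 1 := hfq.prod3 w
  have hrr_eq : rr = w * r := by
    have : rr = (w * r)⁻¹ := eq_inv_of_mul_eq_one_right hp3
    rw [this, hinvW]
  have hr1 : r ≠ 1 := fun e => hw (by rw [hr, ← map_one ρ'] at e; exact ρ'.injective e)
  have hwr : w ≠ r := fun e => hw (hfq.fpf w e.symm)
  have hrr1 : rr ≠ 1 := fun e => hr1 (by rw [hrr, ← map_one ρ'] at e; exact ρ'.injective e)
  have hrrr : r ≠ rr := fun e => hwr (ρ'.injective e)
  have hwrr : w ≠ rr := by
    intro e
    rw [hrr_eq] at e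
    exact hr1 (left_eq_mul.mp e)
  have hρrr : ρ' rr = w := hfq.cube w
  let U : Subgroup (Q ⧸ M) :=
    { carrier := {1, w, r, w * r}
      one_mem' := by simp
      mul_mem' := by
        intro a b ha hb
        simp only [Set.mem_insert_iff, Set.mem_singleton_iff] at ha hb ⊢
        have e1 : w * (w * r) = r := by rw [← mul_assoc, hsq, one_mul]
        have e2 : r * (w * r) = w := by rw [hcomm w r, ← mul_assoc, hsq, one_mul]
        have e3 : (w * r) * w = r := by rw [hcomm w r, mul_assoc, hsq, mul_one]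
        have e4 : (w * r) * r = w := by rw [mul_assoc, hsq, mul_one]
        rcases ha with ha | ha | ha | ha <;> rcases hb with hb | hb | hb | hb <;>
          rw [ha, hb] <;> simp [hsq, e1, e2, e3, e4, hcomm r w]
      inv_mem' := by
        intro a ha
        rw [hinvW]; exact ha }
  have hUmem : ∀ y, y ∈ U ↔ y = 1 ∨ y = w ∨ y = r ∨ y = w * r := fun y => Iff.rfl
  have hUinv : ∀ y, y ∈ U → ρ' y ∈ U := by
    intro y hy
    rw [hUmem] at hy ⊢
    rcases hy with rfl | rfl | rfl | rfl
    · left; exact map_one _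
    · right; right; left; rfl
    · right; right; right; rw [← hrr_eq]
    · right; left; rw [← hrr_eq, hρrr]
  have hUtop : U = ⊤ := by
    let F := U.comap (QuotientGroup.mk' M)
    have hUn : U.Normal := ⟨fun n hn g => by rw [hcomm g n, mul_inv_cancel_right]; exact hn⟩
    have hFn : F.Normal := Subgroup.Normal.comap hUn _
    have hF : ∀ y, y ∈ F ↔ ρ y ∈ F := by
      apply inv_iff_of_forward
      intro y hy
      simp only [F, Subgroup.mem_comap, QuotientGroup.mk'_apply] at hy ⊢
      rw [← quotA_mk ρ M hM]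
      exact hUinv _ hy
    have hMF : M ≤ F := by
      intro m hm
      simp only [F, Subgroup.mem_comap, QuotientGroup.mk'_apply]
      rw [(QuotientGroup.eq_one_iff m).mpr hm]
      exact one_mem _
    rcases hmx F hFn hF hMF with e | e
    · exfalso
      induction w using QuotientGroup.induction_on with
      | H x =>
        have : x ∈ F := by
          simp only [F, Subgroup.mem_comap, QuotientGroup.mk'_apply]
          rw [hUmem]; right; left; rfl
        rw [e] at this
        exact hw ((QuotientGroup.eq_one_iff x).mpr this)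
    · rw [eq_top_iff]
      intro y _
      induction y using QuotientGroup.induction_on with
      | H x =>
        have : x ∈ F := by rw [e]; exact Subgroup.mem_top x
        exact this
  have hcardW : Nat.card (Q ⧸ M) = 4 := by
    have h1 : Nat.card (Q ⧸ M) = Nat.card U := by
      rw [hUtop, Subgroup.card_top]
    have h2 : Nat.card U = (U : Set (Q ⧸ M)).ncard := rfl
    have h3 : (U : Set (Q ⧸ M)) = {1, w, r, w * r} := rfl
    rw [h1, h2, h3, ← hrr_eq]
    rw [Set.ncard_insert_of_notMem, Set.ncard_insert_of_notMem, Set.ncard_insert_of_notMem,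
      Set.ncard_singleton]
    · simp only [Set.mem_singleton_iff]; exact hrrr
    · simp only [Set.mem_insert_iff, Set.mem_singleton_iff, not_or]
      exact ⟨hwr, hwrr⟩
    · simp only [Set.mem_insert_iff, Set.mem_singleton_iff, not_or]
      exact ⟨Ne.symm hw, Ne.symm hr1, Ne.symm hrr1⟩
  refine ⟨M, hNM, hMn, hM, ?_, ?_⟩
  · rw [Subgroup.card_eq_card_quotient_mul_card_subgroup M, hcardW]
  · intro g
    rw [← QuotientGroup.eq_one_iff, QuotientGroup.mk_mul]
    exact hsq _

end Cfsg.Agent.Lib.H2.AT
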