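import Mathlib
import Cfsg.Agent.Lib.H2.ATG

set_option autoImplicit false

/-!
# The abelian normal closure of an orbit of a fixed-point-free automorphism of order three
-/

namespace Cfsg.Agent.Lib.H2.AT

open Subgroup Cfsg.Agent.Lib.H2.L34 Cfsg.Agent.Lib.H2.RT Cfsg.Agent.Lib.H2.QN

variable {Q : Type*} [Group Q] {ρ : MulAut Q}

/-- every element commutes with all conjugates of the elements of its orbit -/
theorem comm_conj [Finite Q] (h : Fpf3 ρ) (y s : Q) {b : Q}
    (hb : b = y ∨ b = ρ y ∨ b = ρ (ρ y)) : y * (s * b * s⁻¹) = (s * b * s⁻¹) * y := by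
  have h1 : ∀ y s : Q, y * (s * ρ y * s⁻¹) = (s * ρ y * s⁻¹) * y := by
    intro y s
    have := (fpf3_twistA h s⁻¹).comm y
    rwa [twistA_apply, inv_inv] at this
  rcases hb with rfl | rfl | rfl
  · exact engel h b s
  · exact h1 y s
  · have h2 := h1 (ρ (ρ y)) s⁻¹
    rw [h.cube, inv_inv] at h2
    calc y * (s * ρ (ρ y) * s⁻¹) = s * ((s⁻¹ * y * s) * ρ (ρ y)) * s⁻¹ := by group
      _ = s * (ρ (ρ y) * (s⁻¹ * y * s)) * s⁻¹ := by rw [h2]
      _ = (s * ρ (ρ y) * s⁻¹) * y := by group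

/-- the normal closure of the orbit of `x` -/
def nx (ρ : MulAut Q) (x : Q) : Subgroup Q := Subgroup.normalClosure {x, ρ x, ρ (ρ x)}

theorem nx_normal (ρ : MulAut Q) (x : Q) : (nx ρ x).Normal := Subgroup.normalClosure_normal

theorem mem_nx_self (ρ : MulAut Q) (x : Q) : x ∈ nx ρ x :=
  Subgroup.subset_normalClosure (by simp)

theorem nx_inv [Finite Q] (h : Fpf3 ρ) (x : Q) : ∀ y, y ∈ nx ρ x ↔ ρ y ∈ nx ρ x := by
  apply inv_iff_of_forward
  intro y hy
  have : ((nx ρ x).comap ρ.toMonoidHom).Normal := Subgroup.Normal.comap (nx_normal ρ x) _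
  have : nx ρ x ≤ (nx ρ x).comap ρ.toMonoidHom := by
    apply Subgroup.normalClosure_le_normal
    intro a ha
    simp only [Set.mem_insert_iff, Set.mem_singleton_iff] at ha
    simp only [Subgroup.coe_comap, Set.mem_preimage, SetLike.mem_coe, MulEquiv.coe_toMonoidHom]
    apply Subgroup.subset_normalClosure
    rcases ha with rfl | rfl | rfl
    · simp
    · simp
    · rw [h.cube]; simp
  exact this hy

theorem nx_comm [Finite Q] (h : Fpf3 ρ) (x : Q) :
    ∀ a ∈ nx ρ x, ∀ b ∈ nx ρ x, a * b = b * a := by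
  set S := Group.conjugatesOfSet ({x, ρ x, ρ (ρ x)} : Set Q) with hS
  have hrel : ∀ a ∈ ({x, ρ x, ρ (ρ x)} : Set Q), ∀ b ∈ ({x, ρ x, ρ (ρ x)} : Set Q),
      b = a ∨ b = ρ a ∨ b = ρ (ρ a) := by
    intro a ha b hb
    simp only [Set.mem_insert_iff, Set.mem_singleton_iff] at ha hb
    rcases ha with rfl | rfl | rfl <;> rcases hb with rfl | rfl | rfl <;>
      simp [h.cube]
  have hpair : ∀ a ∈ S, ∀ b ∈ S, a * b = b * a := by
    intro a ha b hb
    rw [hS, Group.mem_conjugatesOfSet_iff] at ha hb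
    obtain ⟨a0, ha0, hca⟩ := ha
    obtain ⟨b0, hb0, hcb⟩ := hb
    obtain ⟨s, rfl⟩ := isConj_iff.mp hca
    obtain ⟨t, rfl⟩ := isConj_iff.mp hcb
    have := comm_conj h a0 (s⁻¹ * t) (hrel a0 ha0 b0 hb0)
    calc s * a0 * s⁻¹ * (t * b0 * t⁻¹)
        = s * (a0 * (s⁻¹ * t * b0 * (s⁻¹ * t)⁻¹)) * s⁻¹ := by group
      _ = s * ((s⁻¹ * t * b0 * (s⁻¹ * t)⁻¹) * a0) * s⁻¹ := by rw [this]
      _ = t * b0 * t⁻¹ * (s * a0 * s⁻¹) := by group
  have h1 : closure S ≤ centralizer S := by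
    rw [closure_le]
    intro a ha
    rw [SetLike.mem_coe, Subgroup.mem_centralizer_iff]
    intro b hb
    exact hpair b hb a ha
  have h2 : closure S ≤ centralizer (closure S : Set Q) := by
    rw [closure_le]
    intro a ha
    rw [SetLike.mem_coe, Subgroup.mem_centralizer_iff]
    intro c hc
    have := h1 hc
    rw [Subgroup.mem_centralizer_iff] at this
    exact (this a ha).symm
  intro a ha b hb
  have ha' : a ∈ closure S := ha
  have hb' : b ∈ closure S := hb
  have := h2 ha'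
  rw [Subgroup.mem_centralizer_iff] at this
  exact (this b hb').symm

end Cfsg.Agent.Lib.H2.AT
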