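import Mathlib
import Cfsg.Agent.Lib.H2.ATH

set_option autoImplicit false

/-!
# The abelian case: homocyclic groups of rank two
-/

namespace Cfsg.Agent.Lib.H2.AT

open Subgroup Cfsg.Agent.Lib.H2.L34 Cfsg.Agent.Lib.H2.RT Cfsg.Agent.Lib.H2.QN

universe u

variable {A : Type u} [Group A]

/-- inversion as an automorphism of a commutative group -/
def invAut (hc : ∀ a b : A, a * b = b * a) : MulAut A where
  toFun a := a⁻¹
  invFun a := a⁻¹
  left_inv a := inv_inv a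
  right_inv a := inv_inv a
  map_mul' a b := by rw [mul_inv_rev, hc]

theorem invAut_apply (hc : ∀ a b : A, a * b = b * a) (a : A) : invAut hc a = a⁻¹ := rfl

variable {ρ : MulAut A} {z : A}

theorem KHyp.hyp_of_comm [Finite A] (h : KHyp ρ z) (hc : ∀ a b : A, a * b = b * a) :
    RT.Hyp ρ (invAut hc) h.omega where
  pg := h.pg
  fpf := h.fpf3
  invol := fun y => by rw [invAut_apply, invAut_apply, inv_inv]
  comm := fun y => by rw [invAut_apply, invAut_apply, map_inv]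
  fix := fun y => by
    rw [invAut_apply, h.mem_omega]
    constructor
    · intro e
      calc y * y = y * y⁻¹ := by rw [e]
        _ = 1 := mul_inv_cancel y
    · intro e
      exact inv_eq_of_mul_eq_one_left e
  cardV := h.card_omega

/-- the structure of the abelian case -/
theorem KHyp.abelian_structure [Finite A] (h : KHyp ρ z) (hc : ∀ a b : A, a * b = b * a) :
    ∃ (n : ℕ) (x : A), 1 ≤ n ∧ x ^ (2 ^ n) = 1 ∧
      (∀ i j : ℕ, x ^ i * (ρ x) ^ j = 1 → 2 ^ n ∣ i ∧ 2 ^ n ∣ j) ∧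
      (∀ y : A, ∃ i j : ℕ, y = x ^ i * (ρ x) ^ j) ∧ Nat.card A = 2 ^ n * 2 ^ n ∧
      Nonempty (A ≃* Multiplicative (ZMod (2 ^ n) × ZMod (2 ^ n))) := by
  obtain ⟨n, x, hn, hx, hA, hB⟩ := (h.hyp_of_comm hc).abelian_gen hc (fun e he => he)
  have hx' : (ρ x) ^ (2 ^ n) = 1 := by rw [← map_pow, hx, map_one]
  obtain ⟨e⟩ := nonempty_equiv_zmod hc hx hx' hA hB
  refine ⟨n, x, hn, hx, hA, hB, ?_, ⟨e.trans (MulEquiv.prodMultiplicative _ _).symm⟩⟩
  have : NeZero (2 ^ n) := ⟨by positivity⟩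
  rw [Nat.card_congr e.toEquiv, Nat.card_prod, Nat.card_eq_fintype_card]
  have : Fintype.card (Multiplicative (ZMod (2 ^ n))) = 2 ^ n := by
    rw [Fintype.card_multiplicative, ZMod.card]
  rw [this]

/-- in the abelian case of order at least `64` elements of order dividing four are squares -/
theorem KHyp.exists_sqrt [Finite A] (h : KHyp ρ z) (hc : ∀ a b : A, a * b = b * a)
    (hcard : 64 ≤ Nat.card A) {m : A} (hm : (m * m) * (m * m) = 1) : ∃ n : A, n * n = m := by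
  obtain ⟨n, x, hn, hx, hA, hB, hcardA, _⟩ := h.abelian_structure hc
  have hn3 : 3 ≤ n := by
    by_contra hcon
    have : n ≤ 2 := by omega
    have h1 : 2 ^ n ≤ 2 ^ 2 := Nat.pow_le_pow_right (by norm_num) this
    have : 2 ^ n * 2 ^ n ≤ 2 ^ 2 * 2 ^ 2 := Nat.mul_le_mul h1 h1
    omega
  obtain ⟨i, j, rfl⟩ := hB m
  have h4 : x ^ (i * 4) * (ρ x) ^ (j * 4) = 1 := by
    rw [pow_mul, pow_mul, ← c_mul_pow hc]
    calc (x ^ i * ρ x ^ j) ^ 4 = (x ^ i * ρ x ^ j) * (x ^ i * ρ x ^ j) *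
        ((x ^ i * ρ x ^ j) * (x ^ i * ρ x ^ j)) := by
          rw [show 4 = 2 * 2 from rfl, pow_mul, pow_two, pow_two]
      _ = 1 := hm
  obtain ⟨hi, hj⟩ := hA _ _ h4
  have h8 : (8 : ℕ) ∣ 2 ^ n := by
    calc (8 : ℕ) = 2 ^ 3 := by norm_num
      _ ∣ 2 ^ n := pow_dvd_pow 2 hn3
  have hi2 : 2 ∣ i := by
    have : 8 ∣ i * 4 := h8.trans hi
    omega
  have hj2 : 2 ∣ j := by
    have : 8 ∣ j * 4 := h8.trans hj
    omega
  obtain ⟨i', rfl⟩ := hi2
  obtain ⟨j', rfl⟩ := hj2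
  refine ⟨x ^ i' * (ρ x) ^ j', ?_⟩
  rw [c_sq_mul hc, ← pow_add, ← pow_add]
  congr 2 <;> ring

end Cfsg.Agent.Lib.H2.AT
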