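import Mathlib
import Cfsg.Agent.Lib.H2.ATI

set_option autoImplicit false
set_option linter.unusedSectionVars false

/-!
# Theorem P, case A: an abelian invariant normal subgroup of index four (commutator calculus)
-/

namespace Cfsg.Agent.Lib.H2.AT

open Subgroup Cfsg.Agent.Lib.H2.L34 Cfsg.Agent.Lib.H2.RT Cfsg.Agent.Lib.H2.QN

universe u

variable {Q : Type u} [Group Q] {ρ : MulAut Q} {z : Q} {M : Subgroup Q}

/-- the configuration of case A -/
structure CaseA (ρ : MulAut Q) (z : Q) (M : Subgroup Q) : Prop where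
  hyp : KHyp ρ z
  normal : M.Normal
  inv : ∀ y, y ∈ M ↔ ρ y ∈ M
  idx : Nat.card Q = 4 * Nat.card M
  sq : ∀ g : Q, g * g ∈ M
  comm : ∀ a ∈ M, ∀ b ∈ M, a * b = b * a
  na : ¬ ∀ a b : Q, a * b = b * a

namespace CaseA

variable [Finite Q]

theorem cm_mem (C : CaseA ρ z M) (g : Q) {m : Q} (hm : m ∈ M) : cm g m ∈ M := by
  rw [cm_def]
  exact M.mul_mem (C.normal.conj_mem m hm g) (M.inv_mem hm)

theorem cm_comm_left (C : CaseA ρ z M) (g m : Q) : g * cm g m = cm g m * g := by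
  have h1 := engel C.hyp.fpf3 g m
  have h2 : Commute g (m * g * m⁻¹) := h1
  have h3 : Commute g (g * (m * g * m⁻¹)⁻¹) := (Commute.refl g).mul_right h2.inv_right
  have h4 : cm g m = g * (m * g * m⁻¹)⁻¹ := by rw [cm_def]; group
  rw [h4]
  exact h3.eq

theorem cm_sq (C : CaseA ρ z M) (g : Q) {m : Q} (hm : m ∈ M) : cm g m * cm g m = 1 := by
  have hgg : (g * g) * m = m * (g * g) := C.comm _ (C.sq g) _ hm
  have h1 : cm g m = (cm g m)⁻¹ := by
    calc cm g m = g * cm g m * g⁻¹ := by rw [C.cm_comm_left]; group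
      _ = ((g * g) * m) * (g * g)⁻¹ * (g * m * g⁻¹)⁻¹ := by rw [cm_def]; group
      _ = (m * (g * g)) * (g * g)⁻¹ * (g * m * g⁻¹)⁻¹ := by rw [hgg]
      _ = (cm g m)⁻¹ := by rw [cm_def]; group
  calc cm g m * cm g m = cm g m * (cm g m)⁻¹ := by rw [← h1]
    _ = 1 := mul_inv_cancel _

theorem cm_mem_omega (C : CaseA ρ z M) (g : Q) {m : Q} (hm : m ∈ M) : cm g m ∈ C.hyp.omega :=
  C.cm_sq g hm

theorem cm_central (C : CaseA ρ z M) (g : Q) {m : Q} (hm : m ∈ M) (u : Q) :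
    u * cm g m = cm g m * u :=
  Subgroup.mem_center_iff.mp (C.hyp.omega_le_center (C.cm_mem_omega g hm)) u

theorem cm_inv' (C : CaseA ρ z M) (g : Q) {m : Q} (hm : m ∈ M) : (cm g m)⁻¹ = cm g m :=
  inv_eq_of_mul_eq_one_left (C.cm_sq g hm)

theorem cm_mul_right (C : CaseA ρ z M) (g : Q) {m m' : Q} (_hm : m ∈ M) (hm' : m' ∈ M) :
    cm g (m * m') = cm g m * cm g m' := by
  rw [cm_mul_right_gen, C.cm_central g hm' m, mul_inv_cancel_right]

theorem cm_mul_left (C : CaseA ρ z M) (g g' : Q) {m : Q} (hm : m ∈ M) :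
    cm (g * g') m = cm g m * cm g' m := by
  rw [cm_mul_left_gen, C.cm_central g' hm g, mul_inv_cancel_right, C.cm_central g hm]

theorem cm_inv_right (C : CaseA ρ z M) (g : Q) {m : Q} (hm : m ∈ M) : cm g m⁻¹ = cm g m := by
  have h := C.cm_mul_right g (M.inv_mem hm) hm
  rw [inv_mul_cancel, cm_one_right] at h
  have : cm g m⁻¹ = (cm g m)⁻¹ := eq_inv_of_mul_eq_one_left h.symm
  rw [this, C.cm_inv' g hm]

theorem cm_inv_left (C : CaseA ρ z M) (g : Q) {m : Q} (hm : m ∈ M) : cm g⁻¹ m = cm g m := by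
  have h := C.cm_mul_left g⁻¹ g hm
  rw [inv_mul_cancel, cm_one_left] at h
  have : cm g⁻¹ m = (cm g m)⁻¹ := eq_inv_of_mul_eq_one_left h.symm
  rw [this, C.cm_inv' g hm]

theorem cm_sq_right (C : CaseA ρ z M) (g : Q) {n : Q} (hn : n ∈ M) : cm g (n * n) = 1 := by
  rw [C.cm_mul_right g hn hn, C.cm_sq g hn]

/-- the squaring endomorphism of `M` -/
def sqHom (C : CaseA ρ z M) : ↥M →* ↥M :=
  MonoidHom.mk' (fun m => m * m) (by
    intro a b
    apply Subtype.ext
    have := C.comm a a.2 b b.2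
    simp only [Subgroup.coe_mul]
    calc (a : Q) * b * (a * b) = a * (b * a) * b := by group
      _ = a * (a * b) * b := by rw [this]
      _ = a * a * (b * b) := by group)

theorem sqHom_apply (C : CaseA ρ z M) (m : ↥M) : C.sqHom m = m * m := rfl

/-- the subgroup of squares of `M` -/
def Msq (C : CaseA ρ z M) : Subgroup Q := C.sqHom.range.map M.subtype

theorem mem_Msq (C : CaseA ρ z M) (y : Q) : y ∈ C.Msq ↔ ∃ n ∈ M, n * n = y := by
  rw [Msq, Subgroup.mem_map]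
  constructor
  · rintro ⟨_, ⟨n, rfl⟩, rfl⟩
    exact ⟨n, n.2, rfl⟩
  · rintro ⟨n, hn, rfl⟩
    exact ⟨⟨n, hn⟩ * ⟨n, hn⟩, ⟨⟨n, hn⟩, rfl⟩, rfl⟩

theorem Msq_le (C : CaseA ρ z M) : C.Msq ≤ M := by
  intro y hy
  obtain ⟨n, hn, rfl⟩ := (C.mem_Msq y).mp hy
  exact M.mul_mem hn hn

theorem Msq_inv (C : CaseA ρ z M) : ∀ y, y ∈ C.Msq ↔ ρ y ∈ C.Msq := by
  apply inv_iff_of_forward
  intro y hy
  obtain ⟨n, hn, rfl⟩ := (C.mem_Msq y).mp hy
  rw [C.mem_Msq]
  exact ⟨ρ n, (C.inv n).mp hn, by rw [map_mul]⟩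

theorem M_ne_bot (C : CaseA ρ z M) : M ≠ ⊥ := by
  intro e
  apply C.na
  have h1 := C.idx
  rw [e, Subgroup.card_bot, mul_one] at h1
  have h2 : C.hyp.omega = ⊤ := by
    apply Subgroup.eq_top_of_card_eq
    rw [C.hyp.card_omega, h1]
  intro a b
  have : a ∈ center Q := C.hyp.omega_le_center (by rw [h2]; exact Subgroup.mem_top a)
  exact (Subgroup.mem_center_iff.mp this b).symm

theorem omega_le (C : CaseA ρ z M) : C.hyp.omega ≤ M := C.hyp.omega_le M C.inv C.M_ne_bot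

theorem card_M (C : CaseA ρ z M) : Nat.card M = 4 * Nat.card C.Msq := by
  have h1 := Subgroup.card_eq_card_quotient_mul_card_subgroup C.sqHom.ker
  rw [Nat.card_congr (QuotientGroup.quotientKerEquivRange C.sqHom).toEquiv] at h1
  have h2 : Nat.card C.Msq = Nat.card C.sqHom.range :=
    Subgroup.card_map_of_injective M.subtype_injective
  have h3 : Nat.card C.sqHom.ker = 4 := by
    rw [← C.hyp.card_omega, ← Subgroup.card_map_of_injective M.subtype_injective]
    congr 2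
    ext y
    rw [Subgroup.mem_map, C.hyp.mem_omega]
    constructor
    · rintro ⟨m, hm, rfl⟩
      rw [MonoidHom.mem_ker, C.sqHom_apply] at hm
      exact congrArg Subtype.val hm
    · intro hy
      refine ⟨⟨y, C.omega_le hy⟩, ?_, rfl⟩
      rw [MonoidHom.mem_ker, C.sqHom_apply]
      exact Subtype.ext hy
  rw [h1, h2, h3, mul_comm]

end CaseA

end Cfsg.Agent.Lib.H2.AT
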