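import Mathlib
import Cfsg.Agent.Lib.H2.ATJ

set_option autoImplicit false
set_option linter.unusedSectionVars false

/-!
# Theorem P, case A: conclusion
-/

namespace Cfsg.Agent.Lib.H2.AT

open Subgroup Cfsg.Agent.Lib.H2.L34 Cfsg.Agent.Lib.H2.RT Cfsg.Agent.Lib.H2.QN

universe u

variable {Q : Type u} [Group Q] {ρ : MulAut Q} {z : Q} {M : Subgroup Q}

/-- pairwise commuting generators generate a commutative subgroup -/
theorem closure_comm {G : Type*} [Group G] (S : Set G) (hS : ∀ a ∈ S, ∀ b ∈ S, a * b = b * a) :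
    ∀ a ∈ closure S, ∀ b ∈ closure S, a * b = b * a := by
  have h1 : closure S ≤ centralizer S := by
    rw [closure_le]
    intro a ha
    rw [SetLike.mem_coe, Subgroup.mem_centralizer_iff]
    intro b hb
    exact hS b hb a ha
  have h2 : closure S ≤ centralizer (closure S : Set G) := by
    rw [closure_le]
    intro a ha
    rw [SetLike.mem_coe, Subgroup.mem_centralizer_iff]
    intro c hc
    have := h1 hc
    rw [Subgroup.mem_centralizer_iff] at this
    exact (this a ha).symm
  intro a ha b hb
  have := h2 ha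
  rw [Subgroup.mem_centralizer_iff] at this
  exact (this b hb).symm

namespace CaseA

variable [Finite Q]

/-- an element outside `M` cannot centralize `M` -/
theorem false_of_centralizes (C : CaseA ρ z M) {x : Q} (hxM : x ∉ M)
    (hx : ∀ m ∈ M, x * m = m * x) : False := by
  have hf := C.hyp.fpf3
  set G0 : Set Q := (M : Set Q) ∪ {x, ρ x, ρ (ρ x)} with hG0
  set S2 := closure G0 with hS2
  have hMS : M ≤ S2 := fun m hm => Subgroup.subset_closure (Or.inl hm)
  have hxS : x ∈ S2 := Subgroup.subset_closure (Or.inr (by simp))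
  have hinv : ∀ y, y ∈ S2 ↔ ρ y ∈ S2 := by
    apply inv_iff_of_forward
    intro y hy
    have : S2 ≤ S2.comap ρ.toMonoidHom := by
      rw [hS2, closure_le]
      intro a ha
      simp only [Subgroup.coe_comap, Set.mem_preimage, SetLike.mem_coe, MulEquiv.coe_toMonoidHom]
      apply Subgroup.subset_closure
      rcases ha with ha | ha
      · exact Or.inl ((C.inv a).mp ha)
      · right
        simp only [Set.mem_insert_iff, Set.mem_singleton_iff] at ha ⊢
        rcases ha with rfl | rfl | rfl
        · simp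
        · simp
        · rw [hf.cube]; simp
    exact this hy
  have htop : S2 = ⊤ := by
    rcases sandwich hf hMS (le_top : S2 ≤ ⊤) C.inv hinv (by rw [Subgroup.card_top]; exact C.idx)
      with e | e
    · exfalso; rw [e] at hxS; exact hxM hxS
    · exact e
  -- `x` is central
  have hxc : x ∈ center Q := by
    have h1 : S2 ≤ centralizer {x} := by
      rw [hS2, closure_le]
      intro a ha
      rw [SetLike.mem_coe, Subgroup.mem_centralizer_iff]
      intro b hb
      rw [Set.mem_singleton_iff] at hb
      subst hb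
      rcases ha with ha | ha
      · exact hx a ha
      · simp only [Set.mem_insert_iff, Set.mem_singleton_iff] at ha
        rcases ha with rfl | rfl | rfl
        · rfl
        · exact hf.comm b
        · exact hf.comm' b
    rw [Subgroup.mem_center_iff]
    intro g
    have : g ∈ centralizer {x} := h1 (by rw [htop]; exact Subgroup.mem_top g)
    rw [Subgroup.mem_centralizer_iff] at this
    exact (this x rfl).symm
  have hρxc : ρ x ∈ center Q := (Hyp.tau_center ρ x).mp hxc
  have hρρxc : ρ (ρ x) ∈ center Q := (Hyp.tau_center ρ _).mp hρxc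
  apply C.na
  have hcomm := closure_comm G0 (by
    intro a ha b hb
    have hcen : ∀ c ∈ ({x, ρ x, ρ (ρ x)} : Set Q), c ∈ center Q := by
      intro c hc
      simp only [Set.mem_insert_iff, Set.mem_singleton_iff] at hc
      rcases hc with rfl | rfl | rfl
      · exact hxc
      · exact hρxc
      · exact hρρxc
    rcases ha with ha | ha
    · rcases hb with hb | hb
      · exact C.comm a ha b hb
      · exact Subgroup.mem_center_iff.mp (hcen b hb) a
    · exact (Subgroup.mem_center_iff.mp (hcen a ha) b).symm)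
  intro a b
  exact hcomm a (by rw [← hS2, htop]; exact Subgroup.mem_top a) b
    (by rw [← hS2, htop]; exact Subgroup.mem_top b)

/-- the centralizer in `M` of an element outside `M` consists of squares -/
theorem mem_Msq_of_cm (C : CaseA ρ z M) {x : Q} (hxM : x ∉ M) {m0 : Q} (hm0 : m0 ∈ M)
    (hcm : cm x m0 = 1) : m0 ∈ C.Msq := by
  by_contra hm0sq
  have hf := C.hyp.fpf3
  set m1 := ρ m0 with hm1d
  set m2 := ρ m1 with hm2d
  have hm1 : m1 ∈ M := (C.inv m0).mp hm0
  have hm2 : m2 ∈ M := (C.inv m1).mp hm1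
  have hprod : m0 * m1 * m2 = 1 := hf.prod3 m0
  have hm2eq : m2 = (m0 * m1)⁻¹ := eq_inv_of_mul_eq_one_right hprod
  set v := cm x m1 with hv
  have hvv : v * v = 1 := C.cm_sq x hm1
  have e1 : cm x m2 = v := by
    rw [hm2eq, C.cm_inv_right x (M.mul_mem hm0 hm1), C.cm_mul_right x hm0 hm1, hcm, one_mul]
  have e2 : cm (ρ x) m2 = ρ v := by rw [hv, CC.aut_cm]
  have e3 : cm (ρ (ρ x)) m2 = 1 := by
    have : ρ (ρ (cm x m0)) = cm (ρ (ρ x)) m2 := by rw [CC.aut_cm, CC.aut_cm]
    rw [← this, hcm, map_one, map_one]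
  have e4 : ρ (ρ x) = (x * ρ x)⁻¹ := hf.rho_rho x
  have e5 : cm (ρ (ρ x)) m2 = v * ρ v := by
    rw [e4, C.cm_inv_left _ hm2, C.cm_mul_left _ _ hm2, e1, e2]
  have hv1 : v = 1 := by
    rw [e3] at e5
    have h1 : ρ v = v⁻¹ := eq_inv_of_mul_eq_one_right e5.symm
    have h2 : v⁻¹ = v := inv_eq_of_mul_eq_one_left hvv
    rw [h2] at h1
    exact hf.fpf v h1
  -- the subgroup generated by the squares and the orbit of `m0`
  set G0 : Set Q := (C.Msq : Set Q) ∪ {m0, m1, m2} with hG0
  set S1 := closure G0 with hS1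
  have hAB : C.Msq ≤ S1 := fun y hy => Subgroup.subset_closure (Or.inl hy)
  have hBC : S1 ≤ M := by
    rw [hS1, closure_le]
    intro a ha
    rcases ha with ha | ha
    · exact C.Msq_le ha
    · simp only [Set.mem_insert_iff, Set.mem_singleton_iff] at ha
      rcases ha with rfl | rfl | rfl
      · exact hm0
      · exact hm1
      · exact hm2
  have hinv : ∀ y, y ∈ S1 ↔ ρ y ∈ S1 := by
    apply inv_iff_of_forward
    intro y hy
    have : S1 ≤ S1.comap ρ.toMonoidHom := by
      rw [hS1, closure_le]
      intro a ha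
      simp only [Subgroup.coe_comap, Set.mem_preimage, SetLike.mem_coe, MulEquiv.coe_toMonoidHom]
      apply Subgroup.subset_closure
      rcases ha with ha | ha
      · exact Or.inl ((C.Msq_inv a).mp ha)
      · right
        simp only [Set.mem_insert_iff, Set.mem_singleton_iff] at ha ⊢
        rcases ha with rfl | rfl | rfl
        · right; left; rfl
        · right; right; rfl
        · left; exact hf.cube _
    exact this hy
  have hm0S : m0 ∈ S1 := Subgroup.subset_closure (Or.inr (by simp))
  have hS1M : S1 = M := by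
    rcases sandwich hf hAB hBC C.Msq_inv hinv C.card_M with e | e
    · exfalso; rw [e] at hm0S; exact hm0sq hm0S
    · exact e
  apply C.false_of_centralizes hxM
  have h1 : S1 ≤ centralizer {x} := by
    rw [hS1, closure_le]
    intro a ha
    rw [SetLike.mem_coe, Subgroup.mem_centralizer_iff]
    intro b hb
    rw [Set.mem_singleton_iff] at hb
    subst hb
    rw [← cm_eq_one_iff]
    rcases ha with ha | ha
    · obtain ⟨n, hn, rfl⟩ := (C.mem_Msq a).mp ha
      exact C.cm_sq_right b hn
    · simp only [Set.mem_insert_iff, Set.mem_singleton_iff] at ha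
      rcases ha with rfl | rfl | rfl
      · exact hcm
      · exact hv1
      · rw [e1, hv1]
  intro m hm
  have : m ∈ centralizer {x} := h1 (by rw [hS1M]; exact hm)
  rw [Subgroup.mem_centralizer_iff] at this
  exact this x rfl

theorem sq_mem_Msq (C : CaseA ρ z M) {x : Q} (hxM : x ∉ M) : x * x ∈ C.Msq := by
  apply C.mem_Msq_of_cm hxM (C.sq x)
  rw [cm_eq_one_iff, mul_assoc]

theorem exists_notMem (C : CaseA ρ z M) : ∃ x, x ∉ M := by
  by_contra hcon
  push Not at hcon
  have : M = ⊤ := eq_top_iff.mpr fun x _ => hcon x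
  have h1 := C.idx
  rw [this, Subgroup.card_top] at h1
  have : 0 < Nat.card Q := Nat.card_pos
  omega

/-- the conclusion of case A -/
theorem card_eq (C : CaseA ρ z M) : Nat.card Q = 64 := by
  have : Fact (Nat.Prime 2) := ⟨Nat.prime_two⟩
  have hf := C.hyp.fpf3
  obtain ⟨x, hxM⟩ := C.exists_notMem
  obtain ⟨n0, hn0, hn0x⟩ := (C.mem_Msq _).mp (C.sq_mem_Msq hxM)
  obtain ⟨k, hk⟩ := IsPGroup.iff_card.mp (C.hyp.pg.to_subgroup M)
  have hmod := hf.card_modEq M C.inv
  have h4 : 4 ≤ Nat.card M := by
    rw [← C.hyp.card_omega]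
    exact Subgroup.card_le_of_le C.omega_le
  by_cases hsmall : Nat.card M ≤ 32
  · -- small cases
    rw [hk] at hsmall hmod h4
    have hk5 : k ≤ 5 := by
      by_contra hcon
      have : 2 ^ 6 ≤ 2 ^ k := Nat.pow_le_pow_right (by norm_num) (by omega)
      omega
    have hk' : k = 2 ∨ k = 4 := by
      unfold Nat.ModEq at hmod
      interval_cases k <;> simp_all
    rcases hk' with e | e
    · -- `M = Ω`
      exfalso
      have hMV : C.hyp.omega = M := by
        apply Subgroup.eq_of_le_of_card_ge C.omega_le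
        rw [C.hyp.card_omega, hk, e]; norm_num
      have hn0' : n0 * n0 = 1 := by
        have : n0 ∈ C.hyp.omega := by rw [hMV]; exact hn0
        exact this
      rw [hn0'] at hn0x
      apply hxM
      rw [← hMV]
      exact hn0x.symm
    · rw [C.idx, hk, e]; norm_num
  · -- `|M| ≥ 64`: produce an involution outside `M`
    exfalso
    push Not at hsmall
    have h64 : 64 ≤ Nat.card M := by
      rw [hk] at hsmall ⊢
      by_contra hcon
      have hk5 : k ≤ 5 := by
        by_contra hcon2
        have : 2 ^ 6 ≤ 2 ^ k := Nat.pow_le_pow_right (by norm_num) (by omega)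
        omega
      have : 2 ^ k ≤ 2 ^ 5 := Nat.pow_le_pow_right (by norm_num) hk5
      omega
    -- square roots in `M`
    obtain ⟨z', hz'⟩ := C.hyp.sub M C.inv C.M_ne_bot
    have hcM : ∀ a b : ↥M, a * b = b * a := fun a b => Subtype.ext (C.comm a a.2 b b.2)
    have hroot : ∀ m ∈ M, (m * m) * (m * m) = 1 → m ∈ C.Msq := by
      intro m hm hm4
      obtain ⟨n, hn⟩ := hz'.exists_sqrt hcM h64 (m := ⟨m, hm⟩) (Subtype.ext hm4)
      rw [C.mem_Msq]
      exact ⟨n, n.2, congrArg Subtype.val hn⟩
    set m0 := n0⁻¹ with hm0d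
    have hm0 : m0 ∈ M := M.inv_mem hn0
    set v := cm x m0 with hv
    have hvv : v * v = 1 := C.cm_sq x hm0
    have hvM : v ∈ M := C.cm_mem x hm0
    have hvsq : v ∈ C.Msq := hroot v hvM (by rw [hvv, one_mul])
    obtain ⟨t, ht, htv⟩ := (C.mem_Msq v).mp hvsq
    have htsq : t ∈ C.Msq := hroot t ht (by rw [htv, hvv])
    have hcmt : cm x t = 1 := by
      obtain ⟨s, hs, rfl⟩ := (C.mem_Msq t).mp htsq
      exact C.cm_sq_right x hs
    have hmt : m0 * t ∈ M := M.mul_mem hm0 ht
    have hcmmt : cm x (m0 * t) = v := by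
      rw [C.cm_mul_right x hm0 ht, hcmt, mul_one]
    -- the square of `x * (m0 * t)`
    have hsq : (x * (m0 * t)) * (x * (m0 * t)) = 1 := by
      have hvc := C.cm_central x hmt
      rw [hcmmt] at hvc
      have h1b : (m0 * t) * x = (cm x (m0 * t))⁻¹ * x * (m0 * t) := by rw [cm_def]; group
      have h2 : (m0 * t) * (m0 * t) = (m0 * m0) * (t * t) := by
        have := C.comm t ht m0 hm0
        calc m0 * t * (m0 * t) = m0 * (t * m0) * t := by group
          _ = m0 * (m0 * t) * t := by rw [this]
          _ = m0 * m0 * (t * t) := by group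
      have h3 : m0 * m0 = (x * x)⁻¹ := by
        rw [hm0d, ← hn0x]; group
      calc (x * (m0 * t)) * (x * (m0 * t)) = x * ((m0 * t) * x) * (m0 * t) := by group
        _ = x * ((cm x (m0 * t))⁻¹ * x * (m0 * t)) * (m0 * t) := by rw [← h1b]
        _ = x * (v * x * (m0 * t)) * (m0 * t) := by
          rw [hcmmt, inv_eq_of_mul_eq_one_left hvv]
        _ = (x * v) * x * (m0 * t) * (m0 * t) := by group
        _ = (v * x) * x * (m0 * t) * (m0 * t) := by rw [hvc x]
        _ = v * ((x * x) * ((m0 * t) * (m0 * t))) := by group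
        _ = v * ((x * x) * ((x * x)⁻¹ * v)) := by rw [h2, h3, htv]
        _ = v * v := by group
        _ = 1 := hvv
    apply hxM
    have h5 : x * (m0 * t) ∈ M := C.omega_le hsq
    have : x = (x * (m0 * t)) * (m0 * t)⁻¹ := by group
    rw [this]
    exact M.mul_mem h5 (M.inv_mem hmt)

end CaseA

end Cfsg.Agent.Lib.H2.AT
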