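import Mathlib
import Cfsg.Agent.Lib.H2.ATK

set_option autoImplicit false
set_option linter.unusedSectionVars false

/-!
# Theorem P: case B and the conclusion
-/

namespace Cfsg.Agent.Lib.H2.AT

open Subgroup Cfsg.Agent.Lib.H2.L34 Cfsg.Agent.Lib.H2.RT Cfsg.Agent.Lib.H2.QN
open scoped Pointwise

universe u

variable {Q : Type u} [Group Q] {ρ : MulAut Q} {z : Q}

/-- squares in a nonabelian invariant subgroup of order `64` lie in `Ω` -/
theorem KHyp.sq_mem_omega_of_card [Finite Q] (h : KHyp ρ z) (M : Subgroup Q)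
    (hM : ∀ y, y ∈ M ↔ ρ y ∈ M) (hcard : Nat.card M = 64)
    (hna : ¬ ∀ a ∈ M, ∀ b ∈ M, a * b = b * a) : ∀ m ∈ M, m * m ∈ h.omega := by
  have hMne : M ≠ ⊥ := by
    intro e
    rw [e, Subgroup.card_bot] at hcard
    omega
  have hle : h.omega ≤ M := h.omega_le M hM hMne
  obtain ⟨z', hz'⟩ := h.sub M hM hMne
  have hna' : ¬ IsMulCommutative ↥M := by
    intro hc
    apply hna
    intro a ha b hb
    exact congrArg Subtype.val (hc.is_comm.comm (⟨a, ha⟩ : ↥M) ⟨b, hb⟩)
  have S : Sp (resA ρ M hM) := sp_of hz'.fpf3 hcard hna'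
  have h1 : h.omega.subgroupOf M ≤ center ↥M := by
    intro v hv
    rw [Subgroup.mem_subgroupOf] at hv
    rw [Subgroup.mem_center_iff]
    intro g
    apply Subtype.ext
    exact Subgroup.mem_center_iff.mp (h.omega_le_center hv) g
  have h2 : h.omega.subgroupOf M = center ↥M := by
    apply Subgroup.eq_of_le_of_card_ge h1
    rw [S.cardZ, Nat.card_congr (Subgroup.subgroupOfEquivOfLe hle).toEquiv, h.card_omega]
  intro m hm
  have := S.sq ⟨m, hm⟩
  rw [← h2, Subgroup.mem_subgroupOf] at this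
  exact this

/-- case B is impossible -/
theorem caseB_false [Finite Q] (h : KHyp ρ z) (M : Subgroup Q) (hMn : M.Normal)
    (hM : ∀ y, y ∈ M ↔ ρ y ∈ M) (hidx : Nat.card Q = 4 * Nat.card M)
    (hcardM : Nat.card M = 64) (hMna : ¬ ∀ a ∈ M, ∀ b ∈ M, a * b = b * a) : False := by
  have hf := h.fpf3
  have hna : ¬ ∀ a b : Q, a * b = b * a := fun hc => hMna fun a _ b _ => hc a b
  have hcardQ : Nat.card Q = 256 := by rw [hidx, hcardM]
  obtain ⟨x, hxM⟩ : ∃ x, x ∉ M := by
    by_contra hcon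
    push Not at hcon
    have : M = ⊤ := eq_top_iff.mpr fun x _ => hcon x
    rw [this, Subgroup.card_top] at hcardM
    omega
  have hMne : M ≠ ⊥ := by
    intro e
    rw [e, Subgroup.card_bot] at hcardM
    omega
  have hVM : h.omega ≤ M := h.omega_le M hM hMne
  set N := nx ρ x with hN
  have hNn : N.Normal := nx_normal ρ x
  have hNinv : ∀ y, y ∈ N ↔ ρ y ∈ N := nx_inv hf x
  have hNc : ∀ a ∈ N, ∀ b ∈ N, a * b = b * a := nx_comm hf x
  have hxN : x ∈ N := mem_nx_self ρ x
  have hNtop : N ≠ ⊤ := by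
    intro e
    apply hna
    intro a b
    exact hNc a (by rw [e]; exact Subgroup.mem_top a) b (by rw [e]; exact Subgroup.mem_top b)
  obtain ⟨M2, hNM2, hM2n, hM2, hidx2, hsq2⟩ := exists_index_four hf h.pg N hNn hNinv hNtop
  have hcardM2 : Nat.card M2 = 64 := by omega
  by_cases hM2c : ∀ a ∈ M2, ∀ b ∈ M2, a * b = b * a
  · have := (CaseA.mk h hM2n hM2 hidx2 hsq2 hM2c hna).card_eq
    omega
  -- `M2` is nonabelian of order `64`
  have hNne : N ≠ ⊥ := by
    intro e
    rw [e, Subgroup.mem_bot] at hxN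
    apply hxM
    rw [hxN]
    exact one_mem _
  have hVN : h.omega ≤ N := h.omega_le N hNinv hNne
  have hM2ne : M2 ≠ ⊥ := by
    intro e
    rw [e, Subgroup.card_bot] at hcardM2
    omega
  obtain ⟨z2, hz2⟩ := h.sub M2 hM2 hM2ne
  -- the order of `N`
  have hcardN : Nat.card N = 16 := by
    have hN'inv : ∀ y : ↥M2, y ∈ N.subgroupOf M2 ↔ resA ρ M2 hM2 y ∈ N.subgroupOf M2 := by
      intro y
      rw [Subgroup.mem_subgroupOf, Subgroup.mem_subgroupOf, resA_coe]
      exact hNinv y
    have h1 := hz2.fpf3.card_cases (by rw [hcardM2]) (N.subgroupOf M2) hN'inv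
    rw [Nat.card_congr (Subgroup.subgroupOfEquivOfLe hNM2).toEquiv] at h1
    rcases h1 with e | e | e | e
    · exfalso
      exact hNne (Subgroup.card_eq_one.mp e)
    · exfalso
      have : h.omega = N := by
        apply Subgroup.eq_of_le_of_card_ge hVN
        rw [e, h.card_omega]
      apply hxM
      apply hVM
      rw [this]
      exact hxN
    · exact e
    · exfalso
      have : N = M2 := by
        apply Subgroup.eq_of_le_of_card_ge hNM2
        rw [e, hcardM2]
      rw [← this] at hM2c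
      exact hM2c hNc
  -- `M ⊔ N = ⊤`
  have hsupinv : ∀ y, y ∈ M ⊔ N ↔ ρ y ∈ M ⊔ N := by
    apply inv_iff_of_forward
    intro y hy
    have : M ⊔ N ≤ (M ⊔ N).comap ρ.toMonoidHom := by
      apply sup_le
      · intro m hm
        exact (le_sup_left : M ≤ M ⊔ N) ((hM m).mp hm)
      · intro n hn
        exact (le_sup_right : N ≤ M ⊔ N) ((hNinv n).mp hn)
    exact this hy
  have hsup : M ⊔ N = ⊤ := by
    rcases sandwich hf (le_sup_left : M ≤ M ⊔ N) (le_top : M ⊔ N ≤ ⊤) hM hsupinv
      (by rw [Subgroup.card_top]; exact hidx) with e | e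
    · exfalso
      apply hxM
      rw [← e]
      exact (le_sup_right : N ≤ M ⊔ N) hxN
    · exact e
  have hinf : M ⊓ N = h.omega := by
    have h1 := card_sup_mul_card_inf' M N
    rw [hsup, Subgroup.card_top, hcardQ, hcardM, hcardN] at h1
    have h2 : Nat.card (M ⊓ N : Subgroup Q) = 4 := by omega
    symm
    apply Subgroup.eq_of_le_of_card_ge (le_inf hVM hVN)
    rw [h2, h.card_omega]
  -- all squares lie in `Ω`
  have hsqM := h.sq_mem_omega_of_card M hM hcardM hMna
  have hsqM2 := h.sq_mem_omega_of_card M2 hM2 hcardM2 hM2c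
  have hsq : ∀ a : Q, a * a ∈ h.omega := by
    intro a
    have ha : a ∈ ((M ⊔ N : Subgroup Q) : Set Q) := by rw [hsup]; exact Set.mem_univ a
    rw [Subgroup.mul_normal M N] at ha
    obtain ⟨m, hm, n, hn, rfl⟩ := Set.mem_mul.mp ha
    have hc : m⁻¹ * n * m * n⁻¹ ∈ h.omega := by
      rw [← hinf]
      constructor
      · have : m⁻¹ * n * m * n⁻¹ = m⁻¹ * (n * m * n⁻¹) := by group
        rw [SetLike.mem_coe, this]
        exact M.mul_mem (M.inv_mem hm) (hMn.conj_mem m hm n)
      · have h1 := hNn.conj_mem n hn m⁻¹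
        rw [inv_inv] at h1
        exact N.mul_mem h1 (N.inv_mem hn)
    have : (m * n) * (m * n) = (m * m) * (m⁻¹ * n * m * n⁻¹) * (n * n) := by group
    rw [this]
    exact mul_mem (mul_mem (hsqM m hm) hc) (hsqM2 n (hNM2 hn))
  obtain ⟨a, ha, haa⟩ := exists_involution_notMem h.omega h.omega_le_center h.card_omega
    (fun v hv => hv) hsq (by rw [hcardQ]; norm_num)
  exact ha haa

/-- **Theorem P** -/
theorem P_aux (n : ℕ) : ∀ (Q : Type u) [Group Q] [Finite Q] (ρ : MulAut Q) (z : Q),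
    Nat.card Q = n → KHyp ρ z → (∀ a b : Q, a * b = b * a) ∨ Nat.card Q = 64 := by
  induction n using Nat.strong_induction_on with
  | _ n ih =>
    intro Q _ _ ρ z hn h
    by_cases hc : ∀ a b : Q, a * b = b * a
    · exact Or.inl hc
    right
    have hf := h.fpf3
    have hbt : (⊥ : Subgroup Q) ≠ ⊤ := by
      have : Nontrivial Q := ⟨⟨z, 1, h.z1⟩⟩
      exact bot_ne_top
    obtain ⟨M, _, hMn, hM, hidx, hsq⟩ := exists_index_four hf h.pg ⊥ inferInstance (by
      intro y
      rw [Subgroup.mem_bot, Subgroup.mem_bot]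
      constructor
      · intro e; rw [e, map_one]
      · intro e
        rw [← map_one ρ] at e
        exact ρ.injective e) hbt
    by_cases hMc : ∀ a ∈ M, ∀ b ∈ M, a * b = b * a
    · exact (CaseA.mk h hMn hM hidx hsq hMc hc).card_eq
    exfalso
    have hMne : M ≠ ⊥ := by
      intro e
      apply hMc
      intro a ha b hb
      rw [e, Subgroup.mem_bot] at ha hb
      rw [ha, hb]
    obtain ⟨z', hz'⟩ := h.sub M hM hMne
    have hlt : Nat.card M < n := by
      have : 0 < Nat.card M := Nat.card_pos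
      omega
    rcases ih _ hlt M (resA ρ M hM) z' rfl hz' with hcm | hcard
    · apply hMc
      intro a ha b hb
      exact congrArg Subtype.val (hcm ⟨a, ha⟩ ⟨b, hb⟩)
    · exact caseB_false h M hMn hM hidx hcard hMc

theorem KHyp.comm_or_card {Q : Type u} [Group Q] [Finite Q] {ρ : MulAut Q} {z : Q}
    (h : KHyp ρ z) : (∀ a b : Q, a * b = b * a) ∨ Nat.card Q = 64 := P_aux _ Q ρ z rfl h

end Cfsg.Agent.Lib.H2.AT
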