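import Mathlib
import Cfsg.Prelude
import Cfsg.Agent.Lib.H2.ATL

set_option autoImplicit false
set_option linter.unusedSectionVars false

/-!
# `2`-groups of rank two with a cyclic group of automorphisms transitive on the involutions
-/

namespace Cfsg.Agent.Lib.H2.AT

open Subgroup Cfsg.Agent.Lib.H2.L34 Cfsg.Agent.Lib.H2.RT Cfsg.Agent.Lib.H2.QN
open Cfsg.Agent.Lib.H2.SU3 Cfsg.Agent.Lib.H13.AutPSU

universe u v

variable {T : Type u} [Group T]

theorem mulAut_pow_apply (φ : MulAut T) (k : ℕ) (x : T) : (φ ^ k) x = (⇑φ)^[k] x := by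
  induction k with
  | zero => rfl
  | succ k ih => rw [pow_succ', MulAut.mul_apply, ih, Function.iterate_succ_apply']

theorem orderOf_two_iff (x : T) : orderOf x = 2 ↔ x * x = 1 ∧ x ≠ 1 := by
  have : Fact (Nat.Prime 2) := ⟨Nat.prime_two⟩
  rw [orderOf_eq_prime_iff, pow_two]

/-- the reduction to the hypothesis `KHyp` -/
theorem exists_khyp [Finite T] (hT : IsPGroup 2 T) (h2 : Cfsg.PRankLE 2 2 T)
    (h1 : ¬ Cfsg.PRankLE 2 1 T) (φ : MulAut T)
    (htrans : ∀ s t : T, orderOf s = 2 → orderOf t = 2 → ∃ k : ℕ, (φ ^ k) s = t) :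
    ∃ (ρ : MulAut T) (z : T), KHyp ρ z := by
  classical
  have : Fact (Nat.Prime 2) := ⟨Nat.prime_two⟩
  -- a four-group
  unfold Cfsg.PRankLE at h1
  push Not at h1
  obtain ⟨A, hAc, hA2, hAcard⟩ := h1
  have hnt : Nontrivial T := by
    by_contra hcon
    rw [not_nontrivial_iff_subsingleton] at hcon
    have : Nat.card A ≤ 1 := Finite.card_le_one_iff_subsingleton.mpr inferInstance
    omega
  -- a central involution
  have hc : center T ≠ ⊥ := by
    have := hT.center_nontrivial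
    intro e
    rw [e] at this
    exact not_nontrivial _ this
  obtain ⟨z, hzc, hz2⟩ : ∃ z ∈ center T, orderOf z = 2 := by
    obtain ⟨k, hk⟩ := IsPGroup.iff_card.mp (hT.to_subgroup (center T))
    have hk0 : k ≠ 0 := by
      rintro rfl
      rw [pow_zero] at hk
      exact hc (Subgroup.card_eq_one.mp hk)
    have hdvd : 2 ∣ Nat.card (center T) := by rw [hk]; exact dvd_pow_self 2 hk0
    obtain ⟨u, hu⟩ := exists_prime_orderOf_dvd_card' 2 hdvd
    exact ⟨u, u.2, by rw [← hu, Subgroup.orderOf_coe]⟩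
  -- all involutions are central
  have hcen : ∀ x : T, x * x = 1 → x ∈ center T := by
    intro x hx
    by_cases hx1 : x = 1
    · rw [hx1]; exact one_mem _
    obtain ⟨k, hk⟩ := htrans z x hz2 ((orderOf_two_iff x).mpr ⟨hx, hx1⟩)
    rw [← hk]
    exact (Hyp.tau_center (φ ^ k) z).mp hzc
  -- the subgroup of involutions
  let Ω : Subgroup T :=
    { carrier := {x | x * x = 1}
      one_mem' := by simp
      mul_mem' := by
        intro a b ha hb
        simp only [Set.mem_ofPred_eq] at ha hb ⊢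
        have hac := Subgroup.mem_center_iff.mp (hcen a ha) b
        calc a * b * (a * b) = a * (b * a) * b := by group
          _ = a * (a * b) * b := by rw [hac]
          _ = (a * a) * (b * b) := by group
          _ = 1 := by rw [ha, hb, one_mul]
      inv_mem' := by
        intro a ha
        simp only [Set.mem_ofPred_eq] at ha ⊢
        have : a⁻¹ * a⁻¹ = (a * a)⁻¹ := by group
        rw [this, ha, inv_one] }
  have hΩmem : ∀ x, x ∈ Ω ↔ x * x = 1 := fun x => Iff.rfl
  have hΩcomm : IsMulCommutative Ω := by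
    refine ⟨⟨fun a b => ?_⟩⟩
    apply Subtype.ext
    exact (Subgroup.mem_center_iff.mp (hcen a a.2) b).symm
  have hΩle : Nat.card Ω ≤ 2 ^ 2 := h2 Ω hΩcomm (fun a ha => by rw [pow_two]; exact ha)
  have hAΩ : A ≤ Ω := fun a ha => by
    rw [hΩmem, ← pow_two]; exact hA2 a ha
  have hA4 : 4 ≤ Nat.card A := by
    obtain ⟨k, hk⟩ := IsPGroup.iff_card.mp (hT.to_subgroup A)
    rw [hk] at hAcard ⊢
    have : 2 ≤ k := by
      by_contra hcon
      have : k ≤ 1 := by omega
      have : 2 ^ k ≤ 2 ^ 1 := Nat.pow_le_pow_right (by norm_num) this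
      omega
    calc 4 = 2 ^ 2 := by norm_num
      _ ≤ 2 ^ k := Nat.pow_le_pow_right (by norm_num) this
  have hΩ4 : Nat.card Ω = 4 := by
    have := Subgroup.card_le_of_le hAΩ
    omega
  -- the set of involutions
  set I : Set T := {x | orderOf x = 2} with hI
  have hIcard : I.ncard = 3 := by
    have h1 : (Ω : Set T) = insert 1 I := by
      ext x
      simp only [SetLike.mem_coe, hΩmem, Set.mem_insert_iff, hI, Set.mem_ofPred_eq,
        orderOf_two_iff]
      constructor
      · intro hx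
        by_cases hx1 : x = 1
        · exact Or.inl hx1
        · exact Or.inr ⟨hx, hx1⟩
      · rintro (rfl | ⟨hx, _⟩)
        · exact one_mul 1
        · exact hx
    have h2 : Nat.card Ω = (Ω : Set T).ncard := rfl
    rw [h2, h1, Set.ncard_insert_of_notMem] at hΩ4
    · omega
    · simp only [hI, Set.mem_ofPred_eq, orderOf_one]
      norm_num
  -- the period of `z`
  have hNpos : 0 < orderOf φ := orderOf_pos φ
  have hper : z ∈ Function.periodicPts (⇑φ) := by
    refine Function.mk_mem_periodicPts hNpos ?_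
    show (⇑φ)^[orderOf φ] z = z
    rw [← mulAut_pow_apply, pow_orderOf_eq_one]; rfl
  set p := Function.minimalPeriod (⇑φ) z with hp
  have hppos : 0 < p := Function.minimalPeriod_pos_of_mem_periodicPts hper
  have hinj : (Set.Iio p).InjOn (fun j => (⇑φ)^[j] z) := Function.iterate_injOn_Iio_minimalPeriod
  have himg : (fun j => (⇑φ)^[j] z) '' (Set.Iio p) = I := by
    ext x
    simp only [Set.mem_image, Set.mem_Iio, hI, Set.mem_ofPred_eq]
    constructor
    · rintro ⟨j, _, rfl⟩
      rw [← mulAut_pow_apply, MulEquiv.orderOf_eq, hz2]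
    · intro hx
      obtain ⟨k, hk⟩ := htrans z x hz2 hx
      refine ⟨k % p, Nat.mod_lt _ hppos, ?_⟩
      rw [hp, Function.iterate_mod_minimalPeriod_eq, ← mulAut_pow_apply, hk]
  have hp3 : p = 3 := by
    have := hinj.ncard_image
    rw [himg, hIcard] at this
    rw [this]
    simp [Set.ncard_eq_toFinset_card']
  rw [hp3] at hinj himg
  -- iterates
  have hiter : ∀ j : ℕ, (⇑φ)^[j] z = (⇑φ)^[j % 3] z := by
    intro j
    have := Function.iterate_mod_minimalPeriod_eq (f := ⇑φ) (x := z) (n := j)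
    rw [← hp, hp3] at this
    exact this.symm
  have hpowiter : ∀ k j : ℕ, (φ ^ k) ((⇑φ)^[j] z) = (⇑φ)^[(k + j) % 3] z := by
    intro k j
    rw [mulAut_pow_apply, ← Function.iterate_add_apply, hiter]
  -- the `3`-part of `φ`
  obtain ⟨a, m, hm3, hNm⟩ := Nat.exists_eq_pow_mul_and_not_dvd hNpos.ne' 3 (by norm_num)
  set ρ := φ ^ m with hρ
  have hρz : ∀ j : ℕ, ρ ((⇑φ)^[j] z) = (⇑φ)^[(m + j) % 3] z := fun j => hpowiter m j
  have hz0 : (⇑φ)^[0] z = z := rfl
  have hρ1 : ρ z = (⇑φ)^[m % 3] z := by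
    have := hρz 0
    rwa [hz0, add_zero] at this
  have hρ2 : ρ (ρ z) = (⇑φ)^[(m + m % 3) % 3] z := by rw [hρ1, hρz]
  have hρ3 : ρ (ρ (ρ z)) = (⇑φ)^[(m + (m + m % 3) % 3) % 3] z := by rw [hρ2, hρz]
  have hm12 : m % 3 = 1 ∨ m % 3 = 2 := by omega
  have hzz : z * z = 1 ∧ z ≠ 1 := (orderOf_two_iff z).mp hz2
  refine ⟨ρ, z, ⟨hT, ⟨a, ?_⟩, hzz.2, hzz.1, ?_, ?_, ?_⟩⟩
  · rw [hρ, ← pow_mul, mul_comm, ← hNm, pow_orderOf_eq_one]
  · rw [hρ1]
    intro e
    have := hinj (Set.mem_Iio.mpr (by omega : m % 3 < 3)) (Set.mem_Iio.mpr (by omega : 0 < 3))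
      (by simpa using e)
    omega
  · rw [hρ3]
    have : (m + (m + m % 3) % 3) % 3 = 0 := by omega
    rw [this]
    rfl
  · intro x hx
    by_cases hx1 : x = 1
    · exact Or.inl hx1
    right
    have hxI : x ∈ I := (orderOf_two_iff x).mpr ⟨hx, hx1⟩
    rw [← himg] at hxI
    obtain ⟨j, hj, rfl⟩ := hxI
    rw [Set.mem_Iio] at hj
    rw [hρ2, hρ1]
    simp only
    rcases hm12 with e | e
    · have e2 : (m + 1) % 3 = 2 := by omega
      rw [e, e2]
      interval_cases j
      · left; rfl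
      · right; left; rfl
      · right; right; rfl
    · have e2 : (m + 2) % 3 = 1 := by omega
      rw [e, e2]
      interval_cases j
      · left; rfl
      · right; right; rfl
      · right; left; rfl

/-- the main theorem -/
theorem main_rank_two [Finite T] (hT : IsPGroup 2 T) (h2 : Cfsg.PRankLE 2 2 T)
    (h1 : ¬ Cfsg.PRankLE 2 1 T) (φ : MulAut T)
    (htrans : ∀ s t : T, orderOf s = 2 → orderOf t = 2 → ∃ k : ℕ, (φ ^ k) s = t)
    {F : Type v} [Field F] [Fintype F] (hF : Fintype.card F = 16)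
    (P : Sylow 2 (Cfsg.PSU 3 F 4)) :
    (∃ n : ℕ, 1 ≤ n ∧ Nonempty (T ≃* Multiplicative (ZMod (2 ^ n) × ZMod (2 ^ n)))) ∨
      Nonempty (T ≃* (P : Subgroup (Cfsg.PSU 3 F 4))) := by
  obtain ⟨ρ, z, h⟩ := exists_khyp hT h2 h1 φ htrans
  rcases h.comm_or_card with hc | hcard
  · left
    obtain ⟨n, x, hn, _, _, _, _, he⟩ := h.abelian_structure hc
    exact ⟨n, hn, he⟩
  · by_cases hc : ∀ a b : T, a * b = b * a
    · left
      obtain ⟨n, x, hn, _, _, _, _, he⟩ := h.abelian_structure hc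
      exact ⟨n, hn, he⟩
    right
    have S : Sp ρ := sp_of h.fpf3 hcard (not_isMulCommutative hc)
    obtain ⟨x, y, w, G⟩ := SpX.egens_of_ell S (fun a ha => h.inv_central ha)
    obtain ⟨e1⟩ := G.nonempty_ell_equiv S.card
    have hF' : Fintype.card F = 4 ^ 2 := by rw [hF]; norm_num
    have hF2 : Fintype.card F = 2 ^ 4 := by rw [hF]; norm_num
    have hch : CharP F 2 := charP_of_card_eq_prime_pow hF2
    let D : UF F 4 := UF.ofCard (p := 2) (f := 2) (by norm_num) hF'
    obtain ⟨e2⟩ := nonempty_ell_equiv_TU (D4 := D) hF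
    obtain ⟨e3⟩ := nonempty_equiv_TU_PSU D P
    exact ⟨(e1.symm.trans e2).trans e3.symm⟩

end Cfsg.Agent.Lib.H2.AT
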