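import Mathlib
import Cfsg.Agent.Lib.H13.AschEOGen

/-!
# EO2-B3a (helper2): `Ω(Q)` stabilises no decomposition into blocks of dimension `k ≥ 3`

A Siegel element `g = sg Q u y` has `im (g - 1) ≤ span {u, y}`.  If it moved a block `D i` to another block, `g - 1` would be
injective on `D i`, so `k ≤ 2`.  Hence all Siegel elements fix `D 0`, against the irreducibility of the group they generate.
-/

set_option autoImplicit false
set_option linter.unusedSimpArgs false
set_option linter.unusedSectionVars false
set_option linter.unusedVariables false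

namespace Cfsg.Agent.Lib.H2.EOP2

open Cfsg Cfsg.Geo
open Matrix Module
open Cfsg.Agent.Lib.H11.CD Cfsg.Agent.Lib.H11.OmTs
open Cfsg.Agent.Lib.H13.EOP2
open Cfsg.Agent.Lib.H29.Orth
open scoped MatrixGroups

variable {F : Type*} [Field F] [Fintype F] {n : ℕ}

/-- a Siegel element lying in the stabiliser of a decomposition into blocks of dimension at least three fixes every block -/
theorem sg_fixes_block (Q : QuadraticForm F (Fin n → F)) {t : ℕ} (k : ℕ) (hk : 3 ≤ k)
    (D : Fin t → Submodule F (Fin n → F)) (hD : IsMDecomposition k D) (u y : Fin n → F)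
    (hu : Q u = 0) (huy : QuadraticMap.polar (⇑Q) u y = 0)
    (hmem : ((sg Q u y : ↥(Cfsg.isometryGroup F ⇑Q)) : GL (Fin n) F) ∈ decompositionStabilizer D)
    (i : Fin t) (w : Fin n → F) (hw : w ∈ D i) : act Q (sg Q u y) w ∈ D i := by
  classical
  obtain ⟨σ, hσ⟩ := hmem
  have hmap : ∀ x ∈ D i, act Q (sg Q u y) x ∈ D (σ i) := by
    intro x hx
    rw [← hσ i]
    exact ⟨x, hx, by rw [Matrix.toLin'_apply]; rfl⟩
  by_cases hfix : σ i = i
  · have := hmap w hw
    rwa [hfix] at this
  exfalso
  have hdisj : Disjoint (D i) (D (σ i)) := hD.indep.pairwiseDisjoint (Ne.symm hfix)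
  -- the map `x ↦ g x - x` from `D i` to `span {u, y}`
  have hspan : ∀ x, act Q (sg Q u y) x - x ∈ Submodule.span F ({u, y} : Set (Fin n → F)) := by
    intro x
    rw [sg_act Q u y hu huy]
    have hu' : u ∈ Submodule.span F ({u, y} : Set (Fin n → F)) :=
      Submodule.subset_span (by simp)
    have hy' : y ∈ Submodule.span F ({u, y} : Set (Fin n → F)) :=
      Submodule.subset_span (by simp)
    have e : x + QuadraticMap.polar (⇑Q) u x • y - QuadraticMap.polar (⇑Q) y x • u -
        (Q y * QuadraticMap.polar (⇑Q) u x) • u - x =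
        QuadraticMap.polar (⇑Q) u x • y - QuadraticMap.polar (⇑Q) y x • u -
        (Q y * QuadraticMap.polar (⇑Q) u x) • u := by abel
    rw [e]
    exact Submodule.sub_mem _ (Submodule.sub_mem _ (Submodule.smul_mem _ _ hy')
      (Submodule.smul_mem _ _ hu')) (Submodule.smul_mem _ _ hu')
  let L : ↥(D i) →ₗ[F] ↥(Submodule.span F ({u, y} : Set (Fin n → F))) :=
    { toFun := fun x => ⟨act Q (sg Q u y) (x : Fin n → F) - (x : Fin n → F), hspan _⟩
      map_add' := by
        intro a b
        apply Subtype.ext
        show act Q (sg Q u y) ((a : Fin n → F) + (b : Fin n → F)) - ((a : Fin n → F) + (b : Fin n → F)) =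
          (act Q (sg Q u y) (a : Fin n → F) - (a : Fin n → F)) +
            (act Q (sg Q u y) (b : Fin n → F) - (b : Fin n → F))
        unfold act
        rw [Matrix.mulVec_add]
        abel
      map_smul' := by
        intro c a
        apply Subtype.ext
        show act Q (sg Q u y) (c • (a : Fin n → F)) - c • (a : Fin n → F) =
          c • (act Q (sg Q u y) (a : Fin n → F) - (a : Fin n → F))
        unfold act
        rw [Matrix.mulVec_smul, smul_sub] }
  have hLinj : Function.Injective L := by
    rw [← LinearMap.ker_eq_bot, LinearMap.ker_eq_bot']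
    intro x hx
    have h1 : act Q (sg Q u y) (x : Fin n → F) - (x : Fin n → F) = 0 := congrArg Subtype.val hx
    have h2 : act Q (sg Q u y) (x : Fin n → F) = (x : Fin n → F) := sub_eq_zero.1 h1
    have h3 : (x : Fin n → F) ∈ D (σ i) := by
      rw [← h2]; exact hmap _ x.2
    have h4 : (x : Fin n → F) ∈ D i ⊓ D (σ i) := ⟨x.2, h3⟩
    rw [hdisj.eq_bot, Submodule.mem_bot] at h4
    exact Subtype.ext h4
  have h1 := LinearMap.finrank_le_finrank_of_injective hLinj
  rw [hD.finrank_eq i] at h1
  have h2 : Module.finrank F ↥(Submodule.span F ({u, y} : Set (Fin n → F))) ≤ 2 := by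
    have h3 : ({u, y} : Set (Fin n → F)) = ((({u, y} : Finset (Fin n → F)) : Finset (Fin n → F)) : Set (Fin n → F)) := by
      simp
    rw [h3]
    exact le_trans (finrank_span_finset_le_card _) Finset.card_le_two
  omega

/-- **EO2-B3a**.  `Ω` stabilises no decomposition into blocks of dimension `k ≥ 3`. -/
theorem not_omegaGL_le_decompositionStabilizer_big (Q : (Fin n → F) → F) (hQ : IsNondegenerateQuadraticForm Q) (hn : 8 ≤ n)
    {t : ℕ} (k : ℕ) (hk : 3 ≤ k) (D : Fin t → Submodule F (Fin n → F)) (hD : IsMDecomposition k D) :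
    ¬ omegaGL Q ≤ decompositionStabilizer D := by
  intro hle
  have hQ' := toQF_nondegenerate Q hQ
  have ht := hD.two_le
  have hinv : SgInv (toQF Q hQ) (D ⟨0, by omega⟩) := by
    intro u y hu huy w hw
    have hmem : ((sg (toQF Q hQ) u y : ↥(Cfsg.isometryGroup F ⇑(toQF Q hQ))) : GL (Fin n) F) ∈ omegaGL Q :=
      sg_mem_omegaGL (toQF Q hQ) hQ' (by omega) u y hu huy
    exact sg_fixes_block (toQF Q hQ) k hk D hD u y hu huy (hle hmem) _ w hw
  rcases hinv.eq_bot_or_eq_top hQ' (by omega) with h | h
  · have h1 := hD.finrank_eq ⟨0, by omega⟩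
    rw [h, finrank_bot] at h1
    omega
  · have hdisj : Disjoint (D ⟨0, by omega⟩) (D ⟨1, by omega⟩) :=
      hD.indep.pairwiseDisjoint (by
        intro hh
        have := congrArg Fin.val hh
        simp at this)
    rw [h, top_disjoint] at hdisj
    have h1 := hD.finrank_eq ⟨1, by omega⟩
    rw [hdisj, finrank_bot] at h1
    omega

end Cfsg.Agent.Lib.H2.EOP2
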