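/-
EO phase 2, piece EO2-B6 (helper2): `Ω(Q)` (n ≥ 8, all q) lies in no tensor-product subgroup with both factors of dimension ≥ 2.
Route: a long root element `1 + N` has `rank N ≤ 2`; if it is `P (A ⊗ B) P⁻¹` with the second factor of dimension ≥ 3 then
`A` is scalar (helper11 `left_scalar_of_rank`), so it commutes with `P (x ⊗ 1) P⁻¹`; the root elements generate `Ω`
(helper13 `omegaGL_le_of_root_gens`) and Schur's lemma (`schur_mat_gen`) makes `x ⊗ 1` scalar: absurd for `x = E₀₀`.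
-/
import Mathlib
import Cfsg.Agent.Lib.H13.AschEORoot
import Cfsg.Agent.Lib.H11.SpTen1

set_option autoImplicit false
set_option linter.unusedSectionVars false
set_option linter.unusedVariables false

namespace Cfsg.Agent.Lib.H2.EOP2

open Cfsg Cfsg.Geo
open Module
open Cfsg.Agent.Lib.H11.TensR
open scoped MatrixGroups Matrix Kronecker

variable {F : Type*} [Field F]

/-- the subgroup of `GL` of the elements commuting with a given matrix -/
def commSub {ι : Type} [Fintype ι] [DecidableEq ι] (X : Matrix ι ι F) : Subgroup (GL ι F) where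
  carrier := {g | X * (g : Matrix ι ι F) = (g : Matrix ι ι F) * X}
  mul_mem' := by
    intro g h hg hh
    simp only [Set.mem_ofPred_eq] at hg hh ⊢
    rw [Units.val_mul, ← Matrix.mul_assoc, hg, Matrix.mul_assoc, hh, Matrix.mul_assoc]
  one_mem' := by simp
  inv_mem' := by
    intro g hg
    simp only [Set.mem_ofPred_eq] at hg ⊢
    calc X * ((g⁻¹ : GL ι F) : Matrix ι ι F)
        = ((g⁻¹ : GL ι F) : Matrix ι ι F) * ((g : Matrix ι ι F) * X) * ((g⁻¹ : GL ι F) : Matrix ι ι F) := by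
          rw [← Matrix.mul_assoc, ← Units.val_mul, inv_mul_cancel, Units.val_one, Matrix.one_mul]
      _ = ((g⁻¹ : GL ι F) : Matrix ι ι F) * X := by
          rw [← hg, Matrix.mul_assoc, Matrix.mul_assoc, ← Units.val_mul, mul_inv_cancel, Units.val_one,
            Matrix.mul_one]

theorem mem_commSub {ι : Type} [Fintype ι] [DecidableEq ι] (X : Matrix ι ι F) (g : GL ι F) :
    g ∈ commSub X ↔ X * (g : Matrix ι ι F) = (g : Matrix ι ι F) * X := Iff.rfl

variable {n : ℕ}

/-- product of two conjugated reindexed matrices -/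
theorem conj_sub_mul {a b : ℕ} (e : Fin n ≃ Fin a × Fin b) (P : GL (Fin n) F)
    (M M' : Matrix (Fin a × Fin b) (Fin a × Fin b) F) :
    (P : Matrix (Fin n) (Fin n) F) * M.submatrix e e * ((P⁻¹ : GL (Fin n) F) : Matrix (Fin n) (Fin n) F) *
      ((P : Matrix (Fin n) (Fin n) F) * M'.submatrix e e * ((P⁻¹ : GL (Fin n) F) : Matrix (Fin n) (Fin n) F)) =
    (P : Matrix (Fin n) (Fin n) F) * (M * M').submatrix e e *
      ((P⁻¹ : GL (Fin n) F) : Matrix (Fin n) (Fin n) F) := by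
  rw [← Matrix.submatrix_mul_equiv M M' e e e]
  calc (P : Matrix (Fin n) (Fin n) F) * M.submatrix e e * ((P⁻¹ : GL (Fin n) F) : Matrix (Fin n) (Fin n) F) *
      ((P : Matrix (Fin n) (Fin n) F) * M'.submatrix e e * ((P⁻¹ : GL (Fin n) F) : Matrix (Fin n) (Fin n) F))
      = (P : Matrix (Fin n) (Fin n) F) * M.submatrix e e *
          (((P⁻¹ : GL (Fin n) F) : Matrix (Fin n) (Fin n) F) * (P : Matrix (Fin n) (Fin n) F)) *
          M'.submatrix e e * ((P⁻¹ : GL (Fin n) F) : Matrix (Fin n) (Fin n) F) := by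
        simp only [Matrix.mul_assoc]
    _ = _ := by
        rw [← Units.val_mul, inv_mul_cancel, Units.val_one, Matrix.mul_one]
        simp only [Matrix.mul_assoc]

theorem rank_le_two_of_span (N : Matrix (Fin n) (Fin n) F)
    (h : ∃ u v : Fin n → F, ∀ w, N *ᵥ w ∈ Submodule.span F ({u, v} : Set (Fin n → F))) : N.rank ≤ 2 := by
  classical
  obtain ⟨u, v, huv⟩ := h
  rw [Matrix.rank]
  have hle : LinearMap.range N.mulVecLin ≤ Submodule.span F ({u, v} : Set (Fin n → F)) := by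
    rintro _ ⟨w, rfl⟩
    exact huv w
  calc finrank F (LinearMap.range N.mulVecLin)
      ≤ finrank F (Submodule.span F ({u, v} : Set (Fin n → F))) := Submodule.finrank_mono hle
    _ ≤ 2 := by
        have h1 := finrank_span_finset_le_card (R := F) ({u, v} : Finset (Fin n → F))
        have h2 : (({u, v} : Finset (Fin n → F)) : Set (Fin n → F)) = {u, v} := by
          simp
        rw [h2] at h1
        exact h1.trans Finset.card_le_two

variable [Fintype F]

/-- the case where the second factor has dimension at least 3 -/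
theorem not_le_tensor_of_three (Q : (Fin n → F) → F) (hQ : IsNondegenerateQuadraticForm Q) (hn : 8 ≤ n)
    (n₁ n₂ : ℕ) (h₁ : 2 ≤ n₁) (h₂ : 3 ≤ n₂) (e : Fin n ≃ Fin n₁ × Fin n₂) (P : GL (Fin n) F) :
    ¬ omegaGL Q ≤ tensorProductSubgroup n₁ n₂ e P := by
  intro hle
  have hn7 : 7 ≤ Fintype.card (Fin n) := by rw [Fintype.card_fin]; omega
  set x : Matrix (Fin n₁) (Fin n₁) F := Matrix.single ⟨0, by omega⟩ ⟨0, by omega⟩ 1 with hx
  set X : Matrix (Fin n) (Fin n) F := (P : Matrix (Fin n) (Fin n) F) *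
    (x ⊗ₖ (1 : Matrix (Fin n₂) (Fin n₂) F)).submatrix e e *
      ((P⁻¹ : GL (Fin n) F) : Matrix (Fin n) (Fin n) F) with hX
  have hPP : (P : Matrix (Fin n) (Fin n) F) * ((P⁻¹ : GL (Fin n) F) : Matrix (Fin n) (Fin n) F) = 1 := by
    rw [← Units.val_mul, mul_inv_cancel, Units.val_one]
  have hPP' : ((P⁻¹ : GL (Fin n) F) : Matrix (Fin n) (Fin n) F) * (P : Matrix (Fin n) (Fin n) F) = 1 := by
    rw [← Units.val_mul, inv_mul_cancel, Units.val_one]
  have hcent : omegaGL Q ≤ commSub X := by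
    apply Cfsg.Agent.Lib.H13.EOP2.omegaGL_le_of_root_gens Q hQ hn7
    intro N hN g hg hgN
    obtain ⟨A, B, hAB⟩ := exists_kron_of_mem e P g (hle hg)
    have hsim : Sim e (g : Matrix (Fin n) (Fin n) F)
        ((A : Matrix (Fin n₁) (Fin n₁) F) ⊗ₖ (B : Matrix (Fin n₂) (Fin n₂) F)) :=
      ⟨_, _, hPP, hPP', hAB⟩
    have hrk := hsim.rank_sub 1
    have hN1 : (g : Matrix (Fin n) (Fin n) F) - (1 : F) • 1 = N := by
      rw [hgN, one_smul, add_sub_cancel_left]
    rw [hN1] at hrk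
    have hr2 : N.rank ≤ 2 := rank_le_two_of_span N hN.2.1
    obtain ⟨α, hα⟩ := left_scalar_of_rank (A : Matrix (Fin n₁) (Fin n₁) F)
      (B : Matrix (Fin n₂) (Fin n₂) F) 1 one_ne_zero (by rw [← hrk]; omega)
    rw [mem_commSub, hX, hAB, conj_sub_mul, conj_sub_mul, ← Matrix.mul_kronecker_mul,
      ← Matrix.mul_kronecker_mul, hα]
    congr 3
    rw [Matrix.mul_smul, Matrix.smul_mul, Matrix.mul_one, Matrix.one_mul, Matrix.mul_one, Matrix.one_mul]
  obtain ⟨l, hl⟩ := Cfsg.Agent.Lib.H13.EOP2.schur_mat_gen Q hQ hn7 X (fun g hg => hcent hg)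
  have hsimX : Sim e (l • (1 : Matrix (Fin n) (Fin n) F)) (x ⊗ₖ (1 : Matrix (Fin n₂) (Fin n₂) F)) := by
    rw [← hl]
    exact ⟨_, _, hPP, hPP', hX⟩
  have hsc := hsimX.scalar
  have e0 := congrFun (congrFun hsc ((⟨0, by omega⟩ : Fin n₁), (⟨0, by omega⟩ : Fin n₂)))
    ((⟨0, by omega⟩ : Fin n₁), (⟨0, by omega⟩ : Fin n₂))
  have e1 := congrFun (congrFun hsc ((⟨1, by omega⟩ : Fin n₁), (⟨0, by omega⟩ : Fin n₂)))
    ((⟨1, by omega⟩ : Fin n₁), (⟨0, by omega⟩ : Fin n₂))
  simp [hx, Matrix.kroneckerMap_apply] at e0 e1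
  rw [← e1] at e0
  exact one_ne_zero e0

/-- **EO2-B6**: `Ω(Q)`, `n ≥ 8`, lies in no tensor product subgroup. -/
theorem not_omegaGL_le_tensorProductSubgroup (Q : (Fin n → F) → F) (hQ : IsNondegenerateQuadraticForm Q) (hn : 8 ≤ n)
    (n₁ n₂ : ℕ) (h₁ : 2 ≤ n₁) (h₂ : 2 ≤ n₂) (e : Fin n ≃ Fin n₁ × Fin n₂) (P : GL (Fin n) F) :
    ¬ omegaGL Q ≤ tensorProductSubgroup n₁ n₂ e P := by
  have hcard : n = n₁ * n₂ := by
    have := Fintype.card_congr e
    simpa using this
  by_cases h3 : 3 ≤ n₂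
  · exact not_le_tensor_of_three Q hQ hn n₁ n₂ h₁ h3 e P
  · have hn2 : n₂ = 2 := by omega
    have h13 : 3 ≤ n₁ := by
      subst hn2
      omega
    intro hle
    apply not_le_tensor_of_three Q hQ hn n₂ n₁ h₂ h13 (e.trans (Equiv.prodComm (Fin n₁) (Fin n₂))) P
    intro g hg
    obtain ⟨A, B, hAB⟩ := exists_kron_of_mem e P g (hle hg)
    apply mem_of_kron (e.trans (Equiv.prodComm (Fin n₁) (Fin n₂))) P B A g
    rw [hAB, ← Cfsg.Agent.Lib.H11.SpTen.kron_swap (B : Matrix (Fin n₂) (Fin n₂) F) (A : Matrix (Fin n₁) (Fin n₁) F)]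
    rfl

end Cfsg.Agent.Lib.H2.EOP2
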