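/-
helper2: piece OM4-33 of the S5673 sub-farm (helper24, tools/blueprints/S5673_OM8_sigs.lean):
the tensor case 3 ⊗ 3 over the field with 3 elements lies in class 2 with lines (orthogonal frame of 9 lines).
Also: `frameLines` (lines spanned by the columns of an invertible matrix), the general lemma
"orthogonal frame of constant norm ⇒ IsOrthogonalMDecomposition Q 1", and "monomial in the frame ⇒ in the stabiliser".
-/
import Cfsg.Agent.Lib.H24.AschODefs
import Cfsg.Agent.Lib.H24.AschOBasic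
import Cfsg.Agent.Lib.H8.AschSM4a
import Cfsg.Agent.Lib.H7.AschO33A
import Cfsg.Agent.Lib.H7.AschO33B

set_option autoImplicit false

namespace Cfsg.Agent.Lib.H2.Asch

open Cfsg Cfsg.Geo Cfsg.Agent.Lib.H24.Asch
open scoped MatrixGroups Matrix Kronecker

variable {F : Type*} [Field F] {n : ℕ}

/-- the lines spanned by the columns of `T` -/
def frameLines (T : GL (Fin n) F) (k : Fin n) : Submodule F (Fin n → F) :=
  F ∙ ((T : Matrix (Fin n) (Fin n) F) *ᵥ Pi.single k 1)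

theorem frame_col_linearIndependent (T : GL (Fin n) F) :
    LinearIndependent F (fun k : Fin n => (T : Matrix (Fin n) (Fin n) F) *ᵥ Pi.single k 1) := by
  have h1 : LinearIndependent F (fun k : Fin n => (Pi.single k 1 : Fin n → F)) := by
    have := (Pi.basisFun F (Fin n)).linearIndependent
    have e : (⇑(Pi.basisFun F (Fin n))) = fun k : Fin n => (Pi.single k 1 : Fin n → F) := by
      funext k; simp
    rwa [e] at this
  have h2 := h1.map' (Matrix.toLin' (T : Matrix (Fin n) (Fin n) F)) (by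
    rw [LinearMap.ker_eq_bot]
    intro x y hxy
    rw [Matrix.toLin'_apply, Matrix.toLin'_apply] at hxy
    have := congrArg (fun z => ((T⁻¹ : GL (Fin n) F) : Matrix (Fin n) (Fin n) F) *ᵥ z) hxy
    simpa [Matrix.mulVec_mulVec, ← Units.val_mul] using this)
  exact h2

theorem frameLines_isMDecomposition (hn : 2 ≤ n) (T : GL (Fin n) F) :
    IsMDecomposition 1 (frameLines T) := by
  have hli := frame_col_linearIndependent T
  refine ⟨hn, one_pos, fun k => ?_, ?_, ?_⟩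
  · exact finrank_span_singleton (hli.ne_zero k)
  · exact hli.iSupIndep_span_singleton
  · unfold frameLines
    rw [← Submodule.span_range_eq_iSup]
    apply hli.span_eq_top_of_card_eq_finrank'
    rw [Module.finrank_fin_fun, Fintype.card_fin]

/-- an element which is monomial in the frame `T` permutes the lines -/
theorem mem_decompositionStabilizer_frameLines (T h : GL (Fin n) F) (M : Matrix (Fin n) (Fin n) F)
    (π : Equiv.Perm (Fin n))
    (hM : (h : Matrix (Fin n) (Fin n) F) * (T : Matrix (Fin n) (Fin n) F) =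
      (T : Matrix (Fin n) (Fin n) F) * M) (hsupp : ∀ k l, M k l ≠ 0 ↔ k = π l) :
    h ∈ decompositionStabilizer (frameLines T) := by
  refine ⟨π, fun l => ?_⟩
  unfold frameLines
  rw [Submodule.map_span, Set.image_singleton, Matrix.toLin'_apply, Matrix.mulVec_mulVec, hM,
    ← Matrix.mulVec_mulVec]
  have hcol : M *ᵥ Pi.single l 1 = M (π l) l • (Pi.single (π l) 1 : Fin n → F) := by
    rw [Matrix.mulVec_single_one]
    funext k
    rw [Matrix.col_apply, Pi.smul_apply, smul_eq_mul, Pi.single_apply]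
    by_cases hk : k = π l
    · rw [if_pos hk, mul_one, hk]
    · rw [if_neg hk, mul_zero]
      by_contra h0
      exact hk ((hsupp k l).1 h0)
  rw [hcol, Matrix.mulVec_smul]
  exact Submodule.span_singleton_smul_eq (isUnit_iff_ne_zero.2 ((hsupp (π l) l).2 rfl)) _

variable [Fintype F]

/-- an orthogonal frame with constant norm gives a member of class 2 with lines -/
theorem frameLines_isOrthogonalMDecomposition (Q : (Fin n → F) → F) (hQ : OData Q) (hn : 2 ≤ n)
    (T : GL (Fin n) F) (d : F) (hd : d ≠ 0)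
    (hT : (T : Matrix (Fin n) (Fin n) F)ᵀ * gramMatrix (QuadraticMap.polar Q) *
      (T : Matrix (Fin n) (Fin n) F) = d • (1 : Matrix (Fin n) (Fin n) F)) :
    IsOrthogonalMDecomposition Q 1 (frameLines T) := by
  classical
  set b : Fin n → Fin n → F := fun k => (T : Matrix (Fin n) (Fin n) F) *ᵥ Pi.single k 1 with hb
  have hbil := hQ.quad.polar_bilinear
  have hpol : ∀ k l, QuadraticMap.polar Q (b k) (b l) = if k = l then d else 0 := by
    intro k l
    rw [polar_eq_gram hQ.quad, hb, dot_mulVec_conj, single_dot_single, hT, Matrix.smul_apply,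
      Matrix.one_apply, smul_eq_mul, mul_ite, mul_one, mul_zero]
  have hmem : ∀ k, ∀ w ∈ frameLines T k, ∃ α : F, w = α • b k := by
    intro k w hw
    obtain ⟨α, rfl⟩ := Submodule.mem_span_singleton.1 hw
    exact ⟨α, rfl⟩
  have hQb : ∀ k, Q (b k) = d / 2 := by
    intro k
    rw [Q_eq_half hQ, hpol, if_pos rfl]
  refine ⟨⟨frameLines_isMDecomposition hn T, ?_, ?_⟩, ?_⟩
  · -- non-degenerate on each line
    intro k w hw hw0
    obtain ⟨α, rfl⟩ := hmem k w hw
    have hα : α ≠ 0 := by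
      rintro rfl
      exact hw0 (zero_smul _ _)
    have hbk : b k ∈ frameLines T k := Submodule.mem_span_singleton_self _
    refine ⟨⟨b k, hbk, ?_⟩, ⟨b k, hbk, ?_⟩⟩
    · rw [hbil.smul_right, hpol, if_pos rfl]
      exact mul_ne_zero hα hd
    · rw [hbil.smul_left, hpol, if_pos rfl]
      exact mul_ne_zero hα hd
  · -- pairwise orthogonal
    intro k l hkl u hu v hv
    obtain ⟨α, rfl⟩ := hmem k u hu
    obtain ⟨β, rfl⟩ := hmem l v hv
    rw [hbil.smul_left, hbil.smul_right, hpol, if_neg hkl, mul_zero, mul_zero]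
  · -- pairwise isometric
    intro k l
    have hk0 : b k ≠ 0 := (frame_col_linearIndependent T).ne_zero k
    have hl0 : b l ≠ 0 := (frame_col_linearIndependent T).ne_zero l
    let ek : F ≃ₗ[F] ↥(frameLines T k) := LinearEquiv.toSpanNonzeroSingleton F (Fin n → F) (b k) hk0
    let el : F ≃ₗ[F] ↥(frameLines T l) := LinearEquiv.toSpanNonzeroSingleton F (Fin n → F) (b l) hl0
    refine ⟨ek.symm.trans el, fun w => ?_⟩
    obtain ⟨α, hα⟩ : ∃ α : F, ek α = w := ek.surjective w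
    subst hα
    have h1 : (ek.symm.trans el) (ek α) = el α := by
      rw [LinearEquiv.trans_apply, LinearEquiv.symm_apply_apply]
    have h2 : ((el α : ↥(frameLines T l)) : Fin n → F) = α • b l := rfl
    have h3 : ((ek α : ↥(frameLines T k)) : Fin n → F) = α • b k := rfl
    rw [h1, h2, h3, hQ.quad.smul, hQ.quad.smul, hQb, hQb]


/-- a similitude of a form with Gram matrix `ε • 1` in the frame `P₁` is monomial in that frame -/
theorem om433_monomial (hF : Fintype.card F = 3) (G₁ : Matrix (Fin 3) (Fin 3) F) (P₁ a : GL (Fin 3) F)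
    (ε μ : F) (hε : ε ≠ 0)
    (hP₁ : (P₁ : Matrix (Fin 3) (Fin 3) F)ᵀ * G₁ * (P₁ : Matrix (Fin 3) (Fin 3) F) =
      ε • (1 : Matrix (Fin 3) (Fin 3) F))
    (ha : (a : Matrix (Fin 3) (Fin 3) F)ᵀ * G₁ * (a : Matrix (Fin 3) (Fin 3) F) = μ • G₁) :
    ∃ σ : Equiv.Perm (Fin 3), ∀ i j,
      ((P₁⁻¹ * a * P₁ : GL (Fin 3) F) : Matrix (Fin 3) (Fin 3) F) i j ≠ 0 ↔ i = σ j := by
  have hPa : (P₁ : Matrix (Fin 3) (Fin 3) F) *
      ((P₁⁻¹ * a * P₁ : GL (Fin 3) F) : Matrix (Fin 3) (Fin 3) F)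
        = (a : Matrix (Fin 3) (Fin 3) F) * (P₁ : Matrix (Fin 3) (Fin 3) F) := by
    rw [← Units.val_mul, ← Units.val_mul]
    congr 1
    group
  set a' := ((P₁⁻¹ * a * P₁ : GL (Fin 3) F) : Matrix (Fin 3) (Fin 3) F) with ha'
  have h2 : a'ᵀ * (ε • (1 : Matrix (Fin 3) (Fin 3) F)) * a' =
      ε • (μ • (1 : Matrix (Fin 3) (Fin 3) F)) := by
    rw [← hP₁]
    calc a'ᵀ * ((P₁ : Matrix (Fin 3) (Fin 3) F)ᵀ * G₁ * (P₁ : Matrix (Fin 3) (Fin 3) F)) * a'
        = ((P₁ : Matrix (Fin 3) (Fin 3) F) * a')ᵀ * G₁ * ((P₁ : Matrix (Fin 3) (Fin 3) F) * a') := by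
          rw [Matrix.transpose_mul]; simp only [Matrix.mul_assoc]
      _ = (P₁ : Matrix (Fin 3) (Fin 3) F)ᵀ * ((a : Matrix (Fin 3) (Fin 3) F)ᵀ * G₁ *
            (a : Matrix (Fin 3) (Fin 3) F)) * (P₁ : Matrix (Fin 3) (Fin 3) F) := by
          rw [hPa, Matrix.transpose_mul]; simp only [Matrix.mul_assoc]
      _ = μ • ((P₁ : Matrix (Fin 3) (Fin 3) F)ᵀ * G₁ * (P₁ : Matrix (Fin 3) (Fin 3) F)) := by
          rw [ha, Matrix.mul_smul, Matrix.smul_mul]
      _ = ε • (μ • (1 : Matrix (Fin 3) (Fin 3) F)) := by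
          rw [hP₁, smul_comm]
  rw [Matrix.mul_smul, Matrix.smul_mul, Matrix.mul_one] at h2
  have h3 : a'ᵀ * a' = μ • (1 : Matrix (Fin 3) (Fin 3) F) := smul_right_injective _ hε h2
  exact (Cfsg.Agent.Lib.H7.Asch.monomial_of_similarity_three hF _ μ h3).2

/-- **OM4-33**. -/
theorem oc2b_of_kronecker_three_three (Q : (Fin n → F) → F) (hQ : OData Q) (hF : Fintype.card F = 3)
    (H : Subgroup (GL (Fin n) F)) (hH : H ≤ isometryGroup F Q)
    (e : Fin n ≃ Fin 3 × Fin 3) (P : GL (Fin n) F)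
    (f₁ f₂ : (Fin 3 → F) → (Fin 3 → F) → F) (h₁ : IsSymmetricForm f₁) (h₂ : IsSymmetricForm f₂)
    (hstr : IsTensorFormStructure id (QuadraticMap.polar Q) f₁ f₂ e P)
    (hle : H ≤ tensorProductSubgroup 3 3 e P) : OC2b Q H := by
  classical
  have hn9 : n = 9 := by
    have := Fintype.card_congr e
    simpa using this
  obtain ⟨c, hc, hform⟩ := hstr
  set G := gramMatrix (QuadraticMap.polar Q) with hG
  set G₁ := gramMatrix f₁ with hG₁
  set G₂ := gramMatrix f₂ with hG₂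
  -- reindexing
  set R : Matrix (Fin 3 × Fin 3) (Fin 3 × Fin 3) F ≃ₐ[F] Matrix (Fin n) (Fin n) F :=
    Matrix.reindexAlgEquiv F F e.symm with hR
  have hRapp : ∀ (M : Matrix (Fin 3 × Fin 3) (Fin 3 × Fin 3) F) k l, R M k l = M (e k) (e l) := by
    intro M k l
    simp [hR, Matrix.coe_reindexAlgEquiv, Matrix.reindex_apply]
  have hRt : ∀ M : Matrix (Fin 3 × Fin 3) (Fin 3 × Fin 3) F, (R M)ᵀ = R Mᵀ := by
    intro M
    ext k l
    rw [Matrix.transpose_apply, hRapp, hRapp, Matrix.transpose_apply]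
  -- matrix form of the tensor structure
  have hPG : (P : Matrix (Fin n) (Fin n) F)ᵀ * G * (P : Matrix (Fin n) (Fin n) F) =
      c • R (G₁ ⊗ₖ G₂) := by
    ext k l
    have hk : ∀ k : Fin n, (Pi.single k 1 : Fin n → F) =
        (Pi.single (e k) 1 : Fin 3 × Fin 3 → F) ∘ e := by
      intro k
      funext l
      simp [Pi.single_apply, e.injective.eq_iff]
    have h := hform (Pi.single (e k) 1) (Pi.single (e l) 1)
    rw [← hk, ← hk, polar_eq_gram hQ.quad, dot_mulVec_conj, single_dot_single] at h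
    rw [h, Matrix.smul_apply, hRapp, smul_eq_mul]
    congr 1
    simp [formOfGram, Pi.single_apply]
  -- the frames
  obtain ⟨P₁, ε₁, hε₁, hP₁⟩ := Cfsg.Agent.Lib.H7.Asch.exists_frame_three hF f₁ h₁
  obtain ⟨P₂, ε₂, hε₂, hP₂⟩ := Cfsg.Agent.Lib.H7.Asch.exists_frame_three hF f₂ h₂
  rw [← hG₁] at hP₁
  rw [← hG₂] at hP₂
  have hG₁0 : G₁ ≠ 0 := by
    intro h0
    rw [h0, Matrix.mul_zero, Matrix.zero_mul] at hP₁
    have := congrFun (congrFun hP₁ 0) 0
    simp at this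
    exact hε₁ this.symm
  have hG₂0 : G₂ ≠ 0 := by
    intro h0
    rw [h0, Matrix.mul_zero, Matrix.zero_mul] at hP₂
    have := congrFun (congrFun hP₂ 0) 0
    simp at this
    exact hε₂ this.symm
  set K : Matrix (Fin 3 × Fin 3) (Fin 3 × Fin 3) F :=
    (P₁ : Matrix (Fin 3) (Fin 3) F) ⊗ₖ (P₂ : Matrix (Fin 3) (Fin 3) F) with hK
  set Ki : Matrix (Fin 3 × Fin 3) (Fin 3 × Fin 3) F :=
    ((P₁⁻¹ : GL (Fin 3) F) : Matrix (Fin 3) (Fin 3) F) ⊗ₖ
      ((P₂⁻¹ : GL (Fin 3) F) : Matrix (Fin 3) (Fin 3) F) with hKi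
  have hKKi : K * Ki = 1 := by
    rw [hK, hKi, ← Matrix.mul_kronecker_mul, ← Units.val_mul, ← Units.val_mul, mul_inv_cancel,
      mul_inv_cancel, Units.val_one, Matrix.one_kronecker_one]
  have hKiK : Ki * K = 1 := by
    rw [hK, hKi, ← Matrix.mul_kronecker_mul, ← Units.val_mul, ← Units.val_mul, inv_mul_cancel,
      inv_mul_cancel, Units.val_one, Matrix.one_kronecker_one]
  have hPPi : (P : Matrix (Fin n) (Fin n) F) * ((P⁻¹ : GL (Fin n) F) : Matrix (Fin n) (Fin n) F) = 1 := by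
    rw [← Units.val_mul, mul_inv_cancel, Units.val_one]
  have hPiP : ((P⁻¹ : GL (Fin n) F) : Matrix (Fin n) (Fin n) F) * (P : Matrix (Fin n) (Fin n) F) = 1 := by
    rw [← Units.val_mul, inv_mul_cancel, Units.val_one]
  let Tu : GL (Fin n) F :=
    ⟨(P : Matrix (Fin n) (Fin n) F) * R K, R Ki * ((P⁻¹ : GL (Fin n) F) : Matrix (Fin n) (Fin n) F),
      by
        calc (P : Matrix (Fin n) (Fin n) F) * R K *
              (R Ki * ((P⁻¹ : GL (Fin n) F) : Matrix (Fin n) (Fin n) F))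
            = (P : Matrix (Fin n) (Fin n) F) * (R K * R Ki) *
              ((P⁻¹ : GL (Fin n) F) : Matrix (Fin n) (Fin n) F) := by simp only [Matrix.mul_assoc]
          _ = 1 := by rw [← map_mul, hKKi, map_one, Matrix.mul_one, hPPi],
      by
        calc R Ki * ((P⁻¹ : GL (Fin n) F) : Matrix (Fin n) (Fin n) F) *
              ((P : Matrix (Fin n) (Fin n) F) * R K)
            = R Ki * (((P⁻¹ : GL (Fin n) F) : Matrix (Fin n) (Fin n) F) *
              (P : Matrix (Fin n) (Fin n) F)) * R K := by simp only [Matrix.mul_assoc]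
          _ = 1 := by rw [hPiP, Matrix.mul_one, ← map_mul, hKiK, map_one]⟩
  have hTu : (Tu : Matrix (Fin n) (Fin n) F) = (P : Matrix (Fin n) (Fin n) F) * R K := rfl
  -- the Gram matrix in the frame
  have hKG : Kᵀ * (G₁ ⊗ₖ G₂) * K = (ε₁ * ε₂) • (1 : Matrix (Fin 3 × Fin 3) (Fin 3 × Fin 3) F) := by
    rw [hK, Cfsg.Agent.Lib.H8.AschS.kron_transpose, ← Matrix.mul_kronecker_mul,
      ← Matrix.mul_kronecker_mul, hP₁, hP₂, Matrix.smul_kronecker, Matrix.kronecker_smul,
      Matrix.one_kronecker_one, smul_smul]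
  have hT : (Tu : Matrix (Fin n) (Fin n) F)ᵀ * G * (Tu : Matrix (Fin n) (Fin n) F) =
      (c * (ε₁ * ε₂)) • (1 : Matrix (Fin n) (Fin n) F) := by
    rw [hTu, Matrix.transpose_mul]
    calc (R K)ᵀ * (P : Matrix (Fin n) (Fin n) F)ᵀ * G * ((P : Matrix (Fin n) (Fin n) F) * R K)
        = (R K)ᵀ * ((P : Matrix (Fin n) (Fin n) F)ᵀ * G * (P : Matrix (Fin n) (Fin n) F)) * R K := by
          simp only [Matrix.mul_assoc]
      _ = c • R (Kᵀ * (G₁ ⊗ₖ G₂) * K) := by
          rw [hPG, hRt, Matrix.mul_smul, Matrix.smul_mul, map_mul, map_mul]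
      _ = (c * (ε₁ * ε₂)) • (1 : Matrix (Fin n) (Fin n) F) := by
          rw [hKG, map_smul, map_one, smul_smul]
  have hd : c * (ε₁ * ε₂) ≠ 0 := mul_ne_zero hc (mul_ne_zero hε₁ hε₂)
  refine ⟨n, frameLines Tu, by rw [hF]; exact Nat.prime_three,
    frameLines_isOrthogonalMDecomposition Q hQ (by omega) Tu _ hd hT, ?_⟩
  -- `H` permutes the lines
  intro h hh
  obtain ⟨g', hg', hconj⟩ := hle hh
  obtain ⟨g, hg, hre⟩ := hg'
  obtain ⟨a, b, hab⟩ := hg
  have hval : (h : Matrix (Fin n) (Fin n) F) = (P : Matrix (Fin n) (Fin n) F) *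
      R ((a : Matrix (Fin 3) (Fin 3) F) ⊗ₖ (b : Matrix (Fin 3) (Fin 3) F)) *
      ((P⁻¹ : GL (Fin n) F) : Matrix (Fin n) (Fin n) F) := by
    rw [← hconj, ← hre, ← hab]
    rfl
  set g₀ : Matrix (Fin 3 × Fin 3) (Fin 3 × Fin 3) F :=
    (a : Matrix (Fin 3) (Fin 3) F) ⊗ₖ (b : Matrix (Fin 3) (Fin 3) F) with hg₀
  have hhP : (h : Matrix (Fin n) (Fin n) F) * (P : Matrix (Fin n) (Fin n) F) =
      (P : Matrix (Fin n) (Fin n) F) * R g₀ := by
    rw [hval, Matrix.mul_assoc, hPiP, Matrix.mul_one]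
  have hiso := isometry_gram hQ.quad h (hH hh)
  have hg₀G : g₀ᵀ * (G₁ ⊗ₖ G₂) * g₀ = G₁ ⊗ₖ G₂ := by
    have h1 : (R g₀)ᵀ * ((P : Matrix (Fin n) (Fin n) F)ᵀ * G * (P : Matrix (Fin n) (Fin n) F)) * R g₀ =
        (P : Matrix (Fin n) (Fin n) F)ᵀ * G * (P : Matrix (Fin n) (Fin n) F) := by
      calc (R g₀)ᵀ * ((P : Matrix (Fin n) (Fin n) F)ᵀ * G * (P : Matrix (Fin n) (Fin n) F)) * R g₀
          = ((P : Matrix (Fin n) (Fin n) F) * R g₀)ᵀ * G * ((P : Matrix (Fin n) (Fin n) F) * R g₀) := by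
            rw [Matrix.transpose_mul]; simp only [Matrix.mul_assoc]
        _ = (P : Matrix (Fin n) (Fin n) F)ᵀ * ((h : Matrix (Fin n) (Fin n) F)ᵀ * G *
              (h : Matrix (Fin n) (Fin n) F)) * (P : Matrix (Fin n) (Fin n) F) := by
            rw [← hhP, Matrix.transpose_mul]; simp only [Matrix.mul_assoc]
        _ = _ := by rw [hiso]
    rw [hPG, hRt, Matrix.mul_smul, Matrix.smul_mul, ← map_mul, ← map_mul] at h1
    exact R.injective (smul_right_injective _ hc h1)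
  obtain ⟨μ, hμ, haG, hbG⟩ := Cfsg.Agent.Lib.H8.AschS.kron_similitude G₁ _ G₂ _ hG₁0 hG₂0 hg₀G
  obtain ⟨σ, hσ⟩ := om433_monomial hF G₁ P₁ a ε₁ μ hε₁ hP₁ haG
  obtain ⟨τ, hτ⟩ := om433_monomial hF G₂ P₂ b ε₂ μ⁻¹ hε₂ hP₂ hbG
  set a' := ((P₁⁻¹ * a * P₁ : GL (Fin 3) F) : Matrix (Fin 3) (Fin 3) F) with ha'
  set b' := ((P₂⁻¹ * b * P₂ : GL (Fin 3) F) : Matrix (Fin 3) (Fin 3) F) with hb'
  refine mem_decompositionStabilizer_frameLines Tu h (R (a' ⊗ₖ b'))
    ((e.trans (Equiv.prodCongr σ τ)).trans e.symm) ?_ ?_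
  · -- `h T = T M`
    have h1 : g₀ * K = K * (a' ⊗ₖ b') := by
      rw [hg₀, hK, ← Matrix.mul_kronecker_mul, ← Matrix.mul_kronecker_mul, ha', hb',
        ← Units.val_mul, ← Units.val_mul, ← Units.val_mul, ← Units.val_mul]
      congr 2 <;> group
    rw [hTu, ← Matrix.mul_assoc, hhP, Matrix.mul_assoc, Matrix.mul_assoc, ← map_mul, ← map_mul, h1]
  · intro k l
    rw [hRapp, Matrix.kroneckerMap_apply]
    simp only [Equiv.trans_apply, Equiv.prodCongr_apply, Prod.map]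
    constructor
    · intro hne
      have h1 := (hσ _ _).1 (left_ne_zero_of_mul hne)
      have h2 := (hτ _ _).1 (right_ne_zero_of_mul hne)
      rw [← h1, ← h2, Equiv.symm_apply_apply]
    · intro hk
      have hek : e k = (σ (e l).1, τ (e l).2) := by rw [hk, Equiv.apply_symm_apply]
      rw [hek]
      exact mul_ne_zero ((hσ _ _).2 rfl) ((hτ _ _).2 rfl)

end Cfsg.Agent.Lib.H2.Asch
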