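/-
helper2: piece OM8-X of the S5673 OM8.3 sub-farm (helper24, tools/blueprints/S5673_OM8_sigs.lean):
a perfect group of isometries of a non-degenerate symmetric form on F_3^3 is trivial.
-/
import Cfsg.Agent.Lib.H24.AschODefs
import Cfsg.Agent.Lib.H24.AschOBasic
import Cfsg.Agent.Lib.H23.BurnsidePQ
import Cfsg.Agent.Lib.H7.AschO33A
import Cfsg.Agent.Lib.H7.AschO33B

set_option autoImplicit false

namespace Cfsg.Agent.Lib.H2.Asch

open Cfsg Cfsg.Geo Cfsg.Agent.Lib.H24.Asch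
open scoped MatrixGroups Matrix

section general

/-- a perfect group has only trivial homomorphisms into soluble groups -/
theorem om8x_hom_trivial {G A : Type*} [Group G] [Group A] (hG : commutator G = ⊤)
    (hA : Group.IsSolvable A) (θ : G →* A) (g : G) : θ g = 1 := by
  have hder : ∀ k, derivedSeries G k = ⊤ := by
    intro k
    induction k with
    | zero => rfl
    | succ k ih => rw [derivedSeries_succ, ih, ← commutator_def, hG]
  obtain ⟨k, hk⟩ := hA.solvable
  have h1 := map_derivedSeries_le_derivedSeries θ k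
  rw [hder, hk] at h1
  have h2 : θ g ∈ (⊤ : Subgroup G).map θ := Subgroup.mem_map_of_mem θ (Subgroup.mem_top g)
  exact (Subgroup.mem_bot).1 (h1 h2)

theorem om8x_commutator_top {G : Type*} [Group G] (S : Subgroup G) (hperf : ⁅S, S⁆ = S) :
    commutator ↥S = ⊤ := by
  apply Subgroup.map_injective S.subtype_injective
  rw [Subgroup.map_subtype_commutator, hperf, ← MonoidHom.range_eq_map, Subgroup.range_subtype]

theorem om8x_bot_of_comm {G : Type*} [Group G] (S : Subgroup G) (hperf : ⁅S, S⁆ = S)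
    (hab : ∀ s ∈ S, ∀ t ∈ S, s * t = t * s) : S = ⊥ := by
  rw [← hperf, Subgroup.commutator_eq_bot_iff_le_centralizer]
  intro s hs
  rw [Subgroup.mem_centralizer_iff]
  intro t ht
  exact hab t ht s hs

end general

variable {F : Type*} [Field F]

/-- the support of a monomial matrix is the graph of a permutation -/
def OM8XSupp {k : ℕ} (M : Matrix (Fin k) (Fin k) F) (σ : Equiv.Perm (Fin k)) : Prop :=
  ∀ i j, M i j ≠ 0 ↔ i = σ j

theorem OM8XSupp.unique {k : ℕ} {M : Matrix (Fin k) (Fin k) F} {σ τ : Equiv.Perm (Fin k)}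
    (h1 : OM8XSupp M σ) (h2 : OM8XSupp M τ) : σ = τ := by
  ext j
  have := (h1 (σ j) j).2 rfl
  rw [(h2 (σ j) j).1 this]

theorem om8xSupp_one {k : ℕ} : OM8XSupp (1 : Matrix (Fin k) (Fin k) F) 1 := by
  intro i j
  rw [Matrix.one_apply, Equiv.Perm.one_apply]
  by_cases h : i = j <;> simp [h]

theorem OM8XSupp.mul {k : ℕ} {M N : Matrix (Fin k) (Fin k) F} {σ τ : Equiv.Perm (Fin k)}
    (h1 : OM8XSupp M σ) (h2 : OM8XSupp N τ) : OM8XSupp (M * N) (σ * τ) := by
  intro i j
  have hsum : (M * N) i j = M i (τ j) * N (τ j) j := by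
    rw [Matrix.mul_apply]
    apply Finset.sum_eq_single (τ j)
    · intro b _ hb
      have : N b j = 0 := by
        by_contra h
        exact hb ((h2 b j).1 h)
      rw [this, mul_zero]
    · intro h; exact absurd (Finset.mem_univ _) h
  rw [hsum, Equiv.Perm.mul_apply]
  have hN : N (τ j) j ≠ 0 := (h2 (τ j) j).2 rfl
  constructor
  · intro h
    exact (h1 i (τ j)).1 (left_ne_zero_of_mul h)
  · intro h
    exact mul_ne_zero ((h1 i (τ j)).2 h) hN

theorem OM8XSupp.diagonal {k : ℕ} {M : Matrix (Fin k) (Fin k) F} (h : OM8XSupp M 1) :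
    M = Matrix.diagonal (fun i => M i i) := by
  ext i j
  rw [Matrix.diagonal_apply]
  by_cases hij : i = j
  · rw [if_pos hij, hij]
  · rw [if_neg hij]
    by_contra h0
    exact hij ((h i j).1 h0)

variable [Fintype F]

/-- **OM8-X**. -/
theorem eq_bot_of_perfect_orth_three (hF : Fintype.card F = 3) (S : Subgroup (GL (Fin 3) F))
    (hperf : ⁅S, S⁆ = S) (f₁ : (Fin 3 → F) → (Fin 3 → F) → F) (h₁ : IsSymmetricForm f₁)
    (hfix : ∀ a ∈ S, ∀ u v : Fin 3 → F,
        f₁ (((a : GL (Fin 3) F) : Matrix (Fin 3) (Fin 3) F) *ᵥ u)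
          (((a : GL (Fin 3) F) : Matrix (Fin 3) (Fin 3) F) *ᵥ v) = f₁ u v) : S = ⊥ := by
  classical
  obtain ⟨P, ε, hε, hP⟩ := Cfsg.Agent.Lib.H7.Asch.exists_frame_three hF f₁ h₁
  set G := gramMatrix f₁ with hG
  -- matrix form of the invariance
  have hinv : ∀ a ∈ S, (a : Matrix (Fin 3) (Fin 3) F)ᵀ * G * (a : Matrix (Fin 3) (Fin 3) F) = G := by
    intro a ha
    ext i j
    have h := hfix a ha (Pi.single i 1) (Pi.single j 1)
    rw [bilin_eq_gram h₁.bilinear, dot_mulVec_conj, single_dot_single] at h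
    rw [h]
    rfl
  -- the conjugates are signed permutation matrices
  have hmono : ∀ a ∈ S, ∃ σ : Equiv.Perm (Fin 3),
      OM8XSupp ((P⁻¹ * a * P : GL (Fin 3) F) : Matrix (Fin 3) (Fin 3) F) σ := by
    intro a ha
    have hPa : (P : Matrix (Fin 3) (Fin 3) F) * ((P⁻¹ * a * P : GL (Fin 3) F) : Matrix (Fin 3) (Fin 3) F)
        = (a : Matrix (Fin 3) (Fin 3) F) * (P : Matrix (Fin 3) (Fin 3) F) := by
      rw [← Units.val_mul, ← Units.val_mul]
      congr 1
      group
    have h1 : ((P⁻¹ * a * P : GL (Fin 3) F) : Matrix (Fin 3) (Fin 3) F)ᵀ *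
        ((P⁻¹ * a * P : GL (Fin 3) F) : Matrix (Fin 3) (Fin 3) F) = (1 : F) • (1 : Matrix (Fin 3) (Fin 3) F) := by
      set a' := ((P⁻¹ * a * P : GL (Fin 3) F) : Matrix (Fin 3) (Fin 3) F) with ha'
      have h2 : a'ᵀ * (ε • (1 : Matrix (Fin 3) (Fin 3) F)) * a' = ε • (1 : Matrix (Fin 3) (Fin 3) F) := by
        rw [← hP]
        calc a'ᵀ * ((P : Matrix (Fin 3) (Fin 3) F)ᵀ * G * (P : Matrix (Fin 3) (Fin 3) F)) * a'
            = ((P : Matrix (Fin 3) (Fin 3) F) * a')ᵀ * G * ((P : Matrix (Fin 3) (Fin 3) F) * a') := by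
              rw [Matrix.transpose_mul]; simp only [Matrix.mul_assoc]
          _ = (P : Matrix (Fin 3) (Fin 3) F)ᵀ * ((a : Matrix (Fin 3) (Fin 3) F)ᵀ * G *
                (a : Matrix (Fin 3) (Fin 3) F)) * (P : Matrix (Fin 3) (Fin 3) F) := by
              rw [hPa, Matrix.transpose_mul]; simp only [Matrix.mul_assoc]
          _ = (P : Matrix (Fin 3) (Fin 3) F)ᵀ * G * (P : Matrix (Fin 3) (Fin 3) F) := by
              rw [hinv a ha]
      rw [Matrix.mul_smul, Matrix.smul_mul, Matrix.mul_one] at h2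
      rw [one_smul]
      exact smul_right_injective _ hε h2
    exact (Cfsg.Agent.Lib.H7.Asch.monomial_of_similarity_three hF _ 1 h1).2
  choose! σ hσ using hmono
  -- the homomorphism to the symmetric group
  let θ : ↥S →* Equiv.Perm (Fin 3) := MonoidHom.mk' (fun s => σ s.1) (by
    intro s t
    have h1 := (hσ s.1 s.2).mul (hσ t.1 t.2)
    have h2 := hσ (s.1 * t.1) (S.mul_mem s.2 t.2)
    have e : ((P⁻¹ * (s.1 * t.1) * P : GL (Fin 3) F) : Matrix (Fin 3) (Fin 3) F) =
        ((P⁻¹ * s.1 * P : GL (Fin 3) F) : Matrix (Fin 3) (Fin 3) F) *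
        ((P⁻¹ * t.1 * P : GL (Fin 3) F) : Matrix (Fin 3) (Fin 3) F) := by
      rw [← Units.val_mul]
      congr 1
      group
    rw [e] at h2
    exact h2.unique h1)
  have hsol : Group.IsSolvable (Equiv.Perm (Fin 3)) :=
    Cfsg.Agent.Lib.H23.isSolvable_of_card_eq_prime_pow_mul_prime_pow 2 3 1 1 Nat.prime_two
      Nat.prime_three (by rw [Nat.card_eq_fintype_card, Fintype.card_perm, Fintype.card_fin]; rfl)
  have htriv : ∀ s ∈ S, σ s = 1 := by
    intro s hs
    exact om8x_hom_trivial (om8x_commutator_top S hperf) hsol θ ⟨s, hs⟩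
  apply om8x_bot_of_comm S hperf
  intro s hs t ht
  have hs' := (hσ s hs)
  have ht' := (hσ t ht)
  rw [htriv s hs] at hs'
  rw [htriv t ht] at ht'
  have hcomm : ((P⁻¹ * s * P : GL (Fin 3) F) : Matrix (Fin 3) (Fin 3) F) *
      ((P⁻¹ * t * P : GL (Fin 3) F) : Matrix (Fin 3) (Fin 3) F) =
      ((P⁻¹ * t * P : GL (Fin 3) F) : Matrix (Fin 3) (Fin 3) F) *
      ((P⁻¹ * s * P : GL (Fin 3) F) : Matrix (Fin 3) (Fin 3) F) := by
    rw [hs'.diagonal, ht'.diagonal, Matrix.diagonal_mul_diagonal, Matrix.diagonal_mul_diagonal]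
    congr 1
    funext i
    exact mul_comm _ _
  have h3 : (P⁻¹ * s * P) * (P⁻¹ * t * P) = (P⁻¹ * t * P) * (P⁻¹ * s * P) := by
    apply Units.ext
    rw [Units.val_mul, Units.val_mul]
    exact hcomm
  have h4 : P⁻¹ * (s * t) * P = P⁻¹ * (t * s) * P := by
    calc P⁻¹ * (s * t) * P = (P⁻¹ * s * P) * (P⁻¹ * t * P) := by group
      _ = (P⁻¹ * t * P) * (P⁻¹ * s * P) := h3
      _ = P⁻¹ * (t * s) * P := by group
  exact mul_left_cancel (mul_right_cancel h4)

end Cfsg.Agent.Lib.H2.Asch
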