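/-
helper2: P2-E5 of the S5630 phase-2 farm-out (helper28, tools/blueprints/P2_sigs.lean):
over `F₂` the stabiliser of a decomposition into 2-dimensional blocks preserves a symplectic form.
-/
import Cfsg.Agent.Lib.Lead.AschDefs2
import Cfsg.Agent.Lib.H28.GLBasic

set_option autoImplicit false

namespace Cfsg.Agent.Lib.H2.AschP2

open Cfsg Cfsg.Geo Cfsg.Agent.Lib.Lead.Asch
open scoped MatrixGroups Matrix Kronecker

variable {F : Type*} [Field F] [Fintype F] {n : ℕ}

theorem eq_zero_or_one_of_card_two (hq : Fintype.card F = 2) (a : F) : a = 0 ∨ a = 1 := by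
  classical
  by_contra h
  push Not at h
  have h3 : ({0, 1, a} : Finset F).card = 3 := by
    rw [Finset.card_insert_of_notMem, Finset.card_insert_of_notMem, Finset.card_singleton]
    · simpa using h.2.symm
    · simp only [Finset.mem_insert, Finset.mem_singleton, not_or]
      exact ⟨zero_ne_one, h.1.symm⟩
  have := Finset.card_le_univ ({0, 1, a} : Finset F)
  omega

theorem two_eq_zero_of_card_two (hq : Fintype.card F = 2) : (2 : F) = 0 := by
  rcases eq_zero_or_one_of_card_two hq (1 + 1 : F) with h | h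
  · rw [← h]; norm_num
  · exfalso
    have : (1 : F) = 0 := by linear_combination h
    exact one_ne_zero this

/-- **P2-E5**. -/
theorem c2_m2_q2 {t : ℕ} (D : Fin t → Submodule F (Fin n → F)) (hD : IsMDecomposition 2 D)
    (hq : Fintype.card F = 2) :
    ∃ f : (Fin n → F) → (Fin n → F) → F, IsSymplecticForm f ∧ decompositionStabilizer D ≤ similarityGroup f := by
  classical
  have h2 : (2 : F) = 0 := two_eq_zero_of_card_two hq
  have h01 := eq_zero_or_one_of_card_two hq
  have hneg : ∀ a : F, -a = a := by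
    intro a
    linear_combination (-a) * h2
  have hint := DirectSum.isInternal_submodule_of_iSupIndep_of_iSup_eq_top hD.indep hD.iSup_eq_top
  let b : ∀ i, Module.Basis (Fin 2) F (D i) := fun i =>
    Module.finBasisOfFinrankEq F (D i) (hD.finrank_eq i)
  let B := hint.collectedBasis b
  have hBmem : ∀ (i : Fin t) (k : Fin 2), B ⟨i, k⟩ ∈ D i := fun i k =>
    hint.collectedBasis_mem b ⟨i, k⟩
  let f : (Fin n → F) → (Fin n → F) → F := fun u v =>
    ∑ i : Fin t, (B.repr u ⟨i, 0⟩ * B.repr v ⟨i, 1⟩ + B.repr u ⟨i, 1⟩ * B.repr v ⟨i, 0⟩)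
  have hfdef : ∀ u v, f u v =
    ∑ i : Fin t, (B.repr u ⟨i, 0⟩ * B.repr v ⟨i, 1⟩ + B.repr u ⟨i, 1⟩ * B.repr v ⟨i, 0⟩) := fun _ _ => rfl
  have hsymm : ∀ u v, f u v = f v u := by
    intro u v
    rw [hfdef, hfdef]
    refine Finset.sum_congr rfl fun i _ => ?_
    ring
  refine ⟨f, ⟨⟨?_, ?_, ?_, ?_⟩, ?_, ?_, ?_⟩, ?_⟩
  · intro x y v
    rw [hfdef, hfdef, hfdef, ← Finset.sum_add_distrib]
    refine Finset.sum_congr rfl fun i _ => ?_
    rw [map_add, Finsupp.add_apply, Finsupp.add_apply]
    ring
  · intro c x v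
    rw [hfdef, hfdef, Finset.mul_sum]
    refine Finset.sum_congr rfl fun i _ => ?_
    rw [map_smul, Finsupp.smul_apply, Finsupp.smul_apply, smul_eq_mul, smul_eq_mul]
    ring
  · intro v x y
    rw [hfdef, hfdef, hfdef, ← Finset.sum_add_distrib]
    refine Finset.sum_congr rfl fun i _ => ?_
    rw [map_add, Finsupp.add_apply, Finsupp.add_apply]
    ring
  · intro c v x
    rw [hfdef, hfdef, Finset.mul_sum]
    refine Finset.sum_congr rfl fun i _ => ?_
    rw [map_smul, Finsupp.smul_apply, Finsupp.smul_apply, smul_eq_mul, smul_eq_mul]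
    ring
  · intro v w
    rw [hneg, hsymm]
  · intro v
    rw [hfdef]
    refine Finset.sum_eq_zero fun i _ => ?_
    linear_combination (B.repr v ⟨i, 0⟩ * B.repr v ⟨i, 1⟩) * h2
  · -- nondegenerate
    intro v hv
    have hrepr : B.repr v ≠ 0 := fun h => hv (by simpa using h)
    obtain ⟨a, ha⟩ : ∃ a, B.repr v a ≠ 0 := by
      by_contra hcon
      push Not at hcon
      exact hrepr (Finsupp.ext hcon)
    obtain ⟨i, k⟩ := a
    have hex : ∃ x, f x v ≠ 0 := by
      have hk : k = 0 ∨ k = 1 := by
        rcases k with ⟨k, hk⟩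
        interval_cases k
        · left; rfl
        · right; rfl
      rcases hk with rfl | rfl
      · refine ⟨B ⟨i, 1⟩, ?_⟩
        rw [hfdef]
        rw [Finset.sum_eq_single i]
        · simp only [Module.Basis.repr_self]
          rw [Finsupp.single_apply, Finsupp.single_apply]
          simpa using ha
        · intro j _ hji
          simp only [Module.Basis.repr_self]
          rw [Finsupp.single_apply, Finsupp.single_apply]
          have h1 : ¬ ((⟨i, 1⟩ : (_ : Fin t) × Fin 2) = ⟨j, 0⟩) := by
            intro h; exact hji (congrArg Sigma.fst h).symm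
          have h2' : ¬ ((⟨i, 1⟩ : (_ : Fin t) × Fin 2) = ⟨j, 1⟩) := by
            intro h; exact hji (congrArg Sigma.fst h).symm
          rw [if_neg h1, if_neg h2']
          ring
        · intro h; exact absurd (Finset.mem_univ i) h
      · refine ⟨B ⟨i, 0⟩, ?_⟩
        rw [hfdef]
        rw [Finset.sum_eq_single i]
        · simp only [Module.Basis.repr_self]
          rw [Finsupp.single_apply, Finsupp.single_apply]
          simpa using ha
        · intro j _ hji
          simp only [Module.Basis.repr_self]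
          rw [Finsupp.single_apply, Finsupp.single_apply]
          have h1 : ¬ ((⟨i, 0⟩ : (_ : Fin t) × Fin 2) = ⟨j, 0⟩) := by
            intro h; exact hji (congrArg Sigma.fst h).symm
          have h2' : ¬ ((⟨i, 0⟩ : (_ : Fin t) × Fin 2) = ⟨j, 1⟩) := by
            intro h; exact hji (congrArg Sigma.fst h).symm
          rw [if_neg h1, if_neg h2']
          ring
        · intro h; exact absurd (Finset.mem_univ i) h
    obtain ⟨x, hx⟩ := hex
    exact ⟨⟨x, hx⟩, ⟨x, by rwa [hsymm]⟩⟩
  · -- invariance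
    intro g hg
    obtain ⟨σ, hσ⟩ := hg
    refine ⟨1, fun u v => ?_⟩
    rw [Units.val_one, one_mul]
    set L : (Fin n → F) →ₗ[F] (Fin n → F) := Matrix.toLin' (g : Matrix (Fin n) (Fin n) F) with hL
    have hLapp : ∀ w, (g : Matrix (Fin n) (Fin n) F) *ᵥ w = L w := fun w => by
      rw [hL, Matrix.toLin'_apply]
    have hLmem : ∀ (i : Fin t) (w : Fin n → F), w ∈ D i → L w ∈ D (σ i) := by
      intro i w hw
      rw [← hσ i]
      exact ⟨w, hw, rfl⟩
    let C : Fin t → Fin 2 → Fin 2 → F := fun i l k => B.repr (L (B ⟨i, k⟩)) ⟨σ i, l⟩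
    have key : ∀ (u : Fin n → F) (i : Fin t) (l : Fin 2),
        B.repr (L u) ⟨σ i, l⟩ = C i l 0 * B.repr u ⟨i, 0⟩ + C i l 1 * B.repr u ⟨i, 1⟩ := by
      intro u i l
      have hu : u = ∑ a, B.repr u a • B a := (B.sum_repr u).symm
      conv_lhs => rw [hu]
      rw [map_sum, map_sum, Finsupp.finsetSum_apply, Fintype.sum_sigma]
      rw [Finset.sum_eq_single i]
      · rw [Fin.sum_univ_two]
        simp only [map_smul, Finsupp.smul_apply, smul_eq_mul]
        show _ = B.repr (L (B ⟨i, 0⟩)) ⟨σ i, l⟩ * _ + B.repr (L (B ⟨i, 1⟩)) ⟨σ i, l⟩ * _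
        ring
      · intro j _ hji
        refine Finset.sum_eq_zero fun k _ => ?_
        simp only [map_smul, Finsupp.smul_apply, smul_eq_mul]
        have hne : σ j ≠ σ i := fun h => hji (σ.injective h)
        have := hint.collectedBasis_repr_of_mem_ne b (x := L (B ⟨j, k⟩)) (i := σ j) (j := σ i) (a := l)
          hne (hLmem j _ (hBmem j k))
        show _ * B.repr (L (B ⟨j, k⟩)) ⟨σ i, l⟩ = 0
        rw [this, mul_zero]
      · intro h; exact absurd (Finset.mem_univ i) h
    have hinj : ∀ w, L w = 0 → w = 0 := by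
      intro w hw
      have h1 : ((g⁻¹ : GL (Fin n) F) : Matrix (Fin n) (Fin n) F) *ᵥ ((g : Matrix (Fin n) (Fin n) F) *ᵥ w) = w := by
        rw [Matrix.mulVec_mulVec, ← Units.val_mul, inv_mul_cancel, Units.val_one, Matrix.one_mulVec]
      rw [hLapp, hw, Matrix.mulVec_zero] at h1
      exact h1.symm
    have hker : ∀ (i : Fin t) (α β : F), C i 0 0 * α + C i 0 1 * β = 0 → C i 1 0 * α + C i 1 1 * β = 0 →
        α = 0 ∧ β = 0 := by
      intro i α β e0 e1
      set w : Fin n → F := α • B ⟨i, 0⟩ + β • B ⟨i, 1⟩ with hw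
      have hwrepr : ∀ a, B.repr w a = α * (Finsupp.single (⟨i, 0⟩ : (_ : Fin t) × Fin 2) (1 : F)) a
          + β * (Finsupp.single (⟨i, 1⟩ : (_ : Fin t) × Fin 2) (1 : F)) a := by
        intro a
        rw [hw, map_add, map_smul, map_smul, Module.Basis.repr_self, Module.Basis.repr_self,
          Finsupp.add_apply, Finsupp.smul_apply, Finsupp.smul_apply, smul_eq_mul, smul_eq_mul]
      have hw0 : L w = 0 := by
        apply B.repr.injective
        rw [map_zero]
        ext a
        obtain ⟨j, l⟩ := a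
        obtain ⟨i', rfl⟩ : ∃ i', σ i' = j := ⟨σ.symm j, by simp⟩
        rw [key, hwrepr, hwrepr, Finsupp.zero_apply]
        by_cases hii : i' = i
        · subst hii
          have hl : l = 0 ∨ l = 1 := by
            rcases l with ⟨l, hl⟩
            interval_cases l
            · left; rfl
            · right; rfl
          have n01 : ¬ ((⟨i', 0⟩ : (_ : Fin t) × Fin 2) = ⟨i', 1⟩) := by
            intro h
            have := eq_of_heq (Sigma.mk.inj h).2
            exact absurd this (by decide)
          have n10 : ¬ ((⟨i', 1⟩ : (_ : Fin t) × Fin 2) = ⟨i', 0⟩) := fun h => n01 h.symm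
          rw [Finsupp.single_apply, Finsupp.single_apply, Finsupp.single_apply, Finsupp.single_apply,
            if_pos rfl, if_neg n10, if_neg n01, if_pos rfl]
          rcases hl with rfl | rfl
          · linear_combination e0
          · linear_combination e1
        · have m0 : ∀ k k' : Fin 2, ¬ ((⟨i, k⟩ : (_ : Fin t) × Fin 2) = ⟨i', k'⟩) := by
            intro k k' h
            exact hii (congrArg Sigma.fst h).symm
          rw [Finsupp.single_apply, Finsupp.single_apply, Finsupp.single_apply, Finsupp.single_apply,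
            if_neg (m0 0 0), if_neg (m0 1 0), if_neg (m0 0 1), if_neg (m0 1 1)]
          ring
      have hwz := hinj w hw0
      have n01 : ¬ ((⟨i, 0⟩ : (_ : Fin t) × Fin 2) = ⟨i, 1⟩) := by
        intro h
        have := eq_of_heq (Sigma.mk.inj h).2
        exact absurd this (by decide)
      have n10 : ¬ ((⟨i, 1⟩ : (_ : Fin t) × Fin 2) = ⟨i, 0⟩) := fun h => n01 h.symm
      have ha := hwrepr ⟨i, 0⟩
      have hb := hwrepr ⟨i, 1⟩
      rw [hwz, map_zero, Finsupp.zero_apply, Finsupp.single_apply, Finsupp.single_apply,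
        if_pos rfl, if_neg n10] at ha
      rw [hwz, map_zero, Finsupp.zero_apply, Finsupp.single_apply, Finsupp.single_apply,
        if_neg n01, if_pos rfl] at hb
      constructor
      · linear_combination -ha
      · linear_combination -hb
    have hdet : ∀ i, C i 0 0 * C i 1 1 + C i 0 1 * C i 1 0 = 1 := by
      intro i
      rcases h01 (C i 0 0 * C i 1 1 + C i 0 1 * C i 1 0) with hd | hd
      swap
      · exact hd
      exfalso
      -- kernel vectors
      have k1 := hker i (C i 1 1) (C i 1 0) (by linear_combination hd)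
        (by linear_combination (C i 1 0 * C i 1 1) * h2)
      have k2 := hker i (C i 0 1) (C i 0 0) (by linear_combination (C i 0 0 * C i 0 1) * h2)
        (by linear_combination hd)
      have k3 := hker i 1 0 (by rw [k2.2]; ring) (by rw [k1.2]; ring)
      exact one_ne_zero k3.1
    -- the sum
    rw [hfdef, hfdef, ← Equiv.sum_comp σ]
    refine Finset.sum_congr rfl fun i _ => ?_
    rw [hLapp, hLapp, key u i 0, key u i 1, key v i 0, key v i 1]
    linear_combination (B.repr u ⟨i, 0⟩ * B.repr v ⟨i, 1⟩ + B.repr u ⟨i, 1⟩ * B.repr v ⟨i, 0⟩) * hdet i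
      + (C i 0 0 * C i 1 0 * B.repr u ⟨i, 0⟩ * B.repr v ⟨i, 0⟩
        + C i 0 1 * C i 1 1 * B.repr u ⟨i, 1⟩ * B.repr v ⟨i, 1⟩) * h2

end Cfsg.Agent.Lib.H2.AschP2
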