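import Mathlib
import Cfsg.Prelude.Def_Transfer
import Cfsg.Prelude.Def_Local
import Cfsg.Prelude.Def_LocalEven
import Cfsg.Prelude.Def_PLocal
import Cfsg.Agent.Lib.H10.PSolvable2
import Cfsg.Agent.Lib.H4.PSolvSub

/-!
# S4411 piece HALL (helper2): Hall `{p, q}`-subgroups of `p`-solvable groups containing a given Sylow `p`-subgroup.
-/

set_option autoImplicit false

namespace Cfsg.Agent.Lib.H2.AutQ

open Cfsg
open scoped Pointwise

universe u

theorem hq_fac_mul_of_not_dvd (r m d : ℕ) (hm : m ≠ 0) (hd : d ≠ 0) (h : ¬ r ∣ d) :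
    (m * d).factorization r = m.factorization r := by
  rw [Nat.factorization_mul hm hd, Finsupp.add_apply, Nat.factorization_eq_zero_of_not_dvd h, add_zero]

theorem hq_card_comap {X : Type*} [Group X] (M : Subgroup X) [M.Normal] (Y : Subgroup (X ⧸ M)) :
    Nat.card (Y.comap (QuotientGroup.mk' M)) = Nat.card M * Nat.card Y :=
  QuotientGroup.card_preimage_mk M (Y : Set (X ⧸ M))

theorem hq_card_inf_subgroupOf {X : Type*} [Group X] (A B : Subgroup X) :
    Nat.card (A.subgroupOf B) = Nat.card (A ⊓ B : Subgroup X) := by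
  rw [← Subgroup.inf_subgroupOf_right A B]
  exact Nat.card_congr (Subgroup.subgroupOfEquivOfLe (inf_le_right : A ⊓ B ≤ B)).toEquiv

/-- if `L ⊔ M = ⊤` with `M` normal then `|X : L| = |M : L ⊓ M|`. -/
theorem hq_index_eq_relIndex {X : Type*} [Group X] [Finite X] (L M : Subgroup X) [M.Normal]
    (h : L ⊔ M = ⊤) : L.index = L.relIndex M := by
  have h1 : M.index = M.relIndex L := by
    rw [← Subgroup.relIndex_sup_right L M, h, Subgroup.relIndex_top_right]
  have e1 : Nat.card L * L.index = Nat.card X := Subgroup.card_mul_index L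
  have e2 : Nat.card M * M.index = Nat.card X := Subgroup.card_mul_index M
  have e3 : Nat.card (M.subgroupOf L) * M.relIndex L = Nat.card L :=
    Subgroup.card_mul_index (M.subgroupOf L)
  have e4 : Nat.card (L.subgroupOf M) * L.relIndex M = Nat.card M :=
    Subgroup.card_mul_index (L.subgroupOf M)
  have e5 : Nat.card (M.subgroupOf L) = Nat.card (L.subgroupOf M) := by
    rw [hq_card_inf_subgroupOf, hq_card_inf_subgroupOf, inf_comm]
  have hpos : 0 < Nat.card L := Nat.card_pos
  have hpos2 : 0 < Nat.card (L.subgroupOf M) := Nat.card_pos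
  have key : Nat.card L * L.index = Nat.card L * L.relIndex M := by
    rw [e1, ← e2, h1, ← e4, ← e3, e5]
    ring
  exact Nat.eq_of_mul_eq_mul_left hpos key

section main

variable {p : ℕ} [hp : Fact p.Prime] (q : ℕ) [hq : Fact q.Prime]

/-- the target order. -/
def hqOrd (p q n : ℕ) : ℕ := p ^ n.factorization p * q ^ n.factorization q

omit hp hq in
theorem hq_ord_mul (m k : ℕ) (hm : m ≠ 0) (hk : k ≠ 0) :
    hqOrd p q (m * k) = hqOrd p q m * hqOrd p q k := by
  unfold hqOrd
  rw [Nat.factorization_mul hm hk, Finsupp.add_apply, Finsupp.add_apply, pow_add, pow_add]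
  ring

omit hp hq in
theorem hq_ord_of_not_dvd (m d : ℕ) (hm : m ≠ 0) (hd : d ≠ 0) (h1 : ¬ p ∣ d) (h2 : ¬ q ∣ d) :
    hqOrd p q (m * d) = hqOrd p q m := by
  unfold hqOrd
  rw [hq_fac_mul_of_not_dvd p m d hm hd h1, hq_fac_mul_of_not_dvd q m d hm hd h2]

omit hp hq in
theorem hq_ord_of_not_dvd' (m d : ℕ) (hm : m ≠ 0) (hd : d ≠ 0) (h1 : ¬ p ∣ d) (h2 : ¬ q ∣ d) :
    hqOrd p q (d * m) = hqOrd p q m := by
  rw [mul_comm]; exact hq_ord_of_not_dvd q m d hm hd h1 h2

theorem hq_ord_self (hpq : p ≠ q) (i j : ℕ) : hqOrd p q (p ^ i * q ^ j) = p ^ i * q ^ j := by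
  unfold hqOrd
  have hp' := hp.out
  have hq' := hq.out
  rw [Nat.factorization_mul (pow_ne_zero _ hp'.ne_zero) (pow_ne_zero _ hq'.ne_zero),
    Finsupp.add_apply, Finsupp.add_apply, hp'.factorization_pow, hq'.factorization_pow,
    Finsupp.single_eq_same, Finsupp.single_eq_same, Finsupp.single_eq_of_ne, Finsupp.single_eq_of_ne]
  · simp
  · exact fun h => hpq h.symm
  · exact hpq

omit hp hq in
/-- quotient step: a nontrivial normal `{p,q}`-subgroup. -/
theorem hq_step_quot {X : Type u} [Group X] [Finite X] (M : Subgroup X) [M.Normal]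
    (hMc : Nat.card M = hqOrd p q (Nat.card M))
    (ih : ∃ Y : Subgroup (X ⧸ M), Nat.card Y = hqOrd p q (Nat.card (X ⧸ M))) :
    ∃ Y : Subgroup X, Nat.card Y = hqOrd p q (Nat.card X) := by
  obtain ⟨Y, hY⟩ := ih
  refine ⟨Y.comap (QuotientGroup.mk' M), ?_⟩
  rw [hq_card_comap, hY, Subgroup.card_eq_card_quotient_mul_card_subgroup M,
    hq_ord_mul q _ _ Nat.card_pos.ne' Nat.card_pos.ne', ← hMc, mul_comm]

omit hp hq in
/-- subgroup step: a subgroup of index prime to `p` and `q`. -/
theorem hq_step_sub {X : Type u} [Group X] [Finite X] (L : Subgroup X)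
    (h1 : ¬ p ∣ L.index) (h2 : ¬ q ∣ L.index)
    (ih : ∃ Y : Subgroup L, Nat.card Y = hqOrd p q (Nat.card L)) :
    ∃ Y : Subgroup X, Nat.card Y = hqOrd p q (Nat.card X) := by
  obtain ⟨Y, hY⟩ := ih
  refine ⟨Y.map L.subtype, ?_⟩
  rw [Subgroup.card_map_of_injective L.subtype_injective, hY, ← Subgroup.card_mul_index L,
    hq_ord_of_not_dvd q _ _ Nat.card_pos.ne' (Subgroup.index_ne_zero_of_finite) h1 h2]

theorem hq_lt_of_ne_bot {X : Type u} [Group X] [Finite X] (M : Subgroup X) [M.Normal] (hM : M ≠ ⊥) :
    Nat.card (X ⧸ M) < Nat.card X := by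
  rw [Subgroup.card_eq_card_quotient_mul_card_subgroup M]
  have h1 : 1 < Nat.card M := by
    rw [Subgroup.one_lt_card_iff_ne_bot]
    exact hM
  have h2 : 0 < Nat.card (X ⧸ M) := Nat.card_pos
  nlinarith

theorem hq_lt_of_ne_top {X : Type u} [Group X] [Finite X] (L : Subgroup X) (hL : L ≠ ⊤) :
    Nat.card L < Nat.card X := by
  rw [← Subgroup.card_mul_index L]
  have h1 : 1 < L.index := by
    have h0 : L.index ≠ 0 := Subgroup.index_ne_zero_of_finite
    have h1 : L.index ≠ 1 := fun h => hL (Subgroup.index_eq_one.1 h)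
    omega
  have h2 : 0 < Nat.card L := Nat.card_pos
  nlinarith

theorem hq_aux (hpq : p ≠ q) : ∀ n : ℕ, ∀ (X : Type u) [Group X] [Finite X], Nat.card X = n →
    Cfsg.IsPSolvable p X → ∃ Y : Subgroup X, Nat.card Y = hqOrd p q (Nat.card X) := by
  intro n
  induction n using Nat.strong_induction_on with
  | _ n ih =>
  intro X _ _ hn hs
  have hp' := hp.out
  have hq' := hq.out
  by_cases htriv : Subsingleton X
  · refine ⟨⊥, ?_⟩
    have h1 : Nat.card X = 1 := Nat.card_eq_one_iff_unique.2 ⟨htriv, ⟨1⟩⟩
    rw [h1, Subgroup.card_bot]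
    simp [hqOrd]
  have hnt : Nontrivial X := not_subsingleton_iff_nontrivial.1 htriv
  obtain ⟨M, hMn, hMne, hM⟩ := Cfsg.Agent.Lib.H10.exists_normal_of_isPSolvable hs
  have ihQ : ∀ (K : Subgroup X) [K.Normal], K ≠ ⊥ →
      ∃ Y : Subgroup (X ⧸ K), Nat.card Y = hqOrd p q (Nat.card (X ⧸ K)) := by
    intro K _ hK
    exact ih _ (by rw [← hn]; exact hq_lt_of_ne_bot K hK) (X ⧸ K) rfl
      (Cfsg.Agent.Lib.H10.isPSolvable_quotient hs K)
  have ihS : ∀ (L : Subgroup X), L ≠ ⊤ →
      ∃ Y : Subgroup L, Nat.card Y = hqOrd p q (Nat.card L) := by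
    intro L hL
    exact ih _ (by rw [← hn]; exact hq_lt_of_ne_top L hL) L rfl
      (Cfsg.Agent.Lib.H4.PSolvSub.isPSolvable_subgroup hs L)
  rcases hM with hMp | hMp'
  · -- `M` is a `p`-group
    obtain ⟨k, hk⟩ := (IsPGroup.iff_card (p := p)).1 hMp
    refine hq_step_quot q M ?_ (ihQ M hMne)
    rw [hk]
    have := hq_ord_self (p := p) q hpq k 0
    rw [pow_zero, mul_one] at this
    exact this.symm
  · -- `M` is a `p'`-group
    have hpM : ¬ p ∣ Nat.card M := fun h => by
      have := Nat.Coprime.eq_one_of_dvd hMp'.symm h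
      exact hp'.one_lt.ne' this
    by_cases hqM : q ∣ Nat.card M
    · -- Frattini on a Sylow `q`-subgroup of `M`
      obtain ⟨P⟩ : Nonempty (Sylow q M) := inferInstance
      set Mq : Subgroup X := (P : Subgroup M).map M.subtype with hMq
      have hfr : Subgroup.normalizer (Mq : Set X) ⊔ M = ⊤ := Sylow.normalizer_sup_eq_top P
      have hMqc : Nat.card Mq = q ^ (Nat.card M).factorization q := by
        rw [hMq, Subgroup.card_map_of_injective M.subtype_injective]
        exact P.card_eq_multiplicity
      have hMqne : Mq ≠ ⊥ := by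
        intro hbot
        rw [hbot, Subgroup.card_bot] at hMqc
        have hpos : 0 < (Nat.card M).factorization q :=
          hq'.factorization_pos_of_dvd Nat.card_pos.ne' hqM
        have : 1 < q ^ (Nat.card M).factorization q := Nat.one_lt_pow hpos.ne' hq'.one_lt
        omega
      by_cases hL : Subgroup.normalizer (Mq : Set X) = ⊤
      · have hMqn : Mq.Normal := Subgroup.normalizer_eq_top_iff.1 hL
        refine hq_step_quot q Mq ?_ (ihQ Mq hMqne)
        rw [hMqc]
        have := hq_ord_self (p := p) q hpq 0 ((Nat.card M).factorization q)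
        rw [pow_zero, one_mul] at this
        exact this.symm
      · set L := Subgroup.normalizer (Mq : Set X) with hLdef
        have hidx : L.index = L.relIndex M := hq_index_eq_relIndex L M hfr
        have hsub : L.subgroupOf M = Subgroup.normalizer ((P : Subgroup M) : Set M) := by
          have hle : Mq ≤ M := by
            rw [hMq]
            exact Subgroup.map_subtype_le _
          rw [hLdef, Subgroup.subgroupOf_normalizer_eq hle]
          congr 2
          rw [hMq]
          exact Subgroup.comap_map_eq_self_of_injective M.subtype_injective _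
        have hidx2 : L.index = Nat.card (Sylow q M) := by
          rw [hidx, Subgroup.relIndex, hsub]
          exact (Sylow.card_eq_index_normalizer P).symm
        have hd : L.index ∣ Nat.card M := by
          rw [hidx]; exact Subgroup.relIndex_dvd_card L M
        have h1 : ¬ p ∣ L.index := fun h => hpM (h.trans hd)
        have h2 : ¬ q ∣ L.index := by
          intro h
          have hmod : Nat.card (Sylow q M) ≡ 1 [MOD q] := card_sylow_modEq_one q M
          rw [← hidx2] at hmod
          have h0 : L.index ≡ 0 [MOD q] := (Nat.modEq_zero_iff_dvd).2 h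
          have := h0.symm.trans hmod
          have h3 : q ∣ 1 := by
            have := (Nat.modEq_iff_dvd' (Nat.zero_le 1)).1 this
            simpa using this
          exact hq'.one_lt.ne' (Nat.dvd_one.1 h3)
        exact hq_step_sub q L h1 h2 (ihS L hL)
    · -- `M` is a `{p,q}'`-group
      obtain ⟨Y, hY⟩ := ihQ M hMne
      set Y₀ : Subgroup X := Y.comap (QuotientGroup.mk' M) with hY₀
      have hcX : Nat.card X = Nat.card (X ⧸ M) * Nat.card M :=
        Subgroup.card_eq_card_quotient_mul_card_subgroup M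
      have hordQ : hqOrd p q (Nat.card (X ⧸ M)) = hqOrd p q (Nat.card X) := by
        rw [hcX, hq_ord_of_not_dvd q _ _ Nat.card_pos.ne' Nat.card_pos.ne' hpM hqM]
      have hcY₀ : Nat.card Y₀ = Nat.card M * hqOrd p q (Nat.card X) := by
        rw [hY₀, hq_card_comap, hY, hordQ]
      by_cases hTop : Y₀ = ⊤
      · -- Schur–Zassenhaus
        have hcard : Nat.card X = Nat.card M * hqOrd p q (Nat.card X) := by
          rw [← hcY₀, hTop, Subgroup.card_top]
        have hindex : M.index = hqOrd p q (Nat.card X) := by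
          have h1 : Nat.card M * M.index = Nat.card M * hqOrd p q (Nat.card X) :=
            (Subgroup.card_mul_index M).trans hcard
          exact Nat.eq_of_mul_eq_mul_left Nat.card_pos h1
        have hcop : Nat.Coprime (Nat.card M) M.index := by
          rw [hindex]
          unfold hqOrd
          apply Nat.Coprime.mul_right
          · exact Nat.Coprime.pow_right _ ((Nat.Prime.coprime_iff_not_dvd hp').2 hpM).symm
          · exact Nat.Coprime.pow_right _ ((Nat.Prime.coprime_iff_not_dvd hq').2 hqM).symm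
        obtain ⟨H, hH⟩ := Subgroup.exists_right_complement'_of_coprime hcop
        refine ⟨H, ?_⟩
        have h1 : Nat.card M * Nat.card H = Nat.card M * hqOrd p q (Nat.card X) :=
          hH.card_mul_card.trans hcard
        exact Nat.eq_of_mul_eq_mul_left Nat.card_pos h1
      · have hle : M ≤ Y₀ := by
          intro x hx
          rw [hY₀, Subgroup.mem_comap, QuotientGroup.mk'_apply, (QuotientGroup.eq_one_iff x).2 hx]
          exact one_mem _
        have hidx : Y₀.index * Nat.card Y₀ = Nat.card X := by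
          rw [mul_comm]; exact Subgroup.card_mul_index Y₀
        -- the index of `Y₀` is prime to `p` and `q`
        have hY0idx : Y₀.index = Y.index := by
          rw [hY₀]
          exact Subgroup.index_comap_of_surjective Y (QuotientGroup.mk'_surjective M)
        have hYi : Nat.card Y * Y.index = Nat.card (X ⧸ M) := Subgroup.card_mul_index Y
        have hnp : ∀ r : ℕ, r.Prime → (r = p ∨ r = q) → ¬ r ∣ Y.index := by
          intro r hr hrpq hdvd
          -- `v_r (card (X/M)) = v_r (card Y) + v_r (index)`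
          have hfac : (Nat.card (X ⧸ M)).factorization r =
              (Nat.card Y).factorization r + (Y.index).factorization r := by
            rw [← hYi, Nat.factorization_mul Nat.card_pos.ne' Subgroup.index_ne_zero_of_finite,
              Finsupp.add_apply]
          have hpos : 0 < (Y.index).factorization r :=
            hr.factorization_pos_of_dvd Subgroup.index_ne_zero_of_finite hdvd
          have hYr : (Nat.card Y).factorization r = (Nat.card (X ⧸ M)).factorization r := by
            rw [hY]
            unfold hqOrd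
            rw [Nat.factorization_mul (pow_ne_zero _ hp'.ne_zero) (pow_ne_zero _ hq'.ne_zero),
              Finsupp.add_apply, hp'.factorization_pow, hq'.factorization_pow]
            rcases hrpq with rfl | rfl
            · rw [Finsupp.single_eq_same, Finsupp.single_eq_of_ne hpq, add_zero]
            · rw [Finsupp.single_eq_same, Finsupp.single_eq_of_ne (fun h => hpq h.symm), zero_add]
          omega
        have h1 : ¬ p ∣ Y₀.index := by rw [hY0idx]; exact hnp p hp' (Or.inl rfl)
        have h2 : ¬ q ∣ Y₀.index := by rw [hY0idx]; exact hnp q hq' (Or.inr rfl)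
        exact hq_step_sub q Y₀ h1 h2 (ihS Y₀ hTop)

end main

/-- **HALL**. -/
theorem exists_hall_pq {X : Type*} [Group X] [Finite X] {p : ℕ} [Fact p.Prime] (q : ℕ) [Fact q.Prime]
    (hpq : p ≠ q) (hs : Cfsg.IsPSolvable p X) (P : Sylow p X) :
    ∃ Y : Subgroup X, (P : Subgroup X) ≤ Y ∧
      Nat.card Y = p ^ (Nat.card X).factorization p * q ^ (Nat.card X).factorization q := by
  obtain ⟨Y, hY⟩ := hq_aux q hpq (Nat.card X) X rfl hs
  -- a Sylow `p`-subgroup of `Y` is Sylow in `X`
  obtain ⟨Q⟩ : Nonempty (Sylow p Y) := inferInstance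
  have hQc : Nat.card ((Q : Subgroup Y).map Y.subtype) = p ^ (Nat.card X).factorization p := by
    rw [Subgroup.card_map_of_injective Y.subtype_injective, Q.card_eq_multiplicity, hY]
    congr 1
    have hp' : p.Prime := Fact.out
    have hq' : q.Prime := Fact.out
    unfold hqOrd
    rw [Nat.factorization_mul (pow_ne_zero _ hp'.ne_zero) (pow_ne_zero _ hq'.ne_zero),
      Finsupp.add_apply, hp'.factorization_pow, hq'.factorization_pow, Finsupp.single_eq_same,
      Finsupp.single_eq_of_ne hpq, add_zero]
  set Q' : Sylow p X := Sylow.ofCard _ hQc with hQ'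
  obtain ⟨g, hg⟩ := MulAction.exists_smul_eq X Q' P
  refine ⟨MulAut.conj g • Y, ?_, ?_⟩
  · rw [← hg, Sylow.coe_subgroup_smul]
    rw [Subgroup.pointwise_smul_le_pointwise_smul_iff, hQ', Sylow.coe_ofCard]
    exact Subgroup.map_subtype_le _
  · rw [← Nat.card_congr (Subgroup.equivSMul (MulAut.conj g) Y).toEquiv, hY]
    rfl

end Cfsg.Agent.Lib.H2.AutQ
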