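import Mathlib
import Cfsg.Prelude.Def_Blocks
import Cfsg.Prelude.Def_BlockLocal
import Cfsg.Agent.Lib.H23.BlockFongIndex

/-!
# S4640, piece (COVER) (helper2)

`N` normal of `p`-power index in `G`, `b` a `G`-stable block of `N`, `B` a block of `G` covering
`b`.  Then `B = overSet N b` (every member of `B` lies over `b`, and every irreducible character of
`G` over a member of `b` lies in `B`), the idempotent coefficients of `B` are those of `b`, and
for every defect group `P` of `B`: `G = N P` and `P ∩ N` is a defect group of `b`.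
All of it is a repackaging of helper23's `BlockFongIndex` (S4672).
-/

set_option autoImplicit false

namespace Cfsg.Agent.Lib.H2.BK

open Cfsg Cfsg.Agent.Lib.H23 Cfsg.Agent.Lib.H24 Cfsg.Agent.Lib.L0

variable {G : Type*} [Group G] [Fintype G] (N : Subgroup G) [hN : N.Normal] [Fintype N]
  {p : ℕ} {M : Ideal AlgInt}

/-- (COV1) the covering block of a stable block of a normal subgroup of `p`-power index is exactly
the set of irreducible characters over it. -/
theorem cover_eq_overSet [Fact p.Prime] (hM : IsPModular p M)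
    (hNi : ∃ k : ℕ, N.index = p ^ k) (b : Set (IrrCharacter N)) (hb : IsPBlock M b)
    (hstab : ∀ g : G, StabilizesBlock N b g) (B : Set (IrrCharacter G)) (hB : IsPBlock M B)
    (hcov : ∃ χ ∈ B, ∃ θ ∈ b, classInner (fun n : N => (χ : G → ℂ) n) (θ : N → ℂ) ≠ 0) :
    B = overSet N b := by
  have hPr : M.IsPrime := isPrime_of_isPModular hM
  obtain ⟨θ₀, rfl⟩ := hb
  obtain ⟨χ₁, rfl⟩ := hB
  have hinv := conjIrr_mem_of_stabilizesBlock N _ hstab
  obtain ⟨χ, hχ, θ, hθ, hne⟩ := hcov
  have hover : χ ∈ overSet N (blockOf M (θ₀ : N → ℂ)) := ⟨θ, hθ, hne⟩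
  have hOB := overSet_eq_blockOf_of_index_pow N hM hNi θ₀ hinv χ hover
  rw [hOB, blockOf_eq_of_mem hχ]

/-- (COV1a) every member of `B` has a member of `b` as a constituent of its restriction. -/
theorem cover_over [Fact p.Prime] (hM : IsPModular p M)
    (hNi : ∃ k : ℕ, N.index = p ^ k) (b : Set (IrrCharacter N)) (hb : IsPBlock M b)
    (hstab : ∀ g : G, StabilizesBlock N b g) (B : Set (IrrCharacter G)) (hB : IsPBlock M B)
    (hcov : ∃ χ ∈ B, ∃ θ ∈ b, classInner (fun n : N => (χ : G → ℂ) n) (θ : N → ℂ) ≠ 0)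
    (χ : IrrCharacter G) (hχ : χ ∈ B) :
    ∃ θ ∈ b, classInner (fun n : N => (χ : G → ℂ) n) (θ : N → ℂ) ≠ 0 := by
  rw [cover_eq_overSet N hM hNi b hb hstab B hB hcov] at hχ
  exact hχ

/-- (COV1b) every irreducible character of `G` with a member of `b` as a constituent of its
restriction lies in `B`. -/
theorem mem_cover_of_over [Fact p.Prime] (hM : IsPModular p M)
    (hNi : ∃ k : ℕ, N.index = p ^ k) (b : Set (IrrCharacter N)) (hb : IsPBlock M b)
    (hstab : ∀ g : G, StabilizesBlock N b g) (B : Set (IrrCharacter G)) (hB : IsPBlock M B)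
    (hcov : ∃ χ ∈ B, ∃ θ ∈ b, classInner (fun n : N => (χ : G → ℂ) n) (θ : N → ℂ) ≠ 0)
    (ψ : IrrCharacter G) (θ : IrrCharacter N) (hθ : θ ∈ b)
    (hne : classInner (fun n : N => (ψ : G → ℂ) n) (θ : N → ℂ) ≠ 0) : ψ ∈ B := by
  rw [cover_eq_overSet N hM hNi b hb hstab B hB hcov]
  exact ⟨θ, hθ, hne⟩

/-- (COV0) the idempotent coefficients of `B` are those of `b` (zero off `N`). -/
theorem cover_blockCoeff [Fact p.Prime] (hM : IsPModular p M)
    (hNi : ∃ k : ℕ, N.index = p ^ k) (b : Set (IrrCharacter N)) (hb : IsPBlock M b)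
    (hstab : ∀ g : G, StabilizesBlock N b g) (B : Set (IrrCharacter G)) (hB : IsPBlock M B)
    (hcov : ∃ χ ∈ B, ∃ θ ∈ b, classInner (fun n : N => (χ : G → ℂ) n) (θ : N → ℂ) ≠ 0)
    (g : G) : blockCoeff B g = subgroupBlockCoeff N b g := by
  rw [cover_eq_overSet N hM hNi b hb hstab B hB hcov]
  exact blockCoeff_overSet_eq N b (conjIrr_mem_of_stabilizesBlock N b hstab) g

/-- (COV2)+(COV3) `G = N P` and `P ∩ N` is a defect group of `b`, for every defect group `P`
of `B`. -/
theorem cover_defect [Fact p.Prime] (hM : IsPModular p M)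
    (hNi : ∃ k : ℕ, N.index = p ^ k) (b : Set (IrrCharacter N)) (hb : IsPBlock M b)
    (hstab : ∀ g : G, StabilizesBlock N b g) (B : Set (IrrCharacter G)) (hB : IsPBlock M B)
    (hcov : ∃ χ ∈ B, ∃ θ ∈ b, classInner (fun n : N => (χ : G → ℂ) n) (θ : N → ℂ) ≠ 0)
    (P : Subgroup G) (hPD : IsDefectGroup p M B P) :
    N ⊔ P = ⊤ ∧ IsDefectGroup p M b ((P ⊓ N).subgroupOf N) :=
  (invariant_block_index_pow N hM hNi b hb hstab).2 B hB
    (cover_blockCoeff N hM hNi b hb hstab B hB hcov) P hPD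

end Cfsg.Agent.Lib.H2.BK
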