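import Cfsg.Agent.S0907
import Cfsg.Agent.Lib.L0.PRegCongP
import Cfsg.Agent.Lib.H23.BurnsidePQ
import Cfsg.Agent.Lib.H23.BlockOsima
import Cfsg.Agent.Lib.H24.CharBasic

/-!
# S4484, piece (A1) (helper2): a non-principal character of `q'`-degree in the principal `p`-block

Weak block orthogonality (S0907) at `(1, x)` for a `p`-singular `x`:
`1 + ∑_{χ ∈ B₀, χ ≠ 1} χ(1) conj χ(x) = 0`; if `q` divided all the degrees then `-1/q` would be an
algebraic integer.
-/

set_option autoImplicit false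
open Cfsg
open scoped ComplexConjugate

namespace Cfsg.Agent.Lib.H2.BR6

/-- The conjugate of an algebraic integer is an algebraic integer. -/
theorem isIntegral_conj' {z : ℂ} (hz : IsIntegral ℤ z) : IsIntegral ℤ (conj z) := by
  have := hz.map (Complex.conjAe.toAlgHom.restrictScalars ℤ)
  simpa using this

/-- the trivial character lies in the principal block -/
theorem trivialIrr_mem_principalBlock {G : Type*} [Group G] {p : ℕ} (M : Ideal Cfsg.AlgInt)
    (hM : Cfsg.IsPModular p M) :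
    Cfsg.Agent.Lib.H24.trivialIrr G ∈ Cfsg.principalBlock M G := by
  intro x
  refine ⟨0, 1, M.zero_mem, ?_, ?_⟩
  · intro h1
    exact hM.2.1.ne_top ((Ideal.eq_top_iff_one M).2 h1)
  · have hc : ((Cfsg.Agent.Lib.H24.trivialIrr G : Cfsg.IrrCharacter G) : G → ℂ) =
        fun _ => (1 : ℂ) := rfl
    rw [hc, sub_self]
    simp

/-- **(A1)** if `p` divides the order of some element of `G`, the principal `p`-block contains a
non-principal irreducible character of degree prime to `q`. -/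
theorem exists_nonprincipal_coprime_degree {G : Type*} [Group G] [Finite G] (p q : ℕ)
    (hp : p.Prime) (hq : q.Prime) (M : Ideal Cfsg.AlgInt) (hM : Cfsg.IsPModular p M)
    (x : G) (hx : p ∣ orderOf x) :
    ∃ χ : Cfsg.IrrCharacter G, χ ∈ Cfsg.principalBlock M G ∧
      χ ≠ Cfsg.Agent.Lib.H24.trivialIrr G ∧
      ∃ d : ℕ, (χ : G → ℂ) 1 = (d : ℂ) ∧ ¬ q ∣ d := by
  classical
  have := Fintype.ofFinite G
  have := Fintype.ofFinite (Cfsg.IrrCharacter G)
  have : Fact p.Prime := ⟨hp⟩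
  set T : Cfsg.IrrCharacter G := Cfsg.Agent.Lib.H24.trivialIrr G with hT
  by_contra hcon
  have hall : ∀ χ : Cfsg.IrrCharacter G, χ ∈ Cfsg.principalBlock M G → χ ≠ T →
      ∀ d : ℕ, (χ : G → ℂ) 1 = (d : ℂ) → q ∣ d := by
    intro χ hχB hχT d hd
    by_contra hqd
    exact hcon ⟨χ, hχB, hχT, d, hd, hqd⟩
  have hB : Cfsg.IsPBlock M (Cfsg.principalBlock M G) := ⟨T, rfl⟩
  have h1p : ¬ p ∣ orderOf (1 : G) := by
    rw [orderOf_one, Nat.dvd_one]
    exact hp.one_lt.ne'
  have h0 := Cfsg.Agent.S0907.result p M hM _ hB (1 : G) x h1p hx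
  rw [Cfsg.Agent.Lib.H23.finsum_mem_eq_sum_ite] at h0
  have hTmem : T ∈ Cfsg.principalBlock M G := trivialIrr_mem_principalBlock M hM
  -- every term is `[χ = T] + q * (algebraic integer)`
  have hterm : ∀ χ : Cfsg.IrrCharacter G, ∃ t : ℂ, IsIntegral ℤ t ∧
      (if χ ∈ Cfsg.principalBlock M G then (χ : G → ℂ) 1 * conj ((χ : G → ℂ) x) else 0) =
        (if χ = T then 1 else 0) + (q : ℂ) * t := by
    intro χ
    by_cases hχT : χ = T
    · refine ⟨0, isIntegral_zero, ?_⟩
      rw [if_pos hχT, hχT, if_pos hTmem]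
      simp [hT]
    · rw [if_neg hχT]
      by_cases hχB : χ ∈ Cfsg.principalBlock M G
      · rw [if_pos hχB]
        obtain ⟨d, hdpos, hd1, hddvd⟩ :=
          Cfsg.Agent.Lib.H23.irr_apply_one_dvd_card (χ : G → ℂ) χ.2
        obtain ⟨m, hm⟩ := hall χ hχB hχT d hd1
        refine ⟨(m : ℂ) * conj ((χ : G → ℂ) x), ?_, ?_⟩
        · have hint : IsIntegral ℤ ((χ : G → ℂ) x) := by
            obtain ⟨n, ρ, hirr, hρ⟩ := χ.2
            rw [← hρ]
            exact Cfsg.Agent.Lib.L0.isIntegral_char ρ x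
          have hm' : IsIntegral ℤ (m : ℂ) := by
            have := isIntegral_algebraMap (R := ℤ) (A := ℂ) (x := (m : ℤ))
            simpa using this
          exact hm'.mul (isIntegral_conj' hint)
        · rw [hd1, hm]
          push_cast
          ring
      · rw [if_neg hχB]
        exact ⟨0, isIntegral_zero, by simp⟩
  choose t ht1 ht2 using hterm
  have hsum : (∑ χ : Cfsg.IrrCharacter G, ((if χ = T then (1 : ℂ) else 0) + (q : ℂ) * t χ)) = 0 := by
    have h7 : (∑ χ : Cfsg.IrrCharacter G, ((if χ = T then (1 : ℂ) else 0) + (q : ℂ) * t χ)) =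
        ∑ i : Cfsg.IrrCharacter G, (if i ∈ Cfsg.principalBlock M G then
          (i : G → ℂ) 1 * conj ((i : G → ℂ) x) else 0) :=
      Finset.sum_congr rfl (fun χ _ => (ht2 χ).symm)
    rw [h7]
    exact h0
  rw [Finset.sum_add_distrib, Finset.sum_ite_eq' Finset.univ T, if_pos (Finset.mem_univ T),
    ← Finset.mul_sum] at hsum
  have hq0 : (q : ℂ) ≠ 0 := Nat.cast_ne_zero.2 hq.ne_zero
  have hS : (∑ χ : Cfsg.IrrCharacter G, t χ) = (0 - 1 : ℂ) / (q : ℂ) := by
    rw [eq_div_iff hq0]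
    linear_combination hsum
  have hSint : IsIntegral ℤ (∑ χ : Cfsg.IrrCharacter G, t χ) :=
    IsIntegral.sum _ (fun χ _ => ht1 χ)
  rw [hS] at hSint
  exact Cfsg.Agent.Lib.H23.not_isIntegral_neg_one_div_prime hq hSint

end Cfsg.Agent.Lib.H2.BR6
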