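import Mathlib
import Cfsg.Agent.Lib.H2.Pairs
import Cfsg.Agent.S0237
import Cfsg.Agent.S0238

set_option autoImplicit false

namespace Cfsg.Agent.Lib.H2

variable {G : Type*} [Group G]

/-- number of ordered pairs of involutions with product `x` -/
noncomputable def pairsCount (x : G) : ℕ :=
  Nat.card {p : G × G // orderOf p.1 = 2 ∧ orderOf p.2 = 2 ∧ p.1 * p.2 = x}

/-- number of involutions -/
noncomputable def invCount (G : Type*) [Group G] : ℕ := Nat.card {t : G // orderOf t = 2}

open Classical in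
theorem sum_pairsCount [Fintype G] : ∑ x : G, pairsCount x = invCount G ^ 2 := by
  set J : Finset G := Finset.univ.filter (fun t => orderOf t = 2) with hJ
  have hm : invCount G = J.card := by
    unfold invCount
    apply Nat.subtype_card
    intro x; simp [hJ]
  have h1 : (J ×ˢ J).card = ∑ x ∈ (Finset.univ : Finset G),
      ((J ×ˢ J).filter (fun p => p.1 * p.2 = x)).card :=
    Finset.card_eq_sum_card_fiberwise (fun p _ => Finset.mem_univ _)
  rw [Finset.card_product] at h1
  rw [hm, pow_two, h1]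
  apply Finset.sum_congr rfl
  intro x _
  unfold pairsCount
  apply Nat.subtype_card
  intro p
  simp [hJ, and_assoc]

theorem pairsCount_one_le [Finite G] : pairsCount (1 : G) ≤ invCount G := by
  unfold pairsCount invCount
  apply Nat.card_le_card_of_injective
    (fun p : {p : G × G // orderOf p.1 = 2 ∧ orderOf p.2 = 2 ∧ p.1 * p.2 = 1} =>
      (⟨p.1.1, p.2.1⟩ : {t : G // orderOf t = 2}))
  intro p q hpq
  obtain ⟨⟨u, v⟩, hu, hv, huv⟩ := p
  obtain ⟨⟨u', v'⟩, hu', hv', huv'⟩ := q
  simp only [Subtype.mk.injEq] at hpq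
  simp only at huv huv'
  subst hpq
  apply Subtype.ext
  simp only [Prod.mk.injEq, true_and]
  exact mul_left_cancel (huv.trans huv'.symm)

/-- the extended centraliser of `x`: elements centralising or inverting `x` -/
def extCentralizer (x : G) : Subgroup G where
  carrier := {g | g * x * g⁻¹ = x ∨ g * x * g⁻¹ = x⁻¹}
  one_mem' := by left; simp
  mul_mem' := by
    intro a b ha hb
    have e : a * b * x * (a * b)⁻¹ = a * (b * x * b⁻¹) * a⁻¹ := by simp [mul_assoc]
    have hinv : ∀ g : G, g * x⁻¹ * g⁻¹ = (g * x * g⁻¹)⁻¹ := by intro g; simp [mul_assoc]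
    change a * b * x * (a * b)⁻¹ = x ∨ a * b * x * (a * b)⁻¹ = x⁻¹
    rw [e]
    rcases ha with ha | ha <;> rcases hb with hb | hb
    · left; rw [hb, ha]
    · right; rw [hb, hinv, ha]
    · right; rw [hb, ha]
    · left; rw [hb, hinv, ha, inv_inv]
  inv_mem' := by
    intro a ha
    change a⁻¹ * x * a⁻¹⁻¹ = x ∨ a⁻¹ * x * a⁻¹⁻¹ = x⁻¹
    rw [inv_inv]
    rcases ha with ha | ha
    · left
      nth_rewrite 1 [← ha]
      simp [mul_assoc]
    · right
      have : x = a * x⁻¹ * a⁻¹ := by
        have := congrArg Inv.inv ha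
        simpa [mul_assoc] using this.symm
      nth_rewrite 1 [this]
      simp [mul_assoc]

theorem mem_extCentralizer {x g : G} :
    g ∈ extCentralizer x ↔ g * x * g⁻¹ = x ∨ g * x * g⁻¹ = x⁻¹ := Iff.rfl

theorem card_extCentralizer [Finite G] {x : G} (hreal : IsConj x x⁻¹) (hne : x⁻¹ ≠ x) :
    Nat.card (extCentralizer x) = 2 * Nat.card (Subgroup.centralizer ({x} : Set G)) := by
  have h1 : Nat.card {g : G // g * x * g⁻¹ = x} = Nat.card (Subgroup.centralizer ({x} : Set G)) :=
    Nat.card_congr (Cfsg.Agent.S0237.conjEquiv x x 1 (by simp))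
  have h2 := Cfsg.Agent.S0237.result x hreal
  have e : ((extCentralizer x : Subgroup G) : Set G) =
      {g : G | g * x * g⁻¹ = x} ∪ {g : G | g * x * g⁻¹ = x⁻¹} := by
    ext g; rfl
  have hd : Disjoint {g : G | g * x * g⁻¹ = x} {g : G | g * x * g⁻¹ = x⁻¹} := by
    rw [Set.disjoint_left]
    intro g h1 h2
    exact hne (h2.symm.trans h1)
  have h3 : Nat.card (extCentralizer x) = Set.ncard ((extCentralizer x : Subgroup G) : Set G) :=
    (Nat.card_coe_set_eq _)
  rw [h3, e, Set.ncard_union_eq hd (Set.toFinite _) (Set.toFinite _)]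
  have h4 : Set.ncard {g : G | g * x * g⁻¹ = x} = Nat.card {g : G // g * x * g⁻¹ = x} :=
    (Nat.card_coe_set_eq _).symm
  have h5 : Set.ncard {g : G | g * x * g⁻¹ = x⁻¹} = Nat.card {g : G // g * x * g⁻¹ = x⁻¹} :=
    (Nat.card_coe_set_eq _).symm
  rw [h4, h5, h1, h2]; ring

end Cfsg.Agent.Lib.H2
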