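import Mathlib
import Cfsg.Agent.Lib.H2.BrauerFowler

set_option autoImplicit false

namespace Cfsg.Agent.Lib.H2

variable {G : Type*} [Group G] [Finite G]

theorem card_centralizer_mul_le {m : ℕ} (H : Subgroup G)
    (hH : Nat.card G * (Nat.card G + m) ≤ 2 * H.index * m ^ 2) :
    Nat.card H * (Nat.card G + m) ≤ 2 * m ^ 2 := by
  have hidx : 0 < H.index := Nat.pos_of_ne_zero Subgroup.index_ne_zero_of_finite
  have h1 := H.card_mul_index
  rw [← h1] at hH
  have h2 : H.index * (Nat.card H * (Nat.card H * H.index + m)) ≤ H.index * (2 * m ^ 2) := by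
    calc H.index * (Nat.card H * (Nat.card H * H.index + m))
        = Nat.card H * H.index * (Nat.card H * H.index + m) := by ring
      _ ≤ 2 * H.index * m ^ 2 := hH
      _ = H.index * (2 * m ^ 2) := by ring
  have h3 := Nat.le_of_mul_le_mul_left h2 hidx
  rw [h1] at h3
  exact h3

/-- Core of the Brauer–Fowler argument. -/
theorem brauerFowler_core (hZ : ∀ z : G, orderOf z = 2 → z ∉ Subgroup.center G)
    (hm : 1 ≤ invCount G)
    (hB : ∀ H : Subgroup G, H ≠ ⊤ → H.index ≠ 2 ∧
      Nat.card G * (Nat.card G + invCount G) ≤ 2 * H.index * invCount G ^ 2) : False := by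
  classical
  have := Fintype.ofFinite G
  set m := invCount G with hmdef
  set N := Nat.card G with hN
  set D := N + m with hD
  -- bound for involutions
  have hinv : ∀ x : G, orderOf x = 2 → pairsCount x * D + 2 * D ≤ 2 * m ^ 2 := by
    intro x hx
    have hCne : Subgroup.centralizer ({x} : Set G) ≠ ⊤ := by
      intro h
      apply hZ x hx
      rw [Subgroup.mem_center_iff]
      intro g
      have hg : g ∈ Subgroup.centralizer ({x} : Set G) := by rw [h]; exact Subgroup.mem_top g
      rw [Subgroup.mem_centralizer_iff] at hg
      exact (hg x rfl).symm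
    have h1 := card_centralizer_mul_le _ (hB _ hCne).2
    have h2 := (Cfsg.Agent.S0238.result x).2.2 hx
    calc pairsCount x * D + 2 * D = (pairsCount x + 2) * D := by ring
      _ ≤ Nat.card (Subgroup.centralizer ({x} : Set G)) * D := Nat.mul_le_mul_right _ h2
      _ ≤ 2 * m ^ 2 := h1
  -- bound for the remaining non-identity elements
  have hrest : ∀ x : G, x ≠ 1 → orderOf x ≠ 2 → pairsCount x * D ≤ m ^ 2 := by
    intro x hx1 hx2
    by_cases hreal : IsConj x x⁻¹
    · have hne : x⁻¹ ≠ x := by
        intro h
        apply hx2
        rw [orderOf_two_iff]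
        refine ⟨?_, hx1⟩
        nth_rewrite 1 [← h]
        exact inv_mul_cancel x
      have hcardE := card_extCentralizer hreal hne
      have hEne : extCentralizer x ≠ ⊤ := by
        intro h
        have h1 : Nat.card (extCentralizer x) = N := by rw [h, Subgroup.card_top]
        rw [hcardE] at h1
        have h2 := (Subgroup.centralizer ({x} : Set G)).card_mul_index
        have hidx : (Subgroup.centralizer ({x} : Set G)).index = 2 := by
          have hpos : 0 < Nat.card (Subgroup.centralizer ({x} : Set G)) := Nat.card_pos
          have : Nat.card (Subgroup.centralizer ({x} : Set G)) *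
              (Subgroup.centralizer ({x} : Set G)).index =
              Nat.card (Subgroup.centralizer ({x} : Set G)) * 2 := by
            rw [h2, ← hN, ← h1]; ring
          exact Nat.eq_of_mul_eq_mul_left hpos this
        have hCne : Subgroup.centralizer ({x} : Set G) ≠ ⊤ := by
          intro h'
          rw [h', Subgroup.index_top] at hidx
          omega
        exact (hB _ hCne).1 hidx
      have h1 := card_centralizer_mul_le _ (hB _ hEne).2
      rw [hcardE] at h1
      have h2 := (Cfsg.Agent.S0238.result x).1
      have h3 : Nat.card (Subgroup.centralizer ({x} : Set G)) * D ≤ m ^ 2 := by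
        have : 2 * (Nat.card (Subgroup.centralizer ({x} : Set G)) * D) ≤ 2 * m ^ 2 := by
          calc 2 * (Nat.card (Subgroup.centralizer ({x} : Set G)) * D)
              = 2 * Nat.card (Subgroup.centralizer ({x} : Set G)) * D := by ring
            _ ≤ 2 * m ^ 2 := h1
        omega
      exact le_trans (Nat.mul_le_mul_right _ h2) h3
    · have h0 := (Cfsg.Agent.S0238.result x).2.1 hreal
      change pairsCount x = 0 at h0
      rw [h0, zero_mul]
      exact Nat.zero_le _
  -- pointwise inequality
  have hpt : ∀ x : G, pairsCount x * D + (if orderOf x = 2 then 2 * D else 0) ≤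
      (if x = 1 then m * D else 0) + (if orderOf x = 2 then 2 * m ^ 2 else 0) +
        (if x ≠ 1 ∧ orderOf x ≠ 2 then m ^ 2 else 0) := by
    intro x
    by_cases h1 : x = 1
    · subst h1
      have : orderOf (1 : G) ≠ 2 := by simp
      simp only [this, if_false, if_true, ne_eq, not_true_eq_false, false_and, add_zero]
      exact Nat.mul_le_mul_right _ pairsCount_one_le
    · by_cases h2 : orderOf x = 2
      · simp only [h1, h2, if_true, if_false, ne_eq, not_true_eq_false, and_false, add_zero, zero_add]
        exact hinv x h2
      · simp only [h1, h2, if_true, if_false, ne_eq, not_false_eq_true, and_self, add_zero, zero_add]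
        exact hrest x h1 h2
  have hsum := Finset.sum_le_sum (fun x (_ : x ∈ (Finset.univ : Finset G)) => hpt x)
  simp only [Finset.sum_add_distrib] at hsum
  rw [← Finset.sum_mul, sum_pairsCount] at hsum
  -- evaluate the indicator sums
  have hJ : (Finset.univ.filter fun x : G => orderOf x = 2).card = m := by
    rw [hmdef]; unfold invCount
    symm
    apply Nat.subtype_card
    intro x; simp
  have h1c : (Finset.univ.filter fun x : G => x = 1).card = 1 := by
    rw [Finset.filter_eq' Finset.univ (1 : G)]
    simp
  have hsplit : (Finset.univ.filter fun x : G => x = 1).card +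
      (Finset.univ.filter fun x : G => orderOf x = 2).card +
      (Finset.univ.filter fun x : G => x ≠ 1 ∧ orderOf x ≠ 2).card = N := by
    rw [hN, Nat.card_eq_fintype_card, ← Finset.card_univ]
    rw [← Finset.card_union_of_disjoint, ← Finset.card_union_of_disjoint]
    · congr 1
      ext x
      simp only [Finset.mem_union, Finset.mem_filter, Finset.mem_univ, true_and]
      by_cases h1 : x = 1
      · simp [h1]
      · by_cases h2 : orderOf x = 2 <;> simp [h1, h2]
    · rw [Finset.disjoint_left]
      intro x hx hx'
      simp only [Finset.mem_union, Finset.mem_filter, Finset.mem_univ, true_and] at hx hx'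
      rcases hx with hx | hx
      · exact hx'.1 hx
      · exact hx'.2 hx
    · rw [Finset.disjoint_left]
      intro x hx hx'
      simp only [Finset.mem_filter, Finset.mem_univ, true_and] at hx hx'
      rw [hx] at hx'
      simp at hx'
  have e1 : ∑ x : G, (if orderOf x = 2 then 2 * D else 0) = m * (2 * D) := by
    rw [Finset.sum_ite, Finset.sum_const, Finset.sum_const_zero, add_zero, smul_eq_mul, hJ]
  have e2 : ∑ x : G, (if x = 1 then m * D else 0) = m * D := by
    rw [Finset.sum_ite, Finset.sum_const, Finset.sum_const_zero, add_zero, smul_eq_mul, h1c, one_mul]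
  have e3 : ∑ x : G, (if orderOf x = 2 then 2 * m ^ 2 else 0) = m * (2 * m ^ 2) := by
    rw [Finset.sum_ite, Finset.sum_const, Finset.sum_const_zero, add_zero, smul_eq_mul, hJ]
  have e4 : ∑ x : G, (if x ≠ 1 ∧ orderOf x ≠ 2 then m ^ 2 else 0) =
      (Finset.univ.filter fun x : G => x ≠ 1 ∧ orderOf x ≠ 2).card * m ^ 2 := by
    rw [Finset.sum_ite, Finset.sum_const, Finset.sum_const_zero, add_zero, smul_eq_mul]
  rw [e1, e2, e3, e4] at hsum
  rw [h1c, hJ] at hsplit
  set r := (Finset.univ.filter fun x : G => x ≠ 1 ∧ orderOf x ≠ 2).card with hr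
  have hDr : D = r + 1 + 2 * m := by rw [hD, ← hsplit]; ring
  rw [hDr] at hsum
  have hm0 : 0 < m := hm
  nlinarith [mul_pos hm0 hm0, Nat.zero_le (m * r), Nat.zero_le (m ^ 3), Nat.zero_le (m ^ 2 * r)]

end Cfsg.Agent.Lib.H2
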