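import Mathlib

/-!
# S2154 (Borel–Tits, architect helper29) piece GRD2: midpoint, `Z ∩ U = 1`, conjugation, rows.
The four definitions are restated verbatim from `tools/blueprints/S2154_sigs.lean`.
-/

set_option autoImplicit false

namespace Cfsg.Agent.Lib.H2.BT

variable {ι : Type*} [Fintype ι] [DecidableEq ι] {F : Type*} [Field F]

/-- unipotent of step `≥ 1` for the grading `ω` -/
def UW (ω : ι → ℝ) : Set (Matrix ι ι F) :=
  {M | (∀ a, M a a = 1) ∧ ∀ a b, a ≠ b → M a b ≠ 0 → ω b + 1 ≤ ω a}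
/-- unipotent of step `> 0` for the grading `ω` -/
def U0W (ω : ι → ℝ) : Set (Matrix ι ι F) :=
  {M | (∀ a, M a a = 1) ∧ ∀ a b, a ≠ b → M a b ≠ 0 → ω b < ω a}
/-- preserving the filtration of `ω` -/
def PW (ω : ι → ℝ) : Set (Matrix ι ι F) := {M | ∀ a b, M a b ≠ 0 → ω b ≤ ω a}
/-- carrying the grading `ω` to the grading `ω'` -/
def TrW (ω ω' : ι → ℝ) : Set (Matrix ι ι F) := {M | ∀ a b, M a b ≠ 0 → ω' a = ω b}

/-- a nonzero entry of `n * (M - 1) * n'` (with `M` having diagonal `1`) comes from a chain of nonzero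
entries `n a c`, `M c d` (`c ≠ d`), `n' d b`. -/
theorem conj_entry (n n' M : Matrix ι ι F) (hd : ∀ a, M a a = 1) (a b : ι)
    (h : (n * (M - 1) * n') a b ≠ 0) :
    ∃ c d, n a c ≠ 0 ∧ c ≠ d ∧ M c d ≠ 0 ∧ n' d b ≠ 0 := by
  rw [Matrix.mul_apply] at h
  obtain ⟨d, _, hd1⟩ := Finset.exists_ne_zero_of_sum_ne_zero h
  have h1 : (n * (M - 1)) a d ≠ 0 := left_ne_zero_of_mul hd1
  have h2 : n' d b ≠ 0 := right_ne_zero_of_mul hd1
  rw [Matrix.mul_apply] at h1
  obtain ⟨c, _, hc1⟩ := Finset.exists_ne_zero_of_sum_ne_zero h1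
  have h3 : n a c ≠ 0 := left_ne_zero_of_mul hc1
  have h4 : (M - 1) c d ≠ 0 := right_ne_zero_of_mul hc1
  have hcd : c ≠ d := by
    rintro rfl
    apply h4
    rw [Matrix.sub_apply, hd, Matrix.one_apply_eq, sub_self]
  refine ⟨c, d, h3, hcd, ?_, h2⟩
  rw [Matrix.sub_apply, Matrix.one_apply_ne hcd, sub_zero] at h4
  exact h4

theorem conj_eq (n n' M : Matrix ι ι F) (h1 : n * n' = 1) :
    n * M * n' = n * (M - 1) * n' + 1 := by
  rw [mul_sub, sub_mul, mul_one, h1, sub_add_cancel]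

theorem UW_mid (ω₁ ω₂ : ι → ℝ) (M : Matrix ι ι F) (h1 : M ∈ UW ω₁) (h2 : M ∈ UW ω₂) :
    M ∈ UW (fun a => (ω₁ a + ω₂ a) / 2) := by
  refine ⟨h1.1, ?_⟩
  intro a b hab hM
  have e1 := h1.2 a b hab hM
  have e2 := h2.2 a b hab hM
  show (ω₁ b + ω₂ b) / 2 + 1 ≤ (ω₁ a + ω₂ a) / 2
  linarith

theorem eq_one_of_TrW_U0W (ω : ι → ℝ) (M : Matrix ι ι F) (h1 : M ∈ TrW ω ω) (h2 : M ∈ U0W ω) :
    M = 1 := by
  ext a b
  by_cases hab : a = b
  · subst hab
    rw [h2.1, Matrix.one_apply_eq]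
  · rw [Matrix.one_apply_ne hab]
    by_contra hM
    have e1 : ω a = ω b := h1 a b hM
    have e2 : ω b < ω a := h2.2 a b hab hM
    linarith

/-- `UW ω₀ = {1}` for the zero grading -/
theorem eq_one_of_UW_zero (M : Matrix ι ι F) (h : M ∈ UW (fun _ : ι => (0 : ℝ))) : M = 1 := by
  ext a b
  by_cases hab : a = b
  · subst hab
    rw [h.1, Matrix.one_apply_eq]
  · rw [Matrix.one_apply_ne hab]
    by_contra hM
    have e1 : (0 : ℝ) + 1 ≤ 0 := h.2 a b hab hM
    linarith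

theorem conj_UW_of_TrW (ω ω' : ι → ℝ) (n n' M : Matrix ι ι F) (h1 : n * n' = 1) (hn : n ∈ TrW ω ω')
    (hn' : n' ∈ TrW ω' ω) (hM : M ∈ UW ω) : n * M * n' ∈ UW ω' := by
  have key : ∀ a b, (n * (M - 1) * n') a b ≠ 0 → ω' b + 1 ≤ ω' a := by
    intro a b h
    obtain ⟨c, d, hc, hcd, hMcd, hd⟩ := conj_entry n n' M hM.1 a b h
    have e1 : ω' a = ω c := hn a c hc
    have e2 : ω d + 1 ≤ ω c := hM.2 c d hcd hMcd
    have e3 : ω d = ω' b := hn' d b hd
    linarith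
  rw [conj_eq n n' M h1]
  refine ⟨?_, ?_⟩
  · intro a
    rw [Matrix.add_apply, Matrix.one_apply_eq]
    have : (n * (M - 1) * n') a a = 0 := by
      by_contra h
      have := key a a h
      linarith
    rw [this, zero_add]
  · intro a b hab h
    rw [Matrix.add_apply, Matrix.one_apply_ne hab, add_zero] at h
    exact key a b h

theorem conj_UW_of_PW (ω : ι → ℝ) (h h' M : Matrix ι ι F) (h1 : h * h' = 1) (hh : h ∈ PW ω)
    (hh' : h' ∈ PW ω) (hM : M ∈ UW ω) : h * M * h' ∈ UW ω := by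
  have key : ∀ a b, (h * (M - 1) * h') a b ≠ 0 → ω b + 1 ≤ ω a := by
    intro a b hne
    obtain ⟨c, d, hc, hcd, hMcd, hd⟩ := conj_entry h h' M hM.1 a b hne
    have e1 : ω c ≤ ω a := hh a c hc
    have e2 : ω d + 1 ≤ ω c := hM.2 c d hcd hMcd
    have e3 : ω b ≤ ω d := hh' d b hd
    linarith
  rw [conj_eq h h' M h1]
  refine ⟨?_, ?_⟩
  · intro a
    rw [Matrix.add_apply, Matrix.one_apply_eq]
    have : (h * (M - 1) * h') a a = 0 := by
      by_contra hne
      have := key a a hne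
      linarith
    rw [this, zero_add]
  · intro a b hab hne
    rw [Matrix.add_apply, Matrix.one_apply_ne hab, add_zero] at hne
    exact key a b hne

theorem conj_U0W_of_PW (ω : ι → ℝ) (h h' M : Matrix ι ι F) (h1 : h * h' = 1) (hh : h ∈ PW ω)
    (hh' : h' ∈ PW ω) (hM : M ∈ U0W ω) : h * M * h' ∈ U0W ω := by
  have key : ∀ a b, (h * (M - 1) * h') a b ≠ 0 → ω b < ω a := by
    intro a b hne
    obtain ⟨c, d, hc, hcd, hMcd, hd⟩ := conj_entry h h' M hM.1 a b hne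
    have e1 : ω c ≤ ω a := hh a c hc
    have e2 : ω d < ω c := hM.2 c d hcd hMcd
    have e3 : ω b ≤ ω d := hh' d b hd
    linarith
  rw [conj_eq h h' M h1]
  refine ⟨?_, ?_⟩
  · intro a
    rw [Matrix.add_apply, Matrix.one_apply_eq]
    have : (h * (M - 1) * h') a a = 0 := by
      by_contra hne
      have := key a a hne
      linarith
    rw [this, zero_add]
  · intro a b hab hne
    rw [Matrix.add_apply, Matrix.one_apply_ne hab, add_zero] at hne
    exact key a b hne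

theorem exists_row_ne_zero (g : GL ι F) (a : ι) : ∃ b, (g : Matrix ι ι F) a b ≠ 0 := by
  by_contra hne
  push Not at hne
  have h1 : ((g : Matrix ι ι F) * ((g⁻¹ : GL ι F) : Matrix ι ι F)) a a = 1 := by
    rw [← Units.val_mul, mul_inv_cancel, Units.val_one, Matrix.one_apply_eq]
  rw [Matrix.mul_apply] at h1
  have h2 : ∑ j, (g : Matrix ι ι F) a j * ((g⁻¹ : GL ι F) : Matrix ι ι F) j a = 0 := by
    apply Finset.sum_eq_zero
    intro j _
    rw [hne j, zero_mul]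
  rw [h2] at h1
  exact zero_ne_one h1

theorem le_of_TrW_PW (ω ω' : ι → ℝ) (g : GL ι F) (h1 : (g : Matrix ι ι F) ∈ TrW ω ω')
    (h2 : (g : Matrix ι ι F) ∈ PW ω) (a : ι) : ω' a ≤ ω a := by
  obtain ⟨b, hb⟩ := exists_row_ne_zero g a
  have e1 : ω' a = ω b := h1 a b hb
  have e2 : ω b ≤ ω a := h2 a b hb
  linarith

end Cfsg.Agent.Lib.H2.BT
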