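import Mathlib

/-!
# S2154 (Borel–Tits, architect helper29) piece OPT: a continuous coercive function attains its minimum
on a nonempty closed set.
-/

set_option autoImplicit false

namespace Cfsg.Agent.Lib.H2.BT

theorem exists_min (l : ℕ) (Q : (Fin l → ℝ) → ℝ) (hQc : Continuous Q) (hQ : ∀ x j, (x j) ^ 2 ≤ Q x)
    (S : Set (Fin l → ℝ)) (hS : IsClosed S) (hne : S.Nonempty) : ∃ x ∈ S, ∀ y ∈ S, Q x ≤ Q y := by
  obtain ⟨x₀, hx₀⟩ := hne
  set c : ℝ := Q x₀ with hc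
  set K : Set (Fin l → ℝ) := S ∩ {x | Q x ≤ c} with hK
  have hKclosed : IsClosed K := hS.inter (isClosed_le hQc continuous_const)
  have hbox : IsCompact (Set.univ.pi fun _ : Fin l => Set.Icc (-Real.sqrt c) (Real.sqrt c)) :=
    isCompact_univ_pi fun _ => isCompact_Icc
  have hKsub : K ⊆ Set.univ.pi fun _ : Fin l => Set.Icc (-Real.sqrt c) (Real.sqrt c) := by
    intro x hx j _
    have h1 : (x j) ^ 2 ≤ c := (hQ x j).trans hx.2
    have h2 : |x j| ≤ Real.sqrt c := Real.abs_le_sqrt h1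
    exact abs_le.mp h2
  have hKcomp : IsCompact K := hbox.of_isClosed_subset hKclosed hKsub
  have hKne : K.Nonempty := ⟨x₀, hx₀, show Q x₀ ≤ c from le_refl _⟩
  obtain ⟨x, hxK, hxmin⟩ := hKcomp.exists_isMinOn hKne hQc.continuousOn
  refine ⟨x, hxK.1, ?_⟩
  intro y hy
  by_cases hyc : Q y ≤ c
  · exact hxmin ⟨hy, hyc⟩
  · exact (hxK.2).trans (le_of_lt (not_le.mp hyc))

end Cfsg.Agent.Lib.H2.BT
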