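import Mathlib

/-!
# Solvable subgroups of groups in which commuting is transitive

In a group in which the centralisers of the non-identity elements are abelian, a non-trivial
solvable subgroup normalises the centraliser of one of its non-identity elements.
-/

set_option autoImplicit false

namespace Cfsg.Agent.Lib.H2.CTSol

open scoped commutatorElement

variable {G : Type*} [Group G]

/-- commuting is transitive on the non-identity elements -/
def IsCT (G : Type*) [Group G] : Prop :=
  ∀ a b c : G, b ≠ 1 → Commute a b → Commute b c → Commute a c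

/-- the centraliser of an element -/
abbrev Cn (a : G) : Subgroup G := Subgroup.centralizer ({a} : Set G)

/-- the normaliser of the centraliser of an element -/
def NC (a : G) : Subgroup G := Subgroup.normalizer ((Cn a : Subgroup G) : Set G)

theorem mem_Cn {a g : G} : g ∈ Cn a ↔ Commute g a := by
  rw [Subgroup.mem_centralizer_singleton_iff]
  exact ⟨fun h => h, fun h => h⟩

theorem self_mem_Cn (a : G) : a ∈ Cn a := mem_Cn.2 (Commute.refl a)

theorem Cn_le_NC (a : G) : Cn a ≤ NC a := Subgroup.le_normalizer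

theorem self_mem_NC (a : G) : a ∈ NC a := Cn_le_NC a (self_mem_Cn a)

theorem Cn_eq (hCT : IsCT G) {a b : G} (ha : a ≠ 1) (hb : b ≠ 1) (hab : Commute a b) :
    Cn a = Cn b := by
  ext g
  rw [mem_Cn, mem_Cn]
  constructor
  · intro h
    exact hCT g a b ha h hab
  · intro h
    exact hCT g b a hb h hab.symm

theorem conj_ne_one {a : G} (ha : a ≠ 1) (g : G) : g * a * g⁻¹ ≠ 1 := by
  intro h
  apply ha
  have : a = g⁻¹ * (g * a * g⁻¹) * g := by group
  rw [this, h]; group

theorem mem_Cn_conj {a g h : G} : g * h * g⁻¹ ∈ Cn (g * a * g⁻¹) ↔ h ∈ Cn a := by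
  rw [mem_Cn, mem_Cn]
  constructor
  · intro e
    have e' : g * h * g⁻¹ * (g * a * g⁻¹) = g * a * g⁻¹ * (g * h * g⁻¹) := e
    show h * a = a * h
    have : h * a = g⁻¹ * (g * h * g⁻¹ * (g * a * g⁻¹)) * g := by group
    rw [this, e']; group
  · intro e
    have e' : h * a = a * h := e
    show g * h * g⁻¹ * (g * a * g⁻¹) = g * a * g⁻¹ * (g * h * g⁻¹)
    have : g * h * g⁻¹ * (g * a * g⁻¹) = g * (h * a) * g⁻¹ := by group
    rw [this, e']; group

theorem mem_NC_iff (hCT : IsCT G) {a g : G} (ha : a ≠ 1) :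
    g ∈ NC a ↔ Commute (g * a * g⁻¹) a := by
  constructor
  · intro hg
    have := (Subgroup.mem_normalizer_iff.1 hg a).1 (self_mem_Cn a)
    exact mem_Cn.1 this
  · intro hc
    have he : Cn (g * a * g⁻¹) = Cn a := Cn_eq hCT (conj_ne_one ha g) ha hc
    rw [NC, Subgroup.mem_normalizer_iff]
    intro h
    show h ∈ Cn a ↔ g * h * g⁻¹ ∈ Cn a
    rw [← mem_Cn_conj (g := g) (a := a) (h := h), he]

theorem NC_eq (hCT : IsCT G) {a b : G} (ha : a ≠ 1) (hb : b ≠ 1) (hab : Commute a b) :
    NC a = NC b := by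
  unfold NC
  rw [Cn_eq hCT ha hb hab]

theorem mem_NC_conj {a g h : G} : g * h * g⁻¹ ∈ NC (g * a * g⁻¹) ↔ h ∈ NC a := by
  unfold NC
  rw [Subgroup.mem_normalizer_iff, Subgroup.mem_normalizer_iff]
  constructor
  · intro H k
    have := H (g * k * g⁻¹)
    have e : g * h * g⁻¹ * (g * k * g⁻¹) * (g * h * g⁻¹)⁻¹ = g * (h * k * h⁻¹) * g⁻¹ := by group
    rw [e] at this
    change g * k * g⁻¹ ∈ Cn (g * a * g⁻¹) ↔ g * (h * k * h⁻¹) * g⁻¹ ∈ Cn (g * a * g⁻¹) at this
    rwa [mem_Cn_conj, mem_Cn_conj] at this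
  · intro H k
    have := H (g⁻¹ * k * g)
    change g⁻¹ * k * g ∈ Cn a ↔ h * (g⁻¹ * k * g) * h⁻¹ ∈ Cn a at this
    rw [← mem_Cn_conj (g := g) (a := a), ← mem_Cn_conj (g := g) (a := a) (h := h * (g⁻¹ * k * g) * h⁻¹)]
      at this
    have e1 : g * (g⁻¹ * k * g) * g⁻¹ = k := by group
    have e2 : g * (h * (g⁻¹ * k * g) * h⁻¹) * g⁻¹ = g * h * g⁻¹ * k * (g * h * g⁻¹)⁻¹ := by group
    rw [e1, e2] at this
    exact this

/-- a group with an abelian subgroup containing the derived subgroup is solvable -/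
theorem isSolvable_of_commutator_le (A : Subgroup G) (hA : ∀ a ∈ A, ∀ b ∈ A, a * b = b * a)
    (h : ⁅(⊤ : Subgroup G), ⊤⁆ ≤ A) : Group.IsSolvable G := by
  rw [Group.isSolvable_def]
  refine ⟨2, ?_⟩
  have h1 : derivedSeries G 1 ≤ A := by
    rw [derivedSeries_succ, derivedSeries_zero]
    exact h
  rw [derivedSeries_succ, eq_bot_iff]
  refine (Subgroup.commutator_mono h1 h1).trans ?_
  rw [Subgroup.commutator_le]
  intro a ha b hb
  rw [Subgroup.mem_bot, commutatorElement_def, hA a ha b hb]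
  group

/-- a non-trivial solvable subgroup normalises the centraliser of one of its elements -/
theorem exists_le_NC (hCT : IsCT G) (L : Subgroup G) (hs : Group.IsSolvable L) (hL : L ≠ ⊥) :
    ∃ a ∈ L, a ≠ 1 ∧ L ≤ NC a := by
  classical
  obtain ⟨n, hn⟩ := (Group.isSolvable_def L).1 hs
  -- the least `n` with trivial derived term
  have hex : ∃ n, derivedSeries L n = ⊥ := ⟨n, hn⟩
  set k := Nat.find hex with hk
  have hk0 : k ≠ 0 := by
    intro h0
    have := Nat.find_spec hex
    rw [← hk, h0, derivedSeries_zero] at this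
    apply hL
    rw [eq_bot_iff]
    intro x hx
    have : (⟨x, hx⟩ : L) ∈ (⊥ : Subgroup L) := by rw [← this]; exact Subgroup.mem_top _
    rw [Subgroup.mem_bot] at this
    rw [Subgroup.mem_bot]
    exact congrArg Subtype.val this
  obtain ⟨j, hj⟩ : ∃ j, k = j + 1 := ⟨k - 1, by omega⟩
  have hjne : derivedSeries L j ≠ ⊥ := Nat.find_min hex (by omega : j < k)
  have hjs : derivedSeries L (j + 1) = ⊥ := by rw [← hj]; exact Nat.find_spec hex
  -- the term `D` is abelian and normal
  set D := derivedSeries L j with hD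
  have hDab : ∀ a ∈ D, ∀ b ∈ D, a * b = b * a := by
    intro a ha b hb
    have : ⁅a, b⁆ ∈ ⁅D, D⁆ := Subgroup.commutator_mem_commutator ha hb
    rw [← derivedSeries_succ, hjs, Subgroup.mem_bot, commutatorElement_def] at this
    have e : a * b = (a * b * a⁻¹ * b⁻¹) * (b * a) := by group
    rw [e, this, one_mul]
  have hDn : D.Normal := derivedSeries_normal L j
  obtain ⟨d, hd, hd1⟩ : ∃ d ∈ D, d ≠ 1 := by
    by_contra hcon
    push Not at hcon
    apply hjne
    rw [eq_bot_iff]
    intro x hx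
    rw [Subgroup.mem_bot]
    exact hcon x hx
  refine ⟨(d : G), d.2, fun h => hd1 (Subtype.ext h), ?_⟩
  intro g hg
  have hda : (d : G) ≠ 1 := fun h => hd1 (Subtype.ext h)
  rw [mem_NC_iff hCT hda]
  have hconj : (⟨g, hg⟩ : L) * d * (⟨g, hg⟩ : L)⁻¹ ∈ D := hDn.conj_mem d hd _
  have := hDab _ hconj d hd
  exact congrArg Subtype.val this

/-- the solubiliser -/
def Sol (x : G) : Set G := {y | Group.IsSolvable (Subgroup.closure ({x, y} : Set G))}

theorem mem_Sol {x y : G} : y ∈ Sol x ↔ Group.IsSolvable (Subgroup.closure ({x, y} : Set G)) :=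
  Iff.rfl

theorem mem_Sol_of_mem {x y : G} (M : Subgroup G) (hM : Group.IsSolvable M) (hx : x ∈ M)
    (hy : y ∈ M) : y ∈ Sol x := by
  have hle : Subgroup.closure ({x, y} : Set G) ≤ M := by
    rw [Subgroup.closure_le]
    intro z hz
    rcases hz with rfl | rfl
    · exact hx
    · exact hy
  exact Group.isSolvable_of_isSolvable_injective (f := Subgroup.inclusion hle)
    (Subgroup.inclusion_injective hle)

/-- in a CT-group with solvable `NC a`, the solubiliser of `x ≠ 1` is the union of the `NC a`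
containing `x` -/
theorem mem_Sol_iff (hCT : IsCT G) (hNC : ∀ a : G, a ≠ 1 → Group.IsSolvable (NC a)) {x y : G}
    (hx : x ≠ 1) : y ∈ Sol x ↔ ∃ a : G, a ≠ 1 ∧ x ∈ NC a ∧ y ∈ NC a := by
  constructor
  · intro hy
    have hne : Subgroup.closure ({x, y} : Set G) ≠ ⊥ := by
      intro h
      apply hx
      have : x ∈ Subgroup.closure ({x, y} : Set G) := Subgroup.subset_closure (by simp)
      rwa [h, Subgroup.mem_bot] at this
    obtain ⟨a, -, ha1, hle⟩ := exists_le_NC hCT _ hy hne
    exact ⟨a, ha1, hle (Subgroup.subset_closure (by simp)), hle (Subgroup.subset_closure (by simp))⟩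
  · rintro ⟨a, ha1, hxa, hya⟩
    exact mem_Sol_of_mem (NC a) (hNC a ha1) hxa hya

theorem isSolvable_closure_conj (s x y : G) :
    Group.IsSolvable (Subgroup.closure ({s * x * s⁻¹, s * y * s⁻¹} : Set G)) ↔
      Group.IsSolvable (Subgroup.closure ({x, y} : Set G)) := by
  have hmap : (Subgroup.closure ({x, y} : Set G)).map (MulAut.conj s).toMonoidHom =
      Subgroup.closure ({s * x * s⁻¹, s * y * s⁻¹} : Set G) := by
    rw [MonoidHom.map_closure, Set.image_pair]
    rfl
  rw [← hmap]
  let φ := (Subgroup.closure ({x, y} : Set G)).equivMapOfInjective (MulAut.conj s).toMonoidHom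
    (MulAut.conj s).injective
  constructor
  · intro hs
    exact Group.isSolvable_of_isSolvable_injective (f := φ.toMonoidHom) φ.injective
  · intro hs
    exact Group.isSolvable_of_surjective (f := φ.toMonoidHom) φ.surjective

theorem ncard_Sol_conj (s x : G) : (Sol (s * x * s⁻¹)).ncard = (Sol x).ncard := by
  have : Sol (s * x * s⁻¹) = (fun y => s * y * s⁻¹) '' Sol x := by
    ext y
    constructor
    · intro hy
      refine ⟨s⁻¹ * y * s, ?_, by group⟩
      rw [mem_Sol] at hy ⊢
      rw [← isSolvable_closure_conj s]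
      have e : s * (s⁻¹ * y * s) * s⁻¹ = y := by group
      rw [e]
      exact hy
    · rintro ⟨z, hz, rfl⟩
      rw [mem_Sol] at hz ⊢
      rw [isSolvable_closure_conj]
      exact hz
  rw [this]
  apply Set.ncard_image_of_injective
  intro a b hab
  have : s * a * s⁻¹ = s * b * s⁻¹ := hab
  have e : a = s⁻¹ * (s * a * s⁻¹) * s := by group
  rw [e, this]; group

/-- transport of solvability of `NC` along conjugation -/
theorem isSolvable_NC_conj (s a : G) (h : Group.IsSolvable (NC a)) :
    Group.IsSolvable (NC (s * a * s⁻¹)) := by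
  let ψ : NC (s * a * s⁻¹) →* NC a :=
    MonoidHom.codRestrict ((MulAut.conj s⁻¹).toMonoidHom.comp (NC (s * a * s⁻¹)).subtype) _ (by
      intro x
      show s⁻¹ * (x : G) * s⁻¹⁻¹ ∈ NC a
      rw [← mem_NC_conj (g := s)]
      have e : s * (s⁻¹ * (x : G) * s⁻¹⁻¹) * s⁻¹ = x := by group
      rw [e]
      exact x.2)
  apply Group.isSolvable_of_isSolvable_injective (f := ψ)
  intro x y hxy
  have h1 : s⁻¹ * (x : G) * s⁻¹⁻¹ = s⁻¹ * (y : G) * s⁻¹⁻¹ := congrArg Subtype.val hxy
  apply Subtype.ext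
  have e : (x : G) = s * (s⁻¹ * (x : G) * s⁻¹⁻¹) * s⁻¹ := by group
  rw [e, h1]; group

end Cfsg.Agent.Lib.H2.CTSol
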