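import Mathlib
import Cfsg.Prelude.Def_Local
import Cfsg.Prelude.Def_Solvable
import Cfsg.Prelude.Def_Transfer
import Cfsg.Agent.Lib.H28.CYBURN
import Cfsg.Agent.Lib.L0.CyclicSylowTwo
import Cfsg.Agent.Lib.H10.PSolvable2
import Cfsg.Agent.Lib.H26.PSolvableExt
import Cfsg.Agent.Lib.H4.PSolvSub
import Cfsg.Agent.Lib.H1.PSolvOfSolv
import Cfsg.Agent.Lib.H1.PCore
import Cfsg.Agent.Lib.H9.PPrimeCore
import Cfsg.Agent.Lib.H2.AECOUNT

/-!
# S1950 piece RED (helper2): reduction to a nonabelian simple group

`G` finite with cyclic Sylow `p`-subgroups such that any two elements of order `p` generate a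
`p`-solvable subgroup.  If no nonabelian simple group (with `p` odd, `p ∣ |G|`) satisfies these
hypotheses, then every such `G` is `p`-solvable.

Strong induction on `|G|`:
* `p ∤ |G|`: chain `1 ≤ G`;  `p = 2`: cyclic Sylow 2-subgroup gives a normal 2-complement.
* `G` simple: abelian (solvable) or excluded by the hypothesis `hsimple`.
* `1 < N < G` normal: `N` is `p`-solvable by induction, so `O_p(N) ≠ 1` or `O_{p'}(N) ≠ 1`, both normal in `G`.
  - `R = O_{p'}(N) ≠ 1`: the hypotheses pass to `G/R` (elements of order `p` lift to elements of order `p`).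
  - `R = O_p(N) ≠ 1`: `C = C_G(R)` contains a Sylow `p`-subgroup, is normal, and has a normal `p`-complement
    `K` (Burnside, helper28's BURN) which is the set of `p'`-elements of `C`, so `1 ≤ K ≤ C ≤ G` works.
-/

set_option autoImplicit false

namespace Cfsg.Agent.Lib.H2.CY

open Cfsg

universe u

/-- the pairs hypothesis of S1950 -/
def Pairs (p : ℕ) (G : Type*) [Group G] : Prop :=
  ∀ x y : G, orderOf x = p → orderOf y = p →
    Cfsg.IsPSolvable p ↥(Subgroup.closure ({x, y} : Set G))

section basic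

variable {G : Type*} [Group G] {p : ℕ}

/-- a `p'`-group is `p`-solvable -/
theorem isPSolvable_of_coprime_card (h : (Nat.card G).Coprime p) : IsPSolvable p G := by
  refine ⟨1, ![⊥, ⊤], rfl, rfl, ?_, ?_, ?_⟩
  · rw [Fin.monotone_iff_le_succ]
    intro i
    fin_cases i
    exact bot_le
  · intro i
    fin_cases i
    · exact Subgroup.normal_bot
    · exact Subgroup.normal_top
  · intro i
    fin_cases i
    right
    show ((⊥ : Subgroup G).relIndex ⊤).Coprime p
    rw [Subgroup.relIndex_top_right, Subgroup.index_bot]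
    exact h

/-- the pairs hypothesis passes to subgroups -/
theorem Pairs.subgroup [Fact p.Prime] (h : Pairs p G) (H : Subgroup G) : Pairs p ↥H := by
  intro x y hx hy
  have hx' : orderOf (x : G) = p := by rw [Subgroup.orderOf_coe]; exact hx
  have hy' : orderOf (y : G) = p := by rw [Subgroup.orderOf_coe]; exact hy
  have h1 := h (x : G) (y : G) hx' hy'
  have hle : Subgroup.closure ({x, y} : Set ↥H) ≤
      (Subgroup.closure ({(x : G), (y : G)} : Set G)).comap H.subtype := by
    rw [Subgroup.closure_le]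
    intro z hz
    rcases hz with rfl | rfl
    · exact Subgroup.subset_closure (by simp)
    · exact Subgroup.subset_closure (by simp)
  let f : ↥(Subgroup.closure ({x, y} : Set ↥H)) →*
      ↥(Subgroup.closure ({(x : G), (y : G)} : Set G)) :=
    (H.subtype.comp (Subgroup.closure ({x, y} : Set ↥H)).subtype).codRestrict _ (fun z => hle z.2)
  have hf : Function.Injective f := by
    intro a b hab
    have := congrArg Subtype.val hab
    exact Subtype.ext (Subtype.ext this)
  exact Cfsg.Agent.Lib.H4.PSolvSub.isPSolvable_of_injective f hf h1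

/-- "all `p`-subgroups are cyclic" passes to subgroups -/
theorem cyc_subgroup (hcyc : ∀ S : Subgroup G, IsPGroup p S → IsCyclic ↥S) (H : Subgroup G) :
    ∀ S : Subgroup ↥H, IsPGroup p S → IsCyclic ↥S := by
  intro S hS
  have h1 : IsPGroup p ↥(S.map H.subtype) := hS.map _
  haveI h2 : IsCyclic ↥(S.map H.subtype) := hcyc _ h1
  have e := S.equivMapOfInjective H.subtype H.subtype_injective
  exact isCyclic_of_surjective e.symm.toMonoidHom e.symm.surjective

/-- "all `p`-subgroups are cyclic" passes to quotients -/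
theorem cyc_quotient [Finite G] [Fact p.Prime]
    (hcyc : ∀ S : Subgroup G, IsPGroup p S → IsCyclic ↥S) (R : Subgroup G) [R.Normal] :
    ∀ S : Subgroup (G ⧸ R), IsPGroup p S → IsCyclic ↥S := by
  intro S hS
  obtain ⟨Pbar, hSP⟩ := hS.exists_le_sylow
  obtain ⟨P, hP⟩ := Sylow.mapSurjective_surjective (QuotientGroup.mk'_surjective R) p Pbar
  haveI h1 : IsCyclic ↥(P : Subgroup G) := hcyc _ P.isPGroup'
  haveI h2 : IsCyclic ↥((P : Subgroup G).map (QuotientGroup.mk' R)) :=
    isCyclic_of_surjective ((QuotientGroup.mk' R).subgroupMap (P : Subgroup G))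
      (MonoidHom.subgroupMap_surjective _ _)
  have h3 : (Pbar : Subgroup (G ⧸ R)) = (P : Subgroup G).map (QuotientGroup.mk' R) := by
    rw [← hP]; rfl
  rw [h3] at hSP
  exact Subgroup.isCyclic_of_le hSP

/-- elements of order `p` of `G/R`, `R` a normal `p'`-subgroup, lift to elements of order `p` -/
theorem exists_lift_orderOf [Finite G] [hp : Fact p.Prime] (R : Subgroup G) [R.Normal]
    (hR : (Nat.card R).Coprime p) (xbar : G ⧸ R) (hx : orderOf xbar = p) :
    ∃ x : G, orderOf x = p ∧ (x : G ⧸ R) = xbar := by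
  obtain ⟨x0, rfl⟩ := QuotientGroup.mk_surjective xbar
  obtain ⟨j, -, hj⟩ := Nat.exists_mul_mod_eq_one_of_coprime hR hp.out.one_lt
  have himg : ((x0 ^ (Nat.card R * j) : G) : G ⧸ R) = (x0 : G ⧸ R) := by
    rw [QuotientGroup.mk_pow, ← pow_mod_orderOf, hx, hj, pow_one]
  refine ⟨x0 ^ (Nat.card R * j), ?_, himg⟩
  apply orderOf_eq_prime
  · have h1 : x0 ^ p ∈ R := by
      rw [← QuotientGroup.eq_one_iff, QuotientGroup.mk_pow, ← hx]
      exact pow_orderOf_eq_one _
    have h2 : (x0 ^ p) ^ Nat.card R = 1 := by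
      have h3 := pow_card_eq_one' (G := ↥R) (x := ⟨x0 ^ p, h1⟩)
      have h4 : (((⟨x0 ^ p, h1⟩ : ↥R) ^ Nat.card R : ↥R) : G) = ((1 : ↥R) : G) :=
        congrArg Subtype.val h3
      rw [Subgroup.coe_pow, Subgroup.coe_one] at h4
      exact h4
    calc (x0 ^ (Nat.card R * j)) ^ p = ((x0 ^ p) ^ Nat.card R) ^ j := by
          rw [← pow_mul, ← pow_mul, ← pow_mul]
          congr 1
          ring
      _ = 1 := by rw [h2, one_pow]
  · intro h
    rw [h] at himg
    have h5 : (x0 : G ⧸ R) = 1 := by rw [← himg]; rfl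
    rw [h5, orderOf_one] at hx
    exact hp.out.one_lt.ne hx

/-- the pairs hypothesis passes to quotients by normal `p'`-subgroups -/
theorem Pairs.quotient [Finite G] [Fact p.Prime] (h : Pairs p G) (R : Subgroup G) [R.Normal]
    (hR : (Nat.card R).Coprime p) : Pairs p (G ⧸ R) := by
  intro xbar ybar hx hy
  obtain ⟨x, hxo, rfl⟩ := exists_lift_orderOf R hR xbar hx
  obtain ⟨y, hyo, rfl⟩ := exists_lift_orderOf R hR ybar hy
  have h1 := h x y hxo hyo
  have hmap : (Subgroup.closure ({x, y} : Set G)).map (QuotientGroup.mk' R) =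
      Subgroup.closure ({(x : G ⧸ R), (y : G ⧸ R)} : Set (G ⧸ R)) := by
    rw [MonoidHom.map_closure, Set.image_pair]
    rfl
  have h2 : IsPSolvable p ↥((Subgroup.closure ({x, y} : Set G)).map (QuotientGroup.mk' R)) :=
    Cfsg.Agent.Lib.H26.isPSolvable_of_surjective
      ((QuotientGroup.mk' R).subgroupMap (Subgroup.closure ({x, y} : Set G)))
      (MonoidHom.subgroupMap_surjective _ _) h1
  rw [hmap] at h2
  exact h2

/-- `p = 2`: a cyclic Sylow `2`-subgroup makes the group `2`-solvable -/
theorem isPSolvable_two_of_cyclic [Finite G] (Q : Sylow 2 G) (hQ : IsCyclic ↥(Q : Subgroup G)) :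
    IsPSolvable 2 G := by
  haveI : Fact (Nat.Prime 2) := ⟨Nat.prime_two⟩
  by_cases h2 : 2 ∣ Nat.card G
  · obtain ⟨K, hKn, hKQ, -⟩ :=
      Cfsg.Agent.Lib.L0.exists_odd_normal_complement_of_cyclic_sylow Q hQ h2
    refine ⟨2, ![⊥, K, ⊤], rfl, rfl, ?_, ?_, ?_⟩
    · rw [Fin.monotone_iff_le_succ]
      intro i
      fin_cases i
      · exact bot_le
      · exact le_top
    · intro i
      fin_cases i
      · exact Subgroup.normal_bot
      · exact hKn
      · exact Subgroup.normal_top
    · intro i
      fin_cases i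
      · right
        show ((⊥ : Subgroup G).relIndex K).Coprime 2
        rw [Subgroup.relIndex_bot_left, ← hKQ.index_eq_card]
        exact ((Nat.Prime.coprime_iff_not_dvd Nat.prime_two).mpr Q.not_dvd_index).symm
      · left
        show ∃ m : ℕ, K.relIndex ⊤ = 2 ^ m
        rw [Subgroup.relIndex_top_right, hKQ.symm.index_eq_card]
        exact Q.isPGroup'.exists_card_eq
  · exact isPSolvable_of_coprime_card
      ((Nat.Prime.coprime_iff_not_dvd Nat.prime_two).mpr h2).symm

/-- all `p`-subgroups cyclic and a nontrivial normal `p`-subgroup: `G` is `p`-solvable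
(`1 ≤ O_{p'}(C_G(R)) ≤ C_G(R) ≤ G`) -/
theorem isPSolvable_of_normal_pSubgroup [Finite G] [hp : Fact p.Prime]
    (hcyc : ∀ S : Subgroup G, IsPGroup p S → IsCyclic ↥S)
    (R : Subgroup G) [hRn : R.Normal] (hR : IsPGroup p R) (hR1 : R ≠ ⊥) : IsPSolvable p G := by
  obtain ⟨P⟩ : Nonempty (Sylow p G) := inferInstance
  have hRP : R ≤ P := hR.le_sylow_of_normal P
  haveI hPc : IsCyclic ↥(P : Subgroup G) := hcyc _ P.isPGroup'
  set C : Subgroup G := Subgroup.centralizer (R : Set G) with hC
  haveI hCn : C.Normal := by rw [hC]; infer_instance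
  have hPC : (P : Subgroup G) ≤ C := by
    intro a ha
    rw [hC, Subgroup.mem_centralizer_iff]
    intro b hb
    have hc : IsMulCommutative ↥(P : Subgroup G) := IsCyclic.isMulCommutative
    have := hc.is_comm.comm (⟨b, hRP hb⟩ : ↥(P : Subgroup G)) ⟨a, ha⟩
    exact congrArg Subtype.val this
  have hCidx : C.index.Coprime p := by
    have h1 : (P : Subgroup G).index.Coprime p :=
      ((Nat.Prime.coprime_iff_not_dvd hp.out).mpr P.not_dvd_index).symm
    exact Nat.Coprime.coprime_dvd_left (Subgroup.index_dvd_of_le hPC) h1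
  obtain ⟨⟨z, hzR⟩, hz1⟩ := (Subgroup.ne_bot_iff_exists_ne_one).1 hR1
  have hzC : z ∈ C := hPC (hRP hzR)
  set z' : ↥C := ⟨z, hzC⟩ with hz'
  have hz'1 : z' ≠ 1 := by
    intro h
    apply hz1
    apply Subtype.ext
    have h' : ((z' : ↥C) : G) = ((1 : ↥C) : G) := congrArg Subtype.val h
    exact h'
  have hcent : ∀ c : ↥C, c * z' = z' * c := by
    intro c
    apply Subtype.ext
    have := (Subgroup.mem_centralizer_iff.1 c.2) z hzR
    exact this.symm
  have hzp : IsPGroup p (Subgroup.zpowers z') := by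
    have h1 : IsPGroup p (R.subgroupOf C) := hR.comap_subtype
    exact h1.to_le ((Subgroup.zpowers_le).2 (Subgroup.mem_subgroupOf.2 hzR))
  obtain ⟨Q, hQ⟩ := hzp.exists_le_sylow
  have hz'Q : z' ∈ (Q : Subgroup ↥C) := hQ (Subgroup.mem_zpowers z')
  have hQcyc : IsCyclic ↥(Q : Subgroup ↥C) := cyc_subgroup hcyc C _ Q.isPGroup'
  obtain ⟨Q', N, hNn, hNQ⟩ :=
    Cfsg.Agent.Lib.H28.CY.hasNormalPComplement_of_cyclic_of_central Q hQcyc z' hz'Q hz'1 hcent
  haveI := hNn
  have hNmem := Cfsg.Agent.Lib.H2.AE.mem_iff_not_dvd_orderOf_of_isComplement' Q' N hNQ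
  set K : Subgroup G := N.map C.subtype with hK
  have hKC : K ≤ C := Subgroup.map_subtype_le _
  have hKmem : ∀ g : G, g ∈ K ↔ g ∈ C ∧ ¬ p ∣ orderOf g := by
    intro g
    constructor
    · rintro ⟨c, hc, rfl⟩
      refine ⟨c.2, ?_⟩
      have := (hNmem c).1 hc
      simpa using this
    · rintro ⟨hgC, hg⟩
      refine ⟨⟨g, hgC⟩, ?_, rfl⟩
      rw [SetLike.mem_coe, hNmem, Subgroup.orderOf_mk]
      exact hg
  have hKn : K.Normal := by
    refine ⟨fun a ha g => ?_⟩
    rw [hKmem] at ha ⊢
    refine ⟨hCn.conj_mem a ha.1 g, ?_⟩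
    have h1 : orderOf (g * a * g⁻¹) = orderOf a :=
      orderOf_injective (MulAut.conj g).toMonoidHom (MulAut.conj g).injective a
    rw [h1]
    exact ha.2
  refine ⟨3, ![⊥, K, C, ⊤], rfl, rfl, ?_, ?_, ?_⟩
  · rw [Fin.monotone_iff_le_succ]
    intro i
    fin_cases i
    · exact bot_le
    · exact hKC
    · exact le_top
  · intro i
    fin_cases i
    · exact Subgroup.normal_bot
    · exact hKn
    · exact hCn
    · exact Subgroup.normal_top
  · intro i
    fin_cases i
    · right
      show ((⊥ : Subgroup G).relIndex K).Coprime p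
      rw [Subgroup.relIndex_bot_left]
      have h1 : Nat.card K = Nat.card N :=
        (Nat.card_congr (N.equivMapOfInjective C.subtype C.subtype_injective).toEquiv).symm
      rw [h1, ← hNQ.index_eq_card]
      exact ((Nat.Prime.coprime_iff_not_dvd hp.out).mpr Q'.not_dvd_index).symm
    · left
      show ∃ m : ℕ, K.relIndex C = p ^ m
      have h1 : K.subgroupOf C = N := by
        rw [hK]
        exact Subgroup.comap_map_eq_self_of_injective C.subtype_injective _
      rw [Subgroup.relIndex, h1, hNQ.symm.index_eq_card]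
      exact Q'.isPGroup'.exists_card_eq
    · right
      show (C.relIndex ⊤).Coprime p
      rw [Subgroup.relIndex_top_right]
      exact hCidx

end basic

/-- **RED**, induction form. -/
theorem isPSolvable_aux (p : ℕ) [hp : Fact p.Prime]
    (hsimple : ∀ (G : Type u) [Group G] [Finite G] [IsSimpleGroup G], ¬ IsMulCommutative G →
      p ≠ 2 → p ∣ Nat.card G → (∀ P : Sylow p G, IsCyclic ↥(P : Subgroup G)) →
      (∀ x y : G, orderOf x = p → orderOf y = p →
        Cfsg.IsPSolvable p ↥(Subgroup.closure ({x, y} : Set G))) → False) :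
    ∀ n : ℕ, ∀ (G : Type u) [Group G] [Finite G], Nat.card G = n →
      (∀ S : Subgroup G, IsPGroup p S → IsCyclic ↥S) → Pairs p G → IsPSolvable p G := by
  intro n
  induction n using Nat.strong_induction_on with
  | _ n ih =>
  intro G _ _ hn hcyc hpair
  by_cases hpG : p ∣ Nat.card G
  swap
  · exact isPSolvable_of_coprime_card ((Nat.Prime.coprime_iff_not_dvd hp.out).mpr hpG).symm
  by_cases hp2 : p = 2
  · subst hp2
    obtain ⟨Q⟩ : Nonempty (Sylow 2 G) := inferInstance
    exact isPSolvable_two_of_cyclic Q (hcyc _ Q.isPGroup')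
  haveI hnt : Nontrivial G := by
    rw [← Finite.one_lt_card_iff_nontrivial]
    exact lt_of_lt_of_le hp.out.one_lt (Nat.le_of_dvd Nat.card_pos hpG)
  by_cases hs : ∀ N : Subgroup G, N.Normal → N = ⊥ ∨ N = ⊤
  · haveI : IsSimpleGroup G := ⟨hs⟩
    by_cases hcomm : IsMulCommutative G
    · haveI : Group.IsSolvable G := Group.isSolvable_of_comm (fun a b => hcomm.is_comm.comm a b)
      exact Cfsg.Agent.Lib.H1.PSolvOfSolv.isPSolvable_of_isSolvable p G
    · exact (hsimple G hcomm hp2 hpG (fun P => hcyc _ P.isPGroup') hpair).elim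
  · push Not at hs
    obtain ⟨N, hNn, hNbot, hNtop⟩ := hs
    haveI := hNn
    have hNlt : Nat.card N < n := by
      rw [← hn, ← Subgroup.card_mul_index N]
      have h1 : 0 < Nat.card N := Nat.card_pos
      have h2 : N.index ≠ 1 := fun h => hNtop (Subgroup.index_eq_one.1 h)
      have h3 : 0 < N.index := Nat.pos_of_ne_zero (Subgroup.index_ne_zero_of_finite)
      have h4 : 2 ≤ N.index := by omega
      nlinarith
    have hNps : IsPSolvable p ↥N := ih _ hNlt ↥N rfl (cyc_subgroup hcyc N) (hpair.subgroup N)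
    haveI : Nontrivial ↥N := (Subgroup.nontrivial_iff_ne_bot N).mpr hNbot
    obtain ⟨M, hMn, hM1, hM⟩ := Cfsg.Agent.Lib.H10.exists_normal_of_isPSolvable hNps
    rcases hM with hMp | hMc
    · haveI := Cfsg.Agent.Lib.H1.pCore_characteristic p ↥N
      have hRp : IsPGroup p ((pCore p ↥N).map N.subtype) :=
        (Cfsg.Agent.Lib.H1.pCore_isPGroup p ↥N).map _
      have hR1 : (pCore p ↥N).map N.subtype ≠ ⊥ := by
        intro h
        apply hM1
        have h1 : M ≤ pCore p ↥N := Cfsg.Agent.Lib.H1.le_pCore hMn hMp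
        have h2 : pCore p ↥N = ⊥ :=
          (Subgroup.map_eq_bot_iff_of_injective _ N.subtype_injective).1 h
        rw [eq_bot_iff, ← h2]
        exact h1
      exact isPSolvable_of_normal_pSubgroup hcyc ((pCore p ↥N).map N.subtype) hRp hR1
    · set R : Subgroup G := (pPrimeCore p ↥N).map N.subtype with hRdef
      haveI hRn : R.Normal := by rw [hRdef]; infer_instance
      have hRc : (Nat.card R).Coprime p := by
        have h1 : Nat.card R = Nat.card (pPrimeCore p ↥N) :=
          (Nat.card_congr ((pPrimeCore p ↥N).equivMapOfInjective N.subtype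
            N.subtype_injective).toEquiv).symm
        rw [h1]
        exact Cfsg.Agent.Lib.H22.card_pPrimeCore_coprime p
      have hR1 : R ≠ ⊥ := by
        intro h
        apply hM1
        have h1 : M ≤ pPrimeCore p ↥N := Cfsg.Agent.Lib.H22.le_pPrimeCore p M hMn hMc
        have h2 : pPrimeCore p ↥N = ⊥ :=
          (Subgroup.map_eq_bot_iff_of_injective _ N.subtype_injective).1 h
        rw [eq_bot_iff, ← h2]
        exact h1
      have hlt : Nat.card (G ⧸ R) < n := by
        rw [← hn, ← Subgroup.index_eq_card, ← Subgroup.card_mul_index R]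
        have h1 : 1 < Nat.card R := by
          rw [Finite.one_lt_card_iff_nontrivial]
          exact (Subgroup.nontrivial_iff_ne_bot R).mpr hR1
        have h2 : 0 < R.index := Nat.pos_of_ne_zero (Subgroup.index_ne_zero_of_finite)
        nlinarith
      have hq : IsPSolvable p (G ⧸ R) :=
        ih _ hlt (G ⧸ R) rfl (cyc_quotient hcyc R) (hpair.quotient R hRc)
      apply Cfsg.Agent.Lib.H1.PSolvOfSolv.isPSolvable_of_ker_coprime (QuotientGroup.mk' R)
        (QuotientGroup.mk'_surjective R) _ hq
      rw [QuotientGroup.ker_mk']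
      exact hRc

/-- **RED** (S1950): reduction of the "if" direction to nonabelian simple groups, `p` odd. -/
theorem isPSolvable_of_simple_case (p : ℕ) [Fact p.Prime]
    (hsimple : ∀ (G : Type u) [Group G] [Finite G] [IsSimpleGroup G], ¬ IsMulCommutative G →
      p ≠ 2 → p ∣ Nat.card G → (∀ P : Sylow p G, IsCyclic ↥(P : Subgroup G)) →
      (∀ x y : G, orderOf x = p → orderOf y = p →
        Cfsg.IsPSolvable p ↥(Subgroup.closure ({x, y} : Set G))) → False)
    (G : Type u) [Group G] [Finite G] (P : Sylow p G) (hP : IsCyclic ↥(P : Subgroup G))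
    (hpair : ∀ x y : G, orderOf x = p → orderOf y = p →
      Cfsg.IsPSolvable p ↥(Subgroup.closure ({x, y} : Set G))) : Cfsg.IsPSolvable p G :=
  isPSolvable_aux p hsimple _ G rfl
    (fun S hS => Cfsg.Agent.Lib.H28.CY.isCyclic_of_isPGroup_of_cyclic_sylow P hP S hS) hpair

end Cfsg.Agent.Lib.H2.CY
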