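import Mathlib
import Cfsg.Agent.Lib.H2.CYRED

/-!
# S1950 RED block in the exact sigs of `tools/blueprints/S1950_sigs_h12.lean` (helper2)

`isPSolvable_of_normal_pSubgroup` (CASEB), `hyp_quotient` (LIFT), `hyp_subgroup` (SUB), `red` (RED), wrappers of
`Cfsg.Agent.Lib.H2.CYRED`; `red_aux` repeats the induction with a simple case that concludes `IsPSolvable`.
-/

set_option autoImplicit false

namespace Cfsg.Agent.Lib.H2.CYS

open Cfsg Cfsg.Agent.Lib.H2.CY

universe u

section

variable {G : Type*} [Group G] [Finite G] {p : ℕ} [Fact p.Prime]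

/-- all `p`-subgroups are cyclic when one Sylow `p`-subgroup is -/
theorem hcyc_of_sylow (P : Sylow p G) (hP : IsCyclic ↥(P : Subgroup G)) :
    ∀ S : Subgroup G, IsPGroup p S → IsCyclic ↥S :=
  fun S hS => Cfsg.Agent.Lib.H28.CY.isCyclic_of_isPGroup_of_cyclic_sylow P hP S hS

/-- CASEB. -/
theorem isPSolvable_of_normal_pSubgroup (P : Sylow p G) (hP : IsCyclic ↥(P : Subgroup G))
    (R : Subgroup G) [R.Normal] (hR : IsPGroup p R) (hR1 : R ≠ ⊥) : Cfsg.IsPSolvable p G :=
  Cfsg.Agent.Lib.H2.CY.isPSolvable_of_normal_pSubgroup (hcyc_of_sylow P hP) R hR hR1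

/-- LIFT. -/
theorem hyp_quotient (P : Sylow p G) (hP : IsCyclic ↥(P : Subgroup G))
    (hc : ∀ x y : G, orderOf x = p → orderOf y = p → Cfsg.IsPSolvable p ↥(Subgroup.closure ({x, y} : Set G)))
    (N : Subgroup G) [N.Normal] (hN : (Nat.card N).Coprime p) :
    (∀ Q : Sylow p (G ⧸ N), IsCyclic ↥(Q : Subgroup (G ⧸ N))) ∧
    ∀ x y : G ⧸ N, orderOf x = p → orderOf y = p →
      Cfsg.IsPSolvable p ↥(Subgroup.closure ({x, y} : Set (G ⧸ N))) :=
  ⟨fun Q => cyc_quotient (hcyc_of_sylow P hP) N _ Q.isPGroup',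
    Pairs.quotient (G := G) (p := p) hc N hN⟩

/-- SUB. -/
theorem hyp_subgroup (P : Sylow p G) (hP : IsCyclic ↥(P : Subgroup G))
    (hc : ∀ x y : G, orderOf x = p → orderOf y = p → Cfsg.IsPSolvable p ↥(Subgroup.closure ({x, y} : Set G)))
    (H : Subgroup G) :
    (∀ Q : Sylow p ↥H, IsCyclic ↥(Q : Subgroup ↥H)) ∧
    ∀ x y : ↥H, orderOf x = p → orderOf y = p →
      Cfsg.IsPSolvable p ↥(Subgroup.closure ({x, y} : Set ↥H)) :=
  ⟨fun Q => cyc_subgroup (hcyc_of_sylow P hP) H _ Q.isPGroup',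
    Pairs.subgroup (G := G) (p := p) hc H⟩

end

/-- RED, induction form, the simple case concluding `IsPSolvable`. -/
theorem red_aux (p : ℕ) [hp : Fact p.Prime]
    (hS : ∀ (H : Type u) [Group H] [Finite H] [IsSimpleGroup H] (Q : Sylow p H), IsCyclic ↥(Q : Subgroup H) →
      (∀ x y : H, orderOf x = p → orderOf y = p → Cfsg.IsPSolvable p ↥(Subgroup.closure ({x, y} : Set H))) →
      Cfsg.IsPSolvable p H) :
    ∀ n : ℕ, ∀ (G : Type u) [Group G] [Finite G], Nat.card G = n →
      (∀ S : Subgroup G, IsPGroup p S → IsCyclic ↥S) → Pairs p G → IsPSolvable p G := by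
  intro n
  induction n using Nat.strong_induction_on with
  | _ n ih =>
  intro G _ _ hn hcyc hpair
  by_cases hpG : p ∣ Nat.card G
  swap
  · exact isPSolvable_of_coprime_card ((Nat.Prime.coprime_iff_not_dvd hp.out).mpr hpG).symm
  have hnt : Nontrivial G := by
    rw [← Finite.one_lt_card_iff_nontrivial]
    exact lt_of_lt_of_le hp.out.one_lt (Nat.le_of_dvd Nat.card_pos hpG)
  by_cases hs : ∀ N : Subgroup G, N.Normal → N = ⊥ ∨ N = ⊤
  · have : IsSimpleGroup G := ⟨hs⟩
    obtain ⟨Q⟩ : Nonempty (Sylow p G) := inferInstance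
    exact hS G Q (hcyc _ Q.isPGroup') hpair
  · push Not at hs
    obtain ⟨N, hNn, hNbot, hNtop⟩ := hs
    have hNlt : Nat.card N < n := by
      rw [← hn, ← Subgroup.card_mul_index N]
      have h1 : 0 < Nat.card N := Nat.card_pos
      have h2 : N.index ≠ 1 := fun h => hNtop (Subgroup.index_eq_one.1 h)
      have h3 : 0 < N.index := Nat.pos_of_ne_zero (Subgroup.index_ne_zero_of_finite)
      have h4 : 2 ≤ N.index := by omega
      nlinarith
    have hNps : IsPSolvable p ↥N := ih _ hNlt ↥N rfl (cyc_subgroup hcyc N) (hpair.subgroup N)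
    have : Nontrivial ↥N := (Subgroup.nontrivial_iff_ne_bot N).mpr hNbot
    obtain ⟨M, hMn, hM1, hM⟩ := Cfsg.Agent.Lib.H10.exists_normal_of_isPSolvable hNps
    rcases hM with hMp | hMc
    · have := Cfsg.Agent.Lib.H1.pCore_characteristic p ↥N
      have hRp : IsPGroup p ((pCore p ↥N).map N.subtype) :=
        (Cfsg.Agent.Lib.H1.pCore_isPGroup p ↥N).map _
      have hR1 : (pCore p ↥N).map N.subtype ≠ ⊥ := by
        intro h
        apply hM1
        have h1 : M ≤ pCore p ↥N := Cfsg.Agent.Lib.H1.le_pCore hMn hMp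
        have h2 : pCore p ↥N = ⊥ :=
          (Subgroup.map_eq_bot_iff_of_injective _ N.subtype_injective).1 h
        rw [eq_bot_iff, ← h2]
        exact h1
      exact Cfsg.Agent.Lib.H2.CY.isPSolvable_of_normal_pSubgroup hcyc
        ((pCore p ↥N).map N.subtype) hRp hR1
    · set R : Subgroup G := (pPrimeCore p ↥N).map N.subtype with hRdef
      have hRn : R.Normal := by rw [hRdef]; infer_instance
      have hRc : (Nat.card R).Coprime p := by
        have h1 : Nat.card R = Nat.card (pPrimeCore p ↥N) :=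
          (Nat.card_congr ((pPrimeCore p ↥N).equivMapOfInjective N.subtype
            N.subtype_injective).toEquiv).symm
        rw [h1]
        exact Cfsg.Agent.Lib.H22.card_pPrimeCore_coprime p
      have hR1 : R ≠ ⊥ := by
        intro h
        apply hM1
        have h1 : M ≤ pPrimeCore p ↥N := Cfsg.Agent.Lib.H22.le_pPrimeCore p M hMn hMc
        have h2 : pPrimeCore p ↥N = ⊥ :=
          (Subgroup.map_eq_bot_iff_of_injective _ N.subtype_injective).1 h
        rw [eq_bot_iff, ← h2]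
        exact h1
      have hlt : Nat.card (G ⧸ R) < n := by
        rw [← hn, ← Subgroup.index_eq_card, ← Subgroup.card_mul_index R]
        have h1 : 1 < Nat.card R := by
          rw [Finite.one_lt_card_iff_nontrivial]
          exact (Subgroup.nontrivial_iff_ne_bot R).mpr hR1
        have h2 : 0 < R.index := Nat.pos_of_ne_zero (Subgroup.index_ne_zero_of_finite)
        nlinarith
      have hq : IsPSolvable p (G ⧸ R) :=
        ih _ hlt (G ⧸ R) rfl (cyc_quotient hcyc R) (hpair.quotient R hRc)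
      apply Cfsg.Agent.Lib.H1.PSolvOfSolv.isPSolvable_of_ker_coprime (QuotientGroup.mk' R)
        (QuotientGroup.mk'_surjective R) _ hq
      rw [QuotientGroup.ker_mk']
      exact hRc

/-- RED. -/
theorem red (p : ℕ) [Fact p.Prime]
    (hS : ∀ (H : Type u) [Group H] [Finite H] [IsSimpleGroup H] (Q : Sylow p H), IsCyclic ↥(Q : Subgroup H) →
      (∀ x y : H, orderOf x = p → orderOf y = p → Cfsg.IsPSolvable p ↥(Subgroup.closure ({x, y} : Set H))) →
      Cfsg.IsPSolvable p H) :
    ∀ (G : Type u) [Group G] [Finite G] (P : Sylow p G), IsCyclic ↥(P : Subgroup G) →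
      (∀ x y : G, orderOf x = p → orderOf y = p → Cfsg.IsPSolvable p ↥(Subgroup.closure ({x, y} : Set G))) →
      Cfsg.IsPSolvable p G :=
  fun G _ _ P hP hc => red_aux p hS _ G rfl (hcyc_of_sylow P hP) hc

end Cfsg.Agent.Lib.H2.CYS
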