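import Mathlib

/-!
# Coset enumeration for Carmichael's presentation of the alternating groups (abstract part)
-/

set_option autoImplicit false

namespace Cfsg.Agent.Lib.H2.Car

variable {G : Type*} [Group G]

/-- Carmichael's relations on `X 0, …, X m`. -/
structure CarRel (X : ℕ → G) (m : ℕ) : Prop where
  cube : X 0 * X 0 * X 0 = 1
  sq : ∀ j, 1 ≤ j → j ≤ m → X j * X j = 1
  comm : ∀ j l, 1 ≤ j → j + 2 ≤ l → l ≤ m → X l * X j = X j * X l
  inv0 : ∀ l, 2 ≤ l → l ≤ m → X l * X 0 = (X 0)⁻¹ * X l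
  braid : ∀ j, 2 ≤ j → j ≤ m → X j * X (j - 1) * X j = X (j - 1) * X j * X (j - 1)
  braid0 : 1 ≤ m → X 1 * X 0 * X 1 = (X 0)⁻¹ * X 1 * (X 0)⁻¹

/-- `u X m r = X m * X (m-1) * ⋯ * X (m-r+1)`. -/
def u (X : ℕ → G) (m : ℕ) : ℕ → G
  | 0 => 1
  | r + 1 => u X m r * X (m - r)

variable {X : ℕ → G} {m : ℕ}

theorem CarRel.inv0' (h : CarRel X m) (l : ℕ) (h2 : 2 ≤ l) (hl : l ≤ m) :
    X l * (X 0)⁻¹ = X 0 * X l := by
  have := h.inv0 l h2 hl
  have e : X 0 * (X l * X 0) * (X 0)⁻¹ = X 0 * ((X 0)⁻¹ * X l) * (X 0)⁻¹ := by rw [this]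
  simpa [mul_assoc] using e.symm

theorem CarRel.inv_sq (h : CarRel X m) (j : ℕ) (h1 : 1 ≤ j) (hj : j ≤ m) : (X j)⁻¹ = X j :=
  inv_eq_of_mul_eq_one_left (h.sq j h1 hj)

theorem CarRel.inv_cube (h : CarRel X m) : (X 0)⁻¹ = X 0 * X 0 :=
  inv_eq_of_mul_eq_one_left h.cube

theorem u_comm (r k : ℕ) (z : G) (hrk : r + k ≤ m + 1)
    (hz : ∀ l, k ≤ l → l ≤ m → X l * z = z * X l) : u X m r * z = z * u X m r := by
  induction r with
  | zero => simp [u]
  | succ r ih =>
    have h1 : k ≤ m - r := by omega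
    have h2 : m - r ≤ m := by omega
    rw [u, mul_assoc, hz _ h1 h2, ← mul_assoc, ih (by omega), mul_assoc]

theorem u_x0 (h : CarRel X m) (r : ℕ) (hr : r + 1 ≤ m) (z : G) (hz : z = X 0 ∨ z = (X 0)⁻¹) :
    ∃ z', (z' = X 0 ∨ z' = (X 0)⁻¹) ∧ u X m r * z = z' * u X m r := by
  induction r generalizing z with
  | zero => exact ⟨z, hz, by simp [u]⟩
  | succ r ih =>
    have h2 : 2 ≤ m - r := by omega
    have h3 : m - r ≤ m := by omega
    rcases hz with rfl | rfl
    · obtain ⟨z', hz', e⟩ := ih (by omega) (X 0)⁻¹ (Or.inr rfl)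
      refine ⟨z', hz', ?_⟩
      rw [u, mul_assoc, h.inv0 _ h2 h3, ← mul_assoc, e, mul_assoc]
    · obtain ⟨z', hz', e⟩ := ih (by omega) (X 0) (Or.inl rfl)
      refine ⟨z', hz', ?_⟩
      rw [u, mul_assoc, h.inv0' _ h2 h3, ← mul_assoc, e, mul_assoc]

theorem u_braid (h : CarRel X m) (j : ℕ) (hj2 : 2 ≤ j) (hjm : j ≤ m) (r : ℕ)
    (hr1 : m - j + 2 ≤ r) (hr2 : r ≤ m) : u X m r * X j = X (j - 1) * u X m r := by
  induction r, hr1 using Nat.le_induction with
  | base =>
    have e1 : m - (m - j) = j := by omega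
    have e2 : m - (m - j + 1) = j - 1 := by omega
    have hA : u X m (m - j) * X (j - 1) = X (j - 1) * u X m (m - j) := by
      apply u_comm (m - j) (j + 1) _ (by omega)
      intro l hl1 hl2
      exact h.comm (j - 1) l (by omega) (by omega) hl2
    show u X m (m - j + 1 + 1) * X j = X (j - 1) * u X m (m - j + 1 + 1)
    rw [u, u, e1, e2]
    calc u X m (m - j) * X j * X (j - 1) * X j
        = u X m (m - j) * (X j * X (j - 1) * X j) := by simp only [mul_assoc]
      _ = u X m (m - j) * (X (j - 1) * X j * X (j - 1)) := by rw [h.braid j hj2 hjm]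
      _ = (u X m (m - j) * X (j - 1)) * X j * X (j - 1) := by simp only [mul_assoc]
      _ = X (j - 1) * (u X m (m - j) * X j * X (j - 1)) := by rw [hA]; simp only [mul_assoc]
  | succ r hr ih =>
    have h1 : 1 ≤ m - r := by omega
    have h2 : m - r + 2 ≤ j := by omega
    rw [u, mul_assoc, ← h.comm (m - r) j h1 h2 hjm, ← mul_assoc, ih (by omega), mul_assoc]

/-- The transversal. -/
def tr (X : ℕ → G) (m : ℕ) : (Fin (m + 1)) ⊕ Bool → G
  | Sum.inl r => u X m r.val
  | Sum.inr true => u X m m * X 0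
  | Sum.inr false => u X m m * (X 0)⁻¹

theorem u_succ_pred (r : ℕ) (hr : 1 ≤ r) : u X m r = u X m (r - 1) * X (m - (r - 1)) := by
  obtain ⟨r', rfl⟩ : ∃ r', r = r' + 1 := ⟨r - 1, by omega⟩
  rfl

/-- Closure of the cosets under right multiplication by the generators. -/
theorem tr_mul (h : CarRel X m) (hm : 1 ≤ m) (H : Subgroup G) (hH : ∀ j, j < m → X j ∈ H)
    (t : (Fin (m + 1)) ⊕ Bool) (z : G) (hz : (∃ j, j ≤ m ∧ z = X j) ∨ z = (X 0)⁻¹) :
    ∃ a ∈ H, ∃ t' : (Fin (m + 1)) ⊕ Bool, tr X m t * z = a * tr X m t' := by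
  have hX0 : X 0 ∈ H := hH 0 (by omega)
  have hX0' : (X 0)⁻¹ ∈ H := H.inv_mem hX0
  have hzH : ∀ z', (z' = X 0 ∨ z' = (X 0)⁻¹) → z' ∈ H := by
    rintro z' (rfl | rfl)
    · exact hX0
    · exact hX0'
  have hum : u X m m = u X m (m - 1) * X 1 := by
    rw [u_succ_pred m hm]
    congr 2
    omega
  rcases t with ⟨r, hr⟩ | b
  · -- t = u r
    have hr' : r ≤ m := by omega
    rcases hz with ⟨j, hjm, rfl⟩ | rfl
    · show ∃ a ∈ H, ∃ t', u X m r * X j = a * tr X m t'
      by_cases c1 : j + r + 1 ≤ m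
      · -- X j passes through
        by_cases hj0 : j = 0
        · subst hj0
          obtain ⟨z', hz', e⟩ := u_x0 h r (by omega) (X 0) (Or.inl rfl)
          exact ⟨z', hzH z' hz', Sum.inl ⟨r, hr⟩, e⟩
        · refine ⟨X j, hH j (by omega), Sum.inl ⟨r, hr⟩, ?_⟩
          apply u_comm r (j + 2) _ (by omega)
          intro l hl1 hl2
          exact h.comm j l (by omega) hl1 hl2
      · by_cases c2 : j + r = m
        · -- j = m - r
          by_cases hrm : r = m
          · subst hrm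
            have : j = 0 := by omega
            subst this
            exact ⟨1, H.one_mem, Sum.inr true, by simp [tr]⟩
          · refine ⟨1, H.one_mem, Sum.inl ⟨r + 1, by omega⟩, ?_⟩
            have : j = m - r := by omega
            subst this
            simp [tr, u]
        · by_cases c3 : j + r = m + 1
          · -- j = m - r + 1
            refine ⟨1, H.one_mem, Sum.inl ⟨r - 1, by omega⟩, ?_⟩
            have hr1 : 1 ≤ r := by omega
            have e : m - (r - 1) = j := by omega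
            rw [u_succ_pred r hr1, e, mul_assoc, h.sq j (by omega) hjm]
            simp [tr]
          · -- j > m - r + 1
            refine ⟨X (j - 1), hH (j - 1) (by omega), Sum.inl ⟨r, hr⟩, ?_⟩
            exact u_braid h j (by omega) hjm r (by omega) hr'
    · show ∃ a ∈ H, ∃ t', u X m r * (X 0)⁻¹ = a * tr X m t'
      by_cases hrm : r = m
      · subst hrm
        exact ⟨1, H.one_mem, Sum.inr false, by simp [tr]⟩
      · obtain ⟨z', hz', e⟩ := u_x0 h r (by omega) (X 0)⁻¹ (Or.inr rfl)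
        exact ⟨z', hzH z' hz', Sum.inl ⟨r, hr⟩, e⟩
  · -- t = u m * X 0 ^ ±1
    have key : ∀ (w w' : G), (w = X 0 ∨ w = (X 0)⁻¹) → (w' = X 0 ∨ w' = (X 0)⁻¹) →
        ∀ j, 2 ≤ j → j ≤ m → (w * X j = X j * w') →
        ∃ a ∈ H, u X m m * w * X j = a * (u X m m * w') := by
      intro w w' _ _ j hj2 hjm e
      refine ⟨X (j - 1), hH (j - 1) (by omega), ?_⟩
      rw [mul_assoc, e, ← mul_assoc, u_braid h j hj2 hjm m (by omega) le_rfl, mul_assoc]
    have hsw1 : ∀ j, 2 ≤ j → j ≤ m → X 0 * X j = X j * (X 0)⁻¹ := fun j h2 hj =>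
      (h.inv0' j h2 hj).symm
    have hsw2 : ∀ j, 2 ≤ j → j ≤ m → (X 0)⁻¹ * X j = X j * X 0 := fun j h2 hj =>
      (h.inv0 j h2 hj).symm
    have hT : ∀ w, (w = X 0 ∨ w = (X 0)⁻¹) → ∃ t' : (Fin (m + 1)) ⊕ Bool,
        u X m m * w = tr X m t' := by
      rintro w (rfl | rfl)
      · exact ⟨Sum.inr true, rfl⟩
      · exact ⟨Sum.inr false, rfl⟩
    have hb : ∃ w, (w = X 0 ∨ w = (X 0)⁻¹) ∧ tr X m (Sum.inr b) = u X m m * w := by
      cases b
      · exact ⟨(X 0)⁻¹, Or.inr rfl, rfl⟩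
      · exact ⟨X 0, Or.inl rfl, rfl⟩
    obtain ⟨w, hw, hbw⟩ := hb
    rw [hbw]
    have hB1 := h.braid0 hm
    have hx1 : (X 1)⁻¹ = X 1 := h.inv_sq 1 le_rfl hm
    have hB2 : X 1 * (X 0)⁻¹ * X 1 = X 0 * X 1 * X 0 := by
      have : (X 1 * X 0 * X 1)⁻¹ = ((X 0)⁻¹ * X 1 * (X 0)⁻¹)⁻¹ := by rw [hB1]
      simpa [mul_assoc, hx1] using this
    -- multiplication by X 0 or its inverse
    have hcase0 : ∀ z, (z = X 0 ∨ z = (X 0)⁻¹) →
        ∃ a ∈ H, ∃ t', u X m m * w * z = a * tr X m t' := by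
      intro z hz0
      have hc := h.inv_cube
      rcases hw with rfl | rfl <;> rcases hz0 with rfl | rfl
      · exact ⟨1, H.one_mem, Sum.inr false, by simp [tr, mul_assoc, hc]⟩
      · exact ⟨1, H.one_mem, Sum.inl ⟨m, by omega⟩, by simp [tr]⟩
      · exact ⟨1, H.one_mem, Sum.inl ⟨m, by omega⟩, by simp [tr]⟩
      · refine ⟨1, H.one_mem, Sum.inr true, ?_⟩
        have : (X 0)⁻¹ * (X 0)⁻¹ = X 0 := by
          rw [hc]
          have h3 := h.cube
          calc X 0 * X 0 * (X 0 * X 0) = (X 0 * X 0 * X 0) * X 0 := by simp only [mul_assoc]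
            _ = X 0 := by rw [h3, one_mul]
        simp [tr, mul_assoc, this]
    rcases hz with ⟨j, hjm, rfl⟩ | rfl
    · by_cases hj0 : j = 0
      · subst hj0
        exact hcase0 (X 0) (Or.inl rfl)
      · by_cases hj1 : j = 1
        · subst hj1
          rcases hw with rfl | rfl
          · obtain ⟨z', hz', e⟩ := u_x0 h (m - 1) (by omega) (X 0)⁻¹ (Or.inr rfl)
            refine ⟨z', hzH z' hz', Sum.inr false, ?_⟩
            show u X m m * X 0 * X 1 = z' * (u X m m * (X 0)⁻¹)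
            rw [hum]
            calc u X m (m - 1) * X 1 * X 0 * X 1
                = u X m (m - 1) * (X 1 * X 0 * X 1) := by simp only [mul_assoc]
              _ = u X m (m - 1) * ((X 0)⁻¹ * X 1 * (X 0)⁻¹) := by rw [hB1]
              _ = (u X m (m - 1) * (X 0)⁻¹) * X 1 * (X 0)⁻¹ := by simp only [mul_assoc]
              _ = z' * (u X m (m - 1) * X 1 * (X 0)⁻¹) := by rw [e]; simp only [mul_assoc]
          · obtain ⟨z', hz', e⟩ := u_x0 h (m - 1) (by omega) (X 0) (Or.inl rfl)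
            refine ⟨z', hzH z' hz', Sum.inr true, ?_⟩
            show u X m m * (X 0)⁻¹ * X 1 = z' * (u X m m * X 0)
            rw [hum]
            calc u X m (m - 1) * X 1 * (X 0)⁻¹ * X 1
                = u X m (m - 1) * (X 1 * (X 0)⁻¹ * X 1) := by simp only [mul_assoc]
              _ = u X m (m - 1) * (X 0 * X 1 * X 0) := by rw [hB2]
              _ = (u X m (m - 1) * X 0) * X 1 * X 0 := by simp only [mul_assoc]
              _ = z' * (u X m (m - 1) * X 1 * X 0) := by rw [e]; simp only [mul_assoc]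
        · have hj2 : 2 ≤ j := by omega
          rcases hw with rfl | rfl
          · obtain ⟨a, ha, e⟩ := key (X 0) (X 0)⁻¹ (Or.inl rfl) (Or.inr rfl) j hj2 hjm
              (hsw1 j hj2 hjm)
            exact ⟨a, ha, Sum.inr false, e⟩
          · obtain ⟨a, ha, e⟩ := key (X 0)⁻¹ (X 0) (Or.inr rfl) (Or.inl rfl) j hj2 hjm
              (hsw2 j hj2 hjm)
            exact ⟨a, ha, Sum.inr true, e⟩
    · exact hcase0 (X 0)⁻¹ (Or.inr rfl)

/-- Every element of the group generated by `X 0, …, X m` lies in a coset `H * tr t`. -/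
theorem mem_cosets (h : CarRel X m) (hm : 1 ≤ m) (H : Subgroup G) (hH : ∀ j, j < m → X j ∈ H)
    (hgen : Subgroup.closure {g | ∃ j, j ≤ m ∧ g = X j} = ⊤) (g : G) :
    ∃ a ∈ H, ∃ t : (Fin (m + 1)) ⊕ Bool, g = a * tr X m t := by
  have hg : g ∈ Subgroup.closure {g | ∃ j, j ≤ m ∧ g = X j} := by rw [hgen]; trivial
  induction hg using Subgroup.closure_induction_right with
  | one => exact ⟨1, H.one_mem, Sum.inl ⟨0, by omega⟩, by simp [tr, u]⟩
  | mul_right x _ y hy ih =>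
    obtain ⟨a, ha, t, rfl⟩ := ih
    obtain ⟨j, hj, rfl⟩ := hy
    obtain ⟨a', ha', t', e⟩ := tr_mul h hm H hH t (X j) (Or.inl ⟨j, hj, rfl⟩)
    exact ⟨a * a', H.mul_mem ha ha', t', by rw [mul_assoc, e, mul_assoc]⟩
  | mul_inv_cancel x _ y hy ih =>
    obtain ⟨a, ha, t, rfl⟩ := ih
    obtain ⟨j, hj, rfl⟩ := hy
    by_cases hj0 : j = 0
    · subst hj0
      obtain ⟨a', ha', t', e⟩ := tr_mul h hm H hH t (X 0)⁻¹ (Or.inr rfl)
      exact ⟨a * a', H.mul_mem ha ha', t', by rw [mul_assoc, e, mul_assoc]⟩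
    · rw [h.inv_sq j (by omega) hj]
      obtain ⟨a', ha', t', e⟩ := tr_mul h hm H hH t (X j) (Or.inl ⟨j, hj, rfl⟩)
      exact ⟨a * a', H.mul_mem ha ha', t', by rw [mul_assoc, e, mul_assoc]⟩

/-- The resulting bound on the order. -/
theorem card_le (h : CarRel X m) (hm : 1 ≤ m) {K : Type*} [Group K] [Finite K] (ψ : K →* G)
    (hH : ∀ j, j < m → X j ∈ ψ.range)
    (hgen : Subgroup.closure {g | ∃ j, j ≤ m ∧ g = X j} = ⊤) :
    Finite G ∧ Nat.card G ≤ Nat.card K * (m + 3) := by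
  have hsurj : Function.Surjective
      (fun p : K × ((Fin (m + 1)) ⊕ Bool) => ψ p.1 * tr X m p.2) := by
    intro g
    obtain ⟨a, ⟨k, rfl⟩, t, rfl⟩ := mem_cosets h hm ψ.range hH hgen g
    exact ⟨(k, t), rfl⟩
  have hfin : Finite G := Finite.of_surjective _ hsurj
  refine ⟨hfin, ?_⟩
  have := Nat.card_le_card_of_surjective _ hsurj
  rw [Nat.card_prod, Nat.card_eq_fintype_card (α := (Fin (m + 1)) ⊕ Bool)] at this
  simpa [Fintype.card_sum, add_assoc] using this

end Cfsg.Agent.Lib.H2.Car
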