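import Mathlib

/-!
# Carmichael generators of the alternating group
-/

set_option autoImplicit false

namespace Cfsg.Agent.Lib.H2.Car

section abstract

variable {G : Type*} [Group G]

theorem braid_of_cube {a b : G} (ha : a * a = 1) (hb : b * b = 1) (h : (a * b) ^ 3 = 1) :
    a * b * a = b * a * b := by
  have ha' : a⁻¹ = a := inv_eq_of_mul_eq_one_left ha
  have hb' : b⁻¹ = b := inv_eq_of_mul_eq_one_left hb
  have h1 : a * b * (a * b) * (a * b) = 1 := by rw [← h]; simp [pow_succ]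
  have h2 : a * b * a = (b * a * b)⁻¹⁻¹ := by
    rw [inv_inv]
    have : a * b * a * (b * a * b)⁻¹ = 1 := by
      simp only [mul_inv_rev, ha', hb']
      rw [← h1]; simp only [mul_assoc]
    exact eq_of_mul_inv_eq_one this
  rw [h2, inv_inv]

/-- Coxeter relations on `s 0, …, s M`. -/
structure CoxRel (s : ℕ → G) (M : ℕ) : Prop where
  sq : ∀ k, k ≤ M → s k * s k = 1
  comm : ∀ k l, k + 2 ≤ l → l ≤ M → s k * s l = s l * s k
  cube : ∀ k, k + 1 ≤ M → (s k * s (k + 1)) ^ 3 = 1

variable {s : ℕ → G} {M : ℕ}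

theorem CoxRel.r1 (h : CoxRel s M) (hM : 1 ≤ M) : (s 0 * s 1) ^ 3 = 1 := h.cube 0 hM

theorem CoxRel.cancel (h : CoxRel s M) (k l : ℕ) (hk : 2 ≤ k) (hkM : k ≤ M) :
    s 0 * s k * (s 0 * s l) = s k * s l := by
  have h0 := h.sq 0 (by omega)
  calc s 0 * s k * (s 0 * s l) = (s 0 * s k) * s 0 * s l := by simp only [mul_assoc]
    _ = (s k * s 0) * s 0 * s l := by rw [h.comm 0 k (by omega) hkM]
    _ = s k * (s 0 * s 0) * s l := by simp only [mul_assoc]
    _ = s k * s l := by rw [h0, mul_one]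

theorem CoxRel.r2 (h : CoxRel s M) (i : ℕ) (hi : 1 ≤ i) (hiM : i + 1 ≤ M) :
    (s 0 * s (i + 1)) ^ 2 = 1 := by
  rw [pow_two, h.cancel (i + 1) (i + 1) (by omega) hiM, h.sq _ hiM]

theorem CoxRel.r3 (h : CoxRel s M) (i : ℕ) (hiM : i + 2 ≤ M) :
    (s 0 * s (i + 1) * (s 0 * s (i + 2))) ^ 3 = 1 := by
  by_cases hi : 1 ≤ i
  · rw [h.cancel (i + 1) (i + 2) (by omega) (by omega)]
    exact h.cube (i + 1) (by omega)
  · have : i = 0 := by omega
    subst this
    have ha := h.sq 0 (by omega)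
    have hb := h.sq 1 (by omega)
    have hc := h.sq 2 (by omega)
    have hab := braid_of_cube ha hb (h.cube 0 (by omega))
    have hbc := braid_of_cube hb hc (h.cube 1 (by omega))
    have hac := h.comm 0 2 le_rfl (by omega)
    have hc' : (s 2)⁻¹ = s 2 := inv_eq_of_mul_eq_one_left hc
    have hb' : (s 1)⁻¹ = s 1 := inv_eq_of_mul_eq_one_left hb
    have key : s 0 * s 1 * (s 0 * s 2) = (s 1 * s 2) * (s 0 * s 1) * (s 1 * s 2)⁻¹ := by
      rw [mul_inv_rev, hc', hb']
      calc s 0 * s 1 * (s 0 * s 2) = (s 0 * s 1 * s 0) * s 2 := by simp only [mul_assoc]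
        _ = (s 1 * s 0 * s 1) * s 2 := by rw [hab]
        _ = s 1 * s 0 * (s 1 * s 2 * (s 1 * s 1)) := by rw [hb, mul_one]; simp only [mul_assoc]
        _ = s 1 * s 0 * ((s 1 * s 2 * s 1) * s 1) := by simp only [mul_assoc]
        _ = s 1 * s 0 * ((s 2 * s 1 * s 2) * s 1) := by rw [hbc]
        _ = s 1 * (s 0 * s 2) * s 1 * s 2 * s 1 := by simp only [mul_assoc]
        _ = s 1 * (s 2 * s 0) * s 1 * s 2 * s 1 := by rw [hac]
        _ = s 1 * s 2 * (s 0 * s 1) * (s 2 * s 1) := by simp only [mul_assoc]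
    show (s 0 * s (0 + 1) * (s 0 * s (0 + 2))) ^ 3 = 1
    rw [show (0 : ℕ) + 1 = 1 from rfl, show (0 : ℕ) + 2 = 2 from rfl, key, conj_pow,
      h.cube 0 (by omega)]
    simp

theorem CoxRel.r4 (h : CoxRel s M) (i j : ℕ) (hij : i + 1 < j) (hjM : j + 1 ≤ M) :
    (s 0 * s (i + 1) * (s 0 * s (j + 1))) ^ 2 = 1 := by
  by_cases hi : 1 ≤ i
  · rw [h.cancel (i + 1) (j + 1) (by omega) (by omega), pow_two]
    have hc := h.comm (i + 1) (j + 1) (by omega) hjM
    calc s (i + 1) * s (j + 1) * (s (i + 1) * s (j + 1))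
        = s (i + 1) * (s (j + 1) * s (i + 1)) * s (j + 1) := by simp only [mul_assoc]
      _ = s (i + 1) * (s (i + 1) * s (j + 1)) * s (j + 1) := by rw [hc]
      _ = (s (i + 1) * s (i + 1)) * (s (j + 1) * s (j + 1)) := by simp only [mul_assoc]
      _ = 1 := by rw [h.sq _ (by omega), h.sq _ hjM, one_mul]
  · have : i = 0 := by omega
    subst this
    have ha := h.sq 0 (by omega)
    have hb := h.sq 1 (by omega)
    have hd := h.sq (j + 1) hjM
    have had := h.comm 0 (j + 1) (by omega) hjM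
    have hbd := h.comm 1 (j + 1) (by omega) hjM
    show (s 0 * s 1 * (s 0 * s (j + 1))) ^ 2 = 1
    rw [pow_two]
    calc s 0 * s 1 * (s 0 * s (j + 1)) * (s 0 * s 1 * (s 0 * s (j + 1)))
        = s 0 * s 1 * s 0 * (s (j + 1) * s 0) * s 1 * s 0 * s (j + 1) := by simp only [mul_assoc]
      _ = s 0 * s 1 * s 0 * (s 0 * s (j + 1)) * s 1 * s 0 * s (j + 1) := by rw [had]
      _ = s 0 * s 1 * (s 0 * s 0) * (s (j + 1) * s 1) * s 0 * s (j + 1) := by
          simp only [mul_assoc]
      _ = s 0 * s 1 * (s 1 * s (j + 1)) * s 0 * s (j + 1) := by rw [ha, mul_one, hbd]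
      _ = s 0 * (s 1 * s 1) * (s (j + 1) * s 0) * s (j + 1) := by simp only [mul_assoc]
      _ = s 0 * (s 0 * s (j + 1)) * s (j + 1) := by rw [hb, mul_one, had]
      _ = (s 0 * s 0) * (s (j + 1) * s (j + 1)) := by simp only [mul_assoc]
      _ = 1 := by rw [ha, hd, one_mul]

end abstract

section perm

open Equiv

/-- Adjacent transpositions of `Fin N` (trivial when out of range). -/
def sw (N k : ℕ) : Perm (Fin N) :=
  if h : k + 1 < N then swap ⟨k, by omega⟩ ⟨k + 1, h⟩ else 1

theorem sw_of_lt {N k : ℕ} (h : k + 1 < N) : sw N k = swap ⟨k, by omega⟩ ⟨k + 1, h⟩ := by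
  simp [sw, h]

theorem coxRel_sw (m : ℕ) : CoxRel (sw (m + 2)) m where
  sq := fun k hk => by
    rw [sw_of_lt (by omega : k + 1 < m + 2)]
    exact swap_mul_self _ _
  comm := fun k l hkl hl => by
    rw [sw_of_lt (by omega : k + 1 < m + 2), sw_of_lt (by omega : l + 1 < m + 2)]
    apply Equiv.Perm.Disjoint.commute
    apply Equiv.Perm.disjoint_swap_swap
    simp [Fin.ext_iff]
    omega
  cube := fun k hk => by
    rw [sw_of_lt (by omega : k + 1 < m + 2), sw_of_lt (by omega : k + 1 + 1 < m + 2)]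
    have h3 : Equiv.Perm.IsThreeCycle
        (swap (⟨k + 1, by omega⟩ : Fin (m + 2)) ⟨k, by omega⟩ * swap ⟨k + 1, by omega⟩ ⟨k + 1 + 1, by omega⟩) := by
      apply Equiv.Perm.isThreeCycle_swap_mul_swap_same <;> simp [Fin.ext_iff] <;> omega
    rw [swap_comm] at h3
    have := h3.orderOf
    rw [← this]
    exact pow_orderOf_eq_one _

/-- Carmichael's generators, as permutations. -/
def carPerm (m i : ℕ) : Perm (Fin (m + 2)) := sw (m + 2) 0 * sw (m + 2) (i + 1)

theorem carPerm_mem (m i : ℕ) (hi : i < m) : carPerm m i ∈ alternatingGroup (Fin (m + 2)) := by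
  rw [Equiv.Perm.mem_alternatingGroup, carPerm, sw_of_lt (by omega : 0 + 1 < m + 2),
    sw_of_lt (by omega : i + 1 + 1 < m + 2), map_mul, Equiv.Perm.sign_swap, Equiv.Perm.sign_swap]
  · rfl
  · simp [Fin.ext_iff]
  · simp [Fin.ext_iff]

/-- The Carmichael generators generate the alternating group. -/
theorem alternating_le_closure (m : ℕ) (hm : 1 ≤ m) :
    alternatingGroup (Fin (m + 2)) ≤ Subgroup.closure {g | ∃ i, i < m ∧ g = carPerm m i} := by
  set K := Subgroup.closure {g | ∃ i, i < m ∧ g = carPerm m i} with hK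
  have hcox := coxRel_sw m
  have hgen : ∀ i, i < m → carPerm m i ∈ K := fun i hi => Subgroup.subset_closure ⟨i, hi, rfl⟩
  -- `s 0` normalizes `K`
  have hs0 : sw (m + 2) 0 ∈ Subgroup.normalizer (K : Set (Perm (Fin (m + 2)))) := by
    have h00 := hcox.sq 0 (by omega)
    have hinv : (sw (m + 2) 0)⁻¹ = sw (m + 2) 0 := inv_eq_of_mul_eq_one_left h00
    have hconj : ∀ g ∈ K, sw (m + 2) 0 * g * (sw (m + 2) 0)⁻¹ ∈ K := by
      intro g hg
      rw [hK] at hg
      induction hg using Subgroup.closure_induction with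
      | mem x hx =>
        obtain ⟨i, hi, rfl⟩ := hx
        have hii := hcox.sq (i + 1) (by omega)
        have : sw (m + 2) 0 * carPerm m i * (sw (m + 2) 0)⁻¹ = (carPerm m i)⁻¹ := by
          rw [hinv, carPerm, mul_inv_rev, hinv, inv_eq_of_mul_eq_one_left hii, ← mul_assoc,
            h00, one_mul]
        rw [this]
        exact K.inv_mem (hgen i hi)
      | one => simp
      | mul x y _ _ ihx ihy =>
        have : sw (m + 2) 0 * (x * y) * (sw (m + 2) 0)⁻¹
            = (sw (m + 2) 0 * x * (sw (m + 2) 0)⁻¹) * (sw (m + 2) 0 * y * (sw (m + 2) 0)⁻¹) := by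
          group
        rw [this]
        exact K.mul_mem ihx ihy
      | inv x _ ih =>
        have : sw (m + 2) 0 * x⁻¹ * (sw (m + 2) 0)⁻¹ = (sw (m + 2) 0 * x * (sw (m + 2) 0)⁻¹)⁻¹ := by
          group
        rw [this]
        exact K.inv_mem ih
    rw [Subgroup.mem_normalizer_iff]
    intro g
    constructor
    · exact hconj g
    · intro hg
      have := hconj _ hg
      rw [hinv] at this
      have e : sw (m + 2) 0 * (sw (m + 2) 0 * g * sw (m + 2) 0) * sw (m + 2) 0 = g := by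
        calc sw (m + 2) 0 * (sw (m + 2) 0 * g * sw (m + 2) 0) * sw (m + 2) 0
            = (sw (m + 2) 0 * sw (m + 2) 0) * g * (sw (m + 2) 0 * sw (m + 2) 0) := by
              simp only [mul_assoc]
          _ = g := by rw [h00, one_mul, mul_one]
      rw [hinv] at hg
      rw [← e]
      exact this
  -- all adjacent transpositions normalize `K`
  have hsk : ∀ k, k ≤ m → sw (m + 2) k ∈ Subgroup.normalizer (K : Set (Perm (Fin (m + 2)))) := by
    intro k hk
    by_cases hk0 : k = 0
    · subst hk0; exact hs0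
    · have : sw (m + 2) k = sw (m + 2) 0 * carPerm m (k - 1) := by
        rw [carPerm, ← mul_assoc, hcox.sq 0 (by omega), one_mul]
        congr 1
        omega
      rw [this]
      exact Subgroup.mul_mem _ hs0 (Subgroup.le_normalizer (hgen (k - 1) (by omega)))
  have htop : Subgroup.normalizer (K : Set (Perm (Fin (m + 2)))) = ⊤ := by
    rw [eq_top_iff]
    have h1 := Equiv.Perm.mclosure_swap_castSucc_succ (m + 1)
    have h2 : Subgroup.closure (Set.range fun i : Fin (m + 1) => swap i.castSucc i.succ) = ⊤ :=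
      Subgroup.closure_eq_top_of_mclosure_eq_top h1
    rw [← h2, Subgroup.closure_le]
    rintro _ ⟨i, rfl⟩
    have := hsk i.val (by omega)
    rw [sw_of_lt (by omega : i.val + 1 < m + 2)] at this
    exact this
  have hnormal : K.Normal := Subgroup.normalizer_eq_top_iff.1 htop
  -- hence all three-cycles are in `K`
  have h3 : Equiv.Perm.IsThreeCycle (carPerm m 0) := by
    rw [carPerm, sw_of_lt (by omega : 0 + 1 < m + 2), sw_of_lt (by omega : 0 + 1 + 1 < m + 2),
      swap_comm]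
    apply Equiv.Perm.isThreeCycle_swap_mul_swap_same <;> simp [Fin.ext_iff]
  rw [← Equiv.Perm.closure_three_cycles_eq_alternating, Subgroup.closure_le]
  intro σ hσ
  have hc : IsConj (carPerm m 0) σ := by
    rw [Equiv.Perm.isConj_iff_cycleType_eq, h3.cycleType, Equiv.Perm.IsThreeCycle.cycleType hσ]
  obtain ⟨c, hc⟩ := isConj_iff.1 hc
  rw [← hc]
  exact hnormal.conj_mem _ (hgen 0 (by omega)) c

end perm

end Cfsg.Agent.Lib.H2.Car
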