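import Mathlib
import Cfsg.Agent.Lib.H2.Car1
import Cfsg.Agent.Lib.H2.Car2

/-!
# Carmichael's presentation of the alternating groups
-/

set_option autoImplicit false

namespace Cfsg.Agent.Lib.H2.Car

/-- Carmichael's relators on `m` generators. -/
def carRels (m : ℕ) : Set (FreeGroup (Fin m)) :=
  {g : FreeGroup (Fin m) | ∃ i : Fin m, i.val = 0 ∧ g = FreeGroup.of i ^ 3} ∪
   {g | ∃ i : Fin m, 1 ≤ i.val ∧ g = FreeGroup.of i ^ 2} ∪
   {g | ∃ i j : Fin m, j.val = i.val + 1 ∧ g = (FreeGroup.of i * FreeGroup.of j) ^ 3} ∪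
   {g | ∃ i j : Fin m, i.val + 1 < j.val ∧ g = (FreeGroup.of i * FreeGroup.of j) ^ 2}

/-- The presented group. -/
abbrev CarG (m : ℕ) : Type := PresentedGroup (carRels m)

theorem rel_cube {m : ℕ} (i : Fin m) (hi : i.val = 0) :
    (PresentedGroup.of i : CarG m) ^ 3 = 1 := by
  have : FreeGroup.of i ^ 3 ∈ carRels m := Or.inl (Or.inl (Or.inl ⟨i, hi, rfl⟩))
  have h := PresentedGroup.one_of_mem this
  rw [map_pow] at h
  exact h

theorem rel_sq {m : ℕ} (i : Fin m) (hi : 1 ≤ i.val) :
    (PresentedGroup.of i : CarG m) ^ 2 = 1 := by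
  have : FreeGroup.of i ^ 2 ∈ carRels m := Or.inl (Or.inl (Or.inr ⟨i, hi, rfl⟩))
  have h := PresentedGroup.one_of_mem this
  rw [map_pow] at h
  exact h

theorem rel_three {m : ℕ} (i j : Fin m) (hij : j.val = i.val + 1) :
    ((PresentedGroup.of i : CarG m) * PresentedGroup.of j) ^ 3 = 1 := by
  have : (FreeGroup.of i * FreeGroup.of j) ^ 3 ∈ carRels m := Or.inl (Or.inr ⟨i, j, hij, rfl⟩)
  have h := PresentedGroup.one_of_mem this
  rw [map_pow, map_mul] at h
  exact h

theorem rel_two {m : ℕ} (i j : Fin m) (hij : i.val + 1 < j.val) :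
    ((PresentedGroup.of i : CarG m) * PresentedGroup.of j) ^ 2 = 1 := by
  have : (FreeGroup.of i * FreeGroup.of j) ^ 2 ∈ carRels m := Or.inr ⟨i, j, hij, rfl⟩
  have h := PresentedGroup.one_of_mem this
  rw [map_pow, map_mul] at h
  exact h

/-- The generators as a sequence. -/
noncomputable def gen (m : ℕ) (i : ℕ) : CarG m :=
  if h : i < m then PresentedGroup.of ⟨i, h⟩ else 1

theorem gen_of_lt {m i : ℕ} (h : i < m) : gen m i = PresentedGroup.of ⟨i, h⟩ := by
  simp [gen, h]

theorem carRel_gen (m : ℕ) : CarRel (gen (m + 1)) m where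
  cube := by
    have := rel_cube (m := m + 1) ⟨0, by omega⟩ rfl
    rw [gen_of_lt (by omega : 0 < m + 1), ← this]
    simp [pow_succ]
  sq := fun j h1 hj => by
    have := rel_sq (m := m + 1) ⟨j, by omega⟩ h1
    rw [gen_of_lt (by omega : j < m + 1), ← this, pow_two]
  comm := fun j l h1 hjl hl => by
    have hj := rel_sq (m := m + 1) ⟨j, by omega⟩ h1
    have hl' := rel_sq (m := m + 1) ⟨l, by omega⟩ (by show 1 ≤ l; omega)
    have h2 := rel_two (m := m + 1) ⟨j, by omega⟩ ⟨l, by omega⟩ (by show j + 1 < l; omega)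
    rw [gen_of_lt (by omega : j < m + 1), gen_of_lt (by omega : l < m + 1)]
    set a : CarG (m + 1) := PresentedGroup.of ⟨j, by omega⟩
    set b : CarG (m + 1) := PresentedGroup.of ⟨l, by omega⟩
    rw [pow_two] at hj hl' h2
    have ha' : a⁻¹ = a := inv_eq_of_mul_eq_one_left hj
    have hb' : b⁻¹ = b := inv_eq_of_mul_eq_one_left hl'
    have : b * a = (a * b)⁻¹ := by rw [mul_inv_rev, ha', hb']
    rw [this]
    exact inv_eq_of_mul_eq_one_left h2
  inv0 := fun l h2 hl => by
    have hl' := rel_sq (m := m + 1) ⟨l, by omega⟩ (by show 1 ≤ l; omega)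
    have h2' := rel_two (m := m + 1) ⟨0, by omega⟩ ⟨l, by omega⟩ (by show 0 + 1 < l; omega)
    rw [gen_of_lt (by omega : 0 < m + 1), gen_of_lt (by omega : l < m + 1)]
    set a : CarG (m + 1) := PresentedGroup.of ⟨0, by omega⟩
    set b : CarG (m + 1) := PresentedGroup.of ⟨l, by omega⟩
    rw [pow_two] at hl' h2'
    have hb' : b⁻¹ = b := inv_eq_of_mul_eq_one_left hl'
    have e : (a * b)⁻¹ = a * b := inv_eq_of_mul_eq_one_left h2'
    rw [mul_inv_rev, hb'] at e
    calc b * a = a⁻¹ * (a * (b * a)) := by group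
      _ = a⁻¹ * ((a * b) * a) := by simp only [mul_assoc]
      _ = a⁻¹ * ((b * a⁻¹) * a) := by rw [← e]
      _ = a⁻¹ * b := by group
  braid := fun j h2 hj => by
    have ha := rel_sq (m := m + 1) ⟨j - 1, by omega⟩ (by show 1 ≤ j - 1; omega)
    have hb := rel_sq (m := m + 1) ⟨j, by omega⟩ (by show 1 ≤ j; omega)
    have h3 := rel_three (m := m + 1) ⟨j - 1, by omega⟩ ⟨j, by omega⟩ (by show j = j - 1 + 1; omega)
    rw [gen_of_lt (by omega : j < m + 1), gen_of_lt (by omega : j - 1 < m + 1)]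
    rw [pow_two] at ha hb
    exact (braid_of_cube ha hb h3).symm
  braid0 := fun hm => by
    have hb := rel_sq (m := m + 1) ⟨1, by omega⟩ le_rfl
    have h3 := rel_three (m := m + 1) ⟨0, by omega⟩ ⟨1, by omega⟩ rfl
    rw [gen_of_lt (by omega : 0 < m + 1), gen_of_lt (by omega : 1 < m + 1)]
    set a : CarG (m + 1) := PresentedGroup.of ⟨0, by omega⟩
    set b : CarG (m + 1) := PresentedGroup.of ⟨1, by omega⟩
    rw [pow_two] at hb
    have hb' : b⁻¹ = b := inv_eq_of_mul_eq_one_left hb
    have h1 : a * b * (a * b) * (a * b) = 1 := by rw [← h3]; simp [pow_succ]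
    calc b * a * b = a⁻¹ * (a * b * (a * b) * (a * b)) * (b⁻¹ * a⁻¹) := by group
      _ = a⁻¹ * b⁻¹ * a⁻¹ := by rw [h1]; group
      _ = a⁻¹ * b * a⁻¹ := by rw [hb']

theorem closure_gen (m : ℕ) :
    Subgroup.closure {g : CarG (m + 1) | ∃ j, j ≤ m ∧ g = gen (m + 1) j} = ⊤ := by
  rw [eq_top_iff, ← PresentedGroup.closure_range_of, Subgroup.closure_le]
  rintro _ ⟨i, rfl⟩
  apply Subgroup.subset_closure
  refine ⟨i.val, by omega, ?_⟩
  rw [gen_of_lt i.2]

/-- The natural map adding a generator. -/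
noncomputable def incl (m : ℕ) : CarG m →* CarG (m + 1) :=
  PresentedGroup.toGroup (f := fun i : Fin m => (PresentedGroup.of (Fin.castSucc i) : CarG (m + 1)))
    (by
      intro r hr
      rcases hr with ((⟨i, hi, rfl⟩ | ⟨i, hi, rfl⟩) | ⟨i, j, hij, rfl⟩) | ⟨i, j, hij, rfl⟩
      · simpa using rel_cube (Fin.castSucc i) (by simpa using hi)
      · simpa using rel_sq (Fin.castSucc i) (by simpa using hi)
      · simpa using rel_three (Fin.castSucc i) (Fin.castSucc j) (by simpa using hij)
      · simpa using rel_two (Fin.castSucc i) (Fin.castSucc j) (by simpa using hij))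

theorem incl_of (m : ℕ) (i : Fin m) :
    incl m (PresentedGroup.of i) = PresentedGroup.of (Fin.castSucc i) :=
  PresentedGroup.toGroup.of _

theorem gen_mem_range (m j : ℕ) (hj : j < m) : gen (m + 1) j ∈ (incl m).range := by
  refine ⟨PresentedGroup.of ⟨j, hj⟩, ?_⟩
  rw [incl_of, gen_of_lt (by omega : j < m + 1)]
  rfl

/-- The order bound. -/
theorem card_bound : ∀ m : ℕ, 1 ≤ m →
    Finite (CarG m) ∧ 2 * Nat.card (CarG m) ≤ (m + 2).factorial := by
  intro m hm
  induction m, hm using Nat.le_induction with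
  | base =>
    -- one generator of order dividing 3
    set x : CarG 1 := PresentedGroup.of ⟨0, by omega⟩ with hx
    have h3 : x ^ 3 = 1 := rel_cube _ rfl
    have htop : Subgroup.zpowers x = ⊤ := by
      rw [eq_top_iff, ← PresentedGroup.closure_range_of, Subgroup.closure_le]
      rintro _ ⟨i, rfl⟩
      have : i = ⟨0, by omega⟩ := by ext; omega
      rw [this]
      exact Subgroup.mem_zpowers x
    have hfo : IsOfFinOrder x := isOfFinOrder_iff_pow_eq_one.2 ⟨3, by norm_num, h3⟩
    have hcard : Nat.card (CarG 1) = orderOf x := by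
      rw [← Subgroup.card_top, ← htop, Nat.card_zpowers]
    have hle : orderOf x ≤ 3 := Nat.le_of_dvd (by norm_num) (orderOf_dvd_of_pow_eq_one h3)
    refine ⟨Nat.finite_of_card_ne_zero ?_, ?_⟩
    · rw [hcard]
      exact hfo.orderOf_pos.ne'
    · rw [hcard]
      have : (1 + 2).factorial = 6 := by decide
      omega
  | succ m hm ih =>
    obtain ⟨hfin, hcard⟩ := ih
    obtain ⟨hfin', hcard'⟩ := card_le (carRel_gen m) hm (incl m) (gen_mem_range m) (closure_gen m)
    refine ⟨hfin', ?_⟩
    calc 2 * Nat.card (CarG (m + 1)) ≤ 2 * (Nat.card (CarG m) * (m + 3)) :=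
          Nat.mul_le_mul_left 2 hcard'
      _ = (2 * Nat.card (CarG m)) * (m + 3) := by ring
      _ ≤ (m + 2).factorial * (m + 3) := Nat.mul_le_mul_right _ hcard
      _ = (m + 1 + 2).factorial := by
          show _ = (m + 2 + 1).factorial
          rw [Nat.factorial_succ (m + 2)]; ring

/-- The images of the generators in the alternating group. -/
def carAlt (m : ℕ) (i : Fin m) : alternatingGroup (Fin (m + 2)) :=
  ⟨carPerm m i.val, carPerm_mem m i.val i.2⟩

/-- The homomorphism to the alternating group. -/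
noncomputable def toAlt (m : ℕ) : CarG m →* alternatingGroup (Fin (m + 2)) :=
  PresentedGroup.toGroup (f := carAlt m)
    (by
      have hcox := coxRel_sw m
      intro r hr
      rcases hr with ((⟨i, hi, rfl⟩ | ⟨i, hi, rfl⟩) | ⟨i, j, hij, rfl⟩) | ⟨i, j, hij, rfl⟩
      · rw [map_pow, FreeGroup.lift_apply_of]
        apply Subtype.ext
        rw [Subgroup.coe_pow]
        show (carPerm m i.val) ^ 3 = 1
        rw [hi]
        exact hcox.r1 (by have := i.2; omega)
      · rw [map_pow, FreeGroup.lift_apply_of]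
        apply Subtype.ext
        rw [Subgroup.coe_pow]
        show (carPerm m i.val) ^ 2 = 1
        exact hcox.r2 i.val hi (by have := i.2; omega)
      · rw [map_pow, map_mul, FreeGroup.lift_apply_of, FreeGroup.lift_apply_of]
        apply Subtype.ext
        rw [Subgroup.coe_pow, Subgroup.coe_mul]
        show (carPerm m i.val * carPerm m j.val) ^ 3 = 1
        rw [hij]
        exact hcox.r3 i.val (by have := j.2; omega)
      · rw [map_pow, map_mul, FreeGroup.lift_apply_of, FreeGroup.lift_apply_of]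
        apply Subtype.ext
        rw [Subgroup.coe_pow, Subgroup.coe_mul]
        show (carPerm m i.val * carPerm m j.val) ^ 2 = 1
        obtain ⟨j', hj'⟩ : ∃ j', j.val = j' := ⟨_, rfl⟩
        exact hcox.r4 i.val j.val hij (by have := j.2; omega))

theorem toAlt_of (m : ℕ) (i : Fin m) : toAlt m (PresentedGroup.of i) = carAlt m i :=
  PresentedGroup.toGroup.of _

theorem toAlt_surjective (m : ℕ) (hm : 1 ≤ m) : Function.Surjective (toAlt m) := by
  intro σ
  have h1 := alternating_le_closure m hm σ.2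
  have h2 : Subgroup.closure {g | ∃ i, i < m ∧ g = carPerm m i}
      ≤ ((toAlt m).range).map (alternatingGroup (Fin (m + 2))).subtype := by
    rw [Subgroup.closure_le]
    rintro _ ⟨i, hi, rfl⟩
    refine ⟨carAlt m ⟨i, hi⟩, ⟨PresentedGroup.of ⟨i, hi⟩, toAlt_of m _⟩, rfl⟩
  obtain ⟨τ, ⟨g, rfl⟩, hτ⟩ := h2 h1
  exact ⟨g, Subtype.ext hτ⟩

/-- **Carmichael's presentation** of the alternating group of degree `m + 2`. -/
theorem carmichael (m : ℕ) (hm : 1 ≤ m) :
    Nonempty (CarG m ≃* alternatingGroup (Fin (m + 2))) := by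
  obtain ⟨hfin, hcard⟩ := card_bound m hm
  have hsurj := toAlt_surjective m hm
  have hA : 2 * Nat.card (alternatingGroup (Fin (m + 2))) = (m + 2).factorial := by
    rw [two_mul_nat_card_alternatingGroup, Nat.card_perm, Nat.card_fin]
  have hbij : Function.Bijective (toAlt m) :=
    hsurj.bijective_of_nat_card_le (by omega)
  exact ⟨MulEquiv.ofBijective (toAlt m) hbij⟩

end Cfsg.Agent.Lib.H2.Car
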