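import Mathlib
import Cfsg.Agent.Lib.H2.Isolated

set_option autoImplicit false

namespace Cfsg.Agent.Lib.H2

variable {G : Type*} [Group G] [Finite G]

/-- two commuting involutions lie in a common Sylow 2-subgroup -/
theorem exists_sylow_of_commute_involutions {u w : G} (hu : orderOf u = 2) (hw : orderOf w = 2)
    (hc : Commute u w) : ∃ Q : Sylow 2 G, u ∈ Q ∧ w ∈ Q := by
  have : Fact (Nat.Prime 2) := ⟨Nat.prime_two⟩
  have h1 : IsPGroup 2 (Subgroup.zpowers u) := by
    apply IsPGroup.of_card (n := 1)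
    rw [Nat.card_zpowers, hu, pow_one]
  have h2 : IsPGroup 2 (Subgroup.zpowers w) := by
    apply IsPGroup.of_card (n := 1)
    rw [Nat.card_zpowers, hw, pow_one]
  have hui : u⁻¹ = u := inv_of_orderOf_two hu
  have key : ∀ n : G, n ∈ Subgroup.zpowers w → u * n * u = n := by
    intro n hn
    obtain ⟨k, rfl⟩ := Subgroup.mem_zpowers_iff.1 hn
    have := (hc.zpow_right k).eq
    rw [this, mul_assoc, mul_self_of_orderOf_two hu, mul_one]
  have hle : Subgroup.zpowers u ≤ Subgroup.normalizer (Subgroup.zpowers w : Set G) := by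
    rw [Subgroup.zpowers_le, Subgroup.mem_normalizer_iff]
    intro n
    rw [hui]
    constructor
    · intro hn
      rw [key n hn]; exact hn
    · intro hn
      have h5 := key _ hn
      have e : u * (u * n * u) * u = n := by
        simp only [mul_assoc]
        rw [mul_self_of_orderOf_two hu, mul_one, ← mul_assoc, mul_self_of_orderOf_two hu, one_mul]
      rw [e] at h5
      rw [h5]; exact hn
  have h3 : IsPGroup 2 (Subgroup.zpowers u ⊔ Subgroup.zpowers w : Subgroup G) :=
    IsPGroup.to_sup_of_normal_right' h1 h2 hle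
  obtain ⟨Q, hQ⟩ := h3.exists_le_sylow
  exact ⟨Q, hQ (Subgroup.mem_sup_left (Subgroup.mem_zpowers u)),
    hQ (Subgroup.mem_sup_right (Subgroup.mem_zpowers w))⟩

/-- an involution lies in some Sylow 2-subgroup -/
theorem exists_sylow_of_involution {u : G} (hu : orderOf u = 2) : ∃ Q : Sylow 2 G, u ∈ Q := by
  obtain ⟨Q, hQ, -⟩ := exists_sylow_of_commute_involutions hu hu (Commute.refl u)
  exact ⟨Q, hQ⟩

end Cfsg.Agent.Lib.H2
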