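import Mathlib

set_option autoImplicit false

/-!
# The quotient of a finite cyclic group by its `n`-th powers
-/

namespace Cfsg.Agent.Lib.H2

/-- For a finite cyclic group `G` and `n`, there is a surjection onto `ZMod (gcd n |G|)` whose
kernel is exactly the set of `n`-th powers. -/
theorem exists_hom_zmod_gcd (G : Type*) [CommGroup G] [IsCyclic G] [Finite G] (n : ℕ) :
    ∃ ψ : G →* Multiplicative (ZMod (Nat.gcd n (Nat.card G))), Function.Surjective ψ ∧
      (∀ x : G, ψ (x ^ n) = 1) ∧ ∀ u : G, ψ u = 1 → ∃ x : G, x ^ n = u := by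
  set d := Nat.gcd n (Nat.card G) with hd
  have hdN : d ∣ Nat.card G := Nat.gcd_dvd_right _ _
  have hdn : d ∣ n := Nat.gcd_dvd_left _ _
  have hcard : 0 < Nat.card G := Nat.card_pos
  have hdpos : 0 < d := Nat.gcd_pos_of_pos_right _ hcard
  have : NeZero d := ⟨hdpos.ne'⟩
  let e : G ≃* Multiplicative (ZMod (Nat.card G)) := (zmodCyclicMulEquiv ‹IsCyclic G›).symm
  let c : Multiplicative (ZMod (Nat.card G)) →* Multiplicative (ZMod d) :=
    AddMonoidHom.toMultiplicative (ZMod.castHom hdN (ZMod d)).toAddMonoidHom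
  let ψ : G →* Multiplicative (ZMod d) := c.comp e.toMonoidHom
  have hψsurj : Function.Surjective ψ := by
    intro y
    obtain ⟨x, hx⟩ := ZMod.castHom_surjective hdN (Multiplicative.toAdd y)
    refine ⟨e.symm (Multiplicative.ofAdd x), ?_⟩
    show c (e (e.symm (Multiplicative.ofAdd x))) = y
    rw [MulEquiv.apply_symm_apply]
    show Multiplicative.ofAdd ((ZMod.castHom hdN (ZMod d)) x) = y
    rw [hx]
    rfl
  have hpow : ∀ x : G, ψ (x ^ n) = 1 := by
    intro x
    rw [map_pow]
    obtain ⟨k, hk⟩ := hdn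
    rw [hk, pow_mul]
    have : (ψ x) ^ d = 1 := by
      have h1 : orderOf (ψ x) ∣ Nat.card (Multiplicative (ZMod d)) := orderOf_dvd_natCard _
      rw [Nat.card_eq_fintype_card, Fintype.card_multiplicative, ZMod.card] at h1
      exact orderOf_dvd_iff_pow_eq_one.1 h1
    rw [this, one_pow]
  refine ⟨ψ, hψsurj, hpow, ?_⟩
  -- the n-th powers fill the kernel, by counting
  have hle : (powMonoidHom n : G →* G).range ≤ ψ.ker := by
    rintro _ ⟨x, rfl⟩
    rw [MonoidHom.mem_ker]
    exact hpow x
  have hcard_ker : Nat.card ψ.ker * d = Nat.card G := by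
    have h1 := ψ.ker.card_mul_index
    rw [Subgroup.index_ker, MonoidHom.range_eq_top.2 hψsurj, Subgroup.card_top,
      Nat.card_eq_fintype_card (α := Multiplicative (ZMod d)), Fintype.card_multiplicative,
      ZMod.card] at h1
    exact h1
  have hcard_range : Nat.card (powMonoidHom n : G →* G).range * d = Nat.card G := by
    rw [IsCyclic.card_powMonoidHom_range, hd, Nat.gcd_comm n]
    exact Nat.div_mul_cancel (Nat.gcd_dvd_left _ _)
  have heq : (powMonoidHom n : G →* G).range = ψ.ker := by
    apply Subgroup.eq_of_le_of_card_ge hle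
    have : Nat.card ψ.ker * d = Nat.card (powMonoidHom n : G →* G).range * d := by
      rw [hcard_ker, hcard_range]
    exact (Nat.eq_of_mul_eq_mul_right hdpos this).le
  intro u hu
  have : u ∈ (powMonoidHom n : G →* G).range := by
    rw [heq]; exact hu
  obtain ⟨x, hx⟩ := this
  exact ⟨x, hx⟩

end Cfsg.Agent.Lib.H2
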