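import Mathlib
import Cfsg.Agent.Lib.H3.DF0

/-!
# S4316 piece D2 (+ D3'): `⟨b, c⟩` is a plane; a plane is an `IsEpp` group (helper2)
-/

set_option autoImplicit false

universe u

namespace Cfsg.Agent.Lib.H2.DF

open Subgroup Cfsg.Agent.Lib.H3.DF
open scoped Pointwise

variable {Γ : Type u} [Group Γ] [Finite Γ]

/-- An element `≠ 1` of `A` has order `q`. -/
theorem card_zpowers_of_mem {q : ℕ} [Fact q.Prime] {A : Subgroup Γ} (hA : IsE3 q A) {b : Γ}
    (hb : b ∈ A) (hb1 : b ≠ 1) : Nat.card (zpowers b) = q := by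
  rw [Nat.card_zpowers, orderOf_eq_prime (hA.exp b hb) hb1]

/-- Two subgroups of order `q` with one not inside the other meet trivially. -/
theorem inf_zpowers_eq_bot {q : ℕ} [Fact q.Prime] {A : Subgroup Γ} (hA : IsE3 q A) {b c : Γ}
    (hb : b ∈ A) (hb1 : b ≠ 1) (hbc : b ∉ zpowers c) : zpowers b ⊓ zpowers c = ⊥ := by
  have hq : q.Prime := Fact.out
  have hcS := card_zpowers_of_mem hA hb hb1
  have hdvd : Nat.card (zpowers b ⊓ zpowers c : Subgroup Γ) ∣ q :=
    hcS ▸ Subgroup.card_dvd_of_le inf_le_left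
  rcases (Nat.dvd_prime hq).1 hdvd with h | h
  · exact Subgroup.card_eq_one.1 h
  · exfalso
    have h1 : zpowers b ⊓ zpowers c = zpowers b :=
      Subgroup.eq_of_le_of_card_ge inf_le_left (by rw [h, hcS])
    have hle : zpowers b ≤ zpowers c := by rw [← h1]; exact inf_le_right
    exact hbc (hle (mem_zpowers b))

/-- D2. `⟨b, c⟩` is a plane when `c ≠ 1` and `b ∉ ⟨c⟩`. -/
theorem isPlane_sup_zpowers {q : ℕ} [Fact q.Prime] {A : Subgroup Γ} (hA : IsE3 q A) {b c : Γ}
    (hb : b ∈ A) (hc : c ∈ A) (hc1 : c ≠ 1) (hbc : b ∉ zpowers c) :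
    IsPlane q A (zpowers b ⊔ zpowers c) := by
  have hSA : zpowers b ≤ A := (zpowers_le).2 hb
  have hTA : zpowers c ≤ A := (zpowers_le).2 hc
  have hb1 : b ≠ 1 := fun h => hbc (h ▸ one_mem _)
  have hcS := card_zpowers_of_mem hA hb hb1
  have hcT := card_zpowers_of_mem hA hc hc1
  have hinf := inf_zpowers_eq_bot hA hb hb1 hbc
  refine ⟨sup_le hSA hTA, ?_⟩
  set S' : Subgroup A := (zpowers b).subgroupOf A with hS'
  set T' : Subgroup A := (zpowers c).subgroupOf A with hT'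
  haveI : T'.Normal := by
    refine ⟨fun n hn g => ?_⟩
    have : g * n * g⁻¹ = n := by
      apply Subtype.ext
      show (g : Γ) * n * (g : Γ)⁻¹ = n
      rw [hA.comm g g.2 n n.2]
      group
    rw [this]; exact hn
  have hset : ((S' ⊔ T' : Subgroup A) : Set A) = (S' : Set A) * (T' : Set A) :=
    Subgroup.mul_normal S' T'
  have hprod := Cfsg.Agent.Lib.H16.card_mul_set S' T'
  have hinf' : S' ⊓ T' = ⊥ := by
    rw [eq_bot_iff]
    intro x hx
    have hx1 : (x : Γ) ∈ zpowers b ⊓ zpowers c :=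
      ⟨Subgroup.mem_subgroupOf.1 (Subgroup.mem_inf.1 hx).1,
        Subgroup.mem_subgroupOf.1 (Subgroup.mem_inf.1 hx).2⟩
    rw [hinf, Subgroup.mem_bot] at hx1
    rw [Subgroup.mem_bot]
    exact Subtype.ext hx1
  have hc1' : Nat.card (S' ⊓ T' : Subgroup A) = 1 := by
    rw [hinf']; exact Subgroup.card_bot
  have hcS' : Nat.card S' = q := by
    rw [← hcS]; exact Nat.card_congr (Subgroup.subgroupOfEquivOfLe hSA).toEquiv
  have hcT' : Nat.card T' = q := by
    rw [← hcT]; exact Nat.card_congr (Subgroup.subgroupOfEquivOfLe hTA).toEquiv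
  have hsup : Nat.card (S' ⊔ T' : Subgroup A) = q * q := by
    have h1 : Nat.card (S' ⊔ T' : Subgroup A) =
        Nat.card ((S' : Set A) * (T' : Set A) : Set A) := by
      rw [← hset]; rfl
    rw [h1]
    have h2 := hprod
    rw [hc1', mul_one, hcS', hcT'] at h2
    exact h2
  have hsupeq : S' ⊔ T' = (zpowers b ⊔ zpowers c).subgroupOf A :=
    (Subgroup.subgroupOf_sup hSA hTA).symm
  rw [hsupeq] at hsup
  rw [sq, ← hsup]
  exact (Nat.card_congr (Subgroup.subgroupOfEquivOfLe (sup_le hSA hTA)).toEquiv).symm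

/-- D3'. A plane is an `IsEpp` group. -/
theorem isEpp_of_isPlane {q : ℕ} {A B : Subgroup Γ} (hA : IsE3 q A) (hB : IsPlane q A B) :
    Cfsg.Agent.Lib.H16.IsEpp q B :=
  ⟨fun a ha b hb => hA.comm a (hB.1 ha) b (hB.1 hb), fun a ha => hA.exp a (hB.1 ha), hB.2⟩

end Cfsg.Agent.Lib.H2.DF
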