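import Mathlib
import Cfsg.Agent.Lib.H3.DF0
import Cfsg.Agent.Lib.H2.DFD2

/-!
# S4316 piece D3: a plane of `A` avoiding `⟨c⟩` (helper2)
-/

set_option autoImplicit false

universe u

namespace Cfsg.Agent.Lib.H2.DF

open Subgroup Cfsg.Agent.Lib.H3.DF

variable {Γ : Type u} [Group Γ] [Finite Γ]

/-- A subgroup of `A` of order `< q ^ 3` misses an element of `A`. -/
theorem exists_mem_not_mem_of_card_lt {q : ℕ} {A : Subgroup Γ} (hA : IsE3 q A) (P : Subgroup Γ)
    (hP : Nat.card P < q ^ 3) : ∃ x ∈ A, x ∉ P := by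
  by_contra hcon
  push Not at hcon
  have hle : A ≤ P := fun x hx => hcon x hx
  have h1 : Nat.card A ≤ Nat.card P := Subgroup.card_le_of_le hle
  rw [hA.card] at h1
  omega

/-- D3. A plane of `A` avoiding `⟨c⟩`, with generators. -/
theorem exists_compl_plane {q : ℕ} [Fact q.Prime] {A : Subgroup Γ} (hA : IsE3 q A) {c : Γ}
    (hc : c ∈ A) (hc1 : c ≠ 1) :
    ∃ x ∈ A, ∃ y ∈ A, x ≠ 1 ∧ y ∉ zpowers x ∧ IsPlane q A (zpowers x ⊔ zpowers y) ∧
      ∀ b ∈ zpowers x ⊔ zpowers y, b ≠ 1 → b ∉ zpowers c := by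
  have hq : q.Prime := Fact.out
  have hq1 : q < q ^ 3 := by
    calc q = q ^ 1 := (pow_one q).symm
      _ < q ^ 3 := Nat.pow_lt_pow_right hq.one_lt (by norm_num)
  have hq2 : q ^ 2 < q ^ 3 := Nat.pow_lt_pow_right hq.one_lt (by norm_num)
  have hcT := card_zpowers_of_mem hA hc hc1
  obtain ⟨x, hxA, hxc⟩ := exists_mem_not_mem_of_card_lt hA (zpowers c) (by rw [hcT]; exact hq1)
  have hx1 : x ≠ 1 := fun h => hxc (h ▸ one_mem _)
  have hP := isPlane_sup_zpowers hA hxA hc hc1 hxc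
  obtain ⟨y, hyA, hyP⟩ := exists_mem_not_mem_of_card_lt hA (zpowers x ⊔ zpowers c)
    (by rw [hP.2]; exact hq2)
  have hyx : y ∉ zpowers x := fun h => hyP ((le_sup_left : zpowers x ≤ zpowers x ⊔ zpowers c) h)
  have hB : IsPlane q A (zpowers x ⊔ zpowers y) := by
    rw [sup_comm]
    exact isPlane_sup_zpowers hA hyA hxA hx1 hyx
  refine ⟨x, hxA, y, hyA, hx1, hyx, hB, ?_⟩
  intro b hb hb1 hbc
  have hbA : b ∈ A := hB.1 hb
  have hcb : Nat.card (zpowers b) = q := card_zpowers_of_mem hA hbA hb1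
  have hle : zpowers b ≤ zpowers c := (zpowers_le).2 hbc
  have heq : zpowers b = zpowers c := Subgroup.eq_of_le_of_card_ge hle (by rw [hcb, hcT])
  have hcB : c ∈ zpowers x ⊔ zpowers y := by
    have : c ∈ zpowers b := by rw [heq]; exact mem_zpowers c
    exact ((zpowers_le).2 hb) this
  have hle2 : zpowers x ⊔ zpowers c ≤ zpowers x ⊔ zpowers y :=
    sup_le le_sup_left ((zpowers_le).2 hcB)
  have heq2 : zpowers x ⊔ zpowers c = zpowers x ⊔ zpowers y :=
    Subgroup.eq_of_le_of_card_ge hle2 (by rw [hB.2, hP.2])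
  apply hyP
  rw [heq2]
  exact (le_sup_right : zpowers y ≤ zpowers x ⊔ zpowers y) (mem_zpowers y)

end Cfsg.Agent.Lib.H2.DF
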