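import Mathlib
import Cfsg.Prelude.Def_DegreeGraph
import Cfsg.Agent.Lib.L0.CharOps

/-!
# S3670 piece HGRP: a solvable group of order 6048 with a regular orbit on the characters of an abelian
normal subgroup of index 42 (helper2 for helper3)

`H = R ⋊ Rˣ` (the affine group of the ring `R = 𝔽₈ × ℤ/18`, `|R| = 144`, `|Rˣ| = 7 · 6 = 42`), `A = R` the
translations, `L (r, u) = ψ r` for a primitive additive character `ψ = ψ₁ ⊗ ψ₂` of `R`.
-/

set_option autoImplicit false

namespace Cfsg.Agent.Lib.H2.DG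

open Cfsg

section Aff

variable (R : Type*) [CommRing R]

/-- units act on the additive group by multiplication -/
def affAct : Rˣ →* MulAut (Multiplicative R) where
  toFun u :=
    { toFun := fun x => Multiplicative.ofAdd ((u : R) * Multiplicative.toAdd x)
      invFun := fun x => Multiplicative.ofAdd (((u⁻¹ : Rˣ) : R) * Multiplicative.toAdd x)
      left_inv := by intro x; simp
      right_inv := by intro x; simp
      map_mul' := by intro x y; simp [mul_add] }
  map_one' := by ext x; simp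
  map_mul' := by intro u v; ext x; simp [mul_assoc]

theorem affAct_apply (u : Rˣ) (x : Multiplicative R) :
    affAct R u x = Multiplicative.ofAdd ((u : R) * Multiplicative.toAdd x) := rfl

/-- the affine group `R ⋊ Rˣ` -/
abbrev Aff : Type _ := Multiplicative R ⋊[affAct R] Rˣ

instance aff_finite [Finite R] : Finite (Aff R) :=
  Finite.of_equiv _ (SemidirectProduct.equivProd (φ := affAct R)).symm

/-- the translation subgroup -/
def affTr : Subgroup (Aff R) := (SemidirectProduct.rightHom : Aff R →* Rˣ).ker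

theorem mem_affTr (h : Aff R) : h ∈ affTr R ↔ h.right = 1 := Iff.rfl

theorem affTr_normal : (affTr R).Normal := MonoidHom.normal_ker _

theorem affTr_index : (affTr R).index = Nat.card Rˣ := by
  rw [affTr, Subgroup.index_ker,
    MonoidHom.range_eq_top.mpr SemidirectProduct.rightHom_surjective, Subgroup.card_top]

theorem aff_isSolvable : Group.IsSolvable (Aff R) := by
  refine Group.isSolvable_of_ker_le_range (SemidirectProduct.inl : Multiplicative R →* Aff R)
    (SemidirectProduct.rightHom : Aff R →* Rˣ) ?_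
  rw [SemidirectProduct.range_inl_eq_ker_rightHom]

theorem affTr_comm (a b : Aff R) (ha : a ∈ affTr R) (hb : b ∈ affTr R) : a * b = b * a := by
  rw [mem_affTr] at ha hb
  ext
  · simp [SemidirectProduct.mul_left, ha, hb, mul_comm]
  · simp [ha, hb]

variable {R}

/-- the extension of an additive character of `R` to a function on `R ⋊ Rˣ` -/
def affL (ψ : AddChar R ℂ) (h : Aff R) : ℂ := ψ (Multiplicative.toAdd h.left)

theorem affL_one (ψ : AddChar R ℂ) : affL ψ 1 = 1 := by simp [affL]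

theorem affL_mul_of_mem (ψ : AddChar R ℂ) {a : Aff R} (b : Aff R) (ha : a ∈ affTr R) :
    affL ψ (a * b) = affL ψ a * affL ψ b := by
  rw [mem_affTr] at ha
  simp only [affL, SemidirectProduct.mul_left, ha, map_one, MulAut.one_apply, toAdd_mul,
    AddChar.map_add_eq_mul]

/-- the restriction to the translations, as a homomorphism -/
noncomputable def affLHom (ψ : AddChar R ℂ) : affTr R →* ℂˣ :=
  MonoidHom.toHomUnits
    { toFun := fun a => affL ψ a
      map_one' := affL_one ψ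
      map_mul' := fun a b => affL_mul_of_mem ψ (b : Aff R) a.2 }

theorem affL_isCharacter (ψ : AddChar R ℂ) :
    IsCharacter (affTr R) (fun a : affTr R => affL ψ a) :=
  Cfsg.Agent.Lib.L0.isCharacter_of_irr (Cfsg.Agent.Lib.L0.isIrrCharacter_of_hom (affLHom ψ))

theorem affL_conj (ψ : AddChar R ℂ) (h a : Aff R) (ha : a ∈ affTr R) :
    affL ψ (h * a * h⁻¹) = ψ ((h.right : R) * Multiplicative.toAdd a.left) := by
  rw [mem_affTr] at ha
  simp only [affL, SemidirectProduct.mul_left, SemidirectProduct.mul_right,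
    SemidirectProduct.inv_left, ha, mul_one, affAct_apply, toAdd_mul, toAdd_ofAdd, toAdd_inv,
    Units.mul_inv_cancel_left]
  congr 1
  abel

/-- the data of HGRP for the affine group of a finite ring with an additive character with trivial stabilizer -/
theorem aff_data (R : Type) [CommRing R] [Finite R] (ψ : AddChar R ℂ)
    (hψ : ∀ u : Rˣ, u ≠ 1 → ∃ x : R, ψ ((u : R) * x) ≠ ψ x) :
    ∃ (A : Subgroup (Aff R)) (L : Aff R → ℂ), Group.IsSolvable (Aff R) ∧
      Nat.card (Aff R) = Nat.card R * Nat.card Rˣ ∧ A.Normal ∧ A.index = Nat.card Rˣ ∧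
      (∀ a ∈ A, ∀ b ∈ A, a * b = b * a) ∧ IsCharacter A (fun a : A => L a) ∧ L 1 = 1 ∧
      ∀ h : Aff R, h ∉ A → ∃ a ∈ A, L (h * a * h⁻¹) ≠ L a := by
  refine ⟨affTr R, affL ψ, aff_isSolvable R, ?_, affTr_normal R, affTr_index R,
    fun a ha b hb => affTr_comm R a b ha hb, affL_isCharacter ψ, affL_one ψ, ?_⟩
  · rw [SemidirectProduct.card, Nat.card_congr Multiplicative.toAdd]
  · intro h hh
    rw [mem_affTr] at hh
    obtain ⟨x, hx⟩ := hψ h.right hh
    refine ⟨SemidirectProduct.inl (Multiplicative.ofAdd x), ?_, ?_⟩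
    · rw [mem_affTr]; rfl
    · rw [affL_conj ψ h _ (by rw [mem_affTr]; rfl)]
      exact hx

end Aff

/-! ### The ring `𝔽₈ × ℤ/18` -/

/-- the tensor product of two additive characters -/
noncomputable def prodChar {R₁ R₂ : Type*} [AddCommGroup R₁] [AddCommGroup R₂] (ψ₁ : AddChar R₁ ℂ)
    (ψ₂ : AddChar R₂ ℂ) : AddChar (R₁ × R₂) ℂ where
  toFun r := ψ₁ r.1 * ψ₂ r.2
  map_zero_eq_one' := by simp
  map_add_eq_mul' := by
    intro a b
    simp only [Prod.fst_add, Prod.snd_add, AddChar.map_add_eq_mul]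
    ring

theorem prodChar_apply {R₁ R₂ : Type*} [AddCommGroup R₁] [AddCommGroup R₂] (ψ₁ : AddChar R₁ ℂ)
    (ψ₂ : AddChar R₂ ℂ) (r : R₁ × R₂) : prodChar ψ₁ ψ₂ r = ψ₁ r.1 * ψ₂ r.2 := rfl

/-- a primitive character is moved by every `u ≠ 1` -/
theorem exists_ne_of_isPrimitive {R : Type*} [CommRing R] {ψ : AddChar R ℂ} (hψ : ψ.IsPrimitive)
    {u : R} (hu : u ≠ 1) : ∃ x : R, ψ (u * x) ≠ ψ x := by
  have h1 : u - 1 ≠ 0 := sub_ne_zero.mpr hu
  obtain ⟨x, hx⟩ := (AddChar.ne_one_iff).mp (hψ h1)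
  refine ⟨x, fun h => hx ?_⟩
  have h0 : ψ x * ψ (-x) = 1 := by
    rw [← AddChar.map_add_eq_mul, add_neg_cancel, AddChar.map_zero_eq_one]
  rw [AddChar.mulShift_apply, sub_mul, one_mul, AddChar.map_sub_eq_div, h]
  exact div_self (left_ne_zero_of_mul_eq_one h0)

theorem prodChar_moved {R₁ R₂ : Type*} [CommRing R₁] [CommRing R₂] {ψ₁ : AddChar R₁ ℂ}
    {ψ₂ : AddChar R₂ ℂ} (h₁ : ψ₁.IsPrimitive) (h₂ : ψ₂.IsPrimitive) (u : (R₁ × R₂)ˣ) (hu : u ≠ 1) :
    ∃ x : R₁ × R₂, prodChar ψ₁ ψ₂ ((u : R₁ × R₂) * x) ≠ prodChar ψ₁ ψ₂ x := by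
  have hu' : (u : R₁ × R₂) ≠ 1 := fun h => hu (Units.ext h)
  by_cases h1 : (u : R₁ × R₂).1 = 1
  · have h2 : (u : R₁ × R₂).2 ≠ 1 := fun h2 => hu' (Prod.ext h1 h2)
    obtain ⟨x, hx⟩ := exists_ne_of_isPrimitive h₂ h2
    refine ⟨(0, x), ?_⟩
    simpa [prodChar_apply] using hx
  · obtain ⟨x, hx⟩ := exists_ne_of_isPrimitive h₁ h1
    refine ⟨(x, 0), ?_⟩
    simpa [prodChar_apply] using hx

/-- a nontrivial additive character of `𝔽₈` -/
theorem exists_primitive_F8 : ∃ ψ : AddChar (GaloisField 2 3) ℂ, ψ.IsPrimitive := by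
  obtain ⟨ψ, hψ⟩ := (AddChar.exists_apply_ne_zero (α := GaloisField 2 3) (a := 1)).mpr one_ne_zero
  exact ⟨ψ, AddChar.IsPrimitive.of_ne_one (fun h => hψ (by rw [h]; rfl))⟩

theorem card_ring : Nat.card (GaloisField 2 3 × ZMod 18) = 144 := by
  rw [Nat.card_prod, GaloisField.card 2 3 (by norm_num), Nat.card_zmod]
  norm_num

theorem card_ring_units : Nat.card (GaloisField 2 3 × ZMod 18)ˣ = 42 := by
  rw [Nat.card_congr (MulEquiv.prodUnits (M := GaloisField 2 3) (N := ZMod 18)).toEquiv,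
    Nat.card_prod, Nat.card_units, GaloisField.card 2 3 (by norm_num), Nat.card_eq_fintype_card,
    ZMod.card_units_eq_totient 18]
  decide

/-- **HGRP**. -/
theorem exists_solvable_6048_data : ∃ (H : Type) (_ : Group H) (_ : Fintype H) (A : Subgroup H) (L : H → ℂ),
    Group.IsSolvable H ∧ Nat.card H = 6048 ∧ A.Normal ∧ A.index = 42 ∧ (∀ a ∈ A, ∀ b ∈ A, a * b = b * a) ∧
    IsCharacter A (fun a : A => L a) ∧ L 1 = 1 ∧ ∀ h : H, h ∉ A → ∃ a ∈ A, L (h * a * h⁻¹) ≠ L a := by
  obtain ⟨ψ₁, hψ₁⟩ := exists_primitive_F8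
  have hψ₂ := ZMod.isPrimitive_stdAddChar 18
  obtain ⟨A, L, h1, h2, h3, h4, h5, h6, h7, h8⟩ :=
    aff_data (GaloisField 2 3 × ZMod 18) (prodChar ψ₁ ZMod.stdAddChar)
      (prodChar_moved hψ₁ hψ₂)
  rw [card_ring, card_ring_units] at h2
  rw [card_ring_units] at h4
  exact ⟨Aff (GaloisField 2 3 × ZMod 18), inferInstance, Fintype.ofFinite _, A, L, h1, h2, h3, h4, h5,
    h6, h7, h8⟩

end Cfsg.Agent.Lib.H2.DG
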