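import Mathlib

/-!
# Linear algebra for S5877 (helper2): eigenspaces of operators that commute up to a root of unity
-/

set_option autoImplicit false
set_option linter.unusedSectionVars false
set_option linter.style.haveILetI false

open Module

namespace Cfsg.Agent.Lib.H2.Ex5

variable {F : Type*} [Field F] {V : Type*} [AddCommGroup V] [Module F V] [FiniteDimensional F V]

theorem finrank_biSup_eq_sum {ι : Type*} [DecidableEq ι] (K : ι → Submodule F V)
    (hK : iSupIndep K) (s : Finset ι) :
    finrank F ↥(⨆ t ∈ s, K t) = ∑ t ∈ s, finrank F (K t) := by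
  induction s using Finset.induction_on with
  | empty => simp
  | insert a s ha ih =>
    rw [Finset.iSup_insert, Finset.sum_insert ha, ← ih]
    have hd : Disjoint (K a) (⨆ t ∈ s, K t) := by
      have := hK.disjoint_biSup (x := a) (y := (s : Set ι)) (by simpa using ha)
      simpa using this
    have := Submodule.finrank_sup_add_finrank_inf_eq (K a) (⨆ t ∈ s, K t)
    rw [hd.eq_bot, finrank_bot, add_zero] at this
    exact this

theorem finrank_biSup_le_sum {ι : Type*} [DecidableEq ι] (K : ι → Submodule F V) (s : Finset ι) :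
    finrank F ↥(⨆ t ∈ s, K t) ≤ ∑ t ∈ s, finrank F (K t) := by
  induction s using Finset.induction_on with
  | empty => simp
  | insert a s ha ih =>
    rw [Finset.iSup_insert, Finset.sum_insert ha]
    exact (Submodule.finrank_add_le_finrank_add_finrank _ _).trans (Nat.add_le_add_left ih _)

/-- subspaces of `U` lying in eigenspaces of `g` for distinct eigenvalues have total dimension at
most `dim U` -/
theorem sum_finrank_le_of_eigen (g : Module.End F V) (U : Submodule F V) {ι : Type*} [Fintype ι]
    [DecidableEq ι] (μ : ι → F) (hμ : Function.Injective μ) (K : ι → Submodule F V)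
    (hK : ∀ t, K t ≤ g.eigenspace (μ t) ⊓ U) :
    ∑ t, finrank F (K t) ≤ finrank F U := by
  have hind : iSupIndep K :=
    ((Module.End.eigenspaces_iSupIndep g).comp hμ).mono (fun t => (hK t).trans inf_le_left)
  rw [← finrank_biSup_eq_sum K hind Finset.univ]
  apply Submodule.finrank_mono
  apply iSup₂_le
  intro t _
  exact (hK t).trans inf_le_right

/-- **Shift lemma.** If `g x = θ x g` on the `x`-invariant subspace `U`, `θ` a primitive `r`-th
root of unity, then every eigenspace of `g` meets `U` in dimension at most `dim U / r`. -/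
theorem shift_lemma {r : ℕ} {θ : F} (hθ : IsPrimitiveRoot θ r)
    (g : Module.End F V) (x : (Module.End F V)ˣ) (U : Submodule F V)
    (hxU : ∀ v ∈ U, (x : Module.End F V) v ∈ U)
    (hgx : ∀ v ∈ U, g ((x : Module.End F V) v) = θ • (x : Module.End F V) (g v))
    (c : F) (hc : c ≠ 0) :
    r * finrank F ↥(g.eigenspace c ⊓ U) ≤ finrank F U := by
  classical
  set W := g.eigenspace c ⊓ U with hW
  have key : ∀ k : ℕ, ∀ v ∈ W, ((x : Module.End F V) ^ k) v ∈ U ∧
      g (((x : Module.End F V) ^ k) v) = (θ ^ k * c) • ((x : Module.End F V) ^ k) v := by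
    intro k
    induction k with
    | zero =>
      intro v hv
      rw [hW, Submodule.mem_inf, Module.End.mem_eigenspace_iff] at hv
      refine ⟨by simpa using hv.2, ?_⟩
      simp [hv.1]
    | succ k ih =>
      intro v hv
      obtain ⟨h1, h2⟩ := ih v hv
      rw [pow_succ', Module.End.mul_apply]
      refine ⟨hxU _ h1, ?_⟩
      rw [hgx _ h1, h2, map_smul, smul_smul, pow_succ]
      congr 1
      ring
  have hinj : ∀ k : ℕ, Function.Injective ((x : Module.End F V) ^ k) := by
    intro k
    have : ((x ^ k : (Module.End F V)ˣ) : Module.End F V) = (x : Module.End F V) ^ k :=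
      Units.val_pow_eq_pow_val x k
    rw [← this]
    intro a b hab
    have h1 := congrArg (((x ^ k)⁻¹ : (Module.End F V)ˣ) : Module.End F V) hab
    rwa [← Module.End.mul_apply, ← Module.End.mul_apply, ← Units.val_mul, inv_mul_cancel,
      Units.val_one, Module.End.one_apply, Module.End.one_apply] at h1
  have hfin : ∀ t : Fin r, finrank F ↥(W.map ((x : Module.End F V) ^ t.val)) = finrank F W := by
    intro t
    exact (Submodule.equivMapOfInjective _ (hinj t.val) W).finrank_eq.symm
  have hsum := sum_finrank_le_of_eigen g U (fun t : Fin r => θ ^ t.val * c) (by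
      intro a b hab
      have h1 : θ ^ a.val = θ ^ b.val := mul_right_cancel₀ hc hab
      exact Fin.ext (hθ.pow_inj a.2 b.2 h1))
    (fun t : Fin r => W.map ((x : Module.End F V) ^ t.val)) (by
      intro t w hw
      obtain ⟨v, hv, rfl⟩ := hw
      obtain ⟨h1, h2⟩ := key t.val v hv
      rw [Submodule.mem_inf, Module.End.mem_eigenspace_iff]
      exact ⟨h2, h1⟩)
  simp only [hfin, Finset.sum_const, Finset.card_univ, Fintype.card_fin, smul_eq_mul] at hsum
  exact hsum

/-- the projection onto the `ζ^j`-eigenspace of an operator `T` with `T^r = 1` -/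
noncomputable def cproj (r : ℕ) (ζ : F) (T : Module.End F V) (j : ℕ) : Module.End F V :=
  (r : F)⁻¹ • ∑ i ∈ Finset.range r, (ζ ^ (j * i))⁻¹ • T ^ i

theorem T_mul_cproj {r : ℕ} {ζ : F} (hr : 0 < r) (hζ : ζ ^ r = 1) (T : Module.End F V)
    (hT : T ^ r = 1) (j : ℕ) : T * cproj r ζ T j = ζ ^ j • cproj r ζ T j := by
  have hζ0 : ζ ≠ 0 := by
    rintro rfl
    rw [zero_pow hr.ne'] at hζ
    exact zero_ne_one hζ
  set f : ℕ → Module.End F V := fun i => (ζ ^ (j * i))⁻¹ • T ^ i with hf
  have h1 : ∀ i, T * f i = ζ ^ j • f (i + 1) := by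
    intro i
    rw [hf]
    simp only
    rw [mul_smul_comm, ← pow_succ', smul_smul]
    congr 1
    rw [mul_add, mul_one, pow_add, mul_inv]
    field_simp
  have h2 : f r = f 0 := by
    rw [hf]
    simp only
    rw [hT, mul_zero, pow_zero, pow_zero, pow_mul', hζ, one_pow]
  have h3 : ∑ i ∈ Finset.range r, f (i + 1) = ∑ i ∈ Finset.range r, f i := by
    have e1 := Finset.sum_range_succ f r
    have e2 := Finset.sum_range_succ' f r
    rw [e1, h2] at e2
    exact (add_right_cancel e2).symm
  unfold cproj
  rw [mul_smul_comm, Finset.mul_sum, smul_comm]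
  congr 1
  rw [Finset.sum_congr rfl (fun i _ => h1 i), ← Finset.smul_sum, h3]

theorem sum_cproj {r : ℕ} {ζ : F} (hζ : IsPrimitiveRoot ζ r) (hr : 0 < r) (hr0 : (r : F) ≠ 0)
    (T : Module.End F V) : ∑ j ∈ Finset.range r, cproj r ζ T j = 1 := by
  have hζ0 : ζ ≠ 0 := hζ.ne_zero hr.ne'
  unfold cproj
  rw [← Finset.smul_sum, Finset.sum_comm]
  have h1 : ∀ i ∈ Finset.range r, ∑ j ∈ Finset.range r, (ζ ^ (j * i))⁻¹ • T ^ i =
      (if i = 0 then (r : F) else 0) • T ^ i := by
    intro i hi
    rw [← Finset.sum_smul]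
    congr 1
    split_ifs with h0
    · subst h0
      simp
    · have hi' : i < r := Finset.mem_range.1 hi
      have hne : (ζ ^ i)⁻¹ ≠ 1 := by
        intro h
        have h2 : ζ ^ i = 1 := by rwa [inv_eq_one] at h
        have := hζ.dvd_of_pow_eq_one i h2
        exact h0 (Nat.eq_zero_of_dvd_of_lt this hi')
      have h3 : ∀ j, (ζ ^ (j * i))⁻¹ = ((ζ ^ i)⁻¹) ^ j := by
        intro j
        rw [mul_comm, pow_mul, inv_pow]
      rw [Finset.sum_congr rfl (fun j _ => h3 j), geom_sum_eq hne, inv_pow, ← pow_mul, mul_comm,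
        pow_mul, hζ.pow_eq_one, one_pow, inv_one, sub_self, zero_div]
  rw [Finset.sum_congr rfl h1, Finset.sum_eq_single 0]
  · rw [if_pos rfl, pow_zero, smul_smul, inv_mul_cancel₀ hr0, one_smul]
  · intro i _ hi0
    rw [if_neg hi0, zero_smul]
  · intro h
    exact absurd (Finset.mem_range.2 hr) h

theorem cproj_apply_mem {r : ℕ} {ζ : F} (T : Module.End F V) (W : Submodule F V)
    (hW : ∀ w ∈ W, T w ∈ W) (j : ℕ) (w : V) (hw : w ∈ W) : cproj r ζ T j w ∈ W := by
  have hpow : ∀ i : ℕ, ∀ w ∈ W, (T ^ i) w ∈ W := by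
    intro i
    induction i with
    | zero => intro w hw; simpa using hw
    | succ i ih =>
      intro w hw
      rw [pow_succ', Module.End.mul_apply]
      exact hW _ (ih w hw)
  unfold cproj
  rw [LinearMap.smul_apply, LinearMap.sum_apply]
  apply Submodule.smul_mem
  apply Submodule.sum_mem
  intro i _
  rw [LinearMap.smul_apply]
  exact Submodule.smul_mem _ _ (hpow i w hw)

/-- a `T`-invariant subspace is spanned by its intersections with the eigenspaces of `T`, when
`T^r = 1` and the `r`-th roots of unity are available -/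
theorem finrank_le_sum_inf {r : ℕ} {ζ : F} (hζ : IsPrimitiveRoot ζ r) (hr : 0 < r)
    (hr0 : (r : F) ≠ 0) (T : Module.End F V) (hT : T ^ r = 1) (W : Submodule F V)
    (hW : ∀ w ∈ W, T w ∈ W) :
    finrank F W ≤ ∑ j ∈ Finset.range r, finrank F ↥(W ⊓ T.eigenspace (ζ ^ j)) := by
  classical
  refine le_trans ?_ (finrank_biSup_le_sum (fun j => W ⊓ T.eigenspace (ζ ^ j)) (Finset.range r))
  apply Submodule.finrank_mono
  intro w hw
  have h1 : w = ∑ j ∈ Finset.range r, cproj r ζ T j w := by
    rw [← LinearMap.sum_apply, sum_cproj hζ hr hr0 T, Module.End.one_apply]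
  rw [h1]
  apply Submodule.sum_mem
  intro j hj
  apply Submodule.mem_iSup_of_mem j
  apply Submodule.mem_iSup_of_mem hj
  rw [Submodule.mem_inf, Module.End.mem_eigenspace_iff]
  refine ⟨cproj_apply_mem T W hW j w hw, ?_⟩
  rw [← Module.End.mul_apply, T_mul_cproj hr hζ.pow_eq_one T hT j, LinearMap.smul_apply]

/-- if `v` and `x v` are `c`-eigenvectors of `g`, all `g`-conjugates of `x` agree at `v` -/
theorem eigen_conj_fix (g : (Module.End F V)ˣ) (x : Module.End F V) (c : F) (hc : c ≠ 0) (v : V)
    (hv : (g : Module.End F V) v = c • v)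
    (hxv : (g : Module.End F V) (x v) = c • x v) (j : ℕ) :
    ((((g⁻¹ : (Module.End F V)ˣ) : Module.End F V) ^ j) * x * (g : Module.End F V) ^ j) v = x v := by
  have h1 : ∀ w : V, (g : Module.End F V) w = c • w →
      ((g⁻¹ : (Module.End F V)ˣ) : Module.End F V) w = c⁻¹ • w := by
    intro w hw
    have h2 : ((g⁻¹ : (Module.End F V)ˣ) : Module.End F V) ((g : Module.End F V) w) = w := by
      rw [← Module.End.mul_apply, ← Units.val_mul, inv_mul_cancel, Units.val_one,
        Module.End.one_apply]
    rw [hw, map_smul] at h2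
    rw [← h2, smul_smul, inv_mul_cancel₀ hc, one_smul, h2]
  have h3 : ∀ j : ℕ, ((g : Module.End F V) ^ j) v = c ^ j • v := by
    intro j
    induction j with
    | zero => simp
    | succ j ih => rw [pow_succ', Module.End.mul_apply, ih, map_smul, hv, smul_smul, pow_succ]
  have h4 : ∀ j : ℕ, ((((g⁻¹ : (Module.End F V)ˣ) : Module.End F V)) ^ j) (x v) =
      (c⁻¹) ^ j • x v := by
    intro j
    induction j with
    | zero => simp
    | succ j ih =>
      rw [pow_succ', Module.End.mul_apply, ih, map_smul, h1 _ hxv, smul_smul, pow_succ]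
  rw [Module.End.mul_apply, Module.End.mul_apply, h3, map_smul, map_smul, h4, smul_smul,
    ← mul_pow, mul_inv_cancel₀ hc, one_pow, one_smul]

/-- Grassmann: `W` and its preimage under an invertible `x` meet in dimension `≥ 2 dim W - n` -/
theorem finrank_inf_comap (W : Submodule F V) (x : (Module.End F V)ˣ) :
    2 * finrank F W ≤ finrank F V + finrank F ↥(W ⊓ W.comap (x : Module.End F V)) := by
  set e : V ≃ₗ[F] V := LinearEquiv.ofLinear (x : Module.End F V)
    ((x⁻¹ : (Module.End F V)ˣ) : Module.End F V)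
    (by rw [← Module.End.mul_eq_comp, ← Units.val_mul, mul_inv_cancel, Units.val_one]; rfl)
    (by rw [← Module.End.mul_eq_comp, ← Units.val_mul, inv_mul_cancel, Units.val_one]; rfl) with he
  have h1 : W.comap (x : Module.End F V) = W.map (e.symm : V →ₗ[F] V) := by
    rw [← Submodule.comap_equiv_eq_map_symm]
    rfl
  have h2 : finrank F ↥(W.comap (x : Module.End F V)) = finrank F W := by
    rw [h1]
    exact LinearEquiv.finrank_map_eq e.symm W
  have h3 := Submodule.finrank_sup_add_finrank_inf_eq W (W.comap (x : Module.End F V))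
  have h4 : finrank F ↥(W ⊔ W.comap (x : Module.End F V)) ≤ finrank F V := Submodule.finrank_le _
  rw [h2] at h3
  omega

end Cfsg.Agent.Lib.H2.Ex5
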