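import Mathlib
import Cfsg.Agent.Lib.H2.Ex5A

/-!
# Two eigenspace bounds for S5877 (helper2)

`lemmaP`: `g⁻¹ y g = y l` with `l` of order `r` commuting with `g` and `y`.
`lemmaQ`: `g⁻¹ a g = a u` with `u` of order `r` commuting with `g`, and `a u = κ u a`.
In both cases every eigenspace of `g` has dimension at most `2n/r`.
-/

set_option autoImplicit false
set_option linter.unusedSectionVars false
set_option linter.style.haveILetI false

open Module

namespace Cfsg.Agent.Lib.H2.Ex5

theorem tri_fiber (r : ℕ) (hr : r.Prime) (s : ℕ) :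
    ((Finset.range r).filter (fun k => (∑ i ∈ Finset.range (k + 1), i) % r = s)).card ≤ 2 := by
  haveI : Fact r.Prime := ⟨hr⟩
  rcases Finset.eq_empty_or_nonempty
    ((Finset.range r).filter (fun k => (∑ i ∈ Finset.range (k + 1), i) % r = s)) with h | ⟨k₀, hk₀⟩
  · rw [h]; simp
  · rw [Finset.mem_filter, Finset.mem_range] at hk₀
    have hsub : (Finset.range r).filter (fun k => (∑ i ∈ Finset.range (k + 1), i) % r = s) ⊆
        {k₀, r - 1 - k₀} := by
      intro k hk
      rw [Finset.mem_filter, Finset.mem_range] at hk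
      rw [Finset.mem_insert, Finset.mem_singleton]
      have h1 : ((∑ i ∈ Finset.range (k + 1), i : ℕ) : ZMod r) =
          ((∑ i ∈ Finset.range (k₀ + 1), i : ℕ) : ZMod r) := by
        rw [ZMod.natCast_eq_natCast_iff']
        rw [hk.2, hk₀.2]
      have h2 : ∀ m : ℕ, ((∑ i ∈ Finset.range (m + 1), i : ℕ) : ZMod r) * 2 =
          ((m : ZMod r) + 1) * (m : ZMod r) := by
        intro m
        have := Finset.sum_range_id_mul_two (m + 1)
        have h3 := congrArg (fun t : ℕ => (t : ZMod r)) this
        simp only [Nat.cast_mul, Nat.cast_ofNat, Nat.add_sub_cancel, Nat.cast_add, Nat.cast_one]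
          at h3
        exact h3
      have h4 : ((k : ZMod r) - (k₀ : ZMod r)) * ((k : ZMod r) + (k₀ : ZMod r) + 1) = 0 := by
        have := congrArg (fun t : ZMod r => t * 2) h1
        simp only [h2] at this
        linear_combination this
      rcases mul_eq_zero.1 h4 with h5 | h5
      · left
        have h6 : (k : ZMod r) = (k₀ : ZMod r) := sub_eq_zero.1 h5
        rw [ZMod.natCast_eq_natCast_iff', Nat.mod_eq_of_lt hk.1, Nat.mod_eq_of_lt hk₀.1] at h6
        exact h6
      · right
        have h6 : ((k + k₀ + 1 : ℕ) : ZMod r) = 0 := by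
          push_cast
          exact h5
        rw [ZMod.natCast_eq_zero_iff] at h6
        obtain ⟨m, hm⟩ := h6
        have hm1 : m = 1 := by
          rcases Nat.lt_or_ge m 1 with h | h
          · interval_cases m
            omega
          · rcases Nat.lt_or_ge m 2 with h' | h'
            · omega
            · exfalso
              have : 2 * r ≤ r * m := by
                calc 2 * r = r * 2 := by ring
                  _ ≤ r * m := Nat.mul_le_mul_left r h'
              omega
        subst hm1
        omega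
    exact (Finset.card_le_card hsub).trans Finset.card_le_two

theorem sum_comp_le_two (r : ℕ) (hr : r.Prime) (h : ℕ → ℕ) :
    ∑ k ∈ Finset.range r, h ((∑ i ∈ Finset.range (k + 1), i) % r) ≤
      2 * ∑ s ∈ Finset.range r, h s := by
  have hmaps : ∀ k ∈ Finset.range r,
      (∑ i ∈ Finset.range (k + 1), i) % r ∈ Finset.range r := by
    intro k _
    exact Finset.mem_range.2 (Nat.mod_lt _ hr.pos)
  rw [← Finset.sum_fiberwise_of_maps_to hmaps, Finset.mul_sum]
  apply Finset.sum_le_sum
  intro s _
  have h1 : ∀ k ∈ (Finset.range r).filter (fun k => (∑ i ∈ Finset.range (k + 1), i) % r = s),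
      h ((∑ i ∈ Finset.range (k + 1), i) % r) = h s := by
    intro k hk
    rw [(Finset.mem_filter.1 hk).2]
  rw [Finset.sum_congr rfl h1, Finset.sum_const, smul_eq_mul]
  exact Nat.mul_le_mul_right _ (tri_fiber r hr s)

variable {F : Type*} [Field F] {V : Type*} [AddCommGroup V] [Module F V] [FiniteDimensional F V]

/-- `g⁻¹ y g = y l` with `l` of order `r` commuting with `g` and `y` -/
theorem lemmaP {r : ℕ} (hr : r.Prime) {ζ : F} (hζ : IsPrimitiveRoot ζ r) (hr0 : (r : F) ≠ 0)
    (g y l : (Module.End F V)ˣ)
    (hgl : g * l = l * g) (hyl : y * l = l * y) (hgy : g⁻¹ * y * g = y * l) (hl : l ^ r = 1)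
    (hdim : ∀ μ : F, r * finrank F ↥((l : Module.End F V).eigenspace μ) ≤ finrank F V)
    (c : F) (hc : c ≠ 0) :
    r * finrank F ↥((g : Module.End F V).eigenspace c) ≤ 2 * finrank F V := by
  classical
  set W := (g : Module.End F V).eigenspace c with hW
  have hζ0 : ζ ≠ 0 := hζ.ne_zero hr.pos.ne'
  -- commutation relations as maps
  have hgl' : ∀ v, (g : Module.End F V) ((l : Module.End F V) v) =
      (l : Module.End F V) ((g : Module.End F V) v) := by
    intro v
    have := congrArg (fun t : (Module.End F V)ˣ => (t : Module.End F V) v) hgl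
    simpa using this
  have hyl' : ∀ v, (y : Module.End F V) ((l : Module.End F V) v) =
      (l : Module.End F V) ((y : Module.End F V) v) := by
    intro v
    have := congrArg (fun t : (Module.End F V)ˣ => (t : Module.End F V) v) hyl
    simpa using this
  have hgy' : ∀ v, (y : Module.End F V) ((g : Module.End F V) v) =
      (g : Module.End F V) ((y : Module.End F V) ((l : Module.End F V) v)) := by
    intro v
    have e : y * g = g * (y * l) := by rw [← hgy]; group
    have := congrArg (fun t : (Module.End F V)ˣ => (t : Module.End F V) v) e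
    simpa using this
  have hlW : ∀ w ∈ W, (l : Module.End F V) w ∈ W := by
    intro w hw
    rw [hW, Module.End.mem_eigenspace_iff] at hw ⊢
    rw [hgl', hw, map_smul]
  have hlr : (l : Module.End F V) ^ r = 1 := by
    rw [← Units.val_pow_eq_pow_val, hl, Units.val_one]
  have h1 := finrank_le_sum_inf hζ hr.pos hr0 (l : Module.End F V) hlr W hlW
  -- the nontrivial eigenspaces of `l`
  have h2 : ∀ j, 0 < j → j < r →
      r * finrank F ↥(W ⊓ (l : Module.End F V).eigenspace (ζ ^ j)) ≤
        finrank F ↥((l : Module.End F V).eigenspace (ζ ^ j)) := by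
    intro j hj0 hjr
    have hcop : Nat.Coprime j r := (Nat.coprime_of_lt_prime hj0.ne' hjr hr).symm
    have hθ : IsPrimitiveRoot ((ζ ^ j)⁻¹) r := (hζ.pow_of_coprime j hcop).inv
    have hζj : ζ ^ j ≠ 0 := pow_ne_zero _ hζ0
    apply shift_lemma hθ (g : Module.End F V) y _ _ _ c hc
    · intro v hv
      rw [Module.End.mem_eigenspace_iff] at hv ⊢
      rw [← hyl', hv, map_smul]
    · intro v hv
      rw [Module.End.mem_eigenspace_iff] at hv
      have := hgy' v
      rw [hv, map_smul, map_smul] at this
      rw [this, smul_smul, inv_mul_cancel₀ hζj, one_smul]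
  -- the total
  have h3 : ∑ j ∈ Finset.range r, finrank F ↥((l : Module.End F V).eigenspace (ζ ^ j)) ≤
      finrank F V := by
    have := sum_finrank_le_of_eigen (l : Module.End F V) ⊤ (fun t : Fin r => ζ ^ t.val) (by
        intro a b hab
        exact Fin.ext (hζ.pow_inj a.2 b.2 hab))
      (fun t : Fin r => (l : Module.End F V).eigenspace (ζ ^ t.val)) (by
        intro t
        exact le_inf le_rfl le_top)
    rw [finrank_top] at this
    rwa [Finset.sum_range (fun j => finrank F ↥((l : Module.End F V).eigenspace (ζ ^ j)))]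
  obtain ⟨r', rfl⟩ : ∃ r', r = r' + 1 := ⟨r - 1, by have := hr.pos; omega⟩
  rw [Finset.sum_range_succ'] at h1 h3
  have h4 : ∑ j ∈ Finset.range r', (r' + 1) *
      finrank F ↥(W ⊓ (l : Module.End F V).eigenspace (ζ ^ (j + 1))) ≤
      ∑ j ∈ Finset.range r', finrank F ↥((l : Module.End F V).eigenspace (ζ ^ (j + 1))) := by
    apply Finset.sum_le_sum
    intro j hj
    exact h2 (j + 1) (Nat.succ_pos j) (by have := Finset.mem_range.1 hj; omega)
  have h5 : finrank F ↥(W ⊓ (l : Module.End F V).eigenspace (ζ ^ 0)) ≤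
      finrank F ↥((l : Module.End F V).eigenspace (ζ ^ 0)) :=
    Submodule.finrank_mono inf_le_right
  have h6 := hdim (ζ ^ 0)
  rw [← Finset.mul_sum] at h4
  have h7 : (r' + 1) * finrank F W ≤ (r' + 1) * (∑ j ∈ Finset.range r',
      finrank F ↥(W ⊓ (l : Module.End F V).eigenspace (ζ ^ (j + 1))) +
      finrank F ↥(W ⊓ (l : Module.End F V).eigenspace (ζ ^ 0))) := Nat.mul_le_mul_left _ h1
  have h8 : (r' + 1) * finrank F ↥(W ⊓ (l : Module.End F V).eigenspace (ζ ^ 0)) ≤
      (r' + 1) * finrank F ↥((l : Module.End F V).eigenspace (ζ ^ 0)) :=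
    Nat.mul_le_mul_left _ h5
  rw [mul_add] at h7
  omega


/-- `g⁻¹ a g = a u` with `u` of order `r` commuting with `g`, and `a u = κ u a` -/
theorem lemmaQ {r : ℕ} (hr : r.Prime) {κ : F} (hκ : IsPrimitiveRoot κ r) (hr0 : (r : F) ≠ 0)
    (g a u : (Module.End F V)ˣ)
    (hgu : g * u = u * g) (hu : u ^ r = 1)
    (hau : ∀ v, (a : Module.End F V) ((u : Module.End F V) v) =
      κ • (u : Module.End F V) ((a : Module.End F V) v))
    (hga : g⁻¹ * a * g = a * u) (c : F) (hc : c ≠ 0) :
    r * finrank F ↥((g : Module.End F V).eigenspace c) ≤ 2 * finrank F V := by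
  classical
  have hκ0 : κ ≠ 0 := hκ.ne_zero hr.pos.ne'
  have hκi : IsPrimitiveRoot κ⁻¹ r := hκ.inv
  set W := (g : Module.End F V).eigenspace c with hW
  have hgu' : ∀ v, (g : Module.End F V) ((u : Module.End F V) v) =
      (u : Module.End F V) ((g : Module.End F V) v) := by
    intro v
    have := congrArg (fun t : (Module.End F V)ˣ => (t : Module.End F V) v) hgu
    simpa using this
  have hga' : ∀ v, (a : Module.End F V) ((g : Module.End F V) v) =
      (g : Module.End F V) ((a : Module.End F V) ((u : Module.End F V) v)) := by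
    intro v
    have e : a * g = g * (a * u) := by rw [← hga]; group
    have := congrArg (fun t : (Module.End F V)ˣ => (t : Module.End F V) v) e
    simpa using this
  have hainj : Function.Injective (a : Module.End F V) := by
    intro v w hvw
    have h1 := congrArg (((a⁻¹ : (Module.End F V)ˣ) : Module.End F V)) hvw
    rwa [← Module.End.mul_apply, ← Module.End.mul_apply, ← Units.val_mul, inv_mul_cancel,
      Units.val_one, Module.End.one_apply, Module.End.one_apply] at h1
  -- the dimension function
  set D : F → F → ℕ := fun c' μ =>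
    finrank F ↥((g : Module.End F V).eigenspace c' ⊓ (u : Module.End F V).eigenspace μ) with hD
  -- one step
  have step : ∀ c' μ : F, μ ≠ 0 → D c' μ ≤ D (c' * μ⁻¹) (κ⁻¹ * μ) := by
    intro c' μ hμ
    rw [hD]
    simp only
    have hmap : ((g : Module.End F V).eigenspace c' ⊓ (u : Module.End F V).eigenspace μ).map
        (a : Module.End F V) ≤
        (g : Module.End F V).eigenspace (c' * μ⁻¹) ⊓
          (u : Module.End F V).eigenspace (κ⁻¹ * μ) := by
      rintro w ⟨v, hv, rfl⟩
      rw [SetLike.mem_coe, Submodule.mem_inf, Module.End.mem_eigenspace_iff,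
        Module.End.mem_eigenspace_iff] at hv
      obtain ⟨hv1, hv2⟩ := hv
      rw [Submodule.mem_inf, Module.End.mem_eigenspace_iff, Module.End.mem_eigenspace_iff]
      constructor
      · have := hga' v
        rw [hv1, hv2, map_smul, map_smul, map_smul] at this
        rw [mul_smul, smul_comm, this, smul_smul, inv_mul_cancel₀ hμ, one_smul]
      · have := hau v
        rw [hv2, map_smul] at this
        rw [mul_smul, this, smul_smul, inv_mul_cancel₀ hκ0, one_smul]
    calc finrank F ↥((g : Module.End F V).eigenspace c' ⊓ (u : Module.End F V).eigenspace μ)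
        = finrank F ↥(((g : Module.End F V).eigenspace c' ⊓
            (u : Module.End F V).eigenspace μ).map (a : Module.End F V)) :=
          (Submodule.equivMapOfInjective _ hainj _).finrank_eq
      _ ≤ _ := Submodule.finrank_mono hmap
  -- iterating
  have iter : ∀ k : ℕ, ∀ c' : F,
      D c' (κ ^ k) ≤ D (c' * (κ⁻¹) ^ (∑ i ∈ Finset.range (k + 1), i)) 1 := by
    intro k
    induction k with
    | zero =>
      intro c'
      simp
    | succ k ih =>
      intro c'
      have h1 := step c' (κ ^ (k + 1)) (pow_ne_zero _ hκ0)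
      have h2 : κ⁻¹ * κ ^ (k + 1) = κ ^ k := by
        rw [pow_succ, mul_comm, mul_assoc, mul_inv_cancel₀ hκ0, mul_one]
      rw [h2] at h1
      have h3 := ih (c' * (κ ^ (k + 1))⁻¹)
      have h4 : c' * (κ ^ (k + 1))⁻¹ * κ⁻¹ ^ (∑ i ∈ Finset.range (k + 1), i) =
          c' * κ⁻¹ ^ (∑ i ∈ Finset.range (k + 1 + 1), i) := by
        rw [Finset.sum_range_succ _ (k + 1), pow_add, inv_pow]
        ring
      rw [h4] at h3
      exact h1.trans h3
  -- the decomposition of `W`
  have huW : ∀ w ∈ W, (u : Module.End F V) w ∈ W := by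
    intro w hw
    rw [hW, Module.End.mem_eigenspace_iff] at hw ⊢
    rw [hgu', hw, map_smul]
  have hur : (u : Module.End F V) ^ r = 1 := by
    rw [← Units.val_pow_eq_pow_val, hu, Units.val_one]
  have h1 := finrank_le_sum_inf hκ hr.pos hr0 (u : Module.End F V) hur W huW
  have h2 : ∑ j ∈ Finset.range r, finrank F ↥(W ⊓ (u : Module.End F V).eigenspace (κ ^ j)) ≤
      ∑ j ∈ Finset.range r, D (c * (κ⁻¹) ^ ((∑ i ∈ Finset.range (j + 1), i) % r)) 1 := by
    apply Finset.sum_le_sum
    intro j _
    have := iter j c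
    have e : (κ⁻¹) ^ ((∑ i ∈ Finset.range (j + 1), i) % r) =
        (κ⁻¹) ^ (∑ i ∈ Finset.range (j + 1), i) := by
      conv_rhs => rw [← Nat.mod_add_div (∑ i ∈ Finset.range (j + 1), i) r]
      rw [pow_add, pow_mul, hκi.pow_eq_one, one_pow, mul_one]
    rw [e]
    exact this
  have h3 := sum_comp_le_two r hr (fun s => D (c * (κ⁻¹) ^ s) 1)
  have h4 : ∑ s ∈ Finset.range r, D (c * (κ⁻¹) ^ s) 1 ≤
      finrank F ↥((u : Module.End F V).eigenspace 1) := by
    have := sum_finrank_le_of_eigen (g : Module.End F V) ((u : Module.End F V).eigenspace 1)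
      (fun t : Fin r => c * (κ⁻¹) ^ t.val) (by
        intro x y hxy
        have : (κ⁻¹) ^ x.val = (κ⁻¹) ^ y.val := mul_left_cancel₀ hc hxy
        exact Fin.ext (hκi.pow_inj x.2 y.2 this))
      (fun t : Fin r => (g : Module.End F V).eigenspace (c * (κ⁻¹) ^ t.val) ⊓
        (u : Module.End F V).eigenspace 1) (fun t => le_rfl)
    rwa [Finset.sum_range (fun s => D (c * (κ⁻¹) ^ s) 1)]
  have h5 : r * finrank F ↥((u : Module.End F V).eigenspace 1) ≤ finrank F V := by
    have := shift_lemma hκi (u : Module.End F V) a ⊤ (fun v _ => Submodule.mem_top) (by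
      intro v _
      have := hau v
      rw [this, smul_smul, inv_mul_cancel₀ hκ0, one_smul]) 1 one_ne_zero
    rw [finrank_top] at this
    refine le_trans ?_ this
    apply Nat.mul_le_mul_left
    apply Submodule.finrank_mono
    exact le_inf le_rfl le_top
  have h6 : finrank F W ≤ 2 * finrank F ↥((u : Module.End F V).eigenspace 1) :=
    h1.trans (h2.trans (h3.trans (Nat.mul_le_mul_left 2 h4)))
  calc r * finrank F W ≤ r * (2 * finrank F ↥((u : Module.End F V).eigenspace 1)) :=
        Nat.mul_le_mul_left r h6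
    _ = 2 * (r * finrank F ↥((u : Module.End F V).eigenspace 1)) := by ring
    _ ≤ 2 * finrank F V := Nat.mul_le_mul_left 2 h5

end Cfsg.Agent.Lib.H2.Ex5
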