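import Mathlib

/-!
# Group-theoretic lemmas for S5877 (helper2)

`E ≤ G` is a subgroup all of whose commutators are central in `G` (of exponent dividing `r`),
normalized by `g`.
-/

set_option autoImplicit false
set_option linter.unusedSectionVars false
set_option linter.style.haveILetI false

open scoped commutatorElement

namespace Cfsg.Agent.Lib.H2.Ex5

variable {G : Type*} [Group G]

/-- the commutator `x y x⁻¹ y⁻¹` -/
def Kc (x y : G) : G := x * y * x⁻¹ * y⁻¹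

/-- centrality -/
def Cen (z : G) : Prop := ∀ h : G, h * z = z * h

theorem Cen.inv {z : G} (hz : Cen z) : Cen z⁻¹ := by
  intro h
  have := hz h⁻¹
  calc h * z⁻¹ = (z * h⁻¹)⁻¹ := by group
    _ = (h⁻¹ * z)⁻¹ := by rw [this]
    _ = z⁻¹ * h := by group

theorem Cen.mul {z w : G} (hz : Cen z) (hw : Cen w) : Cen (z * w) := by
  intro h
  rw [← mul_assoc, hz h, mul_assoc, hw h, mul_assoc]

theorem Cen.pow {z : G} (hz : Cen z) (k : ℕ) : Cen (z ^ k) := by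
  induction k with
  | zero => intro h; simp
  | succ k ih => rw [pow_succ]; exact ih.mul hz

theorem cen_one : Cen (1 : G) := fun h => by simp

theorem Kc_swap (x y : G) : Kc y x = (Kc x y)⁻¹ := by unfold Kc; group

theorem Kc_self (x : G) : Kc x x = 1 := by unfold Kc; group

theorem Kc_eq_one_iff (x y : G) : Kc x y = 1 ↔ x * y = y * x := by
  unfold Kc
  constructor
  · intro h
    calc x * y = (x * y * x⁻¹ * y⁻¹) * (y * x) := by group
      _ = y * x := by rw [h, one_mul]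
  · intro h
    calc x * y * x⁻¹ * y⁻¹ = (x * y) * x⁻¹ * y⁻¹ := by group
      _ = (y * x) * x⁻¹ * y⁻¹ := by rw [h]
      _ = 1 := by group

theorem Kc_mul_left {x y z : G} (hyz : Cen (Kc y z)) : Kc (x * y) z = Kc x z * Kc y z := by
  have h1 : Kc (x * y) z = x * Kc y z * (z * x⁻¹ * z⁻¹) := by unfold Kc; group
  rw [h1, hyz x]
  have h2 : Kc y z * x * (z * x⁻¹ * z⁻¹) = Kc y z * Kc x z := by unfold Kc; group
  rw [h2]
  exact (hyz (Kc x z)).symm

theorem Kc_mul_right {x y z : G} (hxz : Cen (Kc x z)) : Kc x (y * z) = Kc x y * Kc x z := by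
  have h1 : Kc x (y * z) = Kc x y * (y * Kc x z) * y⁻¹ := by unfold Kc; group
  rw [h1, hxz y]
  group

theorem Kc_inv_left {x y : G} (h : Cen (Kc x y)) : Kc x⁻¹ y = (Kc x y)⁻¹ := by
  have h1 : Kc x⁻¹ y = x⁻¹ * (Kc x y)⁻¹ * x := by unfold Kc; group
  rw [h1, h.inv x⁻¹]
  group

theorem Kc_inv_right {x y : G} (h : Cen (Kc x y)) : Kc x y⁻¹ = (Kc x y)⁻¹ := by
  have h1 : Kc x y⁻¹ = y⁻¹ * (Kc x y)⁻¹ * y := by unfold Kc; group
  rw [h1, h.inv y⁻¹]
  group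

theorem Kc_conj {x y : G} (h : Cen (Kc x y)) (t : G) :
    Kc (t⁻¹ * x * t) (t⁻¹ * y * t) = Kc x y := by
  have h1 : Kc (t⁻¹ * x * t) (t⁻¹ * y * t) = t⁻¹ * Kc x y * t := by unfold Kc; group
  rw [h1, h t⁻¹]
  group

/-- **Polarization.** If for every `x ∈ E` the elements `x⁻¹ x^{g^j}` pairwise commute, the order
`ϖ` of `g` is odd and prime to the exponent `r` of the commutators of `E`, then `g` centralizes
`E` modulo the centre. -/
theorem polarization (E : Subgroup G) (g : G) (r ϖ : ℕ)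
    (hnorm : ∀ x ∈ E, g⁻¹ * x * g ∈ E)
    (hcen : ∀ x ∈ E, ∀ y ∈ E, Cen (Kc x y))
    (hpow : ∀ x ∈ E, ∀ y ∈ E, (Kc x y) ^ r = 1)
    (hg : g ^ ϖ = 1) (hodd : Odd ϖ) (hcop : Nat.Coprime ϖ r)
    (hZ : ∀ z ∈ E, (∀ x ∈ E, x * z = z * x) → Cen z)
    (H : ∀ x ∈ E, ∀ j k : ℕ,
      (x⁻¹ * ((g ^ j)⁻¹ * x * g ^ j)) * (x⁻¹ * ((g ^ k)⁻¹ * x * g ^ k)) =
        (x⁻¹ * ((g ^ k)⁻¹ * x * g ^ k)) * (x⁻¹ * ((g ^ j)⁻¹ * x * g ^ j))) :
    ∀ y ∈ E, Cen (y⁻¹ * g⁻¹ * y * g) := by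
  -- conjugation by powers of `g` preserves `E`
  have hnormk : ∀ k : ℕ, ∀ x ∈ E, (g ^ k)⁻¹ * x * g ^ k ∈ E := by
    intro k
    induction k with
    | zero => intro x hx; simpa using hx
    | succ k ih =>
      intro x hx
      have e : (g ^ (k + 1))⁻¹ * x * g ^ (k + 1) = g⁻¹ * ((g ^ k)⁻¹ * x * g ^ k) * g := by
        rw [pow_succ]; group
      rw [e]
      exact hnorm _ (ih x hx)
  have hnorm' : ∀ x ∈ E, g * x * g⁻¹ ∈ E := by
    intro x hx
    obtain ⟨m, hm⟩ := hodd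
    have e : g * x * g⁻¹ = (g ^ (2 * m))⁻¹ * x * g ^ (2 * m) := by
      have h1 : g ^ (2 * m) = g⁻¹ := by
        have : g ^ (2 * m) * g = 1 := by rw [← pow_succ, ← hm, hg]
        exact eq_inv_of_mul_eq_one_left this
      rw [h1, inv_inv]
    rw [e]
    exact hnormk _ x hx
  -- step 1: `Kc x (g⁻¹ x g) = 1`
  have S1 : ∀ x ∈ E, Kc x (g⁻¹ * x * g) = 1 := by
    intro x hx
    set f : ℕ → G := fun k => Kc x ((g ^ k)⁻¹ * x * g ^ k) with hf
    have hfc : ∀ k, Cen (f k) := fun k => hcen x hx _ (hnormk k x hx)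
    have hrec : ∀ k, f (k + 1) = f 1 * f k := by
      intro k
      have hxk := hnormk k x hx
      have hx1 := hnormk 1 x hx
      have hxk1 := hnormk (k + 1) x hx
      have hxi : x⁻¹ ∈ E := E.inv_mem hx
      have h1 := (Kc_eq_one_iff _ _).2 (H x hx 1 (k + 1))
      -- expand
      have e1 : Kc (x⁻¹ * ((g ^ 1)⁻¹ * x * g ^ 1)) (x⁻¹ * ((g ^ (k + 1))⁻¹ * x * g ^ (k + 1))) =
          Kc x⁻¹ (x⁻¹ * ((g ^ (k + 1))⁻¹ * x * g ^ (k + 1))) *
          Kc ((g ^ 1)⁻¹ * x * g ^ 1) (x⁻¹ * ((g ^ (k + 1))⁻¹ * x * g ^ (k + 1))) :=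
        Kc_mul_left (hcen _ hx1 _ (E.mul_mem hxi hxk1))
      have e2 : Kc x⁻¹ (x⁻¹ * ((g ^ (k + 1))⁻¹ * x * g ^ (k + 1))) =
          Kc x⁻¹ x⁻¹ * Kc x⁻¹ ((g ^ (k + 1))⁻¹ * x * g ^ (k + 1)) :=
        Kc_mul_right (hcen _ hxi _ hxk1)
      have e3 : Kc ((g ^ 1)⁻¹ * x * g ^ 1) (x⁻¹ * ((g ^ (k + 1))⁻¹ * x * g ^ (k + 1))) =
          Kc ((g ^ 1)⁻¹ * x * g ^ 1) x⁻¹ *
            Kc ((g ^ 1)⁻¹ * x * g ^ 1) ((g ^ (k + 1))⁻¹ * x * g ^ (k + 1)) :=
        Kc_mul_right (hcen _ hx1 _ hxk1)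
      have e4 : Kc x⁻¹ ((g ^ (k + 1))⁻¹ * x * g ^ (k + 1)) = (f (k + 1))⁻¹ :=
        Kc_inv_left (hcen _ hx _ hxk1)
      have e5 : Kc ((g ^ 1)⁻¹ * x * g ^ 1) x⁻¹ = f 1 := by
        rw [Kc_inv_right (hcen _ hx1 _ hx), Kc_swap, inv_inv]
      have e6 : Kc ((g ^ 1)⁻¹ * x * g ^ 1) ((g ^ (k + 1))⁻¹ * x * g ^ (k + 1)) = f k := by
        have e : (g ^ (k + 1))⁻¹ * x * g ^ (k + 1) =
            (g ^ 1)⁻¹ * ((g ^ k)⁻¹ * x * g ^ k) * g ^ 1 := by
          rw [pow_succ]; group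
        rw [e, Kc_conj (hcen _ hx _ hxk)]
      rw [e1, e2, e3, e4, e5, e6, Kc_self, one_mul] at h1
      -- (f (k+1))⁻¹ * (f 1 * f k) = 1
      have : f 1 * f k = f (k + 1) := by
        have h2 := congrArg (fun t => f (k + 1) * t) h1
        simp only [mul_one] at h2
        rw [← h2]
        group
      exact this.symm
    have hpowk : ∀ k, f k = f 1 ^ k := by
      intro k
      induction k with
      | zero =>
        rw [hf]
        simp only [pow_zero, inv_one, one_mul, mul_one]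
        exact Kc_self x
      | succ k ih => rw [hrec, ih, pow_succ']
    have hϖ : f 1 ^ ϖ = 1 := by
      rw [← hpowk, hf]
      simp only
      rw [hg, inv_one, one_mul, mul_one]
      exact Kc_self x
    have hr : f 1 ^ r = 1 := hpow x hx _ (hnormk 1 x hx)
    have h1 : f 1 = 1 := by
      have h2 : orderOf (f 1) ∣ ϖ := orderOf_dvd_of_pow_eq_one hϖ
      have h3 : orderOf (f 1) ∣ r := orderOf_dvd_of_pow_eq_one hr
      have h4 : orderOf (f 1) ∣ Nat.gcd ϖ r := Nat.dvd_gcd h2 h3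
      rw [hcop] at h4
      exact orderOf_eq_one_iff.1 (Nat.dvd_one.1 h4)
    rw [hf] at h1
    simpa using h1
  -- step 2: polarization
  have S2 : ∀ x ∈ E, ∀ y ∈ E, Kc x (g⁻¹ * y * g) * Kc y (g⁻¹ * x * g) = 1 := by
    intro x hx y hy
    have hcx := hnorm x hx
    have hcy := hnorm y hy
    have h1 := S1 (x * y) (E.mul_mem hx hy)
    have e : g⁻¹ * (x * y) * g = (g⁻¹ * x * g) * (g⁻¹ * y * g) := by group
    rw [e, Kc_mul_left (hcen _ hy _ (E.mul_mem hcx hcy)),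
      Kc_mul_right (hcen _ hx _ hcy), Kc_mul_right (hcen _ hy _ hcy), S1 x hx, S1 y hy, one_mul,
      mul_one] at h1
    exact h1
  -- step 3
  have S3 : ∀ y ∈ E, Cen ((g⁻¹ * y * g) * (g * y * g⁻¹)⁻¹) := by
    intro y hy
    have hcy := hnorm y hy
    have hcy' := hnorm' y hy
    apply hZ _ (E.mul_mem hcy (E.inv_mem hcy'))
    intro x hx
    have hcx := hnorm x hx
    have h1 : Kc x ((g⁻¹ * y * g) * (g * y * g⁻¹)⁻¹) = 1 := by
      rw [Kc_mul_right (hcen _ hx _ (E.inv_mem hcy')), Kc_inv_right (hcen _ hx _ hcy')]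
      have h2 := S2 x hx y hy
      have h3 : Kc y (g⁻¹ * x * g) = Kc (g * y * g⁻¹) x := by
        have := Kc_conj (hcen _ hcy' _ hx) g
        rw [← this]
        congr 1
        group
      rw [h3, Kc_swap x] at h2
      -- h2 : Kc x (c y) * (Kc x (g y g⁻¹))⁻¹ = 1
      exact h2
    exact (Kc_eq_one_iff _ _).1 h1
  -- step 4: `g⁻² y g² = z y`
  intro y hy
  set z := (g⁻¹ * y * g) * (g * y * g⁻¹)⁻¹ with hz
  have hzc : Cen z := S3 y hy
  clear_value z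
  have h4 : ∀ k : ℕ, (g ^ (2 * k))⁻¹ * y * g ^ (2 * k) = z ^ k * y := by
    intro k
    induction k with
    | zero => simp
    | succ k ih =>
      have e : (g ^ (2 * (k + 1)))⁻¹ * y * g ^ (2 * (k + 1)) =
          (g ^ 2)⁻¹ * ((g ^ (2 * k))⁻¹ * y * g ^ (2 * k)) * g ^ 2 := by
        rw [mul_add, pow_add]; group
      rw [e, ih]
      have e2 : (g ^ 2)⁻¹ * (z ^ k * y) * g ^ 2 = z ^ k * ((g ^ 2)⁻¹ * y * g ^ 2) := by
        have := (hzc.pow k) (g ^ 2)⁻¹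
        calc (g ^ 2)⁻¹ * (z ^ k * y) * g ^ 2 = ((g ^ 2)⁻¹ * z ^ k) * y * g ^ 2 := by group
          _ = (z ^ k * (g ^ 2)⁻¹) * y * g ^ 2 := by rw [this]
          _ = z ^ k * ((g ^ 2)⁻¹ * y * g ^ 2) := by group
      rw [e2]
      have e3 : (g ^ 2)⁻¹ * y * g ^ 2 = z * y := by
        have h5 : g⁻¹ * y * g = z * (g * y * g⁻¹) := by rw [hz]; group
        calc (g ^ 2)⁻¹ * y * g ^ 2 = g⁻¹ * (g⁻¹ * y * g) * g := by rw [pow_two]; group
          _ = g⁻¹ * (z * (g * y * g⁻¹)) * g := by rw [← h5]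
          _ = (g⁻¹ * z) * (g * y * g⁻¹) * g := by group
          _ = (z * g⁻¹) * (g * y * g⁻¹) * g := by rw [hzc g⁻¹]
          _ = z * y := by group
      rw [e3, pow_succ, mul_assoc]
  obtain ⟨m, hm⟩ := hodd
  have h5 := h4 (m + 1)
  have h6 : g ^ (2 * (m + 1)) = g := by
    have : 2 * (m + 1) = ϖ + 1 := by omega
    rw [this, pow_succ, hg, one_mul]
  rw [h6] at h5
  have h7 : y⁻¹ * g⁻¹ * y * g = z ^ (m + 1) := by
    calc y⁻¹ * g⁻¹ * y * g = y⁻¹ * (g⁻¹ * y * g) := by group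
      _ = y⁻¹ * (z ^ (m + 1) * y) := by rw [h5]
      _ = (y⁻¹ * z ^ (m + 1)) * y := by group
      _ = (z ^ (m + 1) * y⁻¹) * y := by rw [(hzc.pow (m + 1)) y⁻¹]
      _ = z ^ (m + 1) := by group
  rw [h7]
  exact hzc.pow _


/-- **Nilpotency chain.** If `g` of prime order `r` normalizes the finite `r`-group `R` without
centralizing it, some `y ∈ R` has a nontrivial commutator `l = y⁻¹ g⁻¹ y g` commuting with `g`. -/
theorem exists_commuting_commutator [Finite G] (R : Subgroup G) (g : G) (r : ℕ) [Fact r.Prime]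
    (hR : IsPGroup r R) (hg : g ^ r = 1) (hnorm : ∀ x ∈ R, g⁻¹ * x * g ∈ R)
    (hnorm' : ∀ x ∈ R, g * x * g⁻¹ ∈ R)
    (x₀ : G) (hx₀ : x₀ ∈ R) (hne : g * x₀ ≠ x₀ * g) :
    ∃ y ∈ R, (y⁻¹ * g⁻¹ * y * g) ∈ R ∧ y⁻¹ * g⁻¹ * y * g ≠ 1 ∧
      g * (y⁻¹ * g⁻¹ * y * g) = (y⁻¹ * g⁻¹ * y * g) * g := by
  classical
  have hZ : IsPGroup r (Subgroup.zpowers g) := by
    intro a
    refine ⟨1, ?_⟩
    obtain ⟨a, ha⟩ := a
    rw [Subgroup.mem_zpowers_iff] at ha
    obtain ⟨k, rfl⟩ := ha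
    apply Subtype.ext
    rw [pow_one, Subgroup.coe_pow, Subgroup.coe_one]
    show (g ^ k) ^ r = 1
    rw [← zpow_natCast, ← zpow_mul, mul_comm, zpow_mul, zpow_natCast, hg, one_zpow]
  have hle : Subgroup.zpowers g ≤ Subgroup.normalizer (R : Set G) := by
    rw [Subgroup.zpowers_le, Subgroup.mem_normalizer_iff]
    intro h
    constructor
    · exact hnorm' h
    · intro hh
      have := hnorm _ hh
      have e : g⁻¹ * (g * h * g⁻¹) * g = h := by group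
      rwa [e] at this
  set D : Subgroup G := Subgroup.zpowers g ⊔ R with hD
  have hDp : IsPGroup r D := hZ.to_sup_of_normal_right' hR hle
  have hnil : Group.IsNilpotent D := hDp.isNilpotent
  obtain ⟨n, hn⟩ := (Subgroup.isNilpotent_iff_lowerCentralSeries D).1 hnil
  have hgD : g ∈ D := (le_sup_left : Subgroup.zpowers g ≤ D) (Subgroup.mem_zpowers g)
  have hRD : R ≤ D := le_sup_right
  -- the sequence
  set s : ℕ → G := fun k => Nat.rec x₀ (fun _ t => t⁻¹ * g⁻¹ * t * g) k with hs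
  have hs0 : s 0 = x₀ := rfl
  have hss : ∀ k, s (k + 1) = (s k)⁻¹ * g⁻¹ * s k * g := fun k => rfl
  have hsR : ∀ k, s k ∈ R := by
    intro k
    induction k with
    | zero => exact hx₀
    | succ k ih =>
      rw [hss]
      have e : (s k)⁻¹ * g⁻¹ * s k * g = (s k)⁻¹ * (g⁻¹ * s k * g) := by group
      rw [e]
      exact R.mul_mem (R.inv_mem ih) (hnorm _ ih)
  have hsL : ∀ k, s k ∈ D.lowerCentralSeries k := by
    intro k
    induction k with
    | zero => exact hRD hx₀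
    | succ k ih =>
      rw [hss, Subgroup.lowerCentralSeries_succ]
      have e : (s k)⁻¹ * g⁻¹ * s k * g = ⁅(s k)⁻¹, g⁻¹⁆ := by
        rw [commutatorElement_def, inv_inv, inv_inv]
      rw [e]
      exact Subgroup.commutator_mem_commutator (Subgroup.inv_mem _ ih) (D.inv_mem hgD)
  have hsn : s n = 1 := by
    have := hsL n
    rwa [hn, Subgroup.mem_bot] at this
  have hex : ∃ k, s k = 1 := ⟨n, hsn⟩
  set k := Nat.find hex with hk
  have hk1 : s k = 1 := Nat.find_spec hex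
  have hmin : ∀ m < k, s m ≠ 1 := fun m hm => Nat.find_min hex hm
  have h0 : s 0 ≠ 1 := by
    rw [hs0]
    rintro rfl
    exact hne (by rw [mul_one, one_mul])
  have h1 : s 1 ≠ 1 := by
    have e1 : s 1 = (s 0)⁻¹ * g⁻¹ * s 0 * g := hss 0
    rw [e1, hs0]
    intro h
    apply hne
    calc g * x₀ = x₀ * g * (x₀⁻¹ * g⁻¹ * x₀ * g)⁻¹ := by group
      _ = x₀ * g := by rw [h, inv_one, mul_one]
  have hk2 : 2 ≤ k := by
    by_contra hlt
    push Not at hlt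
    interval_cases k
    · exact h0 hk1
    · exact h1 hk1
  obtain ⟨m, hm⟩ : ∃ m, k = m + 2 := ⟨k - 2, by omega⟩
  refine ⟨s m, hsR m, ?_, ?_, ?_⟩
  · rw [← hss m]; exact hsR (m + 1)
  · rw [← hss m]; exact hmin (m + 1) (by omega)
  · rw [← hss m]
    have h2 : s (m + 2) = 1 := by rw [← hm]; exact hk1
    rw [hss (m + 1)] at h2
    calc g * s (m + 1) = s (m + 1) * g * ((s (m + 1))⁻¹ * g⁻¹ * s (m + 1) * g)⁻¹ := by group
      _ = s (m + 1) * g := by rw [h2, inv_one, mul_one]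

end Cfsg.Agent.Lib.H2.Ex5
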