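import Mathlib
import Cfsg.Prelude.Def_GeometricClasses
import Cfsg.Agent.Lib.H2.Ex5A
import Cfsg.Agent.Lib.H2.Ex5C

/-!
# S5877 (helper2): from the hypotheses on `R ≤ GL_n(F)` to the abstract set-up
-/

set_option autoImplicit false
set_option linter.unusedSectionVars false
set_option linter.style.haveILetI false

open scoped MatrixGroups commutatorElement
open Module

namespace Cfsg.Agent.Lib.H2.Ex5

variable {F : Type*} [Field F] {n : ℕ}

/-- `GL_n(F)` acting on `F^n` -/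
noncomputable def Tu : GL (Fin n) F →* (Module.End F (Fin n → F))ˣ :=
  Matrix.GeneralLinearGroup.toLin.toMonoidHom

theorem Tu_val (x : GL (Fin n) F) :
    ((Tu x : (Module.End F (Fin n → F))ˣ) : Module.End F (Fin n → F)) =
      Matrix.toLin' (x : Matrix (Fin n) (Fin n) F) := rfl

theorem Tu_apply (x : GL (Fin n) F) (v : Fin n → F) :
    ((Tu x : (Module.End F (Fin n → F))ˣ) : Module.End F (Fin n → F)) v =
      (x : Matrix (Fin n) (Fin n) F).mulVec v := rfl

theorem cen_of_mem_scalars {z : GL (Fin n) F} (hz : z ∈ Cfsg.Geo.scalars (Fin n) F) : Cen z := by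
  obtain ⟨c, hc⟩ := (Cfsg.Geo.mem_scalars_iff z).1 hz
  intro h
  apply Units.ext
  rw [Units.val_mul, Units.val_mul, hc, Matrix.mul_smul, Matrix.smul_mul, mul_one, one_mul]

theorem scalar_apply {z : GL (Fin n) F} (hz : z ∈ Cfsg.Geo.scalars (Fin n) F) :
    ∃ θ : F, θ ≠ 0 ∧ (z : Matrix (Fin n) (Fin n) F) = θ • (1 : Matrix (Fin n) (Fin n) F) ∧
      ∀ v, ((Tu z : (Module.End F (Fin n → F))ˣ) : Module.End F (Fin n → F)) v = θ • v := by
  obtain ⟨c, hc⟩ := (Cfsg.Geo.mem_scalars_iff z).1 hz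
  refine ⟨c, c.ne_zero, hc, ?_⟩
  intro v
  rw [Tu_apply, hc, Matrix.smul_mulVec, Matrix.one_mulVec]

theorem Kc_mul_cen_left {G : Type*} [Group G] {a z y : G} (hz : Cen z) :
    Kc (a * z) y = Kc a y := by
  have h1 : Kc (a * z) y = a * (z * y) * z⁻¹ * a⁻¹ * y⁻¹ := by unfold Kc; group
  rw [h1, ← hz y]
  unfold Kc
  group

theorem Kc_mul_cen_right {G : Type*} [Group G] {x b z : G} (hz : Cen z) :
    Kc x (b * z) = Kc x b := by
  rw [Kc_swap, Kc_mul_cen_left hz, ← Kc_swap]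

section

variable (R : Subgroup (GL (Fin n) F)) (r : ℕ) (hr : r.Prime) (hn : 0 < n)
  (hZ : Nat.card (Subgroup.center R) = r) (hext : commutator R = Subgroup.center R)
  (hirr : ∀ M : Matrix (Fin n) (Fin n) F,
    (∀ s ∈ Cfsg.Geo.matrixSet R, M * s = s * M) → ∃ c : F, M = c • (1 : Matrix (Fin n) (Fin n) F))

include hn hirr in
theorem mem_scalars_of_comm (h : GL (Fin n) F) (hc : ∀ a ∈ R, a * h = h * a) :
    h ∈ Cfsg.Geo.scalars (Fin n) F := by
  haveI : Nonempty (Fin n) := ⟨⟨0, hn⟩⟩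
  obtain ⟨c, hc'⟩ := hirr (h : Matrix (Fin n) (Fin n) F) (by
    rintro s ⟨a, ha, rfl⟩
    have := hc a ha
    have := congrArg (fun t : GL (Fin n) F => (t : Matrix (Fin n) (Fin n) F)) this
    simp only [Units.val_mul] at this
    exact this.symm)
  have hc0 : c ≠ 0 := by
    rintro rfl
    rw [zero_smul] at hc'
    have h1 : (h : Matrix (Fin n) (Fin n) F) * ((h⁻¹ : GL (Fin n) F) : Matrix (Fin n) (Fin n) F) =
        1 := by rw [← Units.val_mul, mul_inv_cancel, Units.val_one]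
    rw [hc', zero_mul] at h1
    exact zero_ne_one h1
  exact (Cfsg.Geo.mem_scalars_iff h).2 ⟨Units.mk0 c hc0, by rw [hc', Units.val_mk0]⟩

theorem mem_E_iff (x : GL (Fin n) F) :
    x ∈ R ⊔ Cfsg.Geo.scalars (Fin n) F ↔ ∃ a ∈ R, ∃ z ∈ Cfsg.Geo.scalars (Fin n) F, a * z = x := by
  rw [← SetLike.mem_coe, Subgroup.mul_normal R (Cfsg.Geo.scalars (Fin n) F), Set.mem_mul]
  rfl

include hn hirr hZ hext in
theorem Kc_mem_R {a b : GL (Fin n) F} (ha : a ∈ R) (hb : b ∈ R) :
    Kc a b ∈ Cfsg.Geo.scalars (Fin n) F ∧ Kc a b ^ r = 1 ∧ Kc a b ∈ R := by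
  set c' : R := ⁅(⟨a, ha⟩ : R), ⟨b, hb⟩⁆ with hc'
  have hcoe : (c' : GL (Fin n) F) = Kc a b := by
    rw [hc', commutatorElement_def]
    rfl
  have hmem : c' ∈ Subgroup.center R := by
    rw [← hext, commutator_def]
    exact Subgroup.commutator_mem_commutator (Subgroup.mem_top _) (Subgroup.mem_top _)
  refine ⟨?_, ?_, ?_⟩
  · rw [← hcoe]
    apply mem_scalars_of_comm R hn hirr
    intro a' ha'
    have := Subgroup.mem_center_iff.1 hmem ⟨a', ha'⟩
    exact congrArg (fun t : R => (t : GL (Fin n) F)) this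
  · rw [← hcoe]
    have h1 : (⟨c', hmem⟩ : Subgroup.center R) ^ r = 1 := by
      rw [← hZ]
      exact pow_card_eq_one'
    have h2 := congrArg (fun t : Subgroup.center R => ((t : R) : GL (Fin n) F)) h1
    simpa using h2
  · rw [← hcoe]
    exact c'.2

include hn hirr hZ hext in
theorem Kc_mem_E {x y : GL (Fin n) F} (hx : x ∈ R ⊔ Cfsg.Geo.scalars (Fin n) F)
    (hy : y ∈ R ⊔ Cfsg.Geo.scalars (Fin n) F) :
    Kc x y ∈ Cfsg.Geo.scalars (Fin n) F ∧ Kc x y ^ r = 1 ∧ Kc x y ∈ R := by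
  obtain ⟨a, ha, z, hz, rfl⟩ := (mem_E_iff R x).1 hx
  obtain ⟨b, hb, z', hz', rfl⟩ := (mem_E_iff R y).1 hy
  rw [Kc_mul_cen_left (cen_of_mem_scalars hz), Kc_mul_cen_right (cen_of_mem_scalars hz')]
  exact Kc_mem_R R r hn hZ hext hirr ha hb

include hn hirr in
theorem exists_noncomm {x : GL (Fin n) F} (hx : x ∉ Cfsg.Geo.scalars (Fin n) F) :
    ∃ b ∈ R, Kc b x ≠ 1 := by
  by_contra hcon
  push Not at hcon
  apply hx
  apply mem_scalars_of_comm R hn hirr
  intro a ha
  exact (Kc_eq_one_iff a x).1 (hcon a ha)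

include hr hn in
/-- a nontrivial scalar `r`-torsion element is a primitive `r`-th root of unity -/
theorem root_of_scalar {z : GL (Fin n) F} (hz : z ∈ Cfsg.Geo.scalars (Fin n) F) (hzr : z ^ r = 1)
    (hz1 : z ≠ 1) :
    ∃ θ : F, IsPrimitiveRoot θ r ∧
      (z : Matrix (Fin n) (Fin n) F) = θ • (1 : Matrix (Fin n) (Fin n) F) ∧
      ∀ v, ((Tu z : (Module.End F (Fin n → F))ˣ) : Module.End F (Fin n → F)) v = θ • v := by
  obtain ⟨θ, hθ0, hθ, hθv⟩ := scalar_apply hz
  refine ⟨θ, ?_, hθ, hθv⟩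
  have h1 : θ ^ r = 1 := by
    have h2 := congrArg (fun t : GL (Fin n) F => (t : Matrix (Fin n) (Fin n) F)) hzr
    simp only [Units.val_pow_eq_pow_val, Units.val_one] at h2
    rw [hθ, smul_pow, one_pow] at h2
    have h3 := congrFun (congrFun h2 ⟨0, hn⟩) ⟨0, hn⟩
    simpa using h3
  have h2 : θ ≠ 1 := by
    rintro rfl
    apply hz1
    apply Units.ext
    rw [hθ, one_smul, Units.val_one]
  have h3 : orderOf θ ∣ r := orderOf_dvd_of_pow_eq_one h1
  rcases (Nat.dvd_prime hr).1 h3 with h4 | h4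
  · exact absurd (orderOf_eq_one_iff.1 h4) h2
  · rw [← h4]
    exact IsPrimitiveRoot.orderOf θ

include hr hn hirr hZ hext in
/-- every eigenspace of a non-scalar element of `R Z` has dimension at most `n / r` -/
theorem eig_le {x : GL (Fin n) F} (hx : x ∈ R ⊔ Cfsg.Geo.scalars (Fin n) F)
    (hxs : x ∉ Cfsg.Geo.scalars (Fin n) F) (μ : F) :
    r * finrank F ↥(((Tu x : (Module.End F (Fin n → F))ˣ) :
      Module.End F (Fin n → F)).eigenspace μ) ≤ n := by
  by_cases hμ : μ = 0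
  · subst hμ
    have : ((Tu x : (Module.End F (Fin n → F))ˣ) : Module.End F (Fin n → F)).eigenspace 0 = ⊥ := by
      rw [Module.End.eigenspace_zero, LinearMap.ker_eq_bot]
      intro v w hvw
      have h1 := congrArg (((Tu x)⁻¹ : (Module.End F (Fin n → F))ˣ) :
        Module.End F (Fin n → F)) hvw
      rwa [← Module.End.mul_apply, ← Module.End.mul_apply, ← Units.val_mul, inv_mul_cancel,
        Units.val_one, Module.End.one_apply, Module.End.one_apply] at h1
    rw [this, finrank_bot, mul_zero]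
    exact Nat.zero_le _
  · obtain ⟨b, hb, hbx⟩ := exists_noncomm R hn hirr hxs
    have hbE : b ∈ R ⊔ Cfsg.Geo.scalars (Fin n) F := (le_sup_left : R ≤ _) hb
    obtain ⟨h1, h2, _⟩ := Kc_mem_E R r hn hZ hext hirr hbE hx
    obtain ⟨θ, hθ, _, hθv⟩ := root_of_scalar r hr hn h1 h2 hbx
    have hθ0 : θ ≠ 0 := hθ.ne_zero hr.pos.ne'
    have e : b * x = Kc b x * (x * b) := by unfold Kc; group
    have e' : ∀ v, ((Tu b : (Module.End F (Fin n → F))ˣ) : Module.End F (Fin n → F))
        (((Tu x : (Module.End F (Fin n → F))ˣ) : Module.End F (Fin n → F)) v) =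
        θ • ((Tu x : (Module.End F (Fin n → F))ˣ) : Module.End F (Fin n → F))
          (((Tu b : (Module.End F (Fin n → F))ˣ) : Module.End F (Fin n → F)) v) := by
      intro v
      have h3 := congrArg (fun t : GL (Fin n) F =>
        ((Tu t : (Module.End F (Fin n → F))ˣ) : Module.End F (Fin n → F)) v) e
      simp only [map_mul, Units.val_mul, Module.End.mul_apply] at h3
      rw [h3, hθv]
    have := shift_lemma hθ.inv
      ((Tu x : (Module.End F (Fin n → F))ˣ) : Module.End F (Fin n → F)) (Tu b) ⊤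
      (fun v _ => Submodule.mem_top) (by
        intro v _
        rw [e' v, smul_smul, inv_mul_cancel₀ hθ0, one_smul]) μ hμ
    rw [finrank_top, Module.finrank_fintype_fun_eq_card, Fintype.card_fin] at this
    refine le_trans ?_ this
    apply Nat.mul_le_mul_left
    apply Submodule.finrank_mono
    exact le_inf le_rfl le_top

include hr hn hirr hZ hext in
/-- a non-commuting pair in `R` -/
theorem exists_pair : ∃ a ∈ R, ∃ b ∈ R, Kc a b ≠ 1 := by
  by_contra hcon
  push Not at hcon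
  have h1 : commutator R = ⊥ := by
    rw [commutator_eq_bot_iff_center_eq_top, eq_top_iff]
    intro x _
    rw [Subgroup.mem_center_iff]
    intro y
    apply Subtype.ext
    have := (Kc_eq_one_iff (y : GL (Fin n) F) x).1 (hcon y y.2 x x.2)
    exact this
  rw [hext] at h1
  rw [h1] at hZ
  have : Nat.card (⊥ : Subgroup R) = 1 := Subgroup.card_bot
  rw [this] at hZ
  exact hr.one_lt.ne hZ

include hr hn hirr hZ hext in
theorem exists_root : ∃ θ : F, IsPrimitiveRoot θ r := by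
  obtain ⟨a, ha, b, hb, hab⟩ := exists_pair R r hr hn hZ hext hirr
  obtain ⟨h1, h2, _⟩ := Kc_mem_R R r hn hZ hext hirr ha hb
  obtain ⟨θ, hθ, _, _⟩ := root_of_scalar r hr hn h1 h2 hab
  exact ⟨θ, hθ⟩

include hr hn hirr hZ hext in
theorem r_ne_zero : (r : F) ≠ 0 := by
  obtain ⟨θ, hθ⟩ := exists_root R r hr hn hZ hext hirr
  haveI : NeZero r := ⟨hr.ne_zero⟩
  exact (hθ.neZero').out

include hr hn hirr hZ hext in
theorem r_dvd_n : r ∣ n := by
  obtain ⟨a, ha, b, hb, hab⟩ := exists_pair R r hr hn hZ hext hirr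
  obtain ⟨h1, h2, _⟩ := Kc_mem_R R r hn hZ hext hirr ha hb
  obtain ⟨θ, hθ, hθm, _⟩ := root_of_scalar r hr hn h1 h2 hab
  have e : a * b = Kc a b * (b * a) := by unfold Kc; group
  have h3 := congrArg (fun t : GL (Fin n) F => (t : Matrix (Fin n) (Fin n) F).det) e
  simp only [Units.val_mul, Matrix.det_mul] at h3
  rw [hθm, Matrix.det_smul, Matrix.det_one, mul_one, Fintype.card_fin] at h3
  have hda : (a : Matrix (Fin n) (Fin n) F).det ≠ 0 := by
    have := Matrix.GeneralLinearGroup.det_ne_zero a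
    exact this
  have hdb : (b : Matrix (Fin n) (Fin n) F).det ≠ 0 := Matrix.GeneralLinearGroup.det_ne_zero b
  have h4 : θ ^ n = 1 := by
    have h5 : (θ ^ n - 1) * ((a : Matrix (Fin n) (Fin n) F).det *
        (b : Matrix (Fin n) (Fin n) F).det) = 0 := by linear_combination -h3
    rcases mul_eq_zero.1 h5 with h6 | h6
    · exact sub_eq_zero.1 h6
    · exact absurd h6 (mul_ne_zero hda hdb)
  exact hθ.dvd_of_pow_eq_one n h4

end

end Cfsg.Agent.Lib.H2.Ex5
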