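import Mathlib
import Cfsg.Prelude.Def_GeometricClasses
import Cfsg.Agent.Lib.H2.Ex5B
import Cfsg.Agent.Lib.H2.Ex5D

/-!
# S5877 (helper2): eigenspaces of elements normalizing an absolutely irreducible extraspecial group
-/

set_option autoImplicit false
set_option linter.unusedSectionVars false
set_option linter.style.haveILetI false

open scoped MatrixGroups commutatorElement
open Module

namespace Cfsg.Agent.Lib.H2.Ex5

variable {F : Type*} [Field F] {n : ℕ}

/-- the endomorphism of `F^n` attached to an invertible matrix -/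
noncomputable def Te (x : GL (Fin n) F) : Module.End F (Fin n → F) :=
  ((Tu x : (Module.End F (Fin n → F))ˣ) : Module.End F (Fin n → F))

theorem Te_mul_apply (x y : GL (Fin n) F) (v : Fin n → F) : Te (x * y) v = Te x (Te y v) := by
  unfold Te
  rw [map_mul, Units.val_mul, Module.End.mul_apply]

theorem Te_one_apply (v : Fin n → F) : Te (1 : GL (Fin n) F) v = v := by
  unfold Te
  rw [map_one, Units.val_one, Module.End.one_apply]

theorem Te_inv_apply (x : GL (Fin n) F) (v : Fin n → F) : Te x⁻¹ (Te x v) = v := by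
  rw [← Te_mul_apply, inv_mul_cancel, Te_one_apply]

theorem Te_apply_inv (x : GL (Fin n) F) (v : Fin n → F) : Te x (Te x⁻¹ v) = v := by
  rw [← Te_mul_apply, mul_inv_cancel, Te_one_apply]

theorem Te_injective (x : GL (Fin n) F) : Function.Injective (Te x) := by
  intro v w h
  have := congrArg (Te x⁻¹) h
  rwa [Te_inv_apply, Te_inv_apply] at this

theorem Te_pow_apply_eigen (g : GL (Fin n) F) (c : F) (v : Fin n → F) (hv : Te g v = c • v)
    (j : ℕ) : Te (g ^ j) v = c ^ j • v := by
  induction j with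
  | zero => rw [pow_zero, Te_one_apply, pow_zero, one_smul]
  | succ j ih => rw [pow_succ, Te_mul_apply, hv, map_smul, ih, smul_smul, pow_succ, mul_comm]

/-- if `v` and `x v` are `c`-eigenvectors of `g`, then `x⁻¹ x^{g^j}` fixes `v` -/
theorem conj_fix (g x : GL (Fin n) F) (c : F) (hc : c ≠ 0) (v : Fin n → F)
    (hv : Te g v = c • v) (hxv : Te g (Te x v) = c • Te x v) (j : ℕ) :
    Te (x⁻¹ * ((g ^ j)⁻¹ * x * g ^ j)) v = v := by
  have h1 : Te (g ^ j) (Te x v) = c ^ j • Te x v := Te_pow_apply_eigen g c _ hxv j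
  have h2 : Te (g ^ j)⁻¹ (Te x v) = (c ^ j)⁻¹ • Te x v := by
    have h3 := Te_inv_apply (g ^ j) (Te x v)
    rw [h1, map_smul] at h3
    rw [← h3, smul_smul, inv_mul_cancel₀ (pow_ne_zero _ hc), one_smul, h3]
  rw [Te_mul_apply, Te_mul_apply, Te_mul_apply, Te_pow_apply_eigen g c v hv j, map_smul, map_smul,
    h2, smul_smul, mul_inv_cancel₀ (pow_ne_zero _ hc), one_smul, Te_inv_apply]

theorem main [Fintype F] {r ϖ : ℕ} (R : Subgroup (GL (Fin n) F)) (hr : r.Prime)
    (hR : IsPGroup r R) (hZ : Nat.card (Subgroup.center R) = r)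
    (hext : commutator R = Subgroup.center R)
    (hexp : Monoid.exponent R = r ∨ Monoid.exponent R = 4)
    (hirr : Cfsg.Geo.ActsAbsolutelyIrreducibly (Cfsg.Geo.matrixSet R))
    (g : GL (Fin n) F)
    (hg : g ∈ Cfsg.Geo.subgroupNormalizer (R ⊔ Cfsg.Geo.scalars (Fin n) F))
    (hϖ : ϖ.Prime) (hord : orderOf g = ϖ) (hns : g ∉ Cfsg.Geo.scalars (Fin n) F) (c : F) :
    (ϖ = 2 → 4 * finrank F (Module.End.eigenspace
      (Matrix.toLin' (g : Matrix (Fin n) (Fin n) F)) c) ≤ 3 * n) ∧
    (ϖ = 3 → 3 * finrank F (Module.End.eigenspace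
      (Matrix.toLin' (g : Matrix (Fin n) (Fin n) F)) c) ≤ 2 * n) ∧
    (3 < ϖ → 2 * finrank F (Module.End.eigenspace
      (Matrix.toLin' (g : Matrix (Fin n) (Fin n) F)) c) ≤ n) ∧
    (ϖ = 3 → ¬ 3 ∣ n → 2 * finrank F (Module.End.eigenspace
      (Matrix.toLin' (g : Matrix (Fin n) (Fin n) F)) c) ≤ n) := by
  classical
  haveI : Fact r.Prime := ⟨hr⟩
  -- `n` is positive
  have hn : 0 < n := by
    rcases Nat.eq_zero_or_pos n with h0 | h0
    · subst h0
      exfalso
      apply hns
      rw [Cfsg.Geo.mem_scalars_iff]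
      exact ⟨1, Subsingleton.elim _ _⟩
    · exact h0
  have hirr2 := hirr.2
  set E : Subgroup (GL (Fin n) F) := R ⊔ Cfsg.Geo.scalars (Fin n) F with hE
  have hRE : R ≤ E := le_sup_left
  have hW : Module.End.eigenspace (Matrix.toLin' (g : Matrix (Fin n) (Fin n) F)) c =
      (Te g).eigenspace c := rfl
  rw [hW]
  set W := (Te g).eigenspace c with hWdef
  set d := finrank F W with hd
  have hVn : finrank F (Fin n → F) = n := by
    rw [Module.finrank_fintype_fun_eq_card, Fintype.card_fin]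
  -- the case `c = 0`
  by_cases hc : c = 0
  · have : W = ⊥ := by
      rw [hWdef, hc, Module.End.eigenspace_zero, LinearMap.ker_eq_bot]
      exact Te_injective g
    have hd0 : d = 0 := by rw [hd, this, finrank_bot]
    rw [hd0]
    refine ⟨fun _ => by omega, fun _ => by omega, fun _ => by omega, fun _ _ => by omega⟩
  -- `g` normalizes `E`
  have hgE : ∀ x ∈ E, g⁻¹ * x * g ∈ E ∧ g * x * g⁻¹ ∈ E := by
    intro x hx
    unfold Cfsg.Geo.subgroupNormalizer at hg
    rw [Subgroup.mem_normalizer_iff] at hg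
    refine ⟨(hg _).2 ?_, (hg x).1 hx⟩
    have e : g * (g⁻¹ * x * g) * g⁻¹ = x := by group
    rw [e]
    exact hx
  have hgϖ : g ^ ϖ = 1 := by rw [← hord]; exact pow_orderOf_eq_one g
  have hmemW : ∀ v, v ∈ W ↔ Te g v = c • v := fun v => Module.End.mem_eigenspace_iff
  -- the basic bound
  have basic : ∀ x ∈ E, x⁻¹ * g⁻¹ * x * g ∉ Cfsg.Geo.scalars (Fin n) F →
      2 * d * r ≤ n * r + n := by
    intro x hx hu
    have huE : x⁻¹ * g⁻¹ * x * g ∈ E := by
      have e : x⁻¹ * g⁻¹ * x * g = x⁻¹ * (g⁻¹ * x * g) := by group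
      rw [e]
      exact E.mul_mem (E.inv_mem hx) (hgE x hx).1
    have h1 := finrank_inf_comap W (Tu x)
    have h2 : W ⊓ W.comap ((Tu x : (Module.End F (Fin n → F))ˣ) : Module.End F (Fin n → F)) ≤
        (Te (x⁻¹ * g⁻¹ * x * g)).eigenspace 1 := by
      intro v hv
      rw [Submodule.mem_inf, Submodule.mem_comap, hmemW, hmemW] at hv
      rw [Module.End.mem_eigenspace_iff, one_smul]
      have := conj_fix g x c hc v hv.1 hv.2 1
      rw [pow_one] at this
      have e : x⁻¹ * g⁻¹ * x * g = x⁻¹ * (g⁻¹ * x * g) := by group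
      rw [e]
      exact this
    have h3 := eig_le R r hr hn hZ hext hirr2 huE hu 1
    have h4 := Submodule.finrank_mono h2
    rw [hVn] at h1
    have h5 : 2 * d ≤ n + finrank F ↥((Te (x⁻¹ * g⁻¹ * x * g)).eigenspace 1) := by
      refine le_trans h1 ?_
      exact Nat.add_le_add_left h4 n
    have h6 : r * finrank F ↥((Te (x⁻¹ * g⁻¹ * x * g)).eigenspace 1) ≤ n := h3
    nlinarith
  -- `g` centralizes `R` modulo scalars
  have caseA : (∀ x ∈ R, x⁻¹ * g⁻¹ * x * g ∈ Cfsg.Geo.scalars (Fin n) F) → 2 * d ≤ n := by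
    intro hall
    obtain ⟨x, hx, hx1⟩ : ∃ x ∈ R, x⁻¹ * g⁻¹ * x * g ≠ 1 := by
      by_contra hcon
      push Not at hcon
      apply hns
      apply mem_scalars_of_comm R hn hirr2
      intro a ha
      have h1 := hcon a ha
      calc a * g = g * a * (a⁻¹ * g⁻¹ * a * g) := by group
        _ = g * a := by rw [h1, mul_one]
    have hus := hall x hx
    obtain ⟨u, hu⟩ : ∃ u, u = x⁻¹ * g⁻¹ * x * g := ⟨_, rfl⟩
    rw [← hu] at hx1 hus
    obtain ⟨θ, hθ0, hθm, hθv⟩ := scalar_apply hus
    have hθ1 : θ ≠ 1 := by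
      rintro rfl
      apply hx1
      apply Units.ext
      rw [hθm, one_smul, Units.val_one]
    have hfin : IsOfFinOrder θ := by
      rw [isOfFinOrder_iff_pow_eq_one]
      exact ⟨Fintype.card F - 1, by
        have := Fintype.one_lt_card (α := F)
        omega, FiniteField.pow_card_sub_one_eq_one θ hθ0⟩
    have hprim : IsPrimitiveRoot θ (orderOf θ) := IsPrimitiveRoot.orderOf θ
    have ho2 : 2 ≤ orderOf θ := by
      have h1 : 0 < orderOf θ := hfin.orderOf_pos
      have h2 : orderOf θ ≠ 1 := fun h => hθ1 (orderOf_eq_one_iff.1 h)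
      omega
    have e : x * g = g * x * u := by rw [hu]; group
    have hrel : ∀ v, Te g (Te x v) = θ⁻¹ • Te x (Te g v) := by
      intro v
      have h1 := congrArg (fun t : GL (Fin n) F => Te t v) e
      simp only [Te_mul_apply] at h1
      have h2 : Te u v = θ • v := hθv v
      rw [h2, map_smul, map_smul] at h1
      rw [h1, smul_smul, inv_mul_cancel₀ hθ0, one_smul]
    have := shift_lemma hprim.inv (Te g) (Tu x) ⊤ (fun v _ => Submodule.mem_top)
      (fun v _ => hrel v) c hc
    rw [finrank_top, hVn] at this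
    have h3 : finrank F ↥((Te g).eigenspace c ⊓ ⊤) = d := by
      rw [inf_top_eq]
    rw [h3] at this
    calc 2 * d ≤ orderOf θ * d := Nat.mul_le_mul_right d ho2
      _ ≤ n := this
  -- commutators of `E`
  have hcen : ∀ x ∈ E, ∀ y ∈ E, Cen (Kc x y) := fun x hx y hy =>
    cen_of_mem_scalars (Kc_mem_E R r hn hZ hext hirr2 hx hy).1
  have hpow : ∀ x ∈ E, ∀ y ∈ E, Kc x y ^ r = 1 := fun x hx y hy =>
    (Kc_mem_E R r hn hZ hext hirr2 hx hy).2.1
  have hcenZ : ∀ z : GL (Fin n) F, (∀ x ∈ E, x * z = z * x) → z ∈ Cfsg.Geo.scalars (Fin n) F := by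
    intro z hz
    exact mem_scalars_of_comm R hn hirr2 z (fun a ha => hz a (hRE ha))
  -- the case of odd `ϖ ≠ r`
  have oddne : ϖ ≠ r → Odd ϖ → 2 * d ≤ n := by
    intro hne hodd
    by_cases H : ∀ x ∈ E, ∀ j k : ℕ,
        (x⁻¹ * ((g ^ j)⁻¹ * x * g ^ j)) * (x⁻¹ * ((g ^ k)⁻¹ * x * g ^ k)) =
          (x⁻¹ * ((g ^ k)⁻¹ * x * g ^ k)) * (x⁻¹ * ((g ^ j)⁻¹ * x * g ^ j))
    · have hpol := polarization E g r ϖ (fun x hx => (hgE x hx).1) hcen hpow hgϖ hodd
        ((Nat.coprime_primes hϖ hr).2 hne)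
        (fun z _ hz => cen_of_mem_scalars (hcenZ z hz)) H
      apply caseA
      intro x hx
      apply hcenZ
      intro y _
      exact hpol x (hRE hx) y
    · push Not at H
      obtain ⟨x, hx, j, k, hjk⟩ := H
      have hcj : ∀ j : ℕ, (g ^ j)⁻¹ * x * g ^ j ∈ E := by
        intro j
        induction j with
        | zero => simpa using hx
        | succ j ih =>
          have e : (g ^ (j + 1))⁻¹ * x * g ^ (j + 1) = g⁻¹ * ((g ^ j)⁻¹ * x * g ^ j) * g := by
            rw [pow_succ]; group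
          rw [e]
          exact (hgE _ ih).1
      set a := x⁻¹ * ((g ^ j)⁻¹ * x * g ^ j) with ha
      set b := x⁻¹ * ((g ^ k)⁻¹ * x * g ^ k) with hb
      have haE : a ∈ E := E.mul_mem (E.inv_mem hx) (hcj j)
      have hbE : b ∈ E := E.mul_mem (E.inv_mem hx) (hcj k)
      have hK1 : Kc a b ≠ 1 := fun h => hjk ((Kc_eq_one_iff a b).1 h)
      obtain ⟨hKs, hKr, _⟩ := Kc_mem_E R r hn hZ hext hirr2 haE hbE
      obtain ⟨θ, hθ, _, hθv⟩ := root_of_scalar r hr hn hKs hKr hK1
      have hθ1 : θ ≠ 1 := hθ.ne_one hr.one_lt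
      have hbot : W ⊓ W.comap ((Tu x : (Module.End F (Fin n → F))ˣ) :
          Module.End F (Fin n → F)) = ⊥ := by
        rw [eq_bot_iff]
        intro v hv
        rw [Submodule.mem_inf, Submodule.mem_comap, hmemW, hmemW] at hv
        have h1 : Te a v = v := conj_fix g x c hc v hv.1 hv.2 j
        have h2 : Te b v = v := conj_fix g x c hc v hv.1 hv.2 k
        have e : a * b = Kc a b * (b * a) := by unfold Kc; group
        have h3 := congrArg (fun t : GL (Fin n) F => Te t v) e
        simp only [Te_mul_apply] at h3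
        rw [h1, h2, h1] at h3
        have h4 : Te (Kc a b) v = θ • v := hθv v
        rw [h4] at h3
        rw [Submodule.mem_bot]
        have h5 : (θ - 1) • v = 0 := by rw [sub_smul, one_smul, ← h3, sub_self]
        rcases smul_eq_zero.1 h5 with h6 | h6
        · exact absurd (sub_eq_zero.1 h6) hθ1
        · exact h6
      have h1 := finrank_inf_comap W (Tu x)
      rw [hbot, finrank_bot, hVn] at h1
      exact h1
  -- the case `ϖ = r` odd
  have eqr : ϖ = r → r ≠ 2 → r * d ≤ 2 * n := by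
    intro hϖr hr2
    have hexpr : Monoid.exponent R = r := by
      rcases hexp with h | h
      · exact h
      · exfalso
        obtain ⟨k, hk⟩ := hR.exists_card_eq
        have h1 : Monoid.exponent R ∣ Nat.card R := Group.exponent_dvd_nat_card
        rw [h, hk] at h1
        have h2 : 2 ∣ r ^ k := dvd_trans (by norm_num) h1
        have h3 := Nat.Prime.dvd_of_dvd_pow Nat.prime_two h2
        exact hr2 ((Nat.prime_dvd_prime_iff_eq Nat.prime_two hr).1 h3).symm
    have hRr : ∀ a ∈ R, a ^ r = 1 := by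
      intro a ha
      have h1 : (⟨a, ha⟩ : R) ^ r = 1 := by
        rw [← hexpr]
        exact Monoid.pow_exponent_eq_one _
      exact congrArg (fun t : R => (t : GL (Fin n) F)) h1
    -- scalars of `r`-torsion belong to `R`
    obtain ⟨a₀, ha₀, b₀, hb₀, hab₀⟩ := exists_pair R r hr hn hZ hext hirr2
    obtain ⟨hk₀s, hk₀r, hk₀R⟩ := Kc_mem_R R r hn hZ hext hirr2 ha₀ hb₀
    obtain ⟨θ₀, hθ₀, hθ₀m, _⟩ := root_of_scalar r hr hn hk₀s hk₀r hab₀
    have hscR : ∀ z ∈ Cfsg.Geo.scalars (Fin n) F, z ^ r = 1 → z ∈ R := by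
      intro z hz hzr
      obtain ⟨θ, hθ0, hθm, _⟩ := scalar_apply hz
      have h1 : θ ^ r = 1 := by
        have h2 := congrArg (fun t : GL (Fin n) F => (t : Matrix (Fin n) (Fin n) F)) hzr
        simp only [Units.val_pow_eq_pow_val, Units.val_one] at h2
        rw [hθm, smul_pow, one_pow] at h2
        have h3 := congrFun (congrFun h2 ⟨0, hn⟩) ⟨0, hn⟩
        simpa using h3
      obtain ⟨i, _, hi⟩ := hθ₀.eq_pow_of_pow_eq_one h1
      have : z = Kc a₀ b₀ ^ i := by
        apply Units.ext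
        rw [Units.val_pow_eq_pow_val, hθ₀m, smul_pow, one_pow, hi, hθm]
      rw [this]
      exact R.pow_mem hk₀R i
    have hnormR : ∀ h : GL (Fin n) F, (∀ x ∈ E, h * x * h⁻¹ ∈ E) → ∀ a ∈ R, h * a * h⁻¹ ∈ R := by
      intro h hh a ha
      obtain ⟨a', ha', z, hz, haz⟩ := (mem_E_iff R _).1 (hh a (hRE ha))
      have h1 : (h * a * h⁻¹) ^ r = 1 := by
        have e : (h * a * h⁻¹) ^ r = h * a ^ r * h⁻¹ := conj_pow
        rw [e, hRr a ha]
        group
      have h2 : (a' * z) ^ r = a' ^ r * z ^ r := by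
        apply Commute.mul_pow
        exact (cen_of_mem_scalars hz a')
      rw [← haz, h2, hRr a' ha', one_mul] at h1
      rw [← haz]
      exact R.mul_mem ha' (hscR z hz h1)
    have hnR1 : ∀ a ∈ R, g⁻¹ * a * g ∈ R := by
      intro a ha
      have := hnormR g⁻¹ (fun x hx => by rw [inv_inv]; exact (hgE x hx).1) a ha
      rwa [inv_inv] at this
    have hnR2 : ∀ a ∈ R, g * a * g⁻¹ ∈ R := hnormR g (fun x hx => (hgE x hx).2)
    obtain ⟨x₀, hx₀, hx₀g⟩ : ∃ x₀ ∈ R, g * x₀ ≠ x₀ * g := by
      by_contra hcon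
      push Not at hcon
      apply hns
      apply mem_scalars_of_comm R hn hirr2
      intro a ha
      exact (hcon a ha).symm
    have hgr : g ^ r = 1 := by rw [← hϖr]; exact hgϖ
    obtain ⟨y, hy, hlR, hl1, hgl⟩ := exists_commuting_commutator R g r hR hgr hnR1 hnR2 x₀ hx₀ hx₀g
    set l := y⁻¹ * g⁻¹ * y * g with hl
    have hyl_rel : g⁻¹ * y * g = y * l := by rw [hl]; group
    have hlr : l ^ r = 1 := hRr l hlR
    have hr0 : (r : F) ≠ 0 := r_ne_zero R r hr hn hZ hext hirr2
    have hfin : r * finrank F ↥((Te g).eigenspace c) ≤ 2 * finrank F (Fin n → F) → r * d ≤ 2 * n := by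
      intro h
      rw [hVn] at h
      exact h
    by_cases hls : l ∈ Cfsg.Geo.scalars (Fin n) F
    · -- `l` is a scalar
      obtain ⟨θ, hθ, _, hθv⟩ := root_of_scalar r hr hn hls hlr hl1
      have hθ0 : θ ≠ 0 := hθ.ne_zero hr.pos.ne'
      have e : y * g = g * y * l := by rw [mul_assoc, ← hyl_rel]; group
      have hrel : ∀ v, Te g (Te y v) = θ⁻¹ • Te y (Te g v) := by
        intro v
        have h1 := congrArg (fun t : GL (Fin n) F => Te t v) e
        simp only [Te_mul_apply] at h1
        have h2 : Te l v = θ • v := hθv v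
        rw [h2, map_smul, map_smul] at h1
        rw [h1, smul_smul, inv_mul_cancel₀ hθ0, one_smul]
      have := shift_lemma hθ.inv (Te g) (Tu y) ⊤ (fun v _ => Submodule.mem_top)
        (fun v _ => hrel v) c hc
      rw [finrank_top, hVn, inf_top_eq] at this
      calc r * d ≤ n := this
        _ ≤ 2 * n := by omega
    · have hlE : l ∈ E := hRE hlR
      have hdim : ∀ μ : F, r * finrank F ↥(((Tu l : (Module.End F (Fin n → F))ˣ) :
          Module.End F (Fin n → F)).eigenspace μ) ≤ finrank F (Fin n → F) := by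
        intro μ
        rw [hVn]
        exact eig_le R r hr hn hZ hext hirr2 hlE hls μ
      have hTgl : Tu g * Tu l = Tu l * Tu g := by rw [← map_mul, ← map_mul, hgl]
      have hTgy : (Tu g)⁻¹ * Tu y * Tu g = Tu y * Tu l := by
        rw [← map_inv, ← map_mul, ← map_mul, ← map_mul, hyl_rel]
      have hTlr : Tu l ^ r = 1 := by rw [← map_pow, hlr, map_one]
      by_cases hcomm : Kc y l = 1
      · -- `y` and `l` commute
        have hTyl : Tu y * Tu l = Tu l * Tu y := by
          rw [← map_mul, ← map_mul, (Kc_eq_one_iff y l).1 hcomm]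
        apply hfin
        exact lemmaP hr hθ₀ hr0 (Tu g) (Tu y) (Tu l) hTgl hTyl hTgy hTlr hdim c hc
      · -- `y` and `l` do not commute
        obtain ⟨hKs, hKr, _⟩ := Kc_mem_R R r hn hZ hext hirr2 hy hlR
        obtain ⟨κ, hκ, _, hκv⟩ := root_of_scalar r hr hn hKs hKr hcomm
        have e : y * l = Kc y l * (l * y) := by unfold Kc; group
        have hau : ∀ v, ((Tu y : (Module.End F (Fin n → F))ˣ) : Module.End F (Fin n → F))
            (((Tu l : (Module.End F (Fin n → F))ˣ) : Module.End F (Fin n → F)) v) =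
            κ • ((Tu l : (Module.End F (Fin n → F))ˣ) : Module.End F (Fin n → F))
              (((Tu y : (Module.End F (Fin n → F))ˣ) : Module.End F (Fin n → F)) v) := by
          intro v
          have h1 := congrArg (fun t : GL (Fin n) F => Te t v) e
          simp only [Te_mul_apply] at h1
          have h2 : Te (Kc y l) (Te l (Te y v)) = κ • Te l (Te y v) := hκv _
          rw [h2] at h1
          exact h1
        apply hfin
        exact lemmaQ hr hκ hr0 (Tu g) (Tu y) (Tu l) hTgl hTlr hau hTgy c hc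
  -- the first clause holds in general
  have c1 : 4 * d ≤ 3 * n := by
    by_cases hall : ∀ x ∈ R, x⁻¹ * g⁻¹ * x * g ∈ Cfsg.Geo.scalars (Fin n) F
    · have := caseA hall
      omega
    · push Not at hall
      obtain ⟨x, hx, hxu⟩ := hall
      have h1 := basic x (hRE hx) hxu
      have h2 : 2 ≤ r := hr.two_le
      have h3 : 4 * d * r ≤ 3 * n * r := by nlinarith
      exact Nat.le_of_mul_le_mul_right h3 hr.pos
  refine ⟨fun _ => c1, ?_, ?_, ?_⟩
  · intro h3
    by_cases hr3 : r = 3
    · have := eqr (by rw [h3, hr3]) (by omega)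
      rw [hr3] at this
      exact this
    · have := oddne (by rw [h3]; exact fun h => hr3 h.symm) (by rw [h3]; decide)
      omega
  · intro h3
    have hodd : Odd ϖ := hϖ.odd_of_ne_two (by omega)
    by_cases hϖr : ϖ = r
    · have h1 := eqr hϖr (by omega)
      have h2 : 5 ≤ r := by
        rw [← hϖr]
        by_contra hlt
        push Not at hlt
        have : ϖ = 4 := by omega
        rw [this] at hϖ
        exact absurd hϖ (by norm_num)
      have h4 : 5 * d ≤ r * d := Nat.mul_le_mul_right d h2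
      omega
    · exact oddne hϖr hodd
  · intro h3 h3n
    have hr3 : r ≠ 3 := by
      rintro rfl
      exact h3n (r_dvd_n R 3 hr hn hZ hext hirr2)
    exact oddne (by rw [h3]; exact fun h => hr3 h.symm) (by rw [h3]; decide)

end Cfsg.Agent.Lib.H2.Ex5
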