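/-
S5664 piece FL (architect helper9): the field lemma.
-/
import Cfsg.Agent.Lib.H9.ExtSpDefs
import Cfsg.Agent.Lib.H1.C3MaxBase

set_option autoImplicit false

namespace Cfsg.Agent.Lib.H2.ExtSp

open Module Cfsg.Agent.Lib.H9.ExtSp

variable {F K : Type*} [Field F] [Field K] [Algebra F K]

/-- the pairing `(a, b) ↦ lam (a * b)` on `K`. -/
def pairing (lam : K →ₗ[F] F) : LinearMap.BilinForm F K := (LinearMap.mul F K).compr₂ lam

theorem pairing_apply (lam : K →ₗ[F] F) (a b : K) : pairing lam a b = lam (a * b) := rfl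

theorem pairing_nondeg {lam : K →ₗ[F] F} (hlam : lam ≠ 0) : (pairing lam).Nondegenerate := by
  have key : ∀ a : K, (∀ b, lam (a * b) = 0) → a = 0 := by
    intro a h
    by_contra ha
    apply hlam
    ext c
    have := h (a⁻¹ * c)
    rwa [← mul_assoc, mul_inv_cancel₀ ha, one_mul] at this
  constructor
  · intro a h; exact key a h
  · intro b h; exact key b (fun a => by rw [mul_comm]; exact h a)

/-- **FL** (field lemma, pure algebra in `K/F`). -/
theorem fieldLemma [FiniteDimensional F K] (hr : (finrank F K).Prime) (lam : K →ₗ[F] F)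
    (hlam : lam ≠ 0) (D E : Submodule F K)
    (hDE : ∀ d ∈ D, ∀ e ∈ E, lam (d * e) = 0)
    (hD0 : D ≠ ⊥) (hD1 : D ≠ ⊤) (hE0 : E ≠ ⊥)
    (hdich : ∀ a : K, (∃ e ∈ E, ∃ e' ∈ E, lam (a * e * e') ≠ 0) →
      (∀ e ∈ E, a * e ∈ D) ∨
      (finrank F K - finrank F E) + finrank F ↥(E ⊓ D.comap (LinearMap.mulLeft F a))
        ≤ finrank F D) :
    finrank F E = 1 ∧ finrank F D + 1 = finrank F K := by
  classical
  have hP := pairing_nondeg hlam
  have hDperp : D ≤ (pairing lam).orthogonal E := by
    intro d hd
    rw [LinearMap.BilinForm.mem_orthogonal_iff]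
    intro e he
    show lam (e * d) = 0
    rw [mul_comm]; exact hDE d hd e he
  have hfo := LinearMap.BilinForm.finrank_orthogonal hP E
  have hle : finrank F D ≤ finrank F K - finrank F E := hfo ▸ Submodule.finrank_mono hDperp
  have hεle : finrank F E ≤ finrank F K := Submodule.finrank_le E
  obtain ⟨e₀, he₀E, he₀⟩ := Submodule.exists_mem_ne_zero_of_ne_bot hE0
  have hspan : ∀ W : Submodule F K,
      (∀ a, (∃ e ∈ E, ∃ e' ∈ E, lam (a * e * e') ≠ 0) → a ∈ W) → W = ⊤ := by
    intro W hW
    obtain ⟨a1, ha1⟩ : ∃ a1, lam (a1 * e₀ * e₀) ≠ 0 := by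
      by_contra h
      push Not at h
      have := hP.2 (e₀ * e₀) (fun a => by
        show lam (a * (e₀ * e₀)) = 0
        rw [← mul_assoc]; exact h a)
      exact he₀ (mul_self_eq_zero.1 this)
    rw [eq_top_iff]
    intro a _
    by_cases ha : ∃ e ∈ E, ∃ e' ∈ E, lam (a * e * e') ≠ 0
    · exact hW a ha
    · push Not at ha
      have h1 : a1 ∈ W := hW a1 ⟨e₀, he₀E, e₀, he₀E, ha1⟩
      have h2 : a + a1 ∈ W := hW (a + a1) ⟨e₀, he₀E, e₀, he₀E, by
        rw [add_mul, add_mul, map_add, ha e₀ he₀E e₀ he₀E, zero_add]; exact ha1⟩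
      have : a = (a + a1) - a1 := by ring
      rw [this]; exact W.sub_mem h2 h1
  let W : Submodule F K :=
    { carrier := {a | ∀ e ∈ E, a * e ∈ D}
      add_mem' := by
        intro a b ha hb e he
        rw [add_mul]; exact D.add_mem (ha e he) (hb e he)
      zero_mem' := by
        intro e _
        rw [zero_mul]; exact D.zero_mem
      smul_mem' := by
        intro c a ha e he
        rw [smul_mul_assoc]; exact D.smul_mem c (ha e he) }
  by_cases hcase : finrank F E + finrank F D < finrank F K
  · exfalso
    have hWtop : W = ⊤ := hspan W (fun a ha => by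
      rcases hdich a ha with h | h
      · exact h
      · exfalso; omega)
    apply hD1
    rw [eq_top_iff]
    intro x _
    have h1 : x * e₀⁻¹ ∈ W := by rw [hWtop]; trivial
    have h2 := h1 e₀ he₀E
    rwa [mul_assoc, inv_mul_cancel₀ he₀, mul_one] at h2
  · have hsum : finrank F E + finrank F D = finrank F K := by omega
    have hDeq : D = (pairing lam).orthogonal E :=
      Submodule.eq_of_le_of_finrank_eq hDperp (by rw [hfo]; omega)
    have hall : ∀ a : K, (∀ e ∈ E, a * e ∈ D) ∨ (∀ e ∈ E, a * e ∈ D → e = 0) := by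
      intro a
      by_cases ha : ∃ e ∈ E, ∃ e' ∈ E, lam (a * e * e') ≠ 0
      · rcases hdich a ha with h | h
        · left; exact h
        · right
          have h0 : finrank F ↥(E ⊓ D.comap (LinearMap.mulLeft F a)) = 0 := by omega
          rw [Submodule.finrank_eq_zero] at h0
          intro e he hae
          have : e ∈ E ⊓ D.comap (LinearMap.mulLeft F a) := ⟨he, hae⟩
          rw [h0] at this
          exact (Submodule.mem_bot F).1 this
      · left
        push Not at ha
        intro e he
        rw [hDeq, LinearMap.BilinForm.mem_orthogonal_iff]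
        intro e' he'
        show lam (e' * (a * e)) = 0
        have := ha e he e' he'
        rw [show e' * (a * e) = a * e * e' by ring]; exact this
    have hstab : ∀ e ∈ E, ∀ d ∈ D, (e * e₀⁻¹) * d ∈ D := by
      intro e he d hd
      rcases hall (d * e₀⁻¹) with h | h
      · have := h e he
        rwa [show d * e₀⁻¹ * e = e * e₀⁻¹ * d by ring] at this
      · exfalso
        apply he₀
        apply h e₀ he₀E
        rw [mul_assoc, inv_mul_cancel₀ he₀, mul_one]; exact hd
    have hE1 : finrank F E = 1 := by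
      by_contra hne
      have hpos : finrank F E ≠ 0 := fun h => hE0 (Submodule.finrank_eq_zero.1 h)
      have h2 : 1 < finrank F E := by omega
      obtain ⟨e, heE, hespan⟩ : ∃ e ∈ E, e ∉ Submodule.span F {e₀} := by
        by_contra h
        push Not at h
        have hle' : E ≤ Submodule.span F {e₀} := fun e he => h e he
        have := Submodule.finrank_mono hle'
        rw [finrank_span_singleton he₀] at this
        omega
      have hρ : e * e₀⁻¹ ∉ Set.range (algebraMap F K) := by
        rintro ⟨c, hc⟩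
        apply hespan
        rw [Submodule.mem_span_singleton]
        refine ⟨c, ?_⟩
        rw [Algebra.smul_def, hc, mul_assoc, inv_mul_cancel₀ he₀, mul_one]
      rcases Cfsg.Agent.Lib.H1.C3Max.eq_bot_or_eq_top_of_mul_mem hr D (e * e₀⁻¹) hρ
        (hstab e heE) with h | h
      · exact hD0 h
      · exact hD1 h
    exact ⟨hE1, by omega⟩

end Cfsg.Agent.Lib.H2.ExtSp
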