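import Mathlib
import Cfsg.Agent.Lib.H2.BN5

set_option autoImplicit false
set_option linter.unusedSectionVars false

/-!
# Feit–Higman, part 1: right-handed multiplication rules for double cosets of a (B,N)-pair
-/

namespace Cfsg.Agent.Lib.H2.FH

open Cfsg DoubleCoset Cfsg.Agent.Lib.H2.BN

variable {G : Type*} [Group G] {P : BNPair G}

theorem len_inv {n : G} (hn : n ∈ P.N) : len P n⁻¹ = len P n := by
  have key : ∀ m ∈ P.N, len P m⁻¹ ≤ len P m := by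
    intro m hm
    obtain ⟨l, hl, hlen, he⟩ := exists_reduced hm
    have h1 : Eqv P l.prod⁻¹ l.reverse.prod := prod_inv_eqv_reverse (le_refl _) hl
    have h2 : Eqv P l.prod⁻¹ m⁻¹ := he.inv (hl.prod_mem_N (le_refl _)) hm
    have h3 : Eqv P l.reverse.prod m⁻¹ := h1.symm.trans h2
    have := len_le hl.reverse h3
    rw [List.length_reverse, hlen] at this
    exact this
  have h1 := key n hn
  have h2 := key n⁻¹ (P.N.inv_mem hn)
  rw [inv_inv] at h2
  omega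

theorem len_mul_S_eq {s n : G} (hs : s ∈ P.S) (hn : n ∈ P.N) :
    len P (n * s) = len P (s * n⁻¹) := by
  have hsN := S_mem_N hs
  rw [← len_inv (P.N.mul_mem hn hsN)]
  apply len_congr
  have h1 : Eqv P (s⁻¹) s := S_inv_eqv hs
  have h2 := h1.mul_right (P.N.inv_mem hsN) hsN (P.N.inv_mem hn)
  simpa [mul_inv_rev] using h2

theorem len_mul_S_cases {s n : G} (hs : s ∈ P.S) (hn : n ∈ P.N) :
    len P (n * s) = len P n + 1 ∨ len P (n * s) + 1 = len P n := by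
  rw [len_mul_S_eq hs hn]
  have := len_smul_cases hs (P.N.inv_mem hn)
  rwa [len_inv hn] at this

theorem eqv_mul_S_sq {s n : G} (hs : s ∈ P.S) : Eqv P (n * s * s) n := by
  have : (n * s * s)⁻¹ * n = (s * s)⁻¹ := by group
  rw [Eqv, this]
  exact P.B.inv_mem (S_sq hs)

theorem nbs_mem_C {s n b : G} (hs : s ∈ P.S) (hn : n ∈ P.N)
    (hle : len P n ≤ len P (n * s)) (hb : b ∈ P.B) : n * b * s ∈ C P (n * s) := by
  have hn' : n⁻¹ ∈ P.N := P.N.inv_mem hn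
  have hle' : len P n⁻¹ ≤ len P (s * n⁻¹) := by
    rw [len_inv hn, ← len_mul_S_eq hs hn]; exact hle
  have h1 := smul_mem_C_of_len_le hs hn' hle' (P.B.inv_mem hb)
  have h2 : s⁻¹ * b⁻¹ * n⁻¹ ∈ C P (s * n⁻¹) := by
    have e : s⁻¹ * b⁻¹ * n⁻¹ = (s * s)⁻¹ * (s * b⁻¹ * n⁻¹) := by group
    rw [e]; exact mul_left_mem_C (P.B.inv_mem (S_sq hs)) h1
  have h3 := inv_mem_C h2
  have e2 : (s⁻¹ * b⁻¹ * n⁻¹)⁻¹ = n * b * s := by group
  have e3 : (s * n⁻¹)⁻¹ = n * s⁻¹ := by group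
  rw [e2, e3] at h3
  have h4 : Eqv P (n * s⁻¹) (n * s) := (S_inv_eqv hs).mul_left n
  rw [← h4.C_eq]; exact h3

/-- `B n B · B s B ⊆ B n s B` when `ℓ(n) ≤ ℓ(n s)` -/
theorem mul_mem_C_of_len_le {s n g h : G} (hs : s ∈ P.S) (hn : n ∈ P.N)
    (hle : len P n ≤ len P (n * s)) (hg : g ∈ C P n) (hh : h ∈ C P s) :
    g * h ∈ C P (n * s) := by
  obtain ⟨b₁, hb₁, b₂, hb₂, rfl⟩ := mem_C_iff.1 hg
  obtain ⟨b₃, hb₃, b₄, hb₄, rfl⟩ := mem_C_iff.1 hh
  have e : b₁ * n * b₂ * (b₃ * s * b₄) = b₁ * (n * (b₂ * b₃) * s) * b₄ := by group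
  rw [e]
  exact mul_right_mem_C hb₄ (mul_left_mem_C hb₁ (nbs_mem_C hs hn hle (P.B.mul_mem hb₂ hb₃)))

theorem C_inv_S {s : G} (hs : s ∈ P.S) : C P s⁻¹ = C P s := (S_inv_eqv hs).C_eq

theorem sbs_mem {s b : G} (hs : s ∈ P.S) (hb : b ∈ P.B) : s * b * s ∈ P.B ∨ s * b * s ∈ C P s := by
  have h2 : b * s ∈ C P s := mul_left_mem_C hb (mem_C_self s)
  rcases smul_mem_C hs (S_mem_N hs) h2 with h | h
  · left
    rw [mem_C_of_mem_B (S_sq hs)] at h
    simpa [mul_assoc] using h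
  · right
    simpa [mul_assoc] using h

/-- the rank one parabolic subgroup `B ∪ B s B` -/
def Ppar (s : G) (hs : s ∈ P.S) : Subgroup G where
  carrier := {g | g ∈ P.B ∨ g ∈ C P s}
  one_mem' := Or.inl P.B.one_mem
  mul_mem' := by
    rintro x y (hx | hx) (hy | hy)
    · exact Or.inl (P.B.mul_mem hx hy)
    · exact Or.inr (mul_left_mem_C hx hy)
    · exact Or.inr (mul_right_mem_C hy hx)
    · obtain ⟨b₁, hb₁, b₂, hb₂, rfl⟩ := mem_C_iff.1 hx
      obtain ⟨b₃, hb₃, b₄, hb₄, rfl⟩ := mem_C_iff.1 hy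
      have e : b₁ * s * b₂ * (b₃ * s * b₄) = b₁ * (s * (b₂ * b₃) * s) * b₄ := by group
      rw [e]
      rcases sbs_mem hs (P.B.mul_mem hb₂ hb₃) with h | h
      · exact Or.inl (P.B.mul_mem (P.B.mul_mem hb₁ h) hb₄)
      · exact Or.inr (mul_right_mem_C hb₄ (mul_left_mem_C hb₁ h))
  inv_mem' := by
    rintro x (hx | hx)
    · exact Or.inl (P.B.inv_mem hx)
    · right
      have := inv_mem_C hx
      rwa [C_inv_S hs] at this

theorem mem_Ppar {s g : G} (hs : s ∈ P.S) : g ∈ Ppar s hs ↔ g ∈ P.B ∨ g ∈ C P s := Iff.rfl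

theorem C_disjoint_B {s g : G} (hs : s ∈ P.S) (hg : g ∈ C P s) : g ∉ P.B := by
  intro hB
  have h1 : s ∈ C P g := mem_C_symm hg
  rw [mem_C_of_mem_B hB] at h1
  exact S_not_mem_B hs h1

/-- in the descending case, `g · B s B` splits between `B n s B` (exactly one left coset of `B`)
and `B n B` -/
theorem exists_coset_down {s n g : G} (hs : s ∈ P.S) (hn : n ∈ P.N)
    (hlt : len P (n * s) < len P n) (hg : g ∈ C P n) :
    ∃ h₀ ∈ C P s, ∀ h ∈ C P s, (h₀⁻¹ * h ∈ P.B → g * h ∈ C P (n * s)) ∧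
      (h₀⁻¹ * h ∉ P.B → g * h ∈ C P n) := by
  have hsN := S_mem_N hs
  have hn' : n * s ∈ P.N := P.N.mul_mem hn hsN
  have he : Eqv P (n * s * s) n := eqv_mul_S_sq hs
  have hle : len P (n * s) ≤ len P (n * s * s) := by
    rw [len_congr he]; exact hlt.le
  have hg' : g ∈ C P (n * s * s) := by rw [he.C_eq]; exact hg
  obtain ⟨b₁, hb₁, b₂, hb₂, rfl⟩ := mem_C_iff.1 hg'
  refine ⟨b₂⁻¹ * s⁻¹, ?_, ?_⟩
  · rw [← C_inv_S hs]
    exact mem_C_iff.2 ⟨b₂⁻¹, P.B.inv_mem hb₂, 1, P.B.one_mem, by group⟩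
  · intro h hh
    have e : b₁ * (n * s * s) * b₂ * h = (b₁ * (n * s)) * (s * b₂ * h) := by group
    have e' : (b₂⁻¹ * s⁻¹)⁻¹ * h = s * b₂ * h := by group
    have hg1 : b₁ * (n * s) ∈ C P (n * s) := mul_left_mem_C hb₁ (mem_C_self _)
    constructor
    · intro hB
      rw [e'] at hB
      rw [e]
      exact mul_right_mem_C hB hg1
    · intro hB
      rw [e'] at hB
      rw [e]
      have hmem : s * b₂ * h ∈ Ppar s hs := by
        have h1 : s * b₂ ∈ Ppar s hs :=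
          Or.inr (mul_right_mem_C hb₂ (mem_C_self s))
        exact (Ppar s hs).mul_mem h1 (Or.inr hh)
      rcases hmem with hm | hm
      · exact absurd hm hB
      · have := mul_mem_C_of_len_le hs hn' hle hg1 hm
        rwa [he.C_eq] at this

/-- double cosets of non-equivalent elements of `N` are disjoint -/
theorem C_ne_of_len_ne {n n' g : G} (hn : n ∈ P.N) (hn' : n' ∈ P.N) (hne : len P n ≠ len P n')
    (hg : g ∈ C P n) : g ∉ C P n' := by
  intro hg'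
  have h1 : n' ∈ C P n := mem_C_trans (mem_C_symm hg') hg
  exact hne (len_congr (eqv_of_mem_C hn hn' h1))

end Cfsg.Agent.Lib.H2.FH
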