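import Mathlib
import Cfsg.Agent.Lib.H2.FH1

set_option autoImplicit false
set_option linter.unusedSectionVars false

/-!
# Feit–Higman, part 1b: sizes of the rank one double cosets
-/

namespace Cfsg.Agent.Lib.H2.FH

open Cfsg DoubleCoset Cfsg.Agent.Lib.H2.BN

variable {G : Type*} [Group G] {P : BNPair G}

/-- number of left `B`-cosets in `B s B` -/
noncomputable def qpar (P : BNPair G) (s : G) : ℕ := (C P s).ncard / Nat.card P.B

theorem C_eq_preimage (n : G) :
    C P n = (QuotientGroup.mk : G → G ⧸ P.B) ⁻¹' ((QuotientGroup.mk : G → G ⧸ P.B) '' C P n) := by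
  ext g
  constructor
  · intro hg
    exact ⟨g, hg, rfl⟩
  · rintro ⟨g', hg', h⟩
    have h1 : g'⁻¹ * g ∈ P.B := QuotientGroup.eq.1 h
    have : g = g' * (g'⁻¹ * g) := by group
    rw [this]
    exact mul_right_mem_C h1 hg'

variable [Finite G]

theorem ncard_C (n : G) : (C P n).ncard = qpar P n * Nat.card P.B := by
  have h1 : Nat.card (C P n) = Nat.card P.B *
      Nat.card ((QuotientGroup.mk : G → G ⧸ P.B) '' C P n) := by
    conv_lhs => rw [C_eq_preimage n]
    exact QuotientGroup.card_preimage_mk _ _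
  rw [Nat.card_coe_set_eq] at h1
  unfold qpar
  rw [h1, Nat.mul_div_cancel_left _ Nat.card_pos, mul_comm]

theorem ncard_sB (s : G) : ((fun b => s * b) '' (P.B : Set G)).ncard = Nat.card P.B := by
  rw [Set.ncard_image_of_injective _ (mul_right_injective s), ← Nat.card_coe_set_eq]
  rfl

theorem sB_subset (s : G) : (fun b => s * b) '' (P.B : Set G) ⊆ C P s := by
  rintro _ ⟨b, hb, rfl⟩
  exact mul_right_mem_C hb (mem_C_self s)

theorem two_le_qpar {s : G} (hs : s ∈ P.S) : 2 ≤ qpar P s := by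
  by_contra hlt
  push Not at hlt
  have hcard : (C P s).ncard ≤ Nat.card P.B := by
    rw [ncard_C]
    calc qpar P s * Nat.card P.B ≤ 1 * Nat.card P.B := Nat.mul_le_mul_right _ (by omega)
      _ = Nat.card P.B := one_mul _
  have hfin : (C P s).Finite := Set.toFinite _
  have heq : (fun b => s * b) '' (P.B : Set G) = C P s :=
    Set.eq_of_subset_of_ncard_le (sB_subset s) (by rw [ncard_sB]; exact hcard) hfin
  -- hence `s⁻¹ B s ⊆ B`
  have hconj : ∀ b ∈ P.B, s⁻¹ * b * s ∈ P.B := by
    intro b hb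
    have h1 : b * s ∈ C P s := mul_left_mem_C hb (mem_C_self s)
    rw [← heq] at h1
    obtain ⟨b', hb', h2⟩ := h1
    have : s⁻¹ * b * s = b' := by
      have h3 : s * b' = b * s := h2
      calc s⁻¹ * b * s = s⁻¹ * (b * s) := by group
        _ = s⁻¹ * (s * b') := by rw [h3]
        _ = b' := by group
    rw [this]; exact hb'
  apply P.conj_ne s hs
  ext g
  constructor
  · rintro ⟨b, hb, rfl⟩
    have e : s * b * s = s⁻¹ * (s * s * b) * s := by group
    show s * b * s ∈ P.B
    rw [e]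
    exact hconj _ (P.B.mul_mem (S_sq hs) hb)
  · intro hg
    refine ⟨s⁻¹ * g * s⁻¹, ?_, by group⟩
    have e : s⁻¹ * g * s⁻¹ = s⁻¹ * (g * (s * s)⁻¹) * s := by group
    rw [e]
    exact hconj _ (P.B.mul_mem hg (P.B.inv_mem (S_sq hs)))

end Cfsg.Agent.Lib.H2.FH
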