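import Mathlib
import Cfsg.Agent.Lib.H2.FH1b

set_option autoImplicit false
set_option linter.unusedSectionVars false

/-!
# Feit–Higman, part 1c: sums over `g · B s B`
-/

namespace Cfsg.Agent.Lib.H2.FH

open Cfsg DoubleCoset Cfsg.Agent.Lib.H2.BN
open scoped Classical

variable {G : Type*} [Group G] [Fintype G] {P : BNPair G}

/-- the double coset `B n B` as a finset -/
noncomputable def CF (P : BNPair G) (n : G) : Finset G := Finset.univ.filter (fun h => h ∈ C P n)

theorem mem_CF {n h : G} : h ∈ CF P n ↔ h ∈ C P n := by simp [CF]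

/-- the subgroup `B` as a finset -/
noncomputable def BF (P : BNPair G) : Finset G := Finset.univ.filter (fun h => h ∈ P.B)

theorem mem_BF {h : G} : h ∈ BF P ↔ h ∈ P.B := by simp [BF]

theorem card_BF : (BF P).card = Nat.card P.B := by
  rw [Nat.card_eq_fintype_card, Fintype.card_subtype]
  rfl

theorem card_CF (n : G) : (CF P n).card = qpar P n * Nat.card P.B := by
  rw [← ncard_C, ← Set.ncard_coe_finset]
  congr 1
  ext h
  simp [CF]

theorem sum_cell_up {s n g : G} (hs : s ∈ P.S) (hn : n ∈ P.N)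
    (hlt : len P n < len P (n * s)) (hg : g ∈ C P n) (F : G → ℝ) (x : ℝ)
    (hF : ∀ g' ∈ C P (n * s), F g' = x) :
    ∑ h ∈ CF P s, F (g * h) = ((qpar P s * Nat.card P.B : ℕ) : ℝ) * x := by
  have h1 : ∀ h ∈ CF P s, F (g * h) = x := by
    intro h hh
    exact hF _ (mul_mem_C_of_len_le hs hn hlt.le hg (mem_CF.1 hh))
  rw [Finset.sum_congr rfl h1, Finset.sum_const, card_CF, nsmul_eq_mul]

theorem sum_cell_down {s n g : G} (hs : s ∈ P.S) (hn : n ∈ P.N)
    (hlt : len P (n * s) < len P n) (hg : g ∈ C P n) (F : G → ℝ) (x y : ℝ)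
    (hF : ∀ g' ∈ C P (n * s), F g' = x) (hF' : ∀ g' ∈ C P n, F g' = y) :
    ∑ h ∈ CF P s, F (g * h) =
      (Nat.card P.B : ℝ) * x + (((qpar P s - 1) * Nat.card P.B : ℕ) : ℝ) * y := by
  obtain ⟨h₀, hh₀, hsplit⟩ := exists_coset_down hs hn hlt hg
  rw [← Finset.sum_filter_add_sum_filter_not (CF P s) (fun h => h₀⁻¹ * h ∈ P.B)]
  have h1 : ∀ h ∈ (CF P s).filter (fun h => h₀⁻¹ * h ∈ P.B), F (g * h) = x := by
    intro h hh
    rw [Finset.mem_filter] at hh
    exact hF _ ((hsplit h (mem_CF.1 hh.1)).1 hh.2)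
  have h2 : ∀ h ∈ (CF P s).filter (fun h => ¬ h₀⁻¹ * h ∈ P.B), F (g * h) = y := by
    intro h hh
    rw [Finset.mem_filter] at hh
    exact hF' _ ((hsplit h (mem_CF.1 hh.1)).2 hh.2)
  rw [Finset.sum_congr rfl h1, Finset.sum_congr rfl h2, Finset.sum_const, Finset.sum_const,
    nsmul_eq_mul, nsmul_eq_mul]
  have hc1 : ((CF P s).filter (fun h => h₀⁻¹ * h ∈ P.B)).card = Nat.card P.B := by
    have : (CF P s).filter (fun h => h₀⁻¹ * h ∈ P.B) = (BF P).image (fun b => h₀ * b) := by
      ext h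
      simp only [Finset.mem_filter, Finset.mem_image, mem_CF, mem_BF]
      constructor
      · rintro ⟨_, hb⟩
        exact ⟨h₀⁻¹ * h, hb, by group⟩
      · rintro ⟨b, hb, rfl⟩
        refine ⟨mul_right_mem_C hb hh₀, ?_⟩
        simpa using hb
    rw [this, Finset.card_image_of_injective _ (mul_right_injective h₀), card_BF]
  have hc2 : ((CF P s).filter (fun h => ¬ h₀⁻¹ * h ∈ P.B)).card =
      (qpar P s - 1) * Nat.card P.B := by
    have htot := Finset.card_filter_add_card_filter_not (s := CF P s)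
      (fun h => h₀⁻¹ * h ∈ P.B)
    rw [hc1, card_CF] at htot
    have hq := two_le_qpar hs
    have : qpar P s * Nat.card P.B = (qpar P s - 1) * Nat.card P.B + Nat.card P.B := by
      rw [Nat.sub_mul, one_mul]
      have : Nat.card P.B ≤ qpar P s * Nat.card P.B := Nat.le_mul_of_pos_left _ (by omega)
      omega
    omega
  rw [hc1, hc2]

end Cfsg.Agent.Lib.H2.FH
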