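import Mathlib

set_option autoImplicit false
set_option linter.unusedSectionVars false

/-!
# Feit–Higman, part 2: a group generated by two involutions with a length function is a
`2L`-cycle (abstract combinatorics of the dihedral Weyl group)
-/

namespace Cfsg.Agent.Lib.H2.FH

variable {W : Type*} [Group W]

/-- the hypotheses on `(W, σ, τ, ℓ)` -/
structure DihLen (σ τ : W) (ℓ : W → ℕ) : Prop where
  sq_σ : σ * σ = 1
  sq_τ : τ * τ = 1
  zero_iff : ∀ w, ℓ w = 0 ↔ w = 1
  step_σ : ∀ w, ℓ (w * σ) = ℓ w + 1 ∨ ℓ (w * σ) + 1 = ℓ w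
  step_τ : ∀ w, ℓ (w * τ) = ℓ w + 1 ∨ ℓ (w * τ) + 1 = ℓ w
  decomp : ∀ w, w ≠ 1 → ∃ w' x, (x = σ ∨ x = τ) ∧ w = w' * x ∧ ℓ w' + 1 = ℓ w

/-- the `k`-th letter of the alternating word `σ τ σ τ …` (starting with index `0`) -/
def xl (σ τ : W) (k : ℕ) : W := if k % 2 = 0 then σ else τ

/-- the alternating word `σ τ σ …` with `k` letters -/
def wbar (σ τ : W) : ℕ → W
  | 0 => 1
  | k + 1 => wbar σ τ k * xl σ τ k

namespace DihLen

variable {σ τ : W} {ℓ : W → ℕ}

theorem xl_congr {k k' : ℕ} (h : k % 2 = k' % 2) : xl σ τ k = xl σ τ k' := by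
  unfold xl; rw [h]

theorem xl_add_two_mul (i k : ℕ) : xl σ τ (2 * i + k) = xl σ τ k :=
  xl_congr (by omega)

theorem xl_even (i : ℕ) : xl σ τ (2 * i) = σ := by
  unfold xl; rw [if_pos (by omega)]

theorem xl_odd (i : ℕ) : xl σ τ (2 * i + 1) = τ := by
  unfold xl; rw [if_neg (by omega)]

theorem xl_cases (k : ℕ) : xl σ τ k = σ ∨ xl σ τ k = τ := by
  unfold xl; split_ifs <;> simp

theorem wbar_zero : wbar σ τ 0 = 1 := rfl

theorem wbar_succ (k : ℕ) : wbar σ τ (k + 1) = wbar σ τ k * xl σ τ k := rfl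

section
variable (h : DihLen σ τ ℓ)
include h

theorem xl_sq (k : ℕ) : xl σ τ k * xl σ τ k = 1 := by
  rcases xl_cases (σ := σ) (τ := τ) k with e | e <;> rw [e]
  · exact h.sq_σ
  · exact h.sq_τ

theorem wbar_succ_mul (k : ℕ) : wbar σ τ (k + 1) * xl σ τ k = wbar σ τ k := by
  rw [wbar_succ, mul_assoc, h.xl_sq, mul_one]

omit h in
theorem wbar_two_mul (i : ℕ) : wbar σ τ (2 * i) = (σ * τ) ^ i := by
  induction i with
  | zero => simp [wbar_zero]
  | succ i ih =>
    have e : 2 * (i + 1) = 2 * i + 1 + 1 := by ring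
    rw [e, wbar_succ, wbar_succ, ih, xl_even, xl_odd, pow_succ, mul_assoc]

omit h in
theorem wbar_add (i k : ℕ) : wbar σ τ (2 * i + k) = (σ * τ) ^ i * wbar σ τ k := by
  induction k with
  | zero => rw [add_zero, wbar_two_mul, wbar_zero, mul_one]
  | succ k ih =>
    rw [← add_assoc, wbar_succ, ih, xl_add_two_mul, wbar_succ, mul_assoc]

omit h in
theorem wbar_add_period (k : ℕ) : wbar σ τ (k + 2 * orderOf (σ * τ)) = wbar σ τ k := by
  rw [add_comm, wbar_add, pow_orderOf_eq_one, one_mul]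

omit h in
theorem wbar_add_mul_period (k c : ℕ) :
    wbar σ τ (k + c * (2 * orderOf (σ * τ))) = wbar σ τ k := by
  induction c with
  | zero => simp
  | succ c ih =>
    rw [add_mul, one_mul, ← add_assoc, wbar_add_period, ih]

omit h in
theorem wbar_mod (k : ℕ) : wbar σ τ (k % (2 * orderOf (σ * τ))) = wbar σ τ k := by
  conv_rhs => rw [← Nat.mod_add_div k (2 * orderOf (σ * τ))]
  rw [mul_comm (2 * orderOf (σ * τ)) (k / _), wbar_add_mul_period]

theorem len_mul_xl (w : W) (k : ℕ) :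
    ℓ (w * xl σ τ k) = ℓ w + 1 ∨ ℓ (w * xl σ τ k) + 1 = ℓ w := by
  rcases xl_cases (σ := σ) (τ := τ) k with e | e <;> rw [e]
  · exact h.step_σ w
  · exact h.step_τ w

theorem len_one : ℓ (1 : W) = 0 := (h.zero_iff 1).2 rfl

theorem len_wbar_parity (k : ℕ) : ℓ (wbar σ τ k) % 2 = k % 2 := by
  induction k with
  | zero => rw [wbar_zero, h.len_one]
  | succ k ih =>
    rw [wbar_succ]
    rcases h.len_mul_xl (wbar σ τ k) k with e | e <;> omega

theorem len_wbar_le (k : ℕ) : ℓ (wbar σ τ k) ≤ k := by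
  induction k with
  | zero => rw [wbar_zero, h.len_one]
  | succ k ih =>
    rw [wbar_succ]
    rcases h.len_mul_xl (wbar σ τ k) k with e | e <;> omega

theorem len_wbar_le' (j : ℕ) (hj : j ≤ 2 * orderOf (σ * τ)) :
    ℓ (wbar σ τ (2 * orderOf (σ * τ) - j)) ≤ j := by
  induction j with
  | zero =>
    have := wbar_add_period (σ := σ) (τ := τ) 0
    rw [zero_add] at this
    rw [Nat.sub_zero, this, wbar_zero, h.len_one]
  | succ j ih =>
    have ih' := ih (by omega)
    have e : 2 * orderOf (σ * τ) - j = (2 * orderOf (σ * τ) - (j + 1)) + 1 := by omega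
    have h1 := h.wbar_succ_mul (2 * orderOf (σ * τ) - (j + 1))
    rw [← e] at h1
    rcases h.len_mul_xl (wbar σ τ (2 * orderOf (σ * τ) - j))
      (2 * orderOf (σ * τ) - (j + 1)) with e2 | e2 <;> rw [h1] at e2 <;> omega

theorem wbar_cancel {k k' : ℕ} (hw : wbar σ τ (k + 1) = wbar σ τ (k' + 1)) (hp : k % 2 = k' % 2) :
    wbar σ τ k = wbar σ τ k' := by
  rw [wbar_succ, wbar_succ, xl_congr hp] at hw
  exact mul_right_cancel hw

theorem wbar_inj_aux (k d : ℕ) (hw : wbar σ τ k = wbar σ τ (k + d)) :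
    wbar σ τ 0 = wbar σ τ d := by
  induction k with
  | zero => simpa using hw
  | succ k ih =>
    apply ih
    have hp : k % 2 = (k + d) % 2 := by
      have h1 := h.len_wbar_parity (k + 1)
      have h2 := h.len_wbar_parity (k + 1 + d)
      rw [hw] at h1
      omega
    have e : k + 1 + d = (k + d) + 1 := by ring
    rw [e] at hw
    exact h.wbar_cancel hw hp

theorem wbar_inj_le {k k' : ℕ} (hle : k ≤ k') (hw : wbar σ τ k = wbar σ τ k') :
    k ≡ k' [MOD 2 * orderOf (σ * τ)] := by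
  obtain ⟨d, rfl⟩ := Nat.exists_eq_add_of_le hle
  have h0 := h.wbar_inj_aux k d hw
  have hpar : d % 2 = 0 := by
    have h1 := h.len_wbar_parity d
    rw [← h0, wbar_zero, h.len_one] at h1
    omega
  obtain ⟨i, rfl⟩ : ∃ i, d = 2 * i := ⟨d / 2, by omega⟩
  rw [wbar_two_mul, wbar_zero] at h0
  have hdvd : orderOf (σ * τ) ∣ i := orderOf_dvd_of_pow_eq_one h0.symm
  obtain ⟨c, rfl⟩ := hdvd
  have : k + 2 * (orderOf (σ * τ) * c) = k + (2 * orderOf (σ * τ)) * c := by ring
  rw [this]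
  exact (Nat.modEq_iff_dvd' (by omega)).2 (by simp)

theorem wbar_inj {k k' : ℕ} (hw : wbar σ τ k = wbar σ τ k') :
    k ≡ k' [MOD 2 * orderOf (σ * τ)] := by
  rcases le_total k k' with hle | hle
  · exact h.wbar_inj_le hle hw
  · exact (h.wbar_inj_le hle hw.symm).symm

/-- right multiplication by a generator moves one step on the cycle -/
theorem wbar_mul_gen [Finite W] (k : ℕ) (x : W) (hx : x = σ ∨ x = τ) :
    ∃ k', wbar σ τ k * x = wbar σ τ k' ∧
      (k' = k + 1 ∨ k' + 1 = k + 2 * orderOf (σ * τ)) := by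
  have hL : 0 < orderOf (σ * τ) := orderOf_pos _
  by_cases hxk : x = xl σ τ k
  · exact ⟨k + 1, by rw [wbar_succ, hxk], Or.inl rfl⟩
  · have hx' : x = xl σ τ (k + 1) := by
      unfold xl at hxk ⊢
      by_cases hk : k % 2 = 0
      · rw [if_pos hk] at hxk
        rw [if_neg (by omega)]
        rcases hx with e | e
        · exact absurd e hxk
        · exact e
      · rw [if_neg hk] at hxk
        rw [if_pos (by omega)]
        rcases hx with e | e
        · exact e
        · exact absurd e hxk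
    refine ⟨k + 2 * orderOf (σ * τ) - 1, ?_, Or.inr (by omega)⟩
    have e1 : k + 2 * orderOf (σ * τ) = (k + 2 * orderOf (σ * τ) - 1) + 1 := by omega
    have h1 := h.wbar_succ_mul (k + 2 * orderOf (σ * τ) - 1)
    rw [← e1, wbar_add_period] at h1
    have e2 : xl σ τ (k + 2 * orderOf (σ * τ) - 1) = xl σ τ (k + 1) := xl_congr (by omega)
    rw [e2, ← hx'] at h1
    exact h1

theorem wbar_surj_aux [Finite W] : ∀ m : ℕ, ∀ w : W, ℓ w = m →
    ∃ r, r < 2 * orderOf (σ * τ) ∧ wbar σ τ r = w ∧ min r (2 * orderOf (σ * τ) - r) ≤ m := by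
  have hL : 0 < orderOf (σ * τ) := orderOf_pos _
  intro m
  induction m with
  | zero =>
    intro w hw
    rw [h.zero_iff] at hw
    exact ⟨0, by omega, by rw [hw, wbar_zero], by simp⟩
  | succ m ih =>
    intro w hw
    have hw1 : w ≠ 1 := by
      intro e
      rw [← h.zero_iff] at e
      omega
    obtain ⟨w', x, hx, rfl, hlen⟩ := h.decomp w hw1
    obtain ⟨r', hr', hwr', hmin⟩ := ih w' (by omega)
    obtain ⟨k', hk', hk''⟩ := h.wbar_mul_gen r' x hx
    refine ⟨k' % (2 * orderOf (σ * τ)), Nat.mod_lt _ (by omega), ?_, ?_⟩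
    · rw [wbar_mod, ← hk', hwr']
    · rcases hk'' with e | e
      · subst e
        by_cases hlt : r' + 1 < 2 * orderOf (σ * τ)
        · rw [Nat.mod_eq_of_lt hlt]; omega
        · have : r' + 1 = 2 * orderOf (σ * τ) := by omega
          rw [this, Nat.mod_self]; simp
      · by_cases hr0 : r' = 0
        · subst hr0
          have : k' = 2 * orderOf (σ * τ) - 1 := by omega
          rw [this, Nat.mod_eq_of_lt (by omega)]; omega
        · have : k' = (r' - 1) + 2 * orderOf (σ * τ) := by omega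
          rw [this, Nat.add_mod_right, Nat.mod_eq_of_lt (by omega)]; omega

theorem wbar_surj [Finite W] (w : W) : ∃ r, r < 2 * orderOf (σ * τ) ∧ wbar σ τ r = w := by
  obtain ⟨r, hr, hw, _⟩ := h.wbar_surj_aux (ℓ w) w rfl
  exact ⟨r, hr, hw⟩

theorem len_wbar [Finite W] {r : ℕ} (hr : r ≤ 2 * orderOf (σ * τ)) :
    ℓ (wbar σ τ r) = min r (2 * orderOf (σ * τ) - r) := by
  have hL : 0 < orderOf (σ * τ) := orderOf_pos _
  apply le_antisymm
  · apply le_min (h.len_wbar_le r)
    have := h.len_wbar_le' (2 * orderOf (σ * τ) - r) (by omega)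
    have e : 2 * orderOf (σ * τ) - (2 * orderOf (σ * τ) - r) = r := by omega
    rwa [e] at this
  · by_cases hr' : r = 2 * orderOf (σ * τ)
    · subst hr'; simp
    · obtain ⟨r₁, hr₁, hw, hmin⟩ := h.wbar_surj_aux (ℓ (wbar σ τ r)) (wbar σ τ r) rfl
      have hmod := h.wbar_inj hw
      have : r₁ = r := by
        have h1 := Nat.ModEq.eq_of_lt_of_lt hmod hr₁ (by omega)
        exact h1
      rw [this] at hmin
      exact hmin

theorem card_eq [Finite W] : Nat.card W = 2 * orderOf (σ * τ) := by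
  have hL : 0 < orderOf (σ * τ) := orderOf_pos _
  let f : Fin (2 * orderOf (σ * τ)) → W := fun i => wbar σ τ i
  have hf : Function.Bijective f := by
    constructor
    · intro i j hij
      have hmod := h.wbar_inj hij
      exact Fin.ext (Nat.ModEq.eq_of_lt_of_lt hmod i.2 j.2)
    · intro w
      obtain ⟨r, hr, hw⟩ := h.wbar_surj w
      exact ⟨⟨r, hr⟩, hw⟩
  rw [← Nat.card_eq_of_bijective f hf, Nat.card_eq_fintype_card, Fintype.card_fin]

theorem sigma_mul_wbar (k : ℕ) (hk : k ≤ 2 * orderOf (σ * τ) + 1) :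
    σ * wbar σ τ k = wbar σ τ (2 * orderOf (σ * τ) + 1 - k) := by
  induction k with
  | zero =>
    rw [wbar_zero, mul_one, Nat.sub_zero, wbar_succ, xl_even]
    have := wbar_add_period (σ := σ) (τ := τ) 0
    rw [zero_add] at this
    rw [this, wbar_zero, one_mul]
  | succ k ih =>
    rw [wbar_succ, ← mul_assoc, ih (by omega)]
    have e : 2 * orderOf (σ * τ) + 1 - k = (2 * orderOf (σ * τ) + 1 - (k + 1)) + 1 := by omega
    rw [e]
    have e2 : xl σ τ k = xl σ τ (2 * orderOf (σ * τ) + 1 - (k + 1)) := xl_congr (by omega)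
    rw [e2]
    exact h.wbar_succ_mul _

theorem two_le_order [Finite W] (hne : σ ≠ τ) : 2 ≤ orderOf (σ * τ) := by
  have hL : 0 < orderOf (σ * τ) := orderOf_pos _
  by_contra hlt
  have h1 : orderOf (σ * τ) = 1 := by omega
  rw [orderOf_eq_one_iff] at h1
  apply hne
  calc σ = σ * (τ * τ) := by rw [h.sq_τ, mul_one]
    _ = (σ * τ) * τ := by rw [mul_assoc]
    _ = τ := by rw [h1, one_mul]

end

end DihLen

end Cfsg.Agent.Lib.H2.FH
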