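import Mathlib
import Cfsg.Agent.Lib.H2.FH1
import Cfsg.Agent.Lib.H2.FH2

set_option autoImplicit false
set_option linter.unusedSectionVars false

/-!
# Feit–Higman, part 3a: the Weyl group `W = N / (B ∩ N)` of a `(B, N)`-pair of rank two
is a group generated by two involutions with a length function
-/

namespace Cfsg.Agent.Lib.H2.FH

open Cfsg DoubleCoset Cfsg.Agent.Lib.H2.BN

variable {G : Type*} [Group G] (P : BNPair G)

/-- `B ∩ N` as a subgroup of `N` -/
def TN : Subgroup ↥P.N := (P.B ⊓ P.N).subgroupOf P.N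

theorem mem_TN {x : ↥P.N} : x ∈ TN P ↔ (x : G) ∈ P.B := by
  unfold TN
  rw [Subgroup.mem_subgroupOf, Subgroup.mem_inf]
  exact ⟨fun h => h.1, fun h => ⟨h, x.2⟩⟩

instance TN_normal : (TN P).Normal := by
  constructor
  intro n hn g
  rw [mem_TN] at hn ⊢
  have := P.conj_mem g g.2 n ⟨hn, n.2⟩
  simpa using this

/-- the Weyl group -/
abbrev WG : Type _ := ↥P.N ⧸ TN P

/-- the class in `W` of an element of `G` (junk value `1` outside `N`) -/
noncomputable def cls (n : G) : WG P :=
  open Classical in if h : n ∈ P.N then (QuotientGroup.mk ⟨n, h⟩ : WG P) else 1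

variable {P}

theorem cls_of_mem {n : G} (hn : n ∈ P.N) : cls P n = (QuotientGroup.mk ⟨n, hn⟩ : WG P) := by
  unfold cls; rw [dif_pos hn]

theorem cls_mul {x y : G} (hx : x ∈ P.N) (hy : y ∈ P.N) : cls P (x * y) = cls P x * cls P y := by
  rw [cls_of_mem hx, cls_of_mem hy, cls_of_mem (P.N.mul_mem hx hy)]
  rfl

theorem cls_one : cls P (1 : G) = 1 := by
  rw [cls_of_mem P.N.one_mem]; rfl

theorem cls_eq_iff {x y : G} (hx : x ∈ P.N) (hy : y ∈ P.N) : cls P x = cls P y ↔ Eqv P x y := by
  rw [cls_of_mem hx, cls_of_mem hy, QuotientGroup.eq, mem_TN]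
  rfl

theorem cls_eq_one_iff {x : G} (hx : x ∈ P.N) : cls P x = 1 ↔ x ∈ P.B := by
  rw [cls_of_mem hx, QuotientGroup.eq_one_iff, mem_TN]

theorem cls_surj (w : WG P) : ∃ n ∈ P.N, cls P n = w := by
  induction w using QuotientGroup.induction_on with
  | H n => exact ⟨n.1, n.2, cls_of_mem n.2⟩

/-- the length function on `W` -/
noncomputable def lenW (P : BNPair G) (w : WG P) : ℕ := len P ((Quotient.out w : ↥P.N) : G)

theorem lenW_cls {n : G} (hn : n ∈ P.N) : lenW P (cls P n) = len P n := by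
  unfold lenW
  apply len_congr
  rw [← cls_eq_iff (Quotient.out (cls P n)).2 hn, cls_of_mem (Quotient.out (cls P n)).2]
  exact QuotientGroup.out_eq' _

/-- the rank two hypothesis -/
structure Rk2 (P : BNPair G) (a b : G) : Prop where
  ha : a ∈ P.S
  hb : b ∈ P.S
  hab : a ≠ b
  hS : P.S = {a, b}

theorem exists_rk2 (h2 : P.rank = 2) : ∃ a b, Rk2 P a b := by
  unfold BNPair.rank at h2
  rw [Nat.card_coe_set_eq, Set.ncard_eq_two] at h2
  obtain ⟨a, b, hab, hS⟩ := h2
  exact ⟨a, b, by rw [hS]; simp, by rw [hS]; simp, hab, hS⟩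

variable {a b : G}

theorem Rk2.cls_ne (R : Rk2 P a b) : cls P a ≠ cls P b := by
  intro h
  rw [cls_eq_iff (S_mem_N R.ha) (S_mem_N R.hb)] at h
  exact R.hab (P.inj a R.ha b R.hb h)

theorem cls_S_sq {s : G} (hs : s ∈ P.S) : cls P s * cls P s = 1 := by
  rw [← cls_mul (S_mem_N hs) (S_mem_N hs), cls_eq_one_iff (P.N.mul_mem (S_mem_N hs) (S_mem_N hs))]
  exact S_sq hs

theorem lenW_step {s : G} (hs : s ∈ P.S) (w : WG P) :
    lenW P (w * cls P s) = lenW P w + 1 ∨ lenW P (w * cls P s) + 1 = lenW P w := by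
  obtain ⟨n, hn, rfl⟩ := cls_surj w
  rw [← cls_mul hn (S_mem_N hs), lenW_cls hn, lenW_cls (P.N.mul_mem hn (S_mem_N hs))]
  exact len_mul_S_cases hs hn

theorem Rk2.dihLen (R : Rk2 P a b) : DihLen (cls P a) (cls P b) (lenW P) where
  sq_σ := cls_S_sq R.ha
  sq_τ := cls_S_sq R.hb
  zero_iff := by
    intro w
    obtain ⟨n, hn, rfl⟩ := cls_surj w
    rw [lenW_cls hn, cls_eq_one_iff hn]
    exact ⟨mem_B_of_len_eq_zero hn, len_of_mem_B⟩
  step_σ := lenW_step R.ha
  step_τ := lenW_step R.hb
  decomp := by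
    intro w hw
    obtain ⟨n, hn, rfl⟩ := cls_surj w
    obtain ⟨l, hl, hlen, he⟩ := exists_reduced hn
    rcases List.eq_nil_or_concat l with hnil | ⟨l', s, rfl⟩
    · exfalso
      apply hw
      subst hnil
      rw [cls_eq_one_iff hn]
      have : Eqv P (1 : G) n := by simpa using he
      exact this.mem_B P.B.one_mem
    · have hl'' : IsWord P.S (l' ++ [s]) := by simpa using hl
      have hs : s ∈ P.S := hl''.of_append.2 s (by simp)
      have hl' : IsWord P.S l' := hl''.of_append.1
      have hl'N : l'.prod ∈ P.N := hl'.prod_mem_N (le_refl _)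
      have hsN := S_mem_N hs
      refine ⟨cls P l'.prod, cls P s, ?_, ?_, ?_⟩
      · have : s ∈ ({a, b} : Set G) := R.hS ▸ hs
        rcases this with e | e
        · left; rw [e]
        · right; rw [Set.mem_singleton_iff.1 e]
      · rw [← cls_mul hl'N hsN, cls_eq_iff hn (P.N.mul_mem hl'N hsN)]
        have : Eqv P (l' ++ [s]).prod n := by simpa using he
        simpa using this.symm
      · rw [lenW_cls hl'N, lenW_cls hn]
        have hlen' : (l' ++ [s]).length = len P n := by simpa using hlen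
        have he' : Eqv P (l' ++ [s]).prod n := by simpa using he
        have := len_init hl'' hlen' he'
        rw [this, ← hlen']
        simp

end Cfsg.Agent.Lib.H2.FH
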