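import Mathlib
import Cfsg.Agent.Lib.H2.FH1c
import Cfsg.Agent.Lib.H2.FH3a

set_option autoImplicit false
set_option linter.unusedSectionVars false

/-!
# Feit–Higman, part 3b: positions on the `2L`-cycle
-/

namespace Cfsg.Agent.Lib.H2.FH

open Cfsg DoubleCoset Cfsg.Agent.Lib.H2.BN

variable {G : Type*} [Group G] {P : BNPair G} {a b : G}

/-- the alternating word `a b a b …` in `G` -/
def wG (a b : G) : ℕ → G
  | 0 => 1
  | k + 1 => wG a b k * (if k % 2 = 0 then a else b)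

theorem wG_zero : wG a b 0 = 1 := rfl

theorem wG_succ (k : ℕ) : wG a b (k + 1) = wG a b k * (if k % 2 = 0 then a else b) := rfl

theorem wG_succ_even {k : ℕ} (hk : k % 2 = 0) : wG a b (k + 1) = wG a b k * a := by
  rw [wG_succ, if_pos hk]

theorem wG_succ_odd {k : ℕ} (hk : k % 2 = 1) : wG a b (k + 1) = wG a b k * b := by
  rw [wG_succ, if_neg (by omega)]

/-- half the order of `W` -/
noncomputable def Lw (P : BNPair G) (a b : G) : ℕ := orderOf (cls P a * cls P b)

theorem Rk2.wG_mem (R : Rk2 P a b) (k : ℕ) : wG a b k ∈ P.N := by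
  induction k with
  | zero => exact P.N.one_mem
  | succ k ih =>
    rw [wG_succ]
    apply P.N.mul_mem ih
    split_ifs
    · exact S_mem_N R.ha
    · exact S_mem_N R.hb

theorem Rk2.cls_wG (R : Rk2 P a b) (k : ℕ) :
    cls P (wG a b k) = wbar (cls P a) (cls P b) k := by
  induction k with
  | zero => rw [wG_zero, cls_one]; rfl
  | succ k ih =>
    rw [wG_succ, DihLen.wbar_succ, ← ih]
    have hx : (if k % 2 = 0 then a else b) ∈ P.N := by
      split_ifs
      · exact S_mem_N R.ha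
      · exact S_mem_N R.hb
    rw [cls_mul (R.wG_mem k) hx]
    congr 1
    unfold xl
    split_ifs <;> rfl

variable [Finite G]

theorem Rk2.two_le_L (R : Rk2 P a b) : 2 ≤ Lw P a b :=
  R.dihLen.two_le_order R.cls_ne

theorem Rk2.index_eq (R : Rk2 P a b) :
    ((P.B ⊓ P.N).subgroupOf P.N).index = 2 * Lw P a b := by
  have := R.dihLen.card_eq
  rw [Subgroup.index_eq_card]
  exact this

/-- the length at position `r` -/
def lam (L r : ℕ) : ℕ := min r (2 * L - r)

theorem Rk2.len_wG (R : Rk2 P a b) {r : ℕ} (hr : r ≤ 2 * Lw P a b) :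
    len P (wG a b r) = lam (Lw P a b) r := by
  rw [← lenW_cls (R.wG_mem r), R.cls_wG]
  exact R.dihLen.len_wbar hr

theorem Rk2.wG_period (R : Rk2 P a b) (k : ℕ) :
    Eqv P (wG a b (k % (2 * Lw P a b))) (wG a b k) := by
  rw [← cls_eq_iff (R.wG_mem _) (R.wG_mem _), R.cls_wG, R.cls_wG]
  exact DihLen.wbar_mod k

theorem Rk2.exists_pos (R : Rk2 P a b) (g : G) :
    ∃ r, r < 2 * Lw P a b ∧ g ∈ C P (wG a b r) := by
  obtain ⟨n, hn, hg⟩ := bruhat (P := P) g
  obtain ⟨r, hr, hw⟩ := R.dihLen.wbar_surj (cls P n)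
  refine ⟨r, hr, ?_⟩
  rw [← R.cls_wG, cls_eq_iff (R.wG_mem r) hn] at hw
  rw [hw.C_eq]
  exact hg

/-- the position of `g` on the cycle: `g ∈ B (wG r) B` -/
noncomputable def pos (P : BNPair G) (a b : G) (g : G) : ℕ :=
  open Classical in
  if h : ∃ r, r < 2 * Lw P a b ∧ g ∈ C P (wG a b r) then h.choose else 0

theorem Rk2.pos_lt (R : Rk2 P a b) (g : G) : pos P a b g < 2 * Lw P a b := by
  unfold pos
  rw [dif_pos (R.exists_pos g)]
  exact (R.exists_pos g).choose_spec.1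

theorem Rk2.mem_C_pos (R : Rk2 P a b) (g : G) : g ∈ C P (wG a b (pos P a b g)) := by
  unfold pos
  rw [dif_pos (R.exists_pos g)]
  exact (R.exists_pos g).choose_spec.2

theorem Rk2.pos_unique (R : Rk2 P a b) {g : G} {r r' : ℕ} (hr : r < 2 * Lw P a b)
    (hr' : r' < 2 * Lw P a b) (hg : g ∈ C P (wG a b r)) (hg' : g ∈ C P (wG a b r')) :
    r = r' := by
  have h1 : wG a b r' ∈ C P (wG a b r) := mem_C_trans (mem_C_symm hg') hg
  have h2 := eqv_of_mem_C (R.wG_mem r) (R.wG_mem r') h1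
  rw [← cls_eq_iff (R.wG_mem r) (R.wG_mem r'), R.cls_wG, R.cls_wG] at h2
  exact Nat.ModEq.eq_of_lt_of_lt (R.dihLen.wbar_inj h2) hr hr'

theorem Rk2.pos_eq (R : Rk2 P a b) {g : G} {r : ℕ} (hr : r < 2 * Lw P a b)
    (hg : g ∈ C P (wG a b r)) : pos P a b g = r :=
  R.pos_unique (R.pos_lt g) hr (R.mem_C_pos g) hg

theorem Rk2.pos_wG (R : Rk2 P a b) {r : ℕ} (hr : r < 2 * Lw P a b) :
    pos P a b (wG a b r) = r :=
  R.pos_eq hr (mem_C_self _)

theorem Rk2.pos_one (R : Rk2 P a b) : pos P a b 1 = 0 := by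
  have := R.pos_wG (r := 0) (by have := R.two_le_L; omega)
  rwa [wG_zero] at this

theorem Rk2.pos_eq_of_mem_C (R : Rk2 P a b) {g g' : G} (h : g' ∈ C P g) :
    pos P a b g' = pos P a b g :=
  R.pos_eq (R.pos_lt g) (mem_C_trans h (R.mem_C_pos g))

theorem Rk2.mem_C_of_pos_eq (R : Rk2 P a b) {g g' : G} (h : pos P a b g' = pos P a b g) :
    g' ∈ C P g := by
  have h1 := R.mem_C_pos g'
  rw [h] at h1
  exact mem_C_trans h1 (mem_C_symm (R.mem_C_pos g))

theorem Rk2.pos_mul_left (R : Rk2 P a b) {g x : G} (hx : x ∈ P.B) :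
    pos P a b (x * g) = pos P a b g :=
  R.pos_eq_of_mem_C (mul_left_mem_C hx (mem_C_self g))

theorem Rk2.pos_mul_right (R : Rk2 P a b) {g x : G} (hx : x ∈ P.B) :
    pos P a b (g * x) = pos P a b g :=
  R.pos_eq_of_mem_C (mul_right_mem_C hx (mem_C_self g))

theorem Rk2.pos_eq_zero_iff (R : Rk2 P a b) {g : G} : pos P a b g = 0 ↔ g ∈ P.B := by
  constructor
  · intro h
    have := R.mem_C_pos g
    rw [h, wG_zero] at this
    exact mem_C_one_iff.1 this
  · intro h
    rw [← R.pos_one]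
    exact R.pos_eq_of_mem_C (mem_C_one_iff.2 h)

/-- position of `n ∈ N` from its class in `W` -/
theorem Rk2.pos_of_cls (R : Rk2 P a b) {n : G} (hn : n ∈ P.N) {k : ℕ}
    (h : cls P n = wbar (cls P a) (cls P b) k) : pos P a b n = k % (2 * Lw P a b) := by
  have hL := R.two_le_L
  apply R.pos_eq (Nat.mod_lt _ (by omega))
  have h1 : Eqv P (wG a b (k % (2 * Lw P a b))) n := by
    rw [← cls_eq_iff (R.wG_mem _) hn, R.cls_wG, h]
    exact DihLen.wbar_mod k
  exact h1.mem_C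

end Cfsg.Agent.Lib.H2.FH
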