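import Mathlib
import Cfsg.Agent.Lib.H2.FH3b

set_option autoImplicit false
set_option linter.unusedSectionVars false

/-!
# Feit–Higman, part 3c: right multiplication by `B a B` and `B b B` in terms of positions
-/

namespace Cfsg.Agent.Lib.H2.FH

open Cfsg DoubleCoset Cfsg.Agent.Lib.H2.BN

/-- the neighbour along `a` -/
def stepA (r : ℕ) : ℕ := if r % 2 = 0 then r + 1 else r - 1

/-- the neighbour along `b` -/
def stepB (L r : ℕ) : ℕ :=
  if r % 2 = 1 then (if r + 1 = 2 * L then 0 else r + 1) else (if r = 0 then 2 * L - 1 else r - 1)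

/-- going along `a` increases the length -/
def upA (L r : ℕ) : Prop := (r % 2 = 0 ∧ r < L) ∨ (r % 2 = 1 ∧ L < r)

/-- going along `b` increases the length -/
def upB (L r : ℕ) : Prop := (r % 2 = 1 ∧ r < L) ∨ (r % 2 = 0 ∧ (r = 0 ∨ L < r))

instance (L r : ℕ) : Decidable (upA L r) := by unfold upA; infer_instance
instance (L r : ℕ) : Decidable (upB L r) := by unfold upB; infer_instance

theorem stepA_lt {L r : ℕ} (hr : r < 2 * L) : stepA r < 2 * L := by
  unfold stepA; split_ifs <;> omega

theorem stepB_lt {L r : ℕ} (hr : r < 2 * L) : stepB L r < 2 * L := by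
  unfold stepB; split_ifs <;> omega

theorem lam_stepA_up {L r : ℕ} (hr : r < 2 * L) (h : upA L r) :
    lam L (stepA r) = lam L r + 1 := by
  unfold upA at h; unfold lam stepA
  split_ifs <;> omega

theorem lam_stepA_down {L r : ℕ} (hr : r < 2 * L) (h : ¬ upA L r) :
    lam L (stepA r) + 1 = lam L r := by
  unfold upA at h; unfold lam stepA
  split_ifs <;> omega

theorem lam_stepB_up {L r : ℕ} (hr : r < 2 * L) (h : upB L r) :
    lam L (stepB L r) = lam L r + 1 := by
  unfold upB at h; unfold lam stepB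
  split_ifs <;> omega

theorem lam_stepB_down {L r : ℕ} (hr : r < 2 * L) (h : ¬ upB L r) :
    lam L (stepB L r) + 1 = lam L r := by
  unfold upB at h; unfold lam stepB
  split_ifs <;> omega

namespace DihLen

variable {W : Type*} [Group W] {σ τ : W} {ℓ : W → ℕ}

theorem wbar_mul_σ (h : DihLen σ τ ℓ) (r : ℕ) : wbar σ τ r * σ = wbar σ τ (stepA r) := by
  unfold stepA
  split_ifs with hr
  · rw [wbar_succ]; unfold xl; rw [if_pos hr]
  · obtain ⟨r', rfl⟩ : ∃ r', r = r' + 1 := ⟨r - 1, by omega⟩
    have := h.wbar_succ_mul r'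
    unfold xl at this
    rw [if_pos (by omega)] at this
    simpa using this

theorem wbar_mul_τ (h : DihLen σ τ ℓ) {r : ℕ} (hr : r < 2 * orderOf (σ * τ)) :
    wbar σ τ r * τ = wbar σ τ (stepB (orderOf (σ * τ)) r) := by
  have hper := wbar_add_period (σ := σ) (τ := τ) 0
  rw [zero_add, wbar_zero] at hper
  unfold stepB
  split_ifs with h1 h2 h3
  · rw [wbar_zero, ← hper, ← h2, wbar_succ]; unfold xl; rw [if_neg (by omega)]
  · rw [wbar_succ]; unfold xl; rw [if_neg (by omega)]
  · subst h3
    obtain ⟨k, hk⟩ : ∃ k, 2 * orderOf (σ * τ) = k + 1 := ⟨2 * orderOf (σ * τ) - 1, by omega⟩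
    have e : 2 * orderOf (σ * τ) - 1 = k := by omega
    rw [e, wbar_zero, one_mul]
    have := h.wbar_succ_mul k
    rw [← hk, hper] at this
    unfold xl at this
    rw [if_neg (by omega)] at this
    rw [← this, one_mul]
  · obtain ⟨r', rfl⟩ : ∃ r', r = r' + 1 := ⟨r - 1, by omega⟩
    have := h.wbar_succ_mul r'
    unfold xl at this
    rw [if_neg (by omega)] at this
    simpa using this

end DihLen

variable {G : Type*} [Group G] {P : BNPair G} {a b : G}

section
variable [Finite G]

theorem Rk2.eqv_mul_a (R : Rk2 P a b) (r : ℕ) :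
    Eqv P (wG a b r * a) (wG a b (stepA r)) := by
  rw [← cls_eq_iff (P.N.mul_mem (R.wG_mem r) (S_mem_N R.ha)) (R.wG_mem _),
    cls_mul (R.wG_mem r) (S_mem_N R.ha), R.cls_wG, R.cls_wG]
  exact R.dihLen.wbar_mul_σ r

theorem Rk2.eqv_mul_b (R : Rk2 P a b) {r : ℕ} (hr : r < 2 * Lw P a b) :
    Eqv P (wG a b r * b) (wG a b (stepB (Lw P a b) r)) := by
  rw [← cls_eq_iff (P.N.mul_mem (R.wG_mem r) (S_mem_N R.hb)) (R.wG_mem _),
    cls_mul (R.wG_mem r) (S_mem_N R.hb), R.cls_wG, R.cls_wG]
  exact R.dihLen.wbar_mul_τ hr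

end

open scoped Classical

variable [Fintype G]

theorem Rk2.sum_a (R : Rk2 P a b) (U : ℕ → ℝ) (g : G) :
    ∑ h ∈ CF P a, U (pos P a b (g * h)) = (Nat.card P.B : ℝ) *
      (if upA (Lw P a b) (pos P a b g) then (qpar P a : ℝ) * U (stepA (pos P a b g))
       else U (stepA (pos P a b g)) + ((qpar P a : ℝ) - 1) * U (pos P a b g)) := by
  have hr := R.pos_lt g
  have hg := R.mem_C_pos g
  set r := pos P a b g with hrdef
  have hn := R.wG_mem (P := P) r
  have he := R.eqv_mul_a r
  have hlen : len P (wG a b r * a) = lam (Lw P a b) (stepA r) := by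
    rw [len_congr he, R.len_wG (stepA_lt hr).le]
  have hlen0 : len P (wG a b r) = lam (Lw P a b) r := R.len_wG hr.le
  have hF : ∀ g' ∈ C P (wG a b r * a), U (pos P a b g') = U (stepA r) := by
    intro g' hg'
    rw [he.C_eq] at hg'
    rw [R.pos_eq (stepA_lt hr) hg']
  have hF' : ∀ g' ∈ C P (wG a b r), U (pos P a b g') = U r := by
    intro g' hg'
    rw [R.pos_eq hr hg']
  have hq := two_le_qpar R.ha
  split_ifs with hup
  · have hlt : len P (wG a b r) < len P (wG a b r * a) := by
      rw [hlen, hlen0, lam_stepA_up hr hup]; omega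
    rw [sum_cell_up R.ha hn hlt hg (fun g => U (pos P a b g)) _ hF]
    push_cast; ring
  · have hlt : len P (wG a b r * a) < len P (wG a b r) := by
      rw [hlen, hlen0, ← lam_stepA_down hr hup]; omega
    rw [sum_cell_down R.ha hn hlt hg (fun g => U (pos P a b g)) _ _ hF hF']
    have h1 : 1 ≤ qpar P a := by omega
    push_cast [Nat.cast_sub h1]; ring

theorem Rk2.sum_b (R : Rk2 P a b) (U : ℕ → ℝ) (g : G) :
    ∑ h ∈ CF P b, U (pos P a b (g * h)) = (Nat.card P.B : ℝ) *
      (if upB (Lw P a b) (pos P a b g) then (qpar P b : ℝ) * U (stepB (Lw P a b) (pos P a b g))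
       else U (stepB (Lw P a b) (pos P a b g)) + ((qpar P b : ℝ) - 1) * U (pos P a b g)) := by
  have hr := R.pos_lt g
  have hg := R.mem_C_pos g
  set r := pos P a b g with hrdef
  have hn := R.wG_mem (P := P) r
  have he := R.eqv_mul_b hr
  have hlen : len P (wG a b r * b) = lam (Lw P a b) (stepB (Lw P a b) r) := by
    rw [len_congr he, R.len_wG (stepB_lt hr).le]
  have hlen0 : len P (wG a b r) = lam (Lw P a b) r := R.len_wG hr.le
  have hF : ∀ g' ∈ C P (wG a b r * b), U (pos P a b g') = U (stepB (Lw P a b) r) := by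
    intro g' hg'
    rw [he.C_eq] at hg'
    rw [R.pos_eq (stepB_lt hr) hg']
  have hF' : ∀ g' ∈ C P (wG a b r), U (pos P a b g') = U r := by
    intro g' hg'
    rw [R.pos_eq hr hg']
  have hq := two_le_qpar R.hb
  split_ifs with hup
  · have hlt : len P (wG a b r) < len P (wG a b r * b) := by
      rw [hlen, hlen0, lam_stepB_up hr hup]; omega
    rw [sum_cell_up R.hb hn hlt hg (fun g => U (pos P a b g)) _ hF]
    push_cast; ring
  · have hlt : len P (wG a b r * b) < len P (wG a b r) := by
      rw [hlen, hlen0, ← lam_stepB_down hr hup]; omega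
    rw [sum_cell_down R.hb hn hlt hg (fun g => U (pos P a b g)) _ _ hF hF']
    have h1 : 1 ≤ qpar P b := by omega
    push_cast [Nat.cast_sub h1]; ring

end Cfsg.Agent.Lib.H2.FH
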