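import Mathlib
import Cfsg.Agent.Lib.H2.FH3c

set_option autoImplicit false
set_option linter.unusedSectionVars false

/-!
# Feit–Higman, part 3d: left multiplication by `a`, and the sizes of the cells
-/

namespace Cfsg.Agent.Lib.H2.FH

open Cfsg DoubleCoset Cfsg.Agent.Lib.H2.BN

variable {G : Type*} [Group G] {P : BNPair G} {a b : G}

/-- the reflection of the cycle induced by left multiplication by `a` -/
def reflA (L r : ℕ) : ℕ := if r ≤ 1 then 1 - r else 2 * L + 1 - r

section
variable [Finite G]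

theorem Rk2.pos_a_mul_wG (R : Rk2 P a b) {r : ℕ} (hr : r < 2 * Lw P a b) :
    pos P a b (a * wG a b r) = reflA (Lw P a b) r := by
  have hL := R.two_le_L
  have h1 : cls P (a * wG a b r) =
      wbar (cls P a) (cls P b) (2 * Lw P a b + 1 - r) := by
    rw [cls_mul (S_mem_N R.ha) (R.wG_mem r), R.cls_wG]
    exact R.dihLen.sigma_mul_wbar r (by unfold Lw at hr; omega)
  rw [R.pos_of_cls (P.N.mul_mem (S_mem_N R.ha) (R.wG_mem r)) h1]
  unfold reflA
  split_ifs with h
  · rcases Nat.le_one_iff_eq_zero_or_eq_one.1 h with e | e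
    · subst e
      rw [Nat.sub_zero, Nat.add_mod_left, Nat.mod_eq_of_lt (by omega)]
    · subst e
      rw [Nat.add_sub_cancel, Nat.mod_self]
  · rw [Nat.mod_eq_of_lt (by omega)]

theorem qpar_congr {x y : G} (h : Eqv P x y) : qpar P x = qpar P y := by
  unfold qpar; rw [h.C_eq]

theorem qpar_one : qpar P (1 : G) = 1 := by
  unfold qpar
  have : C P (1 : G) = (P.B : Set G) := by
    ext g; exact mem_C_one_iff
  rw [this, ← Nat.card_coe_set_eq]
  exact Nat.div_self Nat.card_pos

end

open scoped Classical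

variable [Fintype G]

theorem card_mul_up {s n : G} (hs : s ∈ P.S) (hn : n ∈ P.N) (hlt : len P n < len P (n * s)) :
    (CF P n).card * (CF P s).card = (CF P (n * s)).card * Nat.card P.B := by
  have hsN := S_mem_N hs
  have hnsN : n * s ∈ P.N := P.N.mul_mem hn hsN
  have he : Eqv P (n * s * s) n := eqv_mul_S_sq hs
  have hlt' : len P (n * s * s) < len P (n * s) := by rw [len_congr he]; exact hlt
  rw [← Finset.card_product]
  rw [Finset.card_eq_sum_card_fiberwise (f := fun p : G × G => p.1 * p.2) (t := CF P (n * s))]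
  · rw [Finset.sum_const_nat (m := Nat.card P.B)]
    intro x hx
    rw [mem_CF] at hx
    obtain ⟨h₀, hh₀, hsplit⟩ := exists_coset_down hs hnsN hlt' hx
    have : (CF P n ×ˢ CF P s).filter (fun p : G × G => p.1 * p.2 = x) =
        (BF P).image (fun c => (x * (h₀ * c), (h₀ * c)⁻¹)) := by
      ext ⟨g, h⟩
      simp only [Finset.mem_filter, Finset.mem_product, Finset.mem_image, mem_CF, mem_BF,
        Prod.mk.injEq]
      constructor
      · rintro ⟨⟨hg, hh⟩, hgh⟩
        have hh' : h⁻¹ ∈ C P s := by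
          have := inv_mem_C hh
          rwa [C_inv_S hs] at this
        have hxg : x * h⁻¹ = g := by rw [← hgh]; group
        have hmem : h₀⁻¹ * h⁻¹ ∈ P.B := by
          by_contra hnot
          have h1 := (hsplit h⁻¹ hh').2 hnot
          rw [hxg] at h1
          exact C_ne_of_len_ne hn hnsN hlt.ne hg h1
        refine ⟨h₀⁻¹ * h⁻¹, hmem, ?_, ?_⟩
        · rw [← hxg]; group
        · group
      · rintro ⟨c, hc, rfl, rfl⟩
        have hc' : h₀ * c ∈ C P s := mul_right_mem_C hc hh₀
        refine ⟨⟨?_, ?_⟩, by group⟩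
        · have h1 := (hsplit (h₀ * c) hc').1 (by simpa using hc)
          rwa [he.C_eq] at h1
        · have := inv_mem_C hc'
          rwa [C_inv_S hs] at this
    rw [this, Finset.card_image_of_injective, card_BF]
    intro c c' hcc
    simp only [Prod.mk.injEq] at hcc
    have := hcc.2
    simpa using this
  · intro p hp
    rw [Finset.mem_coe, Finset.mem_product, mem_CF, mem_CF] at hp
    rw [Finset.mem_coe, mem_CF]
    exact mul_mem_C_of_len_le hs hn hlt.le hp.1 hp.2

theorem qpar_mul_up {s n : G} (hs : s ∈ P.S) (hn : n ∈ P.N) (hlt : len P n < len P (n * s)) :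
    qpar P (n * s) = qpar P n * qpar P s := by
  have h := card_mul_up hs hn hlt
  rw [card_CF, card_CF, card_CF] at h
  have hB : 0 < Nat.card P.B := Nat.card_pos
  have h2 : (qpar P n * qpar P s) * (Nat.card P.B * Nat.card P.B) =
      qpar P (n * s) * (Nat.card P.B * Nat.card P.B) := by
    calc (qpar P n * qpar P s) * (Nat.card P.B * Nat.card P.B)
        = qpar P n * Nat.card P.B * (qpar P s * Nat.card P.B) := by ring
      _ = qpar P (n * s) * Nat.card P.B * Nat.card P.B := h
      _ = qpar P (n * s) * (Nat.card P.B * Nat.card P.B) := by ring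
  exact (Nat.eq_of_mul_eq_mul_right (Nat.mul_pos hB hB) h2).symm

theorem Rk2.qpar_wG_a (R : Rk2 P a b) {r : ℕ} (hr : r ≤ Lw P a b) :
    qpar P (wG a b r) = qpar P a ^ ((r + 1) / 2) * qpar P b ^ (r / 2) := by
  induction r with
  | zero => simp [wG_zero, qpar_one]
  | succ r ih =>
    have ih' := ih (by omega)
    have hlen1 : len P (wG a b r) = lam (Lw P a b) r := R.len_wG (by omega)
    have hlen2 : len P (wG a b (r + 1)) = lam (Lw P a b) (r + 1) := R.len_wG (by omega)
    have hlt : len P (wG a b r) < len P (wG a b (r + 1)) := by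
      rw [hlen1, hlen2]; unfold lam; omega
    by_cases hpar : r % 2 = 0
    · rw [wG_succ_even hpar] at hlt ⊢
      rw [qpar_mul_up R.ha (R.wG_mem r) hlt, ih']
      have e1 : (r + 1 + 1) / 2 = (r + 1) / 2 + 1 := by omega
      have e2 : (r + 1) / 2 = r / 2 := by omega
      rw [e1, pow_succ]
      conv_rhs => rw [e2]
      rw [e2]; ring
    · rw [wG_succ_odd (by omega)] at hlt ⊢
      rw [qpar_mul_up R.hb (R.wG_mem r) hlt, ih']
      have e1 : (r + 1 + 1) / 2 = (r + 1) / 2 := by omega
      have e2 : (r + 1) / 2 = r / 2 + 1 := by omega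
      rw [e1]
      conv_rhs => rw [e2, pow_succ]
      rw [e2]; ring

theorem Rk2.qpar_wG_b (R : Rk2 P a b) {k : ℕ} (hk : k ≤ Lw P a b) :
    qpar P (wG a b (2 * Lw P a b - k)) = qpar P b ^ ((k + 1) / 2) * qpar P a ^ (k / 2) := by
  have hL := R.two_le_L
  induction k with
  | zero =>
    have h1 := R.wG_period (2 * Lw P a b)
    rw [Nat.mod_self, wG_zero] at h1
    rw [Nat.sub_zero, ← qpar_congr h1, qpar_one]; simp
  | succ k ih =>
    have ih' := ih (by omega)
    obtain ⟨r', hr'⟩ : ∃ r', 2 * Lw P a b - k = r' + 1 := ⟨2 * Lw P a b - k - 1, by omega⟩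
    have e0 : 2 * Lw P a b - (k + 1) = r' := by omega
    rw [e0]
    rw [hr'] at ih'
    have hlen1 : len P (wG a b (r' + 1)) = lam (Lw P a b) (r' + 1) := R.len_wG (by omega)
    have hlen2 : len P (wG a b r') = lam (Lw P a b) r' := R.len_wG (by omega)
    by_cases hpar : r' % 2 = 0
    · have hw : wG a b (r' + 1) = wG a b r' * a := wG_succ_even hpar
      have he : Eqv P (wG a b (r' + 1) * a) (wG a b r') := by
        rw [hw]; exact eqv_mul_S_sq R.ha
      have hlt : len P (wG a b (r' + 1)) < len P (wG a b (r' + 1) * a) := by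
        rw [len_congr he, hlen1, hlen2]; unfold lam; omega
      rw [← qpar_congr he, qpar_mul_up R.ha (R.wG_mem _) hlt, ih']
      have e1 : (k + 1 + 1) / 2 = (k + 1) / 2 := by omega
      have e2 : (k + 1) / 2 = k / 2 + 1 := by omega
      rw [e1]
      conv_rhs => rw [e2, pow_succ]
      rw [e2]; ring
    · have hw : wG a b (r' + 1) = wG a b r' * b := wG_succ_odd (by omega)
      have he : Eqv P (wG a b (r' + 1) * b) (wG a b r') := by
        rw [hw]; exact eqv_mul_S_sq R.hb
      have hlt : len P (wG a b (r' + 1)) < len P (wG a b (r' + 1) * b) := by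
        rw [len_congr he, hlen1, hlen2]; unfold lam; omega
      rw [← qpar_congr he, qpar_mul_up R.hb (R.wG_mem _) hlt, ih']
      have e1 : (k + 1 + 1) / 2 = (k + 1) / 2 + 1 := by omega
      have e2 : (k + 1) / 2 = k / 2 := by omega
      rw [e1, pow_succ]
      conv_rhs => rw [e2]
      rw [e2]; ring

theorem Rk2.qpar_eq_of_odd (R : Rk2 P a b) (hodd : Lw P a b % 2 = 1) : qpar P a = qpar P b := by
  have h1 := R.qpar_wG_a (le_refl (Lw P a b))
  have h2 := R.qpar_wG_b (le_refl (Lw P a b))
  have e : 2 * Lw P a b - Lw P a b = Lw P a b := by omega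
  rw [e, h1] at h2
  obtain ⟨m, hm⟩ : ∃ m, Lw P a b = 2 * m + 1 := ⟨Lw P a b / 2, by omega⟩
  rw [hm] at h2
  have e1 : (2 * m + 1 + 1) / 2 = m + 1 := by omega
  have e2 : (2 * m + 1) / 2 = m := by omega
  rw [e1, e2, pow_succ, pow_succ] at h2
  have ha := two_le_qpar R.ha
  have hb := two_le_qpar R.hb
  have hpos : 0 < qpar P a ^ m * qpar P b ^ m := by positivity
  have h3 : qpar P a * (qpar P a ^ m * qpar P b ^ m) = qpar P b * (qpar P a ^ m * qpar P b ^ m) := by
    calc qpar P a * (qpar P a ^ m * qpar P b ^ m) = qpar P a ^ m * qpar P a * qpar P b ^ m := by ring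
      _ = qpar P b ^ m * qpar P b * qpar P a ^ m := h2
      _ = qpar P b * (qpar P a ^ m * qpar P b ^ m) := by ring
  exact Nat.eq_of_mul_eq_mul_right hpos h3

/-- the size of the cell at position `r`, divided by `|B|` -/
def qq (t s L r : ℕ) : ℕ :=
  if r ≤ L then t ^ ((r + 1) / 2) * s ^ (r / 2) else s ^ ((2 * L - r + 1) / 2) * t ^ ((2 * L - r) / 2)

theorem Rk2.qpar_wG (R : Rk2 P a b) {r : ℕ} (hr : r < 2 * Lw P a b) :
    qpar P (wG a b r) = qq (qpar P a) (qpar P b) (Lw P a b) r := by
  unfold qq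
  split_ifs with h
  · exact R.qpar_wG_a h
  · have := R.qpar_wG_b (k := 2 * Lw P a b - r) (by omega)
    have e : 2 * Lw P a b - (2 * Lw P a b - r) = r := by omega
    rwa [e] at this

/-- summing a function of the position over the group -/
theorem Rk2.sum_pos (R : Rk2 P a b) (F : ℕ → ℝ) :
    ∑ g : G, F (pos P a b g) = (Nat.card P.B : ℝ) *
      ∑ r ∈ Finset.range (2 * Lw P a b), (qq (qpar P a) (qpar P b) (Lw P a b) r : ℝ) * F r := by
  rw [← Finset.sum_fiberwise_of_maps_to (s := Finset.univ) (t := Finset.range (2 * Lw P a b))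
    (g := fun g => pos P a b g) (fun g _ => Finset.mem_range.2 (R.pos_lt g))]
  rw [Finset.mul_sum]
  apply Finset.sum_congr rfl
  intro r hr
  rw [Finset.mem_range] at hr
  have h1 : ∀ g ∈ Finset.univ.filter (fun g => pos P a b g = r), F (pos P a b g) = F r := by
    intro g hg
    rw [Finset.mem_filter] at hg
    rw [hg.2]
  rw [Finset.sum_congr rfl h1, Finset.sum_const, nsmul_eq_mul]
  have h2 : Finset.univ.filter (fun g => pos P a b g = r) = CF P (wG a b r) := by
    ext g
    simp only [Finset.mem_filter, Finset.mem_univ, true_and, mem_CF]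
    constructor
    · intro h
      rw [← h]; exact R.mem_C_pos g
    · intro h
      exact R.pos_eq hr h
  rw [h2, card_CF, R.qpar_wG hr]
  push_cast; ring

end Cfsg.Agent.Lib.H2.FH
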