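import Mathlib
import Cfsg.Agent.Lib.H2.FH3d

set_option autoImplicit false
set_option linter.unusedSectionVars false

/-!
# Feit–Higman, part 4a: the point graph in terms of positions on the cycle
(pure combinatorics of positions)
-/

namespace Cfsg.Agent.Lib.H2.FH

/-- the distance (in the point graph) from the base point to the point of a chamber at position `r` -/
def idx (L r : ℕ) : ℕ := if r ≤ L then r / 2 else (2 * L - r + 1) / 2

/-- the operator `B b B` on functions of the position -/
noncomputable def Ab (s : ℝ) (L : ℕ) (U : ℕ → ℝ) (r : ℕ) : ℝ :=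
  if upB L r then s * U (stepB L r) else U (stepB L r) + (s - 1) * U r

/-- the operator `B a B` on functions of the position -/
noncomputable def Aa (t : ℝ) (L : ℕ) (U : ℕ → ℝ) (r : ℕ) : ℝ :=
  if upA L r then t * U (stepA r) else U (stepA r) + (t - 1) * U r

/-- the tridiagonal matrix of the point graph -/
noncomputable def Tm (t s : ℝ) (L : ℕ) (c : ℕ → ℝ) (i : ℕ) : ℝ :=
  if i = 0 then s * (t + 1) * c 1
  else if 2 * i + 1 < L then c (i - 1) + (s - 1) * c i + s * t * c (i + 1)
  else if 2 * i + 1 = L then c (i - 1) + (s - 1 + s * t) * c i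
  else (t + 1) * (c (i - 1) + (s - 1) * c i)

theorem idx_le {L r : ℕ} (hr : r < 2 * L) : 2 * idx L r ≤ L := by
  unfold idx; split_ifs <;> omega

theorem idx_stepA {L r : ℕ} (hL : 2 ≤ L) (hr : r < 2 * L) : idx L (stepA r) = idx L r := by
  unfold idx stepA; split_ifs <;> omega

theorem idx_reflA {L r : ℕ} (hL : 2 ≤ L) (hr : r < 2 * L) : idx L (reflA L r) = idx L r := by
  unfold idx reflA; split_ifs <;> omega

theorem idx_two_mul {L i : ℕ} (hi : 2 * i ≤ L) : idx L (2 * i) = i := by
  unfold idx; split_ifs <;> omega

section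
variable (t s : ℝ) (L : ℕ) (c : ℕ → ℝ) (hL : 2 ≤ L)
include hL

theorem Ab_zero : Ab s L (fun r => c (idx L r)) 0 = s * c 1 := by
  unfold Ab
  rw [if_pos (by unfold upB; omega)]
  have e : idx L (stepB L 0) = 1 := by unfold idx stepB; split_ifs <;> omega
  simp only [e]

theorem Ab_even_a {j : ℕ} (hj : 0 < j) (hjL : 2 * j ≤ L) :
    Ab s L (fun r => c (idx L r)) (2 * j) = c (j - 1) + (s - 1) * c j := by
  unfold Ab
  rw [if_neg (by unfold upB; omega)]
  have e : idx L (stepB L (2 * j)) = j - 1 := by unfold idx stepB; split_ifs <;> omega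
  have e' : idx L (2 * j) = j := by unfold idx; split_ifs <;> omega
  simp only [e, e']

theorem Ab_odd_a {j : ℕ} (hjL : 2 * j + 1 < L) :
    Ab s L (fun r => c (idx L r)) (2 * j + 1) = s * c (j + 1) := by
  unfold Ab
  rw [if_pos (by unfold upB; omega)]
  have e : idx L (stepB L (2 * j + 1)) = j + 1 := by unfold idx stepB; split_ifs <;> omega
  simp only [e]

theorem Ab_odd_a_top {j : ℕ} (hjL : 2 * j + 1 = L) :
    Ab s L (fun r => c (idx L r)) (2 * j + 1) = s * c j := by
  unfold Ab
  rw [if_neg (by unfold upB; omega)]
  have e : idx L (stepB L (2 * j + 1)) = j := by unfold idx stepB; split_ifs <;> omega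
  have e' : idx L (2 * j + 1) = j := by unfold idx; split_ifs <;> omega
  simp only [e, e']
  ring

theorem Ab_even_b {j : ℕ} (hj : 0 < j) (hjL : 2 * j + 1 < L) :
    Ab s L (fun r => c (idx L r)) (2 * L - 2 * j) = s * c (j + 1) := by
  unfold Ab
  rw [if_pos (by unfold upB; omega)]
  have e : idx L (stepB L (2 * L - 2 * j)) = j + 1 := by unfold idx stepB; split_ifs <;> omega
  simp only [e]

theorem Ab_even_b_top {j : ℕ} (hj : 0 < j) (hjL : 2 * j + 1 = L) :
    Ab s L (fun r => c (idx L r)) (2 * L - 2 * j) = s * c j := by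
  unfold Ab
  rw [if_pos (by unfold upB; omega)]
  have e : idx L (stepB L (2 * L - 2 * j)) = j := by unfold idx stepB; split_ifs <;> omega
  simp only [e]

theorem Ab_odd_b {j : ℕ} (hj : 0 < j) (hjL : 2 * j ≤ L) :
    Ab s L (fun r => c (idx L r)) (2 * L - 2 * j + 1) = c (j - 1) + (s - 1) * c j := by
  unfold Ab
  rw [if_neg (by unfold upB; omega)]
  have e : idx L (stepB L (2 * L - 2 * j + 1)) = j - 1 := by
    unfold idx stepB; split_ifs <;> omega
  have e' : idx L (2 * L - 2 * j + 1) = j := by unfold idx; split_ifs <;> omega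
  simp only [e, e']

/-- the point graph operator `(1 + A_a) A_b` acts on functions of the point distance through the
tridiagonal matrix -/
theorem adj_idx {r : ℕ} (hr : r < 2 * L) :
    Ab s L (fun r => c (idx L r)) r + Aa t L (Ab s L (fun r => c (idx L r))) r =
      Tm t s L c (idx L r) := by
  by_cases hside : r ≤ L
  · -- the `a`-side
    by_cases hpar : r % 2 = 0
    · obtain ⟨j, rfl⟩ : ∃ j, r = 2 * j := ⟨r / 2, by omega⟩
      rw [idx_two_mul hside]
      by_cases hj0 : j = 0
      · subst hj0
        unfold Aa Tm
        rw [if_pos (by unfold upA; omega), if_pos rfl]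
        have e : stepA (2 * 0) = 2 * 0 + 1 := by unfold stepA; split_ifs <;> omega
        rw [e, Ab_odd_a s L c hL (by omega)]
        rw [show 2 * 0 = 0 from rfl, Ab_zero s L c hL]
        ring
      · have hj : 0 < j := Nat.pos_of_ne_zero hj0
        by_cases htop : 2 * j = L
        · unfold Aa Tm
          rw [if_neg (by unfold upA; omega), if_neg hj0, if_neg (by omega), if_neg (by omega)]
          have e : stepA (2 * j) = 2 * L - 2 * j + 1 := by unfold stepA; split_ifs <;> omega
          rw [e, Ab_odd_b s L c hL hj (by omega), Ab_even_a s L c hL hj (by omega)]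
          ring
        · unfold Aa Tm
          rw [if_pos (by unfold upA; omega), if_neg hj0]
          have e : stepA (2 * j) = 2 * j + 1 := by unfold stepA; split_ifs <;> omega
          rw [e, Ab_even_a s L c hL hj (by omega)]
          by_cases htop' : 2 * j + 1 = L
          · rw [if_neg (by omega), if_pos htop', Ab_odd_a_top s L c hL htop']
            ring
          · rw [if_pos (by omega), Ab_odd_a s L c hL (by omega)]
            ring
    · obtain ⟨j, rfl⟩ : ∃ j, r = 2 * j + 1 := ⟨r / 2, by omega⟩
      have hi : idx L (2 * j + 1) = j := by unfold idx; split_ifs <;> omega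
      rw [hi]
      unfold Aa
      rw [if_neg (by unfold upA; omega)]
      have e : stepA (2 * j + 1) = 2 * j := by unfold stepA; split_ifs <;> omega
      rw [e]
      by_cases hj0 : j = 0
      · subst hj0
        unfold Tm
        rw [if_pos rfl, Ab_odd_a s L c hL (by omega), show 2 * 0 = 0 from rfl, Ab_zero s L c hL]
        ring
      · have hj : 0 < j := Nat.pos_of_ne_zero hj0
        unfold Tm
        rw [if_neg hj0, Ab_even_a s L c hL hj (by omega)]
        by_cases htop' : 2 * j + 1 = L
        · rw [if_neg (by omega), if_pos htop', Ab_odd_a_top s L c hL htop']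
          ring
        · rw [if_pos (by omega), Ab_odd_a s L c hL (by omega)]
          ring
  · -- the `b`-side
    by_cases hpar : r % 2 = 0
    · obtain ⟨j, hj, hjL, rfl⟩ : ∃ j, 0 < j ∧ 2 * j < L ∧ r = 2 * L - 2 * j :=
        ⟨(2 * L - r) / 2, by omega, by omega, by omega⟩
      have hi : idx L (2 * L - 2 * j) = j := by unfold idx; split_ifs <;> omega
      rw [hi]
      unfold Aa
      rw [if_neg (by unfold upA; omega)]
      have e : stepA (2 * L - 2 * j) = 2 * L - 2 * j + 1 := by
        unfold stepA; split_ifs <;> omega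
      rw [e, Ab_odd_b s L c hL hj (by omega)]
      unfold Tm
      rw [if_neg (by omega)]
      by_cases htop' : 2 * j + 1 = L
      · rw [if_neg (by omega), if_pos htop', Ab_even_b_top s L c hL hj htop']
        ring
      · rw [if_pos (by omega), Ab_even_b s L c hL hj (by omega)]
        ring
    · obtain ⟨j, hj, hjL, rfl⟩ : ∃ j, 0 < j ∧ 2 * j ≤ L ∧ r = 2 * L - 2 * j + 1 :=
        ⟨(2 * L - r + 1) / 2, by omega, by omega, by omega⟩
      have hi : idx L (2 * L - 2 * j + 1) = j := by unfold idx; split_ifs <;> omega
      rw [hi]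
      unfold Aa
      rw [if_pos (by unfold upA; omega)]
      have e : stepA (2 * L - 2 * j + 1) = 2 * L - 2 * j := by
        unfold stepA; split_ifs <;> omega
      rw [e, Ab_odd_b s L c hL hj hjL]
      unfold Tm
      rw [if_neg (by omega)]
      by_cases htop : 2 * j = L
      · have e2 : 2 * L - 2 * j = 2 * j := by omega
        rw [if_neg (by omega), if_neg (by omega), e2, Ab_even_a s L c hL hj (by omega)]
        ring
      · by_cases htop' : 2 * j + 1 = L
        · rw [if_neg (by omega), if_pos htop', Ab_even_b_top s L c hL hj htop']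
          ring
        · rw [if_pos (by omega), Ab_even_b s L c hL hj (by omega)]
          ring

end

end Cfsg.Agent.Lib.H2.FH
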