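import Mathlib
import Cfsg.Agent.Lib.H2.FH4a

set_option autoImplicit false
set_option linter.unusedSectionVars false
set_option linter.unnecessarySeqFocus false
set_option linter.unusedVariables false

/-!
# Feit–Higman, part 4b: the number of chambers at a given point distance
-/

namespace Cfsg.Agent.Lib.H2.FH

/-- the number of chambers (divided by `|B|`) whose point is at distance `i` from the base point -/
def kk (t s L i : ℕ) : ℕ :=
  if i = 0 then 1 + t
  else if 2 * i < L then s * (t + 1) ^ 2 * (s * t) ^ (i - 1)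
  else s * (t + 1) * (s * t) ^ (i - 1)

theorem qq_even_a {t s L i : ℕ} (h : 2 * i ≤ L) : qq t s L (2 * i) = t ^ i * s ^ i := by
  unfold qq
  rw [if_pos h]
  have e1 : (2 * i + 1) / 2 = i := by omega
  have e2 : 2 * i / 2 = i := by omega
  rw [e1, e2]

theorem qq_odd_a {t s L i : ℕ} (h : 2 * i + 1 ≤ L) :
    qq t s L (2 * i + 1) = t ^ (i + 1) * s ^ i := by
  unfold qq
  rw [if_pos h]
  have e1 : (2 * i + 1 + 1) / 2 = i + 1 := by omega
  have e2 : (2 * i + 1) / 2 = i := by omega
  rw [e1, e2]

theorem qq_even_b {t s L i : ℕ} (h0 : 0 < i) (h : 2 * i < L) :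
    qq t s L (2 * L - 2 * i) = s ^ i * t ^ i := by
  unfold qq
  rw [if_neg (by omega)]
  have e1 : (2 * L - (2 * L - 2 * i) + 1) / 2 = i := by omega
  have e2 : (2 * L - (2 * L - 2 * i)) / 2 = i := by omega
  rw [e1, e2]

theorem qq_odd_b {t s L i : ℕ} (h : 2 * (i + 1) ≤ L) :
    qq t s L (2 * L - 2 * (i + 1) + 1) = s ^ (i + 1) * t ^ i := by
  unfold qq
  rw [if_neg (by omega)]
  have e1 : (2 * L - (2 * L - 2 * (i + 1) + 1) + 1) / 2 = i + 1 := by omega
  have e2 : (2 * L - (2 * L - 2 * (i + 1) + 1)) / 2 = i := by omega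
  rw [e1, e2]

theorem sum_idx (t s L : ℕ) (hL : 2 ≤ L) (F : ℕ → ℝ) :
    ∑ r ∈ Finset.range (2 * L), (qq t s L r : ℝ) * F (idx L r) =
      ∑ i ∈ Finset.range (L / 2 + 1), (kk t s L i : ℝ) * F i := by
  rw [← Finset.sum_fiberwise_of_maps_to (s := Finset.range (2 * L))
    (t := Finset.range (L / 2 + 1)) (g := idx L)
    (fun r hr => by
      rw [Finset.mem_range] at hr ⊢
      have := idx_le (L := L) hr
      omega)]
  apply Finset.sum_congr rfl
  intro i hi
  rw [Finset.mem_range] at hi
  have h1 : ∀ r ∈ (Finset.range (2 * L)).filter (fun r => idx L r = i),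
      (qq t s L r : ℝ) * F (idx L r) = (qq t s L r : ℝ) * F i := by
    intro r hr
    rw [Finset.mem_filter] at hr
    rw [hr.2]
  rw [Finset.sum_congr rfl h1, ← Finset.sum_mul]
  congr 1
  rw [← Nat.cast_sum]
  congr 1
  by_cases hi0 : i = 0
  · subst hi0
    have hf : (Finset.range (2 * L)).filter (fun r => idx L r = 0) = {0, 1} := by
      ext r
      simp only [Finset.mem_filter, Finset.mem_range, Finset.mem_insert, Finset.mem_singleton]
      unfold idx; split_ifs <;> omega
    rw [hf, Finset.sum_insert (by simp), Finset.sum_singleton]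
    have e0 := qq_even_a (t := t) (s := s) (L := L) (i := 0) (by omega)
    have e1 := qq_odd_a (t := t) (s := s) (L := L) (i := 0) (by omega)
    simp only [Nat.mul_zero, Nat.zero_add] at e0 e1
    rw [e0, e1]
    unfold kk
    rw [if_pos rfl]; ring
  · obtain ⟨i', rfl⟩ : ∃ i', i = i' + 1 := ⟨i - 1, by omega⟩
    by_cases htop : 2 * (i' + 1) < L
    · have hf : (Finset.range (2 * L)).filter (fun r => idx L r = i' + 1) =
          {2 * (i' + 1), 2 * (i' + 1) + 1, 2 * L - 2 * (i' + 1), 2 * L - 2 * (i' + 1) + 1} := by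
        ext r
        simp only [Finset.mem_filter, Finset.mem_range, Finset.mem_insert, Finset.mem_singleton]
        unfold idx; split_ifs <;> omega
      rw [hf, Finset.sum_insert (by simp; omega), Finset.sum_insert (by simp; omega),
        Finset.sum_insert (by simp), Finset.sum_singleton]
      rw [qq_even_a (by omega), qq_odd_a (by omega), qq_even_b (by omega) htop,
        qq_odd_b (by omega)]
      unfold kk
      rw [if_neg (by omega), if_pos htop]
      have : i' + 1 - 1 = i' := by omega
      rw [this]
      ring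
    · have hLe : 2 * (i' + 1) = L := by omega
      have hf : (Finset.range (2 * L)).filter (fun r => idx L r = i' + 1) =
          {2 * (i' + 1), 2 * L - 2 * (i' + 1) + 1} := by
        ext r
        simp only [Finset.mem_filter, Finset.mem_range, Finset.mem_insert, Finset.mem_singleton]
        unfold idx; split_ifs <;> omega
      rw [hf, Finset.sum_insert (by simp; omega), Finset.sum_singleton]
      rw [qq_even_a (by omega), qq_odd_b (by omega)]
      unfold kk
      rw [if_neg (by omega), if_neg htop]
      have : i' + 1 - 1 = i' := by omega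
      rw [this]
      ring

end Cfsg.Agent.Lib.H2.FH
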