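import Mathlib

set_option autoImplicit false
set_option linter.unusedSectionVars false

/-!
# Feit–Higman, part 5: the kernel lemma (multiplicity of a spherical eigenspace)
-/

namespace Cfsg.Agent.Lib.H2.FH

open Module

/-- an orthonormal basis of a space of functions on a finite set, for the counting measure -/
theorem exists_onb {G : Type*} [Fintype G] (E : Submodule ℝ (G → ℝ)) :
    ∃ (n : ℕ) (e : Fin n → G → ℝ), n = finrank ℝ E ∧ (∀ i, e i ∈ E) ∧
      (∀ i j, ∑ x, e i x * e j x = if i = j then 1 else 0) ∧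
      (∀ f ∈ E, f = ∑ i, (∑ x, e i x * f x) • e i) := by
  classical
  let φ : (G → ℝ) ≃ₗ[ℝ] EuclideanSpace ℝ G := (WithLp.linearEquiv 2 ℝ (G → ℝ)).symm
  let E' : Submodule ℝ (EuclideanSpace ℝ G) := E.map (φ : (G → ℝ) →ₗ[ℝ] EuclideanSpace ℝ G)
  have hn : finrank ℝ E' = finrank ℝ E := LinearEquiv.finrank_map_eq φ E
  let b := stdOrthonormalBasis ℝ E'
  have hinner : ∀ v w : EuclideanSpace ℝ G, inner ℝ v w = ∑ x, v x * w x := by
    intro v w
    rw [PiLp.inner_apply]
    simp [mul_comm]
  have hmem : ∀ v : E', (fun x => (v : EuclideanSpace ℝ G) x) ∈ E := by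
    intro v
    obtain ⟨f, hf, hfv⟩ := v.2
    have : (fun x => (v : EuclideanSpace ℝ G) x) = f := by
      rw [← hfv]; rfl
    rw [this]; exact hf
  refine ⟨finrank ℝ E', fun i x => ((b i : E') : EuclideanSpace ℝ G) x, hn, fun i => hmem _, ?_, ?_⟩
  · intro i j
    have := (orthonormal_iff_ite.1 b.orthonormal) i j
    rw [Submodule.coe_inner, hinner] at this
    exact this
  · intro f hf
    let v : E' := ⟨φ f, Submodule.mem_map_of_mem hf⟩
    have h1 := b.sum_repr' v
    have h2 : ∀ i, inner ℝ (b i) v = ∑ x, ((b i : E') : EuclideanSpace ℝ G) x * f x := by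
      intro i
      rw [Submodule.coe_inner, hinner]
      rfl
    have h3 := congrArg (fun w : E' => (w : EuclideanSpace ℝ G)) h1
    simp only [Submodule.coe_sum, Submodule.coe_smul] at h3
    funext y
    have h4 := congrArg (fun w : EuclideanSpace ℝ G => w y) h3
    simp only at h4
    have h5 : (v : EuclideanSpace ℝ G) y = f y := rfl
    rw [h5] at h4
    rw [← h4]
    simp only [h2]
    simp [Finset.sum_apply]

/-- **Kernel lemma**: if `E` is a space of right `H`-invariant functions on `G`, stable under left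
translations, in which the left `H`-invariant functions are the multiples of `φ` (`φ 1 = 1`), then
`dim E · ‖φ‖² = |G|`. -/
theorem kernel_lemma {G : Type*} [Group G] [Fintype G] (H : Subgroup G)
    (E : Submodule ℝ (G → ℝ))
    (hE : ∀ a : G, ∀ f ∈ E, (fun x => f (a * x)) ∈ E)
    (hH : ∀ f ∈ E, ∀ x : G, ∀ h ∈ H, f (x * h) = f x)
    (φ : G → ℝ) (hφ : φ ∈ E) (hφ1 : φ 1 = 1)
    (huniq : ∀ ψ ∈ E, (∀ x : G, ∀ h ∈ H, ψ (h * x) = ψ x) → ψ = ψ 1 • φ) :
    (finrank ℝ E : ℝ) * ∑ g, φ g ^ 2 = Fintype.card G := by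
  classical
  obtain ⟨n, e, hn, he, horth, hexp⟩ := exists_onb E
  let K : G → G → ℝ := fun y x => ∑ i, e i y * e i x
  have hKE : ∀ y, K y ∈ E := by
    intro y
    have : K y = ∑ i, e i y • e i := by
      funext x; simp [K, Finset.sum_apply]
    rw [this]
    exact Submodule.sum_mem _ (fun i _ => Submodule.smul_mem _ _ (he i))
  have hKsymm : ∀ x y, K x y = K y x := by
    intro x y
    simp only [K]
    exact Finset.sum_congr rfl (fun i _ => mul_comm _ _)
  have hrep : ∀ f ∈ E, ∀ y, ∑ x, K y x * f x = f y := by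
    intro f hf y
    have h1 := hexp f hf
    have h2 : f y = ∑ i, (∑ x, e i x * f x) * e i y := by
      conv_lhs => rw [h1]
      simp [Finset.sum_apply]
    rw [h2]
    simp only [K, Finset.sum_mul]
    rw [Finset.sum_comm]
    apply Finset.sum_congr rfl; intro i _
    apply Finset.sum_congr rfl; intro x _
    ring
  have htrace : ∑ y, K y y = n := by
    simp only [K]
    rw [Finset.sum_comm]
    simp [horth]
  have hzero : ∀ f ∈ E, (∀ f' ∈ E, ∑ x, f x * f' x = 0) → f = 0 := by
    intro f hf h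
    have := h f hf
    funext x
    have hx : f x * f x = 0 := by
      have hnonneg : ∀ y ∈ Finset.univ, 0 ≤ f y * f y := fun y _ => mul_self_nonneg _
      exact (Finset.sum_eq_zero_iff_of_nonneg hnonneg).1 this x (Finset.mem_univ x)
    exact mul_self_eq_zero.1 hx
  have hinv : ∀ a y x, K (a * y) (a * x) = K y x := by
    intro a y x
    have hf'E : (fun x => K (a * y) (a * x)) ∈ E := hE a _ (hKE _)
    have hdiff : (fun x => K (a * y) (a * x)) - K y = 0 := by
      apply hzero _ (Submodule.sub_mem _ hf'E (hKE y))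
      intro f' hf'
      simp only [Pi.sub_apply, sub_mul, Finset.sum_sub_distrib]
      rw [hrep f' hf' y]
      have h1 : ∑ x, K (a * y) (a * x) * f' x = ∑ x, K (a * y) x * f' (a⁻¹ * x) := by
        apply Fintype.sum_equiv (Equiv.mulLeft a)
        intro x; simp
      rw [h1, hrep (fun x => f' (a⁻¹ * x)) (hE a⁻¹ f' hf') (a * y)]
      simp
    have := congrFun hdiff x
    simp only [Pi.sub_apply, Pi.zero_apply] at this
    linarith
  have hdiag : ∀ y, K y y = K 1 1 := fun y => by
    have := hinv y 1 1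
    simpa using this
  have hcard : (n : ℝ) = Fintype.card G * K 1 1 := by
    rw [← htrace]
    simp [hdiag]
  have hleft : ∀ x, ∀ h ∈ H, K 1 (h * x) = K 1 x := by
    intro x h hh
    have h1 : K 1 (h * x) = K h⁻¹ x := by
      have := hinv h⁻¹ 1 (h * x)
      simp only [mul_one, inv_mul_cancel_left] at this
      exact this.symm
    rw [h1, hKsymm]
    have h2 := hH (K x) (hKE x) 1 h⁻¹ (H.inv_mem hh)
    rw [one_mul] at h2
    rw [h2, hKsymm]
  have hk := huniq (K 1) (hKE 1) hleft
  have hk' : ∀ x, K 1 x = K 1 1 * φ x := fun x => by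
    have := congrFun hk x
    simpa using this
  have h1 := hrep φ hφ 1
  rw [hφ1] at h1
  have h2 : K 1 1 * ∑ x, φ x ^ 2 = 1 := by
    rw [← h1, Finset.mul_sum]
    apply Finset.sum_congr rfl
    intro x _
    rw [hk' x]; ring
  rw [← hn, hcard]
  calc (Fintype.card G : ℝ) * K 1 1 * ∑ g, φ g ^ 2
      = Fintype.card G * (K 1 1 * ∑ g, φ g ^ 2) := by ring
    _ = Fintype.card G := by rw [h2, mul_one]

end Cfsg.Agent.Lib.H2.FH
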