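import Mathlib
import Cfsg.Agent.Lib.H2.FH4b
import Cfsg.Agent.Lib.H2.FH5

set_option autoImplicit false
set_option linter.unusedSectionVars false
set_option linter.unnecessarySeqFocus false
set_option linter.unusedVariables false

/-!
# Feit–Higman, part 6a: the point graph of a `(B, N)`-pair of rank two, and the multiplicity of
an eigenvalue
-/

namespace Cfsg.Agent.Lib.H2.FH

open Cfsg DoubleCoset Cfsg.Agent.Lib.H2.BN
open scoped Classical

variable {G : Type*} [Group G] [Fintype G] {P : BNPair G} {a b : G}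

/-- the point graph operator (unnormalised): sum over `p ∈ P₁ = B ∪ B a B` and `h ∈ B b B` -/
noncomputable def Adj (P : BNPair G) (a b : G) (f : G → ℝ) (g : G) : ℝ :=
  ∑ p ∈ BF P, ∑ h ∈ CF P b, f (g * p * h) + ∑ p ∈ CF P a, ∑ h ∈ CF P b, f (g * p * h)

theorem Adj_add (f f' : G → ℝ) (g : G) : Adj P a b (f + f') g = Adj P a b f g + Adj P a b f' g := by
  unfold Adj
  simp only [Pi.add_apply, Finset.sum_add_distrib]
  ring

theorem Adj_smul (c : ℝ) (f : G → ℝ) (g : G) : Adj P a b (c • f) g = c * Adj P a b f g := by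
  unfold Adj
  simp only [Pi.smul_apply, smul_eq_mul, ← Finset.mul_sum]
  ring

theorem Adj_translate (x : G) (f : G → ℝ) (g : G) :
    Adj P a b (fun y => f (x * y)) g = Adj P a b f (x * g) := by
  unfold Adj
  simp only [mul_assoc]

theorem Rk2.pos_mul_Ca (R : Rk2 P a b) {g p : G} (hp : p ∈ C P a) :
    pos P a b (g * p) = pos P a b g ∨ pos P a b (g * p) = stepA (pos P a b g) := by
  obtain ⟨b₁, hb₁, b₂, hb₂, rfl⟩ := mem_C_iff.1 hp
  have hr := R.pos_lt g
  have hg : g * b₁ ∈ C P (wG a b (pos P a b g)) := mul_right_mem_C hb₁ (R.mem_C_pos g)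
  have e : g * (b₁ * a * b₂) = g * b₁ * a * b₂ := by group
  rw [e, R.pos_mul_right hb₂]
  rcases mul_S_mem_C R.ha (R.wG_mem _) hg with h | h
  · right
    rw [(R.eqv_mul_a _).C_eq] at h
    exact R.pos_eq (stepA_lt hr) h
  · left
    exact R.pos_eq hr h

theorem Rk2.adj_pos (R : Rk2 P a b) (U : ℕ → ℝ) (g : G) :
    Adj P a b (fun g => U (pos P a b g)) g = (Nat.card P.B : ℝ) ^ 2 *
      (Ab (qpar P b) (Lw P a b) U (pos P a b g) +
        Aa (qpar P a) (Lw P a b) (Ab (qpar P b) (Lw P a b) U) (pos P a b g)) := by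
  unfold Adj
  have h1 : ∀ x : G, ∑ h ∈ CF P b, U (pos P a b (x * h)) =
      (Nat.card P.B : ℝ) * Ab (qpar P b) (Lw P a b) U (pos P a b x) := by
    intro x
    rw [R.sum_b U x]
    rfl
  simp only [h1]
  have h2 : ∀ p ∈ BF P, (Nat.card P.B : ℝ) * Ab (qpar P b) (Lw P a b) U (pos P a b (g * p)) =
      (Nat.card P.B : ℝ) * Ab (qpar P b) (Lw P a b) U (pos P a b g) := by
    intro p hp
    rw [R.pos_mul_right (mem_BF.1 hp)]
  rw [Finset.sum_congr rfl h2, Finset.sum_const, card_BF, ← Finset.mul_sum,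
    R.sum_a (Ab (qpar P b) (Lw P a b) U) g, nsmul_eq_mul]
  unfold Aa
  ring

/-- the eigenspace of the point graph, as functions on `G` -/
noncomputable def Eig (P : BNPair G) (a b : G) (θ : ℝ) : Submodule ℝ (G → ℝ) where
  carrier := {f | (∀ x p, (p ∈ P.B ∨ p ∈ C P a) → f (x * p) = f x) ∧
    ∀ g, Adj P a b f g = θ * f g}
  add_mem' := by
    rintro f f' ⟨h1, h2⟩ ⟨h1', h2'⟩
    refine ⟨fun x p hp => ?_, fun g => ?_⟩
    · simp only [Pi.add_apply, h1 x p hp, h1' x p hp]
    · rw [Adj_add, h2, h2']; simp only [Pi.add_apply]; ring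
  zero_mem' := by
    refine ⟨fun x p hp => rfl, fun g => ?_⟩
    have := Adj_smul (P := P) (a := a) (b := b) 0 (0 : G → ℝ) g
    simp only [zero_smul, zero_mul] at this
    rw [this]; simp
  smul_mem' := by
    rintro c f ⟨h1, h2⟩
    refine ⟨fun x p hp => ?_, fun g => ?_⟩
    · simp only [Pi.smul_apply, h1 x p hp]
    · rw [Adj_smul, h2]; simp only [Pi.smul_apply, smul_eq_mul]; ring

theorem mem_Eig {θ : ℝ} {f : G → ℝ} : f ∈ Eig P a b θ ↔
    (∀ x p, (p ∈ P.B ∨ p ∈ C P a) → f (x * p) = f x) ∧ ∀ g, Adj P a b f g = θ * f g := Iff.rfl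

/-- invariance under the reflections forces a function of the position to be a function of the
point distance -/
theorem eq_of_invariant {L : ℕ} (hL : 2 ≤ L) (U : ℕ → ℝ)
    (h1 : ∀ r, r < 2 * L → U (stepA r) = U r) (h2 : ∀ r, r < 2 * L → U (reflA L r) = U r) :
    ∀ r, r < 2 * L → U r = U (2 * idx L r) := by
  intro r hr
  by_cases hside : r ≤ L
  · by_cases hpar : r % 2 = 0
    · have : 2 * idx L r = r := by unfold idx; split_ifs <;> omega
      rw [this]
    · have e : 2 * idx L r = r - 1 := by unfold idx; split_ifs <;> omega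
      have := h1 (r - 1) (by omega)
      have e' : stepA (r - 1) = r := by unfold stepA; split_ifs <;> omega
      rw [e, ← this, e']
  · by_cases hpar : r % 2 = 0
    · -- r = 2L - 2j, reflected from 2j+1
      have e : 2 * idx L r = 2 * L - r := by unfold idx; split_ifs <;> omega
      have h3 := h2 (2 * L - r + 1) (by omega)
      have e3 : reflA L (2 * L - r + 1) = r := by unfold reflA; split_ifs <;> omega
      have h4 := h1 (2 * L - r) (by omega)
      have e4 : stepA (2 * L - r) = 2 * L - r + 1 := by unfold stepA; split_ifs <;> omega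
      rw [e, ← h4, e4, ← h3, e3]
    · have e : 2 * idx L r = 2 * L - r + 1 := by unfold idx; split_ifs <;> omega
      have h3 := h2 (2 * L - r + 1) (by omega)
      have e3 : reflA L (2 * L - r + 1) = r := by unfold reflA; split_ifs <;> omega
      rw [e, ← h3, e3]

/-- uniqueness of the solution of the three term recurrence -/
theorem recurrence_unique {t s θ : ℝ} (ht : 0 < t) (hs : 0 < s) {L : ℕ} (c c' : ℕ → ℝ)
    (hc0 : c 0 = 1) (hc : ∀ i, 2 * i ≤ L → Tm t s L c i = θ * c i)
    (hc' : ∀ i, 2 * i ≤ L → Tm t s L c' i = θ * c' i) :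
    ∀ i, 2 * i ≤ L → c' i = c' 0 * c i := by
  have key : ∀ i, 2 * (i + 1) ≤ L → c' i = c' 0 * c i ∧ c' (i + 1) = c' 0 * c (i + 1) := by
    intro i
    induction i with
    | zero =>
      intro h
      refine ⟨by rw [hc0, mul_one], ?_⟩
      have e1 := hc 0 (by omega)
      have e2 := hc' 0 (by omega)
      unfold Tm at e1 e2
      rw [if_pos rfl] at e1 e2
      rw [hc0] at e1
      have hne : s * (t + 1) ≠ 0 := by positivity
      have : s * (t + 1) * c' 1 = s * (t + 1) * (c' 0 * c 1) := by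
        rw [e2]
        calc θ * c' 0 = c' 0 * (θ * 1) := by ring
          _ = c' 0 * (s * (t + 1) * c 1) := by rw [e1]
          _ = s * (t + 1) * (c' 0 * c 1) := by ring
      exact mul_left_cancel₀ hne this
    | succ i ih =>
      intro h
      obtain ⟨ih1, ih2⟩ := ih (by omega)
      refine ⟨ih2, ?_⟩
      have e1 := hc (i + 1) (by omega)
      have e2 := hc' (i + 1) (by omega)
      unfold Tm at e1 e2
      rw [if_neg (by omega), if_pos (by omega)] at e1 e2
      simp only [Nat.add_sub_cancel] at e1 e2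
      have hne : s * t ≠ 0 := by positivity
      have : s * t * c' (i + 1 + 1) = s * t * (c' 0 * c (i + 1 + 1)) := by
        have e1' : s * t * c (i + 1 + 1) = θ * c (i + 1) - c i - (s - 1) * c (i + 1) := by
          linarith
        have e2' : s * t * c' (i + 1 + 1) = θ * c' (i + 1) - c' i - (s - 1) * c' (i + 1) := by
          linarith
        rw [e2', ih1, ih2]
        calc θ * (c' 0 * c (i + 1)) - c' 0 * c i - (s - 1) * (c' 0 * c (i + 1))
            = c' 0 * (θ * c (i + 1) - c i - (s - 1) * c (i + 1)) := by ring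
          _ = c' 0 * (s * t * c (i + 1 + 1)) := by rw [e1']
          _ = s * t * (c' 0 * c (i + 1 + 1)) := by ring
      exact mul_left_cancel₀ hne this
  intro i hi
  rcases Nat.eq_zero_or_pos i with h0 | h0
  · subst h0; rw [hc0, mul_one]
  · obtain ⟨i', rfl⟩ : ∃ i', i = i' + 1 := ⟨i - 1, by omega⟩
    exact (key i' hi).2

end Cfsg.Agent.Lib.H2.FH
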