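import Mathlib
import Cfsg.Agent.Lib.H2.FH6a

set_option autoImplicit false
set_option linter.unusedSectionVars false
set_option linter.unnecessarySeqFocus false
set_option linter.unusedVariables false

/-!
# Feit–Higman, part 6b: the multiplicity of an eigenvalue of the point graph
-/

namespace Cfsg.Agent.Lib.H2.FH

open Cfsg DoubleCoset Cfsg.Agent.Lib.H2.BN
open scoped Classical

variable {G : Type*} [Group G] [Fintype G] {P : BNPair G} {a b : G}

theorem Rk2.eq_wG_pos (R : Rk2 P a b) {ψ : G → ℝ}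
    (hr : ∀ x p, p ∈ P.B → ψ (x * p) = ψ x) (hl : ∀ x p, p ∈ P.B → ψ (p * x) = ψ x) (g : G) :
    ψ g = ψ (wG a b (pos P a b g)) := by
  obtain ⟨b₁, hb₁, b₂, hb₂, hg⟩ := mem_C_iff.1 (R.mem_C_pos g)
  calc ψ g = ψ (b₁ * wG a b (pos P a b g) * b₂) := by rw [← hg]
    _ = ψ (wG a b (pos P a b g)) := by rw [hr _ _ hb₂, hl _ _ hb₁]

theorem Rk2.multiplicity (R : Rk2 P a b) (c : ℕ → ℝ) (θ : ℝ) (hc0 : c 0 = 1)
    (hc : ∀ i, 2 * i ≤ Lw P a b → Tm (qpar P a) (qpar P b) (Lw P a b) c i = θ * c i) :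
    ∃ d : ℕ, (d : ℝ) * ((Nat.card P.B : ℝ) * ∑ i ∈ Finset.range (Lw P a b / 2 + 1),
      (kk (qpar P a) (qpar P b) (Lw P a b) i : ℝ) * c i ^ 2) = Fintype.card G := by
  have hL := R.two_le_L
  have hBpos : (0 : ℝ) < (Nat.card P.B : ℝ) := by exact_mod_cast Nat.card_pos
  have hta : (0 : ℝ) < (qpar P a : ℝ) := by
    have := two_le_qpar R.ha
    exact_mod_cast (by omega : 0 < qpar P a)
  have hsb : (0 : ℝ) < (qpar P b : ℝ) := by
    have := two_le_qpar R.hb
    exact_mod_cast (by omega : 0 < qpar P b)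
  set L := Lw P a b with hLdef
  set t : ℝ := (qpar P a : ℝ) with htdef
  set s : ℝ := (qpar P b : ℝ) with hsdef
  set Bn : ℝ := (Nat.card P.B : ℝ) with hBn
  let φ : G → ℝ := fun g => c (idx L (pos P a b g))
  have hφmem : φ ∈ Eig P a b (Bn ^ 2 * θ) := by
    refine ⟨fun x p hp => ?_, fun g => ?_⟩
    · show c (idx L (pos P a b (x * p))) = c (idx L (pos P a b x))
      rcases hp with hp | hp
      · rw [R.pos_mul_right hp]
      · rcases R.pos_mul_Ca (g := x) hp with h | h
        · rw [h]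
        · rw [h, idx_stepA hL (R.pos_lt x)]
    · have h1 := R.adj_pos (fun r => c (idx L r)) g
      rw [adj_idx t s L c hL (R.pos_lt g)] at h1
      show Adj P a b (fun g => c (idx L (pos P a b g))) g = _
      rw [h1, hc _ (idx_le (R.pos_lt g))]
      ring
  have hφ1 : φ 1 = 1 := by
    show c (idx L (pos P a b 1)) = 1
    rw [R.pos_one]
    have : idx L 0 = 0 := by unfold idx; split_ifs <;> omega
    rw [this, hc0]
  have hk := kernel_lemma (Ppar a R.ha) (Eig P a b (Bn ^ 2 * θ))
    (fun x f hf => by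
      obtain ⟨h1, h2⟩ := hf
      refine ⟨fun y p hp => ?_, fun g => ?_⟩
      · show f (x * (y * p)) = f (x * y)
        rw [← mul_assoc]; exact h1 _ p hp
      · rw [Adj_translate]; exact h2 (x * g))
    (fun f hf x h hh => hf.1 x h ((mem_Ppar R.ha).1 hh))
    φ hφmem hφ1
    (by
      intro ψ hψ hleft
      obtain ⟨hr1, hr2⟩ := hψ
      have hrB : ∀ x p, p ∈ P.B → ψ (x * p) = ψ x := fun x p hp => hr1 x p (Or.inl hp)
      have hlB : ∀ x p, p ∈ P.B → ψ (p * x) = ψ x := fun x p hp =>
        hleft x p ((mem_Ppar R.ha).2 (Or.inl hp))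
      have hψpos := R.eq_wG_pos hrB hlB
      let U : ℕ → ℝ := fun r => ψ (wG a b r)
      have hU1 : ∀ r, r < 2 * L → U (stepA r) = U r := by
        intro r hr
        show ψ (wG a b (stepA r)) = ψ (wG a b r)
        have h1 : ψ (wG a b r * a) = ψ (wG a b r) := hr1 _ a (Or.inr (mem_C_self a))
        rw [← h1, hψpos (wG a b r * a)]
        have : pos P a b (wG a b r * a) = stepA r :=
          R.pos_eq (stepA_lt hr) (R.eqv_mul_a r).symm.mem_C
        rw [this]
      have hU2 : ∀ r, r < 2 * L → U (reflA L r) = U r := by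
        intro r hr
        show ψ (wG a b (reflA L r)) = ψ (wG a b r)
        have h1 : ψ (a * wG a b r) = ψ (wG a b r) :=
          hleft _ a ((mem_Ppar R.ha).2 (Or.inr (mem_C_self a)))
        rw [← h1, hψpos (a * wG a b r), R.pos_a_mul_wG hr]
      have hUidx := eq_of_invariant hL U hU1 hU2
      let c' : ℕ → ℝ := fun i => ψ (wG a b (2 * i))
      have hψc' : ψ = fun g => c' (idx L (pos P a b g)) := by
        funext g
        rw [hψpos g]
        exact hUidx _ (R.pos_lt g)
      have hc' : ∀ i, 2 * i ≤ L → Tm t s L c' i = θ * c' i := by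
        intro i hi
        have hlt : 2 * i < 2 * L := by omega
        have h1 := R.adj_pos (fun r => c' (idx L r)) (wG a b (2 * i))
        rw [adj_idx t s L c' hL (R.pos_lt _), R.pos_wG hlt, idx_two_mul hi] at h1
        have h2 := hr2 (wG a b (2 * i))
        have h3 : Adj P a b ψ (wG a b (2 * i)) =
            Adj P a b (fun g => c' (idx L (pos P a b g))) (wG a b (2 * i)) := by
          rw [← hψc']
        rw [h3, h1] at h2
        have h4 : ψ (wG a b (2 * i)) = c' i := rfl
        rw [h4] at h2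
        have hB2 : Bn ^ 2 ≠ 0 := by positivity
        have : Bn ^ 2 * Tm t s L c' i = Bn ^ 2 * (θ * c' i) := by rw [h2]; ring
        exact mul_left_cancel₀ hB2 this
      have hrec := recurrence_unique hta hsb c c' hc0 hc hc'
      have h0 : c' 0 = ψ 1 := by
        show ψ (wG a b (2 * 0)) = ψ 1
        rw [Nat.mul_zero, wG_zero]
      have hfin : ∀ g, ψ g = ψ 1 * φ g := by
        intro g
        calc ψ g = c' (idx L (pos P a b g)) := congrFun hψc' g
          _ = c' 0 * c (idx L (pos P a b g)) := hrec _ (idx_le (R.pos_lt g))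
          _ = ψ 1 * φ g := by rw [h0]
      funext g
      simp only [Pi.smul_apply, smul_eq_mul]
      exact hfin g)
  refine ⟨Module.finrank ℝ (Eig P a b (Bn ^ 2 * θ)), ?_⟩
  rw [← hk]
  congr 1
  have h1 : ∑ g, φ g ^ 2 = ∑ g, (fun r => c (idx L r) ^ 2) (pos P a b g) := rfl
  rw [h1, R.sum_pos (fun r => c (idx L r) ^ 2)]
  congr 1
  exact (sum_idx (qpar P a) (qpar P b) L hL (fun i => c i ^ 2)).symm

end Cfsg.Agent.Lib.H2.FH
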