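import Mathlib

set_option autoImplicit false
set_option linter.unusedSectionVars false
set_option linter.unnecessarySeqFocus false
set_option linter.unusedVariables false

/-!
# Feit–Higman, part 6c: sequences with `v (k+2) = 2 c v (k+1) - v k`
-/

namespace Cfsg.Agent.Lib.H2.FH

section Recurrence

variable (cc : ℝ) (v : ℕ → ℝ) (hrec : ∀ k, v (k + 2) = 2 * cc * v (k + 1) - v k)
include hrec

theorem rec_inv (k : ℕ) : v k ^ 2 + v (k + 1) ^ 2 - 2 * cc * v k * v (k + 1) =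
    v 0 ^ 2 + v 1 ^ 2 - 2 * cc * v 0 * v 1 := by
  induction k with
  | zero => rfl
  | succ k ih =>
    rw [← ih, hrec k]; ring

theorem rec_sum_sq (m : ℕ) : 2 * (1 - cc ^ 2) * ∑ k ∈ Finset.range (m + 1), v k ^ 2 =
    (m + 1 : ℝ) * (v 0 ^ 2 + v 1 ^ 2 - 2 * cc * v 0 * v 1) + (1 - 2 * cc ^ 2) * v 0 ^ 2
      - v (m + 1) ^ 2 + cc * (v 0 * v 1 + v m * v (m + 1)) := by
  induction m with
  | zero => simp; ring
  | succ m ih =>
    rw [Finset.sum_range_succ, mul_add, ih]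
    have h1 := rec_inv cc v hrec (m + 1)
    have h2 := hrec m
    push_cast
    linear_combination h1 + cc * v (m + 1) * h2

end Recurrence

open Real

/-- the sequence `cos (k ϑ) + β sin (k ϑ)` -/
noncomputable def vseq (ϑ β : ℝ) (k : ℕ) : ℝ := cos (k * ϑ) + β * sin (k * ϑ)

theorem vseq_zero (ϑ β : ℝ) : vseq ϑ β 0 = 1 := by simp [vseq]

theorem vseq_one (ϑ β : ℝ) : vseq ϑ β 1 = cos ϑ + β * sin ϑ := by simp [vseq]

theorem vseq_rec (ϑ β : ℝ) (k : ℕ) :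
    vseq ϑ β (k + 2) = 2 * cos ϑ * vseq ϑ β (k + 1) - vseq ϑ β k := by
  unfold vseq
  have e1 : ((k + 2 : ℕ) : ℝ) * ϑ = ((k + 1 : ℕ) : ℝ) * ϑ + ϑ := by push_cast; ring
  have e2 : ((k : ℕ) : ℝ) * ϑ = ((k + 1 : ℕ) : ℝ) * ϑ - ϑ := by push_cast; ring
  rw [e1, e2, cos_add, cos_sub, sin_add, sin_sub]
  ring

/-- values at the top, `L = 2 m` even: `m ϑ = j π` -/
theorem vseq_top_even (ϑ β : ℝ) (m j : ℕ) (h : (m : ℝ) * ϑ = j * π) :
    vseq ϑ β m = (-1) ^ j := by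
  unfold vseq
  rw [h, cos_nat_mul_pi, sin_nat_mul_pi]; ring

theorem vseq_top_even' (ϑ β : ℝ) (m j : ℕ) (h : ((m + 1 : ℕ) : ℝ) * ϑ = j * π) :
    vseq ϑ β m = (-1) ^ j * (cos ϑ - β * sin ϑ) := by
  unfold vseq
  have e : (m : ℝ) * ϑ = j * π - ϑ := by
    rw [← h]; push_cast; ring
  rw [e, cos_sub, sin_sub, cos_nat_mul_pi, sin_nat_mul_pi]; ring

/-- values at the top, `L = 2 m + 1` odd: `(2 m + 1) ϑ = 2 j π` -/
theorem vseq_top_odd (ϑ β : ℝ) (m j : ℕ) (h : ((2 * m + 1 : ℕ) : ℝ) * ϑ = 2 * (j * π)) :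
    vseq ϑ β m = (-1) ^ j * (cos (ϑ / 2) - β * sin (ϑ / 2)) := by
  unfold vseq
  have e : (m : ℝ) * ϑ = j * π - ϑ / 2 := by
    push_cast at h; linarith
  rw [e, cos_sub, sin_sub, cos_nat_mul_pi, sin_nat_mul_pi]; ring

theorem vseq_top_odd' (ϑ β : ℝ) (m j : ℕ) (h : ((2 * m + 1 : ℕ) : ℝ) * ϑ = 2 * (j * π)) :
    vseq ϑ β (m + 1) = (-1) ^ j * (cos (ϑ / 2) + β * sin (ϑ / 2)) := by
  unfold vseq
  have e : ((m + 1 : ℕ) : ℝ) * ϑ = j * π + ϑ / 2 := by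
    push_cast at h ⊢; linarith
  rw [e, cos_add, sin_add, cos_nat_mul_pi, sin_nat_mul_pi]; ring

end Cfsg.Agent.Lib.H2.FH
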