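import Mathlib
import Cfsg.Agent.Lib.H2.FH4b
import Cfsg.Agent.Lib.H2.FH6c

set_option autoImplicit false
set_option linter.unusedSectionVars false
set_option linter.unnecessarySeqFocus false
set_option linter.unusedVariables false

/-!
# Feit–Higman, part 6d: the spherical functions of the point graph
-/

namespace Cfsg.Agent.Lib.H2.FH


theorem even_algebra (s t cc τ E A m : ℝ) (ht : 1 < t) 
    (hτ2 : τ ^ 2 = 4 * (s * t) * cc ^ 2)
    (hE : s * (t + 1) ^ 2 * E = (s * t + 1 - τ) * (s + t + τ))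
    (hA : 2 * (1 - cc ^ 2) * A = (m + 1) * E) :
    ((1 + t) + (t + 1) ^ 2 / t * (A - 1) + (t + 1) / t) * (4 * (s * t) - τ ^ 2) =
      (2 * (m + 1)) * ((s * t + 1 - τ) * (s + t + τ)) := by
  have ht0 : t ≠ 0 := by positivity
  field_simp
  linear_combination (2 * s * t * (t + 1) ^ 2) * hA + (2 * t * (m + 1)) * hE
    - ((t + 1) ^ 2 * A) * hτ2

theorem odd_algebra (s cc vone X A m : ℝ) (hs : 1 < s) (hcc : 1 - cc ^ 2 ≠ 0)
    (hD : 1 + s ^ 2 - 2 * s * cc ≠ 0)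
    (hv : vone * (s + 1) = s - 1 + 2 * s * cc)
    (hX : X * (1 + s ^ 2 - 2 * s * cc) = 1 + vone ^ 2 - 2 * cc * vone)
    (hA : 2 * (1 - cc ^ 2) * A = (m + 1) * (1 + vone ^ 2 - 2 * cc * vone) + (1 - 2 * cc ^ 2)
      - s ^ 2 * X + cc * (vone + s * X)) :
    ((1 + s) + (s + 1) ^ 2 / s * (A - 1)) * (4 * (s * s) - (2 * s * cc) ^ 2) =
      (2 * m + 1) * ((s * s + 1 - 2 * s * cc) * (s + s + 2 * s * cc)) := by
  have hs0 : s ≠ 0 := by positivity
  have hs1 : s + 1 ≠ 0 := by positivity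
  have h1 : (s + 1) ^ 2 * (1 + vone ^ 2 - 2 * cc * vone) =
      2 * (1 + s ^ 2 - 2 * s * cc) * (1 + cc) := by
    linear_combination (vone * (s + 1) + (s - 1 + 2 * s * cc) - 2 * cc * (s + 1)) * hv
  have h2 : (s + 1) ^ 2 * X = 2 * (1 + cc) := by
    apply mul_right_cancel₀ hD
    linear_combination (s + 1) ^ 2 * hX + h1
  field_simp
  linear_combination (2 * (s + 1) ^ 2) * hA + (2 * (m + 1)) * h1 +
    (2 * s * (cc - s)) * h2 + (2 * cc * (s + 1)) * hv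

open Real

noncomputable def uu (s t : ℝ) : ℝ := Real.sqrt (s * t)
noncomputable def tau (s t ϑ : ℝ) : ℝ := 2 * uu s t * cos ϑ
noncomputable def vone (s t ϑ : ℝ) : ℝ := uu s t * (s - 1 + tau s t ϑ) / (s * (t + 1))
noncomputable def beta (s t ϑ : ℝ) : ℝ := (vone s t ϑ - cos ϑ) / sin ϑ
noncomputable def cs (s t ϑ : ℝ) (i : ℕ) : ℝ := vseq ϑ (beta s t ϑ) i / uu s t ^ i

section
variable {s t ϑ : ℝ} (hs : 1 < s) (ht : 1 < t) (h0 : 0 < ϑ) (hπ : ϑ < π)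
include hs ht h0 hπ

theorem uu_pos : 0 < uu s t := by
  unfold uu; apply Real.sqrt_pos.2; nlinarith

theorem uu_sq : uu s t ^ 2 = s * t := by
  unfold uu; apply Real.sq_sqrt; nlinarith

theorem sin_theta_pos : 0 < sin ϑ := Real.sin_pos_of_pos_of_lt_pi h0 hπ

theorem vseq_one_eq : vseq ϑ (beta s t ϑ) 1 = vone s t ϑ := by
  rw [vseq_one]
  unfold beta
  have := (sin_theta_pos hs ht h0 hπ).ne'
  field_simp
  ring

theorem cs_zero : cs s t ϑ 0 = 1 := by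
  unfold cs; rw [vseq_zero]; simp

theorem cs_eigen_zero :
    s * (t + 1) * cs s t ϑ 1 = (s - 1 + tau s t ϑ) * cs s t ϑ 0 := by
  rw [cs_zero hs ht h0 hπ]
  unfold cs
  rw [vseq_one_eq hs ht h0 hπ]
  unfold vone
  have hu := (uu_pos hs ht h0 hπ).ne'
  have hs0 : s ≠ 0 := by positivity
  have ht0 : t + 1 ≠ 0 := by positivity
  field_simp

theorem cs_eigen_reg (i : ℕ) :
    cs s t ϑ i + (s - 1) * cs s t ϑ (i + 1) + s * t * cs s t ϑ (i + 2) =
      (s - 1 + tau s t ϑ) * cs s t ϑ (i + 1) := by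
  unfold cs tau
  rw [vseq_rec, ← uu_sq hs ht h0 hπ]
  have hu := (uu_pos hs ht h0 hπ).ne'
  field_simp
  ring

theorem uu_mul_vone : uu s t * vone s t ϑ * (t + 1) = t * (s - 1 + tau s t ϑ) := by
  unfold vone
  have hs0 : s ≠ 0 := by positivity
  have ht0 : t + 1 ≠ 0 := by positivity
  have e : uu s t * (uu s t * (s - 1 + tau s t ϑ) / (s * (t + 1))) * (t + 1) =
      uu s t ^ 2 * (s - 1 + tau s t ϑ) / s := by
    field_simp
  rw [e, uu_sq hs ht h0 hπ]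
  field_simp

theorem beta_mul_sin : beta s t ϑ * sin ϑ = vone s t ϑ - cos ϑ := by
  unfold beta
  have := (sin_theta_pos hs ht h0 hπ).ne'
  field_simp

theorem cs_eigen_even_top (m' j : ℕ) (h : ((m' + 1 : ℕ) : ℝ) * ϑ = j * π) :
    (t + 1) * (cs s t ϑ m' + (s - 1) * cs s t ϑ (m' + 1)) =
      (s - 1 + tau s t ϑ) * cs s t ϑ (m' + 1) := by
  have hu := (uu_pos hs ht h0 hπ).ne'
  have hupow : uu s t ^ (m' + 1) ≠ 0 := pow_ne_zero _ hu
  have e1 : cs s t ϑ m' = uu s t * vseq ϑ (beta s t ϑ) m' / uu s t ^ (m' + 1) := by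
    unfold cs; rw [pow_succ]; field_simp
  rw [e1]
  unfold cs
  rw [vseq_top_even _ _ (m' + 1) j h, vseq_top_even' _ _ m' j h]
  have hW := uu_mul_vone hs ht h0 hπ
  have hb := beta_mul_sin hs ht h0 hπ
  have hτ : tau s t ϑ = 2 * uu s t * cos ϑ := rfl
  rw [hb]
  field_simp
  linear_combination (-1 : ℝ) * hW - (t + 1) * hτ

theorem uu_eq_of_eq (hst : s = t) : uu s t = s := by
  unfold uu
  rw [← hst]
  exact Real.sqrt_mul_self (by linarith)

theorem beta_half (hst : s = t) :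
    beta s t ϑ * sin (ϑ / 2) * (s + 1) = (s - 1) * cos (ϑ / 2) := by
  have hh0 : 0 < ϑ / 2 := by linarith
  have hhπ : ϑ / 2 < π / 2 := by linarith
  have hsin : 0 < sin (ϑ / 2) := Real.sin_pos_of_pos_of_lt_pi hh0 (by linarith)
  have hcos : 0 < cos (ϑ / 2) := Real.cos_pos_of_mem_Ioo ⟨by linarith, hhπ⟩
  have e1 : cos ϑ = 2 * cos (ϑ / 2) ^ 2 - 1 := by
    have := Real.cos_two_mul (ϑ / 2)
    rwa [show 2 * (ϑ / 2) = ϑ by ring] at this
  have e2 : sin ϑ = 2 * sin (ϑ / 2) * cos (ϑ / 2) := by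
    have := Real.sin_two_mul (ϑ / 2)
    rwa [show 2 * (ϑ / 2) = ϑ by ring] at this
  unfold beta vone tau
  rw [uu_eq_of_eq hs ht h0 hπ hst, ← hst, e2, e1]
  have hs0 : s ≠ 0 := by positivity
  have hs1 : s + 1 ≠ 0 := by positivity
  field_simp
  ring

theorem vseq_top_odd_eq (hst : s = t) (m j : ℕ)
    (h : ((2 * m + 1 : ℕ) : ℝ) * ϑ = 2 * (j * π)) :
    vseq ϑ (beta s t ϑ) (m + 1) = uu s t * vseq ϑ (beta s t ϑ) m := by
  rw [vseq_top_odd _ _ m j h, vseq_top_odd' _ _ m j h, uu_eq_of_eq hs ht h0 hπ hst]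
  have hb := beta_half hs ht h0 hπ hst
  linear_combination ((-1 : ℝ) ^ j) * hb

theorem cs_eigen_odd_top (hst : s = t) (m' j : ℕ)
    (h : ((2 * (m' + 1) + 1 : ℕ) : ℝ) * ϑ = 2 * (j * π)) :
    cs s t ϑ m' + (s - 1 + s * t) * cs s t ϑ (m' + 1) =
      (s - 1 + tau s t ϑ) * cs s t ϑ (m' + 1) := by
  have hreg := cs_eigen_reg hs ht h0 hπ m'
  have hu := (uu_pos hs ht h0 hπ).ne'
  have e : cs s t ϑ (m' + 2) = cs s t ϑ (m' + 1) := by
    unfold cs
    rw [show m' + 2 = (m' + 1) + 1 from rfl, vseq_top_odd_eq hs ht h0 hπ hst (m' + 1) j h,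
      pow_succ (uu s t) (m' + 1)]
    field_simp
  rw [e] at hreg
  linear_combination hreg

theorem E_formula : s * (t + 1) ^ 2 * (1 + vone s t ϑ ^ 2 - 2 * cos ϑ * vone s t ϑ) =
    (s * t + 1 - tau s t ϑ) * (s + t + tau s t ϑ) := by
  have hs0 : s ≠ 0 := by positivity
  have ht0 : t + 1 ≠ 0 := by positivity
  have hv2 : vone s t ϑ ^ 2 * (s * (t + 1) ^ 2) = t * (s - 1 + tau s t ϑ) ^ 2 := by
    unfold vone
    have e : (uu s t * (s - 1 + tau s t ϑ) / (s * (t + 1))) ^ 2 * (s * (t + 1) ^ 2) =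
        uu s t ^ 2 * (s - 1 + tau s t ϑ) ^ 2 / s := by
      field_simp
    rw [e, uu_sq hs ht h0 hπ]
    field_simp
  have hcv : 2 * cos ϑ * vone s t ϑ * (s * (t + 1)) = tau s t ϑ * (s - 1 + tau s t ϑ) := by
    unfold vone tau
    field_simp
  linear_combination hv2 - (t + 1) * hcv

theorem tau_sq : tau s t ϑ ^ 2 = 4 * (s * t) * cos ϑ ^ 2 := by
  unfold tau
  rw [← uu_sq hs ht h0 hπ]; ring

theorem cs_sq (i : ℕ) : cs s t ϑ i ^ 2 = vseq ϑ (beta s t ϑ) i ^ 2 / (s * t) ^ i := by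
  unfold cs
  rw [div_pow, ← uu_sq hs ht h0 hπ, ← pow_mul, ← pow_mul, mul_comm]

end

end Cfsg.Agent.Lib.H2.FH
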