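import Mathlib
import Cfsg.Agent.Lib.H2.FH6d

set_option autoImplicit false
set_option linter.unusedSectionVars false
set_option linter.unnecessarySeqFocus false
set_option linter.unusedVariables false

/-!
# Feit–Higman, part 6e: eigenvectors of the tridiagonal matrix and their norms
-/

namespace Cfsg.Agent.Lib.H2.FH

open Real

/-- the angle `2 π j / L` -/
noncomputable def ang (L j : ℕ) : ℝ := 2 * π * j / L

theorem ang_pos {L j : ℕ} (hj : 0 < j) (hjL : 2 * j < L) : 0 < ang L j := by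
  unfold ang
  have hL : (0 : ℝ) < L := by exact_mod_cast (by omega : 0 < L)
  have hj' : (0 : ℝ) < j := by exact_mod_cast hj
  positivity

theorem ang_lt_pi {L j : ℕ} (hj : 0 < j) (hjL : 2 * j < L) : ang L j < π := by
  unfold ang
  have hL : (0 : ℝ) < L := by exact_mod_cast (by omega : 0 < L)
  rw [div_lt_iff₀ hL]
  have h : (2 * (j : ℝ)) < L := by exact_mod_cast hjL
  nlinarith [Real.pi_pos]

theorem mul_ang {L j : ℕ} (hL : 0 < L) : (L : ℝ) * ang L j = 2 * (j * π) := by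
  unfold ang
  have hL' : (L : ℝ) ≠ 0 := by exact_mod_cast hL.ne'
  field_simp

theorem cs_eigen {s t : ℝ} (hs : 1 < s) (ht : 1 < t) {L j : ℕ} (hj : 0 < j) (hjL : 2 * j < L)
    (hodd : L % 2 = 1 → s = t) (i : ℕ) (hi : 2 * i ≤ L) :
    Tm t s L (cs s t (ang L j)) i = (s - 1 + tau s t (ang L j)) * cs s t (ang L j) i := by
  have h0 := ang_pos hj hjL
  have hπ := ang_lt_pi hj hjL
  have hLϑ := mul_ang (L := L) (j := j) (by omega)
  unfold Tm
  split_ifs with h1 h2 h3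
  · subst h1
    exact cs_eigen_zero hs ht h0 hπ
  · obtain ⟨i', rfl⟩ : ∃ i', i = i' + 1 := ⟨i - 1, by omega⟩
    rw [Nat.add_sub_cancel]
    exact cs_eigen_reg hs ht h0 hπ i'
  · obtain ⟨i', rfl⟩ : ∃ i', i = i' + 1 := ⟨i - 1, by omega⟩
    rw [Nat.add_sub_cancel]
    apply cs_eigen_odd_top hs ht h0 hπ (hodd (by omega)) i' j
    rw [h3]; exact hLϑ
  · obtain ⟨i', rfl⟩ : ∃ i', i = i' + 1 := ⟨i - 1, by omega⟩
    rw [Nat.add_sub_cancel]
    apply cs_eigen_even_top hs ht h0 hπ i' j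
    have hLc : (L : ℝ) = 2 * ((i' : ℝ) + 1) := by
      have hL2 : L = 2 * (i' + 1) := by omega
      rw [hL2]; push_cast; ring
    rw [hLc] at hLϑ
    push_cast
    linarith

theorem kk_zero_mul (s t L : ℕ) (c : ℕ → ℝ) (hc : c 0 = 1) :
    (kk t s L 0 : ℝ) * c 0 ^ 2 = 1 + (t : ℝ) := by
  unfold kk; rw [if_pos rfl, hc]; push_cast; ring

theorem kk_reg_mul {s t : ℕ} (hs : 2 ≤ s) (ht : 2 ≤ t) {ϑ : ℝ} (h0 : 0 < ϑ) (hπ : ϑ < π)
    {L i : ℕ} (h : 2 * (i + 1) < L) :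
    (kk t s L (i + 1) : ℝ) * cs s t ϑ (i + 1) ^ 2 =
      ((t : ℝ) + 1) ^ 2 / t * vseq ϑ (beta s t ϑ) (i + 1) ^ 2 := by
  have hs' : (1 : ℝ) < s := by exact_mod_cast (by omega : 1 < s)
  have ht' : (1 : ℝ) < t := by exact_mod_cast (by omega : 1 < t)
  unfold kk
  rw [if_neg (by omega), if_pos h, Nat.add_sub_cancel, cs_sq hs' ht' h0 hπ]
  push_cast
  have hs0 : (s : ℝ) ≠ 0 := by positivity
  have ht0 : (t : ℝ) ≠ 0 := by positivity
  rw [pow_succ ((s : ℝ) * t) i]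
  field_simp

theorem kk_top_mul {s t : ℕ} (hs : 2 ≤ s) (ht : 2 ≤ t) {ϑ : ℝ} (h0 : 0 < ϑ) (hπ : ϑ < π)
    {L i : ℕ} (h : 2 * (i + 1) = L) :
    (kk t s L (i + 1) : ℝ) * cs s t ϑ (i + 1) ^ 2 =
      ((t : ℝ) + 1) / t * vseq ϑ (beta s t ϑ) (i + 1) ^ 2 := by
  have hs' : (1 : ℝ) < s := by exact_mod_cast (by omega : 1 < s)
  have ht' : (1 : ℝ) < t := by exact_mod_cast (by omega : 1 < t)
  unfold kk
  rw [if_neg (by omega), if_neg (by omega), Nat.add_sub_cancel, cs_sq hs' ht' h0 hπ]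
  push_cast
  have hs0 : (s : ℝ) ≠ 0 := by positivity
  have ht0 : (t : ℝ) ≠ 0 := by positivity
  rw [pow_succ ((s : ℝ) * t) i]
  field_simp

theorem neg_one_pow_sq (j : ℕ) : ((-1 : ℝ) ^ j) ^ 2 = 1 := by
  rw [← pow_mul, mul_comm, pow_mul]; norm_num

theorem spherical_sum {s t : ℕ} (hs : 2 ≤ s) (ht : 2 ≤ t) {L j : ℕ} (hj : 0 < j)
    (hjL : 2 * j < L) (hodd : L % 2 = 1 → s = t) :
    (∑ i ∈ Finset.range (L / 2 + 1), (kk t s L i : ℝ) * cs s t (ang L j) i ^ 2) *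
        (4 * ((s : ℝ) * t) - tau s t (ang L j) ^ 2) =
      (L : ℝ) * (((s : ℝ) * t + 1 - tau s t (ang L j)) * ((s : ℝ) + t + tau s t (ang L j))) := by
  have hs' : (1 : ℝ) < s := by exact_mod_cast (by omega : 1 < s)
  have ht' : (1 : ℝ) < t := by exact_mod_cast (by omega : 1 < t)
  have h0 := ang_pos hj hjL
  have hπ := ang_lt_pi hj hjL
  have hLϑ := mul_ang (L := L) (j := j) (by omega)
  set ϑ := ang L j with hϑ
  set v := vseq ϑ (beta s t ϑ) with hv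
  have hv0 : v 0 = 1 := vseq_zero _ _
  have hv1 : v 1 = vone s t ϑ := vseq_one_eq hs' ht' h0 hπ
  have hrec : ∀ k, v (k + 2) = 2 * cos ϑ * v (k + 1) - v k := vseq_rec _ _
  have hsum := rec_sum_sq (cos ϑ) v hrec
  have hE := E_formula hs' ht' h0 hπ
  have hτ2 := tau_sq hs' ht' h0 hπ
  have hc0 := cs_zero hs' ht' h0 hπ
  have hk0 := kk_zero_mul s t L (cs s t ϑ) hc0
  rcases Nat.even_or_odd' L with ⟨m, hm | hm⟩
  · -- `L = 2 m`
    obtain ⟨m', rfl⟩ : ∃ m', m = m' + 1 := ⟨m - 1, by omega⟩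
    have e1 : L / 2 + 1 = m' + 1 + 1 := by omega
    rw [e1, Finset.sum_range_succ, Finset.sum_range_succ', hk0]
    have hregs : ∑ i ∈ Finset.range m', (kk t s L (i + 1) : ℝ) * cs s t ϑ (i + 1) ^ 2 =
        ((t : ℝ) + 1) ^ 2 / t * (∑ k ∈ Finset.range (m' + 1), v k ^ 2 - 1) := by
      rw [Finset.sum_range_succ' (fun k => v k ^ 2), hv0]
      rw [show ∑ k ∈ Finset.range m', v (k + 1) ^ 2 + 1 ^ 2 - 1 =
        ∑ k ∈ Finset.range m', v (k + 1) ^ 2 by ring, Finset.mul_sum]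
      apply Finset.sum_congr rfl
      intro i hi
      rw [Finset.mem_range] at hi
      exact kk_reg_mul hs ht h0 hπ (by omega)
    have hLc : (L : ℝ) = 2 * ((m' : ℝ) + 1) := by
      rw [hm]; push_cast; ring
    have hLϑ' : ((m' + 1 : ℕ) : ℝ) * ϑ = j * π := by
      rw [hLc] at hLϑ; push_cast; linarith
    have htop := vseq_top_even ϑ (beta s t ϑ) (m' + 1) j hLϑ'
    have htop' := vseq_top_even' ϑ (beta s t ϑ) m' j hLϑ'
    rw [beta_mul_sin hs' ht' h0 hπ] at htop'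
    rw [hregs, kk_top_mul hs ht h0 hπ (by omega), htop, neg_one_pow_sq, mul_one, hLc]
    have hA : 2 * (1 - cos ϑ ^ 2) * ∑ k ∈ Finset.range (m' + 1), v k ^ 2 =
        ((m' : ℝ) + 1) * (1 + vone s t ϑ ^ 2 - 2 * cos ϑ * vone s t ϑ) := by
      rw [hsum m', hv0, hv1]
      show _ = _
      have e2 : v (m' + 1) = (-1) ^ j := htop
      have e3 : v m' = (-1) ^ j * (cos ϑ - (vone s t ϑ - cos ϑ)) := htop'
      rw [e2, e3]
      have hε := neg_one_pow_sq j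
      linear_combination (-1 + cos ϑ * (cos ϑ - (vone s t ϑ - cos ϑ))) * hε
    have := even_algebra s t (cos ϑ) (tau s t ϑ) _ _ (m' : ℝ) ht' hτ2 hE hA
    linarith
  · -- `L = 2 m + 1`
    obtain rfl : s = t := hodd (by omega)
    have e1 : L / 2 + 1 = m + 1 := by omega
    rw [e1, Finset.sum_range_succ', hk0]
    have hregs : ∑ i ∈ Finset.range m, (kk s s L (i + 1) : ℝ) * cs s s ϑ (i + 1) ^ 2 =
        ((s : ℝ) + 1) ^ 2 / s * (∑ k ∈ Finset.range (m + 1), v k ^ 2 - 1) := by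
      rw [Finset.sum_range_succ' (fun k => v k ^ 2), hv0]
      rw [show ∑ k ∈ Finset.range m, v (k + 1) ^ 2 + 1 ^ 2 - 1 =
        ∑ k ∈ Finset.range m, v (k + 1) ^ 2 by ring, Finset.mul_sum]
      apply Finset.sum_congr rfl
      intro i hi
      rw [Finset.mem_range] at hi
      exact kk_reg_mul hs hs h0 hπ (by omega)
    have hLc : (L : ℝ) = 2 * (m : ℝ) + 1 := by
      rw [hm]; push_cast; ring
    have hLϑ' : ((2 * m + 1 : ℕ) : ℝ) * ϑ = 2 * (j * π) := by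
      rw [← hm]; exact hLϑ
    have hu := uu_eq_of_eq hs' hs' h0 hπ rfl
    have htop : v (m + 1) = (s : ℝ) * v m := by
      have := vseq_top_odd_eq hs' hs' h0 hπ rfl m j hLϑ'
      rw [hu] at this
      exact this
    have hτ : tau s s ϑ = 2 * s * cos ϑ := by unfold tau; rw [hu]
    have hinv := rec_inv (cos ϑ) v hrec m
    rw [hregs, hLc, hτ]
    have hcc : 1 - cos ϑ ^ 2 ≠ 0 := by
      have h2 := Real.sin_sq_add_cos_sq ϑ
      have h3 := sin_theta_pos hs' hs' h0 hπ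
      have : sin ϑ ^ 2 ≠ 0 := by positivity
      intro h; apply this; linarith
    have hD : 1 + (s : ℝ) ^ 2 - 2 * s * cos ϑ ≠ 0 := by
      have h2 := Real.sin_sq_add_cos_sq ϑ
      have h3 := sin_theta_pos hs' hs' h0 hπ
      have : 0 < 1 + (s : ℝ) ^ 2 - 2 * s * cos ϑ := by
        nlinarith [sq_nonneg ((s : ℝ) - cos ϑ), sq_pos_of_pos h3]
      exact this.ne'
    have hvone : vone s s ϑ * ((s : ℝ) + 1) = s - 1 + 2 * s * cos ϑ := by
      have h5 := uu_mul_vone hs' hs' h0 hπ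
      rw [hu, hτ] at h5
      have hs0 : (s : ℝ) ≠ 0 := by positivity
      apply mul_left_cancel₀ hs0
      linear_combination h5
    have hX : v m ^ 2 * (1 + (s : ℝ) ^ 2 - 2 * s * cos ϑ) =
        1 + vone s s ϑ ^ 2 - 2 * cos ϑ * vone s s ϑ := by
      rw [hv0, hv1, htop] at hinv
      linear_combination hinv
    have hA : 2 * (1 - cos ϑ ^ 2) * ∑ k ∈ Finset.range (m + 1), v k ^ 2 =
        ((m : ℝ) + 1) * (1 + vone s s ϑ ^ 2 - 2 * cos ϑ * vone s s ϑ) + (1 - 2 * cos ϑ ^ 2)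
          - (s : ℝ) ^ 2 * v m ^ 2 + cos ϑ * (vone s s ϑ + s * v m ^ 2) := by
      rw [hsum m, hv0, hv1, htop]
      ring
    have := odd_algebra s (cos ϑ) (vone s s ϑ) (v m ^ 2) _ (m : ℝ) hs' hcc hD hvone hX hA
    linarith

end Cfsg.Agent.Lib.H2.FH
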