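import Mathlib
import Cfsg.Agent.Lib.H2.FH6b
import Cfsg.Agent.Lib.H2.FH6e

set_option autoImplicit false
set_option linter.unusedSectionVars false
set_option linter.unnecessarySeqFocus false
set_option linter.unusedVariables false

/-!
# Feit–Higman, part 6f: the rationality condition
-/

namespace Cfsg.Agent.Lib.H2.FH

open Cfsg DoubleCoset Cfsg.Agent.Lib.H2.BN
open scoped Classical

variable {G : Type*} [Group G] [Fintype G] {P : BNPair G} {a b : G}

theorem Rk2.rationality (R : Rk2 P a b) {j : ℕ} (hj : 0 < j) (hjL : 2 * j < Lw P a b) :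
    ∃ r : ℚ, 0 < r ∧
      4 * ((qpar P b : ℝ) * qpar P a) - tau (qpar P b) (qpar P a) (ang (Lw P a b) j) ^ 2 =
      r * (((qpar P b : ℝ) * qpar P a + 1 - tau (qpar P b) (qpar P a) (ang (Lw P a b) j)) *
        ((qpar P b : ℝ) + qpar P a + tau (qpar P b) (qpar P a) (ang (Lw P a b) j))) := by
  have hs := two_le_qpar R.hb
  have ht := two_le_qpar R.ha
  have hs' : (1 : ℝ) < qpar P b := by exact_mod_cast (by omega : 1 < qpar P b)
  have ht' : (1 : ℝ) < qpar P a := by exact_mod_cast (by omega : 1 < qpar P a)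
  have hodd : Lw P a b % 2 = 1 → qpar P b = qpar P a := fun h => (R.qpar_eq_of_odd h).symm
  have hodd' : Lw P a b % 2 = 1 → (qpar P b : ℝ) = qpar P a := fun h => by rw [hodd h]
  obtain ⟨d, hd⟩ := R.multiplicity (cs (qpar P b) (qpar P a) (ang (Lw P a b) j))
    ((qpar P b : ℝ) - 1 + tau (qpar P b) (qpar P a) (ang (Lw P a b) j))
    (cs_zero hs' ht' (ang_pos hj hjL) (ang_lt_pi hj hjL))
    (fun i hi => cs_eigen hs' ht' hj hjL hodd' i hi)
  have hsum := spherical_sum hs ht hj hjL hodd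
  set τ := tau (qpar P b) (qpar P a) (ang (Lw P a b) j) with hτ
  set S := ∑ i ∈ Finset.range (Lw P a b / 2 + 1),
    (kk (qpar P a) (qpar P b) (Lw P a b) i : ℝ) *
      cs (qpar P b) (qpar P a) (ang (Lw P a b) j) i ^ 2 with hS
  have hG : (0 : ℝ) < Fintype.card G := by exact_mod_cast Fintype.card_pos
  have hB : (0 : ℝ) < Nat.card P.B := by exact_mod_cast Nat.card_pos
  have hLpos : (0 : ℝ) < Lw P a b := by exact_mod_cast (by omega : 0 < Lw P a b)
  refine ⟨(d : ℚ) * (Nat.card P.B : ℚ) * (Lw P a b : ℚ) / (Fintype.card G : ℚ), ?_, ?_⟩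
  · have hdpos : 0 < d := by
      rcases Nat.eq_zero_or_pos d with h | h
      · rw [h] at hd; simp at hd; linarith
      · exact h
    have h1 : (0 : ℚ) < d := by exact_mod_cast hdpos
    have h2 : (0 : ℚ) < Nat.card P.B := by exact_mod_cast Nat.card_pos
    have h3 : (0 : ℚ) < Lw P a b := by exact_mod_cast (by omega : 0 < Lw P a b)
    have h4 : (0 : ℚ) < Fintype.card G := by exact_mod_cast Fintype.card_pos
    positivity
  · push_cast
    rw [div_mul_eq_mul_div, eq_div_iff hG.ne']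
    calc (4 * ((qpar P b : ℝ) * qpar P a) - τ ^ 2) * Fintype.card G
        = (4 * ((qpar P b : ℝ) * qpar P a) - τ ^ 2) * ((d : ℝ) * ((Nat.card P.B : ℝ) * S)) := by
          rw [hd]
      _ = (d : ℝ) * Nat.card P.B * (S * (4 * ((qpar P b : ℝ) * qpar P a) - τ ^ 2)) := by ring
      _ = _ := by rw [hsum]; ring

end Cfsg.Agent.Lib.H2.FH
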