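import Mathlib

set_option autoImplicit false
set_option linter.unusedSectionVars false
set_option linter.unusedVariables false

/-!
# Feit–Higman, part 7a: `cos (2 π / m)` has degree `φ(m) / 2` over `ℚ`
-/

namespace Cfsg.Agent.Lib.H2.FH

open Polynomial

theorem totient_le_four_aux : ∀ m : ℕ, m ≤ 60 → Nat.totient m ≤ 4 → m ≤ 12 := by
  decide

theorem le_twelve_of_totient_le_four : ∀ m : ℕ, 0 < m → Nat.totient m ≤ 4 → m ≤ 12 := by
  intro m
  induction m using Nat.strong_induction_on with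
  | _ m ih =>
    intro hm h
    rcases Nat.lt_or_ge m 2 with h1 | h1
    · omega
    · have hp := Nat.minFac_prime (by omega : m ≠ 1)
      obtain ⟨n, hn⟩ := Nat.minFac_dvd m
      obtain ⟨q, hq⟩ : ∃ q, q = m.minFac := ⟨_, rfl⟩
      rw [← hq] at hp hn
      have hn0 : 0 < n := by
        rcases Nat.eq_zero_or_pos n with h0 | h0
        · rw [h0, Nat.mul_zero] at hn; omega
        · exact h0
      have hnm : n < m := by
        have := hp.two_le
        nlinarith
      have hndvd : n ∣ m := ⟨q, by rw [hn]; ring⟩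
      have hφn : Nat.totient n ≤ Nat.totient m :=
        Nat.le_of_dvd (Nat.totient_pos.2 hm) (Nat.totient_dvd_of_dvd hndvd)
      have hn12 := ih n hnm hn0 (by omega)
      have hφn0 : 0 < Nat.totient n := Nat.totient_pos.2 hn0
      have hmul : (q - 1) * Nat.totient n ≤ Nat.totient m := by
        rw [hn]
        by_cases hd : q ∣ n
        · rw [Nat.totient_mul_of_prime_of_dvd hp hd]
          exact Nat.mul_le_mul_right _ (Nat.sub_le _ _)
        · rw [Nat.totient_mul_of_prime_of_not_dvd hp hd]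
      have hp5 : q ≤ 5 := by
        by_contra hcon
        have : 5 * 1 ≤ (q - 1) * Nat.totient n :=
          Nat.mul_le_mul (by omega) hφn0
        omega
      have hm60 : m ≤ 60 := by
        rw [hn]
        calc q * n ≤ 5 * 12 := Nat.mul_le_mul hp5 hn12
          _ = 60 := rfl
      exact totient_le_four_aux m hm60 h

theorem totient_le_four_of_cos_quadratic (m : ℕ) (hm : 0 < m) (a₂ a₁ a₀ : ℚ)
    (hne : a₂ ≠ 0 ∨ a₁ ≠ 0 ∨ a₀ ≠ 0)
    (h : (a₂ : ℝ) * Real.cos (2 * Real.pi / m) ^ 2 + a₁ * Real.cos (2 * Real.pi / m) + a₀ = 0) :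
    Nat.totient m ≤ 4 := by
  set ζ : ℂ := Complex.exp (2 * Real.pi * Complex.I / m) with hζdef
  have hζ : IsPrimitiveRoot ζ m := Complex.isPrimitiveRoot_exp m hm.ne'
  have hζ0 : ζ ≠ 0 := Complex.exp_ne_zero _
  set y : ℝ := Real.cos (2 * Real.pi / m) with hy
  have hsum : ζ + ζ⁻¹ = 2 * (y : ℂ) := by
    rw [hy, Complex.ofReal_cos, Complex.cos, hζdef, ← Complex.exp_neg]
    have e1 : (2 * Real.pi * Complex.I / m : ℂ) = ((2 * Real.pi / m : ℝ) : ℂ) * Complex.I := by
      push_cast; ring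
    have e2 : -(2 * Real.pi * Complex.I / m : ℂ) = -((2 * Real.pi / m : ℝ) : ℂ) * Complex.I := by
      push_cast; ring
    rw [e2, e1]
    ring
  have h' : (a₂ : ℂ) * (y : ℂ) ^ 2 + a₁ * y + a₀ = 0 := by exact_mod_cast h
  set w := ζ⁻¹ with hw
  have hζw : ζ * w = 1 := mul_inv_cancel₀ hζ0
  have hy' : (y : ℂ) = (ζ + w) / 2 := by rw [hsum]; ring
  rw [hy'] at h'
  let p : ℚ[X] := monomial 4 a₂ + monomial 3 (2 * a₁) + monomial 2 (2 * a₂ + 4 * a₀) +
    monomial 1 (2 * a₁) + monomial 0 a₂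
  have hpζ : aeval ζ p = 0 := by
    simp only [p, map_add, aeval_monomial, eq_ratCast]
    push_cast
    linear_combination (4 * ζ ^ 2) * h' - (a₂ * (2 * ζ ^ 2 + 1 + ζ * w) + 2 * a₁ * ζ) * hζw
  have hp0 : p ≠ 0 := by
    intro hp
    have c4 : p.coeff 4 = a₂ := by
      simp [p, coeff_monomial]
    have c3 : p.coeff 3 = 2 * a₁ := by
      simp [p, coeff_monomial]
    have c2 : p.coeff 2 = 2 * a₂ + 4 * a₀ := by
      simp [p, coeff_monomial]
    rw [hp] at c4 c3 c2
    simp only [coeff_zero] at c4 c3 c2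
    rcases hne with h1 | h1 | h1
    · exact h1 c4.symm
    · apply h1; linarith
    · apply h1; rw [← c4] at c2; linarith
  have hdeg : p.natDegree ≤ 4 := by
    simp only [p]
    compute_degree
  have hmin : cyclotomic m ℚ = minpoly ℚ ζ := cyclotomic_eq_minpoly_rat hζ hm
  have h1 := minpoly.degree_le_of_ne_zero ℚ ζ hp0 hpζ
  have h2 := natDegree_le_natDegree h1
  rw [← hmin, natDegree_cyclotomic] at h2
  omega

end Cfsg.Agent.Lib.H2.FH
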