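import Mathlib
import Cfsg.Agent.Lib.H2.FH6d

set_option autoImplicit false
set_option linter.unusedSectionVars false
set_option linter.unusedVariables false

/-!
# Feit–Higman, part 7b: consequences of the rationality condition at special angles
-/

namespace Cfsg.Agent.Lib.H2.FH

open Real

theorem rat_lin_indep {d : ℝ} (hd : Irrational d) (a b : ℚ) (h : (a : ℝ) + b * d = 0) :
    a = 0 ∧ b = 0 := by
  by_cases hb : b = 0
  · subst hb
    simp at h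
    exact ⟨h, rfl⟩
  · exfalso
    apply hd
    refine ⟨-a / b, ?_⟩
    have hb' : (b : ℝ) ≠ 0 := by exact_mod_cast hb
    push_cast
    field_simp
    linarith

theorem quad_form {d : ℕ} (hd : Irrational (√(d : ℝ))) {x : ℝ} {A B r M c : ℚ}
    (hrM : r * M ≠ 0) (hx2 : x ^ 2 = A + B * √(d : ℝ))
    (hlin : (r : ℝ) * M * x = (r - 1) * x ^ 2 + c) :
    x = (((r - 1) * A + c) / (r * M) : ℚ) + (((r - 1) * B / (r * M) : ℚ) : ℝ) * √(d : ℝ) ∧
    (((r - 1) * A + c) / (r * M)) ^ 2 + d * ((r - 1) * B / (r * M)) ^ 2 = A ∧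
    2 * (((r - 1) * A + c) / (r * M)) * ((r - 1) * B / (r * M)) = B := by
  have hrM' : (r : ℝ) * M ≠ 0 := by exact_mod_cast hrM
  have hsq : √(d : ℝ) ^ 2 = d := Real.sq_sqrt (Nat.cast_nonneg d)
  have hx : x = (((r - 1) * A + c) / (r * M) : ℚ) +
      (((r - 1) * B / (r * M) : ℚ) : ℝ) * √(d : ℝ) := by
    rw [hx2] at hlin
    have hx0 : x = (((r : ℝ) - 1) * (A + B * √(d : ℝ)) + c) / (r * M) := by
      rw [eq_div_iff hrM']; linarith
    rw [hx0]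
    push_cast
    field_simp
    ring
  refine ⟨hx, ?_⟩
  set p : ℚ := ((r - 1) * A + c) / (r * M) with hp
  set p' : ℚ := (r - 1) * B / (r * M) with hp'
  have h2 : ((p ^ 2 + d * p' ^ 2 - A : ℚ) : ℝ) + ((2 * p * p' - B : ℚ) : ℝ) * √(d : ℝ) = 0 := by
    have : x ^ 2 = (p : ℝ) ^ 2 + d * (p' : ℝ) ^ 2 + 2 * p * p' * √(d : ℝ) := by
      rw [hx]
      linear_combination ((p' : ℝ) ^ 2) * hsq
    push_cast
    linarith
  obtain ⟨e1, e2⟩ := rat_lin_indep hd _ _ h2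
  constructor
  · linarith
  · linarith

theorem no_rat_sq {n : ℕ} (hn : Irrational (√(n : ℝ))) (q : ℚ) : q ^ 2 ≠ n := by
  intro h
  apply hn
  refine ⟨|q|, ?_⟩
  have h' : ((q : ℝ)) ^ 2 = n := by exact_mod_cast h
  rw [← h', Real.sqrt_sq_eq_abs]
  push_cast
  rfl

/-- the rationality condition at the angle `ϑ` -/
def RatCond (s t : ℕ) (ϑ : ℝ) : Prop :=
  ∃ r : ℚ, 0 < r ∧ 4 * ((s : ℝ) * t) - tau s t ϑ ^ 2 =
    r * (((s : ℝ) * t + 1 - tau s t ϑ) * ((s : ℝ) + t + tau s t ϑ))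

/-- `(s - 1) (t - 1)` -/
def Mq (s t : ℕ) : ℚ := ((s : ℚ) - 1) * ((t : ℚ) - 1)

/-- `(s t + 1) (s + t)` -/
def Kq (s t : ℕ) : ℚ := ((s : ℚ) * t + 1) * ((s : ℚ) + t)

/-- `s t` -/
def Qq (s t : ℕ) : ℚ := (s : ℚ) * t

section
variable {s t : ℕ} (hs : 2 ≤ s) (ht : 2 ≤ t)
include hs ht

theorem Mq_pos : 0 < Mq s t := by
  unfold Mq
  have h1 : (1 : ℚ) < s := by exact_mod_cast (by omega : 1 < s)
  have h2 : (1 : ℚ) < t := by exact_mod_cast (by omega : 1 < t)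
  apply mul_pos <;> linarith

theorem Qq_pos : 0 < Qq s t := by
  unfold Qq
  have h1 : (0 : ℚ) < s := by exact_mod_cast (by omega : 0 < s)
  have h2 : (0 : ℚ) < t := by exact_mod_cast (by omega : 0 < t)
  positivity

theorem Kq_ge : 4 * Qq s t ≤ Kq s t := by
  unfold Kq Qq
  have h1 : (2 : ℚ) ≤ s := by exact_mod_cast hs
  have h2 : (2 : ℚ) ≤ t := by exact_mod_cast ht
  nlinarith [mul_nonneg (by linarith : (0 : ℚ) ≤ s) (by linarith : (0 : ℚ) ≤ t)]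

theorem lin_of_eq {ϑ : ℝ} {r : ℚ} (hr : 4 * ((s : ℝ) * t) - tau s t ϑ ^ 2 =
    r * (((s : ℝ) * t + 1 - tau s t ϑ) * ((s : ℝ) + t + tau s t ϑ))) :
    (r : ℝ) * (Mq s t : ℝ) * tau s t ϑ =
      ((r : ℝ) - 1) * tau s t ϑ ^ 2 + ((4 * Qq s t - r * Kq s t : ℚ) : ℝ) := by
  unfold Mq Kq Qq
  push_cast
  linear_combination (-1 : ℝ) * hr

theorem tau_sq' (ϑ : ℝ) : tau s t ϑ ^ 2 = 4 * (Qq s t : ℝ) * cos ϑ ^ 2 := by
  unfold tau Qq
  have h1 : (0 : ℝ) ≤ (s : ℝ) * t := by positivity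
  have : uu s t ^ 2 = (s : ℝ) * t := by unfold uu; exact Real.sq_sqrt h1
  push_cast
  rw [← this]; ring

theorem uu_pos' : 0 < uu s t := by
  unfold uu
  apply Real.sqrt_pos.2
  have h1 : (0 : ℝ) < s := by exact_mod_cast (by omega : 0 < s)
  have h2 : (0 : ℝ) < t := by exact_mod_cast (by omega : 0 < t)
  positivity

/-- if `τ²` is rational then so is `τ` -/
theorem rat_of_sq_rat {ϑ : ℝ} (H : RatCond s t ϑ) (A : ℚ) (hA : tau s t ϑ ^ 2 = A) :
    ∃ p : ℚ, tau s t ϑ = p := by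
  obtain ⟨r, hr0, hr⟩ := H
  have hlin := lin_of_eq hs ht hr
  have hM := Mq_pos hs ht
  have hrM : (r : ℝ) * (Mq s t : ℝ) ≠ 0 := by
    have : (0 : ℝ) < (r : ℝ) * (Mq s t : ℝ) := by
      have h1 : (0 : ℝ) < r := by exact_mod_cast hr0
      have h2 : (0 : ℝ) < Mq s t := by exact_mod_cast hM
      positivity
    exact this.ne'
  refine ⟨((r - 1) * A + (4 * Qq s t - r * Kq s t)) / (r * Mq s t), ?_⟩
  rw [hA] at hlin
  push_cast
  rw [eq_div_iff hrM]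
  push_cast at hlin
  linarith

theorem ex12 {ϑ₁ ϑ₂ : ℝ} (h1 : cos ϑ₁ = √3 / 2) (h2 : cos ϑ₂ = 1 / 2)
    (H1 : RatCond s t ϑ₁) (H2 : RatCond s t ϑ₂) : False := by
  have hu := uu_pos' hs ht
  have hsq3 : √(3 : ℝ) ^ 2 = 3 := Real.sq_sqrt (by norm_num)
  obtain ⟨p₁, hp₁⟩ := rat_of_sq_rat hs ht H1 (3 * Qq s t) (by
    rw [tau_sq' hs ht, h1]; push_cast; linear_combination (Qq s t : ℝ) * hsq3)
  obtain ⟨p₂, hp₂⟩ := rat_of_sq_rat hs ht H2 (Qq s t) (by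
    rw [tau_sq' hs ht, h2]; ring)
  have e1 : tau s t ϑ₁ = uu s t * √3 := by unfold tau; rw [h1]; ring
  have e2 : tau s t ϑ₂ = uu s t := by unfold tau; rw [h2]; ring
  rw [e1] at hp₁
  rw [e2] at hp₂
  have hp₂0 : (p₂ : ℝ) ≠ 0 := by rw [← hp₂]; exact hu.ne'
  have h3 : Irrational (√((3 : ℕ) : ℝ)) := Nat.prime_three.irrational_sqrt
  apply h3
  refine ⟨p₁ / p₂, ?_⟩
  push_cast
  rw [div_eq_iff hp₂0, ← hp₁, ← hp₂]
  ring

theorem ex16 {ϑ : ℝ} (h : cos ϑ ^ 2 = (2 + √2) / 4) (H : RatCond s t ϑ) : False := by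
  obtain ⟨r, hr0, hr⟩ := H
  have hlin := lin_of_eq hs ht hr
  have hM := Mq_pos hs ht
  have hQ := Qq_pos hs ht
  have hrM : r * Mq s t ≠ 0 := (mul_pos hr0 hM).ne'
  have hd : Irrational (√((2 : ℕ) : ℝ)) := Nat.prime_two.irrational_sqrt
  have hx2 : tau s t ϑ ^ 2 = ((2 * Qq s t : ℚ) : ℝ) + ((Qq s t : ℚ) : ℝ) * √((2 : ℕ) : ℝ) := by
    rw [tau_sq' hs ht, h]; push_cast; ring
  obtain ⟨-, e1, e2⟩ := quad_form hd hrM hx2 hlin
  set p : ℚ := ((r - 1) * (2 * Qq s t) + (4 * Qq s t - r * Kq s t)) / (r * Mq s t) with hp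
  set p' : ℚ := (r - 1) * Qq s t / (r * Mq s t) with hp'
  have hp'0 : p' ≠ 0 := by
    intro h0
    rw [h0] at e2
    simp at e2
    exact hQ.ne' e2.symm
  have h3 : ((p - 2 * p') / p') ^ 2 = ((2 : ℕ) : ℚ) := by
    rw [div_pow, div_eq_iff (pow_ne_zero 2 hp'0)]
    push_cast at e1 ⊢
    linear_combination e1 - 2 * e2
  exact no_rat_sq hd _ h3

theorem ex10 {ϑ : ℝ} (h : cos ϑ = (1 + √5) / 4) (H : RatCond s t ϑ) : False := by
  obtain ⟨r, hr0, hr⟩ := H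
  have hlin := lin_of_eq hs ht hr
  have hM := Mq_pos hs ht
  have hQ := Qq_pos hs ht
  have hK := Kq_ge hs ht
  have hu := uu_pos' hs ht
  have hrM : r * Mq s t ≠ 0 := (mul_pos hr0 hM).ne'
  have hrMpos : 0 < r * Mq s t := mul_pos hr0 hM
  have hd : Irrational (√((5 : ℕ) : ℝ)) := Nat.prime_five.irrational_sqrt
  have hsq5 : √((5 : ℕ) : ℝ) ^ 2 = 5 := by
    rw [Real.sq_sqrt (by positivity)]; norm_num
  have h55 : √((5 : ℕ) : ℝ) = √5 := by norm_num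
  have hx2 : tau s t ϑ ^ 2 =
      ((3 / 2 * Qq s t : ℚ) : ℝ) + ((Qq s t / 2 : ℚ) : ℝ) * √((5 : ℕ) : ℝ) := by
    rw [tau_sq' hs ht, h, ← h55]; push_cast
    linear_combination ((Qq s t : ℝ) / 4) * hsq5
  obtain ⟨ex, e1, e2⟩ := quad_form hd hrM hx2 hlin
  set p : ℚ := ((r - 1) * (3 / 2 * Qq s t) + (4 * Qq s t - r * Kq s t)) / (r * Mq s t) with hp
  set p' : ℚ := (r - 1) * (Qq s t / 2) / (r * Mq s t) with hp'
  have hxpos : 0 < tau s t ϑ := by
    unfold tau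
    rw [h]
    have : (0 : ℝ) < √5 := Real.sqrt_pos.2 (by norm_num)
    positivity
  have hpp' : 0 < p * p' := by nlinarith
  have hp'pos : 0 < p' := by
    by_contra hneg
    push Not at hneg
    have hp'neg : p' < 0 := by
      rcases hneg.lt_or_eq with h1 | h1
      · exact h1
      · rw [h1] at hpp'; simp at hpp'
    have hpneg : p < 0 := by
      by_contra hpn
      push Not at hpn
      nlinarith
    have h5pos : (0 : ℝ) < √((5 : ℕ) : ℝ) := by rw [h55]; exact Real.sqrt_pos.2 (by norm_num)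
    have h1 : (p : ℝ) < 0 := by exact_mod_cast hpneg
    have h2 : (p' : ℝ) < 0 := by exact_mod_cast hp'neg
    rw [ex] at hxpos
    nlinarith
  have hr1 : 1 < r := by
    have h1 : p' * (r * Mq s t) = (r - 1) * (Qq s t / 2) := by
      rw [hp']; field_simp
    have h2 : 0 < (r - 1) * (Qq s t / 2) := by rw [← h1]; positivity
    by_contra hle
    push Not at hle
    nlinarith
  have hfac : (p - p') * (p - 5 * p') = 0 := by
    push_cast at e1
    linear_combination e1 - 3 * e2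
  have hpeq : p * (r * Mq s t) = (r - 1) * (3 / 2 * Qq s t) + (4 * Qq s t - r * Kq s t) := by
    rw [hp]; field_simp
  have hp'eq : p' * (r * Mq s t) = (r - 1) * (Qq s t / 2) := by
    rw [hp']; field_simp
  rcases mul_eq_zero.1 hfac with h1 | h1
  · have h2 : p = p' := by linarith
    rw [h2] at hpeq
    have h3 : r * (Kq s t - Qq s t) = 3 * Qq s t := by linarith
    nlinarith
  · have h2 : p = 5 * p' := by linarith
    rw [h2] at hpeq
    have h3 : r * (Kq s t + Qq s t) = 5 * Qq s t := by linarith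
    nlinarith

end

end Cfsg.Agent.Lib.H2.FH
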