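import Mathlib
import Cfsg.Agent.Lib.H2.FH6e
import Cfsg.Agent.Lib.H2.FH7a
import Cfsg.Agent.Lib.H2.FH7b

set_option autoImplicit false
set_option linter.unusedSectionVars false
set_option linter.unusedVariables false

/-!
# Feit–Higman, part 7c: the arithmetic conclusion `L ∈ {2, 3, 4, 6, 8}`
-/

namespace Cfsg.Agent.Lib.H2.FH

open Real

theorem odd_case {s : ℕ} (hs : 2 ≤ s) {L : ℕ} (hL : 3 ≤ L) (H : RatCond s s (ang L 1)) :
    L = 3 ∨ L = 4 ∨ L = 6 := by
  have hs' : (1 : ℝ) < s := by exact_mod_cast (by omega : 1 < s)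
  have h0 := ang_pos (L := L) (j := 1) (by omega) (by omega)
  have hπ := ang_lt_pi (L := L) (j := 1) (by omega) (by omega)
  set ϑ := ang L 1 with hϑ
  have hu := uu_eq_of_eq hs' hs' h0 hπ rfl
  have hτ : tau s s ϑ = 2 * s * cos ϑ := by unfold tau; rw [hu]
  obtain ⟨r, hr0, hr⟩ := H
  rw [hτ] at hr
  have hsin := sin_theta_pos hs' hs' h0 hπ
  have hsc := Real.sin_sq_add_cos_sq ϑ
  have hc1 : cos ϑ < 1 := by nlinarith [sq_pos_of_pos hsin]
  have hc2 : -1 < cos ϑ := by nlinarith [sq_pos_of_pos hsin]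
  have hs0 : (0 : ℝ) < s := by linarith
  have hr0' : (0 : ℝ) < r := by exact_mod_cast hr0
  have hne : 2 * (s : ℝ) * (1 + cos ϑ) ≠ 0 := by
    have : 0 < 2 * (s : ℝ) * (1 + cos ϑ) := by
      have : 0 < 1 + cos ϑ := by linarith
      positivity
    exact this.ne'
  have h1 : 2 * (s : ℝ) * (1 - cos ϑ) = r * ((s : ℝ) ^ 2 + 1 - 2 * s * cos ϑ) := by
    apply mul_left_cancel₀ hne
    linear_combination hr
  have hr1 : (r : ℝ) ≠ 1 := by
    intro h
    rw [h] at h1
    have : ((s : ℝ) - 1) ^ 2 = 0 := by linear_combination (-1 : ℝ) * h1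
    have h2 : (s : ℝ) - 1 = 0 := by
      rcases pow_eq_zero_iff (n := 2) (by norm_num) |>.1 this with h3
      exact h3
    linarith
  have hcos : ∃ q : ℚ, cos ϑ = q := by
    refine ⟨(r * ((s : ℚ) ^ 2 + 1) - 2 * s) / (2 * s * (r - 1)), ?_⟩
    have hden : 2 * (s : ℝ) * ((r : ℝ) - 1) ≠ 0 := by
      have : (r : ℝ) - 1 ≠ 0 := sub_ne_zero.2 hr1
      have : (s : ℝ) ≠ 0 := hs0.ne'
      positivity
    push_cast
    rw [eq_div_iff hden]
    linear_combination h1
  have hθ : ∃ q : ℚ, ϑ = q * π := by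
    refine ⟨2 / L, ?_⟩
    rw [hϑ]; unfold ang
    push_cast
    ring
  have hL0 : (L : ℝ) ≠ 0 := by
    have : (0 : ℝ) < L := by exact_mod_cast (by omega : 0 < L)
    exact this.ne'
  have hval : ϑ = 2 * π / L := by rw [hϑ]; unfold ang; push_cast; ring
  have hpi := Real.pi_pos
  have := niven_angle_eq hθ hcos ⟨h0.le, hπ.le⟩
  simp only [Set.mem_insert_iff, Set.mem_singleton_iff] at this
  rcases this with h | h | h | h | h
  · linarith
  · right; right
    rw [hval, div_eq_div_iff hL0 (by norm_num)] at h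
    have : (L : ℝ) = 6 := by nlinarith
    exact_mod_cast this
  · right; left
    rw [hval, div_eq_div_iff hL0 (by norm_num)] at h
    have : (L : ℝ) = 4 := by nlinarith
    exact_mod_cast this
  · left
    rw [hval, div_eq_iff hL0] at h
    have : (L : ℝ) = 3 := by nlinarith
    exact_mod_cast this
  · linarith

theorem even_quadratic {s t : ℕ} (hs : 2 ≤ s) (ht : 2 ≤ t) {m : ℕ} (hm : 2 ≤ m)
    (H : RatCond s t (ang (2 * m) 1)) : Nat.totient m ≤ 4 := by
  obtain ⟨r, hr0, hr⟩ := H
  have hlin := lin_of_eq hs ht hr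
  have hM := Mq_pos hs ht
  have hQ := Qq_pos hs ht
  have hrM : (r : ℝ) * (Mq s t : ℝ) ≠ 0 := by
    have : (0 : ℝ) < (r : ℝ) * (Mq s t : ℝ) := by
      have h1 : (0 : ℝ) < r := by exact_mod_cast hr0
      have h2 : (0 : ℝ) < Mq s t := by exact_mod_cast hM
      positivity
    exact this.ne'
  have hrMq : r * Mq s t ≠ 0 := (mul_pos hr0 hM).ne'
  set ϑ := ang (2 * m) 1 with hϑ
  have hm0 : (m : ℝ) ≠ 0 := by
    have : (0 : ℝ) < m := by exact_mod_cast (by omega : 0 < m)
    exact this.ne'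
  have h2ϑ : 2 * ϑ = 2 * π / m := by
    rw [hϑ]; unfold ang; push_cast; field_simp
  set y := cos (2 * π / m) with hy
  have hcos2 : cos ϑ ^ 2 = 1 / 2 + y / 2 := by
    rw [Real.cos_sq ϑ, h2ϑ]
  have hx2 : tau s t ϑ ^ 2 = 2 * (Qq s t : ℝ) + 2 * (Qq s t : ℝ) * y := by
    rw [tau_sq' hs ht, hcos2]; ring
  set α : ℚ := ((r - 1) * (2 * Qq s t) + (4 * Qq s t - r * Kq s t)) / (r * Mq s t) with hα
  set β : ℚ := (r - 1) * (2 * Qq s t) / (r * Mq s t) with hβ
  have hx : tau s t ϑ = α + β * y := by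
    rw [hx2] at hlin
    have hx0 : tau s t ϑ = (((r : ℝ) - 1) * (2 * (Qq s t : ℝ) + 2 * (Qq s t : ℝ) * y) +
        ((4 * Qq s t - r * Kq s t : ℚ) : ℝ)) / (r * Mq s t) := by
      rw [eq_div_iff hrM]; linarith
    rw [hx0, hα, hβ]
    push_cast
    field_simp
    ring
  have hquad : ((β ^ 2 : ℚ) : ℝ) * y ^ 2 + ((2 * α * β - 2 * Qq s t : ℚ) : ℝ) * y +
      ((α ^ 2 - 2 * Qq s t : ℚ) : ℝ) = 0 := by
    rw [hx] at hx2
    push_cast
    linear_combination hx2
  apply totient_le_four_of_cos_quadratic m (by omega) _ _ _ _ hquad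
  by_cases hb : β = 0
  · right; left
    rw [hb]
    simp
    exact hQ.ne'
  · left
    exact pow_ne_zero 2 hb

theorem ang_eq_pi_div {L j k : ℕ} (hk : 0 < k) (h : L = 2 * j * k) (hj : 0 < j) :
    ang L j = π / k := by
  unfold ang
  rw [h]
  have hk' : (k : ℝ) ≠ 0 := by exact_mod_cast hk.ne'
  have hj' : (j : ℝ) ≠ 0 := by exact_mod_cast hj.ne'
  push_cast
  field_simp

theorem fh_arith {s t L : ℕ} (hs : 2 ≤ s) (ht : 2 ≤ t) (hL : 2 ≤ L)
    (hodd : L % 2 = 1 → s = t)
    (H : ∀ j, 0 < j → 2 * j < L → RatCond s t (ang L j)) :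
    L = 2 ∨ L = 3 ∨ L = 4 ∨ L = 6 ∨ L = 8 := by
  rcases Nat.even_or_odd' L with ⟨m, hm | hm⟩
  · -- even
    by_cases hsmall : L ≤ 8
    · omega
    · have hm5 : 5 ≤ m := by omega
      have h1 := H 1 (by omega) (by omega)
      rw [hm] at h1
      have hφ := even_quadratic hs ht (by omega) h1
      have hm12 := le_twelve_of_totient_le_four m (by omega) hφ
      exfalso
      have c5 : cos (π / ((5 : ℕ) : ℝ)) = (1 + √5) / 4 := by
        rw [show ((5 : ℕ) : ℝ) = 5 by norm_num]; exact Real.cos_pi_div_five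
      have c6 : cos (π / ((6 : ℕ) : ℝ)) = √3 / 2 := by
        rw [show ((6 : ℕ) : ℝ) = 6 by norm_num]; exact Real.cos_pi_div_six
      have c3 : cos (π / ((3 : ℕ) : ℝ)) = 1 / 2 := by
        rw [show ((3 : ℕ) : ℝ) = 3 by norm_num]; exact Real.cos_pi_div_three
      have c8 : cos (π / ((8 : ℕ) : ℝ)) ^ 2 = (2 + √2) / 4 := by
        rw [show ((8 : ℕ) : ℝ) = 8 by norm_num, Real.cos_pi_div_eight, div_pow,
          Real.sq_sqrt (by positivity)]
        norm_num
      interval_cases m
      · -- L = 10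
        have h := H 1 (by omega) (by omega)
        rw [ang_eq_pi_div (k := 5) (by omega) (by omega) (by omega)] at h
        exact ex10 hs ht c5 h
      · -- L = 12
        have h := H 1 (by omega) (by omega)
        have h' := H 2 (by omega) (by omega)
        rw [ang_eq_pi_div (k := 6) (by omega) (by omega) (by omega)] at h
        rw [ang_eq_pi_div (k := 3) (by omega) (by omega) (by omega)] at h'
        exact ex12 hs ht c6 c3 h h'
      · revert hφ; decide
      · -- L = 16
        have h := H 1 (by omega) (by omega)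
        rw [ang_eq_pi_div (k := 8) (by omega) (by omega) (by omega)] at h
        exact ex16 hs ht c8 h
      · revert hφ; decide
      · -- L = 20
        have h := H 2 (by omega) (by omega)
        rw [ang_eq_pi_div (k := 5) (by omega) (by omega) (by omega)] at h
        exact ex10 hs ht c5 h
      · revert hφ; decide
      · -- L = 24
        have h := H 2 (by omega) (by omega)
        have h' := H 4 (by omega) (by omega)
        rw [ang_eq_pi_div (k := 6) (by omega) (by omega) (by omega)] at h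
        rw [ang_eq_pi_div (k := 3) (by omega) (by omega) (by omega)] at h'
        exact ex12 hs ht c6 c3 h h'
  · -- odd
    have hL3 : 3 ≤ L := by omega
    obtain rfl : s = t := hodd (by omega)
    have h1 := H 1 (by omega) (by omega)
    rcases odd_case hs hL3 h1 with h | h | h
    · omega
    · omega
    · omega

end Cfsg.Agent.Lib.H2.FH
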