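import Cfsg.Agent.Lib.H28.Fi22M.Base

set_option autoImplicit false
set_option maxRecDepth 100000

/-!
# S2053 (M(Fi22) = C6), piece CL: nine involutions with the Coxeter relations of `Y₃₃₂` in every central
extension of `Fi22`, from the lift of one transposition (helper2)
-/

namespace Cfsg.Agent.Lib.H2.Fi22M

open Cfsg.Agent.Lib.H28.Fi22M
open Cfsg.Agent.Lib.H14.SuzM (wv SL.L)
open scoped commutatorElement

/-- the conclusion of **KL** for `Fi22` and `t = a` (copy of the definition of the signature file) -/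
def InvolLift : Prop :=
  ∀ (Γ : Type) [Group Γ] (σ : Γ →* FG), Function.Surjective σ → σ.ker ≤ Subgroup.center Γ →
    ∃ t' : Γ, σ t' = fg 0 ∧ t' * t' = 1 ∧
      ∀ x y : Γ, σ (x * t' * x⁻¹) * σ (y * t' * y⁻¹) = σ (y * t' * y⁻¹) * σ (x * t' * x⁻¹) →
        (x * t' * x⁻¹) * (y * t' * y⁻¹) = (y * t' * y⁻¹) * (x * t' * x⁻¹)

/-- the conclusion of **CL** (copy of the definition of the signature file) -/
def CoxLift : Prop :=
  ∀ (Γ : Type) [Group Γ] (σ : Γ →* FG), Function.Surjective σ → σ.ker ≤ Subgroup.center Γ →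
    ∃ g : ℕ → Γ, (∀ i < 9, σ (g i) = fg i) ∧ (∀ i < 9, g i * g i = 1) ∧ ∀ w ∈ coxL, wv g w = 1

section generic

variable {G : Type*} [Group G]

theorem cl_inv_self {a : G} (ha : a * a = 1) : a⁻¹ = a := inv_eq_of_mul_eq_one_right ha

/-- `(a b) a (a b)⁻¹ = b` for two involutions with `(a b)³ = 1` -/
theorem cl_braid_conj (a b : G) (ha : a * a = 1) (hb : b * b = 1)
    (h : a * b * a * b * a * b = 1) : (a * b) * a * (a * b)⁻¹ = b := by
  rw [mul_inv_rev, cl_inv_self ha, cl_inv_self hb]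
  calc a * b * a * (b * a) = (a * b * a * b * a * b) * b := by
        simp only [mul_assoc, hb, mul_one]
    _ = b := by rw [h, one_mul]

/-- `a b a = b a b` for two involutions with `(a b)³ = 1` -/
theorem cl_braid_eq (a b : G) (ha : a * a = 1) (hb : b * b = 1)
    (h : a * b * a * b * a * b = 1) : a * b * a = b * a * b := by
  have h1 : (a * b * a) * (b * a * b) = 1 := by simpa only [mul_assoc] using h
  rw [eq_inv_of_mul_eq_one_left h1, mul_inv_rev, mul_inv_rev, cl_inv_self ha, cl_inv_self hb,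
    mul_assoc]

/-- two involutions with `(a b)² = 1` commute -/
theorem cl_comm_of_four (a b : G) (ha : a * a = 1) (hb : b * b = 1) (h : a * b * a * b = 1) :
    a * b = b * a := by
  have h1 : (a * b) * (a * b) = 1 := by simpa only [mul_assoc] using h
  have h2 := cl_inv_self h1
  rw [mul_inv_rev, cl_inv_self ha, cl_inv_self hb] at h2
  exact h2.symm

/-- two commuting involutions have `(a b)² = 1` -/
theorem cl_four_of_comm (a b : G) (ha : a * a = 1) (hb : b * b = 1) (h : a * b = b * a) :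
    a * b * a * b = 1 := by
  calc a * b * a * b = a * b * (a * b) := by simp only [mul_assoc]
    _ = a * b * (b * a) := by rw [h]
    _ = a * (b * b) * a := by simp only [mul_assoc]
    _ = 1 := by rw [hb, mul_one, ha]

/-- two commuting involutions have `(a b)³ = a b` -/
theorem cl_six_of_comm (a b : G) (ha : a * a = 1) (hb : b * b = 1) (h : a * b = b * a) :
    a * b * a * b * a * b = a * b := by
  calc a * b * a * b * a * b = (a * b * a * b) * (a * b) := by simp only [mul_assoc]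
    _ = a * b := by rw [cl_four_of_comm a b ha hb h, one_mul]

/-- a conjugate of an involution is an involution -/
theorem cl_conj_sq (y t : G) (ht : t * t = 1) : (y * t * y⁻¹) * (y * t * y⁻¹) = 1 := by
  calc (y * t * y⁻¹) * (y * t * y⁻¹) = y * (t * t) * y⁻¹ := by group
    _ = 1 := by rw [ht]; group

/-- the value of a word in the letters `g0 i * u i`, the `u i` central -/
theorem cl_wv_mul_central (g0 u : ℕ → G) (w : List ℕ) (hu : ∀ i ∈ w, u i ∈ Subgroup.center G) :
    wv (fun i => g0 i * u i) w = wv g0 w * wv u w := by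
  induction w with
  | nil => simp [wv]
  | cons x w ih =>
    have ih' := ih (fun i hi => hu i (List.mem_cons_of_mem _ hi))
    have hx := Subgroup.mem_center_iff.1 (hu x List.mem_cons_self) (wv g0 w)
    rw [Cfsg.Agent.Lib.H14.SuzM.wv_cons, Cfsg.Agent.Lib.H14.SuzM.wv_cons,
      Cfsg.Agent.Lib.H14.SuzM.wv_cons, ih']
    calc g0 x * u x * (wv g0 w * wv u w) = g0 x * (u x * wv g0 w) * wv u w := by
          simp only [mul_assoc]
      _ = g0 x * (wv g0 w * u x) * wv u w := by rw [hx]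
      _ = g0 x * wv g0 w * (u x * wv u w) := by simp only [mul_assoc]

end generic

section corr

variable {G Γ : Type*} [Group G] [Group Γ] (σ : Γ →* G)

/-- central involutions in the kernel -/
def KI (z : Γ) : Prop := z ∈ σ.ker ∧ z * z = 1

theorem KI.one : KI σ (1 : Γ) := ⟨Subgroup.one_mem _, mul_one 1⟩

theorem KI.mul (hc : σ.ker ≤ Subgroup.center Γ) {a b : Γ} (ha : KI σ a) (hb : KI σ b) :
    KI σ (a * b) := by
  refine ⟨Subgroup.mul_mem _ ha.1 hb.1, ?_⟩
  have h := Subgroup.mem_center_iff.1 (hc ha.1) b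
  calc a * b * (a * b) = a * (b * a) * b := by simp only [mul_assoc]
    _ = a * (a * b) * b := by rw [h]
    _ = (a * a) * (b * b) := by simp only [mul_assoc]
    _ = 1 := by rw [ha.2, hb.2, mul_one]

/-- the cube of the product of two conjugates of `t'` over two letters with a braid relation is a central
involution of the kernel -/
theorem cl_corr (t' : Γ)
    (hP : ∀ x y : Γ, σ (x * t' * x⁻¹) * σ (y * t' * y⁻¹) = σ (y * t' * y⁻¹) * σ (x * t' * x⁻¹) →
      (x * t' * x⁻¹) * (y * t' * y⁻¹) = (y * t' * y⁻¹) * (x * t' * x⁻¹))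
    (a b : Γ) (ha : ∃ y : Γ, a = y * t' * y⁻¹) (hb : ∃ z : Γ, b = z * t' * z⁻¹)
    (haa : a * a = 1) (hbb : b * b = 1)
    (hbr : σ a * σ b * σ a * σ b * σ a * σ b = 1) :
    KI σ (a * b * a * b * a * b) := by
  obtain ⟨y, hy⟩ := ha
  obtain ⟨z, hz⟩ := hb
  have ainv := cl_inv_self haa
  have binv := cl_inv_self hbb
  have hsa : σ a * σ a = 1 := by rw [← map_mul, haa, map_one]
  have hsb : σ b * σ b = 1 := by rw [← map_mul, hbb, map_one]
  have hp : a * b * a = (a * z) * t' * (a * z)⁻¹ := by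
    rw [mul_inv_rev, ainv]
    conv_lhs => rw [hz]
    simp only [mul_assoc]
  have hq : b * a * b = (b * y) * t' * (b * y)⁻¹ := by
    rw [mul_inv_rev, binv]
    conv_lhs => rw [hy]
    simp only [mul_assoc]
  have hσpq : σ (a * b * a) = σ (b * a * b) := by
    simp only [map_mul]
    exact cl_braid_eq _ _ hsa hsb hbr
  have hpq : (a * b * a) * (b * a * b) = (b * a * b) * (a * b * a) := by
    rw [hp, hq]
    apply hP
    rw [← hp, ← hq, hσpq]
  have hpp : (a * b * a) * (a * b * a) = 1 := by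
    calc (a * b * a) * (a * b * a) = a * (b * (a * a) * b) * a := by simp only [mul_assoc]
      _ = 1 := by rw [haa, mul_one, hbb, mul_one, haa]
  have hqq : (b * a * b) * (b * a * b) = 1 := by
    calc (b * a * b) * (b * a * b) = b * (a * (b * b) * a) * b := by simp only [mul_assoc]
      _ = 1 := by rw [hbb, mul_one, haa, mul_one, hbb]
  have hcpq : a * b * a * b * a * b = (a * b * a) * (b * a * b) := by simp only [mul_assoc]
  refine ⟨?_, ?_⟩
  · rw [MonoidHom.mem_ker]
    simp only [map_mul]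
    exact hbr
  · rw [hcpq]
    calc (a * b * a) * (b * a * b) * ((a * b * a) * (b * a * b))
        = (a * b * a) * ((b * a * b) * (a * b * a)) * (b * a * b) := by simp only [mul_assoc]
      _ = (a * b * a) * ((a * b * a) * (b * a * b)) * (b * a * b) := by rw [hpq]
      _ = ((a * b * a) * (a * b * a)) * ((b * a * b) * (b * a * b)) := by simp only [mul_assoc]
      _ = 1 := by rw [hpp, hqq, mul_one]

/-- the nine chosen elements -/
def pick9 (a0 a1 a2 a3 a4 a5 a6 a7 a8 : Γ) : ℕ → Γ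
  | 0 => a0
  | 1 => a1
  | 2 => a2
  | 3 => a3
  | 4 => a4
  | 5 => a5
  | 6 => a6
  | 7 => a7
  | 8 => a8
  | _ => 1

/-- the corrections along the tree `0 - 1 - 2 - 3 - 4 - 5 - 6`, `3 - 7 - 8` -/
def corr9 (c : ℕ → ℕ → Γ) : ℕ → Γ :=
  pick9 1 (c 0 1) (c 0 1 * c 1 2) (c 0 1 * c 1 2 * c 2 3) (c 0 1 * c 1 2 * c 2 3 * c 3 4)
    (c 0 1 * c 1 2 * c 2 3 * c 3 4 * c 4 5) (c 0 1 * c 1 2 * c 2 3 * c 3 4 * c 4 5 * c 5 6)
    (c 0 1 * c 1 2 * c 2 3 * c 3 7) (c 0 1 * c 1 2 * c 2 3 * c 3 7 * c 7 8)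

end corr

/-- the edges of the tree -/
def edgeL : List (ℕ × ℕ) := [(0, 1), (1, 2), (2, 3), (3, 4), (4, 5), (5, 6), (3, 7), (7, 8)]

theorem coxL_letters : ∀ w ∈ coxL, ∀ x ∈ w, x < 9 := by decide

theorem coxL_classify : ∀ w ∈ coxL,
    w = [w.getD 0 0, w.getD 1 0, w.getD 0 0, w.getD 1 0] ∨
      ∃ p ∈ edgeL, w = [p.1, p.2, p.1, p.2, p.1, p.2] := by decide

theorem edgeL_mem : ∀ p ∈ edgeL, [p.1, p.2, p.1, p.2, p.1, p.2] ∈ coxL := by decide

theorem fg_braid {p c : ℕ} (h : [p, c, p, c, p, c] ∈ coxL) :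
    fg p * fg c * fg p * fg c * fg p * fg c = 1 := by
  have := wv_fg_relW _ (coxL_sub _ h)
  simpa [wv, mul_assoc] using this

theorem fg_comm {i j : ℕ} (h : [i, j, i, j] ∈ coxL) : fg i * fg j = fg j * fg i := by
  have := wv_fg_relW _ (coxL_sub _ h)
  have h1 : fg i * fg j * fg i * fg j = 1 := by simpa [wv, mul_assoc] using this
  exact cl_comm_of_four _ _ (fg_mul_self i) (fg_mul_self j) h1

section main

variable {Γ : Type} [Group Γ] (σ : Γ →* FG) (t' : Γ)

/-- a conjugate of `t'` over the letter `i` -/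
def Over (i : ℕ) (x : Γ) : Prop := (∃ y : Γ, x = y * t' * y⁻¹) ∧ σ x = fg i

theorem over_step (hs : Function.Surjective σ) {p c : ℕ} (hbr : [p, c, p, c, p, c] ∈ coxL) {x : Γ}
    (hx : Over σ t' p x) : ∃ x' : Γ, Over σ t' c x' := by
  obtain ⟨s, hs'⟩ := hs (fg p * fg c)
  obtain ⟨⟨y, hy⟩, hxσ⟩ := hx
  refine ⟨(s * y) * t' * (s * y)⁻¹, ⟨s * y, rfl⟩, ?_⟩
  have h1 : (s * y) * t' * (s * y)⁻¹ = s * x * s⁻¹ := by rw [hy]; group
  rw [h1, map_mul, map_mul, map_inv, hs', hxσ]
  exact cl_braid_conj _ _ (fg_mul_self p) (fg_mul_self c) (fg_braid hbr)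

end main

/-- **CL** -/
theorem coxLift_of_involLift (h : InvolLift) : CoxLift := by
  intro Γ _ σ hs hc
  obtain ⟨t', ht, htt, hP⟩ := h Γ σ hs hc
  -- the nine conjugates
  have e0 : Over σ t' 0 t' := ⟨⟨1, by simp⟩, ht⟩
  obtain ⟨x1, e1⟩ := over_step σ t' hs (p := 0) (c := 1) (by decide) e0
  obtain ⟨x2, e2⟩ := over_step σ t' hs (p := 1) (c := 2) (by decide) e1
  obtain ⟨x3, e3⟩ := over_step σ t' hs (p := 2) (c := 3) (by decide) e2
  obtain ⟨x4, e4⟩ := over_step σ t' hs (p := 3) (c := 4) (by decide) e3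
  obtain ⟨x5, e5⟩ := over_step σ t' hs (p := 4) (c := 5) (by decide) e4
  obtain ⟨x6, e6⟩ := over_step σ t' hs (p := 5) (c := 6) (by decide) e5
  obtain ⟨x7, e7⟩ := over_step σ t' hs (p := 3) (c := 7) (by decide) e3
  obtain ⟨x8, e8⟩ := over_step σ t' hs (p := 7) (c := 8) (by decide) e7
  set g0 : ℕ → Γ := pick9 t' x1 x2 x3 x4 x5 x6 x7 x8 with hg0
  have hover : ∀ i < 9, Over σ t' i (g0 i) := by
    intro i hi
    interval_cases i
    · exact e0
    · exact e1
    · exact e2
    · exact e3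
    · exact e4
    · exact e5
    · exact e6
    · exact e7
    · exact e8
  have hinv0 : ∀ i < 9, g0 i * g0 i = 1 := by
    intro i hi
    obtain ⟨⟨y, hy⟩, -⟩ := hover i hi
    rw [hy]
    exact cl_conj_sq y t' htt
  have hσ0 : ∀ i < 9, σ (g0 i) = fg i := fun i hi => (hover i hi).2
  have hcomm0 : ∀ i < 9, ∀ j < 9, fg i * fg j = fg j * fg i → g0 i * g0 j = g0 j * g0 i := by
    intro i hi j hj hij
    obtain ⟨⟨y, hy⟩, hyσ⟩ := hover i hi
    obtain ⟨⟨z, hz⟩, hzσ⟩ := hover j hj
    rw [hy, hz]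
    apply hP
    rw [← hy, ← hz, hyσ, hzσ, hij]
  -- the corrections
  set c : ℕ → ℕ → Γ := fun i j => g0 i * g0 j * g0 i * g0 j * g0 i * g0 j with hcdef
  have hcKI : ∀ p ∈ edgeL, KI σ (c p.1 p.2) := by
    intro p hp
    have hmem := edgeL_mem p hp
    have hlt := coxL_letters _ hmem
    have h1 : p.1 < 9 := hlt p.1 (by simp)
    have h2 : p.2 < 9 := hlt p.2 (by simp)
    apply cl_corr σ t' hP (g0 p.1) (g0 p.2) (hover _ h1).1 (hover _ h2).1 (hinv0 _ h1) (hinv0 _ h2)
    rw [hσ0 _ h1, hσ0 _ h2]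
    exact fg_braid hmem
  have k01 : KI σ (c 0 1) := hcKI (0, 1) (by decide)
  have k12 : KI σ (c 1 2) := hcKI (1, 2) (by decide)
  have k23 : KI σ (c 2 3) := hcKI (2, 3) (by decide)
  have k34 : KI σ (c 3 4) := hcKI (3, 4) (by decide)
  have k45 : KI σ (c 4 5) := hcKI (4, 5) (by decide)
  have k56 : KI σ (c 5 6) := hcKI (5, 6) (by decide)
  have k37 : KI σ (c 3 7) := hcKI (3, 7) (by decide)
  have k78 : KI σ (c 7 8) := hcKI (7, 8) (by decide)
  set u : ℕ → Γ := corr9 c with hu
  have huKI : ∀ i < 9, KI σ (u i) := by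
    intro i hi
    interval_cases i
    · exact KI.one σ
    · exact k01
    · exact KI.mul σ hc k01 k12
    · exact KI.mul σ hc (KI.mul σ hc k01 k12) k23
    · exact KI.mul σ hc (KI.mul σ hc (KI.mul σ hc k01 k12) k23) k34
    · exact KI.mul σ hc (KI.mul σ hc (KI.mul σ hc (KI.mul σ hc k01 k12) k23) k34) k45
    · exact KI.mul σ hc (KI.mul σ hc (KI.mul σ hc (KI.mul σ hc (KI.mul σ hc k01 k12) k23) k34) k45) k56
    · exact KI.mul σ hc (KI.mul σ hc (KI.mul σ hc k01 k12) k23) k37
    · exact KI.mul σ hc (KI.mul σ hc (KI.mul σ hc (KI.mul σ hc k01 k12) k23) k37) k78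
  have hucen : ∀ i < 9, u i ∈ Subgroup.center Γ := fun i hi => hc (huKI i hi).1
  have huedge : ∀ p ∈ edgeL, u p.2 = u p.1 * c p.1 p.2 := by
    intro p hp
    simp only [edgeL, List.mem_cons, List.not_mem_nil, or_false] at hp
    rcases hp with rfl | rfl | rfl | rfl | rfl | rfl | rfl | rfl
    · exact (one_mul _).symm
    · rfl
    · rfl
    · rfl
    · rfl
    · rfl
    · rfl
    · rfl
  refine ⟨fun i => g0 i * u i, ?_, ?_, ?_⟩
  · intro i hi
    show σ (g0 i * u i) = fg i
    rw [map_mul, hσ0 i hi, MonoidHom.mem_ker.1 (huKI i hi).1, mul_one]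
  · intro i hi
    show g0 i * u i * (g0 i * u i) = 1
    have hcen := Subgroup.mem_center_iff.1 (hucen i hi) (g0 i)
    calc g0 i * u i * (g0 i * u i) = g0 i * (u i * g0 i) * u i := by simp only [mul_assoc]
      _ = g0 i * (g0 i * u i) * u i := by rw [hcen]
      _ = (g0 i * g0 i) * (u i * u i) := by simp only [mul_assoc]
      _ = 1 := by rw [hinv0 i hi, (huKI i hi).2, mul_one]
  · intro w hw
    have hlt := coxL_letters w hw
    rw [cl_wv_mul_central g0 u w (fun i hi => hucen i (hlt i hi))]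
    rcases coxL_classify w hw with hw4 | ⟨p, hp, hw6⟩
    · -- a commuting pair
      generalize hi : w.getD 0 0 = i at hw4
      generalize hj : w.getD 1 0 = j at hw4
      subst hw4
      have hi9 : i < 9 := hlt i (by simp)
      have hj9 : j < 9 := hlt j (by simp)
      have h1 : wv g0 [i, j, i, j] = 1 := by
        have := cl_four_of_comm (g0 i) (g0 j) (hinv0 i hi9) (hinv0 j hj9)
          (hcomm0 i hi9 j hj9 (fg_comm hw))
        simpa [wv, mul_assoc] using this
      have h2 : wv u [i, j, i, j] = 1 := by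
        have := cl_four_of_comm (u i) (u j) (huKI i hi9).2 (huKI j hj9).2
          (Subgroup.mem_center_iff.1 (hucen j hj9) (u i))
        simpa [wv, mul_assoc] using this
      rw [h1, h2, mul_one]
    · -- an edge
      subst hw6
      have hi9 : p.1 < 9 := hlt p.1 (by simp)
      have hj9 : p.2 < 9 := hlt p.2 (by simp)
      have h1 : wv g0 [p.1, p.2, p.1, p.2, p.1, p.2] = c p.1 p.2 := by
        simp [wv, hcdef, mul_assoc]
      have h2 : wv u [p.1, p.2, p.1, p.2, p.1, p.2] = u p.1 * u p.2 := by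
        have := cl_six_of_comm (u p.1) (u p.2) (huKI _ hi9).2 (huKI _ hj9).2
          (Subgroup.mem_center_iff.1 (hucen _ hj9) (u p.1))
        simpa [wv, mul_assoc] using this
      rw [h1, h2, huedge p hp, ← mul_assoc (u p.1), (huKI _ hi9).2, one_mul]
      exact (hcKI p hp).2

end Cfsg.Agent.Lib.H2.Fi22M
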