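import Cfsg.Agent.Lib.H28.Fi22M.Cov

set_option autoImplicit false
set_option maxRecDepth 100000

/-!
# S2053 piece P3 (helper2): facts on the presented triple cover `PC3` of `Fi22`
(clone of helper9's `Lib/H9/SuzMP3.lean`)
-/

namespace Cfsg.Agent.Lib.H2.Fi22M

open Cfsg.Agent.Lib.H28.Fi22M
open Cfsg.Agent.Lib.H14.SuzM (wv wv_append wv_cons map_wv)
open Cfsg.Agent.Lib.H17.Fi22Glue (gen idx rels relW)
open scoped commutatorElement

/-! ### Words in the free group -/

theorem p3_mk_word (w : List ℕ) :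
    (FreeGroup.mk (w.map fun x => (gen x, true)) : FreeGroup Cfsg.Spor.Fi22.Gen) =
      (w.map fun x => FreeGroup.of (gen x)).prod := by
  induction w with
  | nil => rfl
  | cons x w ih =>
    rw [List.map_cons, List.map_cons, List.prod_cons, ← ih]
    rfl

/-- the words of `covW3` are trivial in `PC3` -/
theorem wv_pc3_eq_one : ∀ w ∈ covW3, wv pc3 w = 1 := by
  intro w hw
  have h : PresentedGroup.mk covRels3 (FreeGroup.mk (w.map fun x => (gen x, true))) = 1 :=
    PresentedGroup.one_of_mem ⟨w, hw, rfl⟩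
  rw [p3_mk_word, map_list_prod, List.map_map] at h
  exact h

/-! ### Membership facts on the lists -/

theorem p3_sq_mem : ∀ i < 9, [i, i] ∈ covW3 := by decide

theorem p3_comm_mem : ∀ x < 9, zw3 ++ [x] ++ zw3.reverse ++ [x] ∈ covW3 := by decide

theorem p3_cube_mem : zw3 ++ zw3 ++ zw3 ∈ covW3 := by decide

theorem p3_relW_cases : ∀ w ∈ relW, w ∈ covW3 ∨ w = zw3 := by decide

theorem p3_covW3_cases : ∀ w ∈ covW3, w ∈ relW ∨ (∃ x < 9, w = zw3 ++ [x] ++ zw3.reverse ++ [x]) ∨
    w = zw3 ++ zw3 ++ zw3 := by decide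

theorem p3_zw_mem : zw3 ∈ relW := by decide

theorem p3_zw_lt : ∀ x ∈ zw3, x < 9 := by decide

/-! ### Involutions -/

section invol

variable {Γ : Type*} [Group Γ] (g : ℕ → Γ)

/-- the reversed word gives the inverse when the letters are involutions -/
theorem p3_wv_reverse (w : List ℕ) (hw : ∀ x ∈ w, g x * g x = 1) :
    wv g w.reverse = (wv g w)⁻¹ := by
  induction w with
  | nil => simp [wv]
  | cons x w ih =>
    have hx : (g x)⁻¹ = g x := by
      rw [inv_eq_iff_mul_eq_one]; exact hw x List.mem_cons_self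
    have e1 : wv g [x] = g x := by simp [wv]
    rw [List.reverse_cons, wv_append, ih (fun y hy => hw y (List.mem_cons_of_mem _ hy)), e1,
      wv_cons g x w, mul_inv_rev, hx]

end invol

theorem pc3_sq : ∀ i < 9, pc3 i * pc3 i = 1 := by
  intro i hi
  have h := wv_pc3_eq_one _ (p3_sq_mem i hi)
  simpa [wv] using h

theorem z3_comm : ∀ x < 9, z3 * pc3 x = pc3 x * z3 := by
  intro x hx
  have h := wv_pc3_eq_one _ (p3_comm_mem x hx)
  rw [wv_append, wv_append, wv_append,
    p3_wv_reverse pc3 zw3 (fun y hy => pc3_sq y (p3_zw_lt y hy))] at h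
  have h1 : wv pc3 [x] = pc3 x := by simp [wv]
  rw [h1] at h
  have hx' : (pc3 x)⁻¹ = pc3 x := by
    rw [inv_eq_iff_mul_eq_one]; exact pc3_sq x hx
  -- `z3 * x * z3⁻¹ * x = 1`
  have h2 : z3 * pc3 x * z3⁻¹ = (pc3 x)⁻¹ := by
    rw [eq_inv_iff_mul_eq_one]; exact h
  rw [hx'] at h2
  calc z3 * pc3 x = (z3 * pc3 x * z3⁻¹) * z3 := by group
    _ = pc3 x * z3 := by rw [h2]

theorem pc3_gen : Subgroup.closure {x : PC3 | ∃ i < 9, x = pc3 i} = ⊤ := by
  rw [eq_top_iff, ← PresentedGroup.closure_range_of]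
  apply Subgroup.closure_mono
  rintro _ ⟨u, rfl⟩
  exact ⟨idx u, Cfsg.Agent.Lib.H17.Fi22Glue.idx_lt u, by
    unfold pc3
    rw [Cfsg.Agent.Lib.H17.Fi22Glue.gen_idx]⟩

theorem z3_central : z3 ∈ Subgroup.center PC3 := by
  have hcen : Subgroup.centralizer {z3} = (⊤ : Subgroup PC3) := by
    rw [eq_top_iff, ← pc3_gen, Subgroup.closure_le]
    rintro _ ⟨i, hi, rfl⟩
    rw [SetLike.mem_coe, Subgroup.mem_centralizer_iff]
    intro h hh
    rw [Set.mem_singleton_iff] at hh
    subst hh
    exact z3_comm i hi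
  rw [Subgroup.mem_center_iff]
  intro g
  have hg : g ∈ Subgroup.centralizer {z3} := by rw [hcen]; trivial
  rw [Subgroup.mem_centralizer_iff] at hg
  exact (hg _ rfl).symm

theorem z3_cube : z3 ^ 3 = 1 := by
  have h := wv_pc3_eq_one _ p3_cube_mem
  rw [wv_append, wv_append] at h
  rw [pow_succ, pow_two]
  exact h

/-! ### The covering map -/

theorem wv_fg_covW3 : ∀ w ∈ covW3, wv fg w = 1 := by
  intro w hw
  have hz : wv fg zw3 = 1 := wv_fg_relW zw3 p3_zw_mem
  rcases p3_covW3_cases w hw with h | ⟨x, hx, rfl⟩ | rfl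
  · exact wv_fg_relW w h
  · rw [wv_append, wv_append, wv_append,
      p3_wv_reverse fg zw3 (fun y _ => fg_mul_self y), hz]
    have h1 : wv fg [x] = fg x := by simp [wv]
    rw [h1, inv_one, one_mul, mul_one]
    exact fg_mul_self x
  · rw [wv_append, wv_append, hz, one_mul, one_mul]

/-- the covering map -/
noncomputable def piC3 : PC3 →* FG :=
  PresentedGroup.toGroup (f := fun u => (PresentedGroup.of u : FG)) (by
    rintro r ⟨w, hw, rfl⟩
    rw [p3_mk_word, map_list_prod, List.map_map]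
    have h := wv_fg_covW3 w hw
    unfold wv at h
    rw [← h]
    rfl)

theorem piC3_pc3 (i : ℕ) : piC3 (pc3 i) = fg i :=
  PresentedGroup.toGroup.of _

theorem piC3_wv (w : List ℕ) : piC3 (wv pc3 w) = wv fg w :=
  (map_wv pc3 piC3 w).trans rfl

/-! ### Perfectness -/

section perfect

variable {A : Type*} [CommGroup A] (a : ℕ → A)

theorem p3_cancel_pair (h : ∀ i, a i * a i = 1) (i : ℕ) (t : A) : a i * (a i * t) = t := by
  rw [← mul_assoc, h, one_mul]

/-- in an abelian group generated by involutions satisfying the words of `covW3` all letters are trivial -/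
theorem p3_ab_trivial (hsq : ∀ i, a i * a i = 1) (hrel : ∀ w ∈ covW3, wv a w = 1) :
    ∀ i < 9, a i = 1 := by
  have hc := p3_cancel_pair a hsq
  have inv_eq : ∀ i, (a i)⁻¹ = a i := fun i => by
    rw [inv_eq_iff_mul_eq_one]; exact hsq i
  have eq_of_mul : ∀ i j, a i * a j = 1 → a i = a j := by
    intro i j h
    rw [← inv_eq j]
    exact eq_inv_of_mul_eq_one_left h
  have braid3 : ∀ i j, wv a [i, j, i, j, i, j] = 1 → a i = a j := by
    intro i j h
    simp only [wv, List.map_cons, List.map_nil, List.prod_cons, List.prod_nil, mul_one] at h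
    apply eq_of_mul
    have e : a i * (a j * (a i * (a j * (a i * a j)))) =
        a i * (a i * (a j * (a j * (a i * a j)))) := by
      ac_rfl
    rw [e, hc, hc] at h
    exact h
  have h01 : a 0 = a 1 := braid3 0 1 (hrel _ (by decide))
  have h12 : a 1 = a 2 := braid3 1 2 (hrel _ (by decide))
  have h23 : a 2 = a 3 := braid3 2 3 (hrel _ (by decide))
  have h34 : a 3 = a 4 := braid3 3 4 (hrel _ (by decide))
  have h45 : a 4 = a 5 := braid3 4 5 (hrel _ (by decide))
  have h56 : a 5 = a 6 := braid3 5 6 (hrel _ (by decide))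
  have h37 : a 3 = a 7 := braid3 3 7 (hrel _ (by decide))
  have h78 : a 7 = a 8 := braid3 7 8 (hrel _ (by decide))
  have e1 : a 1 = a 0 := h01.symm
  have e2 : a 2 = a 0 := by rw [← h12, e1]
  have e3 : a 3 = a 0 := by rw [← h23, e2]
  have e4 : a 4 = a 0 := by rw [← h34, e3]
  have e5 : a 5 = a 0 := by rw [← h45, e4]
  have e6 : a 6 = a 0 := by rw [← h56, e5]
  have e7 : a 7 = a 0 := by rw [← h37, e3]
  have e8 : a 8 = a 0 := by rw [← h78, e7]
  -- the exact word `(bcdefgh)⁹` has odd length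
  have h0 : a 0 = 1 := by
    have h := hrel (relW.getD 38 []) (by decide)
    have hw : relW.getD 38 [] = [1, 2, 3, 4, 5, 6, 7, 1, 2, 3, 4, 5, 6, 7, 1, 2, 3, 4, 5, 6, 7,
        1, 2, 3, 4, 5, 6, 7, 1, 2, 3, 4, 5, 6, 7, 1, 2, 3, 4, 5, 6, 7, 1, 2, 3, 4, 5, 6, 7,
        1, 2, 3, 4, 5, 6, 7, 1, 2, 3, 4, 5, 6, 7] := by decide
    rw [hw] at h
    simp only [wv, List.map_cons, List.map_nil, List.prod_cons, List.prod_nil, mul_one, e1, e2, e3,
      e4, e5, e6, e7, hc] at h
    exact h
  intro i hi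
  interval_cases i
  · exact h0
  · rw [e1]; exact h0
  · rw [e2]; exact h0
  · rw [e3]; exact h0
  · rw [e4]; exact h0
  · rw [e5]; exact h0
  · rw [e6]; exact h0
  · rw [e7]; exact h0
  · rw [e8]; exact h0

end perfect

theorem pc3_perfect : commutator PC3 = ⊤ := by
  let φ : PC3 →* Abelianization PC3 := Abelianization.of
  have hall := p3_ab_trivial (fun i => φ (pc3 i))
    (fun i => by
      by_cases hi : i < 9
      · rw [← map_mul, pc3_sq i hi, map_one]
      · -- letters `≥ 9` are the letter `i`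
        have : pc3 i = pc3 8 := by
          unfold pc3
          have : gen i = gen 8 := by
            unfold gen
            rcases i with _ | _ | _ | _ | _ | _ | _ | _ | _ | i <;> first | omega | rfl
          rw [this]
        rw [this, ← map_mul, pc3_sq 8 (by norm_num), map_one])
    (fun w hw => by
      have h := wv_pc3_eq_one w hw
      have h2 := congrArg φ h
      rw [map_wv, map_one] at h2
      exact h2)
  rw [eq_top_iff, ← pc3_gen, Subgroup.closure_le]
  rintro _ ⟨i, hi, rfl⟩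
  have h := hall i hi
  rw [SetLike.mem_coe, ← Abelianization.ker_of, MonoidHom.mem_ker]
  exact h

/-! ### The statement -/

/-- **P3** (the presented triple cover `PC3`): everything `stem_of_cover` needs except `z3 ≠ 1`. -/
theorem cover3_facts :
    Subgroup.closure {x : PC3 | ∃ i < 9, x = pc3 i} = ⊤ ∧
    z3 ∈ Subgroup.center PC3 ∧ z3 ^ 3 = 1 ∧
    (∃ π : PC3 →* FG, (∀ i < 9, π (pc3 i) = fg i) ∧ π z3 = 1) ∧
    (∀ i < 9, pc3 i * pc3 i ∈ Subgroup.zpowers z3) ∧
    (∀ w ∈ Cfsg.Agent.Lib.H17.Fi22Glue.relW, wv pc3 w ∈ Subgroup.zpowers z3) ∧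
    commutator PC3 = ⊤ := by
  refine ⟨pc3_gen, z3_central, z3_cube, ⟨piC3, fun i _ => piC3_pc3 i, ?_⟩, ?_, ?_, pc3_perfect⟩
  · unfold z3
    rw [piC3_wv]
    exact wv_fg_relW zw3 p3_zw_mem
  · intro i hi
    rw [pc3_sq i hi]
    exact one_mem _
  · intro w hw
    rcases p3_relW_cases w hw with h | rfl
    · rw [wv_pc3_eq_one w h]
      exact one_mem _
    · exact Subgroup.mem_zpowers _

end Cfsg.Agent.Lib.H2.Fi22M
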