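import Mathlib
import Cfsg.Prelude.Def_LieExceptional

/-!
# S4068 piece ORB (architect helper28): four `Aut(G)`-orbits, non-solvable ⇒ every nontrivial element
has prime order and `|G|` has exactly three prime factors.
-/

set_option autoImplicit false

universe u

namespace Cfsg.Agent.Lib.H2.FourOrb

/-- A nonzero natural number with at most two prime factors is `p ^ a * q ^ b`. -/
theorem eq_two_prime_pows (n : ℕ) (hn : n ≠ 0) (h : n.primeFactors.card ≤ 2) :
    ∃ p q a b : ℕ, p.Prime ∧ q.Prime ∧ n = p ^ a * q ^ b := by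
  have hprod : n = ∏ p ∈ n.primeFactors, p ^ n.factorization p := by
    conv_lhs => rw [← Nat.prod_factorization_pow_eq_self hn]
    rw [Nat.prod_factorization_eq_prod_primeFactors]
  have hcases : n.primeFactors.card = 0 ∨ n.primeFactors.card = 1 ∨ n.primeFactors.card = 2 := by
    omega
  rcases hcases with h0 | h1 | h2
  · rw [Finset.card_eq_zero] at h0
    rw [h0, Finset.prod_empty] at hprod
    exact ⟨2, 3, 0, 0, Nat.prime_two, Nat.prime_three, by simpa using hprod⟩
  · obtain ⟨p, hp⟩ := Finset.card_eq_one.mp h1
    have hpp : p.Prime := Nat.prime_of_mem_primeFactors (by rw [hp]; exact Finset.mem_singleton_self p)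
    rw [hp, Finset.prod_singleton] at hprod
    exact ⟨p, 2, n.factorization p, 0, hpp, Nat.prime_two, by simpa using hprod⟩
  · obtain ⟨p, q, hpq, hS⟩ := Finset.card_eq_two.mp h2
    have hpp : p.Prime := Nat.prime_of_mem_primeFactors (by rw [hS]; simp)
    have hqp : q.Prime := Nat.prime_of_mem_primeFactors (by rw [hS]; simp)
    rw [hS, Finset.prod_pair hpq] at hprod
    exact ⟨p, q, n.factorization p, n.factorization q, hpp, hqp, hprod⟩

theorem epo_of_four_orbits {G : Type u} [Group G] [Finite G]
    (hB : ∀ p q a b : ℕ, p.Prime → q.Prime → Nat.card G = p ^ a * q ^ b → Group.IsSolvable G)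
    (hns : ¬ Group.IsSolvable G)
    (h4 : Nat.card (MulAction.orbitRel.Quotient (MulAut G) G) = 4) :
    (∀ g : G, g ≠ 1 → (orderOf g).Prime) ∧ (Nat.card G).primeFactors.card = 3 := by
  classical
  set Q := MulAction.orbitRel.Quotient (MulAut G) G with hQ
  let _ : Fintype Q := Fintype.ofFinite Q
  -- the order function on orbits
  let ord : Q → ℕ := Quotient.lift (fun g : G => orderOf g) (by
    intro a b hab
    change a ∈ MulAction.orbit (MulAut G) b at hab
    obtain ⟨f, rfl⟩ := hab
    change orderOf (f b) = orderOf b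
    exact MulEquiv.orderOf_eq f b)
  have hord : ∀ g : G, ord (Quotient.mk'' g) = orderOf g := fun g => rfl
  set S := (Nat.card G).primeFactors with hS
  have hcardQ : (Finset.univ : Finset Q).card = 4 := by
    rw [Finset.card_univ, ← Nat.card_eq_fintype_card]; exact h4
  have himg_le : (Finset.univ.image ord).card ≤ 4 := by
    calc (Finset.univ.image ord).card ≤ (Finset.univ : Finset Q).card := Finset.card_image_le
      _ = 4 := hcardQ
  have h1S : (1 : ℕ) ∉ S := by
    intro h
    exact Nat.not_prime_one (Nat.prime_of_mem_primeFactors h)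
  have hsub : insert 1 S ⊆ Finset.univ.image ord := by
    intro m hm
    rw [Finset.mem_insert] at hm
    rw [Finset.mem_image]
    rcases hm with rfl | hm
    · exact ⟨Quotient.mk'' (1 : G), Finset.mem_univ _, by rw [hord, orderOf_one]⟩
    · have hmp : m.Prime := Nat.prime_of_mem_primeFactors hm
      have : Fact m.Prime := ⟨hmp⟩
      obtain ⟨g, hg⟩ := exists_prime_orderOf_dvd_card' m (Nat.dvd_of_mem_primeFactors hm)
      exact ⟨Quotient.mk'' g, Finset.mem_univ _, by rw [hord, hg]⟩
  have hcardins : (insert 1 S).card = S.card + 1 := Finset.card_insert_of_notMem h1S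
  have hSle : S.card ≤ 3 := by
    have := (Finset.card_le_card hsub).trans himg_le
    omega
  have hSge : 3 ≤ S.card := by
    by_contra hlt
    obtain ⟨p, q, a, b, hp, hq, hn⟩ :=
      eq_two_prime_pows (Nat.card G) Nat.card_pos.ne' (by
        have h2 : S.card ≤ 2 := by omega
        exact h2)
    exact hns (hB p q a b hp hq hn)
  have hS3 : S.card = 3 := le_antisymm hSle hSge
  have himg : insert 1 S = Finset.univ.image ord :=
    Finset.eq_of_subset_of_card_le hsub (by rw [hcardins, hS3]; exact himg_le)
  refine ⟨?_, hS3⟩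
  intro g hg
  have hmem : orderOf g ∈ insert 1 S := by
    rw [himg, Finset.mem_image]
    exact ⟨Quotient.mk'' g, Finset.mem_univ _, hord g⟩
  rw [Finset.mem_insert] at hmem
  rcases hmem with h1 | hmem
  · exact absurd (orderOf_eq_one_iff.mp h1) hg
  · exact Nat.prime_of_mem_primeFactors hmem

end Cfsg.Agent.Lib.H2.FourOrb
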