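import Mathlib
import Cfsg.Prelude.Def_LieExceptional

/-!
# S4068 piece SYL (architect helper28): in a non-solvable CN-group all of whose nontrivial elements
have prime order, a Sylow 2-subgroup is neither cyclic nor normal.
-/

set_option autoImplicit false

universe u

namespace Cfsg.Agent.Lib.H2.FourOrb

open Subgroup

/-- An extension of a solvable group by a solvable group is solvable. -/
theorem solvable_of_normal {G : Type u} [Group G] (N : Subgroup G) [N.Normal]
    (hN : Group.IsSolvable N) (hQ : Group.IsSolvable (G ⧸ N)) : Group.IsSolvable G := by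
  refine Group.isSolvable_of_ker_le_range N.subtype (QuotientGroup.mk' N) ?_
  rw [QuotientGroup.ker_mk', Subgroup.range_subtype]

/-- A subgroup of a CN-group is a CN-group. -/
theorem cn_subgroup {G : Type u} [Group G] (hcn : Cfsg.IsCNGroup G) (K : Subgroup G) :
    Cfsg.IsCNGroup K := by
  intro k hk
  have hk' : (k : G) ≠ 1 := fun h => hk (Subtype.ext h)
  have : Group.IsNilpotent (Subgroup.centralizer ({(k : G)} : Set G)) := hcn (k : G) hk'
  -- the inclusion of the centralizer in `K` into the centralizer in `G`
  let f : Subgroup.centralizer ({k} : Set K) →* Subgroup.centralizer ({(k : G)} : Set G) :=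
    { toFun := fun x => ⟨((x : K) : G), by
        have hx := x.2
        rw [Subgroup.mem_centralizer_iff] at hx ⊢
        intro y hy
        rw [Set.mem_singleton_iff] at hy
        subst hy
        have := hx k (Set.mem_singleton k)
        exact congrArg Subtype.val this⟩
      map_one' := rfl
      map_mul' := fun _ _ => rfl }
  have hinj : Function.Injective f := by
    intro x y hxy
    apply Subtype.ext
    apply Subtype.ext
    exact congrArg (fun z : Subgroup.centralizer ({(k : G)} : Set G) => (z : G)) hxy
  exact Subgroup.isNilpotent_of_ker_le_center f (by rw [(MonoidHom.ker_eq_bot_iff f).mpr hinj]; exact bot_le)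

theorem sylow_two {G : Type u} [Group G] [Finite G]
    (hepo : ∀ g : G, g ≠ 1 → (orderOf g).Prime) (hcn : Cfsg.IsCNGroup G)
    (hodd : ∀ (K : Type u) [Group K] [Finite K], Odd (Nat.card K) → Cfsg.IsCNGroup K →
      Group.IsSolvable K)
    (hquot : ∀ (H : Subgroup G) [H.Normal], Group.IsSolvable H → Cfsg.IsCNGroup (G ⧸ H))
    (hns : ¬ Group.IsSolvable G) (T : Sylow 2 G) :
    ¬ IsCyclic (T : Subgroup G) ∧ ¬ (T : Subgroup G).Normal := by
  classical
  have : Fact (Nat.Prime 2) := ⟨Nat.prime_two⟩
  -- (i) the order of `G` is even
  have heven : 2 ∣ Nat.card G := by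
    by_contra h
    exact hns (hodd G (Nat.odd_iff.mpr (Nat.two_dvd_ne_zero.mp h)) hcn)
  have hTodd : Odd (T : Subgroup G).index := by
    rw [Nat.odd_iff]
    exact Nat.two_dvd_ne_zero.mp T.not_dvd_index
  have hTsolv : Group.IsSolvable (T : Subgroup G) := by
    have : Group.IsNilpotent (T : Subgroup G) := T.2.isNilpotent
    infer_instance
  refine ⟨?_, ?_⟩
  · -- (iii) not cyclic
    intro hcyc
    -- every element of `T` has order 1 or 2
    have hord : ∀ t : G, t ∈ (T : Subgroup G) → t ≠ 1 → orderOf t = 2 := by
      intro t ht ht1
      obtain ⟨k, hk⟩ := T.2 ⟨t, ht⟩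
      have hk' : t ^ 2 ^ k = 1 := by
        have := congrArg (fun x : (T : Subgroup G) => (x : G)) hk
        simpa using this
      have hdvd : orderOf t ∣ 2 ^ k := orderOf_dvd_of_pow_eq_one hk'
      have hp := hepo t ht1
      exact (Nat.prime_dvd_prime_iff_eq hp Nat.prime_two).mp (hp.dvd_of_dvd_pow hdvd)
    -- `T` has order 2
    have hT2 : Nat.card (T : Subgroup G) = 2 := by
      obtain ⟨t, ht⟩ := hcyc.exists_generator
      have hcard : Nat.card (T : Subgroup G) = orderOf t :=
        (orderOf_eq_card_of_forall_mem_zpowers ht).symm
      have h2T : 2 ∣ Nat.card (T : Subgroup G) := by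
        rw [T.card_eq_multiplicity]
        have hpos : 0 < (Nat.card G).factorization 2 :=
          Nat.Prime.factorization_pos_of_dvd Nat.prime_two Nat.card_pos.ne' heven
        exact dvd_pow_self 2 hpos.ne'
      have ht1 : (t : G) ≠ 1 := by
        intro h
        have : t = 1 := Subtype.ext h
        rw [this, orderOf_one] at hcard
        rw [hcard] at h2T
        omega
      rw [hcard, ← Subgroup.orderOf_coe]
      exact hord t t.2 ht1
    -- the normalizer of `T` centralizes `T`
    have hNC : Subgroup.normalizer ((T : Subgroup G) : Set G) ≤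
        Subgroup.centralizer ((T : Subgroup G) : Set G) := by
      intro n hn
      rw [Subgroup.mem_centralizer_iff]
      intro t ht
      by_cases ht1 : t = 1
      · subst ht1; simp
      · have hnt : n * t * n⁻¹ ∈ (T : Subgroup G) := (Subgroup.mem_normalizer_iff.mp hn t).mp ht
        have hnt1 : n * t * n⁻¹ ≠ 1 := by
          intro h
          apply ht1
          have : t = n⁻¹ * (n * t * n⁻¹) * n := by group
          rw [this, h]; group
        -- both `t` and `n t n⁻¹` are the unique nontrivial element of `T`
        have huniq : ∀ a b : G, a ∈ (T : Subgroup G) → b ∈ (T : Subgroup G) → a ≠ 1 → b ≠ 1 →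
            a = b := by
          intro a b ha hb ha1 hb1
          by_contra hab
          have h3 : 3 ≤ Nat.card (T : Subgroup G) := by
            have hinj : Function.Injective
                (![⟨1, (T : Subgroup G).one_mem⟩, ⟨a, ha⟩, ⟨b, hb⟩] : Fin 3 → (T : Subgroup G)) := by
              intro i j hij
              fin_cases i <;> fin_cases j <;>
                simp_all [Subtype.ext_iff, eq_comm]
            simpa using Nat.card_le_card_of_injective _ hinj
          omega
        have := huniq _ _ hnt ht hnt1 ht1
        calc t * n = (n * t * n⁻¹) * n := by rw [this]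
          _ = n * t := by group
    -- Burnside's transfer
    have hcompl := MonoidHom.ker_transferSylow_isComplement' T hNC
    set K := (MonoidHom.transferSylow T hNC).ker with hK
    have hKodd : Odd (Nat.card K) := by
      rw [← hcompl.index_eq_card]; exact hTodd
    have hKsolv : Group.IsSolvable K := hodd K hKodd (cn_subgroup hcn K)
    have hQ2 : Nat.card (G ⧸ K) = 2 := by
      rw [← Subgroup.index_eq_card, hcompl.symm.index_eq_card, hT2]
    have hQsolv : Group.IsSolvable (G ⧸ K) := by
      have : Fact (Nat.Prime 2) := ⟨Nat.prime_two⟩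
      have : IsCyclic (G ⧸ K) := isCyclic_of_prime_card hQ2
      exact Group.isSolvable_of_comm (fun a b => mul_comm' a b)
    exact hns (solvable_of_normal K hKsolv hQsolv)
  · -- (iv) not normal
    intro hnorm
    have := hnorm
    have hcnQ : Cfsg.IsCNGroup (G ⧸ (T : Subgroup G)) := hquot (T : Subgroup G) hTsolv
    have hQodd : Odd (Nat.card (G ⧸ (T : Subgroup G))) := by
      rw [← Subgroup.index_eq_card]; exact hTodd
    exact hns (solvable_of_normal (T : Subgroup G) hTsolv (hodd _ hQodd hcnQ))

end Cfsg.Agent.Lib.H2.FourOrb
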