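import Cfsg.Agent.Lib.H16.G24M.Base
import Cfsg.Prelude.Def_KGroupFacts

set_option autoImplicit false
set_option maxRecDepth 100000

/-!
# S2102 (`M(G2(4)) = C2`), piece LB (helper16 architect): the double cover exists

`P3 = ⟨a, b, c | PE exact, ZL central⟩` is a finite stem extension of a group `G` with the `Base` data, with kernel of
order two, given a model of the presentation in which the word `uW` is nontrivial.
-/

namespace Cfsg.Agent.Lib.H2.G24LB

open Cfsg.Agent.Lib.H16.G24M
open Cfsg.Agent.Lib.H12.J3M (gl2 wv2 gl3 wv3 map_wv2 map_wv3 wv3_eq_wv2 wv2_mem wv2_replicate0)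
open FreeGroup Subgroup
open scoped commutatorElement

/-! ## The presented group -/

/-- the word in the free group -/
def wF3 (w : List ℕ) : FreeGroup (Fin 3) := wv3 (of 0) (of 1) (of 2) w

/-- the relators: the exact words and the commutators of the central words with the generators -/
def rels3 : Set (FreeGroup (Fin 3)) :=
  {r | (∃ w ∈ PE, r = wF3 w) ∨ (∃ w ∈ ZL, ∃ i : Fin 3, r = wF3 w * of i * (wF3 w)⁻¹ * (of i)⁻¹)}

/-- the presented group -/
abbrev P3 : Type := PresentedGroup rels3

/-- the generators of `P3` -/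
def qa : P3 := PresentedGroup.of 0
/-- the generators of `P3` -/
def qb : P3 := PresentedGroup.of 1
/-- the generators of `P3` -/
def qc : P3 := PresentedGroup.of 2

theorem mk_wF3 (w : List ℕ) : PresentedGroup.mk rels3 (wF3 w) = wv3 qa qb qc w := by
  unfold wF3
  rw [map_wv3]
  rfl

theorem lift_wF3 {K : Type*} [Group K] (f : Fin 3 → K) (w : List ℕ) :
    FreeGroup.lift f (wF3 w) = wv3 (f 0) (f 1) (f 2) w := by
  unfold wF3
  rw [map_wv3]
  simp only [FreeGroup.lift_apply_of]

theorem P3_exact : ∀ w ∈ PE, wv3 qa qb qc w = 1 := by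
  intro w hw
  rw [← mk_wF3]
  exact (PresentedGroup.one_of_mem (Or.inl ⟨w, hw, rfl⟩))

theorem P3_comm : ∀ w ∈ ZL, ∀ i : Fin 3,
    wv3 qa qb qc w * (PresentedGroup.of i : P3) = PresentedGroup.of i * wv3 qa qb qc w := by
  intro w hw i
  rw [← mk_wF3]
  have : PresentedGroup.mk rels3 (wF3 w * of i * (wF3 w)⁻¹ * (of i)⁻¹) = 1 :=
    PresentedGroup.one_of_mem (Or.inr ⟨w, hw, i, rfl⟩)
  rw [_root_.map_mul, _root_.map_mul, _root_.map_mul, _root_.map_inv, _root_.map_inv] at this
  have h2 : PresentedGroup.mk rels3 (wF3 w) * PresentedGroup.mk rels3 (of i) =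
      PresentedGroup.mk rels3 (of i) * PresentedGroup.mk rels3 (wF3 w) := by
    rw [mul_inv_eq_one, mul_inv_eq_iff_eq_mul] at this
    exact this
  exact h2

theorem P3_gen : closure {qa, qb, qc} = (⊤ : Subgroup P3) := by
  have h := PresentedGroup.closure_range_of rels3
  rw [eq_top_iff, ← h, closure_le]
  rintro _ ⟨i, rfl⟩
  apply Subgroup.subset_closure
  fin_cases i
  · left; rfl
  · right; left; rfl
  · right; right; rfl

/-- the central words are central in `P3` -/
theorem P3_central : ∀ w ∈ ZL, wv3 qa qb qc w ∈ center P3 := by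
  intro w hw
  have hcen : centralizer {wv3 qa qb qc w} = ⊤ := by
    rw [eq_top_iff, ← P3_gen, closure_le]
    intro g hg
    have key : ∀ i : Fin 3, (PresentedGroup.of i : P3) ∈ centralizer {wv3 qa qb qc w} := by
      intro i
      rw [mem_centralizer_iff]
      intro h hh
      rw [Set.mem_singleton_iff] at hh
      subst hh
      exact P3_comm w hw i
    simp only [Set.mem_insert_iff, Set.mem_singleton_iff] at hg
    rcases hg with rfl | rfl | rfl
    · exact key 0
    · exact key 1
    · exact key 2
  rw [mem_center_iff]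
  intro g
  have hg : g ∈ centralizer {wv3 qa qb qc w} := by rw [hcen]; trivial
  rw [mem_centralizer_iff] at hg
  exact (hg _ rfl).symm

/-- a homomorphism from `P3` -/
def homP3 {K : Type*} [Group K] (x y z : K) (hex : ∀ w ∈ PE, wv3 x y z w = 1)
    (hcen : ∀ w ∈ ZL, ∀ i : Fin 3, wv3 x y z w * ![x, y, z] i = ![x, y, z] i * wv3 x y z w) :
    P3 →* K :=
  PresentedGroup.toGroup (f := ![x, y, z]) (by
    intro r hr
    rcases hr with ⟨w, hw, rfl⟩ | ⟨w, hw, i, rfl⟩
    · rw [lift_wF3]
      exact hex w hw
    · rw [_root_.map_mul, _root_.map_mul, _root_.map_mul, _root_.map_inv, _root_.map_inv, lift_wF3,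
        mul_inv_eq_one, mul_inv_eq_iff_eq_mul, FreeGroup.lift_apply_of]
      exact hcen w hw i)

section hom

variable {K : Type*} [Group K] (x y z : K) (hex : ∀ w ∈ PE, wv3 x y z w = 1)
    (hcen : ∀ w ∈ ZL, ∀ i : Fin 3, wv3 x y z w * ![x, y, z] i = ![x, y, z] i * wv3 x y z w)

theorem homP3_qa : homP3 x y z hex hcen qa = x := by
  unfold homP3 qa
  rw [PresentedGroup.toGroup.of]
  rfl

theorem homP3_qb : homP3 x y z hex hcen qb = y := by
  unfold homP3 qb
  rw [PresentedGroup.toGroup.of]
  rfl

theorem homP3_qc : homP3 x y z hex hcen qc = z := by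
  unfold homP3 qc
  rw [PresentedGroup.toGroup.of]
  rfl

theorem homP3_wv (w : List ℕ) : homP3 x y z hex hcen (wv3 qa qb qc w) = wv3 x y z w := by
  rw [map_wv3, homP3_qa, homP3_qb, homP3_qc]

end hom

/-! ## Facts about the lists -/

theorem c1_lt : ∀ w ∈ C1.exactL ++ (C1.symL ++ C1.cenL), ∀ x ∈ w, x < 4 := by decide +kernel

theorem c1_mem_PE : ∀ w ∈ C1.exactL ++ (C1.symL ++ C1.cenL), w ∈ PE := by
  intro w hw
  rcases List.mem_append.mp hw with h | h
  · have : ∀ v ∈ C1.exactL, v ∈ C2.exactL := by decide +kernel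
    exact List.mem_append_left _ (this w h)
  · exact List.mem_append_right _ (List.mem_append_left _ h)

theorem a13_mem : List.replicate 13 0 ∈ C2.exactL := by decide +kernel

theorem b13_mem : List.replicate 13 2 ∈ C2.exactL := by decide +kernel

theorem xa_mem : xaW ∈ PE :=
  List.mem_append_right _ (List.mem_append_right _ (List.mem_append_left _ (by simp [xL])))

theorem xb_mem : xbW ∈ PE :=
  List.mem_append_right _ (List.mem_append_right _ (List.mem_append_left _ (by simp [xL])))

theorem xc_mem : xcW ∈ PE :=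
  List.mem_append_right _ (List.mem_append_right _ (List.mem_append_left _ (by simp [xL])))

theorem sq_mem : ∀ w ∈ C2.symL, w ++ w ∈ PE := by
  intro w hw
  refine List.mem_append_right _ (List.mem_append_right _ (List.mem_append_right _ ?_))
  exact List.mem_map.mpr ⟨w, hw, rfl⟩

theorem uW_mem : uW ∈ ZL := List.mem_append_left _ (by decide)

/-! ## Perfectness -/

section perfect

variable {K : Type*} [Group K] (x y z : K)

theorem mem_commutator_of_conj_pow (t a : K) (h13 : a ^ 13 = 1) (h : t * a * t⁻¹ = a ^ 9) :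
    a ∈ commutator K := by
  have hc : ⁅t, a⁆ ∈ commutator K :=
    Subgroup.commutator_mem_commutator (Subgroup.mem_top t) (Subgroup.mem_top a)
  have e : ⁅t, a⁆ = a ^ 8 := by
    rw [commutatorElement_def, h]
    group
  rw [e] at hc
  have e2 : a = (a ^ 8) ^ 5 * ((a ^ 13) ^ 3)⁻¹ := by group
  rw [e2, h13, one_pow, inv_one, mul_one]
  exact pow_mem hc 5

theorem perfect_of_rels (hex : ∀ w ∈ PE, wv3 x y z w = 1) (hgen : closure {x, y, z} = (⊤ : Subgroup K)) :
    commutator K = ⊤ := by
  have ha13 : x ^ 13 = 1 := by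
    have := hex _ (List.mem_append_left _ a13_mem)
    rwa [wv3_replicate0] at this
  have hb13 : y ^ 13 = 1 := by
    have := hex _ (List.mem_append_left _ b13_mem)
    rwa [wv3_replicate2] at this
  have hxa := (xaW_iff x y z).mp (hex _ xa_mem)
  have hxb := (xbW_iff x y z).mp (hex _ xb_mem)
  have hxc := (xcW_iff x y z).mp (hex _ xc_mem)
  have hx : x ∈ commutator K := mem_commutator_of_conj_pow _ x ha13 hxa
  have hy : y ∈ commutator K := mem_commutator_of_conj_pow _ y hb13 hxb
  have hz : z ∈ commutator K := by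
    rw [← hxc]
    have hn : (commutator K).Normal := inferInstance
    have := hn.conj_mem x hx (wv3 x y z w0W)⁻¹
    rwa [inv_inv] at this
  rw [eq_top_iff, ← hgen, closure_le]
  intro g hg
  simp only [Set.mem_insert_iff, Set.mem_singleton_iff] at hg
  rcases hg with rfl | rfl | rfl
  · exact hx
  · exact hy
  · exact hz

end perfect

/-! ## The cover -/

/-- **LB**: the presented group `⟨a, b, c | PE exact, ZL central⟩` is a double cover of `G`, given a model
`M` of the presentation in which the word `uW` is nontrivial. -/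
theorem exists_cover {G : Type} [Group G] {am bm cm : G} (B : Base am bm cm)
    (hU : 62400 ≤ Nat.card (Subgroup.closure ({am, bm} : Set G)))
    {M : Type} [Group M] (x y z : M) (hE : ∀ w ∈ PE, wv3 x y z w = 1)
    (hZ : ∀ w ∈ ZL, ∀ i : Fin 3, wv3 x y z w * ![x, y, z] i = ![x, y, z] i * wv3 x y z w)
    (hu : wv3 x y z uW ≠ 1) :
    ∃ (Γ : Type) (_ : Group Γ) (_ : Finite Γ) (σ : Γ →* G),
      Cfsg.IsStemExtension σ ∧ 2 ∣ Nat.card σ.ker := by
  have hfinG : Finite G := Nat.finite_of_card_ne_zero (by rw [B.card]; norm_num)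
  -- the relators hold in `G`
  have hZG : ∀ w ∈ ZL, wv3 am bm cm w = 1 := fun w hw => B.rel2 w (List.mem_append_right _ hw)
  have hexG : ∀ w ∈ PE, wv3 am bm cm w = 1 := by
    intro w hw
    rcases List.mem_append.mp hw with h | h
    · exact B.rel2 w (List.mem_append_left _ h)
    · rcases List.mem_append.mp h with h | h
      · rw [wv3_eq_wv2 am bm cm w (c1_lt w (List.mem_append_right _ h))]
        exact B.rel1 w (List.mem_append_right _ h)
      · rcases List.mem_append.mp h with h | h
        · exact B.relx w h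
        · obtain ⟨v, hv, rfl⟩ := List.mem_map.mp h
          rw [wv3_append, B.rel2 v (List.mem_append_right _ (List.mem_append_left _ hv)), one_mul]
  -- the two homomorphisms
  let σ : P3 →* G := homP3 am bm cm hexG (fun w hw i => by rw [hZG w hw, one_mul, mul_one])
  have hσa : σ qa = am := homP3_qa _ _ _ _ _
  have hσb : σ qb = bm := homP3_qb _ _ _ _ _
  have hσc : σ qc = cm := homP3_qc _ _ _ _ _
  have hσw : ∀ w, σ (wv3 qa qb qc w) = wv3 am bm cm w := fun w => homP3_wv _ _ _ _ _ w
  have hs : Function.Surjective σ := by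
    rw [← MonoidHom.range_eq_top, eq_top_iff, ← B.gen, closure_le]
    intro g hg
    simp only [Set.mem_insert_iff, Set.mem_singleton_iff] at hg
    rcases hg with rfl | rfl | rfl
    · exact ⟨qa, hσa⟩
    · exact ⟨qb, hσb⟩
    · exact ⟨qc, hσc⟩
  let μ : P3 →* M := homP3 x y z hE hZ
  have hμw : ∀ w, μ (wv3 qa qb qc w) = wv3 x y z w := fun w => homP3_wv _ _ _ _ _ w
  -- stage 1 inside `K0`
  set K0 : Subgroup P3 := closure {qa, qb} with hK0
  have haK : qa ∈ K0 := Subgroup.subset_closure (by simp)
  have hbK : qb ∈ K0 := Subgroup.subset_closure (by simp)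
  let ga1 : ↥K0 := ⟨qa, haK⟩
  let gb1 : ↥K0 := ⟨qb, hbK⟩
  have hcoe : ∀ w, ((wv2 ga1 gb1 w : ↥K0) : P3) = wv2 qa qb w := fun w =>
    map_wv2 K0.subtype ga1 gb1 w
  have hone1 : ∀ w ∈ C1.exactL ++ (C1.symL ++ C1.cenL), wv2 ga1 gb1 w = 1 := by
    intro w hw
    apply Subtype.ext
    rw [hcoe, ← wv3_eq_wv2 qa qb qc w (c1_lt w hw)]
    exact P3_exact w (c1_mem_PE w hw)
  have hga13 : ga1 ^ 13 = 1 := by
    have := hone1 (List.replicate 13 0) (List.mem_append_left _ (by decide))
    rwa [wv2_replicate0] at this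
  have S1 : Setting1 ga1 gb1 (⊥ : Subgroup ↥K0) :=
    { central := bot_le
      disj := fun x _ hx => Subgroup.mem_bot.mp hx
      exact := fun w hw => hone1 w (List.mem_append_left _ hw)
      rel := fun w hw => by rw [hone1 w (List.mem_append_right _ hw)]; exact one_mem _
      gen := by
        have h := Subgroup.closure_closure_coe_preimage (k := ({qa, qb} : Set P3))
        convert h using 2
        ext x
        simp only [Set.mem_insert_iff, Set.mem_singleton_iff, Set.mem_preimage]
        constructor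
        · rintro (rfl | rfl)
          · left; rfl
          · right; rfl
        · rintro (h | h)
          · left; exact Subtype.ext h
          · right; exact Subtype.ext h
      tors := fun z hz => by rw [Subgroup.mem_bot.mp hz, one_pow] }
  obtain ⟨hfinQ1, hq1⟩ := mono_main1 S1
  have hfinH1 : Finite (closure ({ga1} : Set ↥K0)) := by
    rw [← zpowers_eq_closure]
    exact Nat.finite_of_card_ne_zero (by
      rw [Nat.card_zpowers]
      exact (orderOf_pos_iff.2 (isOfFinOrder_iff_pow_eq_one.2 ⟨13, by norm_num, hga13⟩)).ne')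
  have hfinK0 : Finite ↥K0 :=
    Finite.of_equiv _ (Subgroup.groupEquivQuotientProdSubgroup (s := closure ({ga1} : Set ↥K0))).symm
  have hcardK0 : Nat.card ↥K0 ≤ 62400 := by
    have h1 := Subgroup.card_eq_card_quotient_mul_card_subgroup (closure ({ga1} : Set ↥K0))
    have h2 : Nat.card (closure ({ga1} : Set ↥K0)) ≤ 13 := by
      rw [← zpowers_eq_closure, Nat.card_zpowers]
      exact Nat.le_of_dvd (by norm_num) (orderOf_dvd_of_pow_eq_one hga13)
    calc Nat.card ↥K0 = _ := h1
      _ ≤ 4800 * 13 := Nat.mul_le_mul hq1 h2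
      _ = 62400 := by norm_num
  -- `σ` is injective on `K0`
  have hmap : K0.map σ = closure ({am, bm} : Set G) := by
    rw [hK0, MonoidHom.map_closure, Set.image_insert_eq, Set.image_singleton, hσa, hσb]
  have hinj : ∀ x ∈ K0, σ x = 1 → x = 1 := by
    let τ : ↥K0 →* G := σ.comp K0.subtype
    have hsurj : Function.Surjective τ.rangeRestrict := MonoidHom.rangeRestrict_surjective _
    have hrange : τ.range = closure ({am, bm} : Set G) := by
      rw [MonoidHom.range_eq_map, ← Subgroup.map_map, ← MonoidHom.range_eq_map, Subgroup.range_subtype,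
        hmap]
    have hcard : Nat.card ↥K0 ≤ Nat.card τ.range := by
      rw [hrange]
      exact le_trans hcardK0 hU
    have hbij := Function.Surjective.bijective_of_nat_card_le hsurj hcard
    intro x hx hx1
    have h1 : τ.rangeRestrict ⟨x, hx⟩ = τ.rangeRestrict 1 := by
      rw [_root_.map_one]
      exact Subtype.ext hx1
    exact congrArg Subtype.val (hbij.1 h1)
  -- stage 2
  have S2 : Setting2 qa qb qc (σ.ker ⊓ center P3) :=
    { central := inf_le_right
      disj := fun x hx hxA => hinj x hx (MonoidHom.mem_ker.mp hxA.1)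
      exact := fun w hw => P3_exact w (List.mem_append_left _ hw)
      rel := by
        intro w hw
        exact Subgroup.mem_inf.mpr ⟨MonoidHom.mem_ker.mpr (by rw [hσw]; exact hZG w hw), P3_central w hw⟩
      gen := P3_gen
      tors := by
        intro w hw
        have h2 : (wv3 qa qb qc w) ^ 2 = 1 := by
          have := P3_exact _ (sq_mem w hw)
          rwa [wv3_append, ← pow_two] at this
        rw [show 2764800 = 2 * 1382400 from rfl, pow_mul, h2, one_pow] }
  obtain ⟨huA, hu2, hfinQ, hq⟩ := mono_main2 S2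
  set u : P3 := (wv3 qa qb qc uW)⁻¹ with hudef
  -- `P3` is finite
  have hfinK0' : Finite (closure ({qa, qb} : Set P3)) := hfinK0
  have hfinP : Finite P3 :=
    Finite.of_equiv _ (Subgroup.groupEquivQuotientProdSubgroup (s := closure ({qa, qb} : Set P3))).symm
  -- the order of `u`
  have hu1 : u ≠ 1 := by
    intro h
    apply hu
    have : μ u = 1 := by rw [h, _root_.map_one]
    rw [hudef, _root_.map_inv, hμw, inv_eq_one] at this
    exact this
  have hou : orderOf u = 2 := orderOf_eq_prime hu2 hu1
  -- counting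
  have h1 : Nat.card P3 = Nat.card (P3 ⧸ closure ({qa, qb} : Set P3)) * Nat.card (closure ({qa, qb} : Set P3)) :=
    Subgroup.card_eq_card_quotient_mul_card_subgroup _
  have h2 : Nat.card P3 = Nat.card σ.ker * Nat.card G := by
    rw [← Subgroup.card_mul_index σ.ker, Subgroup.index_ker, MonoidHom.range_eq_top.2 hs,
      Subgroup.card_top]
  have h3 : Nat.card σ.ker * 251596800 ≤ 2 * 251596800 := by
    calc Nat.card σ.ker * 251596800 = Nat.card P3 := by rw [h2, B.card]
      _ = _ := h1
      _ ≤ (4032 * orderOf u) * 62400 := Nat.mul_le_mul hq hcardK0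
      _ = 2 * 251596800 := by rw [hou]
  have h4 : Nat.card σ.ker ≤ 2 := Nat.le_of_mul_le_mul_right h3 (by norm_num)
  have hle : zpowers u ≤ σ.ker := by rw [zpowers_le]; exact huA.1
  have hker : σ.ker = zpowers u := by
    symm
    apply Subgroup.eq_of_le_of_card_ge hle
    rw [Nat.card_zpowers, hou]
    exact h4
  have hkc : σ.ker ≤ center P3 := by
    rw [hker, zpowers_le]
    exact huA.2
  have hperf : commutator P3 = ⊤ := perfect_of_rels qa qb qc P3_exact P3_gen
  refine ⟨P3, inferInstance, hfinP, σ, ⟨hs, hkc, by rw [hperf]; exact le_top⟩, ?_⟩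
  rw [hker, Nat.card_zpowers, hou]

end Cfsg.Agent.Lib.H2.G24LB
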