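import Cfsg.Agent.Lib.H2.G85C23b
import Cfsg.Agent.Lib.H19.G85ABS

/-!
# S4385 piece (C23): the case `(q,t) = (2,3)` gives `S4` (helper2), exact sig of `tools/blueprints/S4385_sigs.lean`
-/

set_option autoImplicit false
open scoped Pointwise
open Cfsg.Agent.Lib.H5.Glaub Cfsg.Agent.Lib.H5.Glaub.Setup Cfsg.Agent.Lib.H1.G85

namespace Cfsg.Agent.Lib.H2.G85

variable {G : Type*} [Group G] [Finite G]

/-- (C23) `(q,t) = (2,3)`. -/
theorem case23 (S : Setup G) (hp2 : S.p = 2) (hU : S.Uni 3) (hI : S.Ivl 3) (hD : S.Dist 3 2) (hC : S.Cen 3 2)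
    (x : ℤ → G) (hx : Gen S 3 x) (hodd : ¬ 2 ∣ (S.Pj 0).relIndex (H0 S)) :
    Nonempty (↥(H0 S) ⧸ Cfsg.oddCore ↥(H0 S) ≃* Equiv.Perm (Fin 4)) :=
  case23_core S hp2 hU hD x hx hodd
    (fun Q P _ hQP hP hPs hQc hCP => Cfsg.Agent.Lib.H19.G85.quot_facts Q P hQP hP hPs hQc hCP)

end Cfsg.Agent.Lib.H2.G85
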