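import Cfsg.Agent.Lib.H5.Glaub.Defs

/-!
# S4359 piece (UNI): the chain `J(i,n) = P_i ∩ … ∩ P_(i+n)` is uniserial (helper2)

Blueprint: `tools/blueprints/S4359.md`, section (UNI).
-/

set_option autoImplicit false
open scoped Pointwise
open Cfsg.Agent.Lib.H5.Glaub Cfsg.Agent.Lib.H5.Glaub.Setup

namespace Cfsg.Agent.Lib.H2.Glaub

variable {G : Type*} [Group G] [Finite G]

theorem uni_card_mul_relIndex {A C : Subgroup G} (h : A ≤ C) :
    Nat.card A * A.relIndex C = Nat.card C := by
  have := Subgroup.relIndex_mul_relIndex ⊥ A C bot_le h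
  rwa [Subgroup.relIndex_bot_left, Subgroup.relIndex_bot_left] at this

/-- two different subgroups of order `p^k` of a group of order `p^(k+1)` generate it -/
theorem uni_sup_eq {p k : ℕ} (hp : p.Prime) {A B C : Subgroup G} (hA : A ≤ C) (hB : B ≤ C)
    (hne : A ≠ B) (cA : Nat.card A = p ^ k) (cB : Nat.card B = p ^ k)
    (cC : Nat.card C = p ^ (k + 1)) : A ⊔ B = C := by
  have hle : A ⊔ B ≤ C := sup_le hA hB
  apply Subgroup.eq_of_le_of_card_ge hle
  have h1 : Nat.card A ∣ Nat.card (A ⊔ B : Subgroup G) := Subgroup.card_dvd_of_le le_sup_left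
  have h2 : Nat.card (A ⊔ B : Subgroup G) ∣ Nat.card C := Subgroup.card_dvd_of_le hle
  rw [cC] at h2 ⊢
  rw [cA] at h1
  obtain ⟨j, hj, hj2⟩ := (Nat.dvd_prime_pow hp).1 h2
  rw [hj2] at h1 ⊢
  have hkj : k ≤ j := (Nat.pow_dvd_pow_iff_le_right hp.one_lt).1 h1
  have hjk : j ≠ k := by
    intro hjk
    apply hne
    have e1 : A = A ⊔ B := Subgroup.eq_of_le_of_card_ge le_sup_left (by rw [hj2, hjk, cA])
    have e2 : B = A ⊔ B := Subgroup.eq_of_le_of_card_ge le_sup_right (by rw [hj2, hjk, cB])
    exact e1.trans e2.symm
  have : j = k + 1 := by omega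
  rw [this]

/-- two different subgroups of order `p^(k+1)` of a group of order `p^(k+2)` meet in order `p^k` -/
theorem uni_card_inf {p k : ℕ} (hp : p.Prime) {A B C : Subgroup G} (hA : A ≤ C) (hB : B ≤ C)
    (hne : A ≠ B) (cA : Nat.card A = p ^ (k + 1)) (cB : Nat.card B = p ^ (k + 1))
    (cC : Nat.card C = p ^ (k + 2)) : Nat.card (A ⊓ B : Subgroup G) = p ^ k := by
  have h1 : Nat.card (A ⊓ B : Subgroup G) ∣ Nat.card A := Subgroup.card_dvd_of_le inf_le_left
  rw [cA] at h1
  obtain ⟨j, hj, hj2⟩ := (Nat.dvd_prime_pow hp).1 h1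
  have hjne : j ≠ k + 1 := by
    intro h
    apply hne
    have e1 : A ⊓ B = A := Subgroup.eq_of_le_of_card_ge inf_le_left (by rw [hj2, h, cA])
    have e2 : A ⊓ B = B := Subgroup.eq_of_le_of_card_ge inf_le_right (by rw [hj2, h, cB])
    exact e1.symm.trans e2
  have hrA : A.relIndex C = p := by
    have := uni_card_mul_relIndex hA
    rw [cA, cC, pow_succ p (k + 1)] at this
    exact Nat.eq_of_mul_eq_mul_left (pow_pos hp.pos _) this
  have hrB : B.relIndex C = p := by
    have := uni_card_mul_relIndex hB
    rw [cB, cC, pow_succ p (k + 1)] at this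
    exact Nat.eq_of_mul_eq_mul_left (pow_pos hp.pos _) this
  have h3 : (A ⊓ B).relIndex C ≤ A.relIndex C * B.relIndex C := Subgroup.relIndex_inf_le
  rw [hrA, hrB] at h3
  have h4 := uni_card_mul_relIndex (le_trans inf_le_left hA : A ⊓ B ≤ C)
  rw [hj2, cC] at h4
  have h5 : p ^ (k + 2) ≤ p ^ (j + 2) := by
    calc p ^ (k + 2) = p ^ j * (A ⊓ B).relIndex C := h4.symm
      _ ≤ p ^ j * (p * p) := Nat.mul_le_mul_left _ h3
      _ = p ^ (j + 2) := by ring
  have h6 : k + 2 ≤ j + 2 := (Nat.pow_le_pow_iff_right hp.one_lt).1 h5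
  have : j = k := by omega
  rw [hj2, this]

/-- a subgroup of order `p^k` of a group of order `p^(k+1)` is normal in it -/
theorem uni_le_normalizer {p k : ℕ} (hp : p.Prime) {R C : Subgroup G} (hR : R ≤ C)
    (cR : Nat.card R = p ^ k) (cC : Nat.card C = p ^ (k + 1)) :
    C ≤ Subgroup.normalizer (R : Set G) := by
  rw [← Subgroup.normal_subgroupOf_iff_le_normalizer hR]
  apply Subgroup.normal_of_index_eq_minFac_card
  have h1 : Nat.card R * R.relIndex C = Nat.card C := uni_card_mul_relIndex hR
  rw [cR, cC, pow_succ] at h1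
  have h2 : R.relIndex C = p := Nat.eq_of_mul_eq_mul_left (pow_pos hp.pos k) h1
  have h3 : (R.subgroupOf C).index = p := h2
  rw [h3, cC, Nat.Prime.pow_minFac hp (Nat.succ_ne_zero k)]

/-- (UNI) Steps 2-3: `|P_i ∩ ... ∩ P_(i+n)| = p^(t-n)` for `n ≤ t`. -/
theorem uni (S : Setup G) (hP : IsPGroup S.p S.P) : ∃ t : ℕ, S.Uni t := by
  haveI : Fact S.p.Prime := ⟨S.hp⟩
  have hp := S.hp
  obtain ⟨t, ht⟩ := IsPGroup.iff_card.1 hP
  have hcardJ : ∀ (i : ℤ) (n : ℕ), Nat.card (S.J i n) = Nat.card (S.J 0 n) := by
    intro i n
    have := S.conj_J i 0 n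
    rw [add_zero] at this
    rw [← this]
    exact (Nat.card_congr (Subgroup.equivSMul (MulAut.conj (S.h ^ i)) (S.J 0 n)).toEquiv).symm
  have hc0 : Nat.card (S.J 0 0) = S.p ^ t := by rw [S.J_unfold_zero, S.Pj_zero]; exact ht
  have hT : S.J 0 1 = S.P ⊓ MulAut.conj S.h • S.P := by
    have e : (0 : ℤ) + ((0 + 1 : ℕ) : ℤ) = 1 := by norm_num
    rw [S.J_unfold_succ, S.J_unfold_zero, S.Pj_zero, e, S.Pj_one]
  have hcP1 : Nat.card (MulAut.conj S.h • S.P : Subgroup G) = S.p ^ t := by
    rw [← ht]
    exact (Nat.card_congr (Subgroup.equivSMul (MulAut.conj S.h) S.P).toEquiv).symm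
  have hmul : Nat.card (S.J 0 1) * S.p = S.p ^ t := by
    have := uni_card_mul_relIndex (inf_le_right : S.P ⊓ MulAut.conj S.h • S.P ≤ MulAut.conj S.h • S.P)
    rw [S.idx, hcP1, ← hT] at this
    exact this
  have htpos : 1 ≤ t := by
    rcases Nat.eq_zero_or_pos t with h0 | h0
    · exfalso
      rw [h0, pow_zero] at hmul
      have : S.p ∣ 1 := ⟨_, (by rw [mul_comm]; exact hmul.symm)⟩
      exact hp.one_lt.ne' (Nat.dvd_one.1 this)
    · exact h0
  have hc1 : Nat.card (S.J 0 1) = S.p ^ (t - 1) := by
    have e : S.p ^ t = S.p ^ (t - 1) * S.p := by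
      rw [← pow_succ]; congr 1; omega
    rw [e] at hmul
    exact Nat.eq_of_mul_eq_mul_right hp.pos hmul
  have key : ∀ n, n ≤ t → Nat.card (S.J 0 n) = S.p ^ (t - n) := by
    intro n
    induction n using Nat.strong_induction_on with
    | _ n ih =>
      intro hn
      match n, ih, hn with
      | 0, _, _ => simpa using hc0
      | 1, _, _ => exact hc1
      | (m + 2), ih, hn =>
        have cA : Nat.card (S.J 0 (m + 1)) = S.p ^ (t - (m + 1)) := ih (m + 1) (by omega) (by omega)
        have cB : Nat.card (S.J 1 (m + 1)) = S.p ^ (t - (m + 1)) := by rw [hcardJ]; exact cA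
        have cC : Nat.card (S.J 1 m) = S.p ^ (t - m) := by
          rw [hcardJ]; exact ih m (by omega) (by omega)
        have hAC : S.J 0 (m + 1) ≤ S.J 1 m := S.J_le_J (by omega) (by push_cast; omega)
        have hBC : S.J 1 (m + 1) ≤ S.J 1 m := S.J_le_J le_rfl (by push_cast; omega)
        have hinf : S.J 0 (m + 1) ⊓ S.J 1 (m + 1) = S.J 0 (m + 2) := by
          rw [S.J_inf_J (by omega) (by push_cast; omega) (by push_cast; omega)]
          congr 1
          push_cast
          omega
        by_cases hAB : S.J 0 (m + 1) = S.J 1 (m + 1)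
        · exfalso
          set R := S.J 0 (m + 1) with hRdef
          have hRinv : MulAut.conj S.h • R = R := by
            have := S.conj_J 1 0 (m + 1)
            rw [zpow_one, add_zero] at this
            rw [this]; exact hAB.symm
          have hstab : ∀ i : ℤ, MulAut.conj (S.h ^ i) • R = R := by
            intro i
            have h1 : MulAut.conj S.h ∈ MulAction.stabilizer (MulAut G) R :=
              MulAction.mem_stabilizer_iff.2 hRinv
            have h2 := zpow_mem h1 i
            rw [← map_zpow] at h2
            exact MulAction.mem_stabilizer_iff.1 h2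
          have hRi : ∀ i : ℤ, S.J i (m + 1) = R := by
            intro i
            have := S.conj_J i 0 (m + 1)
            rw [add_zero] at this
            rw [← this]; exact hstab i
          have cR : Nat.card R = S.p ^ (t - (m + 1)) := cA
          have cJ : ∀ (i : ℤ) (k : ℕ), k ≤ m + 1 → Nat.card (S.J i k) = S.p ^ (t - k) := by
            intro i k hk
            rw [hcardJ]; exact ih k (by omega) (by omega)
          have hQ : ∀ d, d ≤ m → ∀ i : ℤ, S.J i (m - d) ≤ Subgroup.normalizer (R : Set G) := by
            intro d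
            induction d with
            | zero =>
              intro _ i
              have hle : R ≤ S.J i m := by
                rw [← hRi i]; exact S.J_le_J le_rfl (by push_cast; omega)
              refine uni_le_normalizer hp hle cR ?_
              rw [Nat.sub_zero, cJ i m (by omega)]
              congr 1; omega
            | succ d ihd =>
              intro hd i
              have hprev := ihd (by omega)
              obtain ⟨m', hm'⟩ : ∃ m', m - d = m' + 1 := ⟨m - d - 1, by omega⟩
              have htarget : m - (d + 1) = m' := by omega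
              rw [htarget]
              rw [hm'] at hprev
              have hA' : S.J (i - 1) (m' + 1) ≤ S.J i m' := S.J_le_J (by omega) (by push_cast; omega)
              have hB' : S.J i (m' + 1) ≤ S.J i m' := S.J_le_J le_rfl (by push_cast; omega)
              have hne' : S.J (i - 1) (m' + 1) ≠ S.J i (m' + 1) := by
                intro heq
                have hinf' : S.J (i - 1) (m' + 1) ⊓ S.J i (m' + 1) = S.J (i - 1) (m' + 2) := by
                  rw [S.J_inf_J (by omega) (by push_cast; omega) (by push_cast; omega)]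
                  congr 1
                  push_cast
                  omega
                rw [← heq, inf_idem] at hinf'
                have c1 := cJ (i - 1) (m' + 1) (by omega)
                have c2 := cJ (i - 1) (m' + 2) (by omega)
                rw [hinf', c2] at c1
                have := Nat.pow_right_injective hp.two_le c1
                omega
              have hsup := uni_sup_eq hp hA' hB' hne' (k := t - (m' + 1))
                (cJ (i - 1) (m' + 1) (by omega)) (cJ i (m' + 1) (by omega))
                (by rw [cJ i m' (by omega)]; congr 1; omega)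
              rw [← hsup]
              exact sup_le (hprev (i - 1)) (hprev i)
          have hP0 : S.P ≤ Subgroup.normalizer (R : Set G) := by
            have := hQ m le_rfl 0
            rwa [Nat.sub_self, S.J_unfold_zero, S.Pj_zero] at this
          have hRP : R ≤ S.P := by
            have := S.J_le_Pj (i := 0) (j := 0) (n := m + 1) le_rfl (by push_cast; omega)
            rwa [S.Pj_zero] at this
          have hnorm : (R.subgroupOf S.P).Normal :=
            (Subgroup.normal_subgroupOf_iff_le_normalizer hRP).2 hP0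
          have hbot := S.core R hRP hnorm hRinv
          rw [hbot, Subgroup.card_bot] at cR
          have h1 : 1 < S.p ^ (t - (m + 1)) := Nat.one_lt_pow (by omega) hp.one_lt
          omega
        · have := uni_card_inf hp hAC hBC hAB (k := t - (m + 2))
            (by rw [cA]; congr 1; omega) (by rw [cB]; congr 1; omega) (by rw [cC]; congr 1; omega)
          rw [hinf] at this
          exact this
  exact ⟨t, ⟨htpos, fun i n hn => by rw [hcardJ]; exact key n hn⟩⟩

end Cfsg.Agent.Lib.H2.Glaub
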