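import Cfsg.Agent.Lib.H1.G85.Defs
import Cfsg.Agent.Lib.H2.GlaubUNI
import Cfsg.Agent.Lib.H5.Glaub.OddCore
import Cfsg.Agent.Lib.H23.FG19P2

/-!
# S4385 piece (C23), core: the case `(q,t) = (2,3)` gives `S4` (helper2)

`case23_core` takes the conclusion of (ABS) `quot_facts` as a hypothesis.
-/

set_option autoImplicit false
open scoped Pointwise
open Cfsg.Agent.Lib.H5.Glaub Cfsg.Agent.Lib.H5.Glaub.Setup Cfsg.Agent.Lib.H1.G85

namespace Cfsg.Agent.Lib.H2.G85

/-- the index of the centralizer of a normal four-group `W` is `6` as soon as two elements act on it as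
different nontrivial automorphisms, one of them an involution fixing a point moved by the other -/
theorem c23_index_six {K : Type*} [Group K] [Finite K] (W : Subgroup K) [W.Normal]
    (hW : Nat.card W = 4) (hWc : ∀ s ∈ W, ∀ r ∈ W, s * r = r * s) (hW2 : ∀ s ∈ W, s * s = 1)
    (u v a b : K) (hu : u ∈ W) (hv : v ∈ W) (ha2 : a * a = 1)
    (hau : a * u = u * a) (hav : a * v ≠ v * a) (hbu : b * u ≠ u * b) :
    (Subgroup.centralizer (W : Set K)).index = 6 := by
  classical
  let φ : K →* MulAut W := MulAut.conjNormal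
  have hker : φ.ker = Subgroup.centralizer (W : Set K) := by
    ext g
    rw [MonoidHom.mem_ker, Subgroup.mem_centralizer_iff]
    constructor
    · intro hg s hs
      have h1 : (φ g) ⟨s, hs⟩ = ⟨s, hs⟩ := by rw [hg]; rfl
      have h2 : g * s * g⁻¹ = s := by
        have := congrArg Subtype.val h1
        simpa [φ] using this
      calc s * g = (g * s * g⁻¹) * g := by rw [h2]
        _ = g * s := by group
    · intro hg
      apply MulEquiv.ext
      intro s
      apply Subtype.ext
      have h1 := hg s.1 s.2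
      show g * s.1 * g⁻¹ = s.1
      rw [← h1]; group
  have hidx : (Subgroup.centralizer (W : Set K)).index = Nat.card φ.range := by
    rw [← hker]; exact Subgroup.index_ker φ
  rw [hidx]
  -- `|Aut W| = 6`
  letI : CommGroup W := { (inferInstance : Group W) with
    mul_comm := fun s r => Subtype.ext (hWc s.1 s.2 r.1 r.2) }
  have hAut : Nat.card (MulAut W) = 6 := by
    have := Cfsg.Agent.Lib.H23.FG19.card_mulAut_eq (U := W)
      (fun s => Subtype.ext (hW2 s.1 s.2)) 2 (by rw [hW]; norm_num)
    rw [this]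
    decide
  have hdvd : Nat.card φ.range ∣ 6 := by
    rw [← hAut]; exact Subgroup.card_subgroup_dvd_card φ.range
  -- the three elements `1, φ a, φ b`
  have hval : ∀ (g : K) (s : K) (hs : s ∈ W), ((φ g) ⟨s, hs⟩ : K) = g * s * g⁻¹ := fun g s hs => rfl
  have hφa : φ a ≠ 1 := by
    intro h
    have h1 := hval a v hv
    rw [h] at h1
    apply hav
    have h2 : v = a * v * a⁻¹ := h1
    calc a * v = (a * v * a⁻¹) * a := by group
      _ = v * a := by rw [← h2]
  have hφb : φ b ≠ 1 := by
    intro h
    have h1 := hval b u hu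
    rw [h] at h1
    apply hbu
    have h2 : u = b * u * b⁻¹ := h1
    calc b * u = (b * u * b⁻¹) * b := by group
      _ = u * b := by rw [← h2]
  have hφab : φ a ≠ φ b := by
    intro h
    have h1 := hval a u hu
    have h2 := hval b u hu
    rw [h] at h1
    have h3 : a * u * a⁻¹ = b * u * b⁻¹ := h1.symm.trans h2
    apply hbu
    have h4 : a * u * a⁻¹ = u := by rw [hau]; group
    rw [h4] at h3
    calc b * u = (b * u * b⁻¹) * b := by group
      _ = u * b := by rw [← h3]
  have hφa2 : φ a * φ a = 1 := by rw [← map_mul, ha2, map_one]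
  -- order of `φ a` is `2`
  have hord : orderOf (⟨φ a, a, rfl⟩ : φ.range) = 2 := by
    apply orderOf_eq_prime
    · apply Subtype.ext
      show φ a ^ 2 = 1
      rw [pow_two, hφa2]
    · intro h
      exact hφa (congrArg Subtype.val h)
  have h2dvd : 2 ∣ Nat.card φ.range := by
    rw [← hord]; exact orderOf_dvd_natCard _
  have hne2 : Nat.card φ.range ≠ 2 := by
    intro h2
    obtain ⟨s, r, hsr, huniv⟩ := Nat.card_eq_two_iff.1 h2
    have mem : ∀ z : φ.range, z = s ∨ z = r := by
      intro z
      have : z ∈ ({s, r} : Set φ.range) := by rw [huniv]; trivial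
      simpa using this
    have e1 := mem 1
    have ea := mem ⟨φ a, a, rfl⟩
    have eb := mem ⟨φ b, b, rfl⟩
    have n1 : (⟨φ a, a, rfl⟩ : φ.range) ≠ 1 := fun h => hφa (congrArg Subtype.val h)
    have n2 : (⟨φ b, b, rfl⟩ : φ.range) ≠ 1 := fun h => hφb (congrArg Subtype.val h)
    have n3 : (⟨φ a, a, rfl⟩ : φ.range) ≠ ⟨φ b, b, rfl⟩ := fun h => hφab (congrArg Subtype.val h)
    rcases e1 with e1 | e1 <;> rcases ea with ea | ea <;> rcases eb with eb | eb
    · exact n1 (ea.trans e1.symm)
    · exact n1 (ea.trans e1.symm)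
    · exact n2 (eb.trans e1.symm)
    · exact n3 (ea.trans eb.symm)
    · exact n3 (ea.trans eb.symm)
    · exact n2 (eb.trans e1.symm)
    · exact n1 (ea.trans e1.symm)
    · exact n1 (ea.trans e1.symm)
  have hpos : 0 < Nat.card φ.range := Nat.card_pos
  have hle : Nat.card φ.range ≤ 6 := Nat.le_of_dvd (by norm_num) hdvd
  interval_cases h : Nat.card φ.range <;> omega

end Cfsg.Agent.Lib.H2.G85
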