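import Cfsg.Agent.Lib.H2.G85C23a

/-!
# S4385 piece (C23), core: the case `(q,t) = (2,3)` gives `S4` (helper2)

`case23_core` takes the conclusion of (ABS) `quot_facts` as a hypothesis.
-/

set_option autoImplicit false
open scoped Pointwise
open Cfsg.Agent.Lib.H5.Glaub Cfsg.Agent.Lib.H5.Glaub.Setup Cfsg.Agent.Lib.H1.G85
open Cfsg.Agent.Lib.H2.Glaub

namespace Cfsg.Agent.Lib.H2.G85

/-- an abelian group of order `4` with two different involutions has exponent `2` -/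
theorem c23_sq_of_card_four {K : Type*} [Group K] [Finite K] (W : Subgroup K)
    (hW : Nat.card W = 4) (hWc : ∀ s ∈ W, ∀ r ∈ W, s * r = r * s) (u v : K) (hu : u ∈ W) (hv : v ∈ W)
    (hu2 : u * u = 1) (hv2 : v * v = 1) (hu1 : u ≠ 1) (hv1 : v ≠ 1) (huv : u ≠ v) :
    ∀ s ∈ W, s * s = 1 := by
  let T : Subgroup K :=
    { carrier := {s | s ∈ W ∧ s * s = 1}
      one_mem' := ⟨W.one_mem, by simp⟩
      mul_mem' := by
        rintro s r ⟨hs, hs2⟩ ⟨hr, hr2⟩
        refine ⟨W.mul_mem hs hr, ?_⟩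
        calc s * r * (s * r) = s * (r * s) * r := by group
          _ = s * (s * r) * r := by rw [hWc r hr s hs]
          _ = (s * s) * (r * r) := by group
          _ = 1 := by rw [hs2, hr2, mul_one]
      inv_mem' := by
        rintro s ⟨hs, hs2⟩
        refine ⟨W.inv_mem hs, ?_⟩
        have : s⁻¹ = s := by rw [inv_eq_iff_mul_eq_one]; exact hs2
        rw [this]; exact hs2 }
  have hTW : T ≤ W := fun s hs => hs.1
  have huT : u ∈ T := ⟨hu, hu2⟩
  have hvT : v ∈ T := ⟨hv, hv2⟩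
  have hdvd : Nat.card T ∣ 4 := by rw [← hW]; exact Subgroup.card_dvd_of_le hTW
  have hne1 : Nat.card T ≠ 1 := by
    intro h
    have : T = ⊥ := Subgroup.card_eq_one.1 h
    rw [this, Subgroup.mem_bot] at huT
    exact hu1 huT
  have hne2 : Nat.card T ≠ 2 := by
    intro h2
    obtain ⟨s, r, hsr, huniv⟩ := Nat.card_eq_two_iff.1 h2
    have mem : ∀ z : T, z = s ∨ z = r := by
      intro z
      have : z ∈ ({s, r} : Set T) := by rw [huniv]; trivial
      simpa using this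
    have e1 := mem 1
    have ea := mem ⟨u, huT⟩
    have eb := mem ⟨v, hvT⟩
    have n1 : (⟨u, huT⟩ : T) ≠ 1 := fun h => hu1 (congrArg Subtype.val h)
    have n2 : (⟨v, hvT⟩ : T) ≠ 1 := fun h => hv1 (congrArg Subtype.val h)
    have n3 : (⟨u, huT⟩ : T) ≠ ⟨v, hvT⟩ := fun h => huv (congrArg Subtype.val h)
    rcases e1 with e1 | e1 <;> rcases ea with ea | ea <;> rcases eb with eb | eb
    · exact n1 (ea.trans e1.symm)
    · exact n1 (ea.trans e1.symm)
    · exact n2 (eb.trans e1.symm)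
    · exact n3 (ea.trans eb.symm)
    · exact n3 (ea.trans eb.symm)
    · exact n2 (eb.trans e1.symm)
    · exact n1 (ea.trans e1.symm)
    · exact n1 (ea.trans e1.symm)
  have hT4 : Nat.card T = 4 := by
    have hpos : 0 < Nat.card T := Nat.card_pos
    have hle : Nat.card T ≤ 4 := Nat.le_of_dvd (by norm_num) hdvd
    interval_cases h : Nat.card T <;> omega
  have hTeq : T = W := Subgroup.eq_of_le_of_card_ge hTW (by rw [hT4, hW])
  intro s hs
  rw [← hTeq] at hs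
  exact hs.2

/-- two commuting-or-not generators: if the generators commute, so do the cyclic groups -/
theorem c23_ne_of_ncomm {G : Type*} [Group G] {s r : G}
    (h : ¬ Comm (Subgroup.zpowers s) (Subgroup.zpowers r)) : s * r ≠ r * s := by
  intro hsr
  apply h
  rintro _ ⟨m, rfl⟩ _ ⟨n, rfl⟩
  exact (Commute.zpow_zpow hsr m n)

variable {G : Type*} [Group G] [Finite G]

theorem case23_core (S : Setup G) (hp2 : S.p = 2) (hU : S.Uni 3) (hD : S.Dist 3 2)
    (x : ℤ → G) (hx : Gen S 3 x) (hodd : ¬ 2 ∣ (S.Pj 0).relIndex (H0 S))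
    (hQF : ∀ (Q P : Subgroup ↥(H0 S)) [Q.Normal], Q ≤ P → IsPGroup 2 P → ¬ 2 ∣ P.index →
      (∀ a ∈ Q, ∀ b ∈ Q, a * b = b * a) → Subgroup.centralizer (Q : Set ↥(H0 S)) ⊓ P ≤ Q →
      Nat.card (↥(H0 S) ⧸ Cfsg.oddCore ↥(H0 S)) =
          (Subgroup.centralizer (Q : Set ↥(H0 S))).index * Nat.card Q ∧
      Subgroup.centralizer ((Q.map (QuotientGroup.mk' (Cfsg.oddCore ↥(H0 S))) :
          Subgroup (↥(H0 S) ⧸ Cfsg.oddCore ↥(H0 S))) : Set (↥(H0 S) ⧸ Cfsg.oddCore ↥(H0 S))) ≤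
        Q.map (QuotientGroup.mk' (Cfsg.oddCore ↥(H0 S))) ∧
      (∀ g ∈ P, (QuotientGroup.mk' (Cfsg.oddCore ↥(H0 S))) g = 1 → g = 1)) :
    Nonempty (↥(H0 S) ⧸ Cfsg.oddCore ↥(H0 S) ≃* Equiv.Perm (Fin 4)) := by
  classical
  -- the four generators
  have hXmem : ∀ k : ℤ, x k ∈ S.X 3 k := fun k => by rw [hx.X_eq]; exact Subgroup.mem_zpowers _
  have hXP : ∀ k j : ℤ, k ≤ j → j ≤ k + 2 → S.X 3 k ≤ S.Pj j := by
    intro k j h1 h2
    show S.J k 2 ≤ S.Pj j
    exact S.J_le_Pj h1 (by push_cast; omega)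
  set a := x (-3) with ha
  set u := x (-2) with hu
  set v := x (-1) with hv
  set b := x 0 with hb
  have huv : u * v = v * u := hD.comm (-2) (-1) (by norm_num) u (hXmem _) v (hXmem _)
  have hau : a * u = u * a := hD.comm (-3) (-2) (by norm_num) a (hXmem _) u (hXmem _)
  have hav : a * v ≠ v * a := by
    have h := hD.ncomm (-3)
    have e : (-3 : ℤ) + ((2 : ℕ) : ℤ) = -1 := by norm_num
    rw [e, hx.X_eq, hx.X_eq] at h
    exact c23_ne_of_ncomm h
  have hub : u * b ≠ b * u := by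
    have h := hD.ncomm (-2)
    have e : (-2 : ℤ) + ((2 : ℕ) : ℤ) = 0 := by norm_num
    rw [e, hx.X_eq, hx.X_eq] at h
    exact c23_ne_of_ncomm h
  have hbu : b * u ≠ u * b := fun h => hub h.symm
  have hu1 : u ≠ 1 := hx.ne_one _
  have hv1 : v ≠ 1 := hx.ne_one _
  have hu2 : u * u = 1 := hx.sq _
  have hv2 : v * v = 1 := hx.sq _
  have ha2 : a * a = 1 := hx.sq _
  have hneuv : u ≠ v := by
    intro h
    apply hav
    rw [← h]; exact hau
  -- the subgroup `Q`
  set Q : Subgroup G := S.Pj (-1) ⊓ S.Pj 0 with hQdef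
  have hQJ : S.J (-1) 1 = Q := by
    have e : (-1 : ℤ) + ((0 + 1 : ℕ) : ℤ) = 0 := by norm_num
    rw [S.J_unfold_succ, S.J_unfold_zero, e]
  have cardQ : Nat.card Q = 2 ^ 2 := by
    have := hU.card (-1) 1 (by norm_num)
    rwa [hQJ, hp2] at this
  have cardP : ∀ j : ℤ, Nat.card (S.Pj j) = 2 ^ (2 + 1) := by
    intro j
    have := hU.card j 0 (by norm_num)
    rwa [S.J_unfold_zero, hp2] at this
  have hQ1 : Q ≤ S.Pj (-1) := inf_le_left
  have hQ0 : Q ≤ S.Pj 0 := inf_le_right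
  have hN : H0 S ≤ Subgroup.normalizer (Q : Set G) :=
    sup_le (uni_le_normalizer Nat.prime_two hQ1 cardQ (cardP _))
      (uni_le_normalizer Nat.prime_two hQ0 cardQ (cardP _))
  have hQH : Q ≤ H0 S := hQ0.trans (Pj_zero_le_H0 S)
  have huQ : u ∈ Q := ⟨hXP (-2) (-1) (by norm_num) (by norm_num) (hXmem _),
    hXP (-2) 0 (by norm_num) (by norm_num) (hXmem _)⟩
  have hvQ : v ∈ Q := ⟨hXP (-1) (-1) (by norm_num) (by norm_num) (hXmem _),
    hXP (-1) 0 (by norm_num) (by norm_num) (hXmem _)⟩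
  have haH : a ∈ H0 S := Pj_neg_one_le_H0 S (hXP (-3) (-1) (by norm_num) (by norm_num) (hXmem _))
  have hbP : b ∈ S.Pj 0 := hXP 0 0 (by norm_num) (by norm_num) (hXmem _)
  have hbH : b ∈ H0 S := Pj_zero_le_H0 S hbP
  have hQcomm : ∀ s ∈ Q, ∀ r ∈ Q, s * r = r * s := by
    intro s hs r hr
    have := IsPGroup.commutative_of_card_eq_prime_sq (p := 2) (G := ↥Q) cardQ ⟨s, hs⟩ ⟨r, hr⟩
    exact congrArg Subtype.val this
  have hbQ : b ∉ Q := fun h => hbu (hQcomm b h u huQ)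
  -- inside `K = H0`
  set Qk : Subgroup ↥(H0 S) := Q.subgroupOf (H0 S) with hQk
  haveI hQkn : Qk.Normal := (Subgroup.normal_subgroupOf_iff_le_normalizer hQH).2 hN
  set Pk : Subgroup ↥(H0 S) := (S.Pj 0).subgroupOf (H0 S) with hPk
  have cardQk : Nat.card Qk = 4 := by
    rw [Nat.card_congr (Subgroup.subgroupOfEquivOfLe hQH).toEquiv, cardQ]
    norm_num
  have cardPk : Nat.card Pk = 2 ^ 3 := by
    rw [Nat.card_congr (Subgroup.subgroupOfEquivOfLe (Pj_zero_le_H0 S)).toEquiv, cardP]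
  have hQP : Qk ≤ Pk := fun g hg => hQ0 hg
  have hPk2 : IsPGroup 2 Pk := IsPGroup.of_card cardPk
  have hQkc : ∀ s ∈ Qk, ∀ r ∈ Qk, s * r = r * s := by
    intro s hs r hr
    exact Subtype.ext (hQcomm s.1 hs r.1 hr)
  have hidx2 : (Q.subgroupOf (S.Pj 0)).index = 2 := by
    have h1 := uni_card_mul_relIndex hQ0
    rw [cardQ, cardP] at h1
    have : Q.relIndex (S.Pj 0) = 2 := by omega
    exact this
  have hCP : Subgroup.centralizer (Qk : Set ↥(H0 S)) ⊓ Pk ≤ Qk := by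
    rintro g ⟨hgc, hgP⟩
    by_contra hgQ
    have hgP' : (g : G) ∈ S.Pj 0 := hgP
    have hgQ' : (g : G) ∉ Q := hgQ
    have h1 := Subgroup.mul_mem_iff_of_index_two hidx2
      (a := (⟨(g : G), hgP'⟩ : ↥(S.Pj 0))) (b := (⟨b, hbP⟩ : ↥(S.Pj 0)))
    have h2 : (g : G) * b ∈ Q := by
      have : (⟨(g : G), hgP'⟩ : ↥(S.Pj 0)) * ⟨b, hbP⟩ ∈ Q.subgroupOf (S.Pj 0) := by
        rw [h1]
        constructor
        · intro h; exact absurd h hgQ'
        · intro h; exact absurd h hbQ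
      exact this
    have h3 : (g : G) * u = u * (g : G) := by
      have := (Subgroup.mem_centralizer_iff.1 hgc) ⟨u, hQH huQ⟩ huQ
      exact (congrArg Subtype.val this).symm
    have h4 := hQcomm _ h2 u huQ
    apply hbu
    have h5 : (g : G) * (b * u) = (g : G) * (u * b) := by
      calc (g : G) * (b * u) = ((g : G) * b) * u := by group
        _ = u * ((g : G) * b) := h4
        _ = (u * (g : G)) * b := by group
        _ = ((g : G) * u) * b := by rw [h3]
        _ = (g : G) * (u * b) := by group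
    exact mul_left_cancel h5
  obtain ⟨hcard, hcent, -⟩ := hQF Qk Pk hQP hPk2 hodd hQkc hCP
  -- the index of the centralizer
  have hQk2 : ∀ s ∈ Qk, s * s = 1 :=
    c23_sq_of_card_four Qk cardQk hQkc ⟨u, hQH huQ⟩ ⟨v, hQH hvQ⟩ huQ hvQ (Subtype.ext hu2)
      (Subtype.ext hv2) (fun h => hu1 (congrArg Subtype.val h)) (fun h => hv1 (congrArg Subtype.val h))
      (fun h => hneuv (congrArg Subtype.val h))
  have hidx6 : (Subgroup.centralizer (Qk : Set ↥(H0 S))).index = 6 :=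
    c23_index_six Qk cardQk hQkc hQk2 ⟨u, hQH huQ⟩ ⟨v, hQH hvQ⟩ ⟨a, haH⟩ ⟨b, hbH⟩ huQ hvQ
      (Subtype.ext ha2) (Subtype.ext hau) (fun h => hav (congrArg Subtype.val h))
      (fun h => hbu (congrArg Subtype.val h))
  rw [hidx6, cardQk] at hcard
  -- identification
  have hO : (Nat.card (Cfsg.oddCore ↥(H0 S))).Coprime 2 :=
    Cfsg.Agent.Lib.H22.card_pPrimeCore_coprime 2
  refine quot_oddCore_s4 (Cfsg.oddCore ↥(H0 S)) hO ?_ Qk cardQk ?_ ?_
  · rw [Subgroup.index_eq_card, hcard]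
  · intro s hs
    rw [pow_two]; exact hQk2 s hs
  · intro g hg
    have h1 : (QuotientGroup.mk' (Cfsg.oddCore ↥(H0 S))) g ∈
        Qk.map (QuotientGroup.mk' (Cfsg.oddCore ↥(H0 S))) := by
      apply hcent
      rw [Subgroup.mem_centralizer_iff]
      rintro _ ⟨s, hs, rfl⟩
      have := (Subgroup.mem_centralizer_iff.1 hg) s hs
      rw [← map_mul, ← map_mul, this]
    obtain ⟨s, hs, hsg⟩ := h1
    have h2 : s⁻¹ * g ∈ Cfsg.oddCore ↥(H0 S) := by
      rw [← QuotientGroup.eq_one_iff, QuotientGroup.mk_mul, QuotientGroup.mk_inv]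
      have : (QuotientGroup.mk s : ↥(H0 S) ⧸ Cfsg.oddCore ↥(H0 S)) = QuotientGroup.mk g := hsg
      rw [this, inv_mul_cancel]
    have : g = s * (s⁻¹ * g) := by group
    rw [this]
    exact Subgroup.mul_mem_sup hs h2

end Cfsg.Agent.Lib.H2.G85
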