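import Mathlib

set_option autoImplicit false

/-!
# The Sylow `p`-subgroups of `GL₂(q)` in the defining characteristic
-/

namespace Cfsg.Agent.Lib.H2.GL2

open Matrix

variable {F : Type*} [Field F]

/-- upper unitriangular matrix -/
def uGL (t : F) : GL (Fin 2) F where
  val := !![1, t; 0, 1]
  inv := !![1, -t; 0, 1]
  val_inv := by
    ext i j; fin_cases i <;> fin_cases j <;> simp [Matrix.mul_apply, Fin.sum_univ_two]
  inv_val := by
    ext i j; fin_cases i <;> fin_cases j <;> simp [Matrix.mul_apply, Fin.sum_univ_two]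

theorem uGL_val (t : F) : ((uGL t : GL (Fin 2) F) : Matrix (Fin 2) (Fin 2) F) = !![1, t; 0, 1] := rfl

theorem uGL_zero : uGL (0 : F) = 1 := by
  apply Units.ext
  rw [uGL_val, Units.val_one]
  ext i j; fin_cases i <;> fin_cases j <;> simp

theorem uGL_add (s t : F) : uGL (s + t) = uGL s * uGL t := by
  apply Units.ext
  rw [Units.val_mul, uGL_val, uGL_val, uGL_val]
  ext i j; fin_cases i <;> fin_cases j <;> simp [Matrix.mul_apply, Fin.sum_univ_two, add_comm]

theorem uGL_injective : Function.Injective (uGL (F := F)) := by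
  intro s t h
  have := congrArg (fun g : GL (Fin 2) F => (g : Matrix (Fin 2) (Fin 2) F) 0 1) h
  simpa [uGL_val] using this

theorem uGL_eq_one_iff (t : F) : uGL t = 1 ↔ t = 0 := by
  rw [← uGL_zero]
  exact uGL_injective.eq_iff

/-- `t ↦ uGL t` as a homomorphism -/
def uHom (F : Type*) [Field F] : Multiplicative F →* GL (Fin 2) F where
  toFun t := uGL (Multiplicative.toAdd t)
  map_one' := uGL_zero
  map_mul' _ _ := uGL_add _ _

/-- the group of upper unitriangular matrices -/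
def U (F : Type*) [Field F] : Subgroup (GL (Fin 2) F) := (uHom F).range

theorem mem_U_iff (g : GL (Fin 2) F) : g ∈ U F ↔ ∃ t : F, uGL t = g := by
  constructor
  · rintro ⟨t, rfl⟩
    exact ⟨Multiplicative.toAdd t, rfl⟩
  · rintro ⟨t, rfl⟩
    exact ⟨Multiplicative.ofAdd t, rfl⟩

theorem uGL_mem (t : F) : uGL t ∈ U F := (mem_U_iff _).2 ⟨t, rfl⟩

theorem card_U [Finite F] : Nat.card (U F) = Nat.card F := by
  have e : Multiplicative F ≃ (uHom F).range :=
    Equiv.ofInjective (uHom F) (fun s t h => by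
      have h' : uGL (Multiplicative.toAdd s) = uGL (Multiplicative.toAdd t) := h
      exact Multiplicative.toAdd.injective (uGL_injective h'))
  exact (Nat.card_congr e).symm

/-- entries of a product -/
theorem mul_val (g h : GL (Fin 2) F) (i j : Fin 2) :
    ((g * h : GL (Fin 2) F) : Matrix (Fin 2) (Fin 2) F) i j =
      (g : Matrix (Fin 2) (Fin 2) F) i 0 * (h : Matrix (Fin 2) (Fin 2) F) 0 j +
      (g : Matrix (Fin 2) (Fin 2) F) i 1 * (h : Matrix (Fin 2) (Fin 2) F) 1 j := by
  rw [Units.val_mul, Matrix.mul_apply, Fin.sum_univ_two]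

theorem ext_entries {g h : GL (Fin 2) F}
    (h00 : (g : Matrix (Fin 2) (Fin 2) F) 0 0 = (h : Matrix (Fin 2) (Fin 2) F) 0 0)
    (h01 : (g : Matrix (Fin 2) (Fin 2) F) 0 1 = (h : Matrix (Fin 2) (Fin 2) F) 0 1)
    (h10 : (g : Matrix (Fin 2) (Fin 2) F) 1 0 = (h : Matrix (Fin 2) (Fin 2) F) 1 0)
    (h11 : (g : Matrix (Fin 2) (Fin 2) F) 1 1 = (h : Matrix (Fin 2) (Fin 2) F) 1 1) : g = h := by
  apply Units.ext
  ext i j
  fin_cases i <;> fin_cases j <;> assumption

theorem det_ne_zero (g : GL (Fin 2) F) :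
    (g : Matrix (Fin 2) (Fin 2) F) 0 0 * (g : Matrix (Fin 2) (Fin 2) F) 1 1 -
      (g : Matrix (Fin 2) (Fin 2) F) 0 1 * (g : Matrix (Fin 2) (Fin 2) F) 1 0 ≠ 0 := by
  rw [← Matrix.det_fin_two]
  exact ((Matrix.isUnit_iff_isUnit_det _).1 g.isUnit).ne_zero

theorem diag_ne_zero {g : GL (Fin 2) F} (hg : (g : Matrix (Fin 2) (Fin 2) F) 1 0 = 0) :
    (g : Matrix (Fin 2) (Fin 2) F) 0 0 ≠ 0 ∧ (g : Matrix (Fin 2) (Fin 2) F) 1 1 ≠ 0 := by
  have h := det_ne_zero g
  rw [hg, mul_zero, sub_zero] at h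
  exact ⟨left_ne_zero_of_mul h, right_ne_zero_of_mul h⟩

/-- upper triangular matrices normalise `U` -/
theorem mul_uGL_of_upper {g : GL (Fin 2) F} (hg : (g : Matrix (Fin 2) (Fin 2) F) 1 0 = 0) (t : F) :
    g * uGL t = uGL ((g : Matrix (Fin 2) (Fin 2) F) 0 0 * t / (g : Matrix (Fin 2) (Fin 2) F) 1 1) * g := by
  obtain ⟨ha, hd⟩ := diag_ne_zero hg
  apply ext_entries <;> simp only [mul_val, uGL_val, hg] <;> simp
  field_simp
  ring

/-- if `g` conjugates a non-trivial element of `U` into `U`, then `g` is upper triangular -/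
theorem upper_of_conj_mem {g : GL (Fin 2) F} {t s : F} (ht : t ≠ 0)
    (h : g * uGL t = uGL s * g) : (g : Matrix (Fin 2) (Fin 2) F) 1 0 = 0 := by
  have h11 := congrArg (fun k : GL (Fin 2) F => (k : Matrix (Fin 2) (Fin 2) F) 1 1) h
  simp only [mul_val, uGL_val] at h11
  simp at h11
  exact h11.resolve_right ht

theorem mem_normalizer_U_iff (g : GL (Fin 2) F) :
    g ∈ Subgroup.normalizer (U F : Set (GL (Fin 2) F)) ↔
      (g : Matrix (Fin 2) (Fin 2) F) 1 0 = 0 := by
  constructor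
  · intro hg
    rw [Subgroup.mem_set_normalizer_iff] at hg
    have h1 := (hg (uGL 1)).1 (uGL_mem 1)
    obtain ⟨s, hs⟩ := (mem_U_iff _).1 h1
    apply upper_of_conj_mem (t := 1) (s := s) one_ne_zero
    rw [hs, inv_mul_cancel_right]
  · intro hg
    rw [Subgroup.mem_set_normalizer_iff]
    obtain ⟨ha, hd⟩ := diag_ne_zero hg
    intro h
    constructor
    · intro hh
      obtain ⟨t, rfl⟩ := (mem_U_iff _).1 hh
      rw [mul_uGL_of_upper hg, mul_inv_cancel_right]
      exact uGL_mem _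
    · intro hh
      obtain ⟨s, hs⟩ := (mem_U_iff _).1 hh
      have h2 : h = g⁻¹ * uGL s * g := by
        rw [hs]; group
      have h3 : g * uGL ((g : Matrix (Fin 2) (Fin 2) F) 1 1 * s / (g : Matrix (Fin 2) (Fin 2) F) 0 0)
          = uGL s * g := by
        rw [mul_uGL_of_upper hg]
        congr 2
        field_simp
      rw [h2, mul_assoc, ← h3, inv_mul_cancel_left]
      exact uGL_mem _

/-- the upper triangular matrix with given entries -/
def bGL (a d : Fˣ) (b : F) : GL (Fin 2) F where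
  val := !![(a : F), b; 0, (d : F)]
  inv := !![((a⁻¹ : Fˣ) : F), -((a⁻¹ : Fˣ) : F) * b * ((d⁻¹ : Fˣ) : F); 0, ((d⁻¹ : Fˣ) : F)]
  val_inv := by
    ext i j; fin_cases i <;> fin_cases j <;> simp [Matrix.mul_apply, Fin.sum_univ_two]
    field_simp
    ring
  inv_val := by
    ext i j; fin_cases i <;> fin_cases j <;> simp [Matrix.mul_apply, Fin.sum_univ_two, mul_assoc]

theorem bGL_val (a d : Fˣ) (b : F) :
    ((bGL a d b : GL (Fin 2) F) : Matrix (Fin 2) (Fin 2) F) = !![(a : F), b; 0, (d : F)] := rfl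

/-- the normaliser of `U` is in bijection with triples `(a, d, b)` -/
noncomputable def normalizerEquiv :
    Subgroup.normalizer (U F : Set (GL (Fin 2) F)) ≃ Fˣ × Fˣ × F where
  toFun g := (Units.mk0 _ (diag_ne_zero ((mem_normalizer_U_iff g.1).1 g.2)).1,
    Units.mk0 _ (diag_ne_zero ((mem_normalizer_U_iff g.1).1 g.2)).2,
    (g.1 : Matrix (Fin 2) (Fin 2) F) 0 1)
  invFun x := ⟨bGL x.1 x.2.1 x.2.2, (mem_normalizer_U_iff _).2 (by simp [bGL_val])⟩
  left_inv g := by
    apply Subtype.ext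
    have hg := (mem_normalizer_U_iff g.1).1 g.2
    apply ext_entries <;> simp [bGL_val, hg]
  right_inv x := by
    obtain ⟨a, d, b⟩ := x
    simp [bGL_val]

theorem card_normalizer_U [Fintype F] :
    Nat.card (Subgroup.normalizer (U F : Set (GL (Fin 2) F))) =
      Fintype.card F * (Fintype.card F - 1) ^ 2 := by
  rw [Nat.card_congr normalizerEquiv, Nat.card_prod, Nat.card_prod, Nat.card_units,
    Nat.card_eq_fintype_card]
  ring

theorem mem_centralizer_uGL_iff {t : F} (ht : t ≠ 0) (g : GL (Fin 2) F) :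
    g ∈ Subgroup.centralizer ({uGL t} : Set (GL (Fin 2) F)) ↔
      (g : Matrix (Fin 2) (Fin 2) F) 1 0 = 0 ∧
      (g : Matrix (Fin 2) (Fin 2) F) 0 0 = (g : Matrix (Fin 2) (Fin 2) F) 1 1 := by
  rw [Subgroup.mem_centralizer_singleton_iff]
  constructor
  · intro h
    have hg : (g : Matrix (Fin 2) (Fin 2) F) 1 0 = 0 := upper_of_conj_mem ht h
    refine ⟨hg, ?_⟩
    have h01 := congrArg (fun k : GL (Fin 2) F => (k : Matrix (Fin 2) (Fin 2) F) 0 1) h
    simp only [mul_val, uGL_val] at h01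
    simp at h01
    have h2 : ((g : Matrix (Fin 2) (Fin 2) F) 0 0 - (g : Matrix (Fin 2) (Fin 2) F) 1 1) * t = 0 := by
      linear_combination h01
    rcases mul_eq_zero.1 h2 with h3 | h3
    · exact sub_eq_zero.1 h3
    · exact absurd h3 ht
  · rintro ⟨hg, had⟩
    obtain ⟨ha, hd⟩ := diag_ne_zero hg
    rw [mul_uGL_of_upper hg, had, mul_comm _ t, mul_div_assoc, div_self hd, mul_one]

/-- the centraliser of a non-trivial element of `U` is in bijection with pairs `(a, b)` -/
noncomputable def centralizerEquiv {t : F} (ht : t ≠ 0) :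
    Subgroup.centralizer ({uGL t} : Set (GL (Fin 2) F)) ≃ Fˣ × F where
  toFun g := (Units.mk0 _ (diag_ne_zero ((mem_centralizer_uGL_iff ht g.1).1 g.2).1).1,
    (g.1 : Matrix (Fin 2) (Fin 2) F) 0 1)
  invFun x := ⟨bGL x.1 x.1 x.2, (mem_centralizer_uGL_iff ht _).2 (by simp [bGL_val])⟩
  left_inv g := by
    apply Subtype.ext
    have hg := (mem_centralizer_uGL_iff ht g.1).1 g.2
    apply ext_entries <;> simp [bGL_val, hg.1, hg.2]
  right_inv x := by
    obtain ⟨a, b⟩ := x
    simp [bGL_val]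

theorem card_centralizer_uGL [Fintype F] {t : F} (ht : t ≠ 0) :
    Nat.card (Subgroup.centralizer ({uGL t} : Set (GL (Fin 2) F))) =
      Fintype.card F * (Fintype.card F - 1) := by
  rw [Nat.card_congr (centralizerEquiv ht), Nat.card_prod, Nat.card_units,
    Nat.card_eq_fintype_card, mul_comm]

theorem mem_sylow_smul_iff {G : Type*} [Group G] {p : ℕ} (g y : G) (P : Sylow p G) :
    y ∈ ((g • P : Sylow p G) : Subgroup G) ↔ g⁻¹ * y * g ∈ (P : Subgroup G) := by
  rw [Sylow.coe_subgroup_smul, Subgroup.mem_pointwise_smul_iff_inv_smul_mem]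
  simp [MulAut.smul_def]

/-- conjugate elements have centralisers of the same size -/
theorem card_centralizer_conj {G : Type*} [Group G] (g a : G) :
    Nat.card (Subgroup.centralizer ({g * a * g⁻¹} : Set G)) =
      Nat.card (Subgroup.centralizer ({a} : Set G)) := by
  apply Nat.card_congr
  refine
    { toFun := fun x => ⟨g⁻¹ * x.1 * g, ?_⟩
      invFun := fun x => ⟨g * x.1 * g⁻¹, ?_⟩
      left_inv := fun x => by apply Subtype.ext; simp only; group
      right_inv := fun x => by apply Subtype.ext; simp only; group }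
  · have hx := Subgroup.mem_centralizer_singleton_iff.1 x.2
    rw [Subgroup.mem_centralizer_singleton_iff]
    have : g⁻¹ * x.1 * g * a = g⁻¹ * (x.1 * (g * a * g⁻¹)) * g := by group
    rw [this, hx]
    group
  · have hx := Subgroup.mem_centralizer_singleton_iff.1 x.2
    rw [Subgroup.mem_centralizer_singleton_iff]
    have : g * x.1 * g⁻¹ * (g * a * g⁻¹) = g * (x.1 * a) * g⁻¹ := by group
    rw [this, hx]
    group

section Finite

variable [Fintype F] (p : ℕ) [Fact p.Prime] [CharP F p]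

theorem card_GL2 :
    Nat.card (GL (Fin 2) F) =
      Fintype.card F * (Fintype.card F - 1) ^ 2 * (Fintype.card F + 1) := by
  rw [Matrix.card_GL_field, Fin.prod_univ_two]
  simp only [Fin.val_zero, Fin.val_one, pow_zero, pow_one]
  have hq : 1 ≤ Fintype.card F := Fintype.card_pos
  obtain ⟨r, hr⟩ : ∃ r, Fintype.card F = r + 1 := ⟨Fintype.card F - 1, by omega⟩
  rw [hr, Nat.add_sub_cancel]
  have h1 : (r + 1) ^ 2 - 1 = r * (r + 2) := by
    have : (r + 1) ^ 2 = r * (r + 2) + 1 := by ring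
    rw [this, Nat.add_sub_cancel]
  have h2 : (r + 1) ^ 2 - (r + 1) = r * (r + 1) := by
    have : (r + 1) ^ 2 = r * (r + 1) + (r + 1) := by ring
    rw [this, Nat.add_sub_cancel]
  rw [h1, h2]
  ring

omit [Fact p.Prime] in
include p in
theorem exists_card_eq_pow : ∃ k : ℕ, 1 ≤ k ∧ Fintype.card F = p ^ k := by
  obtain ⟨n, _, hn⟩ := FiniteField.card F p
  exact ⟨n, n.pos, hn⟩

theorem not_dvd_index_U : ¬ p ∣ (U F).index := by
  obtain ⟨k, hk, hq⟩ := exists_card_eq_pow (F := F) p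
  have hp : p.Prime := Fact.out
  have h1 := Subgroup.card_mul_index (U F)
  rw [card_U, card_GL2, Nat.card_eq_fintype_card, mul_assoc] at h1
  have hq0 : 0 < Fintype.card F := Fintype.card_pos
  have h2 : (U F).index = (Fintype.card F - 1) ^ 2 * (Fintype.card F + 1) :=
    Nat.eq_of_mul_eq_mul_left hq0 h1
  rw [h2]
  have hpq : p ∣ Fintype.card F := by
    rw [hq]; exact dvd_pow_self p (by omega)
  intro hdvd
  rcases (Nat.Prime.dvd_mul hp).1 hdvd with h | h
  · have h3 := hp.dvd_of_dvd_pow h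
    have h4 : p ∣ Fintype.card F - (Fintype.card F - 1) := Nat.dvd_sub hpq h3
    have h5 : Fintype.card F - (Fintype.card F - 1) = 1 := by omega
    rw [h5] at h4
    exact hp.one_lt.ne' (Nat.dvd_one.1 h4)
  · have h4 : p ∣ Fintype.card F + 1 - Fintype.card F := Nat.dvd_sub h hpq
    rw [Nat.add_sub_cancel_left] at h4
    exact hp.one_lt.ne' (Nat.dvd_one.1 h4)

/-- `U` as a Sylow `p`-subgroup -/
noncomputable def USylow : Sylow p (GL (Fin 2) F) :=
  (IsPGroup.of_card (p := p) (n := (exists_card_eq_pow (F := F) p).choose) (by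
    rw [card_U, Nat.card_eq_fintype_card]
    exact (exists_card_eq_pow (F := F) p).choose_spec.2)).toSylow (not_dvd_index_U p)

theorem coe_USylow : ((USylow p : Sylow p (GL (Fin 2) F)) : Subgroup (GL (Fin 2) F)) = U F := rfl

/-- S0272 -/
theorem card_normalizer_sylow (P : Sylow p (GL (Fin 2) F)) :
    Nat.card (Subgroup.normalizer ((P : Subgroup (GL (Fin 2) F)) : Set (GL (Fin 2) F))) =
      Fintype.card F * (Fintype.card F - 1) ^ 2 := by
  have h1 : Nat.card (Sylow p (GL (Fin 2) F)) = (Subgroup.normalizer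
      ((P : Subgroup (GL (Fin 2) F)) : Set (GL (Fin 2) F))).index :=
    Sylow.card_eq_index_normalizer P
  have h2 : Nat.card (Sylow p (GL (Fin 2) F)) = (Subgroup.normalizer
      ((USylow (F := F) p : Subgroup (GL (Fin 2) F)) : Set (GL (Fin 2) F))).index :=
    Sylow.card_eq_index_normalizer (USylow (F := F) p)
  have h3 := Subgroup.card_mul_index
    (Subgroup.normalizer ((P : Subgroup (GL (Fin 2) F)) : Set (GL (Fin 2) F)))
  have h4 := Subgroup.card_mul_index
    (Subgroup.normalizer ((USylow (F := F) p : Subgroup (GL (Fin 2) F)) : Set (GL (Fin 2) F)))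
  rw [← h1] at h3
  rw [← h2, ← h3] at h4
  have hpos : 0 < Nat.card (Sylow p (GL (Fin 2) F)) := Nat.card_pos
  rw [← Nat.eq_of_mul_eq_mul_right hpos h4, coe_USylow, card_normalizer_U]

/-- S0258 -/
theorem card_sylow : Nat.card (Sylow p (GL (Fin 2) F)) = Fintype.card F + 1 := by
  have h2 : Nat.card (Sylow p (GL (Fin 2) F)) = (Subgroup.normalizer
      ((USylow (F := F) p : Subgroup (GL (Fin 2) F)) : Set (GL (Fin 2) F))).index :=
    Sylow.card_eq_index_normalizer (USylow (F := F) p)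
  have h4 := Subgroup.card_mul_index
    (Subgroup.normalizer ((USylow (F := F) p : Subgroup (GL (Fin 2) F)) : Set (GL (Fin 2) F)))
  rw [← h2, coe_USylow, card_normalizer_U, card_GL2] at h4
  have hq : 1 < Fintype.card F := Fintype.one_lt_card
  have hpos : 0 < Fintype.card F * (Fintype.card F - 1) ^ 2 := by
    apply Nat.mul_pos (by omega)
    apply pow_pos
    omega
  exact Nat.eq_of_mul_eq_mul_left hpos h4

/-- S0273 -/
theorem card_centralizer_of_mem_sylow (P : Sylow p (GL (Fin 2) F)) (a : GL (Fin 2) F)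
    (ha : a ∈ P) (ha1 : a ≠ 1) :
    Nat.card (Subgroup.centralizer ({a} : Set (GL (Fin 2) F))) =
      Fintype.card F * (Fintype.card F - 1) := by
  obtain ⟨g, hg⟩ := MulAction.exists_smul_eq (GL (Fin 2) F) (USylow (F := F) p) P
  rw [← hg] at ha
  have ha' := (mem_sylow_smul_iff g a _).1 ha
  rw [coe_USylow] at ha'
  obtain ⟨t, ht⟩ := (mem_U_iff _).1 ha'
  have ht0 : t ≠ 0 := by
    rintro rfl
    rw [uGL_zero] at ht
    apply ha1
    have : a = g * (g⁻¹ * a * g) * g⁻¹ := by group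
    rw [this, ← ht]
    group
  have h1 : a = g * uGL t * g⁻¹ := by
    rw [ht]; group
  rw [h1, card_centralizer_conj, card_centralizer_uGL ht0]

/-- S0259 -/
theorem sylow_inf_eq_bot (P Q : Sylow p (GL (Fin 2) F)) (h : P ≠ Q) :
    (P : Subgroup (GL (Fin 2) F)) ⊓ (Q : Subgroup (GL (Fin 2) F)) = ⊥ := by
  rw [eq_bot_iff]
  intro x hx
  rw [Subgroup.mem_bot]
  by_contra hx1
  obtain ⟨hxP, hxQ⟩ := Subgroup.mem_inf.1 hx
  obtain ⟨g, hg⟩ := MulAction.exists_smul_eq (GL (Fin 2) F) (USylow (F := F) p) P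
  obtain ⟨k, hk⟩ := MulAction.exists_smul_eq (GL (Fin 2) F) (USylow (F := F) p) Q
  rw [← hg] at hxP
  rw [← hk] at hxQ
  have hP' := (mem_sylow_smul_iff g x _).1 hxP
  have hQ' := (mem_sylow_smul_iff k x _).1 hxQ
  rw [coe_USylow] at hP' hQ'
  obtain ⟨t, ht⟩ := (mem_U_iff _).1 hP'
  obtain ⟨s, hs⟩ := (mem_U_iff _).1 hQ'
  have ht0 : t ≠ 0 := by
    rintro rfl
    rw [uGL_zero] at ht
    apply hx1
    have : x = g * (g⁻¹ * x * g) * g⁻¹ := by group
    rw [this, ← ht]
    group
  -- `k⁻¹ g` conjugates `uGL t` to `uGL s`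
  have hconj : (k⁻¹ * g) * uGL t = uGL s * (k⁻¹ * g) := by
    rw [ht, hs]; group
  have hup := upper_of_conj_mem ht0 hconj
  have hmem : k⁻¹ * g ∈ Subgroup.normalizer ((USylow (F := F) p : Sylow p (GL (Fin 2) F)) :
      Set (GL (Fin 2) F)) := (mem_normalizer_U_iff _).2 hup
  rw [← Sylow.smul_eq_iff_mem_normalizer, mul_smul, hg] at hmem
  apply h
  rw [← hk, ← hmem, smul_smul, mul_inv_cancel, one_smul]

end Finite

end Cfsg.Agent.Lib.H2.GL2
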