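import Cfsg.Agent.Lib.H13.HSDefs

/-!
# S2536 piece P6 (architect helper13): a transitive Hall `π`-subgroup of `S_9` with `2, 3 ∈ π`
contains `A_9`, so `5 ∈ π`.
-/

namespace Cfsg.Agent.Lib.H2.HS
open Equiv MulAction Cfsg.Agent.Lib.H13.HS
open scoped Pointwise

/-- local copy of P1 `hall_conj_elt`: an element of prime power order `r ^ k`, `r ∈ π`, is conjugate
into a Hall `π`-subgroup. -/
theorem p6_hall_conj_elt {G : Type*} [Group G] [Finite G] {π : Set ℕ} {H : Subgroup G}
    (hH : Cfsg.IsPiHall π H) {r : ℕ} (hr : r.Prime) (hrπ : r ∈ π)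
    (x : G) (k : ℕ) (hx : orderOf x = r ^ k) : ∃ g : G, g * x * g⁻¹ ∈ H := by
  classical
  have : Fact r.Prime := ⟨hr⟩
  -- a Sylow `r`-subgroup of `H`, seen in `G`, is a Sylow `r`-subgroup of `G`
  obtain ⟨P⟩ : Nonempty (Sylow r H) := inferInstance
  set P0 : Subgroup G := (P : Subgroup H).map H.subtype with hP0
  have hcardP0 : Nat.card P0 = r ^ (Nat.card G).factorization r := by
    have h1 : Nat.card P0 = Nat.card (P : Subgroup H) :=
      Subgroup.card_map_of_injective H.subtype_injective
    have h2 : Nat.card (P : Subgroup H) = r ^ (Nat.card H).factorization r :=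
      P.card_eq_multiplicity
    have h3 : (Nat.card G).factorization r = (Nat.card H).factorization r := by
      rw [← H.card_mul_index, Nat.factorization_mul Nat.card_pos.ne'
        (Subgroup.index_ne_zero_of_finite)]
      simp [Nat.factorization_eq_zero_of_not_dvd (hH.2 r hr hrπ)]
    rw [h1, h2, h3]
  let S : Sylow r G := Sylow.ofCard P0 hcardP0
  have hX : IsPGroup r (Subgroup.zpowers x) := by
    apply IsPGroup.of_card (n := k)
    rw [Nat.card_zpowers, hx]
  obtain ⟨Q, hQ⟩ := hX.exists_le_sylow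
  obtain ⟨g, hg⟩ := MulAction.exists_smul_eq G Q S
  refine ⟨g, ?_⟩
  have hxQ : x ∈ (Q : Subgroup G) := hQ (Subgroup.mem_zpowers x)
  have h1 : MulAut.conj g • x ∈ MulAut.conj g • (Q : Subgroup G) :=
    Subgroup.smul_mem_pointwise_smul x (MulAut.conj g) (Q : Subgroup G) hxQ
  have h2 : MulAut.conj g • (Q : Subgroup G) = P0 := by
    have := congrArg (fun T : Sylow r G => (T : Subgroup G)) hg
    simpa [Sylow.coe_subgroup_smul, S] using this
  rw [h2] at h1
  have h3 : P0 ≤ H := Subgroup.map_subtype_le _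
  have h4 : MulAut.conj g • x = g * x * g⁻¹ := by
    simp [MulAut.smul_def]
  rw [← h4]
  exact h3 h1

theorem caseE {α : Type*} [Finite α] (h9 : Nat.card α = 9) {π : Set ℕ} {H : Subgroup (Perm α)}
    (hH : Cfsg.IsPiHall π H) (htr : IsPretransitive H α) (h2 : 2 ∈ π) (h3 : 3 ∈ π) (h5 : 5 ∉ π) :
    False := by
  classical
  let _ : Fintype α := Fintype.ofFinite α
  have hcard : Fintype.card α = 9 := by rw [← Nat.card_eq_fintype_card]; exact h9
  have : Nontrivial α := by
    rw [← Fintype.one_lt_card_iff_nontrivial, hcard]; norm_num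
  -- an 8-cycle in `H`
  obtain ⟨σ0, hσ0⟩ : ∃ g : Perm α, g.cycleType = {8} :=
    (Equiv.Perm.exists_with_cycleType_iff α).mpr (by
      constructor
      · simp [hcard]
      · intro a ha
        simp at ha
        omega)
  have hσ0ord : orderOf σ0 = 2 ^ 3 := by
    rw [← Equiv.Perm.lcm_cycleType, hσ0]; simp
  obtain ⟨g1, hg1⟩ := p6_hall_conj_elt hH Nat.prime_two h2 σ0 3 hσ0ord
  set σ : Perm α := g1 * σ0 * g1⁻¹ with hσdef
  have hσtype : σ.cycleType = {8} := by rw [hσdef, Equiv.Perm.cycleType_conj, hσ0]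
  have hσcyc : σ.IsCycle := by
    rw [← Equiv.Perm.card_cycleType_eq_one, hσtype]; simp
  have hσsupp : σ.support.card = 8 := by
    rw [← Equiv.Perm.sum_cycleType, hσtype]; simp
  -- the fixed point of `σ`
  obtain ⟨p, hp⟩ : ∃ p : α, σ p = p := by
    by_contra hne
    push Not at hne
    have : σ.support = Finset.univ := by
      ext y; simp [Equiv.Perm.mem_support, hne y]
    rw [this, Finset.card_univ, hcard] at hσsupp
    omega
  have huniq : ∀ y : α, σ y = y → y = p := by
    intro y hy
    by_contra hyp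
    have hsub : σ.support ⊆ Finset.univ \ {p, y} := by
      intro z hz
      rw [Equiv.Perm.mem_support] at hz
      simp only [Finset.mem_sdiff, Finset.mem_univ, Finset.mem_insert, Finset.mem_singleton,
        true_and]
      rintro (rfl | rfl)
      · exact hz hp
      · exact hz hy
    have hle := Finset.card_le_card hsub
    rw [Finset.card_sdiff_of_subset (Finset.subset_univ _), Finset.card_univ, hcard,
      Finset.card_pair (Ne.symm hyp), hσsupp] at hle
    omega
  -- `H` is 2-transitive
  have h2tr : IsMultiplyPretransitive H α 2 := by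
    rw [MulAction.is_two_pretransitive_iff]
    intro a b c d hab hcd
    obtain ⟨k1, hk1⟩ := htr.exists_smul_eq a p
    obtain ⟨k2, hk2⟩ := htr.exists_smul_eq c p
    have hk1' : (k1 : Perm α) a = p := hk1
    have hk2' : (k2 : Perm α) c = p := hk2
    have hb : σ ((k1 : Perm α) b) ≠ (k1 : Perm α) b := by
      intro h
      have := huniq _ h
      rw [← hk1'] at this
      exact hab ((k1 : Perm α).injective this).symm
    have hd : σ ((k2 : Perm α) d) ≠ (k2 : Perm α) d := by
      intro h
      have := huniq _ h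
      rw [← hk2'] at this
      exact hcd ((k2 : Perm α).injective this).symm
    obtain ⟨i, hi⟩ := hσcyc.exists_zpow_eq hb hd
    have hσH : σ ∈ H := hg1
    have hfix : ∀ i : ℤ, (σ ^ i) p = p := by
      intro i
      exact Equiv.Perm.zpow_apply_eq_self_of_apply_eq_self hp i
    refine ⟨k2⁻¹ * ⟨σ ^ i, H.zpow_mem hσH i⟩ * k1, ?_, ?_⟩
    · change ((k2 : Perm α)⁻¹ * σ ^ i * (k1 : Perm α)) a = c
      simp only [Equiv.Perm.mul_apply, hk1', hfix]
      rw [Equiv.Perm.inv_eq_iff_eq, hk2']
    · change ((k2 : Perm α)⁻¹ * σ ^ i * (k1 : Perm α)) b = d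
      simp only [Equiv.Perm.mul_apply, hi]
      rw [Equiv.Perm.inv_eq_iff_eq]
  have hprim : IsPreprimitive H α := MulAction.isPreprimitive_of_is_two_pretransitive h2tr
  -- a 3-cycle in `H`
  obtain ⟨τ0, hτ0⟩ : ∃ g : Perm α, g.cycleType = {3} :=
    (Equiv.Perm.exists_with_cycleType_iff α).mpr (by
      constructor
      · simp [hcard]
      · intro a ha
        simp at ha
        omega)
  have hτ0ord : orderOf τ0 = 3 ^ 1 := by
    rw [← Equiv.Perm.lcm_cycleType, hτ0]; simp
  obtain ⟨g2, hg2⟩ := p6_hall_conj_elt hH Nat.prime_three h3 τ0 1 hτ0ord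
  have hτ3 : Equiv.Perm.IsThreeCycle (g2 * τ0 * g2⁻¹) := by
    unfold Equiv.Perm.IsThreeCycle
    rw [Equiv.Perm.cycleType_conj, hτ0]
  have hA : alternatingGroup α ≤ H :=
    Equiv.Perm.alternatingGroup_le_of_isPreprimitive_of_isThreeCycle_mem hprim hτ3 hg2
  -- `5` divides the order of `A_9`
  have hcardA : Nat.card (alternatingGroup α) = 181440 := by
    rw [nat_card_alternatingGroup, h9]; decide
  have h5H : 5 ∣ Nat.card H := by
    have := Subgroup.card_dvd_of_le hA
    rw [hcardA] at this
    exact dvd_trans (by norm_num) this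
  exact h5 (hH.1 5 (by norm_num) h5H)

end Cfsg.Agent.Lib.H2.HS
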