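import Cfsg.Agent.Lib.H2.HTTR
import Cfsg.Agent.Lib.H25.HTPAIR

set_option autoImplicit false

/-!
# S3371 (Passman), piece ODD: case B with `p` odd is impossible (helper2)
-/

namespace Cfsg.Agent.Lib.H2.HT

open Cfsg.Agent.Lib.H4.HT

variable {q : ℕ} {V : Type*} [AddCommGroup V] [Module (ZMod q) V] {G : Type*} [Group G]

/-- `p • w = 0` forces `w = 0` when `p ≠ q` are primes -/
theorem eq_zero_of_nsmul [Fact q.Prime] {p : ℕ} (hp : p.Prime) (hpq : p ≠ q) (w : V)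
    (h : p • w = 0) : w = 0 := by
  have h2 : (p : ZMod q) ≠ 0 := by
    intro h0
    rw [ZMod.natCast_eq_zero_iff] at h0
    exact hpq ((Nat.prime_dvd_prime_iff_eq Fact.out hp).1 h0).symm
  have h1 : (p : ZMod q) • w = 0 := by
    rw [Nat.cast_smul_eq_nsmul]
    exact h
  calc w = ((p : ZMod q)⁻¹ * (p : ZMod q)) • w := by rw [inv_mul_cancel₀ h2, one_smul]
    _ = 0 := by rw [mul_smul, h1, smul_zero]

/-- conjugation of a fixed vector -/
theorem rho_conj_fixed (ρ : G →* (V ≃ₗ[ZMod q] V)) (g u : G) (w : V) (hw : ρ u w = w) :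
    ρ (g * u * g⁻¹) (ρ g w) = ρ g w := by
  rw [← rho_mul, inv_mul_cancel_right, rho_mul, hw]

/-- the normalised form: `a` has a non-zero fixed vector -/
theorem false_of_odd_aux [Fact q.Prime] [Finite G] {p : ℕ} [Fact p.Prime]
    (hp2 : p ≠ 2) (hpq : p ≠ q) (ρ : G →* (V ≃ₗ[ZMod q] V))
    (hE : EqStab ρ) (hc : CentFpf ρ) (a z : G)
    (hz : z ∈ Subgroup.center G) (hz1 : z ≠ 1) (hzp : z ^ p = 1) (ha1 : a ≠ 1)
    (hconj : ∀ g : G, ∃ k : ℕ, g * a * g⁻¹ = a * z ^ k)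
    (w₁ : V) (hw₁0 : w₁ ≠ 0) (haw : ρ a w₁ = w₁) : False := by
  have hp : p.Prime := Fact.out
  have hp1 := hp.one_lt
  have hzc : ∀ g : G, g * z = z * g := Subgroup.mem_center_iff.1 hz
  have hzf : ∀ v : V, ρ z v = v → v = 0 := hc z hz hz1
  have hazc : a * z = z * a := hzc a
  have hzconj : ∀ (g : G) (n : ℕ), g * z ^ n * g⁻¹ = z ^ n := by
    intro g n
    have h1 : Commute g (z ^ n) := Commute.pow_right (hzc g) n
    rw [h1.eq, mul_inv_cancel_right]
  -- `a` is not central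
  have hanc : a ∉ Subgroup.center G := fun h => hw₁0 (hc a h ha1 w₁ haw)
  obtain ⟨x, hx⟩ : ∃ x : G, x * a * x⁻¹ ≠ a := by
    by_contra hcon
    apply hanc
    rw [Subgroup.mem_center_iff]
    intro g
    have h1 : g * a * g⁻¹ = a := by
      by_contra h2
      exact hcon ⟨g, h2⟩
    calc g * a = (g * a * g⁻¹) * g := by group
      _ = a * g := by rw [h1]
  obtain ⟨k, hk⟩ := hconj x
  have hpk : ¬ p ∣ k := by
    rintro ⟨t, rfl⟩
    apply hx
    rw [hk, pow_mul, hzp, one_pow, mul_one]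
  have hcop : Nat.Coprime k p := ((Nat.Prime.coprime_iff_not_dvd hp).2 hpk).symm
  obtain ⟨m, -, hm⟩ := Nat.exists_mul_mod_eq_one_of_coprime hcop hp1
  -- `y = x ^ m` conjugates `a` to `a z`
  have hpow : ∀ n : ℕ, x ^ n * a * (x ^ n)⁻¹ = a * z ^ (k * n) := by
    intro n
    induction n with
    | zero => simp
    | succ n ih =>
      calc x ^ (n + 1) * a * (x ^ (n + 1))⁻¹ = x * (x ^ n * a * (x ^ n)⁻¹) * x⁻¹ := by
            rw [pow_succ']; group
        _ = (x * a * x⁻¹) * (x * z ^ (k * n) * x⁻¹) := by rw [ih]; group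
        _ = a * z ^ (k * (n + 1)) := by
            rw [hk, hzconj, mul_assoc, ← pow_add, mul_add, mul_one, add_comm]
  have hy : x ^ m * a * (x ^ m)⁻¹ = a * z := by
    rw [hpow, pow_eq_pow_mod (k * m) hzp, hm, pow_one]
  set w₂ : V := ρ (x ^ m) w₁ with hw₂def
  have hw₂ : ρ (a * z) w₂ = w₂ := by
    rw [← hy]
    exact rho_conj_fixed ρ _ a w₁ haw
  have hw₂0 : w₂ ≠ 0 := by
    intro h0
    apply hw₁0
    exact (LinearEquiv.map_eq_zero_iff (ρ (x ^ m))).1 h0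
  -- the two fixed spaces meet trivially
  have hint : ∀ v : V, ρ a v = v → ρ (a * z) v = v → v = 0 := by
    intro v h1 h2
    apply hzf
    rw [hazc, rho_mul, h1] at h2
    exact h2
  have haw0 : ρ (a * z ^ 0) w₁ = w₁ := by rw [pow_zero, mul_one]; exact haw
  have haw1 : ρ (a * z ^ 1) w₂ = w₂ := by rw [pow_one]; exact hw₂
  have hv : w₁ + w₂ ≠ 0 := by
    intro h0
    have h1 : w₂ = -w₁ := (neg_eq_of_add_eq_zero_right h0).symm
    apply hw₂0
    apply hint w₂ _ hw₂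
    rw [h1, map_neg, haw]
  have hn01 : ¬ 0 ≡ 1 [MOD p] := by
    intro h
    have := Nat.ModEq.dvd h
    have h2 : (p : ℤ) ∣ 1 := by simpa using this
    have h3 : p ∣ 1 := by exact_mod_cast h2
    have := Nat.le_of_dvd one_pos h3
    omega
  have hn10 : ¬ 1 ≡ 0 [MOD p] := fun h => hn01 h.symm
  -- the stabiliser of `w₁ + w₂`
  have key : ∀ g : G, ρ g (w₁ + w₂) = w₁ + w₂ → ρ g w₁ = w₁ ∧ ρ g w₂ = w₂ := by
    intro g hg
    obtain ⟨c, hcg⟩ := hconj g
    have hgw1 : ρ (a * z ^ c) (ρ g w₁) = ρ g w₁ := by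
      rw [← hcg]
      exact rho_conj_fixed ρ g a w₁ haw
    have hgw2 : ρ (a * z ^ (1 + c)) (ρ g w₂) = ρ g w₂ := by
      have h1 : a * z ^ (1 + c) = g * (a * z) * g⁻¹ := by
        calc a * z ^ (1 + c) = (a * z ^ c) * z := by rw [add_comm, pow_succ, mul_assoc]
          _ = (g * a * g⁻¹) * (g * z ^ 1 * g⁻¹) := by rw [hcg, hzconj, pow_one]
          _ = g * (a * z) * g⁻¹ := by rw [pow_one]; group
      rw [h1]
      exact rho_conj_fixed ρ g (a * z) w₂ hw₂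
    have heq : w₁ + w₂ = ρ g w₁ + ρ g w₂ := by rw [← map_add, hg]
    by_cases h0 : c ≡ 0 [MOD p]
    · -- `g` centralises `a`
      have hzc1 : z ^ c = 1 := by
        rw [pow_eq_pow_mod c hzp, h0, Nat.zero_mod, pow_zero]
      rw [hzc1, mul_one] at hgw1
      rw [pow_add, hzc1, mul_one, pow_one] at hgw2
      have hd : ρ g w₁ - w₁ = w₂ - ρ g w₂ := by
        rw [sub_eq_sub_iff_add_eq_add, ← heq, add_comm]
      have hd0 : ρ g w₁ - w₁ = 0 := by
        apply hint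
        · rw [map_sub, hgw1, haw]
        · rw [hd, map_sub, hgw2, hw₂]
      have hd0' : w₂ - ρ g w₂ = 0 := by rw [← hd]; exact hd0
      exact ⟨sub_eq_zero.1 hd0, (sub_eq_zero.1 hd0').symm⟩
    · exfalso
      by_cases h1 : 1 + c ≡ 0 [MOD p]
      · -- apply `tr (a z)`
        have t1 : tr ρ p (a * z ^ 1) w₁ = 0 :=
          tr_eq_zero ρ hp a z hazc hzp hzf 1 0 hn10 w₁ haw0
        have t2 : tr ρ p (a * z ^ 1) w₂ = p • w₂ := tr_of_fixed ρ p _ w₂ haw1
        have t3 : tr ρ p (a * z ^ 1) (ρ g w₁) = 0 := by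
          apply tr_eq_zero ρ hp a z hazc hzp hzf 1 c _ _ hgw1
          intro h
          -- `1 ≡ c` and `1 + c ≡ 0` give `p ∣ 2`
          have h2 : 1 + 1 ≡ 0 [MOD p] := (Nat.ModEq.add_left 1 h).trans h1
          have h3 : p ∣ 2 := (Nat.modEq_zero_iff_dvd).1 h2
          have h4 := (Nat.prime_dvd_prime_iff_eq hp Nat.prime_two).1 h3
          exact hp2 h4
        have t4 : tr ρ p (a * z ^ 1) (ρ g w₂) = 0 := by
          apply tr_eq_zero ρ hp a z hazc hzp hzf 1 (1 + c) _ _ hgw2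
          intro h
          apply h0
          have h2 : 1 + 0 ≡ 1 + c [MOD p] := h
          exact (Nat.ModEq.add_left_cancel' 1 h2).symm
        have h5 := congrArg (tr ρ p (a * z ^ 1)) heq
        rw [tr_add, tr_add, t1, t2, t3, t4, zero_add, add_zero] at h5
        exact hw₂0 (eq_zero_of_nsmul hp hpq w₂ h5)
      · -- apply `tr a`
        have t1 : tr ρ p (a * z ^ 0) w₁ = p • w₁ := tr_of_fixed ρ p _ w₁ haw0
        have t2 : tr ρ p (a * z ^ 0) w₂ = 0 :=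
          tr_eq_zero ρ hp a z hazc hzp hzf 0 1 hn01 w₂ haw1
        have t3 : tr ρ p (a * z ^ 0) (ρ g w₁) = 0 :=
          tr_eq_zero ρ hp a z hazc hzp hzf 0 c (fun h => h0 h.symm) _ hgw1
        have t4 : tr ρ p (a * z ^ 0) (ρ g w₂) = 0 :=
          tr_eq_zero ρ hp a z hazc hzp hzf 0 (1 + c) (fun h => h1 h.symm) _ hgw2
        have h5 := congrArg (tr ρ p (a * z ^ 0)) heq
        rw [tr_add, tr_add, t1, t2, t3, t4, zero_add, add_zero] at h5
        exact hw₁0 (eq_zero_of_nsmul hp hpq w₁ h5)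
  -- equal orders
  have hle : stab ρ (w₁ + w₂) ≤ stab ρ w₁ := fun g hg => (key g hg).1
  have hcard : Nat.card (stab ρ w₁) ≤ Nat.card (stab ρ (w₁ + w₂)) := (hE _ _ hw₁0 hv).le
  have hEq : stab ρ (w₁ + w₂) = stab ρ w₁ := Subgroup.eq_of_le_of_card_ge hle hcard
  have ha_mem : a ∈ stab ρ (w₁ + w₂) := by
    rw [hEq]
    exact haw
  exact hw₂0 (hint w₂ (key a ha_mem).2 hw₂)

/-- **ODD** -/
theorem false_of_odd [Fact q.Prime] [Nontrivial V] [Finite G] {p : ℕ} [Fact p.Prime]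
    (hG : IsPGroup p G) (hp2 : p ≠ 2) (hpq : p ≠ q) (ρ : G →* (V ≃ₗ[ZMod q] V))
    (hρ : Function.Injective ρ) (hE : EqStab ρ) (hc : CentFpf ρ) (a z : G)
    (hz : z ∈ Subgroup.center G) (hz1 : z ≠ 1) (hzp : z ^ p = 1) (hap : a ^ p = 1)
    (haz : a ∉ Subgroup.zpowers z) (hconj : ∀ g : G, ∃ k : ℕ, g * a * g⁻¹ = a * z ^ k) : False := by
  have hp : p.Prime := Fact.out
  have hzc : ∀ g : G, g * z = z * g := Subgroup.mem_center_iff.1 hz
  obtain ⟨i, j, hne, w₀, hw₀, hfix⟩ :=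
    Cfsg.Agent.Lib.H25.HT.exists_fixed_of_pair hp hpq ρ a z (hzc a) hap hzp hz1 haz
  apply false_of_odd_aux hp2 hpq ρ hE hc (a ^ i * z ^ j) z hz hz1 hzp hne _ w₀ hw₀ hfix
  intro g
  obtain ⟨k, hk⟩ := hconj g
  refine ⟨k * i, ?_⟩
  have hzconj : g * z ^ j * g⁻¹ = z ^ j := by
    have h1 : Commute g (z ^ j) := Commute.pow_right (hzc g) j
    rw [h1.eq, mul_inv_cancel_right]
  have hcomm : Commute a (z ^ k) := Commute.pow_right (hzc a) k
  calc g * (a ^ i * z ^ j) * g⁻¹ = (g * a * g⁻¹) ^ i * (g * z ^ j * g⁻¹) := by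
        rw [conj_pow]; group
    _ = a ^ i * z ^ (k * i) * z ^ j := by rw [hk, hzconj, hcomm.mul_pow, ← pow_mul]
    _ = a ^ i * z ^ j * z ^ (k * i) := by
        rw [mul_assoc, mul_assoc, (Commute.pow_pow_self z (k * i) j).eq]

end Cfsg.Agent.Lib.H2.HT
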