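import Cfsg.Agent.Lib.H4.HT.Defs

set_option autoImplicit false

/-!
# S3371 (Passman), piece TR: the trace operator (helper2)
-/

namespace Cfsg.Agent.Lib.H2.HT

open Cfsg.Agent.Lib.H4.HT

variable {q : ℕ} {V : Type*} [AddCommGroup V] [Module (ZMod q) V] {G : Type*} [Group G]

theorem tr_add (ρ : G →* (V ≃ₗ[ZMod q] V)) (p : ℕ) (g : G) (v w : V) :
    tr ρ p g (v + w) = tr ρ p g v + tr ρ p g w := by
  unfold tr
  rw [← Finset.sum_add_distrib]
  apply Finset.sum_congr rfl
  intro i _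
  rw [map_add]

/-- powers of an element fixing `w` fix `w` -/
theorem rho_pow_fixed (ρ : G →* (V ≃ₗ[ZMod q] V)) (g : G) (w : V) (hw : ρ g w = w) (i : ℕ) :
    ρ (g ^ i) w = w := by
  induction i with
  | zero => rw [pow_zero, rho_one]
  | succ i ih => rw [pow_succ, rho_mul, hw, ih]

/-- **TR** -/
theorem tr_fixed (ρ : G →* (V ≃ₗ[ZMod q] V)) {p : ℕ} (g : G) (hg : g ^ p = 1) (v : V) :
    ρ g (tr ρ p g v) = tr ρ p g v := by
  unfold tr
  rw [map_sum]
  have h1 : ∀ i ∈ Finset.range p, ρ g (ρ (g ^ i) v) = ρ (g ^ (i + 1)) v := by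
    intro i _
    rw [pow_succ', rho_mul]
  rw [Finset.sum_congr rfl h1]
  have h2 := Finset.sum_range_succ (fun i => ρ (g ^ i) v) p
  have h3 := Finset.sum_range_succ' (fun i => ρ (g ^ i) v) p
  rw [h3] at h2
  simp only [hg, pow_zero] at h2
  exact add_right_cancel h2

theorem tr_of_fixed (ρ : G →* (V ≃ₗ[ZMod q] V)) (p : ℕ) (g : G) (w : V) (hw : ρ g w = w) :
    tr ρ p g w = p • w := by
  unfold tr
  rw [Finset.sum_congr rfl (fun i _ => rho_pow_fixed ρ g w hw i), Finset.sum_const,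
    Finset.card_range]

/-- `tr (a z^j)` kills the fixed space of `a z^k` for `j ≢ k` mod `p` (when `z` is fixed-point-free). -/
theorem tr_eq_zero (ρ : G →* (V ≃ₗ[ZMod q] V)) {p : ℕ} (hp : p.Prime) (a z : G) (haz : a * z = z * a)
    (hz : z ^ p = 1) (hzf : ∀ v : V, ρ z v = v → v = 0) (j k : ℕ) (hjk : ¬ j ≡ k [MOD p]) (w : V)
    (hw : ρ (a * z ^ k) w = w) : tr ρ p (a * z ^ j) w = 0 := by
  have hp1 := hp.one_lt
  set m := j + (p - 1) * k with hm
  set u := a * z ^ k with hu
  set c := z ^ m with hc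
  -- `a z^j = u c`
  have huc : a * z ^ j = u * c := by
    rw [hu, hc, hm, mul_assoc, ← pow_add]
    have h1 : k + (j + (p - 1) * k) = j + p * k := by
      have : p = (p - 1) + 1 := by omega
      nth_rewrite 2 [this]
      ring
    rw [h1, pow_add, pow_mul, hz, one_pow, mul_one]
  have hcomm : Commute u c := by
    have h1 : Commute a z := haz
    exact Commute.mul_left (h1.pow_right m) (Commute.pow_pow_self z k m)
  have hcp : c ^ p = 1 := by rw [hc, ← pow_mul, mul_comm, pow_mul, hz, one_pow]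
  -- `p ∤ m`
  have hpm : ¬ p ∣ m := by
    intro hdvd
    apply hjk
    have h1 : (m + k) % p = k % p := by
      rw [Nat.add_mod, Nat.mod_eq_zero_of_dvd hdvd, zero_add, Nat.mod_mod]
    have h2 : m + k = j + p * k := by
      rw [hm]
      have : p = (p - 1) + 1 := by omega
      nth_rewrite 2 [this]
      ring
    rw [h2, Nat.add_mul_mod_self_left] at h1
    exact h1
  -- the trace is the trace of `c`
  have htr : tr ρ p (a * z ^ j) w = tr ρ p c w := by
    unfold tr
    apply Finset.sum_congr rfl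
    intro i _
    rw [huc, hcomm.mul_pow, (hcomm.pow_pow i i).eq, rho_mul, rho_pow_fixed ρ u w hw i]
  rw [htr]
  -- it is fixed by `c`, hence by `z`
  have hfix := tr_fixed ρ c hcp w
  have hcop : Nat.Coprime m p := ((Nat.Prime.coprime_iff_not_dvd hp).2 hpm).symm
  obtain ⟨s, -, hs⟩ := Nat.exists_mul_mod_eq_one_of_coprime hcop hp1
  have hzc : z = c ^ s := by
    rw [hc, ← pow_mul, pow_eq_pow_mod (m * s) hz, hs, pow_one]
  apply hzf
  rw [hzc]
  exact rho_pow_fixed ρ c _ hfix s

end Cfsg.Agent.Lib.H2.HT
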