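import Mathlib
import Cfsg.Prelude.Def_LieTypeChar
import Cfsg.Prelude.Def_EvenType
import Cfsg.Agent.Lib.H13.IRDefs
import Cfsg.Agent.Lib.H13.Sp4Graph

/-!
# S2926 piece PSP: `PSp_{2m}(F)`, `F` finite of characteristic 2, is `InvRigid` (even `FixRigid`)
Route A of the blueprint with `R = Tb e`, the transvection group of ONE point: an automorphism `β` fixing `R` elementwise
preserves transvections, so it is `cSp hg σ` (helper13's `isSemi` / `pres_of_x0` + `isSemi_of_pres1`); `semiSp_tv` gives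
`tv e' (σ a / c) = tv e a` for all `a`, hence `σ = 1`; in characteristic 2 every similitude is a scalar times an isometry,
so `cSp hg 1` is inner (`range_cGSp_eq_inn`).
-/

set_option autoImplicit false

namespace Cfsg.Agent.Lib.H2.IR

open Cfsg Cfsg.Agent.Lib.H13.IR Cfsg.Agent.Lib.H13.AutPSp Cfsg.Agent.Lib.H13.Sp4Graph Cfsg.Agent.Lib.H13
open Cfsg.Agent.Lib.H2.Sp Matrix

section

variable {F : Type*} [Field F] {m : ℕ}

/-- the field automorphism of a semilinear-induced automorphism fixing all transvections `tv e a` is trivial -/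
theorem psp_sigma_eq_refl (hm : 1 ≤ m) [CharP F 2] {g : GL (K m) F} (hg : g ∈ Cfsg.GSp m F) (σ : F ≃+* F)
    {e : K m → F} (he : e ≠ 0)
    (hfix : ∀ a : F, cSp hg σ (pr (tv m e a)) = pr (tv m e a)) : σ = RingEquiv.refl F := by
  obtain ⟨c, hc0, hc⟩ := semiSp_tv hg σ e 0
  set e' := smv (g : Matrix (K m) (K m) F) σ e with he'
  have key : ∀ a : F, tv m e' (σ a / c) = tv m e a := by
    intro a
    have h1 := hfix a
    rw [cSp_pr, hc a] at h1
    exact pr_injective hm h1
  obtain ⟨x, hx⟩ := exists_B_eq_one (m := m) he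
  -- evaluate at `x`
  have hval : ∀ a : F, ((σ a / c) * Cfsg.sympForm m F x e') • e' = a • e := by
    intro a
    have h1 := congrArg (fun s => sv s x) (key a)
    simp only [sv_tv, hx, mul_one] at h1
    exact add_left_cancel h1
  have h1 := hval 1
  rw [map_one, one_smul] at h1
  apply RingEquiv.ext
  intro a
  have h2 := hval a
  have h3 : ((σ a / c) * Cfsg.sympForm m F x e') • e' = σ a • e := by
    rw [← h1, smul_smul]
    congr 1
    field_simp
  rw [h3] at h2
  have h4 : (σ a - a) • e = 0 := by rw [sub_smul, h2, sub_self]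
  rcases smul_eq_zero.mp h4 with h5 | h5
  · rw [RingEquiv.refl_apply]
    exact sub_eq_zero.mp h5
  · exact absurd h5 he

theorem isPGroup_Tb [CharP F 2] (e : K m → F) : IsPGroup 2 (Tb (m := m) e) := by
  rintro ⟨x, hx⟩
  obtain ⟨a, rfl⟩ := mem_Tb.mp hx
  refine ⟨1, ?_⟩
  apply Subtype.ext
  rw [Subgroup.coe_pow, Subgroup.coe_one, pow_one, pow_two, ← map_mul, tv_mul, CharTwo.add_self_eq_zero,
    tv_zero_right, map_one]

end

section

variable {F : Type*} [Field F] [Fintype F] [CharP F 2] {m : ℕ}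

/-- a semilinear-induced automorphism fixing all `pr (tv e a)` is inner (characteristic 2) -/
theorem psp_inner_of_cSp (hm : 2 ≤ m) {g : GL (K m) F} (hg : g ∈ Cfsg.GSp m F) (σ : F ≃+* F)
    {e : K m → F} (he : e ≠ 0)
    (hfix : ∀ a : F, cSp hg σ (pr (tv m e a)) = pr (tv m e a)) :
    (cSp hg σ : MulAut (Cfsg.PSp m F)) ∈ Cfsg.Inn (Cfsg.PSp m F) := by
  have h1 := psp_sigma_eq_refl (by omega) hg σ he hfix
  subst h1
  rw [← range_cGSp_eq_inn hm units_sq_of_char_two]
  exact ⟨⟨g, hg⟩, rfl⟩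

end

/-- PSP -/
theorem invRigid_PSp (F : Type*) [Field F] [Fintype F] [CharP F 2] (m : ℕ) (hm : 2 ≤ m)
    (h2 : m = 2 → 3 ≤ Fintype.card F) : InvRigid (PSp m F) := by
  classical
  have : Fact (Nat.Prime 2) := ⟨Nat.prime_two⟩
  apply FixRigid.invRigid
  rcases Nat.lt_or_ge m 3 with hlt | hge
  · -- `m = 2`
    obtain rfl : m = 2 := by omega
    refine fixRigid_of_pgroup (Tb (m := 2) (e1 : K 2 → F)) (isPGroup_Tb _) ?_
    intro β hβ
    have hx0 : β x0 = x0 := hβ _ (mem_Tb.mpr ⟨1, rfl⟩)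
    have hpres : Pres β := pres_of_x0 β (by rw [hx0]; exact x0_mem)
    obtain ⟨g, hg, σ, rfl⟩ := isSemi_of_pres1 (by norm_num) β hpres
    exact psp_inner_of_cSp (by norm_num) hg σ e1_ne_zero (fun a => hβ _ (mem_Tb.mpr ⟨a, rfl⟩))
  · -- `m ≥ 3`
    obtain ⟨e, he⟩ : ∃ e : K m → F, e ≠ 0 := by
      refine ⟨Pi.single (Sum.inl ⟨0, by omega⟩) 1, ?_⟩
      intro h
      have := congrFun h (Sum.inl ⟨0, by omega⟩)
      simp at this
    refine fixRigid_of_pgroup (Tb (m := m) e) (isPGroup_Tb _) ?_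
    intro β hβ
    obtain ⟨g, hg, σ, rfl⟩ := isSemi (p := 2) hm (fun h => by omega) β
    exact psp_inner_of_cSp hm hg σ he (fun a => hβ _ (mem_Tb.mpr ⟨a, rfl⟩))

end Cfsg.Agent.Lib.H2.IR
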