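import Mathlib

/-!
# Involution graphs in symmetric groups, part 1: basics

`Inv x` (x * x = 1), removing / adding a 2-cycle, and the insertion lemma:
multiplying a permutation of odd order by a 3-cycle `(u e f)` with `e, f` fixed points
keeps the order odd.
-/

set_option linter.unusedSectionVars false

namespace Cfsg.Agent.Lib.H2.InvG

open Equiv Equiv.Perm

variable {V : Type*} [DecidableEq V] [Fintype V]

/-- `x` is an involution or the identity. -/
def Inv (x : Perm V) : Prop := x * x = 1

theorem Inv.apply {x : Perm V} (hx : Inv x) (v : V) : x (x v) = v := by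
  have := congrArg (fun p : Perm V => p v) hx
  simpa using this

theorem Inv.inv_eq {x : Perm V} (hx : Inv x) : x⁻¹ = x :=
  inv_eq_of_mul_eq_one_left hx

theorem inv_of_apply {x : Perm V} (h : ∀ v, x (x v) = v) : Inv x := by
  refine Equiv.ext fun v => ?_
  simpa using h v

theorem inv_one : Inv (1 : Perm V) := by simp [Inv]

theorem Inv.eq_of_apply_eq {x : Perm V} (hx : Inv x) {a b : V} (h : x a = b) : x b = a := by
  rw [← h, hx.apply]

/-- product of two commuting involutions -/
theorem Inv.mul_of_commute {x z : Perm V} (hx : Inv x) (hz : Inv z) (h : x * z = z * x) :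
    Inv (x * z) := by
  unfold Inv at *
  calc x * z * (x * z) = x * (z * x) * z := by group
    _ = x * (x * z) * z := by rw [h]
    _ = (x * x) * (z * z) := by group
    _ = 1 := by rw [hx, hz, one_mul]

/-- a swap of two fixed points commutes -/
theorem swap_mul_comm_of_fixed {z : Perm V} {e f : V} (he : z e = e) (hf : z f = f) :
    swap e f * z = z * swap e f := by
  rw [swap_mul_eq_mul_swap]
  have h1 : z⁻¹ e = e := by rw [Perm.inv_eq_iff_eq]; exact he.symm
  have h2 : z⁻¹ f = f := by rw [Perm.inv_eq_iff_eq]; exact hf.symm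
  rw [h1, h2]

theorem inv_swap (e f : V) : Inv (swap e f) := swap_mul_self e f

/-- adding an edge on two fixed points -/
theorem Inv.mul_swap_fixed {z : Perm V} (hz : Inv z) {e f : V} (he : z e = e) (hf : z f = f) :
    Inv (z * swap e f) :=
  hz.mul_of_commute (inv_swap e f) (swap_mul_comm_of_fixed he hf).symm

theorem disjoint_swap_of_fixed {z : Perm V} {e f : V} (he : z e = e) (hf : z f = f) :
    Perm.Disjoint z (swap e f) := by
  intro v
  by_cases h1 : v = e
  · left; rw [h1, he]
  by_cases h2 : v = f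
  · left; rw [h2, hf]
  right; exact swap_apply_of_ne_of_ne h1 h2

theorem card_support_mul_swap_fixed {z : Perm V} {e f : V} (he : z e = e) (hf : z f = f)
    (hef : e ≠ f) : (z * swap e f).support.card = z.support.card + 2 := by
  rw [(disjoint_swap_of_fixed he hf).card_support_mul, card_support_swap hef]

theorem support_mul_swap_fixed_subset {z : Perm V} {e f : V} {S : Finset V}
    (hz : z.support ⊆ S) (he : e ∈ S) (hf : f ∈ S) : (z * swap e f).support ⊆ S := by
  intro v hv
  rw [Perm.mem_support] at hv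
  by_cases h1 : v = e
  · rw [h1]; exact he
  by_cases h2 : v = f
  · rw [h2]; exact hf
  apply hz
  rw [Perm.mem_support]
  rwa [Perm.mul_apply, swap_apply_of_ne_of_ne h1 h2] at hv

/-! ### removing an edge -/

section rem
variable {x : Perm V} (hx : Inv x) {a b : V} (hab : x a = b)
include hx hab

theorem rem_apply_left : (x * swap a b) a = a := by
  rw [Perm.mul_apply, swap_apply_left]; exact hx.eq_of_apply_eq hab

theorem rem_apply_right : (x * swap a b) b = b := by
  rw [Perm.mul_apply, swap_apply_right]; exact hab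

omit hx hab in
theorem rem_apply_of_ne {x : Perm V} {a b : V} {v : V} (h1 : v ≠ a) (h2 : v ≠ b) :
    (x * swap a b) v = x v := by
  rw [Perm.mul_apply, swap_apply_of_ne_of_ne h1 h2]

theorem rem_inv : Inv (x * swap a b) := by
  refine inv_of_apply fun v => ?_
  by_cases h1 : v = a
  · rw [h1, rem_apply_left hx hab, rem_apply_left hx hab]
  by_cases h2 : v = b
  · rw [h2, rem_apply_right hx hab, rem_apply_right hx hab]
  rw [rem_apply_of_ne h1 h2]
  have h3 : x v ≠ a := by
    intro h; apply h2; rw [← hab, ← h, hx.apply]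
  have h4 : x v ≠ b := by
    intro h; apply h1
    have := hx.eq_of_apply_eq h
    rw [← this, hx.eq_of_apply_eq hab]
  rw [rem_apply_of_ne h3 h4, hx.apply]

theorem rem_mul_swap : x * swap a b * swap a b = x := by
  rw [mul_assoc, swap_mul_self, mul_one]

theorem rem_card (hne : a ≠ b) : (x * swap a b).support.card + 2 = x.support.card := by
  have := card_support_mul_swap_fixed (rem_apply_left hx hab) (rem_apply_right hx hab) hne
  rw [rem_mul_swap hx hab] at this
  exact this.symm

theorem rem_support_subset : (x * swap a b).support ⊆ x.support := by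
  intro v hv
  rw [Perm.mem_support] at hv ⊢
  by_cases h1 : v = a
  · exact absurd (by rw [h1, rem_apply_left hx hab]) hv
  by_cases h2 : v = b
  · exact absurd (by rw [h2, rem_apply_right hx hab]) hv
  rwa [rem_apply_of_ne h1 h2] at hv

theorem rem_support_subset_erase {S : Finset V} (hS : x.support ⊆ S) :
    (x * swap a b).support ⊆ (S.erase a).erase b := by
  intro v hv
  have hv' := hv
  rw [Perm.mem_support] at hv
  have h1 : v ≠ a := by
    intro h; apply hv; rw [h, rem_apply_left hx hab]
  have h2 : v ≠ b := by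
    intro h; apply hv; rw [h, rem_apply_right hx hab]
  exact Finset.mem_erase.2 ⟨h2, Finset.mem_erase.2 ⟨h1, hS (rem_support_subset hx hab hv')⟩⟩

end rem

/-! ### odd order helpers -/

theorem odd_orderOf_of_pow_eq_one {G : Type*} [Monoid G] {g : G} {N : ℕ} (hN : Odd N)
    (h : g ^ N = 1) : Odd (orderOf g) :=
  hN.of_dvd_nat (orderOf_dvd_of_pow_eq_one h)

theorem odd_orderOf_one : Odd (orderOf (1 : Perm V)) := by simp

theorem Inv.orderOf_mul_comm {x z : Perm V} (hx : Inv x) (hz : Inv z) :
    orderOf (z * x) = orderOf (x * z) := by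
  have : (x * z)⁻¹ = z * x := by rw [mul_inv_rev, hx.inv_eq, hz.inv_eq]
  rw [← this, orderOf_inv]

/-- The insertion lemma: if `g` has odd order and fixes `e ≠ f`, and `u ∉ {e, f}`, then
`g * (u e f)` has odd order (`e, f` are inserted after `u` into the cycle of `u`). -/
theorem odd_insert {g : Perm V} (hg : Odd (orderOf g)) {u e f : V}
    (he : g e = e) (hf : g f = f) (hef : e ≠ f) (hue : u ≠ e) (huf : u ≠ f) :
    Odd (orderOf (g * swap u e * swap e f)) := by
  obtain ⟨g', hg'⟩ : ∃ g' : Perm V, g' = g * swap u e * swap e f := ⟨_, rfl⟩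
  rw [← hg']
  have h1 : g' u = e := by
    rw [hg', Perm.mul_apply, Perm.mul_apply, swap_apply_of_ne_of_ne hue huf, swap_apply_left, he]
  have h2 : g' e = f := by
    rw [hg', Perm.mul_apply, Perm.mul_apply, swap_apply_left,
      swap_apply_of_ne_of_ne huf.symm hef.symm, hf]
  have h3 : g' f = g u := by
    rw [hg', Perm.mul_apply, Perm.mul_apply, swap_apply_right, swap_apply_right]
  have h4 : ∀ v, v ≠ u → v ≠ e → v ≠ f → g' v = g v := by
    intro v hvu hve hvf
    rw [hg', Perm.mul_apply, Perm.mul_apply, swap_apply_of_ne_of_ne hve hvf,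
      swap_apply_of_ne_of_ne hvu hve]
  have hpe : ∀ j : ℕ, (g ^ j) e = e := fun j => Perm.pow_apply_eq_self_of_apply_eq_self he j
  have hpf : ∀ j : ℕ, (g ^ j) f = f := fun j => Perm.pow_apply_eq_self_of_apply_eq_self hf j
  have hne : ∀ (j : ℕ) (v : V), v ≠ e → (g ^ j) v ≠ e := by
    intro j v hv h
    apply hv
    have := (g ^ j).injective (h.trans (hpe j).symm)
    exact this
  have hnf : ∀ (j : ℕ) (v : V), v ≠ f → (g ^ j) v ≠ f := by
    intro j v hv h
    apply hv
    exact (g ^ j).injective (h.trans (hpf j).symm)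
  set ℓ := Function.minimalPeriod g u with hℓ
  have hper : Function.IsPeriodicPt g (orderOf g) u := by
    unfold Function.IsPeriodicPt Function.IsFixedPt
    rw [Perm.iterate_eq_pow, pow_orderOf_eq_one]; rfl
  have hℓdvd : ℓ ∣ orderOf g := hper.minimalPeriod_dvd
  have hℓodd : Odd ℓ := hg.of_dvd_nat hℓdvd
  have hℓpos : 0 < ℓ := hℓodd.pos
  have hℓu : (g ^ ℓ) u = u := by
    rw [← Perm.iterate_eq_pow]; exact Function.iterate_minimalPeriod
  have hlt : ∀ j : ℕ, 0 < j → j < ℓ → (g ^ j) u ≠ u := by
    intro j hj0 hjl h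
    apply Function.not_isPeriodicPt_of_pos_of_lt_minimalPeriod hj0.ne' hjl
    unfold Function.IsPeriodicPt Function.IsFixedPt
    rw [Perm.iterate_eq_pow]; exact h
  -- the key computation
  have key : ∀ j : ℕ, 1 ≤ j → j ≤ ℓ → (g' ^ (j + 2)) u = (g ^ j) u := by
    intro j hj1
    induction j, hj1 using Nat.le_induction with
    | base =>
      intro _
      rw [pow_succ', pow_succ', pow_one, Perm.mul_apply, Perm.mul_apply, h1, h2, h3, pow_one]
    | succ j hj ih =>
      intro hjl
      have hjl' : j < ℓ := hjl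
      rw [show j + 1 + 2 = (j + 2) + 1 by ring, pow_succ', Perm.mul_apply, ih hjl'.le,
        h4 _ (hlt j hj hjl') (hne j u hue) (hnf j u huf), pow_succ', Perm.mul_apply]
  have hcyc : (g' ^ (ℓ + 2)) u = u := by rw [key ℓ hℓpos le_rfl, hℓu]
  -- every point in the new cycle is a g'-power image of u
  have horb : ∀ v, (v = e ∨ v = f ∨ ∃ j : ℕ, (g ^ j) u = v) → ∃ i : ℕ, (g' ^ i) u = v := by
    intro v hv
    rcases hv with rfl | rfl | ⟨j, rfl⟩
    · exact ⟨1, by rw [pow_one, h1]⟩
    · exact ⟨2, by rw [pow_succ', pow_one, Perm.mul_apply, h1, h2]⟩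
    · have hmod : (g ^ (j % ℓ)) u = (g ^ j) u := by
        have := Function.iterate_mod_minimalPeriod_eq (f := g) (x := u) (n := j)
        rwa [Perm.iterate_eq_pow, Perm.iterate_eq_pow] at this
      rcases Nat.eq_zero_or_pos (j % ℓ) with h0 | hpos
      · refine ⟨0, ?_⟩
        rw [← hmod, h0, pow_zero, pow_zero]
      · refine ⟨j % ℓ + 2, ?_⟩
        rw [key _ hpos (Nat.mod_lt _ hℓpos).le, hmod]
  set N := orderOf g * (ℓ + 2) with hN
  have hNodd : Odd N := hg.mul (hℓodd.add_even (by norm_num))
  refine odd_orderOf_of_pow_eq_one hNodd ?_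
  refine Equiv.ext fun v => ?_
  rw [Perm.one_apply]
  by_cases hv : v = e ∨ v = f ∨ ∃ j : ℕ, (g ^ j) u = v
  · obtain ⟨i, rfl⟩ := horb v hv
    have : (g' ^ (ℓ + 2)) ((g' ^ i) u) = (g' ^ i) u := by
      rw [← Perm.mul_apply, ← pow_add, add_comm, pow_add, Perm.mul_apply, hcyc]
    rw [hN, mul_comm, pow_mul]
    exact Perm.pow_apply_eq_self_of_apply_eq_self this _
  · push Not at hv
    obtain ⟨hve, hvf, hvo⟩ := hv
    have hvu : ∀ i : ℕ, (g ^ i) v ≠ u := by
      intro i h
      apply hvo (i * (orderOf g - 1))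
      have h5 : ((g ^ i) ^ (orderOf g - 1)) ((g ^ i) v) = v := by
        rw [← Perm.mul_apply, ← pow_succ, Nat.sub_add_cancel (orderOf_pos g), ← pow_mul,
          mul_comm, pow_mul, pow_orderOf_eq_one, one_pow, Perm.one_apply]
      rw [pow_mul, ← h, h5]
    have hpow : ∀ i : ℕ, (g' ^ i) v = (g ^ i) v := by
      intro i
      induction i with
      | zero => simp
      | succ i ih =>
        rw [pow_succ', Perm.mul_apply, ih, h4 _ (hvu i) (hne i v hve) (hnf i v hvf),
          pow_succ', Perm.mul_apply]
    have : (g' ^ orderOf g) v = v := by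
      rw [hpow, pow_orderOf_eq_one, Perm.one_apply]
    rw [hN, pow_mul]
    exact Perm.pow_apply_eq_self_of_apply_eq_self this _

end Cfsg.Agent.Lib.H2.InvG
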