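import Mathlib
import Cfsg.Agent.Lib.H2.InvG1

/-!
# Involution graphs in symmetric groups, part 2: explicit configurations

Swap identities on named points (given as values of an injective function) and the three
explicit configurations: a 4-cycle with a spare point, two 4-cycles, an 8-cycle.
-/

set_option linter.unusedSectionVars false

namespace Cfsg.Agent.Lib.H2.InvG

open Equiv Equiv.Perm

variable {V : Type*} [DecidableEq V] [Fintype V]

/-- `z` solves the instance `(S, x, y)`. -/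
def Sol (S : Finset V) (x y z : Perm V) : Prop :=
  Inv z ∧ z.support ⊆ S ∧ z.support.card = x.support.card ∧
    Odd (orderOf (x * z)) ∧ Odd (orderOf (y * z))

theorem Sol.symm {S : Finset V} {x y z : Perm V} (h : Sol S x y z)
    (hc : x.support.card = y.support.card) : Sol S y x z :=
  ⟨h.1, h.2.1, h.2.2.1.trans hc, h.2.2.2.2, h.2.2.2.1⟩

/-! ### products of disjoint swaps -/

theorem two_swaps {k : ℕ} (p : Fin k → V) (hp : Function.Injective p) (σ : Fin 4 → Fin k)
    (hσ : Function.Injective σ) {S : Finset V} (hS : ∀ i, p i ∈ S) :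
    Inv (swap (p (σ 0)) (p (σ 1)) * swap (p (σ 2)) (p (σ 3))) ∧
    (swap (p (σ 0)) (p (σ 1)) * swap (p (σ 2)) (p (σ 3))).support.card = 4 ∧
    (swap (p (σ 0)) (p (σ 1)) * swap (p (σ 2)) (p (σ 3))).support ⊆ S := by
  have hne : ∀ i j, i ≠ j → p (σ i) ≠ p (σ j) := fun i j hij h => hij (hσ (hp h))
  have e1 : swap (p (σ 0)) (p (σ 1)) (p (σ 2)) = p (σ 2) :=
    swap_apply_of_ne_of_ne (hne 2 0 (by decide)) (hne 2 1 (by decide))
  have e2 : swap (p (σ 0)) (p (σ 1)) (p (σ 3)) = p (σ 3) :=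
    swap_apply_of_ne_of_ne (hne 3 0 (by decide)) (hne 3 1 (by decide))
  refine ⟨(inv_swap _ _).mul_swap_fixed e1 e2, ?_, ?_⟩
  · rw [card_support_mul_swap_fixed e1 e2 (hne 2 3 (by decide)),
      card_support_swap (hne 0 1 (by decide))]
  · refine support_mul_swap_fixed_subset ?_ (hS _) (hS _)
    rw [support_swap (hne 0 1 (by decide))]
    intro v hv
    simp only [Finset.mem_insert, Finset.mem_singleton] at hv
    rcases hv with rfl | rfl <;> exact hS _

theorem four_swaps {k : ℕ} (p : Fin k → V) (hp : Function.Injective p) (σ : Fin 8 → Fin k)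
    (hσ : Function.Injective σ) {S : Finset V} (hS : ∀ i, p i ∈ S) :
    Inv (swap (p (σ 0)) (p (σ 1)) * swap (p (σ 2)) (p (σ 3)) * swap (p (σ 4)) (p (σ 5)) *
      swap (p (σ 6)) (p (σ 7))) ∧
    (swap (p (σ 0)) (p (σ 1)) * swap (p (σ 2)) (p (σ 3)) * swap (p (σ 4)) (p (σ 5)) *
      swap (p (σ 6)) (p (σ 7))).support.card = 8 ∧
    (swap (p (σ 0)) (p (σ 1)) * swap (p (σ 2)) (p (σ 3)) * swap (p (σ 4)) (p (σ 5)) *
      swap (p (σ 6)) (p (σ 7))).support ⊆ S := by
  have hne : ∀ i j, i ≠ j → p (σ i) ≠ p (σ j) := fun i j hij h => hij (hσ (hp h))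
  obtain ⟨i1, c1, s1⟩ := two_swaps p hp ![σ 0, σ 1, σ 2, σ 3]
    (by intro i j hij; apply_fun σ.comp ![0, 1, 2, 3] using hσ.comp (by decide)
        fin_cases i <;> fin_cases j <;> simp_all) hS
  simp only [Matrix.cons_val_zero, Matrix.cons_val_one, Matrix.cons_val] at i1 c1 s1
  set z2 := swap (p (σ 0)) (p (σ 1)) * swap (p (σ 2)) (p (σ 3)) with hz2
  have f : ∀ i : Fin 8, 4 ≤ i.val → z2 (p (σ i)) = p (σ i) := by
    intro i hi
    rw [hz2, Perm.mul_apply,
      swap_apply_of_ne_of_ne (hne i 2 (by intro h; rw [h] at hi; revert hi; decide))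
        (hne i 3 (by intro h; rw [h] at hi; revert hi; decide)),
      swap_apply_of_ne_of_ne (hne i 0 (by intro h; rw [h] at hi; revert hi; decide))
        (hne i 1 (by intro h; rw [h] at hi; revert hi; decide))]
  have e4 := f 4 (by decide)
  have e5 := f 5 (by decide)
  have e6 := f 6 (by decide)
  have e7 := f 7 (by decide)
  have i3 := i1.mul_swap_fixed e4 e5
  have c3 := card_support_mul_swap_fixed e4 e5 (hne 4 5 (by decide))
  have s3 := support_mul_swap_fixed_subset s1 (hS (σ 4)) (hS (σ 5))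
  have g6 : (z2 * swap (p (σ 4)) (p (σ 5))) (p (σ 6)) = p (σ 6) := by
    rw [Perm.mul_apply, swap_apply_of_ne_of_ne (hne 6 4 (by decide)) (hne 6 5 (by decide)), e6]
  have g7 : (z2 * swap (p (σ 4)) (p (σ 5))) (p (σ 7)) = p (σ 7) := by
    rw [Perm.mul_apply, swap_apply_of_ne_of_ne (hne 7 4 (by decide)) (hne 7 5 (by decide)), e7]
  refine ⟨i3.mul_swap_fixed g6 g7, ?_, support_mul_swap_fixed_subset s3 (hS _) (hS _)⟩
  rw [card_support_mul_swap_fixed g6 g7 (hne 6 7 (by decide)), c3, c1]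

/-! ### odd order of explicit cycles -/

theorem odd_three_cycle {k : ℕ} (p : Fin k → V) (hp : Function.Injective p) (σ : Fin 3 → Fin k)
    (hσ : Function.Injective σ) :
    Odd (orderOf (swap (p (σ 0)) (p (σ 1)) * swap (p (σ 1)) (p (σ 2)))) := by
  have hne : ∀ i j, i ≠ j → p (σ i) ≠ p (σ j) := fun i j hij h => hij (hσ (hp h))
  have := odd_insert (g := (1 : Perm V)) odd_orderOf_one (u := p (σ 0)) (e := p (σ 1))
    (f := p (σ 2)) rfl rfl (hne 1 2 (by decide)) (hne 0 1 (by decide)) (hne 0 2 (by decide))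
  rwa [one_mul] at this

theorem odd_five_cycle {k : ℕ} (p : Fin k → V) (hp : Function.Injective p) (σ : Fin 5 → Fin k)
    (hσ : Function.Injective σ) :
    Odd (orderOf (swap (p (σ 0)) (p (σ 1)) * swap (p (σ 1)) (p (σ 2)) *
      swap (p (σ 2)) (p (σ 3)) * swap (p (σ 3)) (p (σ 4)))) := by
  have hne : ∀ i j, i ≠ j → p (σ i) ≠ p (σ j) := fun i j hij h => hij (hσ (hp h))
  have h3 := odd_three_cycle p hp ![σ 0, σ 1, σ 2]
    (by intro i j hij; apply_fun σ.comp ![0, 1, 2] using hσ.comp (by decide)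
        fin_cases i <;> fin_cases j <;> simp_all)
  simp only [Matrix.cons_val_zero, Matrix.cons_val_one, Matrix.cons_val] at h3
  refine odd_insert h3 ?_ ?_ (hne 3 4 (by decide)) (hne 2 3 (by decide)) (hne 2 4 (by decide))
  · rw [Perm.mul_apply, swap_apply_of_ne_of_ne (hne 3 1 (by decide)) (hne 3 2 (by decide)),
      swap_apply_of_ne_of_ne (hne 3 0 (by decide)) (hne 3 1 (by decide))]
  · rw [Perm.mul_apply, swap_apply_of_ne_of_ne (hne 4 1 (by decide)) (hne 4 2 (by decide)),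
      swap_apply_of_ne_of_ne (hne 4 0 (by decide)) (hne 4 1 (by decide))]

theorem odd_two_three_cycles {k : ℕ} (p : Fin k → V) (hp : Function.Injective p)
    (σ : Fin 6 → Fin k) (hσ : Function.Injective σ) :
    Odd (orderOf (swap (p (σ 0)) (p (σ 1)) * swap (p (σ 1)) (p (σ 2)) *
      swap (p (σ 3)) (p (σ 4)) * swap (p (σ 4)) (p (σ 5)))) := by
  have hne : ∀ i j, i ≠ j → p (σ i) ≠ p (σ j) := fun i j hij h => hij (hσ (hp h))
  have h3 := odd_three_cycle p hp ![σ 0, σ 1, σ 2]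
    (by intro i j hij; apply_fun σ.comp ![0, 1, 2] using hσ.comp (by decide)
        fin_cases i <;> fin_cases j <;> simp_all)
  simp only [Matrix.cons_val_zero, Matrix.cons_val_one, Matrix.cons_val] at h3
  refine odd_insert h3 ?_ ?_ (hne 4 5 (by decide)) (hne 3 4 (by decide)) (hne 3 5 (by decide))
  · rw [Perm.mul_apply, swap_apply_of_ne_of_ne (hne 4 1 (by decide)) (hne 4 2 (by decide)),
      swap_apply_of_ne_of_ne (hne 4 0 (by decide)) (hne 4 1 (by decide))]
  · rw [Perm.mul_apply, swap_apply_of_ne_of_ne (hne 5 1 (by decide)) (hne 5 2 (by decide)),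
      swap_apply_of_ne_of_ne (hne 5 0 (by decide)) (hne 5 1 (by decide))]

/-! ### swap identities -/

theorem id_R7 (p : Fin 6 → V) (hp : Function.Injective p) :
    swap (p 1) (p 2) * swap (p 3) (p 4) * swap (p 0) (p 5) * swap (p 4) (p 5) * swap (p 2) (p 3) *
      swap (p 0) (p 1)
      = swap (p 0) (p 2) * swap (p 2) (p 4) * swap (p 5) (p 3) * swap (p 3) (p 1) := by
  refine Equiv.ext fun v => ?_
  simp only [Perm.mul_apply]
  by_cases hv : ∃ i, p i = v
  · obtain ⟨i, rfl⟩ := hv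
    fin_cases i <;> simp [swap_apply_def, hp.eq_iff]
  · push Not at hv
    simp [swap_apply_def, (hv _).symm]

theorem id_F3x (p : Fin 6 → V) (hp : Function.Injective p) :
    swap (p 4) (p 5) * swap (p 2) (p 3) * swap (p 0) (p 1) * swap (p 0) (p 2) * swap (p 3) (p 5) *
      swap (p 4) (p 1)
      = swap (p 0) (p 3) * swap (p 3) (p 4) * swap (p 1) (p 5) * swap (p 5) (p 2) := by
  refine Equiv.ext fun v => ?_
  simp only [Perm.mul_apply]
  by_cases hv : ∃ i, p i = v
  · obtain ⟨i, rfl⟩ := hv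
    fin_cases i <;> simp [swap_apply_def, hp.eq_iff]
  · push Not at hv
    simp [swap_apply_def, (hv _).symm]

theorem id_F3y (p : Fin 6 → V) (hp : Function.Injective p) :
    swap (p 5) (p 2) * swap (p 3) (p 4) * swap (p 0) (p 1) * swap (p 0) (p 2) * swap (p 3) (p 5) *
      swap (p 4) (p 1)
      = swap (p 0) (p 5) * swap (p 5) (p 4) * swap (p 1) (p 3) * swap (p 3) (p 2) := by
  refine Equiv.ext fun v => ?_
  simp only [Perm.mul_apply]
  by_cases hv : ∃ i, p i = v
  · obtain ⟨i, rfl⟩ := hv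
    fin_cases i <;> simp [swap_apply_def, hp.eq_iff]
  · push Not at hv
    simp [swap_apply_def, (hv _).symm]

theorem id_Ea_x (p : Fin 5 → V) (hp : Function.Injective p) :
    swap (p 0) (p 1) * swap (p 2) (p 3) * (swap (p 0) (p 4) * swap (p 1) (p 2))
      = swap (p 4) (p 1) * swap (p 1) (p 3) * swap (p 3) (p 2) * swap (p 2) (p 0) := by
  refine Equiv.ext fun v => ?_
  simp only [Perm.mul_apply]
  by_cases hv : ∃ i, p i = v
  · obtain ⟨i, rfl⟩ := hv
    fin_cases i <;> simp [swap_apply_def, hp.eq_iff]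
  · push Not at hv
    simp [swap_apply_def, (hv _).symm]

theorem id_Ea_y (p : Fin 5 → V) (hp : Function.Injective p) :
    swap (p 1) (p 2) * swap (p 3) (p 0) * (swap (p 0) (p 4) * swap (p 1) (p 2))
      = swap (p 3) (p 0) * swap (p 0) (p 4) := by
  refine Equiv.ext fun v => ?_
  simp only [Perm.mul_apply]
  by_cases hv : ∃ i, p i = v
  · obtain ⟨i, rfl⟩ := hv
    fin_cases i <;> simp [swap_apply_def, hp.eq_iff]
  · push Not at hv
    simp [swap_apply_def, (hv _).symm]

theorem id_Eb_x (p : Fin 8 → V) (hp : Function.Injective p) :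
    swap (p 4) (p 5) * swap (p 6) (p 7) * swap (p 2) (p 3) * swap (p 0) (p 1) *
      (swap (p 0) (p 1) * swap (p 5) (p 6) * swap (p 2) (p 4) * swap (p 3) (p 7))
      = swap (p 2) (p 5) * swap (p 5) (p 7) * swap (p 4) (p 3) * swap (p 3) (p 6) := by
  refine Equiv.ext fun v => ?_
  simp only [Perm.mul_apply]
  by_cases hv : ∃ i, p i = v
  · obtain ⟨i, rfl⟩ := hv
    fin_cases i <;> simp [swap_apply_def, hp.eq_iff]
  · push Not at hv
    simp [swap_apply_def, (hv _).symm]

theorem id_Eb_y (p : Fin 8 → V) (hp : Function.Injective p) :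
    swap (p 5) (p 6) * swap (p 7) (p 4) * swap (p 3) (p 0) * swap (p 1) (p 2) *
      (swap (p 0) (p 1) * swap (p 5) (p 6) * swap (p 2) (p 4) * swap (p 3) (p 7))
      = swap (p 0) (p 2) * swap (p 2) (p 7) * swap (p 1) (p 3) * swap (p 3) (p 4) := by
  refine Equiv.ext fun v => ?_
  simp only [Perm.mul_apply]
  by_cases hv : ∃ i, p i = v
  · obtain ⟨i, rfl⟩ := hv
    fin_cases i <;> simp [swap_apply_def, hp.eq_iff]
  · push Not at hv
    simp [swap_apply_def, (hv _).symm]

theorem id_Ec_x (p : Fin 8 → V) (hp : Function.Injective p) :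
    swap (p 0) (p 6) * swap (p 7) (p 5) * swap (p 3) (p 4) * swap (p 1) (p 2) *
      (swap (p 1) (p 2) * swap (p 4) (p 5) * swap (p 3) (p 6) * swap (p 7) (p 0))
      = swap (p 3) (p 0) * swap (p 0) (p 5) * swap (p 4) (p 7) * swap (p 7) (p 6) := by
  refine Equiv.ext fun v => ?_
  simp only [Perm.mul_apply]
  by_cases hv : ∃ i, p i = v
  · obtain ⟨i, rfl⟩ := hv
    fin_cases i <;> simp [swap_apply_def, hp.eq_iff]
  · push Not at hv
    simp [swap_apply_def, (hv _).symm]

theorem id_Ec_y (p : Fin 8 → V) (hp : Function.Injective p) :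
    swap (p 6) (p 7) * swap (p 4) (p 5) * swap (p 2) (p 3) * swap (p 0) (p 1) *
      (swap (p 1) (p 2) * swap (p 4) (p 5) * swap (p 3) (p 6) * swap (p 7) (p 0))
      = swap (p 1) (p 3) * swap (p 3) (p 7) * swap (p 2) (p 0) * swap (p 0) (p 6) := by
  refine Equiv.ext fun v => ?_
  simp only [Perm.mul_apply]
  by_cases hv : ∃ i, p i = v
  · obtain ⟨i, rfl⟩ := hv
    fin_cases i <;> simp [swap_apply_def, hp.eq_iff]
  · push Not at hv
    simp [swap_apply_def, (hv _).symm]

/-! ### the three explicit configurations -/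

/-- a 4-cycle `a -x- b -y- c -x- d -y- a` and a spare point `w` -/
theorem sol_Ea {S : Finset V} {x y : Perm V} (p : Fin 5 → V) (hp : Function.Injective p)
    (hS : ∀ i, p i ∈ S) (hx : x = swap (p 0) (p 1) * swap (p 2) (p 3))
    (hy : y = swap (p 1) (p 2) * swap (p 3) (p 0)) :
    Sol S x y (swap (p 0) (p 4) * swap (p 1) (p 2)) := by
  obtain ⟨iz, cz, sz⟩ := two_swaps p hp ![0, 4, 1, 2] (by decide) hS
  obtain ⟨-, cx, -⟩ := two_swaps p hp ![0, 1, 2, 3] (by decide) hS
  simp only [Matrix.cons_val_zero, Matrix.cons_val_one, Matrix.cons_val] at iz cz sz cx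
  refine ⟨iz, sz, ?_, ?_, ?_⟩
  · rw [cz, hx, cx]
  · rw [hx, id_Ea_x p hp]
    simpa using odd_five_cycle p hp ![4, 1, 3, 2, 0] (by decide)
  · rw [hy, id_Ea_y p hp]
    simpa using odd_three_cycle p hp ![3, 0, 4] (by decide)

/-- two 4-cycles -/
theorem sol_Eb {S : Finset V} {x y : Perm V} (p : Fin 8 → V) (hp : Function.Injective p)
    (hS : ∀ i, p i ∈ S)
    (hx : x = swap (p 4) (p 5) * swap (p 6) (p 7) * swap (p 2) (p 3) * swap (p 0) (p 1))
    (hy : y = swap (p 5) (p 6) * swap (p 7) (p 4) * swap (p 3) (p 0) * swap (p 1) (p 2)) :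
    Sol S x y (swap (p 0) (p 1) * swap (p 5) (p 6) * swap (p 2) (p 4) * swap (p 3) (p 7)) := by
  obtain ⟨iz, cz, sz⟩ := four_swaps p hp ![0, 1, 5, 6, 2, 4, 3, 7] (by decide) hS
  obtain ⟨-, cx, -⟩ := four_swaps p hp ![4, 5, 6, 7, 2, 3, 0, 1] (by decide) hS
  simp only [Matrix.cons_val_zero, Matrix.cons_val_one, Matrix.cons_val] at iz cz sz cx
  refine ⟨iz, sz, ?_, ?_, ?_⟩
  · rw [cz, hx, cx]
  · rw [hx, id_Eb_x p hp]
    simpa using odd_two_three_cycles p hp ![2, 5, 7, 4, 3, 6] (by decide)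
  · rw [hy, id_Eb_y p hp]
    simpa using odd_two_three_cycles p hp ![0, 2, 7, 1, 3, 4] (by decide)

/-- an 8-cycle -/
theorem sol_Ec {S : Finset V} {x y : Perm V} (p : Fin 8 → V) (hp : Function.Injective p)
    (hS : ∀ i, p i ∈ S)
    (hx : x = swap (p 0) (p 6) * swap (p 7) (p 5) * swap (p 3) (p 4) * swap (p 1) (p 2))
    (hy : y = swap (p 6) (p 7) * swap (p 4) (p 5) * swap (p 2) (p 3) * swap (p 0) (p 1)) :
    Sol S x y (swap (p 1) (p 2) * swap (p 4) (p 5) * swap (p 3) (p 6) * swap (p 7) (p 0)) := by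
  obtain ⟨iz, cz, sz⟩ := four_swaps p hp ![1, 2, 4, 5, 3, 6, 7, 0] (by decide) hS
  obtain ⟨-, cx, -⟩ := four_swaps p hp ![0, 6, 7, 5, 3, 4, 1, 2] (by decide) hS
  simp only [Matrix.cons_val_zero, Matrix.cons_val_one, Matrix.cons_val] at iz cz sz cx
  refine ⟨iz, sz, ?_, ?_, ?_⟩
  · rw [cz, hx, cx]
  · rw [hx, id_Ec_x p hp]
    simpa using odd_two_three_cycles p hp ![3, 0, 5, 4, 7, 6] (by decide)
  · rw [hy, id_Ec_y p hp]
    simpa using odd_two_three_cycles p hp ![1, 3, 7, 2, 0, 6] (by decide)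

end Cfsg.Agent.Lib.H2.InvG
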