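import Mathlib
import Cfsg.Agent.Lib.H2.InvG2

/-!
# Involution graphs in symmetric groups, part 3: instances and the easy reduction steps
-/

set_option linter.unusedSectionVars false

namespace Cfsg.Agent.Lib.H2.InvG

open Equiv Equiv.Perm

variable {V : Type*} [DecidableEq V] [Fintype V]

/-- an instance: two involutions supported in `S` with the same number of 2-cycles -/
def Inst (S : Finset V) (x y : Perm V) : Prop :=
  Inv x ∧ Inv y ∧ x.support ⊆ S ∧ y.support ⊆ S ∧ x.support.card = y.support.card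

theorem Inst.symm {S : Finset V} {x y : Perm V} (h : Inst S x y) : Inst S y x :=
  ⟨h.2.1, h.1, h.2.2.2.1, h.2.2.1, h.2.2.2.2.symm⟩

/-- `a -x- b -y- c -x- d -y- a` is a 4-cycle of `x ∪ y` -/
def Four (x y : Perm V) (a b c d : V) : Prop :=
  x a = b ∧ y b = c ∧ x c = d ∧ y d = a ∧ Function.Injective ![a, b, c, d]

/-- the exceptional instance: `S` is a bare 4-cycle -/
def Exc (S : Finset V) (x y : Perm V) : Prop :=
  ∃ a b c d, Four x y a b c d ∧ S = {a, b, c, d}

/-- the induction hypothesis for instances on fewer than `n` points -/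
def IH (V : Type*) [DecidableEq V] [Fintype V] (n : ℕ) : Prop :=
  ∀ (S : Finset V) (x y : Perm V), S.card < n → Inst S x y → ¬ Exc S x y → ∃ z, Sol S x y z

theorem Four.ne {x y : Perm V} {a b c d : V} (h : Four x y a b c d) :
    a ≠ b ∧ a ≠ c ∧ a ≠ d ∧ b ≠ c ∧ b ≠ d ∧ c ≠ d := by
  have hi := h.2.2.2.2
  refine ⟨?_, ?_, ?_, ?_, ?_, ?_⟩
  · exact fun e => absurd (hi (a₁ := 0) (a₂ := 1) (by simpa using e)) (by decide)
  · exact fun e => absurd (hi (a₁ := 0) (a₂ := 2) (by simpa using e)) (by decide)
  · exact fun e => absurd (hi (a₁ := 0) (a₂ := 3) (by simpa using e)) (by decide)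
  · exact fun e => absurd (hi (a₁ := 1) (a₂ := 2) (by simpa using e)) (by decide)
  · exact fun e => absurd (hi (a₁ := 1) (a₂ := 3) (by simpa using e)) (by decide)
  · exact fun e => absurd (hi (a₁ := 2) (a₂ := 3) (by simpa using e)) (by decide)

theorem inj4 {a b c d : V} (hab : a ≠ b) (hac : a ≠ c) (had : a ≠ d) (hbc : b ≠ c) (hbd : b ≠ d)
    (hcd : c ≠ d) : Function.Injective ![a, b, c, d] := by
  intro i j hij
  fin_cases i <;> fin_cases j <;> simp_all

theorem Exc.moved_x {S : Finset V} {x y : Perm V} (h : Exc S x y) (hx : Inv x) {v : V}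
    (hv : v ∈ S) : x v ≠ v := by
  obtain ⟨a, b, c, d, hF, rfl⟩ := h
  obtain ⟨hab, hac, had, hbc, hbd, hcd⟩ := hF.ne
  obtain ⟨h1, h2, h3, h4, -⟩ := hF
  simp only [Finset.mem_insert, Finset.mem_singleton] at hv
  rcases hv with rfl | rfl | rfl | rfl
  · rw [h1]; exact hab.symm
  · rw [hx.eq_of_apply_eq h1]; exact hab
  · rw [h3]; exact hcd.symm
  · rw [hx.eq_of_apply_eq h3]; exact hcd

theorem Exc.moved_y {S : Finset V} {x y : Perm V} (h : Exc S x y) (hy : Inv y) {v : V}
    (hv : v ∈ S) : y v ≠ v := by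
  obtain ⟨a, b, c, d, hF, rfl⟩ := h
  obtain ⟨hab, hac, had, hbc, hbd, hcd⟩ := hF.ne
  obtain ⟨h1, h2, h3, h4, -⟩ := hF
  simp only [Finset.mem_insert, Finset.mem_singleton] at hv
  rcases hv with rfl | rfl | rfl | rfl
  · rw [hy.eq_of_apply_eq h4]; exact had.symm
  · rw [h2]; exact hbc.symm
  · rw [hy.eq_of_apply_eq h2]; exact hbc
  · rw [h4]; exact had

/-- transfer of an exceptional sub-instance to a 4-cycle of the big instance -/
theorem Exc.four_of_agree {S' : Finset V} {x y x' y' : Perm V} (h : Exc S' x' y')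
    (hx : ∀ v ∈ S', x' v = x v) (hy : ∀ v ∈ S', y' v = y v) :
    ∃ a b c d, Four x y a b c d ∧ S' = {a, b, c, d} := by
  obtain ⟨a, b, c, d, hF, rfl⟩ := h
  refine ⟨a, b, c, d, ⟨?_, ?_, ?_, ?_, hF.2.2.2.2⟩, rfl⟩
  · rw [← hx a (by simp)]; exact hF.1
  · rw [← hy b (by simp)]; exact hF.2.1
  · rw [← hx c (by simp)]; exact hF.2.2.1
  · rw [← hy d (by simp)]; exact hF.2.2.2.1

theorem support_subset_erase2 {x' x : Perm V} {S : Finset V} {e f : V}
    (hsub : x'.support ⊆ x.support) (hS : x.support ⊆ S) (he : x' e = e) (hf : x' f = f) :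
    x'.support ⊆ (S.erase e).erase f := by
  intro v hv
  have hv' := Perm.mem_support.1 hv
  refine Finset.mem_erase.2 ⟨?_, Finset.mem_erase.2 ⟨?_, hS (hsub hv)⟩⟩
  · intro h; apply hv'; rw [h, hf]
  · intro h; apply hv'; rw [h, he]

theorem apply_eq_of_not_mem {z : Perm V} {S : Finset V} (hz : z.support ⊆ S) {v : V}
    (hv : v ∉ S) : z v = v := by
  by_contra h
  exact hv (hz (Perm.mem_support.2 h))

theorem mem_of_moved {x : Perm V} {S : Finset V} (hS : x.support ⊆ S) {v : V} (hv : x v ≠ v) :
    v ∈ S := hS (Perm.mem_support.2 hv)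

/-- trimming the end of a path: `f` is `x`-fixed, `y f = e`, and `e` is moved by `x`. -/
theorem step_T {S : Finset V} {x y : Perm V} (hI : Inst S x y) (ih : IH V S.card)
    {f e d : V} (hxf : x f = f) (hyf : y f = e) (hef : e ≠ f) (hxe : x e = d) (hde : d ≠ e) :
    ∃ z, Sol S x y z := by
  obtain ⟨hx, hy, hxS, hyS, hcard⟩ := hI
  have hxd : x d = e := hx.eq_of_apply_eq hxe
  have hdf : d ≠ f := by
    intro h; apply hef; rw [← hxd, h, hxf]
  have heS : e ∈ S := mem_of_moved hxS (by rw [hxe]; exact hde)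
  have hfS : f ∈ S := mem_of_moved hyS (by rw [hyf]; exact hef)
  have hdS : d ∈ S := mem_of_moved hxS (by rw [hxd]; exact hde.symm)
  obtain ⟨x', hx'⟩ : ∃ x' : Perm V, x' = x * swap e d := ⟨_, rfl⟩
  obtain ⟨y', hy'⟩ : ∃ y' : Perm V, y' = y * swap f e := ⟨_, rfl⟩
  have ix' : Inv x' := hx' ▸ rem_inv hx hxe
  have iy' : Inv y' := hy' ▸ rem_inv hy hyf
  have x'e : x' e = e := hx' ▸ rem_apply_left hx hxe
  have x'd : x' d = d := hx' ▸ rem_apply_right hx hxe
  have x'f : x' f = f := by rw [hx', rem_apply_of_ne hef.symm hdf.symm, hxf]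
  have y'f : y' f = f := hy' ▸ rem_apply_left hy hyf
  have y'e : y' e = e := hy' ▸ rem_apply_right hy hyf
  have cx' : x'.support.card + 2 = x.support.card := hx' ▸ rem_card hx hxe hde.symm
  have cy' : y'.support.card + 2 = y.support.card := hy' ▸ rem_card hy hyf hef.symm
  have sx' : x'.support ⊆ x.support := hx' ▸ rem_support_subset hx hxe
  have sy' : y'.support ⊆ y.support := hy' ▸ rem_support_subset hy hyf
  set S' := (S.erase e).erase f with hS'
  have hS'S : S' ⊆ S := (Finset.erase_subset _ _).trans (Finset.erase_subset _ _)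
  have hcS' : S'.card < S.card := by
    have h1 : f ∈ S.erase e := Finset.mem_erase.2 ⟨hef.symm, hfS⟩
    rw [hS', Finset.card_erase_of_mem h1, Finset.card_erase_of_mem heS]
    have : 0 < S.card := Finset.card_pos.2 ⟨e, heS⟩
    omega
  have hI' : Inst S' x' y' :=
    ⟨ix', iy', support_subset_erase2 sx' hxS x'e x'f, support_subset_erase2 sy' hyS y'e y'f,
      by omega⟩
  have hdS' : d ∈ S' := Finset.mem_erase.2 ⟨hdf, Finset.mem_erase.2 ⟨hde, hdS⟩⟩
  have hnE : ¬ Exc S' x' y' := fun hE => hE.moved_x ix' hdS' x'd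
  obtain ⟨z', iz', sz', cz', ox, oy⟩ := ih S' x' y' hcS' hI' hnE
  have z'e : z' e = e := apply_eq_of_not_mem sz' (by simp [hS'])
  have z'f : z' f = f := apply_eq_of_not_mem sz' (by simp [hS'])
  have hxeq : x = x' * swap e d := by rw [hx', rem_mul_swap hx hxe]
  have hyeq : y = y' * swap f e := by rw [hy', rem_mul_swap hy hyf]
  refine ⟨z' * swap e f, iz'.mul_swap_fixed z'e z'f,
    support_mul_swap_fixed_subset (sz'.trans hS'S) heS hfS, ?_, ?_, ?_⟩
  · rw [card_support_mul_swap_fixed z'e z'f hef, cz']; exact cx'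
  · have h1 : x * (z' * swap e f) = x' * z' * swap (z' d) e * swap e f := by
      have h2 : swap e d * z' = z' * swap e (z' d) := by
        rw [swap_mul_eq_mul_swap, iz'.inv_eq, z'e]
      calc x * (z' * swap e f) = x' * (swap e d * z') * swap e f := by
            rw [hxeq]; simp only [mul_assoc]
        _ = x' * z' * swap (z' d) e * swap e f := by
            rw [h2, swap_comm e (z' d)]; simp only [mul_assoc]
    rw [h1]
    refine odd_insert ox ?_ ?_ hef ?_ ?_
    · rw [Perm.mul_apply, z'e, x'e]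
    · rw [Perm.mul_apply, z'f, x'f]
    · intro h; apply hde
      have := iz'.eq_of_apply_eq h
      rw [z'e] at this; exact this.symm
    · intro h; apply hdf
      have := iz'.eq_of_apply_eq h
      rw [z'f] at this; exact this.symm
  · have h1 : y * (z' * swap e f) = y' * z' := by
      have h2 : swap f e * z' = z' * swap f e := swap_mul_comm_of_fixed z'f z'e
      calc y * (z' * swap e f) = y' * (swap f e * z') * swap e f := by
            rw [hyeq]; simp only [mul_assoc]
        _ = y' * z' * (swap f e * swap e f) := by rw [h2]; simp only [mul_assoc]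
        _ = y' * z' := by rw [swap_comm f e, swap_mul_self, mul_one]
    rw [h1]; exact oy

theorem support_subset_sdiff {x' x : Perm V} {S T : Finset V}
    (hsub : x'.support ⊆ x.support) (hS : x.support ⊆ S) (hT : ∀ v ∈ T, x' v = v) :
    x'.support ⊆ S \ T := by
  intro v hv
  refine Finset.mem_sdiff.2 ⟨hS (hsub hv), fun h => ?_⟩
  exact (Perm.mem_support.1 hv) (hT v h)

theorem card_sdiff_lt {S T : Finset V} (hT : T ⊆ S) (hne : T.Nonempty) : (S \ T).card < S.card :=
  Finset.card_lt_card (Finset.sdiff_ssubset hT hne)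

/-- removing a common edge -/
theorem step_R1 {S : Finset V} {x y : Perm V} (hI : Inst S x y) (ih : IH V S.card)
    (hNF : ∀ a b c d, ¬ Four x y a b c d)
    {a b : V} (hxa : x a = b) (hya : y a = b) (hab : a ≠ b) :
    ∃ z, Sol S x y z := by
  obtain ⟨hx, hy, hxS, hyS, hcard⟩ := hI
  have haS : a ∈ S := mem_of_moved hxS (by rw [hxa]; exact hab.symm)
  have hbS : b ∈ S := mem_of_moved hxS (by rw [hx.eq_of_apply_eq hxa]; exact hab)
  obtain ⟨x', hx'⟩ : ∃ x' : Perm V, x' = x * swap a b := ⟨_, rfl⟩
  obtain ⟨y', hy'⟩ : ∃ y' : Perm V, y' = y * swap a b := ⟨_, rfl⟩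
  have ix' : Inv x' := hx' ▸ rem_inv hx hxa
  have iy' : Inv y' := hy' ▸ rem_inv hy hya
  have x'a : x' a = a := hx' ▸ rem_apply_left hx hxa
  have x'b : x' b = b := hx' ▸ rem_apply_right hx hxa
  have y'a : y' a = a := hy' ▸ rem_apply_left hy hya
  have y'b : y' b = b := hy' ▸ rem_apply_right hy hya
  have cx' : x'.support.card + 2 = x.support.card := hx' ▸ rem_card hx hxa hab
  have cy' : y'.support.card + 2 = y.support.card := hy' ▸ rem_card hy hya hab
  have sx' : x'.support ⊆ x.support := hx' ▸ rem_support_subset hx hxa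
  have sy' : y'.support ⊆ y.support := hy' ▸ rem_support_subset hy hya
  set T : Finset V := {a, b} with hT
  have hTS : T ⊆ S := by
    intro v hv
    simp only [hT, Finset.mem_insert, Finset.mem_singleton] at hv
    rcases hv with rfl | rfl <;> assumption
  have hcS' : (S \ T).card < S.card := card_sdiff_lt hTS ⟨a, by simp [hT]⟩
  have hI' : Inst (S \ T) x' y' := by
    refine ⟨ix', iy', support_subset_sdiff sx' hxS ?_, support_subset_sdiff sy' hyS ?_, by omega⟩
    · intro v hv
      simp only [hT, Finset.mem_insert, Finset.mem_singleton] at hv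
      rcases hv with rfl | rfl <;> assumption
    · intro v hv
      simp only [hT, Finset.mem_insert, Finset.mem_singleton] at hv
      rcases hv with rfl | rfl <;> assumption
  have hnE : ¬ Exc (S \ T) x' y' := by
    intro hE
    have e1 : ∀ v ∈ S \ T, x' v = x v := by
      intro v hv
      have hv' := (Finset.mem_sdiff.1 hv).2
      simp only [hT, Finset.mem_insert, Finset.mem_singleton, not_or] at hv'
      rw [hx', rem_apply_of_ne hv'.1 hv'.2]
    have e2 : ∀ v ∈ S \ T, y' v = y v := by
      intro v hv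
      have hv' := (Finset.mem_sdiff.1 hv).2
      simp only [hT, Finset.mem_insert, Finset.mem_singleton, not_or] at hv'
      rw [hy', rem_apply_of_ne hv'.1 hv'.2]
    obtain ⟨p, q, r, s, hF, -⟩ := hE.four_of_agree e1 e2
    exact hNF p q r s hF
  obtain ⟨z', iz', sz', cz', ox, oy⟩ := ih (S \ T) x' y' hcS' hI' hnE
  have z'a : z' a = a := apply_eq_of_not_mem sz' (by simp [hT])
  have z'b : z' b = b := apply_eq_of_not_mem sz' (by simp [hT])
  have hxeq : x = x' * swap a b := by rw [hx', rem_mul_swap hx hxa]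
  have hyeq : y = y' * swap a b := by rw [hy', rem_mul_swap hy hya]
  have hcomm : swap a b * z' = z' * swap a b := swap_mul_comm_of_fixed z'a z'b
  refine ⟨z' * swap a b, iz'.mul_swap_fixed z'a z'b,
    support_mul_swap_fixed_subset (sz'.trans Finset.sdiff_subset) haS hbS, ?_, ?_, ?_⟩
  · rw [card_support_mul_swap_fixed z'a z'b hab, cz']; exact cx'
  · have h1 : x * (z' * swap a b) = x' * z' := by
      calc x * (z' * swap a b) = x' * (swap a b * z') * swap a b := by
            rw [hxeq]; simp only [mul_assoc]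
        _ = x' * z' * (swap a b * swap a b) := by rw [hcomm]; simp only [mul_assoc]
        _ = x' * z' := by rw [swap_mul_self, mul_one]
    rw [h1]; exact ox
  · have h1 : y * (z' * swap a b) = y' * z' := by
      calc y * (z' * swap a b) = y' * (swap a b * z') * swap a b := by
            rw [hyeq]; simp only [mul_assoc]
        _ = y' * z' * (swap a b * swap a b) := by rw [hcomm]; simp only [mul_assoc]
        _ = y' * z' := by rw [swap_mul_self, mul_one]
    rw [h1]; exact oy

/-- an isolated `x`-edge `{a, b}` and an isolated `y`-edge `{c, d}` -/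
theorem step_P22 {S : Finset V} {x y : Perm V} (hI : Inst S x y) (ih : IH V S.card)
    (hNF : ∀ a b c d, ¬ Four x y a b c d)
    {a b c d : V} (hxa : x a = b) (hab : a ≠ b) (hya : y a = a) (hyb : y b = b)
    (hyc : y c = d) (hcd : c ≠ d) (hxc : x c = c) (hxd : x d = d) :
    ∃ z, Sol S x y z := by
  obtain ⟨hx, hy, hxS, hyS, hcard⟩ := hI
  have hxb : x b = a := hx.eq_of_apply_eq hxa
  have hyd : y d = c := hy.eq_of_apply_eq hyc
  have hac : a ≠ c := by intro h; apply hab; rw [← hxa, h, hxc]
  have had : a ≠ d := by intro h; apply hab; rw [← hxa, h, hxd]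
  have hbc : b ≠ c := by intro h; apply hab; rw [← hxb, h, hxc]
  have hbd : b ≠ d := by intro h; apply hab; rw [← hxb, h, hxd]
  have haS : a ∈ S := mem_of_moved hxS (by rw [hxa]; exact hab.symm)
  have hbS : b ∈ S := mem_of_moved hxS (by rw [hxb]; exact hab)
  have hcS : c ∈ S := mem_of_moved hyS (by rw [hyc]; exact hcd.symm)
  have hdS : d ∈ S := mem_of_moved hyS (by rw [hyd]; exact hcd)
  obtain ⟨x', hx'⟩ : ∃ x' : Perm V, x' = x * swap a b := ⟨_, rfl⟩
  obtain ⟨y', hy'⟩ : ∃ y' : Perm V, y' = y * swap c d := ⟨_, rfl⟩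
  have ix' : Inv x' := hx' ▸ rem_inv hx hxa
  have iy' : Inv y' := hy' ▸ rem_inv hy hyc
  have x'a : x' a = a := hx' ▸ rem_apply_left hx hxa
  have x'b : x' b = b := hx' ▸ rem_apply_right hx hxa
  have x'c : x' c = c := by rw [hx', rem_apply_of_ne hac.symm hbc.symm, hxc]
  have x'd : x' d = d := by rw [hx', rem_apply_of_ne had.symm hbd.symm, hxd]
  have y'c : y' c = c := hy' ▸ rem_apply_left hy hyc
  have y'd : y' d = d := hy' ▸ rem_apply_right hy hyc
  have y'a : y' a = a := by rw [hy', rem_apply_of_ne hac had, hya]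
  have y'b : y' b = b := by rw [hy', rem_apply_of_ne hbc hbd, hyb]
  have cx' : x'.support.card + 2 = x.support.card := hx' ▸ rem_card hx hxa hab
  have cy' : y'.support.card + 2 = y.support.card := hy' ▸ rem_card hy hyc hcd
  have sx' : x'.support ⊆ x.support := hx' ▸ rem_support_subset hx hxa
  have sy' : y'.support ⊆ y.support := hy' ▸ rem_support_subset hy hyc
  set T : Finset V := {a, b, c, d} with hT
  have hTS : T ⊆ S := by
    intro v hv
    simp only [hT, Finset.mem_insert, Finset.mem_singleton] at hv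
    rcases hv with rfl | rfl | rfl | rfl <;> assumption
  have hcS' : (S \ T).card < S.card := card_sdiff_lt hTS ⟨a, by simp [hT]⟩
  have hI' : Inst (S \ T) x' y' := by
    refine ⟨ix', iy', support_subset_sdiff sx' hxS ?_, support_subset_sdiff sy' hyS ?_, by omega⟩
    · intro v hv
      simp only [hT, Finset.mem_insert, Finset.mem_singleton] at hv
      rcases hv with rfl | rfl | rfl | rfl <;> assumption
    · intro v hv
      simp only [hT, Finset.mem_insert, Finset.mem_singleton] at hv
      rcases hv with rfl | rfl | rfl | rfl <;> assumption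
  have hnE : ¬ Exc (S \ T) x' y' := by
    intro hE
    have e1 : ∀ v ∈ S \ T, x' v = x v := by
      intro v hv
      have hv' := (Finset.mem_sdiff.1 hv).2
      simp only [hT, Finset.mem_insert, Finset.mem_singleton, not_or] at hv'
      rw [hx', rem_apply_of_ne hv'.1 hv'.2.1]
    have e2 : ∀ v ∈ S \ T, y' v = y v := by
      intro v hv
      have hv' := (Finset.mem_sdiff.1 hv).2
      simp only [hT, Finset.mem_insert, Finset.mem_singleton, not_or] at hv'
      rw [hy', rem_apply_of_ne hv'.2.2.1 hv'.2.2.2]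
    obtain ⟨p, q, r, s, hF, -⟩ := hE.four_of_agree e1 e2
    exact hNF p q r s hF
  obtain ⟨z', iz', sz', cz', ox, oy⟩ := ih (S \ T) x' y' hcS' hI' hnE
  have z'a : z' a = a := apply_eq_of_not_mem sz' (by simp [hT])
  have z'b : z' b = b := apply_eq_of_not_mem sz' (by simp [hT])
  have z'c : z' c = c := apply_eq_of_not_mem sz' (by simp [hT])
  have z'd : z' d = d := apply_eq_of_not_mem sz' (by simp [hT])
  have hxeq : x = x' * swap a b := by rw [hx', rem_mul_swap hx hxa]
  have hyeq : y = y' * swap c d := by rw [hy', rem_mul_swap hy hyc]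
  refine ⟨z' * swap b c, iz'.mul_swap_fixed z'b z'c,
    support_mul_swap_fixed_subset (sz'.trans Finset.sdiff_subset) hbS hcS, ?_, ?_, ?_⟩
  · rw [card_support_mul_swap_fixed z'b z'c hbc, cz']; exact cx'
  · have h1 : x * (z' * swap b c) = x' * z' * swap a b * swap b c := by
      have hcomm : swap a b * z' = z' * swap a b := swap_mul_comm_of_fixed z'a z'b
      calc x * (z' * swap b c) = x' * (swap a b * z') * swap b c := by
            rw [hxeq]; simp only [mul_assoc]
        _ = x' * z' * swap a b * swap b c := by rw [hcomm]; simp only [mul_assoc]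
    rw [h1]
    refine odd_insert ox ?_ ?_ hbc hab hac
    · rw [Perm.mul_apply, z'b, x'b]
    · rw [Perm.mul_apply, z'c, x'c]
  · have h1 : y * (z' * swap b c) = y' * z' * swap d c * swap c b := by
      have hcomm : swap c d * z' = z' * swap c d := swap_mul_comm_of_fixed z'c z'd
      calc y * (z' * swap b c) = y' * (swap c d * z') * swap b c := by
            rw [hyeq]; simp only [mul_assoc]
        _ = y' * z' * swap d c * swap c b := by
            rw [hcomm, swap_comm c d, swap_comm b c]; simp only [mul_assoc]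
    rw [h1]
    refine odd_insert oy ?_ ?_ hbc.symm hcd.symm hbd.symm
    · rw [Perm.mul_apply, z'c, y'c]
    · rw [Perm.mul_apply, z'b, y'b]

end Cfsg.Agent.Lib.H2.InvG
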