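import Mathlib
import Cfsg.Agent.Lib.H2.InvG3

/-!
# Involution graphs in symmetric groups, part 4: shortening a cycle by four
-/

set_option linter.unusedSectionVars false

namespace Cfsg.Agent.Lib.H2.InvG

open Equiv Equiv.Perm

variable {V : Type*} [DecidableEq V] [Fintype V]

theorem rem_pack {x : Perm V} (hx : Inv x) {a b : V} (hab : x a = b) (hne : a ≠ b) :
    ∃ x' : Perm V, Inv x' ∧ x' a = a ∧ x' b = b ∧ (∀ v, v ≠ a → v ≠ b → x' v = x v) ∧
      x'.support.card + 2 = x.support.card ∧ x'.support ⊆ x.support ∧ x = x' * swap a b :=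
  ⟨x * swap a b, rem_inv hx hab, rem_apply_left hx hab, rem_apply_right hx hab,
    fun _ h1 h2 => rem_apply_of_ne h1 h2, rem_card hx hab hne, rem_support_subset hx hab,
    (rem_mul_swap hx hab).symm⟩

theorem Four.rotate {x y : Perm V} {a b c d : V} (h : Four x y a b c d) : Four x y c d a b := by
  obtain ⟨hab, hac, had, hbc, hbd, hcd⟩ := h.ne
  exact ⟨h.2.2.1, h.2.2.2.1, h.1, h.2.1, inj4 hcd hac.symm hbc.symm had.symm hbd.symm hab⟩

theorem Four.flip {x y : Perm V} {a b c d : V} (h : Four x y a b c d) (hx : Inv x) (hy : Inv y) :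
    Four x y b a d c := by
  obtain ⟨hab, hac, had, hbc, hbd, hcd⟩ := h.ne
  exact ⟨hx.eq_of_apply_eq h.1, hy.eq_of_apply_eq h.2.2.2.1, hx.eq_of_apply_eq h.2.2.1,
    hy.eq_of_apply_eq h.2.1, inj4 hab.symm hbd hbc had hac hcd.symm⟩

theorem Four.exists_at {x y : Perm V} {a b c d : V} (h : Four x y a b c d) (hx : Inv x)
    (hy : Inv y) {v : V} (hv : v ∈ ({a, b, c, d} : Finset V)) :
    ∃ β γ δ, Four x y v β γ δ ∧ ({v, β, γ, δ} : Finset V) = {a, b, c, d} := by
  simp only [Finset.mem_insert, Finset.mem_singleton] at hv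
  rcases hv with rfl | rfl | rfl | rfl
  · exact ⟨_, _, _, h, rfl⟩
  · refine ⟨_, _, _, h.flip hx hy, ?_⟩
    ext w; simp only [Finset.mem_insert, Finset.mem_singleton]; tauto
  · refine ⟨_, _, _, h.rotate, ?_⟩
    ext w; simp only [Finset.mem_insert, Finset.mem_singleton]; tauto
  · refine ⟨_, _, _, h.rotate.flip hx hy, ?_⟩
    ext w; simp only [Finset.mem_insert, Finset.mem_singleton]; tauto

theorem Four.x_eq {x y : Perm V} {a b c d : V} (h : Four x y a b c d) (hx : Inv x)
    (hS : x.support ⊆ {a, b, c, d}) : x = swap a b * swap c d := by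
  obtain ⟨hab, hac, had, hbc, hbd, hcd⟩ := h.ne
  refine Equiv.ext fun v => ?_
  by_cases hv : v ∈ ({a, b, c, d} : Finset V)
  · simp only [Finset.mem_insert, Finset.mem_singleton] at hv
    rcases hv with rfl | rfl | rfl | rfl
    · rw [Perm.mul_apply, swap_apply_of_ne_of_ne hac had, swap_apply_left]; exact h.1
    · rw [Perm.mul_apply, swap_apply_of_ne_of_ne hbc hbd, swap_apply_right]
      exact hx.eq_of_apply_eq h.1
    · rw [Perm.mul_apply, swap_apply_left, swap_apply_of_ne_of_ne had.symm hbd.symm]; exact h.2.2.1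
    · rw [Perm.mul_apply, swap_apply_right, swap_apply_of_ne_of_ne hac.symm hbc.symm]
      exact hx.eq_of_apply_eq h.2.2.1
  · rw [apply_eq_of_not_mem hS hv]
    simp only [Finset.mem_insert, Finset.mem_singleton, not_or] at hv
    rw [Perm.mul_apply, swap_apply_of_ne_of_ne hv.2.2.1 hv.2.2.2,
      swap_apply_of_ne_of_ne hv.1 hv.2.1]

theorem Four.y_eq {x y : Perm V} {a b c d : V} (h : Four x y a b c d) (hy : Inv y)
    (hS : y.support ⊆ {a, b, c, d}) : y = swap b c * swap d a := by
  obtain ⟨hab, hac, had, hbc, hbd, hcd⟩ := h.ne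
  refine Equiv.ext fun v => ?_
  by_cases hv : v ∈ ({a, b, c, d} : Finset V)
  · simp only [Finset.mem_insert, Finset.mem_singleton] at hv
    rcases hv with rfl | rfl | rfl | rfl
    · rw [Perm.mul_apply, swap_apply_right, swap_apply_of_ne_of_ne hbd.symm hcd.symm]
      exact hy.eq_of_apply_eq h.2.2.2.1
    · rw [Perm.mul_apply, swap_apply_of_ne_of_ne hbd hab.symm, swap_apply_left]; exact h.2.1
    · rw [Perm.mul_apply, swap_apply_of_ne_of_ne hcd hac.symm, swap_apply_right]
      exact hy.eq_of_apply_eq h.2.1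
    · rw [Perm.mul_apply, swap_apply_left, swap_apply_of_ne_of_ne hab hac]; exact h.2.2.2.1
  · rw [apply_eq_of_not_mem hS hv]
    simp only [Finset.mem_insert, Finset.mem_singleton, not_or] at hv
    rw [Perm.mul_apply, swap_apply_of_ne_of_ne hv.2.2.2 hv.1,
      swap_apply_of_ne_of_ne hv.2.1 hv.2.2.1]

theorem inj_cons2 {n : ℕ} {f : Fin n → V} (hf : Function.Injective f) {u w : V}
    (hu : ∀ i, f i ≠ u) (hw : ∀ i, f i ≠ w) (huw : u ≠ w) :
    Function.Injective (Matrix.vecCons u (Matrix.vecCons w f)) := by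
  refine Fin.cons_injective_iff.2 ⟨?_, Fin.cons_injective_iff.2 ⟨?_, hf⟩⟩
  · rintro ⟨i, hi⟩
    refine Fin.cases ?_ (fun j => ?_) i hi
    · intro h; exact huw h.symm
    · intro h; exact hu j h
  · rintro ⟨i, hi⟩
    exact hw i hi

theorem inj6_ne {a b c d e f : V} (h : Function.Injective ![a, b, c, d, e, f]) :
    a ≠ b ∧ a ≠ c ∧ a ≠ d ∧ a ≠ e ∧ a ≠ f ∧ b ≠ c ∧ b ≠ d ∧ b ≠ e ∧ b ≠ f ∧ c ≠ d ∧ c ≠ e ∧
      c ≠ f ∧ d ≠ e ∧ d ≠ f ∧ e ≠ f := by
  refine ⟨?_, ?_, ?_, ?_, ?_, ?_, ?_, ?_, ?_, ?_, ?_, ?_, ?_, ?_, ?_⟩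
  · exact fun e => absurd (h (a₁ := 0) (a₂ := 1) (by simpa using e)) (by decide)
  · exact fun e => absurd (h (a₁ := 0) (a₂ := 2) (by simpa using e)) (by decide)
  · exact fun e => absurd (h (a₁ := 0) (a₂ := 3) (by simpa using e)) (by decide)
  · exact fun e => absurd (h (a₁ := 0) (a₂ := 4) (by simpa using e)) (by decide)
  · exact fun e => absurd (h (a₁ := 0) (a₂ := 5) (by simpa using e)) (by decide)
  · exact fun e => absurd (h (a₁ := 1) (a₂ := 2) (by simpa using e)) (by decide)
  · exact fun e => absurd (h (a₁ := 1) (a₂ := 3) (by simpa using e)) (by decide)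
  · exact fun e => absurd (h (a₁ := 1) (a₂ := 4) (by simpa using e)) (by decide)
  · exact fun e => absurd (h (a₁ := 1) (a₂ := 5) (by simpa using e)) (by decide)
  · exact fun e => absurd (h (a₁ := 2) (a₂ := 3) (by simpa using e)) (by decide)
  · exact fun e => absurd (h (a₁ := 2) (a₂ := 4) (by simpa using e)) (by decide)
  · exact fun e => absurd (h (a₁ := 2) (a₂ := 5) (by simpa using e)) (by decide)
  · exact fun e => absurd (h (a₁ := 3) (a₂ := 4) (by simpa using e)) (by decide)
  · exact fun e => absurd (h (a₁ := 3) (a₂ := 5) (by simpa using e)) (by decide)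
  · exact fun e => absurd (h (a₁ := 4) (a₂ := 5) (by simpa using e)) (by decide)

/-- shortening a cycle: `a' -y- a -x- b -y- c -x- d -y- d'` are six distinct points. -/
theorem step_R7 {S : Finset V} {x y : Perm V} (hI : Inst S x y) (ih : IH V S.card)
    {a' a b c d d' : V} (hinj : Function.Injective ![a', a, b, c, d, d'])
    (hya' : y a' = a) (hxa : x a = b) (hyb : y b = c) (hxc : x c = d) (hyd : y d = d') :
    ∃ z, Sol S x y z := by
  obtain ⟨hx, hy, hxS, hyS, hcard⟩ := hI
  obtain ⟨h01, h02, h03, h04, h05, h12, h13, h14, h15, h23, h24, h25, h34, h35, h45⟩ :=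
    inj6_ne hinj
  have hxb : x b = a := hx.eq_of_apply_eq hxa
  have hxd : x d = c := hx.eq_of_apply_eq hxc
  have hyd' : y d' = d := hy.eq_of_apply_eq hyd
  have haS : a ∈ S := mem_of_moved hxS (by rw [hxa]; exact h12.symm)
  have hbS : b ∈ S := mem_of_moved hxS (by rw [hxb]; exact h12)
  have hcS : c ∈ S := mem_of_moved hxS (by rw [hxc]; exact h34.symm)
  have hdS : d ∈ S := mem_of_moved hxS (by rw [hxd]; exact h34)
  have ha'S : a' ∈ S := mem_of_moved hyS (by rw [hya']; exact h01.symm)
  have hd'S : d' ∈ S := mem_of_moved hyS (by rw [hyd']; exact h45)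
  -- the x chain
  obtain ⟨x₁, ix₁, x₁a, x₁b, x₁o, cx₁, sx₁, ex₁⟩ := rem_pack hx hxa h12
  have x₁c : x₁ c = d := by rw [x₁o c h13.symm h23.symm, hxc]
  obtain ⟨x', ix', x'c, x'd, x'o, cx', sx', ex'⟩ := rem_pack ix₁ x₁c h34
  have x'a : x' a = a := by rw [x'o a h13 h14, x₁a]
  have x'b : x' b = b := by rw [x'o b h23 h24, x₁b]
  -- the y chain
  obtain ⟨y₁, iy₁, y₁a', y₁a, y₁o, cy₁, sy₁, ey₁⟩ := rem_pack hy hya' h01
  have y₁b : y₁ b = c := by rw [y₁o b h02.symm h12.symm, hyb]
  obtain ⟨y₂, iy₂, y₂b, y₂c, y₂o, cy₂, sy₂, ey₂⟩ := rem_pack iy₁ y₁b h23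
  have y₂d : y₂ d = d' := by rw [y₂o d h24.symm h34.symm, y₁o d h04.symm h14.symm, hyd]
  obtain ⟨y₃, iy₃, y₃d, y₃d', y₃o, cy₃, sy₃, ey₃⟩ := rem_pack iy₂ y₂d h45
  have y₃a' : y₃ a' = a' := by rw [y₃o a' h04 h05, y₂o a' h02 h03, y₁a']
  have y₃a : y₃ a = a := by rw [y₃o a h14 h15, y₂o a h12 h13, y₁a]
  have y₃b : y₃ b = b := by rw [y₃o b h24 h25, y₂b]
  have y₃c : y₃ c = c := by rw [y₃o c h34 h35, y₂c]
  obtain ⟨y', hy'⟩ : ∃ y' : Perm V, y' = y₃ * swap a' d' := ⟨_, rfl⟩
  have iy' : Inv y' := hy' ▸ iy₃.mul_swap_fixed y₃a' y₃d'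
  have cy' : y'.support.card = y₃.support.card + 2 :=
    hy' ▸ card_support_mul_swap_fixed y₃a' y₃d' h05
  have y'a : y' a = a := by rw [hy', rem_apply_of_ne h01.symm h15, y₃a]
  have y'b : y' b = b := by rw [hy', rem_apply_of_ne h02.symm h25, y₃b]
  have y'c : y' c = c := by rw [hy', rem_apply_of_ne h03.symm h35, y₃c]
  have y'd : y' d = d := by rw [hy', rem_apply_of_ne h04.symm h45, y₃d]
  have sy'S : y'.support ⊆ S :=
    hy' ▸ support_mul_swap_fixed_subset (((sy₃.trans sy₂).trans sy₁).trans hyS) ha'S hd'S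
  have hxeq : x = x' * swap c d * swap a b := by rw [← ex', ← ex₁]
  have hyeq : y = y' * swap a' d' * swap d d' * swap b c * swap a' a := by
    have : y₃ = y' * swap a' d' := by rw [hy', mul_assoc, swap_mul_self, mul_one]
    rw [← this, ← ey₃, ← ey₂, ← ey₁]
  set T : Finset V := {a, b, c, d} with hT
  have hTS : T ⊆ S := by
    intro v hv
    simp only [hT, Finset.mem_insert, Finset.mem_singleton] at hv
    rcases hv with rfl | rfl | rfl | rfl <;> assumption
  have hcS' : (S \ T).card < S.card := card_sdiff_lt hTS ⟨a, by simp [hT]⟩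
  have hI' : Inst (S \ T) x' y' := by
    refine ⟨ix', iy', support_subset_sdiff (sx'.trans sx₁) hxS ?_,
      support_subset_sdiff (subset_refl _) sy'S ?_, by omega⟩
    · intro v hv
      simp only [hT, Finset.mem_insert, Finset.mem_singleton] at hv
      rcases hv with rfl | rfl | rfl | rfl <;> assumption
    · intro v hv
      simp only [hT, Finset.mem_insert, Finset.mem_singleton] at hv
      rcases hv with rfl | rfl | rfl | rfl <;> assumption
  by_cases hE : Exc (S \ T) x' y'
  · -- the original instance is a bare 8-cycle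
    obtain ⟨p₁, p₂, p₃, p₄, hF, hS'⟩ := hE
    have ha'S' : a' ∈ S \ T := by
      refine Finset.mem_sdiff.2 ⟨ha'S, ?_⟩
      simp only [hT, Finset.mem_insert, Finset.mem_singleton, not_or]
      exact ⟨h01, h02, h03, h04⟩
    obtain ⟨β, γ, δ, hF', hset⟩ := hF.exists_at ix' iy' (hS' ▸ ha'S')
    have y'a' : y' a' = d' := by
      rw [hy', Perm.mul_apply, swap_apply_left, y₃d']
    have hδ : δ = d' := by
      have := iy'.eq_of_apply_eq hF'.2.2.2.1
      rw [← this, y'a']
    subst hδ
    have hS'' : S \ T = {a', β, γ, δ} := by rw [hS', hset]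
    obtain ⟨g1, g2, g3, g4, g5, g6⟩ := hF'.ne
    have hβS' : β ∈ S \ T := by rw [hS'']; simp
    have hγS' : γ ∈ S \ T := by rw [hS'']; simp
    have hβT := (Finset.mem_sdiff.1 hβS').2
    have hγT := (Finset.mem_sdiff.1 hγS').2
    simp only [hT, Finset.mem_insert, Finset.mem_singleton, not_or] at hβT hγT
    have hx'eq : x' = swap a' β * swap γ δ := hF'.x_eq ix' (hS'' ▸ hI'.2.2.1)
    have hy'eq : y' = swap β γ * swap δ a' := hF'.y_eq iy' (hS'' ▸ hI'.2.2.2.1)
    have hp0 : Function.Injective ![β, γ, a', a, b, c, d, δ] := by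
      refine inj_cons2 hinj ?_ ?_ g4
      · intro i
        fin_cases i
        exacts [g1, Ne.symm hβT.1, Ne.symm hβT.2.1, Ne.symm hβT.2.2.1, Ne.symm hβT.2.2.2,
          Ne.symm g5]
      · intro i
        fin_cases i
        exacts [g2, Ne.symm hγT.1, Ne.symm hγT.2.1, Ne.symm hγT.2.2.1, Ne.symm hγT.2.2.2,
          Ne.symm g6]
    have hσ : Function.Injective (![2, 3, 4, 5, 6, 7, 0, 1] : Fin 8 → Fin 8) := by decide
    have hp := hp0.comp hσ
    have hpS : ∀ i, (![β, γ, a', a, b, c, d, δ] ∘ ![2, 3, 4, 5, 6, 7, 0, 1]) i ∈ S := by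
      intro i
      fin_cases i
      exacts [ha'S, haS, hbS, hcS, hdS, hd'S, (Finset.mem_sdiff.1 hβS').1,
        (Finset.mem_sdiff.1 hγS').1]
    have := sol_Ec (S := S) (x := x) (y := y) _ hp hpS
      (by rw [hxeq, hx'eq]; rfl)
      (by rw [hyeq, hy'eq, mul_assoc (swap β γ), swap_comm δ a', swap_mul_self, mul_one]; rfl)
    exact ⟨_, this⟩
  · obtain ⟨z', iz', sz', cz', ox, oy⟩ := ih (S \ T) x' y' hcS' hI' hE
    have z'a : z' a = a := apply_eq_of_not_mem sz' (by simp [hT])
    have z'b : z' b = b := apply_eq_of_not_mem sz' (by simp [hT])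
    have z'c : z' c = c := apply_eq_of_not_mem sz' (by simp [hT])
    have z'd : z' d = d := apply_eq_of_not_mem sz' (by simp [hT])
    have z₁c : (z' * swap a b) c = c := by rw [rem_apply_of_ne h13.symm h23.symm, z'c]
    have z₁d : (z' * swap a b) d = d := by rw [rem_apply_of_ne h14.symm h24.symm, z'd]
    have iz : Inv (z' * swap a b * swap c d) :=
      (iz'.mul_swap_fixed z'a z'b).mul_swap_fixed z₁c z₁d
    have cab : swap a b * z' = z' * swap a b := swap_mul_comm_of_fixed z'a z'b
    have ccd : swap c d * z' = z' * swap c d := swap_mul_comm_of_fixed z'c z'd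
    have cab' : swap a b * y' = y' * swap a b := swap_mul_comm_of_fixed y'a y'b
    have ccd' : swap c d * y' = y' * swap c d := swap_mul_comm_of_fixed y'c y'd
    refine ⟨z' * swap a b * swap c d, iz,
      support_mul_swap_fixed_subset (support_mul_swap_fixed_subset
        (sz'.trans Finset.sdiff_subset) haS hbS) hcS hdS, ?_, ?_, ?_⟩
    · rw [card_support_mul_swap_fixed z₁c z₁d h34, card_support_mul_swap_fixed z'a z'b h12, cz']
      omega
    · have h1 : x * (z' * swap a b * swap c d) = x' * z' := by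
        calc x * (z' * swap a b * swap c d)
            = x' * swap c d * (swap a b * z') * swap a b * swap c d := by
              rw [hxeq]; simp only [mul_assoc]
          _ = x' * (swap c d * z') * (swap a b * swap a b) * swap c d := by
              rw [cab]; simp only [mul_assoc]
          _ = x' * z' * (swap c d * swap c d) := by
              rw [ccd, swap_mul_self, mul_one]; simp only [mul_assoc]
          _ = x' * z' := by rw [swap_mul_self, mul_one]
      rw [h1]; exact ox
    · rw [← hy.orderOf_mul_comm iz]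
      have hid : swap a b * swap c d * swap a' d' * swap d d' * swap b c * swap a' a
          = swap a' b * swap b d * swap d' c * swap c a := by
        simpa using id_R7 _ hinj
      have h1 : z' * swap a b * swap c d * y
          = z' * y' * swap a' b * swap b d * swap d' c * swap c a := by
        calc z' * swap a b * swap c d * y
            = z' * swap a b * (swap c d * y') * swap a' d' * swap d d' * swap b c * swap a' a := by
              rw [hyeq]; simp only [mul_assoc]
          _ = z' * (swap a b * y') * swap c d * swap a' d' * swap d d' * swap b c * swap a' a := by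
              rw [ccd']; simp only [mul_assoc]
          _ = z' * y' * (swap a b * swap c d * swap a' d' * swap d d' * swap b c * swap a' a) := by
              rw [cab']; simp only [mul_assoc]
          _ = z' * y' * swap a' b * swap b d * swap d' c * swap c a := by
              rw [hid]; simp only [mul_assoc]
      rw [h1]
      have o0 : Odd (orderOf (z' * y')) := by rw [iy'.orderOf_mul_comm iz']; exact oy
      have o1 : Odd (orderOf (z' * y' * swap a' b * swap b d)) := by
        refine odd_insert o0 ?_ ?_ h24 h02 h04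
        · rw [Perm.mul_apply, y'b, z'b]
        · rw [Perm.mul_apply, y'd, z'd]
      refine odd_insert o1 ?_ ?_ h13.symm h35.symm h15.symm
      · rw [Perm.mul_apply, swap_apply_of_ne_of_ne h23.symm h34, Perm.mul_apply,
          swap_apply_of_ne_of_ne h03.symm h23.symm, Perm.mul_apply, y'c, z'c]
      · rw [Perm.mul_apply, swap_apply_of_ne_of_ne h12 h14, Perm.mul_apply,
          swap_apply_of_ne_of_ne h01.symm h12, Perm.mul_apply, y'a, z'a]

end Cfsg.Agent.Lib.H2.InvG
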