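import Mathlib
import Cfsg.Agent.Lib.H2.InvG4

/-!
# Involution graphs in symmetric groups, part 5: removing a 4-cycle
-/

set_option linter.unusedSectionVars false

namespace Cfsg.Agent.Lib.H2.InvG

open Equiv Equiv.Perm

variable {V : Type*} [DecidableEq V] [Fintype V]

theorem inj_cons1 {n : ℕ} {f : Fin n → V} (hf : Function.Injective f) {u : V}
    (hu : ∀ i, f i ≠ u) : Function.Injective (Matrix.vecCons u f) := by
  refine Fin.cons_injective_iff.2 ⟨?_, hf⟩
  rintro ⟨i, hi⟩
  exact hu i hi

/-- removing a 4-cycle component `a -x- b -y- c -x- d -y- a` -/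
theorem step_F {S : Finset V} {x y : Perm V} (hI : Inst S x y) (ih : IH V S.card)
    (hnE : ¬ Exc S x y) {a b c d : V} (hF : Four x y a b c d) : ∃ z, Sol S x y z := by
  obtain ⟨hx, hy, hxS, hyS, hcard⟩ := hI
  obtain ⟨hab, hac, had, hbc, hbd, hcd⟩ := hF.ne
  obtain ⟨hxa, hyb, hxc, hyd, hinj⟩ := hF
  have hxb : x b = a := hx.eq_of_apply_eq hxa
  have hxd : x d = c := hx.eq_of_apply_eq hxc
  have haS : a ∈ S := mem_of_moved hxS (by rw [hxa]; exact hab.symm)
  have hbS : b ∈ S := mem_of_moved hxS (by rw [hxb]; exact hab)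
  have hcS : c ∈ S := mem_of_moved hxS (by rw [hxc]; exact hcd.symm)
  have hdS : d ∈ S := mem_of_moved hxS (by rw [hxd]; exact hcd)
  -- the x chain
  obtain ⟨x₁, ix₁, x₁a, x₁b, x₁o, cx₁, sx₁, ex₁⟩ := rem_pack hx hxa hab
  have x₁c : x₁ c = d := by rw [x₁o c hac.symm hbc.symm, hxc]
  obtain ⟨x', ix', x'c, x'd, x'o, cx', sx', ex'⟩ := rem_pack ix₁ x₁c hcd
  have x'a : x' a = a := by rw [x'o a hac had, x₁a]
  have x'b : x' b = b := by rw [x'o b hbc hbd, x₁b]
  -- the y chain
  obtain ⟨y₁, iy₁, y₁b, y₁c, y₁o, cy₁, sy₁, ey₁⟩ := rem_pack hy hyb hbc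
  have y₁d : y₁ d = a := by rw [y₁o d hbd.symm hcd.symm, hyd]
  obtain ⟨y', iy', y'd, y'a, y'o, cy', sy', ey'⟩ := rem_pack iy₁ y₁d had.symm
  have y'b : y' b = b := by rw [y'o b hbd hab.symm, y₁b]
  have y'c : y' c = c := by rw [y'o c hcd hac.symm, y₁c]
  have hxeq : x = x' * swap c d * swap a b := by rw [← ex', ← ex₁]
  have hyeq : y = y' * swap d a * swap b c := by rw [← ey', ← ey₁]
  set T : Finset V := {a, b, c, d} with hT
  have hTS : T ⊆ S := by
    intro v hv
    simp only [hT, Finset.mem_insert, Finset.mem_singleton] at hv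
    rcases hv with rfl | rfl | rfl | rfl <;> assumption
  have hcS' : (S \ T).card < S.card := card_sdiff_lt hTS ⟨a, by simp [hT]⟩
  have hI' : Inst (S \ T) x' y' := by
    refine ⟨ix', iy', support_subset_sdiff (sx'.trans sx₁) hxS ?_,
      support_subset_sdiff (sy'.trans sy₁) hyS ?_, by omega⟩
    · intro v hv
      simp only [hT, Finset.mem_insert, Finset.mem_singleton] at hv
      rcases hv with rfl | rfl | rfl | rfl <;> assumption
    · intro v hv
      simp only [hT, Finset.mem_insert, Finset.mem_singleton] at hv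
      rcases hv with rfl | rfl | rfl | rfl <;> assumption
  have hnotT : ∀ v ∈ S \ T, v ≠ a ∧ v ≠ b ∧ v ≠ c ∧ v ≠ d := by
    intro v hv
    have := (Finset.mem_sdiff.1 hv).2
    simpa only [hT, Finset.mem_insert, Finset.mem_singleton, not_or] using this
  by_cases h0 : x'.support.card = 0
  · -- the 4-cycle is everything: use a spare point
    have hx'1 : x' = 1 := Perm.card_support_eq_zero.1 h0
    have hy'1 : y' = 1 := Perm.card_support_eq_zero.1 (by omega)
    obtain ⟨w, hw⟩ : (S \ T).Nonempty := by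
      rw [Finset.nonempty_iff_ne_empty]
      intro hemp
      apply hnE
      refine ⟨a, b, c, d, ⟨hxa, hyb, hxc, hyd, hinj⟩, ?_⟩
      exact Finset.Subset.antisymm (Finset.sdiff_eq_empty_iff_subset.1 hemp) hTS
    obtain ⟨wa, wb, wc, wd⟩ := hnotT w hw
    have hp0 : Function.Injective ![w, a, b, c, d] := by
      refine inj_cons1 hinj ?_
      intro i
      fin_cases i
      exacts [wa.symm, wb.symm, wc.symm, wd.symm]
    have hσ : Function.Injective (![1, 2, 3, 4, 0] : Fin 5 → Fin 5) := by decide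
    have hpS : ∀ i, (![w, a, b, c, d] ∘ ![1, 2, 3, 4, 0]) i ∈ S := by
      intro i
      fin_cases i
      exacts [haS, hbS, hcS, hdS, (Finset.mem_sdiff.1 hw).1]
    have e1 : swap c d * swap a b = swap a b * swap c d :=
      swap_mul_comm_of_fixed (swap_apply_of_ne_of_ne hac.symm hbc.symm)
        (swap_apply_of_ne_of_ne had.symm hbd.symm)
    have e2 : swap d a * swap b c = swap b c * swap d a :=
      swap_mul_comm_of_fixed (swap_apply_of_ne_of_ne hbd.symm hcd.symm)
        (swap_apply_of_ne_of_ne hab hac)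
    have := sol_Ea (S := S) (x := x) (y := y) _ (hp0.comp hσ) hpS
      (by rw [hxeq, hx'1, one_mul, e1]; rfl)
      (by rw [hyeq, hy'1, one_mul, e2]; rfl)
    exact ⟨_, this⟩
  by_cases hE : Exc (S \ T) x' y'
  · -- two 4-cycles
    obtain ⟨a', b', c', d', hF', hS'⟩ := hE
    have ha' : a' ∈ S \ T := by rw [hS']; simp
    have hb' : b' ∈ S \ T := by rw [hS']; simp
    have hc' : c' ∈ S \ T := by rw [hS']; simp
    have hd' : d' ∈ S \ T := by rw [hS']; simp
    obtain ⟨a1, a2, a3, a4⟩ := hnotT a' ha'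
    obtain ⟨b1, b2, b3, b4⟩ := hnotT b' hb'
    obtain ⟨c1, c2, c3, c4⟩ := hnotT c' hc'
    obtain ⟨d1, d2, d3, d4⟩ := hnotT d' hd'
    have hx'eq : x' = swap a' b' * swap c' d' := hF'.x_eq ix' (hS' ▸ hI'.2.2.1)
    have hy'eq : y' = swap b' c' * swap d' a' := hF'.y_eq iy' (hS' ▸ hI'.2.2.2.1)
    have hp1 : Function.Injective ![c, d, a', b', c', d'] := by
      refine inj_cons2 hF'.2.2.2.2 ?_ ?_ hcd
      · intro i; fin_cases i; exacts [a3, b3, c3, d3]
      · intro i; fin_cases i; exacts [a4, b4, c4, d4]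
    have hp : Function.Injective ![a, b, c, d, a', b', c', d'] := by
      refine inj_cons2 hp1 ?_ ?_ hab
      · intro i; fin_cases i; exacts [hac.symm, had.symm, a1, b1, c1, d1]
      · intro i; fin_cases i; exacts [hbc.symm, hbd.symm, a2, b2, c2, d2]
    have hpS : ∀ i, ![a, b, c, d, a', b', c', d'] i ∈ S := by
      intro i
      fin_cases i
      exacts [haS, hbS, hcS, hdS, (Finset.mem_sdiff.1 ha').1, (Finset.mem_sdiff.1 hb').1,
        (Finset.mem_sdiff.1 hc').1, (Finset.mem_sdiff.1 hd').1]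
    have := sol_Eb (S := S) (x := x) (y := y) _ hp hpS
      (by rw [hxeq, hx'eq]; rfl) (by rw [hyeq, hy'eq]; rfl)
    exact ⟨_, this⟩
  -- the general case: insert the 4-cycle into an edge of `z'`
  obtain ⟨z', iz', sz', cz', ox, oy⟩ := ih (S \ T) x' y' hcS' hI' hE
  have z'a : z' a = a := apply_eq_of_not_mem sz' (by simp [hT])
  have z'b : z' b = b := apply_eq_of_not_mem sz' (by simp [hT])
  have z'c : z' c = c := apply_eq_of_not_mem sz' (by simp [hT])
  have z'd : z' d = d := apply_eq_of_not_mem sz' (by simp [hT])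
  obtain ⟨a'', ha''⟩ : z'.support.Nonempty := by
    rw [← Finset.card_pos]; omega
  obtain ⟨d'', hd''⟩ : ∃ d'', z' a'' = d'' := ⟨_, rfl⟩
  have hne'' : a'' ≠ d'' := by
    rw [← hd'']; exact (Perm.mem_support.1 ha'').symm
  have hd''s : d'' ∈ z'.support := by
    rw [Perm.mem_support, iz'.eq_of_apply_eq hd'']; exact hne''
  obtain ⟨p1, p2, p3, p4⟩ := hnotT a'' (sz' ha'')
  obtain ⟨q1, q2, q3, q4⟩ := hnotT d'' (sz' hd''s)
  have ha''S : a'' ∈ S := (Finset.mem_sdiff.1 (sz' ha'')).1
  have hd''S : d'' ∈ S := (Finset.mem_sdiff.1 (sz' hd''s)).1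
  obtain ⟨z₀, iz₀, z₀a'', z₀d'', z₀o, cz₀, sz₀, ez₀⟩ := rem_pack iz' hd'' hne''
  have z₀a : z₀ a = a := by rw [z₀o a p1.symm q1.symm, z'a]
  have z₀b : z₀ b = b := by rw [z₀o b p2.symm q2.symm, z'b]
  have z₀c : z₀ c = c := by rw [z₀o c p3.symm q3.symm, z'c]
  have z₀d : z₀ d = d := by rw [z₀o d p4.symm q4.symm, z'd]
  have z₁b : (z₀ * swap a'' a) b = b := by rw [rem_apply_of_ne p2.symm hab.symm, z₀b]
  have z₁d : (z₀ * swap a'' a) d = d := by rw [rem_apply_of_ne p4.symm had.symm, z₀d]
  have z₁c : (z₀ * swap a'' a) c = c := by rw [rem_apply_of_ne p3.symm hac.symm, z₀c]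
  have z₁d'' : (z₀ * swap a'' a) d'' = d'' := by rw [rem_apply_of_ne hne''.symm q1, z₀d'']
  have z₂c : (z₀ * swap a'' a * swap b d) c = c := by rw [rem_apply_of_ne hbc.symm hcd, z₁c]
  have z₂d'' : (z₀ * swap a'' a * swap b d) d'' = d'' := by rw [rem_apply_of_ne q2 q4, z₁d'']
  have iz : Inv (z₀ * swap a'' a * swap b d * swap c d'') :=
    ((iz₀.mul_swap_fixed z₀a'' z₀a).mul_swap_fixed z₁b z₁d).mul_swap_fixed z₂c z₂d''
  have hp0 : Function.Injective ![a'', d'', a, b, c, d] := by
    refine inj_cons2 hinj ?_ ?_ hne''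
    · intro i; fin_cases i; exacts [p1.symm, p2.symm, p3.symm, p4.symm]
    · intro i; fin_cases i; exacts [q1.symm, q2.symm, q3.symm, q4.symm]
  have cab : swap a b * z' = z' * swap a b := swap_mul_comm_of_fixed z'a z'b
  have ccd : swap c d * z' = z' * swap c d := swap_mul_comm_of_fixed z'c z'd
  have cda : swap d a * z' = z' * swap d a := swap_mul_comm_of_fixed z'd z'a
  have cbc : swap b c * z' = z' * swap b c := swap_mul_comm_of_fixed z'b z'c
  have hzeq : z₀ * swap a'' a * swap b d * swap c d''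
      = z' * swap a'' d'' * swap a'' a * swap b d * swap c d'' := by
    conv_rhs => rw [ez₀, mul_assoc z₀ (swap a'' d''), swap_mul_self, mul_one]
  refine ⟨z₀ * swap a'' a * swap b d * swap c d'', iz,
    support_mul_swap_fixed_subset (support_mul_swap_fixed_subset (support_mul_swap_fixed_subset
      ((sz₀.trans sz').trans Finset.sdiff_subset) ha''S haS) hbS hdS) hcS hd''S, ?_, ?_, ?_⟩
  · rw [card_support_mul_swap_fixed z₂c z₂d'' q3.symm, card_support_mul_swap_fixed z₁b z₁d hbd,
      card_support_mul_swap_fixed z₀a'' z₀a p1]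
    omega
  · have hid : swap c d * swap a b * swap a'' d'' * swap a'' a * swap b d * swap c d''
        = swap a'' b * swap b c * swap d'' d * swap d a := by
      simpa using id_F3x _ hp0
    have h1 : x * (z₀ * swap a'' a * swap b d * swap c d'')
        = x' * z' * swap a'' b * swap b c * swap d'' d * swap d a := by
      calc x * (z₀ * swap a'' a * swap b d * swap c d'')
          = x' * swap c d * (swap a b * z') * swap a'' d'' * swap a'' a * swap b d * swap c d'' := by
            rw [hzeq, hxeq]; simp only [mul_assoc]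
        _ = x' * (swap c d * z') * swap a b * swap a'' d'' * swap a'' a * swap b d * swap c d'' := by
            rw [cab]; simp only [mul_assoc]
        _ = x' * z' * (swap c d * swap a b * swap a'' d'' * swap a'' a * swap b d * swap c d'') := by
            rw [ccd]; simp only [mul_assoc]
        _ = x' * z' * swap a'' b * swap b c * swap d'' d * swap d a := by
            rw [hid]; simp only [mul_assoc]
    rw [h1]
    have o1 : Odd (orderOf (x' * z' * swap a'' b * swap b c)) := by
      refine odd_insert ox ?_ ?_ hbc p2 p3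
      · rw [Perm.mul_apply, z'b, x'b]
      · rw [Perm.mul_apply, z'c, x'c]
    refine odd_insert o1 ?_ ?_ had.symm q4 q1
    · rw [Perm.mul_apply, swap_apply_of_ne_of_ne hbd.symm hcd.symm, Perm.mul_apply,
        swap_apply_of_ne_of_ne p4.symm hbd.symm, Perm.mul_apply, z'd, x'd]
    · rw [Perm.mul_apply, swap_apply_of_ne_of_ne hab hac, Perm.mul_apply,
        swap_apply_of_ne_of_ne p1.symm hab, Perm.mul_apply, z'a, x'a]
  · have hid : swap d a * swap b c * swap a'' d'' * swap a'' a * swap b d * swap c d''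
        = swap a'' d * swap d c * swap d'' b * swap b a := by
      simpa using id_F3y _ hp0
    have h1 : y * (z₀ * swap a'' a * swap b d * swap c d'')
        = y' * z' * swap a'' d * swap d c * swap d'' b * swap b a := by
      calc y * (z₀ * swap a'' a * swap b d * swap c d'')
          = y' * swap d a * (swap b c * z') * swap a'' d'' * swap a'' a * swap b d * swap c d'' := by
            rw [hzeq, hyeq]; simp only [mul_assoc]
        _ = y' * (swap d a * z') * swap b c * swap a'' d'' * swap a'' a * swap b d * swap c d'' := by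
            rw [cbc]; simp only [mul_assoc]
        _ = y' * z' * (swap d a * swap b c * swap a'' d'' * swap a'' a * swap b d * swap c d'') := by
            rw [cda]; simp only [mul_assoc]
        _ = y' * z' * swap a'' d * swap d c * swap d'' b * swap b a := by
            rw [hid]; simp only [mul_assoc]
    rw [h1]
    have o1 : Odd (orderOf (y' * z' * swap a'' d * swap d c)) := by
      refine odd_insert oy ?_ ?_ hcd.symm p4 p3
      · rw [Perm.mul_apply, z'd, y'd]
      · rw [Perm.mul_apply, z'c, y'c]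
    refine odd_insert o1 ?_ ?_ hab.symm q2 q1
    · rw [Perm.mul_apply, swap_apply_of_ne_of_ne hbd hbc, Perm.mul_apply,
        swap_apply_of_ne_of_ne p2.symm hbd, Perm.mul_apply, z'b, y'b]
    · rw [Perm.mul_apply, swap_apply_of_ne_of_ne had hac, Perm.mul_apply,
        swap_apply_of_ne_of_ne p1.symm had, Perm.mul_apply, z'a, y'a]

end Cfsg.Agent.Lib.H2.InvG
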