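import Mathlib
import Cfsg.Agent.Lib.H2.InvG5

/-!
# Involution graphs in symmetric groups, part 6: the main induction
-/

set_option linter.unusedSectionVars false

namespace Cfsg.Agent.Lib.H2.InvG

open Equiv Equiv.Perm

variable {V : Type*} [DecidableEq V] [Fintype V]

theorem inj6 {a b c d e f : V} (hab : a ≠ b) (hac : a ≠ c) (had : a ≠ d) (hae : a ≠ e)
    (haf : a ≠ f) (hbc : b ≠ c) (hbd : b ≠ d) (hbe : b ≠ e) (hbf : b ≠ f) (hcd : c ≠ d)
    (hce : c ≠ e) (hcf : c ≠ f) (hde : d ≠ e) (hdf : d ≠ f) (hef : e ≠ f) :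
    Function.Injective ![a, b, c, d, e, f] := by
  intro i j hij
  fin_cases i <;> fin_cases j <;> simp_all

theorem step_main {S : Finset V} {x y : Perm V} (hI : Inst S x y) (ih : IH V S.card)
    (hnE : ¬ Exc S x y) : ∃ z, Sol S x y z := by
  by_cases hF : ∃ a b c d, Four x y a b c d
  · obtain ⟨a, b, c, d, hF⟩ := hF
    exact step_F hI ih hnE hF
  push Not at hF
  by_cases hT : ∃ f e d, x f = f ∧ y f = e ∧ e ≠ f ∧ x e = d ∧ d ≠ e
  · obtain ⟨f, e, d, h1, h2, h3, h4, h5⟩ := hT
    exact step_T hI ih h1 h2 h3 h4 h5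
  by_cases hT' : ∃ f e d, y f = f ∧ x f = e ∧ e ≠ f ∧ y e = d ∧ d ≠ e
  · obtain ⟨f, e, d, h1, h2, h3, h4, h5⟩ := hT'
    obtain ⟨z, hz⟩ := step_T hI.symm ih h1 h2 h3 h4 h5
    exact ⟨z, hz.symm hI.2.2.2.2.symm⟩
  push Not at hT hT'
  obtain ⟨hx, hy, hxS, hyS, hcard⟩ := id hI
  by_cases hM : ∃ a, x a ≠ a ∧ y a ≠ a
  · obtain ⟨a, hxa, hya⟩ := hM
    by_cases hca : y (x a) = a
    · exact step_R1 hI ih hF (a := a) (b := x a) rfl (hy.eq_of_apply_eq hca) hxa.symm
    -- name the points
    obtain ⟨b, hb⟩ : ∃ b, x a = b := ⟨_, rfl⟩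
    obtain ⟨c, hc⟩ : ∃ c, y b = c := ⟨_, rfl⟩
    obtain ⟨d, hd⟩ : ∃ d, x c = d := ⟨_, rfl⟩
    obtain ⟨a', ha'⟩ : ∃ a', y a = a' := ⟨_, rfl⟩
    obtain ⟨d', hd'⟩ : ∃ d', y d = d' := ⟨_, rfl⟩
    rw [hb, hc] at hca
    rw [hb] at hxa
    rw [ha'] at hya
    have hxb : x b = a := hx.eq_of_apply_eq hb
    have hyc : y c = b := hy.eq_of_apply_eq hc
    have hxd : x d = c := hx.eq_of_apply_eq hd
    have hya' : y a' = a := hy.eq_of_apply_eq ha'
    have hyd' : y d' = d := hy.eq_of_apply_eq hd'
    have h_ab : a ≠ b := hxa.symm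
    have h_bc : b ≠ c := by
      intro h
      have hyb : y b = b := by rw [hc, ← h]
      have := hT' b a a' hyb hxb h_ab ha'
      exact hya this
    have h_ac : a ≠ c := fun h => hca h.symm
    have h_cd : c ≠ d := by
      intro h
      have hxc : x c = c := by rw [hd, ← h]
      have := hT c b a hxc hyc h_bc hxb
      exact h_ab this
    have h_dd' : d ≠ d' := by
      intro h
      have hyd : y d = d := by rw [hd', ← h]
      have := hT' d c b hyd hxd h_cd hyc
      exact h_bc this
    have h_ad : a ≠ d := by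
      intro h; apply h_bc; rw [← hb, h, hxd]
    have h_bd : b ≠ d := by
      intro h; apply h_ac; rw [← hxb, h, hxd]
    have h_ad' : a ≠ d' := by
      intro h
      apply hF a b c d
      exact ⟨hb, hc, hd, by rw [hd', ← h], inj4 h_ab h_ac h_ad h_bc h_bd h_cd⟩
    have h_a'a : a' ≠ a := hya
    have h_a'b : a' ≠ b := by
      intro h; apply h_ac; rw [← hya', h, hc]
    have h_a'c : a' ≠ c := by
      intro h; apply h_ab; rw [← hya', h, hyc]
    have h_a'd : a' ≠ d := by
      intro h; apply h_ad'; rw [← hya', h, hd']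
    have h_a'd' : a' ≠ d' := by
      intro h; apply h_ad; rw [← hya', h, hyd']
    have h_bd' : b ≠ d' := by
      intro h; apply h_cd; rw [← hc, h, hyd']
    have h_cd' : c ≠ d' := by
      intro h; apply h_bd; rw [← hyc, h, hyd']
    have hinj : Function.Injective ![a', a, b, c, d, d'] :=
      inj6 h_a'a h_a'b h_a'c h_a'd h_a'd' h_ab h_ac h_ad h_ad' h_bc h_bd h_bd' h_cd h_cd' h_dd'
    exact step_R7 hI ih hinj hya' hb hc hd hd'
  · push Not at hM
    by_cases h0 : x.support.card = 0
    · have hx1 : x = 1 := Perm.card_support_eq_zero.1 h0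
      have hy1 : y = 1 := Perm.card_support_eq_zero.1 (by omega)
      refine ⟨1, inv_one, by simp, by simp [hx1], ?_, ?_⟩
      · rw [hx1, one_mul]; exact odd_orderOf_one
      · rw [hy1, one_mul]; exact odd_orderOf_one
    · obtain ⟨a, ha⟩ : x.support.Nonempty := by rw [← Finset.card_pos]; omega
      obtain ⟨c, hc⟩ : y.support.Nonempty := by rw [← Finset.card_pos]; omega
      rw [Perm.mem_support] at ha hc
      have hxb : x (x a) ≠ x a := by rw [hx.apply]; exact ha.symm
      have hyd : y (y c) ≠ y c := by rw [hy.apply]; exact hc.symm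
      have hxc : x c = c := by
        by_contra h; exact hc (hM c h)
      have hxd : x (y c) = y c := by
        by_contra h; exact hyd (hM (y c) h)
      exact step_P22 hI ih hF (a := a) (b := x a) (c := c) (d := y c) rfl ha.symm (hM a ha)
        (hM (x a) hxb) rfl hc.symm hxc hxd

theorem main_IH : ∀ n : ℕ, IH V n := by
  intro n
  induction n with
  | zero => intro S x y h; exact absurd h (Nat.not_lt_zero _)
  | succ n ih =>
    intro S x y hS hI hnE
    have ih' : IH V S.card := fun S' x' y' h' =>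
      ih S' x' y' (lt_of_lt_of_le h' (Nat.lt_succ_iff.1 hS))
    exact step_main hI ih' hnE

/-- The main combinatorial lemma: a non-exceptional instance has a solution. -/
theorem main {S : Finset V} {x y : Perm V} (hI : Inst S x y) (hnE : ¬ Exc S x y) :
    ∃ z, Sol S x y z :=
  main_IH (S.card + 1) S x y (Nat.lt_succ_self _) hI hnE

/-! ### conjugacy of involutions -/

theorem Inv.orderOf_eq_two {x : Perm V} (hx : Inv x) (h1 : x ≠ 1) : orderOf x = 2 := by
  have : Fact (Nat.Prime 2) := ⟨Nat.prime_two⟩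
  exact orderOf_eq_prime (by rw [pow_two]; exact hx) h1

theorem Inv.not_odd {x : Perm V} (hx : Inv x) (h1 : x ≠ 1) : ¬ Odd (orderOf x) := by
  rw [hx.orderOf_eq_two h1]; decide

theorem Inv.cycleType {x : Perm V} (hx : Inv x) (h1 : x ≠ 1) :
    x.cycleType = Multiset.replicate (x.support.card / 2) 2 := by
  have h2 := hx.orderOf_eq_two h1
  obtain ⟨m, hm⟩ := Perm.cycleType_prime_order (σ := x) (by rw [h2]; exact Nat.prime_two)
  have hs := Perm.sum_cycleType x
  rw [hm, h2, Multiset.sum_replicate, smul_eq_mul] at hs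
  rw [hm, h2, ← hs, Nat.mul_div_cancel _ (by norm_num)]

theorem isConj_of_inv {x z : Perm V} (hx : Inv x) (hz : Inv z) (hx1 : x ≠ 1)
    (hc : z.support.card = x.support.card) : IsConj x z := by
  have hz1 : z ≠ 1 := by
    intro h
    rw [h, Perm.support_one, Finset.card_empty] at hc
    exact hx1 (Perm.card_support_eq_zero.1 hc.symm)
  rw [Perm.isConj_iff_cycleType_eq, hx.cycleType hx1, hz.cycleType hz1, hc]

theorem inv_of_isConj {t x : Perm V} (ht : Inv t) (h : IsConj t x) : Inv x := by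
  obtain ⟨c, rfl⟩ := isConj_iff.1 h
  unfold Inv at *
  calc c * t * c⁻¹ * (c * t * c⁻¹) = c * (t * t) * c⁻¹ := by group
    _ = 1 := by rw [ht]; group

theorem card_support_of_isConj {t x : Perm V} (h : IsConj t x) :
    x.support.card = t.support.card := by
  obtain ⟨c, rfl⟩ := isConj_iff.1 h
  exact Perm.card_support_conj

/-- common neighbours in the class of an involution `t` of `Sym(n)`, `n ≥ 5` -/
theorem exists_common {n : ℕ} (hn : 5 ≤ n) {t : Perm (Fin n)} (ht : orderOf t = 2)
    {x y : Perm (Fin n)} (hx : IsConj t x) (hy : IsConj t y) :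
    ∃ z, IsConj t z ∧ Odd (orderOf (x * z)) ∧ Odd (orderOf (y * z)) := by
  have it : Inv t := by
    have := pow_orderOf_eq_one t
    rw [ht, pow_two] at this
    exact this
  have t1 : t ≠ 1 := by
    intro h; rw [h, orderOf_one] at ht; exact absurd ht (by decide)
  have ix := inv_of_isConj it hx
  have iy := inv_of_isConj it hy
  have cx := card_support_of_isConj hx
  have cy := card_support_of_isConj hy
  have hI : Inst (Finset.univ : Finset (Fin n)) x y :=
    ⟨ix, iy, Finset.subset_univ _, Finset.subset_univ _, cx.trans cy.symm⟩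
  have hnE : ¬ Exc (Finset.univ : Finset (Fin n)) x y := by
    rintro ⟨a, b, c, d, -, h⟩
    have h1 : (Finset.univ : Finset (Fin n)).card = n := by simp
    have h2 : ({a, b, c, d} : Finset (Fin n)).card ≤ 4 := Finset.card_le_four
    rw [h] at h1
    omega
  obtain ⟨z, iz, -, cz, ox, oy⟩ := main hI hnE
  exact ⟨z, isConj_of_inv it iz t1 (cz.trans cx), ox, oy⟩

end Cfsg.Agent.Lib.H2.InvG
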