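import Mathlib
import Cfsg.Agent.Lib.H2.InvG6

/-!
# Involution graphs in symmetric groups, part 7: the graph statement
-/

set_option linter.unusedSectionVars false

namespace Cfsg.Agent.Lib.H2.InvG

open Equiv Equiv.Perm

/-- a graph in which any two vertices are equal, adjacent or have a common neighbour, and which
is not complete, is connected of diameter 2 -/
theorem conn_diam_two {α : Type*} [Nonempty α] (G : SimpleGraph α)
    (h : ∀ u v, u = v ∨ G.Adj u v ∨ ∃ w, G.Adj u w ∧ G.Adj w v)
    (hne : ∃ u v, u ≠ v ∧ ¬ G.Adj u v) : G.Connected ∧ G.diam = 2 := by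
  have hle : G.ediam ≤ 2 := by
    rw [SimpleGraph.ediam_le_iff]
    intro u v
    rcases h u v with rfl | hadj | ⟨w, h1, h2⟩
    · rw [SimpleGraph.edist_self]; exact bot_le
    · refine (SimpleGraph.edist_le (SimpleGraph.Walk.cons hadj SimpleGraph.Walk.nil)).trans ?_
      simp
    · refine (SimpleGraph.edist_le
        (SimpleGraph.Walk.cons h1 (SimpleGraph.Walk.cons h2 SimpleGraph.Walk.nil))).trans ?_
      simp
  obtain ⟨u, v, huv, hnadj⟩ := hne
  have h1 : 1 ≤ G.edist u v := Order.one_le_iff_pos.2 (SimpleGraph.edist_pos_of_ne huv)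
  have h2 : G.edist u v ≠ 1 := fun e => hnadj (SimpleGraph.edist_eq_one_iff_adj.1 e)
  have h3 : (2 : ℕ∞) ≤ G.edist u v := by
    have := Order.add_one_le_of_lt (lt_of_le_of_ne h1 (Ne.symm h2))
    rwa [one_add_one_eq_two] at this
  have hed : G.ediam = 2 := le_antisymm hle (h3.trans SimpleGraph.edist_le_ediam)
  refine ⟨SimpleGraph.connected_of_ediam_ne_top (by rw [hed]; decide), ?_⟩
  unfold SimpleGraph.diam
  rw [hed]; rfl

variable {V : Type*} [DecidableEq V] [Fintype V]

/-- two conjugate involutions whose product has order 2, first case: `t` has two 2-cycles -/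
theorem nonadj_A {t : Perm V} (it : Inv t) {a b c d : V} (hta : t a = b) (htc : t c = d)
    (hab : a ≠ b) (hac : a ≠ c) (hbc : b ≠ c) (hcd : c ≠ d) :
    t * (swap b c * t * swap b c) = swap a d * swap b c := by
  have htb : t b = a := it.eq_of_apply_eq hta
  have htd : t d = c := it.eq_of_apply_eq htc
  have had : a ≠ d := by intro h; apply hbc; rw [← hta, h, htd]
  have hbd : b ≠ d := by intro h; apply hac; rw [← htb, h, htd]
  refine Equiv.ext fun v => ?_
  simp only [Perm.mul_apply]
  by_cases h1 : v = a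
  · subst h1
    rw [swap_apply_of_ne_of_ne hab hac, hta, swap_apply_left, htc, swap_apply_left]
  by_cases h2 : v = b
  · subst h2
    rw [swap_apply_left, htc, swap_apply_of_ne_of_ne hbd.symm hcd.symm, htd,
      swap_apply_of_ne_of_ne hac.symm hcd]
  by_cases h3 : v = c
  · subst h3
    rw [swap_apply_right, htb, swap_apply_of_ne_of_ne hab hac, hta,
      swap_apply_of_ne_of_ne hab.symm hbd]
  by_cases h4 : v = d
  · subst h4
    rw [swap_apply_of_ne_of_ne hbd.symm hcd.symm, htd, swap_apply_right, htb, swap_apply_right]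
  have k1 : t v ≠ b := by intro h; apply h1; rw [← htb, ← h, it.apply]
  have k2 : t v ≠ c := by intro h; apply h4; rw [← htc, ← h, it.apply]
  rw [swap_apply_of_ne_of_ne h2 h3, swap_apply_of_ne_of_ne k1 k2, it.apply,
    swap_apply_of_ne_of_ne h1 h4]

theorem exists_nonadj {n : ℕ} (hn : 5 ≤ n) {t : Perm (Fin n)} (ht : orderOf t = 2) :
    ∃ y, IsConj t y ∧ y ≠ t ∧ ¬ Odd (orderOf (t * y)) ∧ ¬ Odd (orderOf (y * t)) := by
  have it : Inv t := by
    have := pow_orderOf_eq_one t
    rw [ht, pow_two] at this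
    exact this
  have t1 : t ≠ 1 := by
    intro h; rw [h, orderOf_one] at ht; exact absurd ht (by decide)
  obtain ⟨a, ha⟩ : ∃ a, t a ≠ a := by
    by_contra h
    push Not at h
    exact t1 (Equiv.ext h)
  obtain ⟨b, hb⟩ : ∃ b, t a = b := ⟨_, rfl⟩
  have hab : a ≠ b := by rw [← hb]; exact ha.symm
  have htb : t b = a := it.eq_of_apply_eq hb
  suffices h : ∃ y, IsConj t y ∧ Inv (t * y) ∧ t * y ≠ 1 by
    obtain ⟨y, hy, i1, n1⟩ := h
    have iy := inv_of_isConj it hy
    have hno := i1.not_odd n1
    refine ⟨y, hy, ?_, hno, ?_⟩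
    · intro e; apply n1; rw [e]; exact it
    · rw [it.orderOf_mul_comm iy]; exact hno
  by_cases hc : ∃ c, c ≠ a ∧ c ≠ b ∧ t c ≠ c
  · obtain ⟨c, hca, hcb, hc⟩ := hc
    obtain ⟨d, hd⟩ : ∃ d, t c = d := ⟨_, rfl⟩
    have hcd : c ≠ d := by rw [← hd]; exact hc.symm
    have htd : t d = c := it.eq_of_apply_eq hd
    have had : a ≠ d := by intro h; apply hcb; rw [← htd, ← h, hb]
    have hbd : b ≠ d := by intro h; apply hca; rw [← htd, ← h, htb]
    refine ⟨swap b c * t * swap b c, isConj_iff.2 ⟨swap b c, by rw [swap_inv]⟩, ?_, ?_⟩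
    · rw [nonadj_A it hb hd hab hca.symm hcb.symm hcd]
      exact (inv_swap a d).mul_swap_fixed (swap_apply_of_ne_of_ne hab.symm hbd)
        (swap_apply_of_ne_of_ne hca hcd)
    · rw [nonadj_A it hb hd hab hca.symm hcb.symm hcd]
      intro h
      have := congrArg (fun p : Perm (Fin n) => p a) h
      simp only [Perm.mul_apply, Perm.one_apply] at this
      rw [swap_apply_of_ne_of_ne hab hca.symm, swap_apply_left] at this
      exact had this.symm
  · push Not at hc
    have hteq : t = swap a b := by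
      refine Equiv.ext fun v => ?_
      by_cases h1 : v = a
      · rw [h1, swap_apply_left, hb]
      by_cases h2 : v = b
      · rw [h2, swap_apply_right, htb]
      rw [swap_apply_of_ne_of_ne h1 h2, hc v h1 h2]
    have hcard : 1 < ((Finset.univ : Finset (Fin n)) \ {a, b}).card := by
      have h1 : ((Finset.univ : Finset (Fin n)) \ {a, b}).card
          = (Finset.univ : Finset (Fin n)).card - ({a, b} : Finset (Fin n)).card :=
        Finset.card_sdiff_of_subset (Finset.subset_univ _)
      have h2 : ({a, b} : Finset (Fin n)).card ≤ 2 := Finset.card_le_two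
      have h3 : (Finset.univ : Finset (Fin n)).card = n := by simp
      omega
    obtain ⟨c, hc', d, hd', hcd⟩ := Finset.one_lt_card.1 hcard
    simp only [Finset.mem_sdiff, Finset.mem_univ, Finset.mem_insert, Finset.mem_singleton,
      true_and, not_or] at hc' hd'
    refine ⟨swap c d, ?_, ?_, ?_⟩
    · rw [hteq]; exact Perm.isConj_swap hab hcd
    · rw [hteq]
      exact (inv_swap a b).mul_swap_fixed (swap_apply_of_ne_of_ne hc'.1 hc'.2)
        (swap_apply_of_ne_of_ne hd'.1 hd'.2)
    · rw [hteq]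
      intro h
      have := congrArg (fun p : Perm (Fin n) => p a) h
      simp only [Perm.mul_apply, Perm.one_apply] at this
      rw [swap_apply_of_ne_of_ne (Ne.symm hc'.1) (Ne.symm hd'.1), swap_apply_left] at this
      exact hab this.symm

/-- **S3265.** In `Sym(n)`, `n ≥ 5`, the graph on a class of involutions joining two involutions
whose product has odd order is connected of diameter 2. -/
theorem inv_graph (n : ℕ) (hn : 5 ≤ n) (t : Perm (Fin n)) (ht : orderOf t = 2) :
    (SimpleGraph.fromRel fun x y : {x : Perm (Fin n) // IsConj t x} =>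
        Odd (orderOf (x.1 * y.1))).Connected ∧
      (SimpleGraph.fromRel fun x y : {x : Perm (Fin n) // IsConj t x} =>
        Odd (orderOf (x.1 * y.1))).diam = 2 := by
  have : Nonempty {x : Perm (Fin n) // IsConj t x} := ⟨⟨t, IsConj.refl t⟩⟩
  refine conn_diam_two _ ?_ ?_
  · intro x y
    by_cases hxy : x = y
    · exact Or.inl hxy
    right
    obtain ⟨z, hz, ox, oy⟩ := exists_common hn ht x.2 y.2
    by_cases hzx : (⟨z, hz⟩ : {x : Perm (Fin n) // IsConj t x}) = x
    · left
      rw [SimpleGraph.fromRel_adj]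
      refine ⟨hxy, Or.inr ?_⟩
      have : z = x.1 := congrArg Subtype.val hzx
      rw [← this]; exact oy
    by_cases hzy : (⟨z, hz⟩ : {x : Perm (Fin n) // IsConj t x}) = y
    · left
      rw [SimpleGraph.fromRel_adj]
      refine ⟨hxy, Or.inl ?_⟩
      have : z = y.1 := congrArg Subtype.val hzy
      rw [← this]; exact ox
    right
    refine ⟨⟨z, hz⟩, ?_, ?_⟩
    · rw [SimpleGraph.fromRel_adj]
      exact ⟨fun e => hzx e.symm, Or.inl ox⟩
    · rw [SimpleGraph.fromRel_adj]
      exact ⟨hzy, Or.inr oy⟩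
  · obtain ⟨y, hy, hyt, h1, h2⟩ := exists_nonadj hn ht
    refine ⟨⟨t, IsConj.refl t⟩, ⟨y, hy⟩, ?_, ?_⟩
    · intro e; exact hyt (congrArg Subtype.val e).symm
    · rw [SimpleGraph.fromRel_adj]
      rintro ⟨-, h | h⟩
      · exact h1 h
      · exact h2 h

end Cfsg.Agent.Lib.H2.InvG
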