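import Mathlib
import Cfsg.Agent.Lib.H5.Ord.GenTests3
import Cfsg.Agent.Lib.H5.Ord.SylPrime2
import Cfsg.Agent.Lib.H5.OrderCount
import Cfsg.Agent.Lib.H5.KleinSylow
import Cfsg.Agent.Lib.H16.ThompsonTransfer
import Cfsg.Agent.Lib.H28.J1OrdTools

/-!
# S4274 (helper28's blueprint), piece O15960: no simple group of order `15960 = 2^3.3.5.7.19`
-/

set_option autoImplicit false

namespace Cfsg.Agent.Lib.H2.J1Ord

open Subgroup Cfsg.Agent.Lib.H28.J1Ord

/-- the possible numbers of Sylow 19-subgroups -/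
theorem tab19_15960 : ∀ d : ℕ, d ≤ 840 → d ∣ 840 → d % 19 = 1 → d ≠ 1 → d = 20 ∨ d = 210 := by
  decide +kernel

/-- the possible numbers of Sylow 7-subgroups -/
theorem tab7_15960 : ∀ d : ℕ, d ≤ 2280 → (d ∣ 2280 ∧ d % 7 = 1 ∧ 19 ≤ d) →
    d = 57 ∨ d = 120 ∨ d = 190 ∨ d = 456 := by
  decide +kernel

theorem tabk_15960 : ∀ k : ℕ, k ≤ 210 → k ∣ 210 → k % 19 = 1 → k = 1 ∨ k = 210 := by
  decide +kernel

/-- in a non-abelian simple group the centralizer of a non-trivial element is proper -/
theorem centralizer_singleton_ne_top {G : Type*} [Group G] [IsSimpleGroup G]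
    (hnc : ¬ IsMulCommutative G) {u : G} (hu : u ≠ 1) : centralizer ({u} : Set G) ≠ ⊤ := by
  intro htop
  have hcen : u ∈ center G := by
    rw [mem_center_iff]
    intro g
    have : g ∈ centralizer ({u} : Set G) := htop ▸ mem_top g
    rw [mem_centralizer_singleton_iff] at this
    exact this
  have hZ : center G = ⊥ ∨ center G = ⊤ :=
    (inferInstance : (center G).Normal).eq_bot_or_eq_top
  rcases hZ with hz | hz
  · rw [hz, mem_bot] at hcen
    exact hu hcen
  · apply hnc
    refine ⟨⟨fun a b => ?_⟩⟩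
    have ha : a ∈ center G := hz ▸ mem_top a
    exact ((mem_center_iff.mp ha) b).symm

variable {G : Type*} [Group G] [Finite G] [IsSimpleGroup G]

/-- O15960 -/
theorem ne_15960 : Nat.card G ≠ 15960 := by
  intro hn
  have hnc : ¬ IsMulCommutative G :=
    Cfsg.Agent.Lib.H5.not_isMulCommutative_of_card_not_prime (by rw [hn]; norm_num)
  have : Fact (Nat.Prime 19) := ⟨by norm_num⟩
  have : Fact (Nat.Prime 7) := ⟨by norm_num⟩
  have : Fact (Nat.Prime 2) := ⟨by norm_num⟩
  obtain ⟨P19⟩ : Nonempty (Sylow 19 G) := inferInstance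
  obtain ⟨P7⟩ : Nonempty (Sylow 7 G) := inferInstance
  obtain ⟨S⟩ : Nonempty (Sylow 2 G) := inferInstance
  have hS : Nat.card (S : Subgroup G) = 8 :=
    (Cfsg.Agent.Lib.H5.sylow_card_and_index S (k := 3) (m := 1995) (by rw [hn]; norm_num) (by norm_num)).1
  obtain ⟨a1, a2, a3, a4, a5, a6, a7, a8, a9, a10, -, -, a13, -⟩ :=
    Cfsg.Agent.Lib.H5.GenTests.prime_data_explicit hnc hn (show 15960 = 19 * 840 by norm_num)
      (by norm_num) (by norm_num) P19
  obtain ⟨b1, b2, b3, b4, b5, b6, b7, b8, b9, b10, -, -, b13, -⟩ :=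
    Cfsg.Agent.Lib.H5.GenTests.prime_data_explicit hnc hn (show 15960 = 7 * 2280 by norm_num)
      (by norm_num) (by norm_num) P7
  generalize hd19 : Nat.card (Sylow 19 G) = d19 at *
  generalize hd7 : Nat.card (Sylow 7 G) = d7 at *
  generalize he19 : (centralizer ((P19 : Subgroup G) : Set G)).relIndex
    (normalizer ((P19 : Subgroup G) : Set G)) = e19 at *
  generalize he7 : (centralizer ((P7 : Subgroup G) : Set G)).relIndex
    (normalizer ((P7 : Subgroup G) : Set G)) = e7 at *
  generalize hc19 : Nat.card (centralizer ((P19 : Subgroup G) : Set G)) = c19 at *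
  generalize hc7 : Nat.card (centralizer ((P7 : Subgroup G) : Set G)) = c7 at *
  generalize hN19 : Nat.card (normalizer ((P19 : Subgroup G) : Set G)) = N19 at *
  have hd7' : d7 = 57 ∨ d7 = 120 ∨ d7 = 190 ∨ d7 = 456 := by
    have h19 : 19 ≤ d7 := by
      have : 19 ∣ d7.factorial := Dvd.dvd.trans ⟨1680, by norm_num⟩ b4
      exact (Nat.Prime.dvd_factorial (by norm_num)).mp this
    exact tab7_15960 d7 (Nat.le_of_dvd (by norm_num) b1) ⟨b1, b2, h19⟩
  have he7' : e7 ≤ 6 := Nat.le_of_dvd (by norm_num) b5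
  have he19' : e19 ≤ 18 := Nat.le_of_dvd (by norm_num) a5
  rcases tab19_15960 d19 (Nat.le_of_dvd (by norm_num) a1) a1 a2 a3 with h | h
  · -- n_19 = 20
    subst h
    have h7 : 7 ∣ c19 := by
      interval_cases e19 <;> omega
    have hx : Nat.card (P19 : Subgroup G) ∣ Nat.card (centralizer ((P7 : Subgroup G) : Set G)) :=
      dvd_card_centralizer_symm P19 P7 b9 (hc19 ▸ h7)
    rw [a9, hc7] at hx
    obtain ⟨j, hj⟩ := hx
    subst hj
    rcases hd7' with h | h | h | h <;> subst h <;> interval_cases e7 <;> omega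
  · -- n_19 = 210
    subst h
    have he : e19 = 2 := by interval_cases e19 <;> omega
    subst he
    have hc : c19 = 2 * 19 := by omega
    have hNN : N19 = 76 := by omega
    obtain ⟨z, k, hz, -, hCz, hk⟩ :=
      exists_invol_of_card_centralizer (p := 19) (by norm_num) P19 a9 (hc19.trans hc)
    rw [hN19, hNN] at hCz
    have hdvd : Nat.card (centralizer ({z} : Set G)) ∣ Nat.card G :=
      Subgroup.card_subgroup_dvd_card _
    rw [hCz, hn] at hdvd
    have hk210 : k ∣ 210 := by
      obtain ⟨j, hj⟩ := hdvd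
      exact ⟨j, by nlinarith⟩
    have hz1 : z ≠ 1 := by
      intro h
      rw [h, orderOf_one] at hz
      omega
    rcases tabk_15960 k (Nat.le_of_dvd (by norm_num) hk210) hk210 hk with h | h
    · subst h
      have := eight_dvd_card_centralizer_invol hnc S hS z hz
      rw [hCz] at this
      omega
    · subst h
      apply centralizer_singleton_ne_top hnc hz1
      apply (Subgroup.card_eq_iff_eq_top _).mp
      rw [hCz, hn]

end Cfsg.Agent.Lib.H2.J1Ord
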