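import Mathlib
import Cfsg.Agent.Lib.H5.Ord.GenTests3
import Cfsg.Agent.Lib.H5.Ord.SylPrime2
import Cfsg.Agent.Lib.H5.OrderCount
import Cfsg.Agent.Lib.H5.KleinSylow
import Cfsg.Agent.Lib.H5.Orbits
import Cfsg.Agent.Lib.H16.ThompsonTransfer
import Cfsg.Agent.Lib.H28.J1OrdTools

/-!
# S4274 (helper28's blueprint), piece O17556: no simple group of order `17556 = 2^2.3.7.11.19`
-/

set_option autoImplicit false

namespace Cfsg.Agent.Lib.H2.J1Ord

open Subgroup Cfsg.Agent.Lib.H28.J1Ord

theorem tab11_17556 : ∀ d : ℕ, d ≤ 1596 → (d ∣ 1596 ∧ d % 11 = 1 ∧ 19 ≤ d) →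
    d = 133 ∨ d = 1596 := by
  decide +kernel

theorem tab3_17556 : ∀ d : ℕ, d ≤ 798 → (d ∣ 798 ∧ d ∣ 5852 ∧ d % 3 = 1 ∧ 19 ≤ d) →
    d = 19 ∨ d = 133 := by
  decide +kernel

theorem tab19_17556 : ∀ d : ℕ, d ≤ 924 → (d ∣ 924 ∧ d % 19 = 1 ∧ d ≠ 1) → d = 77 := by
  decide +kernel

theorem tabm_17556 : ∀ m : ℕ, m ≤ 14 → (m ∣ 14 ∧ m % 11 = 1) → m = 1 := by
  decide +kernel

/-- in a non-abelian simple group the centralizer of a non-trivial element is proper -/
theorem centralizer_singleton_ne_top' {G : Type*} [Group G] [IsSimpleGroup G]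
    (hnc : ¬ IsMulCommutative G) {u : G} (hu : u ≠ 1) : centralizer ({u} : Set G) ≠ ⊤ := by
  intro htop
  have hcen : u ∈ center G := by
    rw [mem_center_iff]
    intro g
    have : g ∈ centralizer ({u} : Set G) := htop ▸ mem_top g
    rw [mem_centralizer_singleton_iff] at this
    exact this
  have hZ : center G = ⊥ ∨ center G = ⊤ :=
    (inferInstance : (center G).Normal).eq_bot_or_eq_top
  rcases hZ with hz | hz
  · rw [hz, mem_bot] at hcen
    exact hu hcen
  · apply hnc
    refine ⟨⟨fun a b => ?_⟩⟩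
    have ha : a ∈ center G := hz ▸ mem_top a
    exact ((mem_center_iff.mp ha) b).symm

/-- if `C(P)` has even order and all involutions are conjugate, then `|P|` divides the order of
the centralizer of every involution -/
theorem card_dvd_card_centralizer_invol {G : Type*} [Group G] [Finite G] (P : Subgroup G)
    (heven : 2 ∣ Nat.card (centralizer (P : Set G)))
    (hconj : ∀ s t : G, orderOf s = 2 → orderOf t = 2 → IsConj s t) (z : G) (hz : orderOf z = 2) :
    Nat.card P ∣ Nat.card (centralizer ({z} : Set G)) := by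
  have : Fact (Nat.Prime 2) := ⟨by norm_num⟩
  obtain ⟨t, ht⟩ := exists_prime_orderOf_dvd_card' 2 heven
  have ht' : orderOf (t : G) = 2 := by rw [Subgroup.orderOf_coe]; exact ht
  have hle : P ≤ centralizer ({(t : G)} : Set G) := by
    intro x hx
    rw [mem_centralizer_singleton_iff]
    have := t.2
    rw [mem_centralizer_iff] at this
    exact this x hx
  rw [Cfsg.Agent.Lib.H5.card_centralizer_of_isConj (hconj (t : G) z ht' hz)]
  exact card_dvd_of_le hle

variable {G : Type*} [Group G] [Finite G] [IsSimpleGroup G]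

/-- O17556 -/
theorem ne_17556 : Nat.card G ≠ 17556 := by
  intro hn
  have hnc : ¬ IsMulCommutative G :=
    Cfsg.Agent.Lib.H5.not_isMulCommutative_of_card_not_prime (by rw [hn]; norm_num)
  have : Fact (Nat.Prime 19) := ⟨by norm_num⟩
  have : Fact (Nat.Prime 11) := ⟨by norm_num⟩
  have : Fact (Nat.Prime 3) := ⟨by norm_num⟩
  have : Fact (Nat.Prime 2) := ⟨by norm_num⟩
  obtain ⟨P19⟩ : Nonempty (Sylow 19 G) := inferInstance
  obtain ⟨P11⟩ : Nonempty (Sylow 11 G) := inferInstance
  obtain ⟨P3⟩ : Nonempty (Sylow 3 G) := inferInstance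
  obtain ⟨S⟩ : Nonempty (Sylow 2 G) := inferInstance
  have hS : Nat.card (S : Subgroup G) = 4 :=
    (Cfsg.Agent.Lib.H5.sylow_card_and_index S (k := 2) (m := 4389) (by rw [hn]; norm_num)
      (by norm_num)).1
  obtain ⟨a1, a2, a3, a4, a5, a6, a7, a8, a9, a10, -, -, a13, -⟩ :=
    Cfsg.Agent.Lib.H5.GenTests.prime_data_explicit hnc hn (show 17556 = 19 * 924 by norm_num)
      (by norm_num) (by norm_num) P19
  obtain ⟨b1, b2, b3, b4, b5, b6, b7, b8, b9, b10, -, -, b13, -⟩ :=
    Cfsg.Agent.Lib.H5.GenTests.prime_data_explicit hnc hn (show 17556 = 11 * 1596 by norm_num)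
      (by norm_num) (by norm_num) P11
  obtain ⟨c1, c2, c3, c4, c5, c6, c7, c8, c9, c10, -, -, c13, -⟩ :=
    Cfsg.Agent.Lib.H5.GenTests.prime_data_explicit hnc hn (show 17556 = 3 * 5852 by norm_num)
      (by norm_num) (by norm_num) P3
  -- all involutions are conjugate
  have hconj : ∀ s t : G, orderOf s = 2 → orderOf t = 2 → IsConj s t :=
    fun s t hs ht => isConj_invol_of_sylow_four hnc S hS s t hs ht
  -- the three centralizers have even order
  -- p = 11
  have h11 : Nat.card (Sylow 11 G) = 133 ∧
      Nat.card (centralizer ((P11 : Subgroup G) : Set G)) = 66 := by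
    generalize Nat.card (Sylow 11 G) = d at *
    generalize (centralizer ((P11 : Subgroup G) : Set G)).relIndex
      (normalizer ((P11 : Subgroup G) : Set G)) = e at *
    generalize Nat.card (centralizer ((P11 : Subgroup G) : Set G)) = c at *
    have h19 : 19 ≤ d := by
      have : 19 ∣ d.factorial := Dvd.dvd.trans ⟨1848, by norm_num⟩ b4
      exact (Nat.Prime.dvd_factorial (by norm_num)).mp this
    have he : e ≤ 10 := Nat.le_of_dvd (by norm_num) b5
    rcases tab11_17556 d (Nat.le_of_dvd (by norm_num) b1) ⟨b1, b2, h19⟩ with h | h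
    · subst h
      refine ⟨rfl, ?_⟩
      interval_cases e <;> omega
    · subst h
      exfalso
      interval_cases e <;> omega
  obtain ⟨hd11, hc11⟩ := h11
  -- p = 3
  have hx3 : 11 ∣ Nat.card (centralizer ((P3 : Subgroup G) : Set G)) := by
    have := dvd_card_centralizer_symm P11 P3 c9 (by rw [hc11]; norm_num)
    rwa [b9] at this
  have h3 : Nat.card (centralizer ((P3 : Subgroup G) : Set G)) = 66 := by
    have hd3 : Nat.card (Sylow 3 G) = 19 ∨ Nat.card (Sylow 3 G) = 133 := by
      generalize Nat.card (Sylow 3 G) = d at *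
      generalize (centralizer ((P3 : Subgroup G) : Set G)).relIndex
        (normalizer ((P3 : Subgroup G) : Set G)) = e at *
      generalize Nat.card (centralizer ((P3 : Subgroup G) : Set G)) = c at *
      have h19 : 19 ≤ d := by
        have : 19 ∣ d.factorial := Dvd.dvd.trans ⟨1848, by norm_num⟩ c4
        exact (Nat.Prime.dvd_factorial (by norm_num)).mp this
      have he : e ≤ 2 := Nat.le_of_dvd (by norm_num) c5
      have he2 : e = 2 := by interval_cases e <;> omega
      subst he2
      obtain ⟨j, rfl⟩ := hx3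
      have hd798 : d ∣ 798 := by
        have h22 : 22 * (d * j) = 22 * 798 := by
          calc 22 * (d * j) = 11 * j * 2 * d := by ring
            _ = 22 * 798 := by rw [c7]
        exact ⟨j, (Nat.eq_of_mul_eq_mul_left (by norm_num) h22).symm⟩
      exact tab3_17556 d (Nat.le_of_dvd (by norm_num) hd798) ⟨hd798, c1, c2, h19⟩
    rcases hd3 with h | h
    · exfalso
      have hc3 : Nat.card (centralizer ((P3 : Subgroup G) : Set G)) = 462 := by
        generalize (centralizer ((P3 : Subgroup G) : Set G)).relIndex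
          (normalizer ((P3 : Subgroup G) : Set G)) = e at *
        generalize Nat.card (centralizer ((P3 : Subgroup G) : Set G)) = c at *
        rw [h] at c7
        have he : e ≤ 2 := Nat.le_of_dvd (by norm_num) c5
        interval_cases e <;> omega
      obtain ⟨k, hk1, hk2⟩ := ns_numeric (p := 3) (q := 11) (by norm_num) P3 c9
        (by rw [hn]; norm_num) hx3 (by
          intro m hm hm1
          rw [hc3] at hm
          have hm' : m ∣ 14 := by simpa using hm
          exact tabm_17556 m (Nat.le_of_dvd (by norm_num) hm') ⟨hm', hm1⟩)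
      rw [h, hd11] at hk1
      omega
    · generalize (centralizer ((P3 : Subgroup G) : Set G)).relIndex
        (normalizer ((P3 : Subgroup G) : Set G)) = e at *
      generalize Nat.card (centralizer ((P3 : Subgroup G) : Set G)) = c at *
      rw [h] at c7
      have he : e ≤ 2 := Nat.le_of_dvd (by norm_num) c5
      interval_cases e <;> omega
  -- p = 19
  have h19e : 2 ∣ Nat.card (centralizer ((P19 : Subgroup G) : Set G)) := by
    generalize Nat.card (Sylow 19 G) = d at *
    generalize (centralizer ((P19 : Subgroup G) : Set G)).relIndex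
      (normalizer ((P19 : Subgroup G) : Set G)) = e at *
    generalize Nat.card (centralizer ((P19 : Subgroup G) : Set G)) = c at *
    have hd : d = 77 := tab19_17556 d (Nat.le_of_dvd (by norm_num) a1) ⟨a1, a2, a3⟩
    subst hd
    have he : e ≤ 18 := Nat.le_of_dvd (by norm_num) a5
    interval_cases e <;> omega
  -- an involution of S
  obtain ⟨z0, hz0⟩ := exists_prime_orderOf_dvd_card' (G := ↥(S : Subgroup G)) 2
    (by rw [hS]; norm_num)
  have hz : orderOf (z0 : G) = 2 := by rw [Subgroup.orderOf_coe]; exact hz0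
  have hz1 : (z0 : G) ≠ 1 := by
    intro h
    rw [h, orderOf_one] at hz
    omega
  have hSle : (S : Subgroup G) ≤ centralizer ({(z0 : G)} : Set G) := by
    intro x hx
    rw [mem_centralizer_singleton_iff]
    have hc := IsPGroup.isMulCommutative_of_card_eq_prime_sq (p := 2) (G := ↥(S : Subgroup G))
      (by rw [hS]; norm_num)
    have hcomm := hc.is_comm.comm ⟨x, hx⟩ z0
    exact congrArg Subtype.val hcomm
  have d4 : 4 ∣ Nat.card (centralizer ({(z0 : G)} : Set G)) := by
    rw [← hS]; exact card_dvd_of_le hSle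
  have d3 : 3 ∣ Nat.card (centralizer ({(z0 : G)} : Set G)) := by
    have := card_dvd_card_centralizer_invol (P3 : Subgroup G) (by rw [h3]; norm_num) hconj _ hz
    rwa [c9] at this
  have d11 : 11 ∣ Nat.card (centralizer ({(z0 : G)} : Set G)) := by
    have := card_dvd_card_centralizer_invol (P11 : Subgroup G) (by rw [hc11]; norm_num) hconj _ hz
    rwa [b9] at this
  have d19 : 19 ∣ Nat.card (centralizer ({(z0 : G)} : Set G)) := by
    have := card_dvd_card_centralizer_invol (P19 : Subgroup G) h19e hconj _ hz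
    rwa [a9] at this
  have hne := centralizer_singleton_ne_top' hnc hz1
  have hfac := Cfsg.Agent.Lib.H5.two_mul_card_dvd_factorial_index hnc _ hne
  have hidx := Subgroup.card_mul_index (centralizer ({(z0 : G)} : Set G))
  generalize (centralizer ({(z0 : G)} : Set G)).index = i at *
  generalize Nat.card (centralizer ({(z0 : G)} : Set G)) = c at *
  rw [hn] at hidx hfac
  have d12 : 12 ∣ c := Nat.Coprime.mul_dvd_of_dvd_of_dvd (by norm_num) d4 d3
  have d132 : 132 ∣ c := Nat.Coprime.mul_dvd_of_dvd_of_dvd (by norm_num) d12 d11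
  have d2508 : 2508 ∣ c := Nat.Coprime.mul_dvd_of_dvd_of_dvd (by norm_num) d132 d19
  obtain ⟨k, rfl⟩ := d2508
  have hki : k * i = 7 := by
    have h2 : 2508 * (k * i) = 2508 * 7 := by rw [← mul_assoc]; exact hidx
    exact Nat.eq_of_mul_eq_mul_left (by norm_num) h2
  have hi7 : i ≤ 7 := Nat.le_of_dvd (by norm_num) ⟨k, by rw [← hki]; ring⟩
  have h7 : i.factorial ∣ Nat.factorial 7 := Nat.factorial_dvd_factorial hi7
  have := hfac.trans h7
  norm_num [Nat.factorial] at this

end Cfsg.Agent.Lib.H2.J1Ord
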