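import Mathlib

set_option autoImplicit false

namespace Cfsg.Agent.Lib.H2.JRREDUCE

/-- a subgroup contained in the centre is normal -/
theorem jrr_normal_of_le_center {L : Type*} [Group L] (Z₀ : Subgroup L)
    (h : Z₀ ≤ Subgroup.center L) : Z₀.Normal := by
  refine ⟨fun n hn g => ?_⟩
  have hc := Subgroup.mem_center_iff.mp (h hn) g
  have : g * n * g⁻¹ = n := by rw [hc, mul_assoc, mul_inv_cancel, mul_one]
  rw [this]; exact hn

/-- the quotient of a perfect group is perfect -/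
theorem jrr_perfect_quotient {L : Type*} [Group L] (hperf : commutator L = ⊤) (N : Subgroup L)
    [N.Normal] : commutator (L ⧸ N) = ⊤ := by
  rw [commutator_def] at hperf ⊢
  have h1 := Subgroup.map_commutator (⊤ : Subgroup L) ⊤ (QuotientGroup.mk' N)
  have h2 : (⊤ : Subgroup L).map (QuotientGroup.mk' N) = ⊤ :=
    Subgroup.map_top_of_surjective _ (QuotientGroup.mk'_surjective N)
  rw [h2, hperf, h2] at h1
  exact h1.symm

theorem REDUCE {G : Type*} [Group G] [Finite G]
    (h2 : ∀ (L : Type) [Group L] [Finite L] (f : L →* G), Function.Surjective f → commutator L = ⊤ →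
      f.ker ≤ Subgroup.center L → Nat.card ↥f.ker = 2 → False)
    (L : Type) [Group L] [Finite L] (Z : Subgroup L) [Z.Normal] (hperf : commutator L = ⊤)
    (hZ : Z ≤ Subgroup.center L) (hp : IsPGroup 2 ↥Z) (e : L ⧸ Z ≃* G) : Z = ⊥ := by
  by_contra hne
  have : Fact (Nat.Prime 2) := ⟨Nat.prime_two⟩
  obtain ⟨k, hk⟩ := IsPGroup.iff_card.mp hp
  have hk0 : k ≠ 0 := by
    rintro rfl
    apply hne
    exact Subgroup.eq_bot_of_card_eq Z (by simpa using hk)
  obtain ⟨k', rfl⟩ : ∃ k', k = k' + 1 := Nat.exists_eq_succ_of_ne_zero hk0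
  obtain ⟨W, hW⟩ := Sylow.exists_subgroup_card_pow_prime (G := ↥Z) 2 (n := k')
    (by rw [hk]; exact pow_dvd_pow 2 (Nat.le_succ k'))
  let Z₀ : Subgroup L := W.map Z.subtype
  have hZ₀Z : Z₀ ≤ Z := Subgroup.map_subtype_le W
  have hZ₀c : Z₀ ≤ Subgroup.center L := hZ₀Z.trans hZ
  have hZ₀n : Z₀.Normal := jrr_normal_of_le_center Z₀ hZ₀c
  have hcardZ₀ : Nat.card ↥Z₀ = 2 ^ k' := by
    rw [Subgroup.card_map_of_injective Z.subtype_injective, hW]
  -- the new map
  let φ : L →* G := e.toMonoidHom.comp (QuotientGroup.mk' Z)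
  have hφker : ∀ x : L, φ x = 1 ↔ x ∈ Z := by
    intro x
    show e (QuotientGroup.mk' Z x) = 1 ↔ x ∈ Z
    rw [MulEquiv.map_eq_one_iff]
    exact QuotientGroup.eq_one_iff x
  have hle : Z₀ ≤ φ.ker := fun x hx => (MonoidHom.mem_ker).mpr ((hφker x).mpr (hZ₀Z hx))
  let f' : L ⧸ Z₀ →* G := QuotientGroup.lift Z₀ φ hle
  have hf'mk : ∀ l : L, f' (QuotientGroup.mk l) = φ l := fun l => rfl
  have hsurj : Function.Surjective f' := by
    intro g
    obtain ⟨x, rfl⟩ := e.surjective g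
    obtain ⟨l, rfl⟩ := QuotientGroup.mk_surjective x
    exact ⟨QuotientGroup.mk l, rfl⟩
  have hperf' : commutator (L ⧸ Z₀) = ⊤ := jrr_perfect_quotient hperf Z₀
  have hkerc : f'.ker ≤ Subgroup.center (L ⧸ Z₀) := by
    intro y hy
    obtain ⟨l, rfl⟩ := QuotientGroup.mk_surjective y
    have hlZ : l ∈ Z := (hφker l).mp (by rw [← hf'mk]; exact MonoidHom.mem_ker.mp hy)
    rw [Subgroup.mem_center_iff]
    intro w
    obtain ⟨m, rfl⟩ := QuotientGroup.mk_surjective w
    have hc := Subgroup.mem_center_iff.mp (hZ hlZ) m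
    rw [← QuotientGroup.mk_mul, ← QuotientGroup.mk_mul, hc]
  have hcardker : Nat.card ↥f'.ker = 2 := by
    have h1 : f'.ker.index = Nat.card G := by
      rw [Subgroup.index_ker, MonoidHom.range_eq_top.mpr hsurj, Subgroup.card_top]
    have h2' := f'.ker.card_mul_index
    have h3 : Nat.card (L ⧸ Z₀) = Z₀.index := (Subgroup.index_eq_card Z₀).symm
    have h4 : Nat.card G = Z.index := by
      rw [Subgroup.index_eq_card]; exact (Nat.card_congr e.toEquiv).symm
    have h5 := Z₀.card_mul_index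
    have h6 := Z.card_mul_index
    rw [h1, h3, h4] at h2'
    rw [hcardZ₀] at h5
    rw [hk] at h6
    -- 2^k' * Z₀.index = |L| = 2^(k'+1) * Z.index
    have hpos : 0 < 2 ^ k' := pow_pos (by norm_num) k'
    have hZpos : 0 < Z.index := Nat.pos_of_ne_zero Subgroup.index_ne_zero_of_finite
    have h7 : Z₀.index = 2 * Z.index := by
      have : 2 ^ k' * Z₀.index = 2 ^ k' * (2 * Z.index) := by
        rw [h5, ← h6, pow_succ]; ring
      exact Nat.eq_of_mul_eq_mul_left hpos this
    rw [h7] at h2'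
    exact Nat.eq_of_mul_eq_mul_right hZpos h2'
  exact h2 (L ⧸ Z₀) f' hsurj hperf' hkerc hcardker

end Cfsg.Agent.Lib.H2.JRREDUCE
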