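import Mathlib
import Cfsg.Agent.Lib.L0.CharOps
import Cfsg.Agent.Lib.L0.CharDecomp

/-!
# Jordan/Blichfeldt, part 1: the cyclic core (helper2)

A character of the cyclic group of prime order `p` which is constant off the identity and has
degree `< p - 1` is trivial.
-/

set_option autoImplicit false

namespace Cfsg.Agent.Lib.H2.Jor

open scoped ComplexConjugate

theorem sum_zmod_split (p : ℕ) [NeZero p] (f : ZMod p → ℂ) (c : ℂ)
    (hc : ∀ k : ZMod p, k ≠ 0 → f k = c) :
    ∑ k : ZMod p, f k = f 0 + ((p : ℂ) - 1) * c := by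
  classical
  rw [← Finset.add_sum_erase Finset.univ f (Finset.mem_univ (0 : ZMod p))]
  congr 1
  rw [Finset.sum_congr rfl (fun k hk => hc k (Finset.ne_of_mem_erase hk)), Finset.sum_const,
    Finset.card_erase_of_mem (Finset.mem_univ _), Finset.card_univ, ZMod.card, nsmul_eq_mul]
  have hp : 1 ≤ p := Nat.one_le_iff_ne_zero.mpr (NeZero.ne p)
  rw [Nat.cast_sub hp, Nat.cast_one]

theorem cyclic_core (p : ℕ) [hp : Fact p.Prime] (n : ℕ) (hn : n + 1 < p)
    (σ : Representation ℂ (Multiplicative (ZMod p)) (Fin n → ℂ)) (c : ℂ)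
    (hc : ∀ k : ZMod p, k ≠ 0 → σ.character (Multiplicative.ofAdd k) = c) : c = n := by
  classical
  haveI : NeZero p := ⟨hp.out.ne_zero⟩
  have hχ : Cfsg.IsCharacter (Multiplicative (ZMod p)) σ.character :=
    Cfsg.Agent.Lib.L0.isCharacter_of_rep σ
  have hone : σ.character (Multiplicative.ofAdd (0 : ZMod p)) = n := by
    have : (Multiplicative.ofAdd (0 : ZMod p)) = 1 := rfl
    rw [this, Representation.char_one]
    simp
  have hcard : (Nat.card (Multiplicative (ZMod p)) : ℂ) = p := by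
    rw [Nat.card_congr (Multiplicative.toAdd (α := ZMod p)), Nat.card_zmod]
  have hp0 : (p : ℂ) ≠ 0 := by exact_mod_cast hp.out.ne_zero
  -- trivial character
  obtain ⟨a₀, ha₀⟩ := Cfsg.Agent.Lib.L0.classInner_char_irr_nat hχ
    (Cfsg.Agent.Lib.L0.isIrrCharacter_one (G := Multiplicative (ZMod p)))
  have h1 : (p : ℂ)⁻¹ * ((n : ℂ) + ((p : ℂ) - 1) * c) = a₀ := by
    rw [← ha₀]
    unfold Cfsg.classInner
    rw [hcard]
    congr 1
    have : ∑ g : Multiplicative (ZMod p), σ.character g * conj ((1 : Multiplicative (ZMod p) → ℂ) g)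
        = ∑ k : ZMod p, σ.character (Multiplicative.ofAdd k) := by
      simp only [Pi.one_apply, map_one, mul_one]
      exact Fintype.sum_equiv (Multiplicative.toAdd (α := ZMod p)) _ _ (fun g => rfl)
    rw [this, sum_zmod_split p _ c hc, hone]
  -- a faithful linear character
  let ψ : AddChar (ZMod p) ℂ := ZMod.stdAddChar (N := p)
  have hψ1 : ψ ≠ 1 := by
    intro h
    have hinj := ZMod.injective_stdAddChar (N := p)
    have h01 : ψ (1 : ZMod p) = ψ 0 := by rw [h]; simp
    have h10 : (1 : ZMod p) = 0 := hinj h01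
    haveI hf : Fact (1 < p) := ⟨hp.out.one_lt⟩
    exact one_ne_zero h10
  have hsum : ∑ k : ZMod p, ψ k = 0 := AddChar.sum_eq_zero_of_ne_one hψ1
  let ν : Multiplicative (ZMod p) →* ℂˣ := ψ.toMonoidHom.toHomUnits
  have hν : ∀ k : ZMod p, ((ν (Multiplicative.ofAdd k) : ℂˣ) : ℂ) = ψ k := fun k => rfl
  obtain ⟨m, hm⟩ := Cfsg.Agent.Lib.L0.classInner_char_irr_nat hχ
    (Cfsg.Agent.Lib.L0.isIrrCharacter_of_hom ν)
  have h2 : (p : ℂ)⁻¹ * ((n : ℂ) - c) = m := by
    rw [← hm]
    unfold Cfsg.classInner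
    rw [hcard]
    congr 1
    have e1 : ∑ g : Multiplicative (ZMod p), σ.character g * conj ((ν g : ℂˣ) : ℂ)
        = ∑ k : ZMod p, σ.character (Multiplicative.ofAdd k) * conj (ψ k) :=
      Fintype.sum_equiv (Multiplicative.toAdd (α := ZMod p)) _ _ (fun g => rfl)
    rw [e1]
    have e2 : ∑ k : ZMod p, σ.character (Multiplicative.ofAdd k) * conj (ψ k)
        = ∑ k : ZMod p, (c * conj (ψ k) + if k = 0 then (n : ℂ) - c else 0) := by
      apply Finset.sum_congr rfl
      intro k _
      by_cases hk : k = 0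
      · subst hk
        rw [hone]
        simp
      · rw [hc k hk]
        simp [hk]
    rw [e2, Finset.sum_add_distrib, ← Finset.mul_sum, ← map_sum, hsum]
    simp
  -- arithmetic
  have h3 : (n : ℂ) - c = p * m := by
    rw [← h2]; field_simp
  have h4 : (n : ℂ) + ((p : ℂ) - 1) * c = p * a₀ := by
    rw [← h1]; field_simp
  have hcm : c = n - p * m := by linear_combination -h3
  obtain ⟨r, hr⟩ : ∃ r : ℕ, p = r + 1 := ⟨p - 1, by have := hp.out.one_lt; omega⟩
  have h5 : (n : ℂ) = a₀ + (r : ℂ) * m := by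
    have hpr : (p : ℂ) = r + 1 := by rw [hr]; push_cast; ring
    have : (p : ℂ) * ((n : ℂ) - (a₀ + (r : ℂ) * m)) = 0 := by
      rw [hcm] at h4
      rw [hpr] at h4 ⊢
      linear_combination h4
    rcases mul_eq_zero.mp this with h | h
    · exact absurd h hp0
    · linear_combination h
  have h6 : n = a₀ + r * m := by exact_mod_cast h5
  rcases Nat.eq_zero_or_pos m with hm0 | hmpos
  · rw [hcm, hm0]; simp
  · exfalso
    have : r ≤ r * m := Nat.le_mul_of_pos_right r hmpos
    omega

end Cfsg.Agent.Lib.H2.Jor
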