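import Mathlib
import Cfsg.Agent.Lib.H2.Jor1
import Cfsg.Agent.Lib.H8.GaloisConj
import Cfsg.Agent.Lib.L0.CharBasic
import Cfsg.Agent.Lib.L0.CharInner

/-!
# Jordan/Blichfeldt, part 2: the Galois-conjugate identity (helper2)
-/

set_option autoImplicit false

namespace Cfsg.Agent.Lib.H2.Jor

open scoped ComplexConjugate

section Rep

variable {G : Type*} [Group G] {n : ℕ} (ρ : Representation ℂ G (Fin n → ℂ))

theorem rep_pow_of_modEq {m e : ℕ} (g : G) (hg : ρ (g ^ m) = 1) (he : e ≡ 1 [MOD m]) :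
    ρ (g ^ e) = ρ g := by
  have h1 : ρ g ^ m = 1 := by rw [← map_pow]; exact hg
  rw [map_pow, pow_eq_pow_mod e h1, he, ← pow_eq_pow_mod 1 h1, pow_one]

theorem galois_identity {mp mq e f : ℕ}
    (H : ∀ g : G, ρ (g ^ mp) = 1 ∨ ρ (g ^ mq) = 1)
    (he : e ≡ 1 [MOD mp]) (hf : f ≡ 1 [MOD mq]) (g : G) :
    ρ.character (g ^ (e * f)) + ρ.character g = ρ.character (g ^ f) + ρ.character (g ^ e) := by
  unfold Representation.character
  rcases H g with h | h
  · have h1 : ρ (g ^ e) = ρ g := rep_pow_of_modEq ρ g h he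
    have h2 : ρ ((g ^ f) ^ mp) = 1 := by
      rw [← pow_mul, mul_comm, pow_mul, map_pow, h, one_pow]
    have h3 : ρ ((g ^ f) ^ e) = ρ (g ^ f) := rep_pow_of_modEq ρ (g ^ f) h2 he
    rw [mul_comm e f, pow_mul, h3, h1]
  · have h1 : ρ (g ^ f) = ρ g := rep_pow_of_modEq ρ g h hf
    have h2 : ρ ((g ^ e) ^ mq) = 1 := by
      rw [← pow_mul, mul_comm, pow_mul, map_pow, h, one_pow]
    have h3 : ρ ((g ^ e) ^ f) = ρ (g ^ e) := rep_pow_of_modEq ρ (g ^ e) h2 hf
    rw [pow_mul, h3, h1, add_comm]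

end Rep

section Irr

variable {G : Type*} [Group G] [Finite G]

/-- If `χ^(ef) + χ = χ^(f) + χ^(e)` for an irreducible `χ` then `χ = χ^(e)` or `χ = χ^(f)`. -/
theorem galois_dichotomy {χ : G → ℂ} (hχ : Cfsg.IsIrrCharacter G χ) {e f : ℕ}
    (he : e.Coprime (Nat.card G)) (hf : f.Coprime (Nat.card G))
    (hid : ∀ g : G, χ (g ^ (e * f)) + χ g = χ (g ^ f) + χ (g ^ e)) :
    (∀ g : G, χ (g ^ e) = χ g) ∨ (∀ g : G, χ (g ^ f) = χ g) := by
  classical
  haveI : Fintype G := Fintype.ofFinite G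
  by_contra hcon
  rw [not_or] at hcon
  obtain ⟨h1, h2⟩ := hcon
  have hχe := Cfsg.Agent.Lib.H8.isIrrCharacter_galoisConj hχ e he
  have hχf := Cfsg.Agent.Lib.H8.isIrrCharacter_galoisConj hχ f hf
  have hχef := Cfsg.Agent.Lib.H8.isIrrCharacter_galoisConj hχ (e * f) (Nat.Coprime.mul_left he hf)
  have hne : (fun g => χ (g ^ e)) ≠ χ := fun h => h1 (fun g => congrFun h g)
  have hnf : (fun g => χ (g ^ f)) ≠ χ := fun h => h2 (fun g => congrFun h g)
  have e1 := Cfsg.Agent.Lib.L0.irr_classInner_ne hχe hχ hne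
  have e2 := Cfsg.Agent.Lib.L0.irr_classInner_ne hχf hχ hnf
  have e3 := Cfsg.Agent.Lib.L0.irr_classInner_self hχ
  have e4 := Cfsg.Agent.Lib.L0.irr_classInner_eq hχef hχ
  have hfun : (fun g => χ (g ^ (e * f))) + χ = (fun g => χ (g ^ f)) + (fun g => χ (g ^ e)) := by
    funext g
    exact hid g
  have h5 := congrArg (fun φ => Cfsg.classInner φ χ) hfun
  simp only [Cfsg.Agent.Lib.L0.classInner_add_left] at h5
  rw [e1, e2, e3, e4] at h5
  split_ifs at h5 with h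
  · norm_num at h5
  · norm_num at h5

end Irr

end Cfsg.Agent.Lib.H2.Jor
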