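import Mathlib
import Cfsg.Agent.Lib.H2.Jor2

/-!
# Jordan/Blichfeldt, part 3: `p`-rational characters of small degree kill `p`-elements (helper2)
-/

set_option autoImplicit false

namespace Cfsg.Agent.Lib.H2.Jor

open scoped ComplexConjugate

theorem exists_crt_exp {N p : ℕ} (hp : p.Prime) (hN : N ≠ 0) (k : ℕ) (hk : ¬ p ∣ k) :
    ∃ e : ℕ, e ≡ k [MOD ordProj[p] N] ∧ e ≡ 1 [MOD ordCompl[p] N] ∧ e.Coprime N := by
  have hco : Nat.Coprime (ordProj[p] N) (ordCompl[p] N) :=
    (Nat.coprime_ordCompl hp hN).pow_left _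
  obtain ⟨e, he1, he2⟩ := Nat.chineseRemainder hco k 1
  refine ⟨e, he1, he2, ?_⟩
  rw [← Nat.ordProj_mul_ordCompl_eq_self N p]
  apply Nat.Coprime.mul_right
  · have h1 : Nat.gcd e (ordProj[p] N) = Nat.gcd k (ordProj[p] N) := he1.gcd_eq
    have h2 : Nat.Coprime k (ordProj[p] N) := by
      apply Nat.Coprime.pow_right
      exact ((Nat.Prime.coprime_iff_not_dvd hp).2 hk).symm
    unfold Nat.Coprime
    rw [h1]
    exact h2
  · have h1 : Nat.gcd e (ordCompl[p] N) = Nat.gcd 1 (ordCompl[p] N) := he2.gcd_eq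
    unfold Nat.Coprime
    rw [h1]
    exact Nat.gcd_one_left _

/-- The representation of `ℤ/p` attached to an endomorphism of order dividing `p`. -/
noncomputable def zmodRep {V : Type*} [AddCommGroup V] [Module ℂ V] (p : ℕ) [NeZero p]
    (T : Module.End ℂ V) (hT : T ^ p = 1) : Representation ℂ (Multiplicative (ZMod p)) V where
  toFun k := T ^ (Multiplicative.toAdd k).val
  map_one' := by simp
  map_mul' a b := by
    rw [toAdd_mul, ZMod.val_add, ← pow_add, ← pow_eq_pow_mod _ hT]

theorem zmodRep_apply {V : Type*} [AddCommGroup V] [Module ℂ V] (p : ℕ) [NeZero p]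
    (T : Module.End ℂ V) (hT : T ^ p = 1) (k : ZMod p) :
    zmodRep p T hT (Multiplicative.ofAdd k) = T ^ k.val := rfl

section Rat

variable {G : Type*} [Group G] [Finite G] {n : ℕ} (ρ : Representation ℂ G (Fin n → ℂ))

theorem rep_eq_one_of_rational_aux {p : ℕ} (hp : p.Prime) (hn : n + 1 < p)
    (hrat : ∀ e : ℕ, e ≡ 1 [MOD ordCompl[p] (Nat.card G)] → e.Coprime (Nat.card G) →
      ∀ g : G, ρ.character (g ^ e) = ρ.character g)
    (x : G) (hx : x ^ (ordProj[p] (Nat.card G)) = 1) (hxp : ρ (x ^ p) = 1) : ρ x = 1 := by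
  haveI : Fact p.Prime := ⟨hp⟩
  haveI : NeZero p := ⟨hp.ne_zero⟩
  have hT : ρ x ^ p = 1 := by rw [← map_pow]; exact hxp
  have hN : Nat.card G ≠ 0 := Nat.card_pos.ne'
  have key : ∀ k : ZMod p, k ≠ 0 →
      (zmodRep p (ρ x) hT).character (Multiplicative.ofAdd k) = ρ.character x := by
    intro k hk
    unfold Representation.character
    rw [zmodRep_apply, ← map_pow]
    have hkv : ¬ p ∣ k.val := by
      intro hdvd
      have h0 : k.val = 0 := Nat.eq_zero_of_dvd_of_lt hdvd (ZMod.val_lt k)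
      exact hk ((ZMod.val_eq_zero k).1 h0)
    obtain ⟨e, he1, he2, he3⟩ := exists_crt_exp hp hN k.val hkv
    have h1 : x ^ e = x ^ k.val := by
      rw [pow_eq_pow_mod e hx, he1, ← pow_eq_pow_mod k.val hx]
    have h2 := hrat e he2 he3 x
    unfold Representation.character at h2
    rw [← h1]
    exact h2
  have hc := cyclic_core p n hn (zmodRep p (ρ x) hT) (ρ.character x) key
  rw [← Cfsg.Agent.Lib.L0.char_eq_char_one_iff, Representation.char_one, hc]
  simp

theorem rep_pow_eq_one_of_rational {p : ℕ} (hp : p.Prime) (hn : n + 1 < p)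
    (hrat : ∀ e : ℕ, e ≡ 1 [MOD ordCompl[p] (Nat.card G)] → e.Coprime (Nat.card G) →
      ∀ g : G, ρ.character (g ^ e) = ρ.character g)
    (g : G) : ρ (g ^ (ordCompl[p] (Nat.card G))) = 1 := by
  set N := Nat.card G with hNdef
  set a := N.factorization p with ha
  set y := g ^ (ordCompl[p] N) with hy
  have hya : y ^ (p ^ a) = 1 := by
    rw [hy, ← pow_mul, mul_comm, Nat.ordProj_mul_ordCompl_eq_self N p]
    exact pow_card_eq_one'
  have main : ∀ i : ℕ, i ≤ a → ρ (y ^ (p ^ (a - i))) = 1 := by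
    intro i
    induction i with
    | zero =>
      intro _
      rw [Nat.sub_zero, hya, map_one]
    | succ i ih =>
      intro hi
      have hi' : i ≤ a := by omega
      have h1 := ih hi'
      apply rep_eq_one_of_rational_aux ρ hp hn hrat
      · rw [← pow_mul, mul_comm, pow_mul, hya, one_pow]
      · rw [← pow_mul, ← pow_succ]
        have : a - (i + 1) + 1 = a - i := by omega
        rw [this]
        exact h1
  have := main a le_rfl
  rwa [Nat.sub_self, pow_zero, pow_one] at this

end Rat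

end Cfsg.Agent.Lib.H2.Jor
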