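import Mathlib
import Cfsg.Agent.Lib.H2.Jor3

/-!
# Jordan/Blichfeldt, part 4: the kernel dichotomy and the determinant twist (helper2)
-/

set_option autoImplicit false

namespace Cfsg.Agent.Lib.H2.Jor

open scoped ComplexConjugate

section Dich

variable {G : Type*} [Group G] [Finite G] {n : ℕ} (ρ : Representation ℂ G (Fin n → ℂ))

theorem rational_dichotomy (hirr : Cfsg.IsIrrCharacter G ρ.character) {mp mq : ℕ}
    (H : ∀ g : G, ρ (g ^ mp) = 1 ∨ ρ (g ^ mq) = 1) :
    (∀ e : ℕ, e ≡ 1 [MOD mp] → e.Coprime (Nat.card G) →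
      ∀ g : G, ρ.character (g ^ e) = ρ.character g) ∨
    (∀ f : ℕ, f ≡ 1 [MOD mq] → f.Coprime (Nat.card G) →
      ∀ g : G, ρ.character (g ^ f) = ρ.character g) := by
  by_contra hcon
  rw [not_or] at hcon
  obtain ⟨h1, h2⟩ := hcon
  push Not at h1 h2
  obtain ⟨e, he1, he2, g1, hg1⟩ := h1
  obtain ⟨f, hf1, hf2, g2, hg2⟩ := h2
  rcases galois_dichotomy hirr he2 hf2 (galois_identity ρ H he1 hf1) with h | h
  · exact hg1 (h g1)
  · exact hg2 (h g2)

theorem kernel_dichotomy (hirr : Cfsg.IsIrrCharacter G ρ.character) {p q : ℕ}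
    (hp : p.Prime) (hq : q.Prime) (hnp : n + 1 < p) (hnq : n + 1 < q)
    (H : ∀ g : G, ρ (g ^ (ordCompl[p] (Nat.card G))) = 1 ∨ ρ (g ^ (ordCompl[q] (Nat.card G))) = 1) :
    (∀ g : G, ρ (g ^ (ordCompl[p] (Nat.card G))) = 1) ∨
    (∀ g : G, ρ (g ^ (ordCompl[q] (Nat.card G))) = 1) := by
  rcases rational_dichotomy ρ hirr H with h | h
  · exact Or.inl (rep_pow_eq_one_of_rational ρ hp hnp h)
  · exact Or.inr (rep_pow_eq_one_of_rational ρ hq hnq h)

end Dich

section Twist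

variable {G : Type*} [Group G] {V : Type*} [AddCommGroup V] [Module ℂ V]

/-- Twist of a representation by a linear character. -/
noncomputable def twistRep (ρ : Representation ℂ G V) (μ : G →* ℂˣ) : Representation ℂ G V where
  toFun g := ((μ g : ℂˣ) : ℂ) • ρ g
  map_one' := by simp
  map_mul' a b := by
    rw [map_mul, map_mul, Units.val_mul, smul_mul_smul_comm]

theorem twistRep_apply (ρ : Representation ℂ G V) (μ : G →* ℂˣ) (g : G) :
    twistRep ρ μ g = ((μ g : ℂˣ) : ℂ) • ρ g := rfl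

theorem twistRep_character [FiniteDimensional ℂ V] (ρ : Representation ℂ G V) (μ : G →* ℂˣ)
    (g : G) : (twistRep ρ μ).character g = ((μ g : ℂˣ) : ℂ) * ρ.character g := by
  unfold Representation.character
  rw [twistRep_apply, map_smul, smul_eq_mul]

theorem norm_hom_units [Finite G] (μ : G →* ℂˣ) (g : G) : ‖((μ g : ℂˣ) : ℂ)‖ = 1 := by
  have h : ((μ g : ℂˣ) : ℂ) ^ (Nat.card G) = 1 := by
    rw [← Units.val_pow_eq_pow_val, ← map_pow, pow_card_eq_one', map_one, Units.val_one]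
  exact Complex.norm_eq_one_of_pow_eq_one h Nat.card_pos.ne'

theorem isIrrCharacter_twist [Finite G] {n : ℕ} (ρ : Representation ℂ G (Fin n → ℂ))
    (hirr : Cfsg.IsIrrCharacter G ρ.character) (μ : G →* ℂˣ) :
    Cfsg.IsIrrCharacter G (twistRep ρ μ).character := by
  haveI : Fintype G := Fintype.ofFinite G
  apply Cfsg.Agent.Lib.L0.isIrrCharacter_of_classInner_self_eq_one
    (Cfsg.Agent.Lib.L0.isCharacter_of_rep _)
  rw [← Cfsg.Agent.Lib.L0.irr_classInner_self hirr]
  unfold Cfsg.classInner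
  congr 1
  apply Finset.sum_congr rfl
  intro g _
  rw [twistRep_character, map_mul]
  have h1 : ((μ g : ℂˣ) : ℂ) * conj ((μ g : ℂˣ) : ℂ) = 1 := by
    rw [Complex.mul_conj, Complex.normSq_eq_norm_sq, norm_hom_units]
    simp
  calc ((μ g : ℂˣ) : ℂ) * ρ.character g * (conj ((μ g : ℂˣ) : ℂ) * conj (ρ.character g))
      = (((μ g : ℂˣ) : ℂ) * conj ((μ g : ℂˣ) : ℂ)) * (ρ.character g * conj (ρ.character g)) := by
        ring
    _ = ρ.character g * conj (ρ.character g) := by rw [h1, one_mul]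

/-- The determinant character. -/
noncomputable def detChar {n : ℕ} (ρ : Representation ℂ G (Fin n → ℂ)) : G →* ℂˣ :=
  ((LinearMap.det : (Module.End ℂ (Fin n → ℂ)) →* ℂ).comp ρ).toHomUnits

theorem detChar_apply_of_scalar {n : ℕ} (ρ : Representation ℂ G (Fin n → ℂ)) (z : G) (c : ℂ)
    (hz : ρ z = c • 1) : ((detChar ρ z : ℂˣ) : ℂ) = c ^ n := by
  unfold detChar
  rw [MonoidHom.coe_toHomUnits, MonoidHom.comp_apply, hz, LinearMap.det_smul,
    Module.finrank_fin_fun]
  simp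

end Twist

section Scalar

variable {G : Type*} [Group G] [Finite G] {n : ℕ} (ρ : Representation ℂ G (Fin n → ℂ))

theorem scalar_eq_one_of_smul_one_eq_one (hn0 : 0 < n) (c : ℂ)
    (h : c • (1 : Module.End ℂ (Fin n → ℂ)) = 1) : c = 1 := by
  have h1 := congrArg (fun T : Module.End ℂ (Fin n → ℂ) => T (Pi.single ⟨0, hn0⟩ 1) ⟨0, hn0⟩) h
  simpa using h1

theorem scalar_dichotomy (hirr : Cfsg.IsIrrCharacter G ρ.character) {p q : ℕ}
    (hp : p.Prime) (hq : q.Prime) (hnp : n + 1 < p) (hnq : n + 1 < q) (hn0 : 0 < n)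
    (H : ∀ g : G, (∃ c : ℂ, ρ (g ^ (ordCompl[p] (Nat.card G))) = c • 1) ∨
      (∃ c : ℂ, ρ (g ^ (ordCompl[q] (Nat.card G))) = c • 1)) :
    (∀ g : G, ∃ c : ℂ, ρ (g ^ (ordCompl[p] (Nat.card G))) = c • 1) ∨
    (∀ g : G, ∃ c : ℂ, ρ (g ^ (ordCompl[q] (Nat.card G))) = c • 1) := by
  set N := Nat.card G with hN
  set M := ordProj[p] N * ordProj[q] N with hM
  have hN0 : N ≠ 0 := Nat.card_pos.ne'
  have hM0 : 0 < M := by
    apply Nat.mul_pos
    · exact Nat.pos_of_ne_zero (pow_ne_zero _ hp.ne_zero)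
    · exact Nat.pos_of_ne_zero (pow_ne_zero _ hq.ne_zero)
  have hcop : Nat.Coprime n M := by
    apply Nat.Coprime.mul_right
    · apply Nat.Coprime.pow_right
      exact ((Nat.Prime.coprime_iff_not_dvd hp).2
        (Nat.not_dvd_of_pos_of_lt hn0 (by omega))).symm
    · apply Nat.Coprime.pow_right
      exact ((Nat.Prime.coprime_iff_not_dvd hq).2
        (Nat.not_dvd_of_pos_of_lt hn0 (by omega))).symm
  have htot : 0 < Nat.totient M := Nat.totient_pos.2 hM0
  set s := n ^ (Nat.totient M - 1) with hs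
  have hns : n * s ≡ 1 [MOD M] := by
    rw [hs, ← pow_succ', Nat.sub_add_cancel htot]
    exact Nat.ModEq.pow_totient hcop
  set μ : G →* ℂˣ := ((detChar ρ) ^ s)⁻¹ with hμ
  -- key: scalar `{p,q}`-elements lie in the kernel of the twist
  have key : ∀ z : G, z ^ M = 1 → (∃ c : ℂ, ρ z = c • 1) → twistRep ρ μ z = 1 := by
    intro z hzM ⟨c, hc⟩
    have hcM : c ^ M = 1 := by
      apply scalar_eq_one_of_smul_one_eq_one hn0
      have : (c • (1 : Module.End ℂ (Fin n → ℂ))) ^ M = 1 := by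
        rw [← hc, ← map_pow, hzM, map_one]
      rwa [smul_pow, one_pow] at this
    have hc0 : c ≠ 0 := by
      intro h0
      rw [h0, zero_pow hM0.ne'] at hcM
      exact zero_ne_one hcM
    have hcns : c ^ (n * s) = c := by
      rw [pow_eq_pow_mod (n * s) hcM, hns, ← pow_eq_pow_mod 1 hcM, pow_one]
    have hμz : ((μ z : ℂˣ) : ℂ) = c⁻¹ := by
      rw [hμ, MonoidHom.inv_apply, MonoidHom.pow_apply, Units.val_inv_eq_inv_val,
        Units.val_pow_eq_pow_val, detChar_apply_of_scalar ρ z c hc, ← pow_mul, hcns]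
    rw [twistRep_apply, hμz, hc, smul_smul, inv_mul_cancel₀ hc0, one_smul]
  have hpM : ∀ g : G, (g ^ (ordCompl[p] N)) ^ M = 1 := by
    intro g
    rw [hM, pow_mul, ← pow_mul g, mul_comm (ordCompl[p] N), Nat.ordProj_mul_ordCompl_eq_self N p,
      hN, pow_card_eq_one', one_pow]
  have hqM : ∀ g : G, (g ^ (ordCompl[q] N)) ^ M = 1 := by
    intro g
    rw [hM, mul_comm (ordProj[p] N), pow_mul, ← pow_mul g, mul_comm (ordCompl[q] N),
      Nat.ordProj_mul_ordCompl_eq_self N q, hN, pow_card_eq_one', one_pow]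
  have H' : ∀ g : G, twistRep ρ μ (g ^ (ordCompl[p] (Nat.card G))) = 1 ∨
      twistRep ρ μ (g ^ (ordCompl[q] (Nat.card G))) = 1 := by
    intro g
    rcases H g with h | h
    · exact Or.inl (key _ (hpM g) h)
    · exact Or.inr (key _ (hqM g) h)
  have back : ∀ x : G, twistRep ρ μ x = 1 → ∃ c : ℂ, ρ x = c • 1 := by
    intro x hx
    refine ⟨((μ x : ℂˣ) : ℂ)⁻¹, ?_⟩
    rw [twistRep_apply] at hx
    rw [← hx, smul_smul, inv_mul_cancel₀ (Units.ne_zero _), one_smul]
  rcases kernel_dichotomy (twistRep ρ μ) (isIrrCharacter_twist ρ hirr μ) hp hq hnp hnq H' with h | h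
  · exact Or.inl (fun g => back _ (h g))
  · exact Or.inr (fun g => back _ (h g))

end Scalar

end Cfsg.Agent.Lib.H2.Jor
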