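import Mathlib
import Cfsg.Agent.Lib.H2.Jor4
import Cfsg.Agent.Lib.H23.CentralChar
import Cfsg.Agent.Lib.H23.DegreeDvd
import Cfsg.Agent.Lib.L0.CharDegree
import Cfsg.Agent.Lib.L0.CharLinear

/-!
# Jordan/Blichfeldt, part 5: commuting non-central elements; abelian `p`-subgroups (helper2)
-/

set_option autoImplicit false

namespace Cfsg.Agent.Lib.H2.Jor

open scoped ComplexConjugate

section Basic

variable {G : Type*} [Group G]

theorem list_sum_apply_eq {l : List (G → ℂ)} {g h : G} (H : ∀ θ ∈ l, θ g = θ h) :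
    l.sum g = l.sum h := by
  induction l with
  | nil => simp
  | cons a l ih =>
    rw [List.sum_cons, Pi.add_apply, Pi.add_apply, H a (by simp),
      ih (fun θ hθ => H θ (by simp [hθ]))]

theorem central_scalar {m : ℕ} (σ : Representation ℂ G (Fin m → ℂ)) (hσ : σ.IsIrreducible)
    (z : G) (hz : z ∈ Subgroup.center G) : ∃ c : ℂ, σ z = c • 1 := by
  haveI := hσ
  obtain ⟨c, hc⟩ := Cfsg.Agent.Lib.H23.exists_scalar_of_commute σ (σ z) (fun g => by
    have h1 : z * g = g * z := (Subgroup.mem_center_iff.mp hz g).symm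
    change σ z * σ g = σ g * σ z
    rw [← map_mul, ← map_mul, h1])
  exact ⟨c, hc⟩

theorem exists_pow_inverse {p N : ℕ} (hp : p.Prime) (hN : N ≠ 0) :
    ∃ t : ℕ, (ordCompl[p] N) * t ≡ 1 [MOD ordProj[p] N] := by
  have hco : Nat.Coprime (ordCompl[p] N) (ordProj[p] N) :=
    ((Nat.coprime_ordCompl hp hN).pow_left _).symm
  have hpos : 0 < ordProj[p] N := Nat.pos_of_ne_zero (pow_ne_zero _ hp.ne_zero)
  have htot : 0 < Nat.totient (ordProj[p] N) := Nat.totient_pos.2 hpos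
  refine ⟨(ordCompl[p] N) ^ (Nat.totient (ordProj[p] N) - 1), ?_⟩
  rw [← pow_succ', Nat.sub_add_cancel htot]
  exact Nat.ModEq.pow_totient hco

/-- A `p`-element is a power of its `ordCompl`-th power. -/
theorem exists_eq_pow_pow {p N : ℕ} (hp : p.Prime) (hN : N ≠ 0) (x : G)
    (hx : x ^ (ordProj[p] N) = 1) : ∃ t : ℕ, x = (x ^ (ordCompl[p] N)) ^ t := by
  obtain ⟨t, ht⟩ := exists_pow_inverse (p := p) hp hN
  refine ⟨t, ?_⟩
  rw [← pow_mul, pow_eq_pow_mod _ hx, ht, ← pow_eq_pow_mod 1 hx, pow_one]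

end Basic

section K

variable {G : Type*} [Group G] [Finite G]

theorem comm_of_scalar {m : ℕ} (σ : Representation ℂ G (Fin m → ℂ)) (x y : G)
    (hx : ∃ c : ℂ, σ x = c • 1) : σ (x * y * (y * x)⁻¹) = 1 := by
  obtain ⟨c, hc⟩ := hx
  have h1 : σ (x * y) = σ (y * x) := by
    rw [map_mul, map_mul, hc]
    simp
  rw [map_mul, h1, ← map_mul, mul_inv_cancel, map_one]

theorem comm_of_scalar' {m : ℕ} (σ : Representation ℂ G (Fin m → ℂ)) (x y : G)
    (hy : ∃ c : ℂ, σ y = c • 1) : σ (x * y * (y * x)⁻¹) = 1 := by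
  obtain ⟨c, hc⟩ := hy
  have h1 : σ (x * y) = σ (y * x) := by
    rw [map_mul, map_mul, hc]
    simp
  rw [map_mul, h1, ← map_mul, mul_inv_cancel, map_one]

/-- Lemma (K): commuting non-central `p`- and `q`-elements. -/
theorem exists_commuting_noncentral {χ : G → ℂ} (hχ : Cfsg.IsCharacter G χ)
    (hfaith : ∀ g : G, χ g = χ 1 → g = 1) {n : ℕ} (hdeg : χ 1 = n) {p q : ℕ}
    (hp : p.Prime) (hq : q.Prime) (hnp : n + 1 < p) (hnq : n + 1 < q)
    (x₀ y₀ : G) (hx₀ : x₀ ^ (ordProj[p] (Nat.card G)) = 1)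
    (hy₀ : y₀ ^ (ordProj[q] (Nat.card G)) = 1)
    (hxc : x₀ ∉ Subgroup.center G) (hyc : y₀ ∉ Subgroup.center G) :
    ∃ x y : G, x ^ (ordProj[p] (Nat.card G)) = 1 ∧ y ^ (ordProj[q] (Nat.card G)) = 1 ∧
      x * y = y * x ∧ x ∉ Subgroup.center G ∧ y ∉ Subgroup.center G := by
  set N := Nat.card G with hN
  have hN0 : N ≠ 0 := Nat.card_pos.ne'
  by_cases hcase : ∃ g : G, g ^ (ordCompl[p] N) ∉ Subgroup.center G ∧
      g ^ (ordCompl[q] N) ∉ Subgroup.center G
  · obtain ⟨g, hg1, hg2⟩ := hcase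
    refine ⟨g ^ (ordCompl[p] N), g ^ (ordCompl[q] N), ?_, ?_, ?_, hg1, hg2⟩
    · rw [← pow_mul, mul_comm, Nat.ordProj_mul_ordCompl_eq_self N p, hN, pow_card_eq_one']
    · rw [← pow_mul, mul_comm, Nat.ordProj_mul_ordCompl_eq_self N q, hN, pow_card_eq_one']
    · rw [← pow_add, ← pow_add, add_comm]
  · push Not at hcase
    refine ⟨x₀, y₀, hx₀, hy₀, ?_, hxc, hyc⟩
    obtain ⟨l, hl, hsum⟩ := Cfsg.Agent.Lib.L0.isCharacter_exists_irr_decomp hχ
    have hkey : ∀ θ ∈ l, θ (x₀ * y₀ * (y₀ * x₀)⁻¹) = θ 1 := by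
      intro θ hθ
      obtain ⟨a, b, ha, hb, hab⟩ := Cfsg.Agent.Lib.L0.isCharacter_list_sum_apply_one
        (fun φ hφ => Cfsg.Agent.Lib.L0.isCharacter_of_irr (hl φ hφ)) θ hθ
      have hbn : b = n := by
        rw [← hsum, hdeg] at hb
        exact_mod_cast hb.symm
      obtain ⟨d, σ, hσ, hσθ⟩ := hl θ hθ
      have hda : d = a := by
        rw [← hσθ, Representation.char_one, Module.finrank_fin_fun] at ha
        exact_mod_cast ha
      have hd0 : 0 < d := by
        haveI := hσ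
        have := Cfsg.Agent.Lib.H23.finrank_pos_of_isIrreducible σ
        rwa [Module.finrank_fin_fun] at this
      have H : ∀ g : G, (∃ c : ℂ, σ (g ^ (ordCompl[p] (Nat.card G))) = c • 1) ∨
          (∃ c : ℂ, σ (g ^ (ordCompl[q] (Nat.card G))) = c • 1) := by
        intro g
        by_cases hg : g ^ (ordCompl[p] N) ∈ Subgroup.center G
        · exact Or.inl (central_scalar σ hσ _ hg)
        · exact Or.inr (central_scalar σ hσ _ (hcase g hg))
      have hone : σ (x₀ * y₀ * (y₀ * x₀)⁻¹) = 1 := by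
        rcases scalar_dichotomy σ ⟨d, σ, hσ, rfl⟩ hp hq (by omega) (by omega) hd0 H with h | h
        · apply comm_of_scalar
          obtain ⟨t, ht⟩ := exists_eq_pow_pow hp hN0 x₀ hx₀
          obtain ⟨c, hc⟩ := h x₀
          refine ⟨c ^ t, ?_⟩
          rw [ht, map_pow, hc, smul_pow, one_pow]
        · apply comm_of_scalar'
          obtain ⟨t, ht⟩ := exists_eq_pow_pow hq hN0 y₀ hy₀
          obtain ⟨c, hc⟩ := h y₀
          refine ⟨c ^ t, ?_⟩
          rw [ht, map_pow, hc, smul_pow, one_pow]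
      rw [← hσθ]
      unfold Representation.character
      rw [hone, map_one σ]
    have h1 : χ (x₀ * y₀ * (y₀ * x₀)⁻¹) = χ 1 := by
      rw [hsum]
      exact list_sum_apply_eq hkey
    have h2 := hfaith _ h1
    rw [mul_inv_eq_one] at h2
    exact h2

end K

section PGroup

variable {G : Type*} [Group G] [Finite G]

/-- Step 0: `p`-subgroups are abelian when `p` exceeds the degree of a faithful character. -/
theorem comm_of_isPGroup {χ : G → ℂ} (hχ : Cfsg.IsCharacter G χ)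
    (hfaith : ∀ g : G, χ g = χ 1 → g = 1) {n : ℕ} (hdeg : χ 1 = n) {p : ℕ}
    (hp : p.Prime) (hnp : n < p) (P : Subgroup G) (hP : IsPGroup p P) :
    ∀ x ∈ P, ∀ y ∈ P, x * y = y * x := by
  intro x hx y hy
  haveI : Fact p.Prime := ⟨hp⟩
  have hχP : Cfsg.IsCharacter P (fun h : P => χ h) :=
    Cfsg.Agent.Lib.L0.isCharacter_restrict P hχ
  obtain ⟨l, hl, hsum⟩ := Cfsg.Agent.Lib.L0.isCharacter_exists_irr_decomp hχP
  obtain ⟨k, hk⟩ := IsPGroup.iff_card.mp hP
  set x' : P := ⟨x, hx⟩ with hx'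
  set y' : P := ⟨y, hy⟩ with hy'
  have hkey : ∀ θ ∈ l, θ (x' * y' * (y' * x')⁻¹) = θ 1 := by
    intro θ hθ
    obtain ⟨a, b, ha, hb, hab⟩ := Cfsg.Agent.Lib.L0.isCharacter_list_sum_apply_one
      (fun φ hφ => Cfsg.Agent.Lib.L0.isCharacter_of_irr (hl φ hφ)) θ hθ
    have hbn : b = n := by
      rw [← hsum] at hb
      change χ ((1 : P) : G) = b at hb
      rw [Subgroup.coe_one, hdeg] at hb
      exact_mod_cast hb.symm
    obtain ⟨d, hd0, hd1, hd2⟩ := Cfsg.Agent.Lib.H23.irr_apply_one_dvd_card θ (hl θ hθ)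
    have hda : d = a := by
      rw [hd1] at ha
      exact_mod_cast ha
    rw [hk] at hd2
    obtain ⟨j, hj, hdj⟩ := (Nat.dvd_prime_pow hp).1 hd2
    have hj0 : j = 0 := by
      by_contra hne
      have : p ≤ d := by
        rw [hdj]
        calc p = p ^ 1 := (pow_one p).symm
          _ ≤ p ^ j := Nat.pow_le_pow_right hp.pos (Nat.one_le_iff_ne_zero.mpr hne)
      omega
    have hθ1 : θ 1 = 1 := by
      rw [hd1, hdj, hj0]
      simp
    have hθc := Cfsg.Agent.Lib.L0.isCharacter_of_irr (hl θ hθ)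
    have hmul := Cfsg.Agent.Lib.L0.linear_char_mul hθc hθ1
    rw [hmul, hmul x' y', mul_comm (θ x') (θ y'), ← hmul y' x', ← hmul, mul_inv_cancel]
  have h1 : χ ((x' * y' * (y' * x')⁻¹ : P) : G) = χ ((1 : P) : G) := by
    have := list_sum_apply_eq hkey
    rw [← hsum] at this
    exact this
  rw [Subgroup.coe_one] at h1
  have h2 := hfaith _ h1
  have h3 : x' * y' * (y' * x')⁻¹ = 1 := Subtype.ext h2
  rw [mul_inv_eq_one] at h3
  have := congrArg Subtype.val h3
  exact this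

end PGroup

end Cfsg.Agent.Lib.H2.Jor
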