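import Mathlib

/-!
# Jordan/Blichfeldt, part 6: Sylow bookkeeping (helper2)
-/

set_option autoImplicit false

namespace Cfsg.Agent.Lib.H2.Jor

open scoped Pointwise

section Syl

variable {G : Type*} [Group G] [Finite G]

/-- A subgroup of index prime to `p` contains a Sylow `p`-subgroup. -/
theorem exists_sylow_le_of_not_dvd_index {p : ℕ} [hp : Fact p.Prime] (A : Subgroup G)
    (h : ¬ p ∣ A.index) : ∃ P : Sylow p G, (P : Subgroup G) ≤ A := by
  obtain ⟨S⟩ : Nonempty (Sylow p A) := inferInstance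
  have hcard : Nat.card ((S : Subgroup A).map A.subtype) =
      p ^ (Nat.card G).factorization p := by
    rw [Subgroup.card_map_of_injective A.subtype_injective, S.card_eq_multiplicity,
      ← Subgroup.card_mul_index A, Nat.factorization_mul Nat.card_pos.ne'
        (Subgroup.index_ne_zero_of_finite), Finsupp.add_apply,
      Nat.factorization_eq_zero_of_not_dvd h, add_zero]
  refine ⟨Sylow.ofCard _ hcard, ?_⟩
  rw [Sylow.coe_ofCard]
  exact Subgroup.map_subtype_le _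

theorem isPGroup_zpowers {p : ℕ} [hp : Fact p.Prime] (y : G) (k : ℕ) (hy : y ^ (p ^ k) = 1) :
    IsPGroup p (Subgroup.zpowers y) := by
  have h1 : orderOf y ∣ p ^ k := orderOf_dvd_of_pow_eq_one hy
  obtain ⟨j, _, hj⟩ := (Nat.dvd_prime_pow hp.out).1 h1
  apply IsPGroup.of_card (n := j)
  rw [Nat.card_zpowers, hj]

/-- A `p`-element lies in a Sylow `p`-subgroup. -/
theorem exists_sylow_mem {p : ℕ} [hp : Fact p.Prime] (y : G) (k : ℕ) (hy : y ^ (p ^ k) = 1) :
    ∃ P : Sylow p G, y ∈ P := by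
  obtain ⟨Q, hQ⟩ := (isPGroup_zpowers y k hy).exists_le_sylow
  exact ⟨Q, hQ (Subgroup.mem_zpowers y)⟩

theorem conj_mem_smul_sylow {p : ℕ} (Q : Sylow p G) (c y : G) (hy : y ∈ Q) :
    c * y * c⁻¹ ∈ c • Q := by
  have h1 : MulAut.conj c • y ∈ MulAut.conj c • (Q : Subgroup G) :=
    Subgroup.smul_mem_pointwise_smul_iff.mpr hy
  have h2 : MulAut.conj c • y = c * y * c⁻¹ := by
    rw [MulAut.smul_def, MulAut.conj_apply]
  rw [h2] at h1
  exact h1

theorem mem_smul_sylow_iff {p : ℕ} (Q : Sylow p G) (c x : G) :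
    x ∈ c • Q ↔ c⁻¹ * x * c ∈ Q := by
  constructor
  · intro hx
    have h1 := conj_mem_smul_sylow (c • Q) c⁻¹ x hx
    rw [inv_smul_smul, inv_inv] at h1
    exact h1
  · intro hx
    have h1 := conj_mem_smul_sylow Q c _ hx
    have h2 : c * (c⁻¹ * x * c) * c⁻¹ = x := by group
    rw [h2] at h1
    exact h1

/-- A `p`-element is conjugate into any subgroup of index prime to `p`. -/
theorem exists_conj_mem_of_not_dvd_index {p : ℕ} [hp : Fact p.Prime] (A : Subgroup G)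
    (h : ¬ p ∣ A.index) (y : G) (k : ℕ) (hy : y ^ (p ^ k) = 1) :
    ∃ c : G, c * y * c⁻¹ ∈ A := by
  obtain ⟨Q, hQ⟩ := exists_sylow_mem y k hy
  obtain ⟨P, hP⟩ := exists_sylow_le_of_not_dvd_index A h
  obtain ⟨c, hc⟩ := MulAction.exists_smul_eq G Q P
  refine ⟨c, hP ?_⟩
  have := conj_mem_smul_sylow Q c y hQ
  rw [hc] at this
  exact this

/-- Relative version. -/
theorem exists_conj_mem_of_not_dvd_relIndex {p : ℕ} [hp : Fact p.Prime] (A C : Subgroup G)
    (h : ¬ p ∣ A.relIndex C) (y : G) (hyC : y ∈ C) (k : ℕ) (hy : y ^ (p ^ k) = 1) :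
    ∃ c ∈ C, c * y * c⁻¹ ∈ A := by
  have hy' : (⟨y, hyC⟩ : C) ^ (p ^ k) = 1 := by
    apply Subtype.ext
    rw [Subgroup.coe_pow, Subgroup.coe_one]
    exact hy
  obtain ⟨c, hc⟩ := exists_conj_mem_of_not_dvd_index (A.subgroupOf C) h ⟨y, hyC⟩ k hy'
  refine ⟨c, c.2, ?_⟩
  rw [Subgroup.mem_subgroupOf] at hc
  simpa using hc

/-- Elements of a Sylow subgroup are killed by the `p`-part of the group order. -/
theorem pow_ordProj_eq_one_of_mem_sylow {p : ℕ} [hp : Fact p.Prime] (P : Sylow p G) (y : G)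
    (hy : y ∈ P) : y ^ (ordProj[p] (Nat.card G)) = 1 := by
  rw [← P.card_eq_multiplicity]
  have h1 : (⟨y, hy⟩ : (P : Subgroup G)) ^ Nat.card (P : Subgroup G) = 1 := pow_card_eq_one'
  have h2 := congrArg Subtype.val h1
  rw [Subgroup.coe_pow, Subgroup.coe_one] at h2
  exact h2

/-- If `P` centralizes `Q` then `g • P` centralizes `g • Q`. -/
theorem smul_sylow_commute {p q : ℕ} (P : Sylow p G) (Q : Sylow q G)
    (h : ∀ a ∈ P, ∀ b ∈ Q, a * b = b * a) (g : G) :
    ∀ a ∈ g • P, ∀ b ∈ g • Q, a * b = b * a := by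
  intro a ha b hb
  rw [mem_smul_sylow_iff] at ha hb
  have := h _ ha _ hb
  have h1 : a * b = g * ((g⁻¹ * a * g) * (g⁻¹ * b * g)) * g⁻¹ := by group
  have h2 : b * a = g * ((g⁻¹ * b * g) * (g⁻¹ * a * g)) * g⁻¹ := by group
  rw [h1, h2, this]

end Syl

end Cfsg.Agent.Lib.H2.Jor
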