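import Mathlib
import Cfsg.Agent.Lib.H2.Jor5
import Cfsg.Agent.Lib.H2.Jor6

/-!
# Jordan/Blichfeldt, part 7: Blichfeldt's abelian Hall subgroup (helper2)

A finite group with a faithful character of degree `n` has an abelian Hall `π`-subgroup, where `π`
is the set of primes `> n + 1`.
-/

set_option autoImplicit false

universe u

namespace Cfsg.Agent.Lib.H2.Jor

open scoped Pointwise

/-- The conclusion of Theorem B for a group. -/
def HallStmt (n : ℕ) (G : Type u) [Group G] : Prop :=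
  ∃ A : Subgroup G, (∀ x ∈ A, ∀ y ∈ A, x * y = y * x) ∧
    (∀ q : ℕ, q.Prime → q ∣ Nat.card A → n + 1 < q) ∧
    (∀ q : ℕ, q.Prime → q ∣ A.index → q ≤ n + 1)

/-- The conclusion of Theorem B relative to a subgroup. -/
def HallIn (n : ℕ) {G : Type u} [Group G] (C : Subgroup G) : Prop :=
  ∃ A : Subgroup G, A ≤ C ∧ (∀ x ∈ A, ∀ y ∈ A, x * y = y * x) ∧
    (∀ q : ℕ, q.Prime → q ∣ Nat.card A → n + 1 < q) ∧
    (∀ q : ℕ, q.Prime → q ∣ A.relIndex C → q ≤ n + 1)

/-- Theorem B as a statement about a group. -/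
def TBstmt (n : ℕ) (G : Type u) [Group G] : Prop :=
  ∀ χ : G → ℂ, Cfsg.IsCharacter G χ → (∀ g : G, χ g = χ 1 → g = 1) → χ 1 = n → HallStmt n G

section Sub

variable {G : Type u} [Group G] [Finite G]

theorem hallIn_of_ih (n N : ℕ)
    (ih : ∀ m < N, ∀ (H : Type u) [Group H] [Finite H], Nat.card H = m → TBstmt n H)
    (hN : Nat.card G = N) {χ : G → ℂ} (hχ : Cfsg.IsCharacter G χ)
    (hfaith : ∀ g : G, χ g = χ 1 → g = 1) (hdeg : χ 1 = n) (C : Subgroup G) (hC : C ≠ ⊤) :
    HallIn n C := by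
  have hlt : Nat.card C < N := by
    rw [← hN]
    exact lt_of_le_of_ne (Subgroup.card_le_card_group C)
      (fun h => hC (Subgroup.eq_top_of_card_eq C h))
  have hχC : Cfsg.IsCharacter C (fun h : C => χ h) :=
    Cfsg.Agent.Lib.L0.isCharacter_restrict C hχ
  have hfC : ∀ g : C, (fun h : C => χ h) g = (fun h : C => χ h) 1 → g = 1 := by
    intro g hg
    apply Subtype.ext
    exact hfaith _ hg
  obtain ⟨A₀, hab, hπ, hidx⟩ := ih (Nat.card C) hlt C rfl _ hχC hfC hdeg
  refine ⟨A₀.map C.subtype, Subgroup.map_subtype_le _, ?_, ?_, ?_⟩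
  · intro x hx y hy
    obtain ⟨x', hx', rfl⟩ := Subgroup.mem_map.mp hx
    obtain ⟨y', hy', rfl⟩ := Subgroup.mem_map.mp hy
    have := hab x' hx' y' hy'
    have h2 := congrArg Subtype.val this
    simpa using h2
  · intro q hq hdvd
    rw [Subgroup.card_map_of_injective C.subtype_injective] at hdvd
    exact hπ q hq hdvd
  · intro q hq hdvd
    apply hidx q hq
    have : (A₀.map C.subtype).relIndex C = A₀.index := by
      unfold Subgroup.relIndex Subgroup.subgroupOf
      rw [Subgroup.comap_map_eq_self_of_injective C.subtype_injective]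
    rwa [this] at hdvd

/-- Index bookkeeping: a Hall-type subgroup of `C` has index prime to `r` in `G` if `C` contains
a Sylow `r`-subgroup. -/
theorem not_dvd_index_of_sylow_le {n : ℕ} {A C : Subgroup G} (hAC : A ≤ C)
    (hidx : ∀ q : ℕ, q.Prime → q ∣ A.relIndex C → q ≤ n + 1) {r : ℕ} [hr : Fact r.Prime]
    (hnr : n + 1 < r) (S : Sylow r G) (hS : (S : Subgroup G) ≤ C) : ¬ r ∣ A.index := by
  intro hdvd
  rw [← Subgroup.relIndex_mul_index hAC] at hdvd
  rcases (Nat.Prime.dvd_mul hr.out).1 hdvd with h | h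
  · have := hidx r hr.out h
    omega
  · exact S.not_dvd_index (dvd_trans h (Subgroup.index_dvd_of_le hS))

end Sub

section Dagger

variable {G : Type u} [Group G] [Finite G]

theorem sylow_le_centralizer_singleton {χ : G → ℂ} (hχ : Cfsg.IsCharacter G χ)
    (hfaith : ∀ g : G, χ g = χ 1 → g = 1) {n : ℕ} (hdeg : χ 1 = n) {p : ℕ} [hp : Fact p.Prime]
    (hnp : n < p) (P : Sylow p G) (x : G) (hx : x ∈ P) :
    (P : Subgroup G) ≤ Subgroup.centralizer {x} := by
  intro a ha
  rw [Subgroup.mem_centralizer_singleton_iff]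
  exact comm_of_isPGroup hχ hfaith hdeg hp.out hnp P P.2 a ha x hx

theorem centralizer_singleton_ne_top {x : G} (hx : x ∉ Subgroup.center G) :
    Subgroup.centralizer {x} ≠ ⊤ := by
  intro h
  rw [Subgroup.centralizer_eq_top_iff_subset] at h
  exact hx (h (Set.mem_singleton x))

/-- (†): commuting non-central `p`- and `q`-elements give commuting Sylow subgroups. -/
theorem exists_commuting_sylow {χ : G → ℂ} (hχ : Cfsg.IsCharacter G χ)
    (hfaith : ∀ g : G, χ g = χ 1 → g = 1) {n : ℕ} (hdeg : χ 1 = n)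
    (hsub : ∀ C : Subgroup G, C ≠ ⊤ → HallIn n C)
    {p q : ℕ} [hp : Fact p.Prime] [hq : Fact q.Prime] (hnp : n + 1 < p) (hnq : n + 1 < q)
    (x y : G) (hx : x ^ (ordProj[p] (Nat.card G)) = 1) (hy : y ^ (ordProj[q] (Nat.card G)) = 1)
    (hxy : x * y = y * x) (hxc : x ∉ Subgroup.center G) (hyc : y ∉ Subgroup.center G) :
    ∃ (P : Sylow p G) (Q : Sylow q G), ∀ a ∈ P, ∀ b ∈ Q, a * b = b * a := by
  -- first centralizer
  obtain ⟨A₁, hA₁C, hab₁, -, hidx₁⟩ := hsub _ (centralizer_singleton_ne_top hxc)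
  obtain ⟨P₁, hxP₁⟩ := exists_sylow_mem x _ hx
  have hP₁C := sylow_le_centralizer_singleton hχ hfaith hdeg (by omega) P₁ x hxP₁
  have hpA₁ : ¬ p ∣ A₁.index := not_dvd_index_of_sylow_le hA₁C hidx₁ hnp P₁ hP₁C
  obtain ⟨P₂, hP₂⟩ := exists_sylow_le_of_not_dvd_index A₁ hpA₁
  have hyC : y ∈ Subgroup.centralizer {x} := by
    rw [Subgroup.mem_centralizer_singleton_iff]
    exact hxy.symm
  have hqrel : ¬ q ∣ A₁.relIndex (Subgroup.centralizer {x}) := by
    intro h
    have := hidx₁ q hq.out h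
    omega
  obtain ⟨c, -, hc⟩ := exists_conj_mem_of_not_dvd_relIndex A₁ _ hqrel y hyC _ hy
  set y₁ := c * y * c⁻¹ with hy₁
  have hy₁c : y₁ ∉ Subgroup.center G := by
    intro h
    apply hyc
    have h2 : y = c⁻¹ * y₁ * c⁻¹⁻¹ := by rw [hy₁]; group
    rw [h2]
    exact (inferInstance : (Subgroup.center G).Normal).conj_mem _ h _
  have hy₁q : y₁ ^ (ordProj[q] (Nat.card G)) = 1 := by
    rw [hy₁, conj_pow, hy]
    group
  -- second centralizer
  obtain ⟨A₂, hA₂C, hab₂, -, hidx₂⟩ := hsub _ (centralizer_singleton_ne_top hy₁c)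
  have hP₂C : (P₂ : Subgroup G) ≤ Subgroup.centralizer {y₁} := by
    intro a ha
    rw [Subgroup.mem_centralizer_singleton_iff]
    exact hab₁ a (hP₂ ha) y₁ hc
  obtain ⟨Q₁, hyQ₁⟩ := exists_sylow_mem y₁ _ hy₁q
  have hQ₁C := sylow_le_centralizer_singleton hχ hfaith hdeg (by omega) Q₁ y₁ hyQ₁
  have hpA₂ : ¬ p ∣ A₂.index := not_dvd_index_of_sylow_le hA₂C hidx₂ hnp P₂ hP₂C
  have hqA₂ : ¬ q ∣ A₂.index := not_dvd_index_of_sylow_le hA₂C hidx₂ hnq Q₁ hQ₁C
  obtain ⟨P₃, hP₃⟩ := exists_sylow_le_of_not_dvd_index A₂ hpA₂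
  obtain ⟨Q₃, hQ₃⟩ := exists_sylow_le_of_not_dvd_index A₂ hqA₂
  exact ⟨P₃, Q₃, fun a ha b hb => hab₂ a (hP₃ ha) b (hQ₃ hb)⟩

end Dagger

section Central

variable {G : Type u} [Group G]

/-- Central elements killed by `M`. -/
def piCenter (G : Type u) [Group G] (M : ℕ) : Subgroup G where
  carrier := {z | z ∈ Subgroup.center G ∧ z ^ M = 1}
  one_mem' := ⟨one_mem _, one_pow _⟩
  mul_mem' := by
    rintro a b ⟨ha, ha'⟩ ⟨hb, hb'⟩
    refine ⟨mul_mem ha hb, ?_⟩
    have hc : Commute a b := (Subgroup.mem_center_iff.mp ha b).symm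
    rw [hc.mul_pow, ha', hb', one_mul]
  inv_mem' := by
    rintro a ⟨ha, ha'⟩
    exact ⟨inv_mem ha, by rw [inv_pow, ha', inv_one]⟩

theorem mem_piCenter {M : ℕ} {z : G} : z ∈ piCenter G M ↔ z ∈ Subgroup.center G ∧ z ^ M = 1 :=
  Iff.rfl

/-- The `π`-part of `N`, `π` the primes `> n + 1`. -/
def piPart (n N : ℕ) : ℕ := ∏ p ∈ N.primeFactors.filter (fun p => n + 1 < p), p ^ N.factorization p

theorem lt_of_prime_dvd_piPart {n N q : ℕ} (hq : q.Prime) (h : q ∣ piPart n N) : n + 1 < q := by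
  unfold piPart at h
  rw [Prime.dvd_finsetProd_iff (Nat.prime_iff.mp hq)] at h
  obtain ⟨p, hp, hqp⟩ := h
  rw [Finset.mem_filter, Nat.mem_primeFactors] at hp
  have h1 : q ∣ p := hq.dvd_of_dvd_pow hqp
  have h2 : q = p := (Nat.prime_dvd_prime_iff_eq hq hp.1.1).mp h1
  rw [h2]
  exact hp.2

theorem ordProj_dvd_piPart {n N q : ℕ} (hq : q.Prime) (hnq : n + 1 < q) (hN : N ≠ 0) :
    ordProj[q] N ∣ piPart n N := by
  by_cases hdvd : q ∣ N
  · unfold piPart
    apply Finset.dvd_prod_of_mem (fun p => p ^ N.factorization p)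
    rw [Finset.mem_filter, Nat.mem_primeFactors]
    exact ⟨⟨hq, hdvd, hN⟩, hnq⟩
  · rw [Nat.factorization_eq_zero_of_not_dvd hdvd, pow_zero]
    exact one_dvd _

end Central

section Main

theorem theoremB_aux (n : ℕ) : ∀ (N : ℕ) (G : Type u) [Group G] [Finite G],
    Nat.card G = N → TBstmt n G := by
  intro N
  induction N using Nat.strong_induction_on with
  | _ N ih =>
    intro G _ _ hN χ hχ hfaith hdeg
    have hsub : ∀ C : Subgroup G, C ≠ ⊤ → HallIn n C :=
      fun C hC => hallIn_of_ih n N ih hN hχ hfaith hdeg C hC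
    have hN0 : Nat.card G ≠ 0 := Nat.card_pos.ne'
    by_cases hcentral : ∀ p : ℕ, p.Prime → n + 1 < p → ∀ x : G,
        x ^ (ordProj[p] (Nat.card G)) = 1 → x ∈ Subgroup.center G
    · -- all Sylow subgroups for large primes are central
      refine ⟨piCenter G (piPart n (Nat.card G)), ?_, ?_, ?_⟩
      · intro x hx y hy
        exact (Subgroup.mem_center_iff.mp hx.1 y).symm
      · intro q hq hdvd
        haveI : Fact q.Prime := ⟨hq⟩
        obtain ⟨z, hz⟩ := exists_prime_orderOf_dvd_card' q hdvd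
        apply lt_of_prime_dvd_piPart (n := n) (N := Nat.card G) hq
        rw [← hz]
        apply orderOf_dvd_of_pow_eq_one
        apply Subtype.ext
        rw [Subgroup.coe_pow, Subgroup.coe_one]
        exact z.2.2
      · intro q hq hdvd
        by_contra hlt
        have hnq : n + 1 < q := by omega
        haveI : Fact q.Prime := ⟨hq⟩
        obtain ⟨Q⟩ : Nonempty (Sylow q G) := inferInstance
        have hQA : (Q : Subgroup G) ≤ piCenter G (piPart n (Nat.card G)) := by
          intro y hy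
          have h1 := pow_ordProj_eq_one_of_mem_sylow Q y hy
          refine ⟨hcentral q hq hnq y h1, ?_⟩
          obtain ⟨t, ht⟩ := ordProj_dvd_piPart (n := n) hq hnq hN0
          rw [ht, pow_mul, h1, one_pow]
        exact Q.not_dvd_index (dvd_trans hdvd (Subgroup.index_dvd_of_le hQA))
    · -- a non-central Sylow subgroup
      push Not at hcentral
      obtain ⟨p, hp, hnp, x₀, hx₀, hx₀c⟩ := hcentral
      haveI : Fact p.Prime := ⟨hp⟩
      obtain ⟨P, hx₀P⟩ := exists_sylow_mem x₀ _ hx₀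
      have hPab : ∀ a ∈ P, ∀ b ∈ P, a * b = b * a :=
        comm_of_isPGroup hχ hfaith hdeg hp (by omega) P P.2
      set C := Subgroup.centralizer ((P : Subgroup G) : Set G) with hCdef
      have hCtop : C ≠ ⊤ := by
        intro h
        rw [Subgroup.centralizer_eq_top_iff_subset] at h
        exact hx₀c (h hx₀P)
      have hPC : (P : Subgroup G) ≤ C := by
        intro a ha
        rw [hCdef, Subgroup.mem_centralizer_iff]
        intro b hb
        exact hPab b hb a ha
      obtain ⟨A, hAC, hab, hπ, hidx⟩ := hsub C hCtop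
      refine ⟨A, hab, hπ, ?_⟩
      intro r hr hdvd
      by_contra hlt
      have hnr : n + 1 < r := by omega
      haveI : Fact r.Prime := ⟨hr⟩
      -- it suffices to find a Sylow `r`-subgroup inside `C`
      suffices hS : ∃ S : Sylow r G, (S : Subgroup G) ≤ C by
        obtain ⟨S, hS⟩ := hS
        exact not_dvd_index_of_sylow_le hAC hidx hnr S hS hdvd
      by_cases hrp : r = p
      · subst hrp
        exact ⟨P, hPC⟩
      by_cases hrc : ∀ y : G, y ^ (ordProj[r] (Nat.card G)) = 1 → y ∈ Subgroup.center G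
      · obtain ⟨S⟩ : Nonempty (Sylow r G) := inferInstance
        refine ⟨S, ?_⟩
        intro y hy
        exact Subgroup.center_le_centralizer _
          (hrc y (pow_ordProj_eq_one_of_mem_sylow S y hy))
      · push Not at hrc
        obtain ⟨y₀, hy₀, hy₀c⟩ := hrc
        obtain ⟨x, y, hx, hy, hxy, hxc, hyc⟩ := exists_commuting_noncentral hχ hfaith hdeg hp hr
          hnp hnr x₀ y₀ hx₀ hy₀ hx₀c hy₀c
        obtain ⟨P₃, Q₃, hcomm⟩ := exists_commuting_sylow hχ hfaith hdeg hsub hnp hnr x y hx hy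
          hxy hxc hyc
        obtain ⟨g, hg⟩ := MulAction.exists_smul_eq G P₃ P
        refine ⟨g • Q₃, ?_⟩
        intro b hb
        rw [hCdef, Subgroup.mem_centralizer_iff]
        intro a ha
        have ha' : a ∈ g • P₃ := by rw [hg]; exact ha
        exact smul_sylow_commute P₃ Q₃ hcomm g a ha' b hb

/-- **Blichfeldt**: a finite group with a faithful character of degree `n` has an abelian Hall
`π`-subgroup, `π` the set of primes `> n + 1`. -/
theorem theoremB {G : Type u} [Group G] [Finite G] {χ : G → ℂ} (hχ : Cfsg.IsCharacter G χ)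
    (hfaith : ∀ g : G, χ g = χ 1 → g = 1) {n : ℕ} (hdeg : χ 1 = n) : HallStmt n G :=
  theoremB_aux n _ G rfl χ hχ hfaith hdeg

end Main

end Cfsg.Agent.Lib.H2.Jor
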