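import Mathlib
import Cfsg.Agent.Lib.H23.MGroup
import Cfsg.Agent.Lib.H2.Jor5

/-!
# Jordan/Blichfeldt, part 8: abelian subgroups of small index in `p`-groups (helper2)

A finite `p`-group with a faithful character of degree `n` has an abelian subgroup of index at most
the `p`-part of `n!`.
-/

set_option autoImplicit false

universe u

namespace Cfsg.Agent.Lib.H2.Jor

open scoped Nat

section Core

variable {P : Type u} [Group P] [Fintype P] [Group.IsNilpotent P]

theorem exists_core_of_irr (θ : P → ℂ) (hθ : Cfsg.IsIrrCharacter P θ) :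
    ∃ K : Subgroup P, K.index ∣ (Cfsg.charDegree θ)! ∧
      ∀ a ∈ K, ∀ b ∈ K, θ (a * b * (b * a)⁻¹) = θ 1 := by
  classical
  obtain ⟨H, lam, hθeq⟩ := Cfsg.Agent.Lib.H23.monomial_of_nilpotent θ hθ
  have hdeg : Cfsg.charDegree θ = H.index := by
    apply Cfsg.Agent.Lib.H23.charDegree_eq_of_apply_one
    rw [hθeq, Cfsg.Agent.Lib.L0.indFun_apply_one]
    simp
  refine ⟨H.normalCore, ?_, ?_⟩
  · rw [hdeg, Subgroup.normalCore_eq_ker, Subgroup.index_ker, Subgroup.index_eq_card,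
      ← Nat.card_perm]
    exact Subgroup.card_subgroup_dvd_card _
  · intro a ha b hb
    rw [hθeq]
    unfold Cfsg.indFun
    congr 1
    apply Finset.sum_congr rfl
    intro x _
    have ha' : x⁻¹ * a * x ∈ H := by
      have := ha x⁻¹
      rwa [inv_inv] at this
    have hb' : x⁻¹ * b * x ∈ H := by
      have := hb x⁻¹
      rwa [inv_inv] at this
    set a' : H := ⟨x⁻¹ * a * x, ha'⟩ with ha'def
    set b' : H := ⟨x⁻¹ * b * x, hb'⟩ with hb'def
    have h1 : x⁻¹ * (a * b * (b * a)⁻¹) * x = ((a' * b' * (b' * a')⁻¹ : H) : P) := by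
      rw [ha'def, hb'def]
      push_cast
      group
    have h2 : x⁻¹ * 1 * x = ((1 : H) : P) := by
      rw [mul_one, inv_mul_cancel, Subgroup.coe_one]
    rw [h1, h2, Cfsg.Agent.Lib.L0.extendByZero_apply_mem, Cfsg.Agent.Lib.L0.extendByZero_apply_mem,
      map_mul, map_mul, map_inv, map_mul, map_one, mul_comm (lam b') (lam a'), mul_inv_cancel]

theorem list_sum_apply_one_eq (l : List (P → ℂ)) (hl : ∀ θ ∈ l, Cfsg.IsIrrCharacter P θ) :
    l.sum 1 = (((l.map Cfsg.charDegree).sum : ℕ) : ℂ) := by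
  induction l with
  | nil => simp
  | cons a l ih =>
    rw [List.sum_cons, Pi.add_apply, ih (fun θ hθ => hl θ (by simp [hθ])), List.map_cons,
      List.sum_cons, Nat.cast_add,
      Cfsg.Agent.Lib.H23.apply_one_eq_charDegree a (hl a (by simp))]

theorem exists_abelian_of_list {p : ℕ} [hp : Fact p.Prime] (hP : IsPGroup p P)
    (l : List (P → ℂ)) (hl : ∀ θ ∈ l, Cfsg.IsIrrCharacter P θ) :
    ∃ (B : Subgroup P) (D : ℕ), (∀ θ ∈ l, ∀ a ∈ B, ∀ b ∈ B, θ (a * b * (b * a)⁻¹) = θ 1) ∧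
      B.index ≤ D ∧ (∃ k : ℕ, D = p ^ k) ∧ D ∣ ((l.map Cfsg.charDegree).sum)! := by
  induction l with
  | nil =>
    refine ⟨⊤, 1, ?_, ?_, ⟨0, by simp⟩, by simp⟩
    · intro θ hθ
      simp at hθ
    · simp
  | cons θ l ih =>
    obtain ⟨B, D, hB, hBD, ⟨k, hk⟩, hD⟩ := ih (fun ψ hψ => hl ψ (by simp [hψ]))
    obtain ⟨K, hK, hKθ⟩ := exists_core_of_irr θ (hl θ (by simp))
    obtain ⟨j, hj⟩ := hP.index K
    refine ⟨K ⊓ B, K.index * D, ?_, ?_, ⟨j + k, by rw [hj, hk, pow_add]⟩, ?_⟩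
    · intro ψ hψ a ha b hb
      rcases List.mem_cons.mp hψ with rfl | h
      · exact hKθ a ha.1 b hb.1
      · exact hB ψ h a ha.2 b hb.2
    · exact le_trans Subgroup.index_inf_le (Nat.mul_le_mul_left _ hBD)
    · rw [List.map_cons, List.sum_cons]
      exact dvd_trans (mul_dvd_mul hK hD) (Nat.factorial_mul_factorial_dvd_factorial_add _ _)

end Core

section Main

/-- A finite `p`-group with a faithful character of degree `n` has an abelian subgroup of index at
most the `p`-part of `n!`. -/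
theorem exists_abelian_index_le {P : Type u} [Group P] [Finite P] {p : ℕ} [hp : Fact p.Prime]
    (hP : IsPGroup p P) {χ : P → ℂ} (hχ : Cfsg.IsCharacter P χ)
    (hfaith : ∀ g : P, χ g = χ 1 → g = 1) {n : ℕ} (hdeg : χ 1 = n) :
    ∃ B : Subgroup P, (∀ a ∈ B, ∀ b ∈ B, a * b = b * a) ∧ B.index ≤ ordProj[p] (n !) := by
  haveI : Fintype P := Fintype.ofFinite P
  haveI : Group.IsNilpotent P := hP.isNilpotent
  obtain ⟨l, hl, hsum⟩ := Cfsg.Agent.Lib.L0.isCharacter_exists_irr_decomp hχ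
  obtain ⟨B, D, hB, hBD, ⟨k, hk⟩, hD⟩ := exists_abelian_of_list hP l hl
  have hn : (l.map Cfsg.charDegree).sum = n := by
    have := list_sum_apply_one_eq l hl
    rw [← hsum, hdeg] at this
    exact_mod_cast this.symm
  rw [hn] at hD
  refine ⟨B, ?_, ?_⟩
  · intro a ha b hb
    have h1 : χ (a * b * (b * a)⁻¹) = χ 1 := by
      rw [hsum]
      exact list_sum_apply_eq (fun θ hθ => hB θ hθ a ha b hb)
    have h2 := hfaith _ h1
    rwa [mul_inv_eq_one] at h2
  · apply le_trans hBD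
    rw [hk] at hD ⊢
    have hk' : k ≤ (n !).factorization p :=
      (Nat.Prime.pow_dvd_iff_le_factorization hp.out (Nat.factorial_ne_zero n)).1 hD
    exact Nat.pow_le_pow_right hp.out.pos hk'

end Main

end Cfsg.Agent.Lib.H2.Jor
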