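import Mathlib
import Cfsg.Agent.Lib.H2.Jor7
import Cfsg.Agent.Lib.H2.Jor8

/-!
# Jordan/Blichfeldt, part 9: Jordan's bound `n! * 12 ^ (n (π(n+1) + 1))` (helper2)
-/

set_option autoImplicit false

universe u

namespace Cfsg.Agent.Lib.H2.Jor

open scoped Nat

theorem prod_ordProj_dvd (N : ℕ) (S : Finset ℕ) (hS : ∀ p ∈ S, p.Prime) :
    ∏ p ∈ S, ordProj[p] N ∣ N := by
  classical
  induction S using Finset.induction_on with
  | empty => simp
  | insert a S ha ih =>
    rw [Finset.prod_insert ha]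
    apply Nat.Coprime.mul_dvd_of_dvd_of_dvd
    · apply Nat.Coprime.prod_right
      intro q hq
      apply Nat.Coprime.pow
      have hqa : a ≠ q := fun h => ha (h ▸ hq)
      exact (Nat.coprime_primes (hS a (Finset.mem_insert_self a S))
        (hS q (Finset.mem_insert_of_mem hq))).2 hqa
    · exact Nat.ordProj_dvd N a
    · exact ih (fun p hp => hS p (Finset.mem_insert_of_mem hp))

theorem card_le_primeCounting (n : ℕ) (S : Finset ℕ) (hS : ∀ p ∈ S, p.Prime ∧ p ≤ n + 1) :
    S.card ≤ Nat.primeCounting (n + 1) := by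
  have h1 : Nat.primeCounting (n + 1) = ((Finset.range (n + 2)).filter Nat.Prime).card := by
    unfold Nat.primeCounting Nat.primeCounting'
    rw [Nat.count_eq_card_filter_range]
  rw [h1]
  apply Finset.card_le_card
  intro p hp
  rw [Finset.mem_filter, Finset.mem_range]
  exact ⟨by have := (hS p hp).2; omega, (hS p hp).1⟩

section Main

variable {G : Type u} [Group G] [Finite G]

theorem relIndex_pos' (A K : Subgroup G) : 0 < A.relIndex K := by
  apply Nat.pos_of_ne_zero
  unfold Subgroup.relIndex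
  exact Subgroup.index_ne_zero_of_finite

theorem ordProj_index_le_relIndex (A : Subgroup G) [A.Normal] {p : ℕ} [hp : Fact p.Prime]
    (P : Sylow p G) : ordProj[p] A.index ≤ A.relIndex P := by
  have h1 : A.relIndex P * (A ⊔ P).index = A.index := by
    rw [← Subgroup.relIndex_sup_left (K := A) (H := (P : Subgroup G))]
    exact Subgroup.relIndex_mul_index le_sup_left
  have h2 : (A ⊔ P).index ∣ (P : Subgroup G).index := Subgroup.index_dvd_of_le le_sup_right
  have h3 : Nat.Coprime (ordProj[p] A.index) (A ⊔ P).index := by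
    apply Nat.Coprime.pow_left
    rw [Nat.Prime.coprime_iff_not_dvd hp.out]
    intro h
    exact P.not_dvd_index (dvd_trans h h2)
  have h4 : ordProj[p] A.index ∣ A.relIndex P * (A ⊔ P).index := by
    rw [h1]
    exact Nat.ordProj_dvd _ _
  have h5 := Nat.Coprime.dvd_of_dvd_mul_right h3 h4
  exact Nat.le_of_dvd (relIndex_pos' A P) h5

theorem relIndex_le_of_le (A B P : Subgroup G) (hBP : B ≤ P) :
    A.relIndex P ≤ A.relIndex B * B.relIndex P := by
  have h1 : (A ⊓ B).relIndex (A ⊓ P) * (A ⊓ P).relIndex P = (A ⊓ B).relIndex P :=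
    Subgroup.relIndex_mul_relIndex _ _ _ (inf_le_inf_left A hBP) inf_le_right
  have h2 : (A ⊓ B).relIndex B * B.relIndex P = (A ⊓ B).relIndex P :=
    Subgroup.relIndex_mul_relIndex _ _ _ inf_le_right hBP
  rw [Subgroup.inf_relIndex_right] at h1 h2
  rw [h2, ← h1]
  apply Nat.le_mul_of_pos_left
  exact relIndex_pos' _ _

theorem small_prime_bound {χ : G → ℂ} (hχ : Cfsg.IsCharacter G χ)
    (hfaith : ∀ g : G, χ g = χ 1 → g = 1) {n : ℕ} (hdeg : χ 1 = n)
    (A : Subgroup G) [A.Normal]
    (hA12 : ∀ H : Subgroup G, (∀ x ∈ H, ∀ y ∈ H, x * y = y * x) →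
      (A.subgroupOf H).index ≤ 12 ^ n) {p : ℕ} (hp : p.Prime) :
    ordProj[p] A.index ≤ ordProj[p] (n !) * 12 ^ n := by
  haveI : Fact p.Prime := ⟨hp⟩
  obtain ⟨P⟩ : Nonempty (Sylow p G) := inferInstance
  have hχP : Cfsg.IsCharacter (P : Subgroup G) (fun h : (P : Subgroup G) => χ h) :=
    Cfsg.Agent.Lib.L0.isCharacter_restrict _ hχ
  have hfP : ∀ g : (P : Subgroup G), (fun h : (P : Subgroup G) => χ h) g =
      (fun h : (P : Subgroup G) => χ h) 1 → g = 1 := by
    intro g hg
    apply Subtype.ext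
    exact hfaith _ hg
  obtain ⟨B₀, hB₀ab, hB₀idx⟩ := exists_abelian_index_le (p := p) P.2 hχP hfP hdeg
  set B : Subgroup G := B₀.map (P : Subgroup G).subtype with hB
  have hBP : B ≤ P := Subgroup.map_subtype_le _
  have hBab : ∀ x ∈ B, ∀ y ∈ B, x * y = y * x := by
    intro x hx y hy
    obtain ⟨x', hx', rfl⟩ := Subgroup.mem_map.mp hx
    obtain ⟨y', hy', rfl⟩ := Subgroup.mem_map.mp hy
    have := hB₀ab x' hx' y' hy'
    have h2 := congrArg Subtype.val this
    simpa using h2
  have hBrel : B.relIndex P = B₀.index := by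
    unfold Subgroup.relIndex Subgroup.subgroupOf
    rw [hB, Subgroup.comap_map_eq_self_of_injective (Subgroup.subtype_injective _)]
  have h12 : A.relIndex B ≤ 12 ^ n := hA12 B hBab
  calc ordProj[p] A.index ≤ A.relIndex P := ordProj_index_le_relIndex A P
    _ ≤ A.relIndex B * B.relIndex P := relIndex_le_of_le A B P hBP
    _ ≤ 12 ^ n * ordProj[p] (n !) := by
        rw [hBrel]
        exact Nat.mul_le_mul h12 hB₀idx
    _ = ordProj[p] (n !) * 12 ^ n := mul_comm _ _

theorem big_prime_bound {χ : G → ℂ} (hχ : Cfsg.IsCharacter G χ)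
    (hfaith : ∀ g : G, χ g = χ 1 → g = 1) {n : ℕ} (hdeg : χ 1 = n)
    (A : Subgroup G) [A.Normal]
    (hA12 : ∀ H : Subgroup G, (∀ x ∈ H, ∀ y ∈ H, x * y = y * x) →
      (A.subgroupOf H).index ≤ 12 ^ n) :
    ∏ p ∈ A.index.primeFactors.filter (fun p => ¬ p ≤ n + 1), p ^ A.index.factorization p
      ≤ 12 ^ n := by
  obtain ⟨H, hHab, -, hHidx⟩ := theoremB hχ hfaith hdeg
  set D := ∏ p ∈ A.index.primeFactors.filter (fun p => ¬ p ≤ n + 1),
    p ^ A.index.factorization p with hD
  have hm0 : A.index ≠ 0 := Subgroup.index_ne_zero_of_finite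
  have hDm : D ∣ A.index := by
    conv_rhs => rw [Nat.prod_primeFactors_pow_factorization hm0]
    exact Finset.prod_dvd_prod_of_subset _ _ _ (Finset.filter_subset _ _)
  have h1 : A.relIndex H * (A ⊔ H).index = A.index := by
    rw [← Subgroup.relIndex_sup_left (K := A) (H := H)]
    exact Subgroup.relIndex_mul_index le_sup_left
  have h2 : (A ⊔ H).index ∣ H.index := Subgroup.index_dvd_of_le le_sup_right
  have h3 : Nat.Coprime D (A ⊔ H).index := by
    apply Nat.coprime_of_dvd
    intro k hk hkD hkI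
    have hk1 : k ≤ n + 1 := hHidx k hk (dvd_trans hkI h2)
    rw [hD, Prime.dvd_finsetProd_iff (Nat.prime_iff.mp hk)] at hkD
    obtain ⟨q, hq, hkq⟩ := hkD
    rw [Finset.mem_filter, Nat.mem_primeFactors] at hq
    have h4 : k ∣ q := hk.dvd_of_dvd_pow hkq
    have h5 : k = q := (Nat.prime_dvd_prime_iff_eq hk hq.1.1).mp h4
    rw [h5] at hk1
    exact hq.2 hk1
  have h4 : D ∣ A.relIndex H * (A ⊔ H).index := by rw [h1]; exact hDm
  have h5 := Nat.Coprime.dvd_of_dvd_mul_right h3 h4
  have h6 : D ≤ A.relIndex H :=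
    Nat.le_of_dvd (relIndex_pos' A H) h5
  exact le_trans h6 (hA12 H hHab)

/-- Jordan's bound from the Frobenius–Blichfeldt subgroup. -/
theorem jordan_bound {χ : G → ℂ} (hχ : Cfsg.IsCharacter G χ)
    (hfaith : ∀ g : G, χ g = χ 1 → g = 1) {n : ℕ} (hdeg : χ 1 = n)
    (A : Subgroup G) [A.Normal]
    (hA12 : ∀ H : Subgroup G, (∀ x ∈ H, ∀ y ∈ H, x * y = y * x) →
      (A.subgroupOf H).index ≤ 12 ^ n) :
    A.index ≤ n ! * 12 ^ (n * (Nat.primeCounting (n + 1) + 1)) := by
  have hm0 : A.index ≠ 0 := Subgroup.index_ne_zero_of_finite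
  set S := A.index.primeFactors.filter (fun p => p ≤ n + 1) with hS
  have hsplit : A.index = (∏ p ∈ S, p ^ A.index.factorization p) *
      ∏ p ∈ A.index.primeFactors.filter (fun p => ¬ p ≤ n + 1), p ^ A.index.factorization p := by
    rw [hS, Finset.prod_filter_mul_prod_filter_not]
    exact Nat.prod_primeFactors_pow_factorization hm0
  have hSprime : ∀ p ∈ S, p.Prime ∧ p ≤ n + 1 := by
    intro p hp
    rw [hS, Finset.mem_filter, Nat.mem_primeFactors] at hp
    exact ⟨hp.1.1, hp.2⟩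
  have hsmall : ∏ p ∈ S, p ^ A.index.factorization p ≤
      ∏ p ∈ S, (ordProj[p] (n !) * 12 ^ n) := by
    apply Finset.prod_le_prod
    · intro p _
      exact Nat.zero_le _
    · intro p hp
      exact small_prime_bound hχ hfaith hdeg A hA12 (hSprime p hp).1
  have hprod : ∏ p ∈ S, (ordProj[p] (n !) * 12 ^ n) ≤
      n ! * 12 ^ (n * Nat.primeCounting (n + 1)) := by
    rw [Finset.prod_mul_distrib, Finset.prod_const]
    apply Nat.mul_le_mul
    · exact Nat.le_of_dvd (Nat.factorial_pos n)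
        (prod_ordProj_dvd (n !) S (fun p hp => (hSprime p hp).1))
    · rw [← pow_mul]
      apply Nat.pow_le_pow_right (by norm_num)
      exact Nat.mul_le_mul_left n (card_le_primeCounting n S hSprime)
  rw [hsplit]
  calc _ ≤ (n ! * 12 ^ (n * Nat.primeCounting (n + 1))) * 12 ^ n :=
        Nat.mul_le_mul (le_trans hsmall hprod) (big_prime_bound hχ hfaith hdeg A hA12)
    _ = n ! * 12 ^ (n * (Nat.primeCounting (n + 1) + 1)) := by
        rw [mul_assoc, ← pow_add, mul_add, mul_one]

end Main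

end Cfsg.Agent.Lib.H2.Jor
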