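import Cfsg.Agent.Lib.H20.KGVDefs

/-!
# S4958 piece CENT (helper2): the centralizer of `k * h`, `1 ≠ k ∈ ⟨v⟩`, `h ∈ C_G(v)`, in `X = V ⋊ G`.
-/

set_option autoImplicit false

namespace Cfsg.Agent.Lib.H2.KGV

open Cfsg.Agent.Lib.H20.KGV
open scoped ComplexConjugate
open Classical

theorem card_centralizer_le {X : Type*} [Group X] [Finite X] (p : ℕ) [Fact p.Prime]
    (V G : Subgroup X) [V.Normal] (hVab : ∀ a ∈ V, ∀ b ∈ V, a * b = b * a)
    (hGV : Subgroup.IsComplement' V G) (v : X) (hv : v ∈ V) (hvp : v ^ p = 1)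
    (hab : ∀ a ∈ G ⊓ Subgroup.centralizer ({v} : Set X),
      ∀ b ∈ G ⊓ Subgroup.centralizer ({v} : Set X), a * b = b * a)
    (hcop : (Nat.card ↥(G ⊓ Subgroup.centralizer ({v} : Set X))).Coprime p)
    (k : X) (hk : k ∈ Subgroup.zpowers v) (hk1 : k ≠ 1)
    (h : X) (hh : h ∈ G ⊓ Subgroup.centralizer ({v} : Set X)) :
    Nat.card ↥(Subgroup.centralizer ({k * h} : Set X)) ≤
      Nat.card ↥(V ⊓ Subgroup.centralizer ({h} : Set X)) *
        Nat.card ↥(G ⊓ Subgroup.centralizer ({v} : Set X)) := by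
  have hp : p.Prime := Fact.out
  set H : Subgroup X := G ⊓ Subgroup.centralizer ({v} : Set X) with hH
  set n : ℕ := Nat.card ↥H with hn
  -- `h` commutes with `v` and with `k`
  have hhv : Commute h v := by
    have := (Subgroup.mem_centralizer_iff.1 hh.2) v (Set.mem_singleton v)
    exact this.symm
  obtain ⟨j, hj⟩ := Subgroup.mem_zpowers_iff.1 hk
  have hhk : Commute h k := by
    rw [← hj]
    exact hhv.zpow_right j
  -- `h ^ n = 1`
  have hhn : h ^ n = 1 := by
    have h1 : (⟨h, hh⟩ : ↥H) ^ Nat.card ↥H = 1 := pow_card_eq_one'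
    have h2 := congrArg (fun z : ↥H => (z : X)) h1
    simp only [Subgroup.coe_pow, Subgroup.coe_one] at h2
    exact h2
  -- `v ≠ 1`, order `p`
  have hv1 : v ≠ 1 := by
    intro h1
    apply hk1
    rw [← hj, h1, one_zpow]
  have hord : orderOf v = p := orderOf_eq_prime hvp hv1
  -- `p ∤ j`
  have hpj : ¬ (p : ℤ) ∣ j := by
    intro hd
    apply hk1
    rw [← hj]
    exact (orderOf_dvd_iff_zpow_eq_one).1 (by rw [hord]; exact hd)
  have hpn : ¬ (p : ℤ) ∣ (n : ℤ) := by
    intro hd
    have := Int.natCast_dvd_natCast.1 hd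
    have h1 : p ∣ Nat.gcd n p := Nat.dvd_gcd this dvd_rfl
    rw [Nat.Coprime.gcd_eq_one hcop] at h1
    exact hp.one_lt.ne' (Nat.dvd_one.1 h1)
  have hcopr : IsCoprime (j * (n : ℤ)) (p : ℤ) := by
    have hpp : Prime (p : ℤ) := Nat.prime_iff_prime_int.1 hp
    rw [isCoprime_comm]
    apply (Prime.coprime_iff_not_dvd hpp).2
    intro hd
    rcases hpp.dvd_or_dvd hd with h1 | h1
    · exact hpj h1
    · exact hpn h1
  obtain ⟨s, t, hst⟩ := hcopr
  -- `v = (k ^ n) ^ s`
  have hvk : (k ^ n) ^ s = v := by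
    rw [← hj, ← zpow_natCast, ← zpow_mul, ← zpow_mul]
    have e : j * ((n : ℤ) * s) = 1 - t * p := by linarith
    have e2 : (1 : ℤ) - t * p = 1 - (p : ℤ) * t := by ring
    rw [e, e2, zpow_sub, zpow_one, zpow_mul, zpow_natCast, hvp, one_zpow, inv_one, mul_one]
  -- the key claim
  have key : ∀ y ∈ Subgroup.centralizer ({k * h} : Set X), ∀ u ∈ V, ∀ g ∈ G, y = u * g →
      u ∈ V ⊓ Subgroup.centralizer ({h} : Set X) ∧ g ∈ H := by
    intro y hy u hu g hg hyug
    have hykh : Commute y (k * h) := by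
      have := (Subgroup.mem_centralizer_iff.1 hy) (k * h) (Set.mem_singleton _)
      exact this.symm
    have hkhn : (k * h) ^ n = k ^ n := by
      rw [hhk.symm.mul_pow, hhn, mul_one]
    have hykn : Commute y (k ^ n) := by
      rw [← hkhn]
      exact hykh.pow_right n
    have hyv : Commute y v := by
      rw [← hvk]
      exact hykn.zpow_right s
    have hyk : Commute y k := by
      rw [← hj]
      exact hyv.zpow_right j
    have hyh : Commute y h := by
      have e : h = k⁻¹ * (k * h) := by group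
      rw [e]
      exact (hyk.inv_right).mul_right hykh
    -- `g` commutes with `v`
    have huv : Commute u v := hVab u hu v hv
    have hgv : Commute g v := by
      have h1 : u * g * v = v * (u * g) := by
        rw [← hyug]
        exact hyv.eq
      have h2 : u * (g * v) = u * (v * g) := by
        rw [← mul_assoc, h1, ← mul_assoc, ← huv.eq, mul_assoc]
      exact mul_left_cancel h2
    have hgH : g ∈ H := ⟨hg, Subgroup.mem_centralizer_iff.2 (fun z hz => by
      rw [Set.mem_singleton_iff.1 hz]; exact hgv.eq.symm)⟩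
    have hgh : Commute g h := hab g hgH h hh
    have huh : Commute u h := by
      have h1 : u * g * h = h * (u * g) := by
        rw [← hyug]
        exact hyh.eq
      have h2 : u * h * g = h * u * g := by
        rw [mul_assoc u h g, ← hgh.eq, ← mul_assoc, h1, mul_assoc]
      exact mul_right_cancel h2
    refine ⟨⟨hu, Subgroup.mem_centralizer_iff.2 (fun z hz => ?_)⟩, hgH⟩
    rw [Set.mem_singleton_iff.1 hz]
    exact huh.eq.symm
  -- decomposition
  have hdec : ∀ y : X, ∃ u g : X, u ∈ V ∧ g ∈ G ∧ y = u * g := by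
    intro y
    obtain ⟨⟨⟨u, hu⟩, ⟨g, hg⟩⟩, hy, -⟩ := (Subgroup.isComplement_iff_existsUnique.1 hGV) y
    exact ⟨u, g, hu, hg, hy.symm⟩
  choose fu fg hfu hfg hfy using hdec
  let f : ↥(Subgroup.centralizer ({k * h} : Set X)) →
      ↥(V ⊓ Subgroup.centralizer ({h} : Set X)) × ↥H := fun y =>
    (⟨fu y.1, (key y.1 y.2 _ (hfu y.1) _ (hfg y.1) (hfy y.1)).1⟩,
      ⟨fg y.1, (key y.1 y.2 _ (hfu y.1) _ (hfg y.1) (hfy y.1)).2⟩)
  have hf : Function.Injective f := by
    intro y y' e
    have e1 : fu y.1 = fu y'.1 := congrArg (fun z => (z.1 : X)) e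
    have e2 : fg y.1 = fg y'.1 := congrArg (fun z => (z.2 : X)) e
    apply Subtype.ext
    rw [hfy y.1, hfy y'.1, e1, e2]
  calc Nat.card ↥(Subgroup.centralizer ({k * h} : Set X))
      ≤ Nat.card (↥(V ⊓ Subgroup.centralizer ({h} : Set X)) × ↥H) :=
        Nat.card_le_card_of_injective f hf
    _ = Nat.card ↥(V ⊓ Subgroup.centralizer ({h} : Set X)) * Nat.card ↥H := Nat.card_prod _ _

end Cfsg.Agent.Lib.H2.KGV
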