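import Cfsg.Agent.Lib.H20.KGVDefs
import Cfsg.Agent.Lib.L0.BGSC2

/-!
# S4958 piece MOD (helper2): Maschke decomposition of `V` under the abelian `p'`-group `H`.
-/

set_option autoImplicit false

namespace Cfsg.Agent.Lib.H2.KGV

open Cfsg.Agent.Lib.H20.KGV
open scoped ComplexConjugate
open Classical

/-- elements of `A ⊔ B` are products when `A` and `B` commute elementwise -/
theorem exists_mul_of_mem_sup_comm {X : Type*} [Group X] (A B : Subgroup X)
    (hcomm : ∀ a ∈ A, ∀ b ∈ B, a * b = b * a) {x : X} (hx : x ∈ A ⊔ B) :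
    ∃ a ∈ A, ∃ b ∈ B, x = a * b := by
  rw [Subgroup.sup_eq_closure] at hx
  induction hx using Subgroup.closure_induction with
  | mem y hy =>
    rcases hy with hy | hy
    · exact ⟨y, hy, 1, one_mem _, (mul_one y).symm⟩
    · exact ⟨1, one_mem _, y, hy, (one_mul y).symm⟩
  | one => exact ⟨1, one_mem _, 1, one_mem _, (mul_one 1).symm⟩
  | mul y z _ _ hy hz =>
    obtain ⟨a, ha, b, hb, rfl⟩ := hy
    obtain ⟨a', ha', b', hb', rfl⟩ := hz
    refine ⟨a * a', mul_mem ha ha', b * b', mul_mem hb hb', ?_⟩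
    have h1 := hcomm a' ha' b hb
    calc a * b * (a' * b') = a * (b * a') * b' := by group
      _ = a * (a' * b) * b' := by rw [h1]
      _ = a * a' * (b * b') := by group
  | inv y _ hy =>
    obtain ⟨a, ha, b, hb, rfl⟩ := hy
    refine ⟨a⁻¹, inv_mem ha, b⁻¹, inv_mem hb, ?_⟩
    have h1 := hcomm a ha b hb
    rw [h1, mul_inv_rev]

/-- `|(A ⊔ B) ∩ S| = |A ∩ S| |B ∩ S|` for commuting `A`, `B` with `A ∩ B = 1`, when membership in `S` can be
tested componentwise -/
theorem card_sup_inf {X : Type*} [Group X] [Finite X] (A B S : Subgroup X) (hAB : A ⊓ B = ⊥)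
    (hcomm : ∀ a ∈ A, ∀ b ∈ B, a * b = b * a)
    (hS : ∀ a ∈ A, ∀ b ∈ B, a * b ∈ S → a ∈ S ∧ b ∈ S) :
    Nat.card ↥((A ⊔ B) ⊓ S) = Nat.card ↥(A ⊓ S) * Nat.card ↥(B ⊓ S) := by
  rw [← Nat.card_prod]
  symm
  apply Nat.card_congr
  refine Equiv.ofBijective (fun x : ↥(A ⊓ S) × ↥(B ⊓ S) =>
    (⟨x.1.1 * x.2.1, Subgroup.mem_inf.2
      ⟨mul_mem ((le_sup_left : A ≤ A ⊔ B) (Subgroup.mem_inf.1 x.1.2).1)
        ((le_sup_right : B ≤ A ⊔ B) (Subgroup.mem_inf.1 x.2.2).1),
      mul_mem (Subgroup.mem_inf.1 x.1.2).2 (Subgroup.mem_inf.1 x.2.2).2⟩⟩ : ↥((A ⊔ B) ⊓ S))) ⟨?_, ?_⟩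
  · rintro ⟨⟨a, ha0⟩, ⟨b, hb0⟩⟩ ⟨⟨a', ha0'⟩, ⟨b', hb0'⟩⟩ e
    have ha := Subgroup.mem_inf.1 ha0
    have hb := Subgroup.mem_inf.1 hb0
    have ha' := Subgroup.mem_inf.1 ha0'
    have hb' := Subgroup.mem_inf.1 hb0'
    have e' : a * b = a' * b' := congrArg Subtype.val e
    have h1 : a'⁻¹ * a = b' * b⁻¹ := by
      calc a'⁻¹ * a = a'⁻¹ * (a * b) * b⁻¹ := by group
        _ = a'⁻¹ * (a' * b') * b⁻¹ := by rw [e']
        _ = b' * b⁻¹ := by group
    have h2 : a'⁻¹ * a ∈ A ⊓ B :=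
      Subgroup.mem_inf.2 ⟨mul_mem (inv_mem ha'.1) ha.1, by rw [h1]; exact mul_mem hb'.1 (inv_mem hb.1)⟩
    rw [hAB, Subgroup.mem_bot] at h2
    have ea : a = a' := by
      have := inv_mul_eq_one.1 h2
      exact this.symm
    subst ea
    have eb : b = b' := mul_left_cancel e'
    subst eb
    rfl
  · rintro ⟨x, hx0⟩
    obtain ⟨hx, hxS⟩ := Subgroup.mem_inf.1 hx0
    obtain ⟨a, ha, b, hb, rfl⟩ := exists_mul_of_mem_sup_comm A B hcomm hx
    obtain ⟨haS, hbS⟩ := hS a ha b hb hxS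
    exact ⟨(⟨a, Subgroup.mem_inf.2 ⟨ha, haS⟩⟩, ⟨b, Subgroup.mem_inf.2 ⟨hb, hbS⟩⟩), rfl⟩

/-- uniqueness of the decomposition `a * b`, `a ∈ A`, `b ∈ B`, when `A ⊓ B = ⊥` -/
theorem eq_of_mul_eq_mul {X : Type*} [Group X] (A B : Subgroup X) (hAB : A ⊓ B = ⊥)
    {a a' b b' : X} (ha : a ∈ A) (ha' : a' ∈ A) (hb : b ∈ B) (hb' : b' ∈ B) (e : a * b = a' * b') :
    a = a' ∧ b = b' := by
  have h1 : a'⁻¹ * a = b' * b⁻¹ := by
    calc a'⁻¹ * a = a'⁻¹ * (a * b) * b⁻¹ := by group
      _ = a'⁻¹ * (a' * b') * b⁻¹ := by rw [e]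
      _ = b' * b⁻¹ := by group
  have h2 : a'⁻¹ * a ∈ A ⊓ B :=
    Subgroup.mem_inf.2 ⟨mul_mem (inv_mem ha') ha, by rw [h1]; exact mul_mem hb' (inv_mem hb)⟩
  rw [hAB, Subgroup.mem_bot] at h2
  have ea : a = a' := (inv_mul_eq_one.1 h2).symm
  subst ea
  exact ⟨rfl, mul_left_cancel e⟩

/-- the orbit bound: if every `h ∈ H` fixing some non-trivial element of `W` centralises `W`, then
`|H : C_H(W)| + 1 ≤ |W|` -/
theorem relIndex_centralizer_add_one_le {X : Type*} [Group X] [Finite X] (H W : Subgroup X) (hW : W ≠ ⊥)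
    (hinv : ∀ h ∈ H, ∀ a ∈ W, h * a * h⁻¹ ∈ W)
    (hfix : ∀ h ∈ H, ∀ a ∈ W, a ≠ 1 → h * a * h⁻¹ = a → h ∈ Subgroup.centralizer (W : Set X)) :
    (Subgroup.centralizer (W : Set X)).relIndex H + 1 ≤ Nat.card W := by
  obtain ⟨a, haW, ha1⟩ : ∃ a ∈ W, a ≠ 1 := by
    by_contra hcon
    push Not at hcon
    apply hW
    rw [Subgroup.eq_bot_iff_forall]
    exact hcon
  set K : Subgroup ↥H := (Subgroup.centralizer (W : Set X)).subgroupOf H with hK
  -- the orbit map on the quotient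
  let f : ↥H ⧸ K → {x : ↥W // x ≠ 1} := fun q =>
    Quotient.liftOn' q (fun h : ↥H => (⟨⟨(h : X) * a * (h : X)⁻¹, hinv h h.2 a haW⟩, by
      intro h1
      apply ha1
      have h2 : (h : X) * a * (h : X)⁻¹ = 1 := congrArg Subtype.val h1
      have h3 : a = (h : X)⁻¹ * ((h : X) * a * (h : X)⁻¹) * (h : X) := by group
      rw [h3, h2]; group⟩ : {x : ↥W // x ≠ 1})) (by
      intro h h' hrel
      rw [QuotientGroup.leftRel_apply] at hrel
      have hc : ((h⁻¹ * h' : ↥H) : X) ∈ Subgroup.centralizer (W : Set X) := Subgroup.mem_subgroupOf.1 hrel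
      have hca := (Subgroup.mem_centralizer_iff.1 hc) a haW
      apply Subtype.ext
      apply Subtype.ext
      show (h : X) * a * (h : X)⁻¹ = (h' : X) * a * (h' : X)⁻¹
      have e : ((h⁻¹ * h' : ↥H) : X) = (h : X)⁻¹ * (h' : X) := by simp
      rw [e] at hca
      -- a * (h⁻¹ h') = (h⁻¹ h') * a
      calc (h : X) * a * (h : X)⁻¹ = (h : X) * (a * ((h : X)⁻¹ * (h' : X))) * (h' : X)⁻¹ := by group
        _ = (h : X) * (((h : X)⁻¹ * (h' : X)) * a) * (h' : X)⁻¹ := by rw [hca]
        _ = (h' : X) * a * (h' : X)⁻¹ := by group)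
  have hf : Function.Injective f := by
    intro q q'
    induction q using Quotient.inductionOn' with | _ h => ?_
    induction q' using Quotient.inductionOn' with | _ h' => ?_
    intro e
    have e1 : (h : X) * a * (h : X)⁻¹ = (h' : X) * a * (h' : X)⁻¹ := by
      have := congrArg (fun z : {x : ↥W // x ≠ 1} => ((z : ↥W) : X)) e
      exact this
    apply Quotient.sound'
    rw [QuotientGroup.leftRel_apply, hK, Subgroup.mem_subgroupOf]
    have hmem : ((h⁻¹ * h' : ↥H) : X) ∈ H := (h⁻¹ * h').2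
    apply hfix _ hmem a haW ha1
    have e2 : ((h⁻¹ * h' : ↥H) : X) = (h : X)⁻¹ * (h' : X) := by simp
    rw [e2]
    calc (h : X)⁻¹ * (h' : X) * a * ((h : X)⁻¹ * (h' : X))⁻¹
        = (h : X)⁻¹ * ((h' : X) * a * (h' : X)⁻¹) * (h : X) := by group
      _ = (h : X)⁻¹ * ((h : X) * a * (h : X)⁻¹) * (h : X) := by rw [e1]
      _ = a := by group
  have h1 : Nat.card (↥H ⧸ K) ≤ Nat.card {x : ↥W // x ≠ 1} := Nat.card_le_card_of_injective f hf
  have h2 : Nat.card {x : ↥W // x ≠ 1} + 1 = Nat.card ↥W := by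
    have hfin : Fintype ↥W := Fintype.ofFinite _
    rw [Nat.card_eq_fintype_card, Nat.card_eq_fintype_card, Fintype.card_subtype_compl,
      Fintype.card_subtype_eq]
    have : 1 ≤ Fintype.card ↥W := Fintype.card_pos
    omega
  have h3 : (Subgroup.centralizer (W : Set X)).relIndex H = Nat.card (↥H ⧸ K) := by
    rw [Subgroup.relIndex, Subgroup.index_eq_card]
  omega

theorem exists_family {X : Type*} [Group X] [Finite X] (p : ℕ) [Fact p.Prime] (H : Subgroup X)
    (hHab : ∀ a ∈ H, ∀ b ∈ H, a * b = b * a) (hHp : (Nat.card H).Coprime p)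
    (V : Subgroup X) (hVab : ∀ a ∈ V, ∀ b ∈ V, a * b = b * a) (hVp : ∀ a ∈ V, a ^ p = 1)
    (hHV : ∀ h ∈ H, ∀ a ∈ V, h * a * h⁻¹ ∈ V) :
    ∃ (r : ℕ) (D : Fin r → Subgroup X) (w : Fin r → ℕ),
      (∀ i, (D i).relIndex H + 1 ≤ w i) ∧
      (∀ h ∈ H, (∀ i, h ∈ D i) → ∀ a ∈ V, h * a = a * h) ∧
      (∀ h ∈ H, Nat.card V =
        Nat.card ↥(V ⊓ Subgroup.centralizer ({h} : Set X)) * ∏ i, if h ∈ D i then 1 else w i) := by
  suffices hmain : ∀ (n : ℕ) (V : Subgroup X), Nat.card V = n → (∀ a ∈ V, ∀ b ∈ V, a * b = b * a) →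
      (∀ a ∈ V, a ^ p = 1) → (∀ h ∈ H, ∀ a ∈ V, h * a * h⁻¹ ∈ V) →
      ∃ (r : ℕ) (D : Fin r → Subgroup X) (w : Fin r → ℕ),
        (∀ i, (D i).relIndex H + 1 ≤ w i) ∧
        (∀ h ∈ H, (∀ i, h ∈ D i) → ∀ a ∈ V, h * a = a * h) ∧
        (∀ h ∈ H, Nat.card V =
          Nat.card ↥(V ⊓ Subgroup.centralizer ({h} : Set X)) * ∏ i, if h ∈ D i then 1 else w i) from
    hmain _ V rfl hVab hVp hHV
  intro n
  induction n using Nat.strong_induction_on with
  | _ n ih =>
  intro V hn hVab hVp hHV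
  by_cases hV : V = ⊥
  · subst hV
    refine ⟨0, Fin.elim0, Fin.elim0, fun i => i.elim0, ?_, ?_⟩
    · intro h _ _ a ha
      rw [Subgroup.mem_bot.1 ha, mul_one, one_mul]
    · intro h _
      rw [Finset.univ_eq_empty, Finset.prod_empty, mul_one, bot_inf_eq]
  · -- a minimal non-trivial `H`-invariant subgroup `W` of `V`
    let P : Subgroup X → Prop := fun W => W ≤ V ∧ W ≠ ⊥ ∧ ∀ h ∈ H, ∀ a ∈ W, h * a * h⁻¹ ∈ W
    have hPV : P V := ⟨le_rfl, hV, hHV⟩
    obtain ⟨W, hW, hmin⟩ : ∃ W, P W ∧ ∀ W', P W' → Nat.card W ≤ Nat.card W' := by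
      have hex : ∃ m, ∃ W, P W ∧ Nat.card W = m := ⟨_, V, hPV, rfl⟩
      obtain ⟨W, hW, hWm⟩ := Nat.find_spec hex
      exact ⟨W, hW, fun W' hW' => by rw [hWm]; exact Nat.find_min' hex ⟨W', hW', rfl⟩⟩
    obtain ⟨hWV, hW1, hWinv⟩ := hW
    -- normalizer forms
    have norm_of : ∀ U : Subgroup X, (∀ h ∈ H, ∀ a ∈ U, h * a * h⁻¹ ∈ U) →
        H ≤ Subgroup.normalizer (U : Set X) := by
      intro U hU h hh
      rw [Subgroup.mem_normalizer_iff]
      intro a
      constructor
      · exact hU h hh a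
      · intro ha
        have := hU h⁻¹ (inv_mem hh) _ ha
        have e : h⁻¹ * (h * a * h⁻¹) * h⁻¹⁻¹ = a := by group
        rwa [e] at this
    have hVea : Cfsg.IsElementaryAbelian p V :=
      ⟨⟨⟨fun a b => Subtype.ext (hVab a a.2 b b.2)⟩⟩, hVp⟩
    obtain ⟨V', hV'V, hV'n, hWV', hWsup⟩ :=
      Cfsg.Agent.Lib.L0.BGSC.exists_invariant_compl_elemAb hVea hWV (norm_of V hHV) (norm_of W hWinv) hHp
    have hV'inv : ∀ h ∈ H, ∀ a ∈ V', h * a * h⁻¹ ∈ V' := by
      intro h hh a ha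
      have := hV'n hh
      rw [Subgroup.mem_normalizer_iff] at this
      exact (this a).1 ha
    have hcomm : ∀ a ∈ W, ∀ b ∈ V', a * b = b * a := fun a ha b hb => hVab a (hWV ha) b (hV'V hb)
    -- cardinalities
    have hcardV : Nat.card V = Nat.card W * Nat.card V' := by
      have := card_sup_inf W V' ⊤ hWV' hcomm (fun _ _ _ _ _ => ⟨Subgroup.mem_top _, Subgroup.mem_top _⟩)
      rw [inf_top_eq, inf_top_eq, inf_top_eq, hWsup] at this
      exact this
    have hW2 : 2 ≤ Nat.card W := by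
      rcases Nat.lt_or_ge (Nat.card W) 2 with h | h
      · exfalso
        apply hW1
        have h1 : Nat.card W = 1 := by
          have : 0 < Nat.card W := Nat.card_pos
          omega
        exact Subgroup.card_eq_one.1 h1
      · exact h
    have hV'pos : 0 < Nat.card V' := Nat.card_pos
    have hlt : Nat.card V' < n := by
      rw [← hn, hcardV]
      nlinarith
    obtain ⟨r', D', w', h1', h2', h3'⟩ := ih _ hlt V' rfl
      (fun a ha b hb => hVab a (hV'V ha) b (hV'V hb)) (fun a ha => hVp a (hV'V ha)) hV'inv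
    -- `C_W(h)` is `⊥` or `W`
    have hCW : ∀ h ∈ H, h ∉ Subgroup.centralizer (W : Set X) →
        W ⊓ Subgroup.centralizer ({h} : Set X) = ⊥ := by
      intro h hh hnc
      by_contra hne
      have hP : P (W ⊓ Subgroup.centralizer ({h} : Set X)) := by
        refine ⟨le_trans inf_le_left hWV, hne, ?_⟩
        intro h' hh' a ha0
        have ha := Subgroup.mem_inf.1 ha0
        refine Subgroup.mem_inf.2 ⟨hWinv h' hh' a ha.1, ?_⟩
        rw [Subgroup.mem_centralizer_iff]
        intro z hz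
        rw [Set.mem_singleton_iff.1 hz]
        have hah : h * a = a * h := (Subgroup.mem_centralizer_iff.1 ha.2) h (Set.mem_singleton h)
        have hhh' : h * h' = h' * h := hHab h hh h' hh'
        calc h * (h' * a * h'⁻¹) = (h * h') * a * h'⁻¹ := by group
          _ = (h' * h) * a * h'⁻¹ := by rw [hhh']
          _ = h' * (h * a) * h'⁻¹ := by group
          _ = h' * (a * h) * h'⁻¹ := by rw [hah]
          _ = h' * a * h'⁻¹ * (h' * h) * h'⁻¹ := by group
          _ = h' * a * h'⁻¹ * (h * h') * h'⁻¹ := by rw [hhh']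
          _ = h' * a * h'⁻¹ * h := by group
      have hle := hmin _ hP
      have hEq : W ⊓ Subgroup.centralizer ({h} : Set X) = W := by
        apply Subgroup.eq_of_le_of_card_ge inf_le_left hle
      apply hnc
      rw [Subgroup.mem_centralizer_iff]
      intro a ha
      have : a ∈ W ⊓ Subgroup.centralizer ({h} : Set X) := by rw [hEq]; exact ha
      exact ((Subgroup.mem_centralizer_iff.1 (Subgroup.mem_inf.1 this).2) h (Set.mem_singleton h)).symm
    have hfix : ∀ h ∈ H, ∀ a ∈ W, a ≠ 1 → h * a * h⁻¹ = a → h ∈ Subgroup.centralizer (W : Set X) := by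
      intro h hh a ha ha1 hfix
      by_contra hnc
      have := hCW h hh hnc
      have hmem : a ∈ W ⊓ Subgroup.centralizer ({h} : Set X) := by
        refine Subgroup.mem_inf.2 ⟨ha, ?_⟩
        rw [Subgroup.mem_centralizer_iff]
        intro z hz
        rw [Set.mem_singleton_iff.1 hz]
        calc h * a = h * a * h⁻¹ * h := by group
          _ = a * h := by rw [hfix]
      rw [this, Subgroup.mem_bot] at hmem
      exact ha1 hmem
    have hrel := relIndex_centralizer_add_one_le H W hW1 hWinv hfix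
    -- the new family
    refine ⟨r' + 1, Fin.cons (Subgroup.centralizer (W : Set X)) D', Fin.cons (Nat.card W) w', ?_, ?_, ?_⟩
    · intro i
      refine Fin.cases ?_ (fun i' => ?_) i
      · simpa using hrel
      · simpa using h1' i'
    · intro h hh hall
      have h0 : h ∈ Subgroup.centralizer (W : Set X) := by simpa using hall 0
      have hs : ∀ i', h ∈ D' i' := fun i' => by simpa using hall i'.succ
      have hc' := h2' h hh hs
      have hle : W ⊔ V' ≤ Subgroup.centralizer ({h} : Set X) := by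
        apply sup_le
        · intro a ha
          rw [Subgroup.mem_centralizer_iff]
          intro z hz
          rw [Set.mem_singleton_iff.1 hz]
          exact ((Subgroup.mem_centralizer_iff.1 h0) a ha).symm
        · intro a ha
          rw [Subgroup.mem_centralizer_iff]
          intro z hz
          rw [Set.mem_singleton_iff.1 hz]
          exact hc' a ha
      intro a ha
      rw [← hWsup] at ha
      exact (Subgroup.mem_centralizer_iff.1 (hle ha)) h (Set.mem_singleton h)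
    · intro h hh
      have hIH := h3' h hh
      -- `|C_V(h)| = |C_W(h)| |C_V'(h)|`
      have hS : ∀ a ∈ W, ∀ b ∈ V', a * b ∈ Subgroup.centralizer ({h} : Set X) →
          a ∈ Subgroup.centralizer ({h} : Set X) ∧ b ∈ Subgroup.centralizer ({h} : Set X) := by
        intro a ha b hb hab
        have hc : h * (a * b) = a * b * h := (Subgroup.mem_centralizer_iff.1 hab) h (Set.mem_singleton h)
        have e : (h * a * h⁻¹) * (h * b * h⁻¹) = a * b := by
          calc (h * a * h⁻¹) * (h * b * h⁻¹) = h * (a * b) * h⁻¹ := by group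
            _ = a * b * h * h⁻¹ := by rw [hc]
            _ = a * b := by group
        obtain ⟨e1, e2⟩ := eq_of_mul_eq_mul W V' hWV' (hWinv h hh a ha) ha (hV'inv h hh b hb) hb e
        constructor
        · rw [Subgroup.mem_centralizer_iff]
          intro z hz
          rw [Set.mem_singleton_iff.1 hz]
          calc h * a = h * a * h⁻¹ * h := by group
            _ = a * h := by rw [e1]
        · rw [Subgroup.mem_centralizer_iff]
          intro z hz
          rw [Set.mem_singleton_iff.1 hz]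
          calc h * b = h * b * h⁻¹ * h := by group
            _ = b * h := by rw [e2]
      have hcardC := card_sup_inf W V' (Subgroup.centralizer ({h} : Set X)) hWV' hcomm hS
      rw [hWsup] at hcardC
      rw [hcardC, Fin.prod_univ_succ]
      simp only [Fin.cons_zero, Fin.cons_succ]
      rw [hcardV, hIH]
      by_cases hc : h ∈ Subgroup.centralizer (W : Set X)
      · rw [if_pos hc]
        have hWC : W ⊓ Subgroup.centralizer ({h} : Set X) = W := by
          apply inf_eq_left.2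
          intro a ha
          rw [Subgroup.mem_centralizer_iff]
          intro z hz
          rw [Set.mem_singleton_iff.1 hz]
          exact ((Subgroup.mem_centralizer_iff.1 hc) a ha).symm
        rw [hWC]
        ring
      · rw [if_neg hc, hCW h hh hc, Subgroup.card_bot]
        ring

end Cfsg.Agent.Lib.H2.KGV
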