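import Mathlib
import Cfsg.Prelude.Def_Blocks
import Cfsg.Prelude.Def_BlockLocal
import Cfsg.Prelude.Def_BlockRank
import Cfsg.Agent.Lib.H2.BKCOVER

/-!
# S4640, piece 1 (COVER) in the exact signature of `tools/blueprints/S4640_sigs.lean` (helper2)
-/

set_option autoImplicit false

namespace Cfsg.Agent.Lib.H2.KK

section blocks
variable {G : Type*} [Group G] [Fintype G] {p : ℕ} [Fact p.Prime] {M : Ideal Cfsg.AlgInt}

/-- (COVER) `B` is the set of all irreducible characters of `G` lying over `b`, `G = NP`,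
`P ∩ N` is a defect group of `b`. -/
theorem cover_facts (hM : Cfsg.IsPModular p M) (N : Subgroup G) [N.Normal] [Fintype N]
    (hNi : ∃ k : ℕ, N.index = p ^ k) (b : Set (Cfsg.IrrCharacter N)) (hb : Cfsg.IsPBlock M b)
    (hstab : ∀ g : G, Cfsg.StabilizesBlock N b g) (B : Set (Cfsg.IrrCharacter G))
    (hB : Cfsg.IsPBlock M B)
    (hcov : ∃ χ ∈ B, ∃ θ ∈ b, Cfsg.classInner (fun n : N => (χ : G → ℂ) n) (θ : N → ℂ) ≠ 0)
    (P : Subgroup G) (hPD : Cfsg.IsDefectGroup p M B P) :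
    (∀ χ : Cfsg.IrrCharacter G, χ ∈ B ↔
      ∃ θ ∈ b, Cfsg.classInner (fun n : N => (χ : G → ℂ) n) (θ : N → ℂ) ≠ 0) ∧
    N ⊔ P = ⊤ ∧ Cfsg.IsDefectGroup p M b ((P ⊓ N).subgroupOf N) := by
  refine ⟨fun χ => ⟨fun hχ => ?_, fun h => ?_⟩, ?_⟩
  · exact Cfsg.Agent.Lib.H2.BK.cover_over N hM hNi b hb hstab B hB hcov χ hχ
  · obtain ⟨θ, hθ, hne⟩ := h
    exact Cfsg.Agent.Lib.H2.BK.mem_cover_of_over N hM hNi b hb hstab B hB hcov χ θ hθ hne
  · exact Cfsg.Agent.Lib.H2.BK.cover_defect N hM hNi b hb hstab B hB hcov P hPD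

end blocks

end Cfsg.Agent.Lib.H2.KK
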