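import Mathlib
import Cfsg.Agent.Lib.H2.KRDEFS
import Cfsg.Agent.Lib.H25.KRK2
import Cfsg.Agent.Lib.H4.KRK3

/-!
# S4651, piece K4 `count_general` (helper2)

`|K| (|U| − l(U)) = ∑_{x ≠ 1 p-element} |C_K(x)| l(pull M U C_K(x))` for a union of blocks `U`: K2 + K3, cast from
`ℂ` to `ℤ`.
-/

set_option autoImplicit false

namespace Cfsg.Agent.Lib.H2.KR

open Cfsg
open scoped Classical

variable {K : Type*} [Group K] [Fintype K] {p : ℕ} {M : Ideal AlgInt}

/-- (K4 GA) the general count. -/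
theorem count_general (hM : IsPModular p M)
    (U : Set (IrrCharacter K)) (hU : ∀ ζ ∈ U, blockOf M (ζ : K → ℂ) ⊆ U)
    (Cx : K → Subgroup K) (hCx : ∀ x, Cx x = Subgroup.centralizer ({x} : Set K)) :
    (Nat.card K : ℤ) * ((Nat.card U : ℤ) - (blockRank p U : ℤ)) =
      ∑ x ∈ Finset.univ.filter (fun x : K => x ≠ 1 ∧ ∃ k : ℕ, orderOf x = p ^ k),
        (Nat.card (Cx x) : ℤ) * (blockRank p (pull M U (Cx x)) : ℤ) := by
  haveI : Fintype (IrrCharacter K) := Fintype.ofFinite _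
  have h1 := Cfsg.Agent.Lib.H25.KR.card_sub_rank_eq_sum_secSum hM U hU
  have h2 : ((Nat.card K : ℤ) * ((Nat.card U : ℤ) - (blockRank p U : ℤ)) : ℂ) =
      ((∑ x ∈ Finset.univ.filter (fun x : K => x ≠ 1 ∧ ∃ k : ℕ, orderOf x = p ^ k),
        (Nat.card (Cx x) : ℤ) * (blockRank p (pull M U (Cx x)) : ℤ) : ℤ) : ℂ) := by
    push_cast
    rw [h1]
    refine Finset.sum_congr rfl fun x hx => ?_
    rw [Finset.mem_filter] at hx
    exact Cfsg.Agent.Lib.H4.KR.sum_secSum_eq_card_mul_rank hM U hU hx.2.2 (Cx x) (hCx x)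
  exact_mod_cast h2

end Cfsg.Agent.Lib.H2.KR
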