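import Mathlib
import Cfsg.Agent.Lib.H2.KRDEFS
import Cfsg.Agent.Lib.H2.KRK4
import Cfsg.Agent.Lib.H12.KRK5
import Cfsg.Agent.Lib.H13.KRK6
import Cfsg.Agent.Lib.H23.BlockVanishP
import Cfsg.Agent.Lib.H23.BlockEquiv
import Cfsg.Agent.Lib.H23.BlockHom

/-!
# S4651, pieces K7a `count_top` and K7b `count_sub` (helper2)

`|H| (k(b_H) − l(b_H)) = ∑_{u ∈ H p-element, u ≠ 1} Φ(H ⊓ C_G(u))` for every subgroup `H`, and the same for `G`
itself, from the general count `count_general` (K4), the invariance of the rank under isomorphisms (K5) and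
the transitivity of block induction (K6).
-/

set_option autoImplicit false

namespace Cfsg.Agent.Lib.H2.KR

open Cfsg Cfsg.Agent.Lib.H23
open scoped Classical

variable {G : Type*} [Group G] [Fintype G] {p : ℕ} {M : Ideal AlgInt}

/-- A block containing `ζ` is the block of `ζ`. -/
theorem eq_blockOf_of_mem [M.IsPrime] {β : Set (IrrCharacter G)} (hβ : IsPBlock M β)
    {ζ : IrrCharacter G} (hζ : ζ ∈ β) : β = blockOf M (ζ : G → ℂ) := by
  obtain ⟨χ₁, rfl⟩ := hβ
  exact (blockOf_eq_of_mem hζ).symm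

/-- `bsub` is a union of blocks. -/
theorem bsub_closed [M.IsPrime] (H : Subgroup G) (b : Set (IrrCharacter G)) :
    ∀ ζ ∈ bsub M H b, blockOf M (ζ : H → ℂ) ⊆ bsub M H b := by
  haveI : Fintype H := Fintype.ofFinite H
  rintro ζ ⟨β, hζβ, hind⟩ ξ hξ
  have h1 : β = blockOf M (ζ : H → ℂ) := eq_blockOf_of_mem hind.1 hζβ
  exact ⟨β, h1 ▸ hξ, hind⟩

/-- (K7a LA) the count for `G` itself. -/
theorem count_top (hM : IsPModular p M) (b : Set (IrrCharacter G)) (hb : IsPBlock M b) :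
    (Nat.card G : ℤ) * ((Nat.card b : ℤ) - (blockRank p b : ℤ)) =
      ∑ u ∈ Finset.univ.filter (fun u : G => u ≠ 1 ∧ ∃ k : ℕ, orderOf u = p ^ k),
        Phi p M b (Subgroup.centralizer ({u} : Set G)) := by
  haveI hPr := isPrime_of_isPModular hM
  have hU : ∀ ζ ∈ b, blockOf M (ζ : G → ℂ) ⊆ b := by
    intro ζ hζ
    rw [← eq_blockOf_of_mem hb hζ]
  rw [count_general hM b hU (fun x => Subgroup.centralizer ({x} : Set G)) (fun _ => rfl)]
  refine Finset.sum_congr rfl fun u _ => ?_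
  unfold Phi
  have hset : pull M b (Subgroup.centralizer ({u} : Set G)) =
      bsub M (Subgroup.centralizer ({u} : Set G)) b := by
    ext ψ
    constructor
    · rintro ⟨b', β, hψ, hind, hβ⟩
      obtain ⟨ζ, rfl⟩ := hind.2.1
      have hζ : ζ ∈ b := hβ (mem_blockOf_self ζ)
      rw [← eq_blockOf_of_mem hb hζ] at hind
      exact ⟨b', hψ, hind⟩
    · rintro ⟨β, hψ, hind⟩
      exact ⟨β, b, hψ, hind, subset_rfl⟩
  rw [hset]

/-- Re-indexing a sum over the elements of a subgroup. -/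
theorem sum_subgroup_reindex (H : Subgroup G) [Fintype H] (P : G → Prop) (Q : H → Prop)
    [DecidablePred Q] [DecidablePred fun u : G => P u ∧ u ∈ H] (hPQ : ∀ x : H, Q x ↔ P (x : G))
    (g : G → ℤ) :
    ∑ x ∈ Finset.univ.filter Q, g (x : G) =
      ∑ u ∈ Finset.univ.filter (fun u : G => P u ∧ u ∈ H), g u := by
  refine Finset.sum_bij' (fun x _ => (x : G)) (fun u hu => ⟨u, (Finset.mem_filter.mp hu).2.2⟩)
    ?_ ?_ ?_ ?_ ?_
  · intro x hx
    exact Finset.mem_filter.mpr ⟨Finset.mem_univ _, (hPQ x).1 (Finset.mem_filter.mp hx).2, x.2⟩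
  · intro u hu
    exact Finset.mem_filter.mpr ⟨Finset.mem_univ _,
      (hPQ ⟨u, (Finset.mem_filter.mp hu).2.2⟩).2 (Finset.mem_filter.mp hu).2.1⟩
  · intro x _
    rfl
  · intro u _
    rfl
  · intro x _
    rfl

/-- (K7b LA') the count for a subgroup. -/
theorem count_sub (hM : IsPModular p M) (b : Set (IrrCharacter G)) (hb : IsPBlock M b)
    (H : Subgroup G) :
    (Nat.card H : ℤ) * ((Nat.card (bsub M H b) : ℤ) - (blockRank p (bsub M H b) : ℤ)) =
      ∑ u ∈ Finset.univ.filter (fun u : G => (u ≠ 1 ∧ ∃ k : ℕ, orderOf u = p ^ k) ∧ u ∈ H),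
        Phi p M b (H ⊓ Subgroup.centralizer ({u} : Set G)) := by
  haveI : Fintype H := Fintype.ofFinite H
  haveI hPr := isPrime_of_isPModular hM
  set Cx : H → Subgroup H :=
    fun x => (H ⊓ Subgroup.centralizer ({(x : G)} : Set G)).subgroupOf H with hCxdef
  have hCx : ∀ x, Cx x = Subgroup.centralizer ({x} : Set H) := by
    intro x
    ext y
    simp only [hCxdef, Subgroup.mem_subgroupOf, Subgroup.mem_inf, SetLike.coe_mem, true_and,
      Subgroup.mem_centralizer_iff, Set.mem_singleton_iff, forall_eq]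
    constructor
    · intro h
      exact Subtype.ext h
    · intro h
      exact congrArg Subtype.val h
  rw [count_general hM (bsub M H b) (bsub_closed H b) Cx hCx]
  -- termwise
  have hterm : ∀ x : H, (∃ k : ℕ, orderOf x = p ^ k) →
      (Nat.card (Cx x) : ℤ) * (blockRank p (pull M (bsub M H b) (Cx x)) : ℤ) =
        Phi p M b (H ⊓ Subgroup.centralizer ({(x : G)} : Set G)) := by
    intro x hx
    have hLH : H ⊓ Subgroup.centralizer ({(x : G)} : Set G) ≤ H := inf_le_left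
    have key : ∀ C : Subgroup H, C = Subgroup.centralizer ({x} : Set H) →
        ∀ ξ₀ : IrrCharacter C, ∃ ζ₁ : IrrCharacter H,
          IsInducedBlock M C (blockOf M (ξ₀ : C → ℂ)) (blockOf M (ζ₁ : H → ℂ)) := by
      intro C hC
      subst hC
      intro ξ₀
      haveI : Fintype (Subgroup.centralizer ({x} : Set H)) := Fintype.ofFinite _
      exact exists_isInducedBlock_centralizer hM hx ξ₀
    have hdef := key (Cx x) (hCx x)
    have h1 := Cfsg.Agent.Lib.H13.KR.pull_bsub_eq hM b hb (H ⊓ Subgroup.centralizer ({(x : G)} : Set G)) H hLH hdef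
    have h2 : pull M (bsub M H b) (Cx x) =
        (irrEquiv (Subgroup.subgroupOfEquivOfLe hLH)) ''
          (bsub M (H ⊓ Subgroup.centralizer ({(x : G)} : Set G)) b) := h1
    rw [h2, Cfsg.Agent.Lib.H12.KR.blockRank_irrEquiv_image]
    unfold Phi
    have h3 : Nat.card (Cx x) = Nat.card (H ⊓ Subgroup.centralizer ({(x : G)} : Set G) : Subgroup G) :=
      Nat.card_congr (Subgroup.subgroupOfEquivOfLe hLH).toEquiv
    rw [h3]
  -- re-index
  have hPQ : ∀ x : H, (x ≠ 1 ∧ ∃ k : ℕ, orderOf x = p ^ k) ↔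
      ((x : G) ≠ 1 ∧ ∃ k : ℕ, orderOf (x : G) = p ^ k) := by
    intro x
    rw [Subgroup.orderOf_coe]
    constructor
    · rintro ⟨h1, h2⟩
      exact ⟨fun h => h1 (Subtype.ext h), h2⟩
    · rintro ⟨h1, h2⟩
      exact ⟨fun h => h1 (congrArg Subtype.val h), h2⟩
  rw [← sum_subgroup_reindex H (fun u : G => u ≠ 1 ∧ ∃ k : ℕ, orderOf u = p ^ k)
    (fun x : H => x ≠ 1 ∧ ∃ k : ℕ, orderOf x = p ^ k) hPQ
    (fun u => Phi p M b (H ⊓ Subgroup.centralizer ({u} : Set G)))]
  refine Finset.sum_congr ?_ fun x hx => ?_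
  · congr
  · rw [Finset.mem_filter] at hx
    exact hterm x hx.2.2

end Cfsg.Agent.Lib.H2.KR
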