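import Mathlib

/-!
# S4541 piece (E3) `k0_bounds` (helper2, 2nd seat): the arithmetic of Brauer's `k₀(B)` bound for `p = 2`.
Exact signature of `tools/blueprints/S4541_sigs.lean` (`Cfsg.Agent.Lib.H23.KZ.Sigs.k0_bounds`).
-/

set_option autoImplicit false

namespace Cfsg.Agent.Lib.H2.KZ

/-- (E3) the arithmetic: odd positive integers `A χ` (`χ ∈ K`) with `|K| ≤ 2^q A χ` and `∑ A χ ≤ 2^q l`. -/
theorem k0_bounds {ι : Type*} (K : Finset ι) (A : ι → ℕ) (q l : ℕ)
    (hodd : ∀ χ ∈ K, Odd (A χ)) (h1 : ∀ χ ∈ K, K.card ≤ 2 ^ q * A χ)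
    (h2 : ∑ χ ∈ K, A χ ≤ 2 ^ q * l) :
    (Odd (Nat.sqrt l) → K.card ≤ Nat.sqrt l * 2 ^ q) ∧
      (¬ Odd (Nat.sqrt l) → (Nat.sqrt l + 1) * K.card ≤ l * 2 ^ q) ∧
      (l ≤ 3 → K.card ≤ 2 ^ q) := by
  classical
  rcases K.eq_empty_or_nonempty with hK | hK
  · subst hK
    simp
  · obtain ⟨χ0, hχ0, hmin⟩ := K.exists_min_image A hK
    obtain ⟨α, hα⟩ : ∃ α, α = A χ0 := ⟨_, rfl⟩
    obtain ⟨k, hk⟩ : ∃ k, k = K.card := ⟨_, rfl⟩
    obtain ⟨s, hs⟩ : ∃ s, s = Nat.sqrt l := ⟨_, rfl⟩
    obtain ⟨Q, hQ⟩ : ∃ Q, Q = 2 ^ q := ⟨_, rfl⟩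
    have hαodd : Odd α := hα ▸ hodd χ0 hχ0
    have hk1 : k ≤ Q * α := by rw [hk, hQ, hα]; exact h1 χ0 hχ0
    have hk2 : k * α ≤ Q * l := by
      have e : k * α = ∑ _χ ∈ K, α := by
        rw [Finset.sum_const, smul_eq_mul, hk]
      rw [e, hQ]
      refine le_trans (Finset.sum_le_sum (fun χ hχ => ?_)) h2
      rw [hα]; exact hmin χ hχ
    have hs1 : s * s ≤ l := by rw [hs]; exact Nat.sqrt_le l
    have hs2 : l < (s + 1) * (s + 1) := by rw [hs]; exact Nat.lt_succ_sqrt l
    rw [← hk, ← hs, ← hQ]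
    have P1 : Odd s → k ≤ s * Q := by
      intro hsodd
      rcases Nat.lt_or_ge s α with hlt | hge
      · have hα2 : s + 2 ≤ α := by
          rcases hαodd with ⟨a, ha⟩
          rcases hsodd with ⟨b, hb⟩
          omega
        have hl : l ≤ s * (s + 2) := by nlinarith
        have h3 : k * (s + 2) ≤ (s * Q) * (s + 2) := by
          calc k * (s + 2) ≤ k * α := Nat.mul_le_mul_left _ hα2
            _ ≤ Q * l := hk2
            _ ≤ Q * (s * (s + 2)) := Nat.mul_le_mul_left _ hl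
            _ = (s * Q) * (s + 2) := by ring
        exact Nat.le_of_mul_le_mul_right h3 (by omega)
      · calc k ≤ Q * α := hk1
          _ ≤ Q * s := Nat.mul_le_mul_left _ hge
          _ = s * Q := mul_comm _ _
    have P2 : ¬ Odd s → (s + 1) * k ≤ l * Q := by
      intro hseven
      rw [Nat.not_odd_iff_even] at hseven
      rcases Nat.lt_or_ge s α with hlt | hge
      · calc (s + 1) * k ≤ α * k := Nat.mul_le_mul_right _ hlt
          _ = k * α := mul_comm _ _
          _ ≤ Q * l := hk2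
          _ = l * Q := mul_comm _ _
      · have hα2 : α + 1 ≤ s := by
          rcases hαodd with ⟨a, ha⟩
          rcases hseven with ⟨b, hb⟩
          omega
        have hk3 : k ≤ Q * (s - 1) := le_trans hk1 (Nat.mul_le_mul_left _ (by omega))
        have hs3 : (s + 1) * (s - 1) ≤ l := by
          have : (s + 1) * (s - 1) ≤ s * s := by
            obtain ⟨t, rfl⟩ : ∃ t, s = t + 1 := ⟨s - 1, by omega⟩
            simp only [Nat.add_sub_cancel]
            nlinarith
          exact le_trans this hs1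
        calc (s + 1) * k ≤ (s + 1) * (Q * (s - 1)) := Nat.mul_le_mul_left _ hk3
          _ = ((s + 1) * (s - 1)) * Q := by ring
          _ ≤ l * Q := Nat.mul_le_mul_right _ hs3
    refine ⟨P1, P2, ?_⟩
    intro hl3
    have hs_le : s ≤ 1 := by
      by_contra hcon
      have : 2 ≤ s := by omega
      nlinarith
    rcases Nat.eq_zero_or_pos s with h0 | hpos
    · have := P2 (by rw [h0]; decide)
      have hl0 : l = 0 := by
        rw [h0] at hs2; omega
      rw [h0, hl0] at this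
      simp at this
      rw [this]; exact Nat.zero_le _
    · have hs_eq : s = 1 := by omega
      have := P1 (by rw [hs_eq]; decide)
      rw [hs_eq, one_mul] at this
      exact this

end Cfsg.Agent.Lib.H2.KZ
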