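import Mathlib
import Cfsg.Agent.Lib.H2.L34I

set_option autoImplicit false

/-!
# The fixed points of `x` form a dihedral or quaternion group; the main theorem
-/

namespace Cfsg.Agent.Lib.H2.L34

open Subgroup

variable {T : Type*} [Group T] [Finite T] {ρ x : MulAut T}

omit [Finite T] in
theorem pow_four_eq (g : T) : g ^ 4 = (g * g) * (g * g) := by
  rw [show (4 : ℕ) = 2 + 2 from rfl, pow_add, pow_two]

namespace Sp

theorem fix_d8_or_q8 (S : Sp ρ) (X : XHyp ρ x) :
    Nonempty (fixSub x ≃* DihedralGroup 4) ∨ Nonempty (fixSub x ≃* QuaternionGroup 2) := by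
  obtain ⟨z0, z1, hz0, hz1, hz01, hxz0, hz1x, hfix⟩ := S.exists_z0 X
  obtain ⟨a, c, ha, hc, hac⟩ := S.exists_noncomm X
  have hcard := S.card_fix X
  have haa : a * a = 1 ∨ a * a = z0 := hfix _ (S.sq a) (by rw [map_mul, ha])
  have hcc : c * c = 1 ∨ c * c = z0 := hfix _ (S.sq c) (by rw [map_mul, hc])
  have hw : cm a c = z0 := by
    rcases hfix _ (S.comm a c) (by rw [rho_cm, ha, hc]) with e | e
    · exact absurd e hac
    · exact e
  have hz0sq : z0 * z0 = 1 := S.zsq z0 hz0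
  rw [cm_def] at hw
  -- a general transfer to the subtype
  have key8 : ∀ (r s : T) (hr : x r = r) (hs : x s = s), r ^ 4 = 1 → r ^ 2 ≠ 1 →
      s * r * s⁻¹ = r⁻¹ → (s * s = 1 → Nonempty (fixSub x ≃* DihedralGroup 4)) ∧
        (s * s = r ^ 2 → Nonempty (fixSub x ≃* QuaternionGroup 2)) := by
    intro r s hr hs h4 h2 hrs
    have e4 : (⟨r, hr⟩ : fixSub x) ^ 4 = 1 := Subtype.ext (by rw [Subgroup.coe_pow]; exact h4)
    have e2 : (⟨r, hr⟩ : fixSub x) ^ 2 ≠ 1 := by
      intro e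
      apply h2
      have := congrArg Subtype.val e
      rwa [Subgroup.coe_pow] at this
    have ers : (⟨s, hs⟩ : fixSub x) * ⟨r, hr⟩ * (⟨s, hs⟩ : fixSub x)⁻¹ = (⟨r, hr⟩ : fixSub x)⁻¹ :=
      Subtype.ext hrs
    constructor
    · intro hss
      exact d8_of hcard ⟨r, hr⟩ ⟨s, hs⟩ e4 e2 (Subtype.ext hss) ers
    · intro hss
      exact q8_of hcard ⟨r, hr⟩ ⟨s, hs⟩ e4 e2
        (Subtype.ext (by rw [Subgroup.coe_pow]; exact hss)) ers
  rcases haa with haa | haa
  · rcases hcc with hcc | hcc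
    · -- both involutions: rotation `a * c`
      left
      have hainv : a⁻¹ = a := inv_eq_of_mul_eq_one_left haa
      have hcinv : c⁻¹ = c := inv_eq_of_mul_eq_one_left hcc
      have hr2 : (a * c) * (a * c) = z0 := by
        rw [hainv, hcinv] at hw
        rw [← hw]; group
      have h4 : (a * c) ^ 4 = 1 := by
        rw [pow_four_eq, hr2, hz0sq]
      have h2 : (a * c) ^ 2 ≠ 1 := by rw [pow_two, hr2]; exact hz01
      have hrs : a * (a * c) * a⁻¹ = (a * c)⁻¹ := by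
        rw [mul_inv_rev, hainv, hcinv, ← mul_assoc, haa, one_mul]
      exact (key8 (a * c) a (by rw [map_mul, ha, hc]) ha h4 h2 hrs).1 haa
    · -- rotation `c`, reflection `a`
      left
      have h4 : c ^ 4 = 1 := by
        rw [pow_four_eq, hcc, hz0sq]
      have h2 : c ^ 2 ≠ 1 := by rw [pow_two, hcc]; exact hz01
      have hcinv : c⁻¹ = c * c * c := by
        apply inv_eq_of_mul_eq_one_left
        have : c * c * c * c = c ^ 4 := by rw [pow_four_eq]; group
        rw [this, h4]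
      have hrs : a * c * a⁻¹ = c⁻¹ := by
        have : a * c * a⁻¹ = (a * c * a⁻¹ * c⁻¹) * c := by group
        rw [this, hw, ← hcc, hcinv]
      exact (key8 c a hc ha h4 h2 hrs).1 haa
  · have h4 : a ^ 4 = 1 := by
      rw [pow_four_eq, haa, hz0sq]
    have h2 : a ^ 2 ≠ 1 := by rw [pow_two, haa]; exact hz01
    have hrs : c * a * c⁻¹ = a⁻¹ := by
      have h1 : c * a⁻¹ * c⁻¹ = a := by
        have : c * a⁻¹ * c⁻¹ = a⁻¹ * (a * c * a⁻¹ * c⁻¹) := by group
        rw [this, hw, ← haa]; group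
      have : c * a * c⁻¹ = (c * a⁻¹ * c⁻¹)⁻¹ := by group
      rw [this, h1]
    rcases hcc with hcc | hcc
    · left; exact (key8 a c ha hc h4 h2 hrs).1 hcc
    · right
      exact (key8 a c ha hc h4 h2 hrs).2 (by rw [pow_two, haa, hcc])

end Sp

/-- the main theorem of this development -/
theorem main (hT : Nat.card T = 64) (hna : ¬ IsMulCommutative T) (ρ x : MulAut T)
    (hρ : orderOf ρ = 3) (hx : orderOf x = 2) (hxr : x * ρ * x⁻¹ = ρ⁻¹)
    (hfp : ∀ y : T, ρ y = y → y = 1) :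
    Nonempty (T ≃* ↥(sylPSL : Subgroup (Matrix.ProjectiveSpecialLinearGroup (Fin 3)
      Cfsg.Agent.Lib.H3.F4.F4))) ∧
    (Nonempty (fixSub x ≃* DihedralGroup 4) ∨ Nonempty (fixSub x ≃* QuaternionGroup 2)) := by
  have hF := Fpf3.of_orderOf hρ hfp
  have S := sp_of hF hT hna
  have X := xhyp_of hF hx hxr
  refine ⟨?_, S.fix_d8_or_q8 X⟩
  obtain ⟨a, c, ha, hc, hw⟩ := S.exists_gens X
  obtain ⟨e1⟩ := (S.gens_of ha hc hw).nonempty_heis_equiv hT
  obtain ⟨e2⟩ := nonempty_heis_sylow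
  exact ⟨e1.symm.trans e2⟩

end Cfsg.Agent.Lib.H2.L34
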