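import Mathlib
import Cfsg.Prelude.Def_Blocks
import Cfsg.Prelude.Def_Characters
import Cfsg.Agent.Lib.H23.BlockDefectZero
import Cfsg.Agent.Lib.L0.PRegCongP

/-!
# S4756 piece DZ (helper2): defect zero implies vanishing on singular elements
-/

set_option autoImplicit false

namespace Cfsg.Agent.Lib.H2.MUL

open Cfsg

/-- DZ: an irreducible character of `s`-defect zero vanishes on `s`-singular elements. -/
theorem irr_eq_zero_of_pow_factorization_dvd {G : Type*} [Group G] [Finite G] (s : ℕ) (hs : s.Prime)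
    (χ : IrrCharacter G) (hd : s ^ (Nat.card G).factorization s ∣ charDegree (χ : G → ℂ))
    (g : G) (hg : s ∣ orderOf g) : (χ : G → ℂ) g = 0 := by
  classical
  letI : Fintype G := Fintype.ofFinite G
  have : Fact s.Prime := ⟨hs⟩
  obtain ⟨M, hM⟩ := Cfsg.Agent.Lib.L0.PRegP.exists_isPModular hs
  have hG0 : Nat.card G ≠ 0 := Nat.card_pos.ne'
  have hdvd := Cfsg.Agent.Lib.H23.charDegree_dvd_card (χ : G → ℂ) χ.2
  have hdpos := Cfsg.Agent.Lib.H23.charDegree_pos (χ : G → ℂ) χ.2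
  -- `s ∤ |G| / χ(1)`
  have hnd : ¬ s ∣ Nat.card G / charDegree (χ : G → ℂ) := by
    obtain ⟨q, hq⟩ := hdvd
    have hq' : Nat.card G / charDegree (χ : G → ℂ) = q := by
      rw [hq]; exact Nat.mul_div_cancel_left q hdpos
    rw [hq']
    intro hsq
    have h6 := Nat.pow_succ_factorization_not_dvd hG0 hs
    generalize (Nat.card G).factorization s = a at hd h6
    obtain ⟨d', hd'⟩ := hd
    obtain ⟨q', hq''⟩ := hsq
    apply h6
    rw [hq, hd', hq'', pow_succ]
    exact ⟨d' * q', by ring⟩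
  have hB := (Cfsg.Agent.Lib.H23.not_dvd_iff_blockOf_eq_singleton hM χ).1 hnd
  have h1 := Cfsg.Agent.Lib.H23.blockCoeff_eq_zero_of_dvd_orderOf hM χ g hg
  rw [hB, Cfsg.Agent.Lib.H23.blockCoeff_singleton] at h1
  have hG : (Nat.card G : ℂ)⁻¹ ≠ 0 := inv_ne_zero (Nat.cast_ne_zero.2 hG0)
  have h2 := (mul_eq_zero.1 h1).resolve_left hG
  have h3 := (mul_eq_zero.1 h2).resolve_left (Cfsg.Agent.Lib.H24.irr_one_ne_zero χ)
  have := congrArg (starRingEnd ℂ) h3
  simpa using this

end Cfsg.Agent.Lib.H2.MUL
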