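import Cfsg.Agent.Lib.H6.McLM.Base

set_option autoImplicit false

/-!
# S2047 (M(McL) = C3), piece BASEH: the subgroup `H = ⟨am, bm, cm⟩` carries the `U4(3)` data (helper2)
-/

namespace Cfsg.Agent.Lib.H2.McLM

open Cfsg.Agent.Lib.H6 Cfsg.Agent.Lib.H6.McLM

variable {G : Type} [Group G] {am bm cm dm : G}

/-- BASEH: the subgroup `H = ⟨am, bm, cm⟩` has order `3265920` (at most `540 * 6048` by the two `U4(3)` certificates
applied to `H` itself with trivial central subgroup, at least `|G| / 275` by the stage 3 certificate `McLM.mono_main`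
applied to `G` with `A = ⊥`), hence carries the `U4(3)` data -/
theorem baseH (B : Base4 am bm cm dm) : U43M.Base (aH am bm cm) (bH am bm cm) (cH am bm cm) := by
  have hfinG : Finite G := B.finite
  -- values of words in `H`
  have hval2 : ∀ w, ((U33M.wv (aH am bm cm) (bH am bm cm) w : ↥(HS am bm cm)) : G) =
      U33M.wv am bm w :=
    fun w => U43M.map_wv2 (HS am bm cm).subtype (aH am bm cm) (bH am bm cm) w
  have hval3 : ∀ w, ((U43M.wv (aH am bm cm) (bH am bm cm) (cH am bm cm) w : ↥(HS am bm cm)) : G) =
      U43M.wv am bm cm w :=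
    fun w => U43M.map_wv (HS am bm cm).subtype (aH am bm cm) (bH am bm cm) (cH am bm cm) w
  have hrel1 : ∀ w ∈ U43M.s1L, U33M.wv (aH am bm cm) (bH am bm cm) w = 1 := by
    intro w hw
    apply Subtype.ext
    rw [hval2]
    exact B.rel1 w hw
  have hrel2 : ∀ w ∈ U43M.Cert.exactL ++ (U43M.Cert.symL ++ U43M.Cert.cenL),
      U43M.wv (aH am bm cm) (bH am bm cm) (cH am bm cm) w = 1 := by
    intro w hw
    apply Subtype.ext
    rw [hval3]
    exact B.rel2 w hw
  have hgenH : Subgroup.closure {aH am bm cm, bH am bm cm, cH am bm cm} = ⊤ := by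
    have h := Subgroup.closure_closure_coe_preimage (k := ({am, bm, cm} : Set G))
    have hset : ({aH am bm cm, bH am bm cm, cH am bm cm} : Set ↥(HS am bm cm)) =
        ((↑) : ↥(Subgroup.closure ({am, bm, cm} : Set G)) → G) ⁻¹' {am, bm, cm} := by
      ext x
      simp only [Set.mem_insert_iff, Set.mem_singleton_iff]
      constructor
      · rintro (h | h | h)
        · left; rw [h]; rfl
        · right; left; rw [h]; rfl
        · right; right; rw [h]; rfl
      · rintro (h | h | h)
        · left; exact Subtype.ext h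
        · right; left; exact Subtype.ext h
        · right; right; exact Subtype.ext h
    rw [hset]
    exact h
  -- the lower bound: stage 3 on `G`
  have S3 : Setting am bm cm dm (⊥ : Subgroup G) :=
    { central := bot_le
      disj := fun x _ hx => Subgroup.mem_bot.mp hx
      exact := fun w hw => B.rel3 w (List.mem_append_left _ hw)
      rel := fun w hw => by rw [B.rel3 w (List.mem_append_right _ hw)]; exact one_mem _
      gen := B.gen }
  obtain ⟨_, hcardQ⟩ := mono_main S3
  have hcard_ge : 3265920 ≤ Nat.card ↥(HS am bm cm) := by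
    have h1 := Subgroup.card_eq_card_quotient_mul_card_subgroup (HS am bm cm)
    rw [B.card] at h1
    by_contra hlt
    push Not at hlt
    have hQ : Nat.card (G ⧸ HS am bm cm) ≤ 275 := hcardQ
    have : Nat.card (G ⧸ HS am bm cm) * Nat.card ↥(HS am bm cm) ≤ 275 * 3265919 :=
      Nat.mul_le_mul hQ (by omega)
    omega
  -- the upper bound: stages 1 and 2 on `H`
  obtain ⟨_, hcardK⟩ := U43M.card_closure_le (aH am bm cm) (bH am bm cm)
    (⊥ : Subgroup ↥(HS am bm cm)) bot_le (fun x _ hx => Subgroup.mem_bot.mp hx)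
    (fun w hw => hrel1 w (List.mem_append_left _ hw))
    (fun w hw => by rw [hrel1 w (List.mem_append_right _ hw)]; exact one_mem _)
  have S2 : U43M.Setting (aH am bm cm) (bH am bm cm) (cH am bm cm) (⊥ : Subgroup ↥(HS am bm cm)) :=
    { central := bot_le
      disj := fun x _ hx => Subgroup.mem_bot.mp hx
      exact := fun w hw => hrel2 w (List.mem_append_left _ hw)
      rel := fun w hw => by rw [hrel2 w (List.mem_append_right _ hw)]; exact one_mem _
      gen := hgenH }
  obtain ⟨hx, hy, -, -, _, _, hcardQ2⟩ := U43M.mono_main S2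
  have hx1 := Subgroup.mem_bot.mp hx
  have hy1 := Subgroup.mem_bot.mp hy
  have hXW : Nat.card ↥(Subgroup.closure
      {(U43M.wv (aH am bm cm) (bH am bm cm) (cH am bm cm) U43M.xW)⁻¹,
        (U43M.wv (aH am bm cm) (bH am bm cm) (cH am bm cm) U43M.yW)⁻¹}) = 1 := by
    rw [hx1, hy1]
    have : Subgroup.closure ({1, 1} : Set ↥(HS am bm cm)) = ⊥ := by
      rw [Subgroup.closure_eq_bot_iff]
      intro x hx
      simpa using hx
    rw [this]
    exact Subgroup.card_bot
  rw [hXW, mul_one] at hcardQ2
  have hcard_le : Nat.card ↥(HS am bm cm) ≤ 3265920 := by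
    rw [Subgroup.card_eq_card_quotient_mul_card_subgroup
      (Subgroup.closure {aH am bm cm, bH am bm cm})]
    calc _ ≤ 540 * 6048 := Nat.mul_le_mul hcardQ2 hcardK
      _ = 3265920 := by norm_num
  refine ⟨hrel1, hrel2, hgenH, le_antisymm hcard_le hcard_ge, ?_, ?_⟩
  · intro h
    exact B.a_ne (congrArg Subtype.val h)
  · intro h
    exact B.c_ne (congrArg Subtype.val h)

end Cfsg.Agent.Lib.H2.McLM
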