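import Cfsg.Agent.Lib.H6.McLM.Glue
import Cfsg.Prelude.Def_KGroupFacts

set_option autoImplicit false

/-!
# S2047 (M(McL) = C3), piece CORE4: the counting argument for the stage 3 certificate (helper2)
-/

namespace Cfsg.Agent.Lib.H2.McLM

open Cfsg.Agent.Lib.H6.McLM

section maps

variable {Γ Δ : Type*} [Group Γ] [Group Δ] (f : Γ →* Δ) (a b c d : Γ)

theorem map_gl4 (x : ℕ) : f (gl a b c d x) = gl (f a) (f b) (f c) (f d) x := by
  unfold gl
  split <;> simp

theorem map_wv4 (w : List ℕ) : f (wv a b c d w) = wv (f a) (f b) (f c) (f d) w := by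
  unfold wv
  rw [map_list_prod, List.map_map]
  congr 1
  apply List.map_congr_left
  intro x _
  exact map_gl4 f a b c d x

theorem map_closure3 : (Subgroup.closure ({a, b, c} : Set Γ)).map f =
    Subgroup.closure ({f a, f b, f c} : Set Δ) := by
  rw [MonoidHom.map_closure]
  congr 1
  ext y
  simp only [Set.mem_image, Set.mem_insert_iff, Set.mem_singleton_iff]
  constructor
  · rintro ⟨x, hx | hx | hx, rfl⟩
    · left; rw [hx]
    · right; left; rw [hx]
    · right; right; rw [hx]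
  · rintro (h | h | h)
    · exact ⟨a, Or.inl rfl, h.symm⟩
    · exact ⟨b, Or.inr (Or.inl rfl), h.symm⟩
    · exact ⟨c, Or.inr (Or.inr rfl), h.symm⟩

theorem map_closure4 : (Subgroup.closure ({a, b, c, d} : Set Γ)).map f =
    Subgroup.closure ({f a, f b, f c, f d} : Set Δ) := by
  rw [MonoidHom.map_closure]
  congr 1
  ext y
  simp only [Set.mem_image, Set.mem_insert_iff, Set.mem_singleton_iff]
  constructor
  · rintro ⟨x, hx | hx | hx | hx, rfl⟩
    · left; rw [hx]
    · right; left; rw [hx]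
    · right; right; left; rw [hx]
    · right; right; right; rw [hx]
  · rintro (h | h | h | h)
    · exact ⟨a, Or.inl rfl, h.symm⟩
    · exact ⟨b, Or.inr (Or.inl rfl), h.symm⟩
    · exact ⟨c, Or.inr (Or.inr (Or.inl rfl)), h.symm⟩
    · exact ⟨d, Or.inr (Or.inr (Or.inr rfl)), h.symm⟩

end maps

/-- CORE4: the counting argument for the stage 3 certificate -/
theorem core4 {Γ G : Type*} [Group Γ] [Group G] (σ : Γ →* G) (hs : Function.Surjective σ)
    (hG : Nat.card G = 898128000) (a b c d : Γ) (Z₀ : Subgroup Γ) [Finite Z₀]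
    (hZ : Z₀ ≤ σ.ker ⊓ Subgroup.center Γ)
    (hH : Nat.card (Subgroup.closure ({σ a, σ b, σ c} : Set G)) = 3265920)
    (hinj : ∀ x ∈ Subgroup.closure ({a, b, c} : Set Γ), σ x = 1 → x ∈ Z₀)
    (hex : ∀ w ∈ Cert.exactL, wv a b c d w ∈ Z₀)
    (hcen : ∀ w ∈ Cert.symL ++ Cert.cenL, wv a b c d w ∈ σ.ker ⊓ Subgroup.center Γ)
    (hgen : Subgroup.closure ({a, b, c, d} : Set Γ) = ⊤) :
    Finite Γ ∧ σ.ker = Z₀ := by
  have hZker : Z₀ ≤ σ.ker := hZ.trans inf_le_left
  have hZcen : Z₀ ≤ Subgroup.center Γ := hZ.trans inf_le_right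
  have : Z₀.Normal := by
    constructor
    intro n hn g
    have hc : n ∈ Subgroup.center Γ := hZcen hn
    have : g * n * g⁻¹ = n := by
      rw [(Subgroup.mem_center_iff.1 hc g), mul_assoc, mul_inv_cancel, mul_one]
    rw [this]
    exact hn
  let π : Γ →* Γ ⧸ Z₀ := QuotientGroup.mk' Z₀
  have hπs : Function.Surjective π := QuotientGroup.mk'_surjective Z₀
  let σb : Γ ⧸ Z₀ →* G := QuotientGroup.lift Z₀ σ (fun x hx => hZker hx)
  have hσb : ∀ x : Γ, σb (π x) = σ x := fun x => rfl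
  have hπ1 : ∀ x : Γ, π x = 1 ↔ x ∈ Z₀ := fun x => QuotientGroup.eq_one_iff x
  have hσbs : Function.Surjective σb := by
    intro g
    obtain ⟨x, rfl⟩ := hs g
    exact ⟨π x, hσb x⟩
  -- the setting in the quotient
  have hset : Setting (π a) (π b) (π c) (π d) (σb.ker ⊓ Subgroup.center (Γ ⧸ Z₀)) := by
    refine ⟨inf_le_right, ?_, ?_, ?_, ?_⟩
    · intro y hy hyA
      rw [← map_closure3 π a b c] at hy
      obtain ⟨x, hx, rfl⟩ := Subgroup.mem_map.1 hy
      have h1 : σ x = 1 := by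
        have := MonoidHom.mem_ker.1 hyA.1
        rwa [hσb] at this
      exact (hπ1 x).2 (hinj x hx h1)
    · intro w hw
      rw [← map_wv4 π a b c d w]
      exact (hπ1 _).2 (hex w hw)
    · intro w hw
      rw [← map_wv4 π a b c d w]
      have h := Subgroup.mem_inf.1 (hcen w hw)
      refine Subgroup.mem_inf.2 ⟨?_, ?_⟩
      · rw [MonoidHom.mem_ker, hσb]
        exact MonoidHom.mem_ker.1 h.1
      · rw [Subgroup.mem_center_iff]
        intro y
        obtain ⟨x, rfl⟩ := hπs y
        rw [← map_mul, ← map_mul, Subgroup.mem_center_iff.1 h.2 x]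
    · rw [← map_closure4 π a b c d, hgen, ← MonoidHom.range_eq_map]
      exact MonoidHom.range_eq_top.2 hπs
  obtain ⟨hfinQ, hcardQ⟩ := mono_main hset
  -- the subgroup `⟨ā, b̄, c̄⟩` maps isomorphically
  set Hb : Subgroup (Γ ⧸ Z₀) := Subgroup.closure {π a, π b, π c} with hHb
  have hinjH : Function.Injective (σb.comp Hb.subtype) := by
    rw [injective_iff_map_eq_one]
    rintro ⟨y, hy⟩ h1
    apply Subtype.ext
    show y = 1
    have h1' : σb y = 1 := h1
    rw [hHb, ← map_closure3 π a b c] at hy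
    obtain ⟨x, hx, rfl⟩ := Subgroup.mem_map.1 hy
    rw [hσb] at h1'
    exact (hπ1 x).2 (hinj x hx h1')
  have hrange : (σb.comp Hb.subtype).range = Subgroup.closure ({σ a, σ b, σ c} : Set G) := by
    rw [MonoidHom.range_eq_map, ← Subgroup.map_map, ← MonoidHom.range_eq_map, Subgroup.range_subtype,
      hHb, map_closure3 σb (π a) (π b) (π c)]
    rfl
  have hcardH : Nat.card Hb = 3265920 := by
    rw [← hH, ← hrange]
    exact Nat.card_congr (MonoidHom.ofInjective hinjH).toEquiv
  have : Finite Hb := Nat.finite_of_card_ne_zero (by rw [hcardH]; norm_num)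
  have : Finite (Γ ⧸ Z₀) :=
    Finite.of_equiv _ (Subgroup.groupEquivQuotientProdSubgroup (s := Hb)).symm
  have hcardG : Nat.card (Γ ⧸ Z₀) ≤ Nat.card G := by
    rw [Subgroup.card_eq_card_quotient_mul_card_subgroup Hb, hcardH, hG]
    calc Nat.card ((Γ ⧸ Z₀) ⧸ Hb) * 3265920 ≤ 275 * 3265920 := Nat.mul_le_mul_right _ hcardQ
      _ = 898128000 := by norm_num
  have hbij : Function.Bijective σb := hσbs.bijective_of_nat_card_le hcardG
  refine ⟨Finite.of_equiv _ (Subgroup.groupEquivQuotientProdSubgroup (s := Z₀)).symm, ?_⟩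
  apply le_antisymm _ hZker
  intro x hx
  have h1 : σb (π x) = σb 1 := by
    rw [hσb, map_one]
    exact MonoidHom.mem_ker.1 hx
  exact (hπ1 x).1 (hbij.1 h1)

end Cfsg.Agent.Lib.H2.McLM
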