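import Cfsg.Agent.Lib.H6.McLM.Stem

set_option autoImplicit false
set_option maxRecDepth 100000

/-!
# S2044 (M(Co2) = 1), piece LIFTS4 (helper2; architect helper6)

The proof of `Cfsg.Agent.Lib.H6.McLM.Base4.stem` (helper6, `Lib/H6/McLM/Stem.lean`) copied with its witnesses
`a b c d` exported.
-/

namespace Cfsg.Agent.Lib.H2.Co2M

open Subgroup
open Cfsg.Agent.Lib.H6 Cfsg.Agent.Lib.H6.McLM
open Cfsg.Agent.Lib.H17.M22M (pow_card_eq_one exists_lift_pow conj_eq_pow closure_lift_eq_top)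

theorem stem_lifts {G : Type} [Group G] {am bm cm dm : G} (B : Base4 am bm cm dm)
    (BH : U43M.Base (aH am bm cm) (bH am bm cm) (cH am bm cm)) {Γ : Type*} [Group Γ] [Finite Γ]
    (σ : Γ →* G) (hσ : Cfsg.IsStemExtension σ) :
    ∃ a b c d : Γ, σ a = am ∧ σ b = bm ∧ σ c = cm ∧ σ d = dm ∧
      (∀ w ∈ U43M.Cert.exactL ++ U43M.s1L, U43M.wv a b c w = 1) ∧
      (∀ w ∈ U43M.Cert.symL ++ U43M.Cert.cenL, ∀ i : Fin 3,
        U43M.wv a b c w * ![a, b, c] i = ![a, b, c] i * U43M.wv a b c w) ∧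
      d ^ 11 = 1 ∧ Subgroup.closure ({a, b, c, d} : Set Γ) = ⊤ ∧
      U43M.wv a b c U43M.xW = 1 ∧ (U43M.wv a b c U43M.yW) ^ 3 = 1 ∧
      σ.ker = Subgroup.zpowers (U43M.wv a b c U43M.yW) := by
  have hN := B.ker_pow σ hσ
  have hfinG := B.finite
  obtain ⟨L, τ, hτ, hτσ⟩ := Cfsg.Agent.Lib.H9.McLM.stem_restrict σ hσ (HS am bm cm) (perfectH BH)
  obtain ⟨hs, hc, hd⟩ := hσ
  obtain ⟨a0, b0, c0, ha0, hb0, hc0, hex0, -⟩ := BH.stem_lifts τ hτ
  -- the lifts of the first three generators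
  have ha : σ (a0 : Γ) = am := by rw [← hτσ a0, ha0]; rfl
  have hb : σ (b0 : Γ) = bm := by rw [← hτσ b0, hb0]; rfl
  have hc' : σ (c0 : Γ) = cm := by rw [← hτσ c0, hc0]; rfl
  set a : Γ := (a0 : Γ) with haa
  set b : Γ := (b0 : Γ) with hbb
  set c : Γ := (c0 : Γ) with hcc
  have hcoe : ∀ w : List ℕ, ((U43M.wv a0 b0 c0 w : ↥L) : Γ) = U43M.wv a b c w :=
    fun w => U43M.map_wv L.subtype a0 b0 c0 w
  have hexP : ∀ w ∈ U43M.Cert.exactL ++ U43M.s1L, U43M.wv a b c w = 1 := by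
    intro w hw
    rw [← hcoe w, hex0 w hw]
    rfl
  have hσ3 : ∀ w : List ℕ, σ (U43M.wv a b c w) = U43M.wv am bm cm w := by
    intro w
    rw [U43M.map_wv, ha, hb, hc']
  have hcenP : ∀ w ∈ U43M.Cert.symL ++ U43M.Cert.cenL, ∀ i : Fin 3,
      U43M.wv a b c w * ![a, b, c] i = ![a, b, c] i * U43M.wv a b c w := by
    intro w hw i
    have hk : U43M.wv a b c w ∈ σ.ker := by
      rw [MonoidHom.mem_ker, hσ3]
      exact B.rel2 w (List.mem_append_right _ hw)
    exact ((mem_center_iff.1 (hc hk)) _).symm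
  -- the lift of the fourth generator
  obtain ⟨d, hd', hd11⟩ := exists_lift_pow σ hs hN (by norm_num : Nat.Coprime 11 11664000) B.d11
  have hσ4 : ∀ w : List ℕ, σ (wv a b c d w) = wv am bm cm dm w := by
    intro w
    rw [map_wv, ha, hb, hc', hd']
  have hfrob : wv a b c d weL * d * (wv a b c d weL)⁻¹ = d ^ 3 :=
    conj_eq_pow σ hc hN (by norm_num : Nat.Coprime 11 11664000) hd11
      (by rw [map_mul, map_mul, map_inv, map_pow, hσ4, hd']; exact B.frob)
  -- the subgroup `Z₀`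
  obtain ⟨h12, h3, hmem⟩ := BH.mem_of_map_eq_one (HS am bm cm).subtype (HS am bm cm).subtype_injective
    σ a b c ha hb hc' hexP hcenP
  set X : Γ := (U43M.wv a b c U43M.xW)⁻¹ with hX
  set W : Γ := (U43M.wv a b c U43M.yW)⁻¹ with hW
  set Z₀ : Subgroup Γ := closure {X, W} with hZ₀
  have hXk : X ∈ σ.ker := by
    rw [MonoidHom.mem_ker, hX, map_inv, hσ3, B.rel2 U43M.xW (by decide), inv_one]
  have hWk : W ∈ σ.ker := by
    rw [MonoidHom.mem_ker, hW, map_inv, hσ3, B.rel2 U43M.yW (by decide), inv_one]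
  have hZker : Z₀ ≤ σ.ker := by
    rw [hZ₀, closure_le]
    intro g hg
    simp only [Set.mem_insert_iff, Set.mem_singleton_iff] at hg
    rcases hg with rfl | rfl
    · exact hXk
    · exact hWk
  have hZ : Z₀ ≤ σ.ker ⊓ center Γ := le_inf hZker (hZker.trans hc)
  have h3mem : ∀ w : List ℕ, U43M.wv a b c w ∈ closure ({a, b, c} : Set Γ) := fun w => wv3_mem a b c w
  -- the exact relators of stage 3 hold modulo `Z₀`
  have hex4 : ∀ w ∈ Cert.exactL, wv a b c d w ∈ Z₀ := by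
    intro w hw
    rcases exact_cases w hw with h | rfl | rfl | ⟨p, hp, rfl⟩
    · rw [wv_eq_wv3 a b c d w h]
      apply hmem _ (h3mem w)
      rw [hσ3, ← wv_eq_wv3 am bm cm dm w h]
      exact B.exact3 w hw
    · rw [wv_replicate6, hd11]
      exact one_mem _
    · rw [(frob_iff a b c d).2 hfrob]
      exact one_mem _
    · obtain ⟨hl1, hl2⟩ := cjL_lt p (List.mem_append_left _ hp)
      rw [cjW_val, wv_eq_wv3 a b c d p.1 hl1, wv_eq_wv3 a b c d p.2 hl2]
      have hG : dm⁻¹ * U43M.wv am bm cm p.1 * dm * (U43M.wv am bm cm p.2)⁻¹ = 1 := by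
        have := B.exact3 (cjW p) hw
        rwa [cjW_val, wv_eq_wv3 am bm cm dm p.1 hl1, wv_eq_wv3 am bm cm dm p.2 hl2] at this
      have hG2 : U43M.wv am bm cm p.2 = dm⁻¹ * U43M.wv am bm cm p.1 * dm := (mul_inv_eq_one.1 hG).symm
      apply Cfsg.Agent.Lib.H9.McLM.conj_mem σ hc Z₀ hZker hN (by norm_num : Nat.Coprime 7 11664000)
      · apply hmem _ (pow_mem (h3mem _) 7)
        rw [map_pow, hσ3]
        exact B.ord7 p hp
      · apply hmem _ (pow_mem (h3mem _) 7)
        rw [map_pow, hσ3, hG2]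
        have e : dm⁻¹ * U43M.wv am bm cm p.1 * dm = dm⁻¹ * U43M.wv am bm cm p.1 * dm⁻¹⁻¹ := by
          rw [inv_inv]
        rw [e, conj_pow, B.ord7 p hp, mul_one, mul_inv_cancel]
      · rw [map_mul, map_mul, map_inv, hσ3, hσ3, hd', hG2]
  have hcen4 : ∀ w ∈ Cert.symL ++ Cert.cenL, wv a b c d w ∈ σ.ker ⊓ center Γ := by
    intro w hw
    have hk : wv a b c d w ∈ σ.ker := by
      rw [MonoidHom.mem_ker, hσ4]
      exact B.rel3 w (List.mem_append_right _ hw)
    exact ⟨hk, hc hk⟩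
  have hgen : closure ({a, b, c, d} : Set Γ) = ⊤ :=
    closure_lift_eq_top σ hc hd {a, b, c, d} (by
      rw [Set.image_insert_eq, Set.image_insert_eq, Set.image_insert_eq, Set.image_singleton,
        ha, hb, hc', hd']
      exact B.gen)
  have hH : Nat.card (closure ({σ a, σ b, σ c} : Set G)) = 3265920 := by
    rw [ha, hb, hc']
    exact BH.card
  obtain ⟨-, hker⟩ := Cfsg.Agent.Lib.H2.McLM.core4 σ hs B.card a b c d Z₀ hZ hH hmem hex4 hcen4 hgen
  -- the fusion relations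
  have hfus : ∀ u v u' v' : List ℕ, (u, u') ∈ fusL → (v, v') ∈ fusL →
      (∀ x ∈ commW u v, x < 6) → (∀ x ∈ commW u' v', x < 6) →
      wv am bm cm dm (commW u v) = 1 →
      U43M.wv a b c (commW u v) = U43M.wv a b c (commW u' v') ∧
        U43M.wv am bm cm (commW u v) = 1 ∧ U43M.wv am bm cm (commW u' v') = 1 := by
    intro u v u' v' hu hv hl hl' hcomm
    have hk : ∀ p ∈ fusL, d⁻¹ * wv a b c d p.1 * d * (wv a b c d p.2)⁻¹ ∈ center Γ := by
      intro p hp
      apply hc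
      rw [MonoidHom.mem_ker, ← cjW_val, hσ4]
      exact B.fus p hp
    have hkc : wv a b c d u * wv a b c d v * (wv a b c d u)⁻¹ * (wv a b c d v)⁻¹ ∈ center Γ := by
      apply hc
      rw [MonoidHom.mem_ker, ← commW_val, hσ4]
      exact hcomm
    have e1 := comm_conj_eq d _ _ _ _ (hk (u, u') hu) (hk (v, v') hv) hkc
    rw [← commW_val, ← commW_val, wv_eq_wv3 a b c d _ hl, wv_eq_wv3 a b c d _ hl'] at e1
    have hkG : ∀ p ∈ fusL, dm⁻¹ * wv am bm cm dm p.1 * dm * (wv am bm cm dm p.2)⁻¹ ∈ center G := by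
      intro p hp
      rw [← cjW_val, B.fus p hp]
      exact one_mem _
    have hkcG : wv am bm cm dm u * wv am bm cm dm v * (wv am bm cm dm u)⁻¹ * (wv am bm cm dm v)⁻¹ ∈
        center G := by
      rw [← commW_val, hcomm]
      exact one_mem _
    have e2 := comm_conj_eq dm _ _ _ _ (hkG (u, u') hu) (hkG (v, v') hv) hkcG
    rw [← commW_val, ← commW_val, hcomm] at e2
    refine ⟨e1, ?_, ?_⟩
    · rw [← wv_eq_wv3 am bm cm dm _ hl]
      exact hcomm
    · rw [← wv_eq_wv3 am bm cm dm _ hl']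
      exact e2.symm
  have hval : ∀ w : List ℕ, (∀ x ∈ w, x < 6) → U43M.wv am bm cm w = 1 → ∀ e1 e2 t : ℕ,
      (e2 : ZMod 12) = 4 * (t : ZMod 12) →
      Cfsg.Agent.Lib.H17.MonoModel.checkWordM (w.map U43M.Model1.tabs) e1 540 = true →
      Cfsg.Agent.Lib.H17.MonoModel.checkWordM (w.map U43M.Model2.tabs) e2 540 = true →
      (U43M.wv a b c w)⁻¹ = X ^ e1 * W ^ t :=
    fun w hw hG e1 e2 t he h1 h2 =>
      word_val BH a b c hexP hcenP w hw (wvH_eq_one w hG) e1 e2 t he h1 h2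
  have hX9 : X ^ 9 = 1 := by
    obtain ⟨e, g1, g2⟩ := hfus fu1 fv1 fu1' fv1' (by decide) (by decide)
      (fcomm_lt _ (by decide)) (fcomm_lt _ (by decide)) B.fcomm1
    have v1 := hval _ (fcomm_lt _ (by decide)) g1 0 0 0 (by decide) f1_chk1 f1_chk2
    have v2 := hval _ (fcomm_lt _ (by decide)) g2 9 0 0 (by decide) f1'_chk1 f1'_chk2
    rw [e, v2] at v1
    simpa using v1
  have hX4 : X ^ 4 = 1 := by
    obtain ⟨e, g1, g2⟩ := hfus fu2 fv2 fu2' fv2' (by decide) (by decide)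
      (fcomm_lt _ (by decide)) (fcomm_lt _ (by decide)) B.fcomm2
    have v1 := hval _ (fcomm_lt _ (by decide)) g1 8 0 0 (by decide) f2_chk1 f2_chk2
    have v2 := hval _ (fcomm_lt _ (by decide)) g2 4 0 0 (by decide) f2'_chk1 f2'_chk2
    rw [e, v2] at v1
    simp only [pow_zero, mul_one] at v1
    have : X ^ 8 = X ^ 4 * X ^ 4 := by rw [← pow_add]
    rw [this] at v1
    exact (mul_eq_left.1 v1.symm)
  have hX1 : X = 1 := by
    have : X ^ 9 = X ^ 4 * X ^ 4 * X := by rw [← pow_add, ← pow_succ]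
    rw [this, hX4, one_mul, one_mul] at hX9
    exact hX9
  have hxW : U43M.wv a b c U43M.xW = 1 := by
    have := hX1
    rw [hX, inv_eq_one] at this
    exact this
  have hyW3 : (U43M.wv a b c U43M.yW) ^ 3 = 1 := by
    have := h3
    rw [hW, inv_pow, inv_eq_one] at this
    exact this
  have hkerW : σ.ker = zpowers W := by
    rw [hker, hZ₀, hX1, zpowers_eq_closure]
    apply le_antisymm
    · rw [closure_le]
      intro g hg
      simp only [Set.mem_insert_iff, Set.mem_singleton_iff] at hg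
      rcases hg with rfl | rfl
      · exact one_mem _
      · exact subset_closure rfl
    · exact closure_mono (by simp)
  refine ⟨a, b, c, d, ha, hb, hc', hd', hexP, hcenP, hd11, hgen, hxW, hyW3, ?_⟩
  rw [hkerW, hW, zpowers_inv]

end Cfsg.Agent.Lib.H2.Co2M
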