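import Cfsg.Agent.Lib.H26.MinIdxDefs
import Cfsg.Agent.Lib.H2.SLGen

/-!
# S2140 piece GEN (helper2): a subgroup of `SL(V)` containing all transvections is `⊤`
-/

set_option autoImplicit false

namespace Cfsg.Agent.Lib.H2.MinIdx

open Module MulAction Cfsg.Agent.Lib.H26.MinIdx

variable {F V : Type*} [Field F] [AddCommGroup V] [Module F V]

theorem gen_coord_ne {n : ℕ} (b : Basis (Fin n) F V) {i j : Fin n} (hij : i ≠ j) (c : F) :
    (c • b.coord j) (b i) = 0 := by
  rw [LinearMap.smul_apply, Basis.coord_apply, Basis.repr_self_apply, if_neg hij, smul_zero]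

theorem gen_toLin_transvection {n : ℕ} (b : Basis (Fin n) F V) {i j : Fin n} (hij : i ≠ j) (c : F) :
    Matrix.SpecialLinearGroup.toLin_equiv b (Matrix.SpecialLinearGroup.transvection hij c) =
      tv (c • b.coord j) (b i) (gen_coord_ne b hij c) := by
  ext x
  rw [tv_apply]
  show b.equivFun.symm (Matrix.mulVec (Matrix.transvection i j c) (b.equivFun x)) = _
  rw [Matrix.transvection, Matrix.add_mulVec, Matrix.one_mulVec, Matrix.single_mulVec_eq, map_add,
    LinearEquiv.symm_apply_apply, map_smul, Basis.equivFun_symm_apply]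
  congr 1
  rw [LinearMap.smul_apply, Basis.coord_apply, Basis.equivFun_apply, smul_eq_mul]
  congr 1
  rw [Finset.sum_eq_single i]
  · simp
  · intro k _ hk; simp [hk]
  · intro h; exact absurd (Finset.mem_univ i) h

/-- **S2140-GEN**.  A subgroup of `SL(V)` containing all transvections is everything. -/
theorem eq_top_of_forall_tv [Module.Finite F V] (M : Subgroup (SpecialLinearGroup F V))
    (hM : ∀ (f : Dual F V) (v : V) (h : f v = 0), tv f v h ∈ M) : M = ⊤ := by
  set n := finrank F V with hn
  let b : Basis (Fin n) F V := Module.finBasis F V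
  set Φ := Matrix.SpecialLinearGroup.toLin_equiv b with hΦ
  rw [eq_top_iff]
  intro g _
  by_cases h2 : 2 ≤ n
  · have : Nontrivial (Fin n) := Fin.nontrivial_iff_two_le.2 h2
    have key : ∀ A : Matrix.SpecialLinearGroup (Fin n) F, Φ A ∈ M := by
      intro A
      refine Cfsg.Agent.Lib.H2.SL_transvection_induction (fun A => Φ A ∈ M) ?_ ?_ A
      · intro i j hij c
        show Φ (Matrix.SpecialLinearGroup.transvection hij c) ∈ M
        rw [hΦ, gen_toLin_transvection]
        exact hM _ _ _
      · intro A B hA hB
        show Φ (A * B) ∈ M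
        rw [map_mul]
        exact M.mul_mem hA hB
    have := key (Φ.symm g)
    rwa [MulEquiv.apply_symm_apply] at this
  · have : Subsingleton (Fin n) := by
      rw [Fin.subsingleton_iff_le_one]; omega
    have : Φ.symm g = 1 := Subsingleton.elim _ _
    have hg : g = 1 := by
      rw [← MulEquiv.apply_symm_apply Φ g, this, map_one]
    rw [hg]; exact M.one_mem

end Cfsg.Agent.Lib.H2.MinIdx
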