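import Cfsg.Prelude.Def_Transfer
import Cfsg.Agent.Lib.H1.PGroupBasic
import Cfsg.Agent.Lib.H26.NGPNU
import Cfsg.Agent.Lib.H26.NGPC1A

set_option autoImplicit false
set_option linter.unusedSectionVars false

/-!
# S1904, piece 2AFIN: the special group of order 64 (helper2)
-/

namespace Cfsg.Agent.Lib.H2.NGP

open Cfsg.Agent.Lib.H26.NGP
open scoped commutatorElement

universe u

variable {X : Type u} [Group X] [Finite X]

/-- `U` has four elements -/
theorem USetup.card_eq_four {A : Subgroup (MulAut X)} {ρ : MulAut X} {z : X} {U : Subgroup X}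
    (h : USetup A ρ z U) : Nat.card U = 4 := by
  obtain ⟨d1, d2, d3, d4, d5, d6⟩ := h.distinct
  have hset : (U : Set X) = {1, z, ρ z, ρ (ρ z)} := by
    ext x
    simp only [SetLike.mem_coe, Set.mem_insert_iff, Set.mem_singleton_iff]
    exact h.memU x
  have h1 : Nat.card U = Set.ncard (U : Set X) := (Nat.card_coe_set_eq (U : Set X))
  rw [h1, hset, Set.ncard_insert_of_notMem, Set.ncard_insert_of_notMem, Set.ncard_insert_of_notMem,
    Set.ncard_singleton]
  · simp only [Set.mem_singleton_iff]
    exact d6.symm
  · simp only [Set.mem_insert_iff, Set.mem_singleton_iff, not_or]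
    exact ⟨d4.symm, d5.symm⟩
  · simp only [Set.mem_insert_iff, Set.mem_singleton_iff, not_or]
    exact ⟨d1.symm, d2.symm, d3.symm⟩

/-- **2AFIN** -/
theorem case2a_final (hX : IsPGroup 2 X) (hna : ¬ IsMulCommutative X) {A : Subgroup (MulAut X)}
    {ρ : MulAut X} {z : X} {U : Subgroup X} (hU : USetup A ρ z U)
    (hcard : Nat.card X = 64) (hZ : ∀ c : X, (∀ d : X, c * d = d * c) → c ∈ U)
    (hsq : ∀ d : X, d * d ∈ U) (hcm : ∀ a b : X, cm a b ∈ U)
    (hinv : ∀ t : X, t * t = 1 → t ∈ U) :
    Cfsg.IsSpecial 2 X ∧ Nat.card X = 64 ∧ Nat.card {x : X // orderOf x = 2} = 3 ∧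
      ∀ x : X, orderOf x = 2 → x ∈ Subgroup.center X := by
  have : Fact (Nat.Prime 2) := ⟨Nat.prime_two⟩
  -- the centre
  have hcen : Subgroup.center X = U := by
    apply le_antisymm
    · intro c hc
      apply hZ c
      intro d
      exact (Subgroup.mem_center_iff.1 hc d).symm
    · exact hU.central
  -- the derived subgroup
  have hcomle : commutator X ≤ U := by
    rw [commutator_def, Subgroup.commutator_le]
    intro a _ b _
    rw [commutatorElement_def]
    exact hcm a b
  have hchar : ∀ x : X, x ∈ commutator X → ρ x ∈ commutator X := by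
    intro x hx
    have hc : (commutator X).Characteristic := by
      rw [commutator_def]
      infer_instance
    have h1 := hc.fixed ρ
    have h2 : ρ⁻¹ (ρ x) ∈ commutator X := by
      rw [MulAut.inv_apply_self]
      exact hx
    have h3 := Subgroup.characteristic_iff_map_le.1 hc ρ
    exact h3 ⟨x, hx, rfl⟩
  have hcomne : commutator X ≠ ⊥ := by
    intro hbot
    apply hna
    refine ⟨⟨fun a b => ?_⟩⟩
    have h1 : ⁅a, b⁆ ∈ commutator X :=
      Subgroup.commutator_mem_commutator (Subgroup.mem_top a) (Subgroup.mem_top b)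
    rw [hbot, Subgroup.mem_bot, commutatorElement_def] at h1
    calc a * b = (a * b * a⁻¹ * b⁻¹) * (b * a) := by group
      _ = b * a := by rw [h1, one_mul]
  have hzc : z ∈ commutator X := by
    obtain ⟨u, hu1⟩ := (Subgroup.ne_bot_iff_exists_ne_one).1 hcomne
    have huU : (u : X) ∈ U := hcomle u.2
    rcases (hU.memU _).1 huU with e | e | e | e
    · exact absurd (Subtype.ext e) hu1
    · rw [← e]
      exact u.2
    · have h1 := hchar _ (hchar _ u.2)
      rw [e, hU.cube] at h1
      exact h1
    · have h1 := hchar _ u.2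
      rw [e, hU.cube] at h1
      exact h1
  have hcom : commutator X = U := by
    apply le_antisymm hcomle
    intro x hx
    rcases (hU.memU x).1 hx with rfl | rfl | rfl | rfl
    · exact Subgroup.one_mem _
    · exact hzc
    · exact hchar _ hzc
    · exact hchar _ (hchar _ hzc)
  -- the Frattini subgroup
  have hfrat : frattini X = U := by
    apply le_antisymm
    · apply Cfsg.Agent.Lib.H1.frattini_le_of_commutator_le_of_pow_mem (p := 2) U hcomle
      intro x
      rw [pow_two]
      exact hsq x
    · rw [← hcom]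
      exact Cfsg.Agent.Lib.H1.isPGroup_commutator_le_frattini hX
  have hinvc : ∀ t : X, t * t = 1 → t ∈ Subgroup.center X := by
    intro t ht
    rw [hcen]
    exact hinv t ht
  refine ⟨⟨hX, by rw [hfrat, hcen], by rw [hcom, hcen]⟩, hcard, ?_, ?_⟩
  · apply c1_count3
    · rw [hcen]
      exact USetup.card_eq_four hU
    · intro c hc
      rw [hcen] at hc
      exact hU.sq_eq_one c hc
    · exact hinvc
  · intro x hx
    apply hinvc
    have := pow_orderOf_eq_one x
    rw [hx, pow_two] at this
    exact this

end Cfsg.Agent.Lib.H2.NGP
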