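import Cfsg.Agent.Lib.H2.NGPKEY
import Cfsg.Agent.Lib.H26.NGPNU
import Cfsg.Agent.Lib.H8.NGPUP

set_option autoImplicit false
set_option linter.unusedSectionVars false

/-!
# S1904, piece BCENT: a maximal `A`-invariant normal abelian subgroup `B ⊋ U` is self-centralizing (helper2)
-/

namespace Cfsg.Agent.Lib.H2.NGP

open Cfsg.Agent.Lib.H26.NGP

universe u

variable {X : Type u} [Group X] [Finite X]

/-- `zpowers t ⊔ B` is normal and abelian when `t` centralizes the normal abelian `B` and is central modulo `B` -/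
theorem sup_zpowers_normal_ab (B : Subgroup X) (hBn : B.Normal) (hBab : Ab B) (t : X)
    (hct : ∀ b ∈ B, t * b = b * t) (hup : t ∈ upper B hBn) :
    (Subgroup.zpowers t ⊔ B).Normal ∧ Ab (Subgroup.zpowers t ⊔ B) := by
  have hcm : ∀ g : X, cm g t ∈ B := by
    intro g
    have h1 : cm g t = (cm t g)⁻¹ := by simp only [cm_def]; group
    rw [h1]
    exact B.inv_mem (hup g)
  have hconj : ∀ g : X, g * t * g⁻¹ = cm g t * t := fun g => by simp only [cm_def]; group
  constructor
  · constructor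
    intro n hn g
    obtain ⟨h, hh, u, hu, rfl⟩ := mem_sup_normal hBn hn
    obtain ⟨k, rfl⟩ := Subgroup.mem_zpowers_iff.mp hh
    have h1 : g * (t ^ k * u) * g⁻¹ = (g * t * g⁻¹) ^ k * (g * u * g⁻¹) := by
      rw [conj_zpow]
      group
    rw [h1, hconj]
    have hc : Commute (cm g t) t := (hct _ (hcm g)).symm
    rw [hc.mul_zpow]
    refine Subgroup.mul_mem _ (Subgroup.mul_mem _ ?_ ?_) ((le_sup_right : B ≤ _) (hBn.conj_mem u hu g))
    · exact (le_sup_right : B ≤ _) (B.zpow_mem (hcm g) k)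
    · exact (le_sup_left : Subgroup.zpowers t ≤ _) (Subgroup.zpow_mem_zpowers t k)
  · intro a ha b hb
    obtain ⟨a1, ha1, a2, ha2, rfl⟩ := mem_sup_normal hBn ha
    obtain ⟨b1, hb1, b2, hb2, rfl⟩ := mem_sup_normal hBn hb
    obtain ⟨k, rfl⟩ := Subgroup.mem_zpowers_iff.mp ha1
    obtain ⟨l, rfl⟩ := Subgroup.mem_zpowers_iff.mp hb1
    have c1 : Commute (t ^ k) (t ^ l * b2) :=
      Commute.mul_right (Commute.zpow_zpow_self t k l) (Commute.zpow_left (hct b2 hb2) k)
    have c2 : Commute a2 (t ^ l * b2) :=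
      Commute.mul_right (Commute.zpow_left (hct a2 ha2) l).symm (hBab a2 ha2 b2 hb2)
    exact (Commute.mul_left c1 c2).eq

/-- **BCENT** -/
theorem maxB_cent {A : Subgroup (MulAut X)} (hC : Ctx A) {ρ : MulAut X} {z : X} {U : Subgroup X}
    (hU : USetup A ρ z U) (B : Subgroup X) (hBn : B.Normal) (hBA : AInv A B) (hBab : Ab B)
    (hUB : U ≤ B) (hBU : ∃ b ∈ B, b ∉ U)
    (hmax : ∀ B' : Subgroup X, B'.Normal → AInv A B' → Ab B' → B ≤ B' → B' = B) :
    ∀ x : X, (∀ b ∈ B, x * b = b * x) → x ∈ B := by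
  intro x hx
  by_contra hxB
  -- the centralizer of `B`
  have hCn : (Subgroup.centralizer (B : Set X)).Normal := by
    have := hBn
    exact Subgroup.normal_centralizer
  have hmemC : ∀ y : X, y ∈ Subgroup.centralizer (B : Set X) ↔ ∀ b ∈ B, y * b = b * y := by
    intro y
    rw [Subgroup.mem_centralizer_iff]
    constructor
    · intro h b hb
      exact (h b hb).symm
    · intro h b hb
      exact (h b hb).symm
  have hCA : AInv A (Subgroup.centralizer (B : Set X)) := by
    intro a ha y hy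
    rw [hmemC] at hy ⊢
    intro b hb
    have h1 : a⁻¹ b ∈ B := hBA a⁻¹ (A.inv_mem ha) b hb
    have h2 := hy _ h1
    have h3 : a (y * a⁻¹ b) = a (a⁻¹ b * y) := by rw [h2]
    rw [map_mul, map_mul, MulAut.apply_inv_self] at h3
    exact h3
  have hBC : B ≤ Subgroup.centralizer (B : Set X) := by
    intro b hb
    rw [hmemC]
    intro b' hb'
    exact hBab b hb b' hb'
  have hxC : x ∈ Subgroup.centralizer (B : Set X) := (hmemC x).2 hx
  obtain ⟨d, hdC, hdup, hdB⟩ := Cfsg.Agent.Lib.H8.NGP.exists_upper_notMem hC.pg B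
    (Subgroup.centralizer (B : Set X)) hBn hCn hBC (fun hle => hxB (hle hxC))
  -- the subgroup `D`
  set D : Subgroup X := Subgroup.centralizer (B : Set X) ⊓ upper B hBn with hD
  have hDn : D.Normal := by
    have := hCn
    have := upper_normal B hBn
    exact Subgroup.normal_inf_normal _ _
  have hDA : AInv A D := by
    intro a ha y hy
    exact ⟨hCA a ha y hy.1, upper_ainv A B hBn hBA a ha y hy.2⟩
  have hBD : B ≤ D := fun b hb => ⟨hBC hb, le_upper B hBn hBab hb⟩
  have hdD : d ∈ D := ⟨hdC, hdup⟩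
  have hinv : ∀ t ∈ D, t * t = 1 → t ∈ U := by
    intro t ht htt
    obtain ⟨hTn, hTab⟩ := sup_zpowers_normal_ab B hBn hBab t ((hmemC t).1 ht.1) ht.2
    exact invol_mem_U hC.ne hU _ hTn hTab t
      ((le_sup_left : Subgroup.zpowers t ≤ _) (Subgroup.mem_zpowers t)) htt
  obtain ⟨-, -, h3⟩ := key hC.pg hU D (hUB.trans hBD) (fun y hy => hDA ρ hU.mem y hy) hinv
  rcases h3 with ⟨n, -, hH⟩ | ⟨-, -, hZ, -, -⟩
  · have hDB := hmax D hDn hDA hH.ab hBD
    rw [hDB] at hdD
    exact hdB hdD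
  · obtain ⟨b, hb, hbU⟩ := hBU
    apply hbU
    apply hZ b (hBD hb)
    intro d' hd'
    exact ((hmemC d').1 hd'.1 b hb).symm

end Cfsg.Agent.Lib.H2.NGP
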