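import Cfsg.Agent.Lib.H2.ATL
import Cfsg.Agent.Lib.H26.NGPDefs

set_option autoImplicit false
set_option linter.unusedSectionVars false

/-!
# S1904, piece KEY: transfer of Theorems K/P (`Cfsg.Agent.Lib.H2.AT`) to a `ρ`-invariant subgroup (helper2)
-/

namespace Cfsg.Agent.Lib.H2.NGP

open Cfsg.Agent.Lib.H26.NGP

universe u

variable {X : Type u} [Group X] [Finite X]

theorem pow_mem_of_inv {ρ : MulAut X} {D : Subgroup X} (hρD : ∀ x ∈ D, ρ x ∈ D) (k : ℕ) :
    ∀ x ∈ D, (ρ ^ k) x ∈ D := by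
  induction k with
  | zero => intro x hx; simpa using hx
  | succ k ih =>
    intro x hx
    rw [pow_succ, MulAut.mul_apply]
    exact ih _ (hρD x hx)

/-- **KEY** -/
theorem key (hX : IsPGroup 2 X) {A : Subgroup (MulAut X)} {ρ : MulAut X} {z : X} {U : Subgroup X}
    (hU : USetup A ρ z U) (D : Subgroup X) (hUD : U ≤ D)
    (hρD : ∀ x ∈ D, ρ x ∈ D) (hinv : ∀ t ∈ D, t * t = 1 → t ∈ U) :
    (∀ d ∈ D, ρ (ρ (ρ d)) = d) ∧ (∀ d ∈ D, ρ d = d → d = 1) ∧
    ((∃ n : ℕ, 1 ≤ n ∧ Homo D n) ∨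
     (¬ Ab D ∧ Nat.card D = 64 ∧ (∀ c ∈ D, (∀ d ∈ D, c * d = d * c) → c ∈ U) ∧
       (∀ d ∈ D, d * d ∈ U) ∧ ∀ a ∈ D, ∀ b ∈ D, cm a b ∈ U)) := by
  -- `D` is `ρ`-invariant in both directions
  have hK : ∀ y, y ∈ D ↔ ρ y ∈ D := by
    intro y
    refine ⟨hρD y, fun hy => ?_⟩
    obtain ⟨e, he⟩ := hU.pow
    have h3 : 1 ≤ 3 ^ e := Nat.one_le_pow _ _ (by norm_num)
    have h1 : (ρ ^ (3 ^ e - 1)) (ρ y) = y := by
      rw [← MulAut.mul_apply, ← pow_succ, Nat.sub_add_cancel h3, he, MulAut.one_apply]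
    rw [← h1]
    exact pow_mem_of_inv hρD _ _ hy
  have hzU : z ∈ U := (hU.memU z).2 (Or.inr (Or.inl rfl))
  set ρ' : MulAut D := QN.resA ρ D hK with hρ'
  set z' : D := ⟨z, hUD hzU⟩ with hz'
  have hK' : AT.KHyp ρ' z' := by
    refine ⟨hX.to_subgroup D, ?_, ?_, ?_, ?_, ?_, ?_⟩
    · obtain ⟨e, he⟩ := hU.pow
      refine ⟨e, ?_⟩
      ext y
      rw [QN.resA_pow, he]
      rfl
    · intro e
      exact hU.z1 (congrArg Subtype.val e)
    · exact Subtype.ext hU.zz
    · intro e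
      exact hU.ne (congrArg Subtype.val e)
    · exact Subtype.ext hU.cube
    · intro x hx
      have hx' : (x : X) * (x : X) = 1 := congrArg Subtype.val hx
      rcases (hU.memU _).1 (hinv _ x.2 hx') with e | e | e | e
      · exact Or.inl (Subtype.ext e)
      · exact Or.inr (Or.inl (Subtype.ext e))
      · exact Or.inr (Or.inr (Or.inl (Subtype.ext e)))
      · exact Or.inr (Or.inr (Or.inr (Subtype.ext e)))
  have hF : L34.Fpf3 ρ' := hK'.fpf3
  refine ⟨fun d hd => congrArg Subtype.val (hF.cube ⟨d, hd⟩), fun d hd hfix => ?_, ?_⟩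
  · have h1 := hF.fpf ⟨d, hd⟩ (Subtype.ext hfix)
    exact congrArg Subtype.val h1
  by_cases hab : Ab D
  · -- the abelian case
    left
    have hc : ∀ a b : D, a * b = b * a := fun a b => Subtype.ext (hab a a.2 b b.2)
    obtain ⟨n, x, hn, hx, hA, hB, hcard, -⟩ := hK'.abelian_structure hc
    refine ⟨n, hn, hab, hcard, (x : X), ρ (x : X), x.2, hρD _ x.2, ?_, ?_, ?_, ?_⟩
    · have := congrArg Subtype.val hx
      simpa using this
    · have := congrArg Subtype.val hx
      rw [← map_pow]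
      simp only [Subgroup.coe_pow, Subgroup.coe_one] at this
      rw [this, map_one]
    · intro i j hij
      apply hA i j
      apply Subtype.ext
      simp only [Subgroup.coe_mul, Subgroup.coe_pow, Subgroup.coe_one]
      exact hij
    · intro b hb
      obtain ⟨i, j, hij⟩ := hB ⟨b, hb⟩
      refine ⟨i, j, ?_⟩
      have h2 : ((ρ' x : D) : X) = ρ (x : X) := rfl
      have := congrArg Subtype.val hij
      simp only [Subgroup.coe_mul, Subgroup.coe_pow, h2] at this
      exact this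
  · -- the nonabelian case
    right
    have hcard : Nat.card D = 64 := by
      rcases hK'.comm_or_card with hc | hc
      · exact absurd (fun a ha b hb => congrArg Subtype.val (hc ⟨a, ha⟩ ⟨b, hb⟩)) hab
      · exact hc
    have hna : ¬ IsMulCommutative D := by
      intro hcomm
      apply hab
      intro a ha b hb
      have := hcomm.is_comm.comm (⟨a, ha⟩ : D) ⟨b, hb⟩
      exact congrArg Subtype.val this
    have hS : L34.Sp ρ' := L34.sp_of hF hcard hna
    have hcen : ∀ c : D, c ∈ Subgroup.center D → (c : X) ∈ U := by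
      intro c hc
      have h1 := hS.zsq c hc
      exact hinv _ c.2 (congrArg Subtype.val h1)
    refine ⟨hab, hcard, ?_, ?_, ?_⟩
    · intro c hc hcd
      apply hcen ⟨c, hc⟩
      rw [Subgroup.mem_center_iff]
      intro d
      exact Subtype.ext (hcd d d.2).symm
    · intro d hd
      exact hcen _ (hS.sq ⟨d, hd⟩)
    · intro a ha b hb
      exact hcen _ (hS.comm ⟨a, ha⟩ ⟨b, hb⟩)

end Cfsg.Agent.Lib.H2.NGP
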