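import Mathlib
import Cfsg.Prelude.Def_Blocks
import Cfsg.Prelude.Def_CharExt
import Cfsg.Agent.Lib.H21.AD.Defs
import Cfsg.Agent.Lib.H28.NT.Defs
import Cfsg.Agent.Lib.H2.ADSOLCore
import Cfsg.Agent.Lib.H24.CharLinearMul

/-!
# S4892, piece (SOLF), core (helper2): a principal extension exists when `J / N` is a solvable `p'`-group

Base-free version of `H2.AD.sol_core`.  `exists_goodA_core` takes (KEYF) and (CONJA) as hypotheses;
`Cfsg/Agent/Lib/H2/NTSOLF.lean` plugs in the landed pieces.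
-/

set_option autoImplicit false
open Cfsg.Agent.Lib.H21.AD Cfsg.Agent.Lib.H28.NT

namespace Cfsg.Agent.Lib.H2.NT

variable {G : Type*} [Group G] [Finite G]

/-- an invariant extension on a normal subgroup of prime index extends further -/
theorem exists_ext_prime (N J₁ J : Subgroup G) (θ : G → ℂ) (hN1 : N ≤ J₁) (h1J : J₁ ≤ J)
    (hnorm : ∀ a ∈ J, ∀ b ∈ J₁, a * b * a⁻¹ ∈ J₁) (hprime : (J₁.relIndex J).Prime)
    (f₁ : G → ℂ) (hf₁ : IsExt N θ J₁ f₁)
    (hinv : ∀ t ∈ J, ∀ g ∈ J₁, f₁ (t⁻¹ * g * t) = f₁ g) :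
    ∃ f' : G → ℂ, IsExt N θ J f' ∧ ∀ g ∈ J₁, f' g = f₁ g := by
  classical
  set A : Subgroup ↥J := J₁.subgroupOf J with hA
  have hAn : A.Normal := ⟨fun n hn g => by
      rw [hA, Subgroup.mem_subgroupOf] at hn ⊢
      simpa using hnorm g g.2 n hn⟩
  have hcyc : IsCyclic (↥J ⧸ A) := by
    have : Fact (J₁.relIndex J).Prime := ⟨hprime⟩
    exact isCyclic_of_prime_card (p := J₁.relIndex J) rfl
  have hmemA : ∀ n : ↥A, ((n : ↥J) : G) ∈ J₁ := fun n => Subgroup.mem_subgroupOf.1 n.2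
  have hϑ : Cfsg.IsIrrCharacter ↥A (fun n : ↥A => f₁ ((n : ↥J) : G)) := by
    have := Cfsg.Agent.Lib.L0.isIrrCharacter_comp_of_surjective
      (Subgroup.subgroupOfEquivOfLe h1J).toMonoidHom (Subgroup.subgroupOfEquivOfLe h1J).surjective
      hf₁.1
    exact this
  obtain ⟨χ, hχirr, hχ⟩ := Cfsg.Agent.Lib.H23.exists_extension_of_cyclic A hcyc
    (fun n : ↥A => f₁ ((n : ↥J) : G)) hϑ (by
      intro g n
      have := hinv ((g : G)⁻¹) (J.inv_mem g.2) ((n : ↥J) : G) (hmemA n)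
      simpa using this)
  refine ⟨fun g => if h : g ∈ J then χ ⟨g, h⟩ else 0, ⟨?_, ?_⟩, ?_⟩
  · have : (fun y : ↥J => (fun g => if h : g ∈ J then χ ⟨g, h⟩ else 0) (y : G)) = χ := by
      funext y
      beta_reduce
      rw [dif_pos y.2]
    rw [this]
    exact hχirr
  · intro n hn
    have hnJ : n ∈ J := h1J (hN1 hn)
    beta_reduce
    rw [dif_pos hnJ]
    have := hχ ⟨⟨n, hnJ⟩, Subgroup.mem_subgroupOf.2 (hN1 hn)⟩
    rw [this]
    exact hf₁.2 n hn
  · intro g hg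
    have hgJ : g ∈ J := h1J hg
    beta_reduce
    rw [dif_pos hgJ]
    exact hχ ⟨⟨g, hgJ⟩, Subgroup.mem_subgroupOf.2 hg⟩

/-- twisting an extension on `J` by a linear twist trivial on `N` gives an extension -/
theorem isExt_mul_twist (N J₁ J : Subgroup G) (θ : G → ℂ) (hN1 : N ≤ J₁)
    (f' : G → ℂ) (hf' : IsExt N θ J f') (μ : G → ℂ) (hμ : IsTwist J₁ J μ) :
    IsExt N θ J (fun g => f' g * μ g) := by
  classical
  have h1 : μ 1 = 1 := hμ.2 1 J₁.one_mem
  let f0 : ↥J →* ℂ :=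
    { toFun := fun y => μ (y : G)
      map_one' := h1
      map_mul' := fun a b => hμ.1 _ a.2 _ b.2 }
  have := Cfsg.Agent.Lib.H24.isIrrCharacter_mul_hom (fun y : ↥J => f' y) hf'.1 f0.toHomUnits
  refine ⟨this, ?_⟩
  intro n hn
  show f' n * μ n = θ n
  rw [hf'.2 n hn, hμ.2 n (hN1 hn), mul_one]

/-- (SOLF), with (KEYF) and (CONJA) as hypotheses. -/
theorem exists_goodA_core {p : ℕ} (N : Subgroup G) [N.Normal] (θ : G → ℂ)
    (hirr : Cfsg.IsIrrCharacter N (fun n : N => θ n)) (hB : sSum p N θ ≠ 0)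
    (hkey : ∀ (J₁ J₂ : Subgroup G), N ≤ J₁ → J₁ ≤ J₂ → ¬ p ∣ N.relIndex J₂ →
      ∀ (f₁ f₂ : G → ℂ), GoodA p N θ J₁ f₁ → GoodA p N θ J₂ f₂ → ∀ g ∈ J₁, f₁ g = f₂ g)
    (hconj : ∀ (J : Subgroup G), N ≤ J → ∀ (f : G → ℂ), GoodA p N θ J f → ∀ t : G,
      GoodA p N θ (J.map (MulAut.conj t).toMonoidHom) (fun x => f (t⁻¹ * x * t))) :
    ∀ (n : ℕ) (J : Subgroup G), Nat.card J = n → N ≤ J → ¬ p ∣ N.relIndex J →
      Group.IsSolvable (↥J ⧸ N.subgroupOf J) → ∃ f : G → ℂ, GoodA p N θ J f := by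
  intro n
  induction n using Nat.strong_induction_on with
  | _ n ih =>
    intro J hcard hNJ hp hsol
    by_cases hJN : J ≤ N
    · -- `J = N`
      have hJ : J = N := le_antisymm hJN hNJ
      subst hJ
      exact ⟨θ, ⟨hirr, fun _ _ => rfl⟩, hB⟩
    · obtain ⟨J₁, hN1, h1J, hnorm, hprime, hab, hsol₁⟩ :=
        Cfsg.Agent.Lib.H2.AD.exists_sub N J hNJ hJN hsol
      have hmul : N.relIndex J₁ * J₁.relIndex J = N.relIndex J :=
        Subgroup.relIndex_mul_relIndex N J₁ J hN1 h1J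
      have hp₁ : ¬ p ∣ N.relIndex J₁ := fun h => hp (hmul ▸ Dvd.dvd.mul_right h _)
      have hlt : Nat.card J₁ < Nat.card J := by
        have h1 : J₁.relIndex J * Nat.card J₁ = Nat.card J := by
          have := Subgroup.relIndex_mul_relIndex ⊥ J₁ J bot_le h1J
          rw [Subgroup.relIndex_bot_left, Subgroup.relIndex_bot_left] at this
          rw [mul_comm]
          exact this
        have h2 : 2 ≤ J₁.relIndex J := hprime.two_le
        have h3 : 0 < Nat.card J₁ := Nat.card_pos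
        nlinarith
      obtain ⟨f₁, hgood₁⟩ := ih (Nat.card J₁) (hcard ▸ hlt) J₁ rfl hN1 hp₁ hsol₁
      -- `f₁` is `J`-invariant
      have hinv : ∀ t ∈ J, ∀ g ∈ J₁, f₁ (t⁻¹ * g * t) = f₁ g := by
        intro t ht
        have hg := hconj J₁ hN1 f₁ hgood₁ t
        have hmap : J₁.map (MulAut.conj t).toMonoidHom = J₁ := by
          ext x
          constructor
          · rintro ⟨y, hy, rfl⟩
            exact hnorm t ht y hy
          · intro hx
            refine ⟨t⁻¹ * x * t, ?_, ?_⟩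
            · have := hnorm t⁻¹ (J.inv_mem ht) x hx
              simpa using this
            · simp [MulAut.conj_apply, mul_assoc]
        rw [hmap] at hg
        exact hkey J₁ J₁ hN1 le_rfl hp₁ _ f₁ hg hgood₁
      -- extend to `J`
      obtain ⟨f', hf', hf'1⟩ := exists_ext_prime N J₁ J θ hN1 h1J hnorm hprime f₁ hgood₁.1 hinv
      -- correct by a twist of `J / J₁`
      have hf : sSum p J₁ f' ≠ 0 := by
        rw [Cfsg.Agent.Lib.H2.AD.sSum_congr p J₁ f' f₁ hf'1]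
        exact hgood₁.2
      obtain ⟨μ, hμ, hμs⟩ := Cfsg.Agent.Lib.H28.AD.ab p J₁ J h1J hnorm hab f' hf
      exact ⟨fun g => f' g * μ g, isExt_mul_twist N J₁ J θ hN1 f' hf' μ hμ, hμs⟩

end Cfsg.Agent.Lib.H2.NT
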