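import Mathlib
import Cfsg.Prelude.Def_Blocks
import Cfsg.Prelude.Def_CharExt
import Cfsg.Agent.Lib.H21.AD.Defs
import Cfsg.Agent.Lib.H28.NT.Defs
import Cfsg.Agent.Lib.H28.NT.KEYF
import Cfsg.Agent.Lib.H9.NTCONJ
import Cfsg.Agent.Lib.H2.NTSOLFCore

/-!
# S4892, piece (SOLF) (helper2): a principal extension exists on every `J ⊇ N` with `J / N` a solvable `p'`-group

`exists_goodA_core` with the landed (KEYF) `H28.NT.keyF` and (CONJA) `H9.NT.goodA_conj`.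
-/

set_option autoImplicit false
open Cfsg.Agent.Lib.H21.AD Cfsg.Agent.Lib.H28.NT

namespace Cfsg.Agent.Lib.H2.NT

variable {G : Type*} [Group G] [Finite G] {p : ℕ} {M : Ideal Cfsg.AlgInt} {N Q : Subgroup G} {θ : G → ℂ}

/-- (SOLF) base-free SOL (Alperin): a principal extension exists on every `J ⊇ N` with `J/N` a solvable `p'`-group. -/
theorem exists_goodA [N.Normal] (h : Hyp p M N Q θ) (J : Subgroup G) (hNJ : N ≤ J)
    (hpJ : ¬ p ∣ N.relIndex J) (hsol : Group.IsSolvable (↥J ⧸ N.subgroupOf J)) :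
    ∃ f : G → ℂ, GoodA p N θ J f :=
  exists_goodA_core N θ h.hirr h.hB
    (fun J₁ J₂ hN1 h12 hp2 f₁ f₂ h₁ h₂ => Cfsg.Agent.Lib.H28.NT.keyF h J₁ J₂ hN1 h12 hp2 f₁ f₂ h₁ h₂)
    (fun J hNJ f hf t => Cfsg.Agent.Lib.H9.NT.goodA_conj h J hNJ f hf t)
    (Nat.card J) J rfl hNJ hpJ hsol

end Cfsg.Agent.Lib.H2.NT
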