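import Mathlib

set_option autoImplicit false

/-!
# Nilpotent covers: a criterion for the absence of nilpotent minimal covers
-/

namespace Cfsg.Agent.Lib.H2.NilCover

variable {G G' : Type*} [Group G] [Group G']

/-- `K` contains the centraliser of each of its non-identity elements -/
def CC (K : Subgroup G) : Prop := ∀ z ∈ K, z ≠ 1 → ∀ a : G, Commute a z → a ∈ K

theorem CC.map {K : Subgroup G} (hK : CC K) (e : G ≃* G') : CC (K.map e.toMonoidHom) := by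
  intro z hz hz1 a ha
  rw [Subgroup.mem_map_equiv] at hz ⊢
  apply hK _ hz
  · intro h0
    apply hz1
    have := congrArg e h0
    rwa [MulEquiv.apply_symm_apply, map_one] at this
  · exact ha.map e.symm

theorem le_of_nilpotent {K : Subgroup G} (hK : CC K) {x : G} (hx : x ∈ K) (hx1 : x ≠ 1)
    (A : Subgroup G) [Group.IsNilpotent A] (hxA : x ∈ A) : A ≤ K := by
  have : Nontrivial A := ⟨⟨⟨x, hxA⟩, 1, fun h => hx1 (congrArg Subtype.val h)⟩⟩
  have hc := Group.IsNilpotent.center_ne_bot (G := A)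
  obtain ⟨z, hz1⟩ := (Subgroup.ne_bot_iff_exists_ne_one).1 hc
  have hzc : ∀ a : A, a * z.1 = z.1 * a := fun a => (Subgroup.mem_center_iff.1 z.2 a)
  have hzK : (z.1.1 : G) ∈ K := by
    apply hK x hx hx1
    have := hzc ⟨x, hxA⟩
    have h2 := congrArg Subtype.val this
    simp only [Subgroup.coe_mul] at h2
    exact h2.symm
  have hz1' : (z.1.1 : G) ≠ 1 := by
    intro h0
    apply hz1
    apply Subtype.ext
    apply Subtype.ext
    exact h0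
  intro a ha
  apply hK _ hzK hz1'
  have := hzc ⟨a, ha⟩
  have h2 := congrArg Subtype.val this
  simp only [Subgroup.coe_mul] at h2
  exact h2

/-- the configuration: two "tori" in a common proper subgroup -/
def HasTwoTori (G : Type*) [Group G] : Prop :=
  ∃ (K₁ K₂ B : Subgroup G) (x₁ x₂ : G), CC K₁ ∧ CC K₂ ∧ B ≠ ⊤ ∧ K₁ ≤ B ∧ K₂ ≤ B ∧
    x₁ ∈ K₁ ∧ x₂ ∈ K₂ ∧ x₁ ≠ 1 ∧ x₂ ≠ 1 ∧ x₂ ∉ K₁

theorem HasTwoTori.of_equiv (e : G ≃* G') (hG : HasTwoTori G) : HasTwoTori G' := by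
  obtain ⟨K₁, K₂, B, x₁, x₂, h1, h2, hB, h1B, h2B, hx1, hx2, hx11, hx21, hne⟩ := hG
  refine ⟨K₁.map e.toMonoidHom, K₂.map e.toMonoidHom, B.map e.toMonoidHom, e x₁, e x₂,
    h1.map e, h2.map e, ?_, Subgroup.map_mono h1B, Subgroup.map_mono h2B,
    Subgroup.mem_map_of_mem _ hx1, Subgroup.mem_map_of_mem _ hx2, ?_, ?_, ?_⟩
  · intro htop
    apply hB
    rw [eq_top_iff]
    intro g _
    have : e g ∈ B.map e.toMonoidHom := by rw [htop]; trivial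
    rw [Subgroup.mem_map_equiv, MulEquiv.symm_apply_apply] at this
    exact this
  · intro h0
    apply hx11
    exact e.injective (h0.trans (map_one e).symm)
  · intro h0
    apply hx21
    exact e.injective (h0.trans (map_one e).symm)
  · intro h0
    apply hne
    rw [Subgroup.mem_map_equiv, MulEquiv.symm_apply_apply] at h0
    exact h0

theorem HasTwoTori.no_cover (hG : HasTwoTori G) :
    ¬ ∃ 𝓐 : Finset (Subgroup G), ((∀ A ∈ 𝓐, A ≠ ⊤) ∧ (∀ g : G, ∃ A ∈ 𝓐, g ∈ A)) ∧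
      (∀ 𝓑 : Finset (Subgroup G), (∀ A ∈ 𝓑, A ≠ ⊤) ∧ (∀ g : G, ∃ A ∈ 𝓑, g ∈ A) →
        𝓐.card ≤ 𝓑.card) ∧ (∀ A ∈ 𝓐, Group.IsNilpotent ↥A) := by
  classical
  obtain ⟨K₁, K₂, B, x₁, x₂, h1, h2, hB, h1B, h2B, hx1, hx2, hx11, hx21, hne⟩ := hG
  rintro ⟨𝓐, ⟨hprop, hcov⟩, hmin, hnil⟩
  obtain ⟨A₁, hA₁, hxA₁⟩ := hcov x₁
  obtain ⟨A₂, hA₂, hxA₂⟩ := hcov x₂
  have := hnil A₁ hA₁
  have := hnil A₂ hA₂
  have hA₁K : A₁ ≤ K₁ := le_of_nilpotent h1 hx1 hx11 A₁ hxA₁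
  have hA₂K : A₂ ≤ K₂ := le_of_nilpotent h2 hx2 hx21 A₂ hxA₂
  have hne12 : A₂ ≠ A₁ := by
    intro h0
    rw [h0] at hxA₂
    exact hne (hA₁K hxA₂)
  have hA₂' : A₂ ∈ 𝓐.erase A₁ := Finset.mem_erase.2 ⟨hne12, hA₂⟩
  have hc1 : (𝓐.erase A₁).card = 𝓐.card - 1 := Finset.card_erase_of_mem hA₁
  have hc2 : ((𝓐.erase A₁).erase A₂).card = (𝓐.erase A₁).card - 1 :=
    Finset.card_erase_of_mem hA₂'
  have hpos : 0 < (𝓐.erase A₁).card := Finset.card_pos.2 ⟨A₂, hA₂'⟩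
  have hc3 := Finset.card_insert_le B ((𝓐.erase A₁).erase A₂)
  have hle := hmin (insert B ((𝓐.erase A₁).erase A₂)) ⟨?_, ?_⟩
  · omega
  · intro A hA
    rcases Finset.mem_insert.1 hA with rfl | hA'
    · exact hB
    · exact hprop A (Finset.mem_of_mem_erase (Finset.mem_of_mem_erase hA'))
  · intro g
    obtain ⟨A, hA, hgA⟩ := hcov g
    by_cases e1 : A = A₁
    · subst e1
      exact ⟨B, Finset.mem_insert_self _ _, h1B (hA₁K hgA)⟩
    · by_cases e2 : A = A₂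
      · subst e2
        exact ⟨B, Finset.mem_insert_self _ _, h2B (hA₂K hgA)⟩
      · exact ⟨A, Finset.mem_insert_of_mem (Finset.mem_erase.2 ⟨e2, Finset.mem_erase.2 ⟨e1, hA⟩⟩),
          hgA⟩

end Cfsg.Agent.Lib.H2.NilCover
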