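import Mathlib
import Cfsg.Prelude.Def_Solvable
import Cfsg.Prelude.Def_LieExceptional
import Cfsg.Agent.Lib.H1.PCore
import Cfsg.Agent.Lib.H2.BN5
import Cfsg.Agent.Lib.H18.OGDefs
import Cfsg.Agent.Lib.H18.OGABS

/-!
# S2936, the extras: normal subgroups of a group with a (B,N)-pair whose `B` is a `p`-group

`Γ` a group with a (B,N)-pair, `K ⊴ Γ`.  Call `n ∈ N` *good* if `B = (B ∩ nBn⁻¹)(B ∩ K)`, i.e. `B ∩ K` is
transitive on `BnB/B`.  If every cell `BnB` is good, or is pulled into a good cell of the same support by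
`n⁻¹ x n` for some `x ∈ B ∩ K`, then every subgroup `M` with `B ∩ K ≤ M ≤ K` is `K ∩ P_J` for a standard
parabolic `P_J`.  If moreover `B` is a `p`-group and for each `s` there is a nontrivial `Q_s ≤ B ∩ K` normalised by
`P_{S∖{s}}`, then every subgroup of `K` of `p'`-index with trivial `p`-core is `K` (`OvergroupProp p ↥K`).
Intended for `K = Γ'` with `Γ = G₂(2)`, `²F₄(2)`, `Sp₄(2)`.
-/

set_option autoImplicit false
set_option linter.unusedSectionVars false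
set_option linter.unusedVariables false

namespace Cfsg.Agent.Lib.H2.OGN

open Cfsg Cfsg.Agent.Lib.H2.BN Cfsg.Agent.Lib.H18.OG DoubleCoset

variable {Γ : Type*} [Group Γ]

/-- `n` is good for `K`: `B = (B ∩ nBn⁻¹)(B ∩ K)`. -/
def Good (P : BNPair Γ) (K : Subgroup Γ) (n : Γ) : Prop :=
  ∀ b ∈ P.B, ∃ d ∈ P.B, n⁻¹ * d * n ∈ P.B ∧ d⁻¹ * b ∈ K

/-- the witness condition for a bad cell -/
def Pulled (P : BNPair Γ) (K : Subgroup Γ) (n : Γ) : Prop :=
  ∃ x ∈ P.B ⊓ K, ∃ n' ∈ P.N, Good P K n' ∧ n⁻¹ * x * n ∈ C P n' ∧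
    ∀ J ⊆ P.S, n' ∈ P.parabolic J → n ∈ P.parabolic J

variable {P : BNPair Γ} {K : Subgroup Γ}

/-- criterion for goodness when `B ∩ K` has index at most two in `B` -/
theorem good_of_index_two {n d₀ : Γ} (hd₀ : d₀ ∈ P.B) (hn : n⁻¹ * d₀ * n ∈ P.B)
    (h2 : ∀ b ∈ P.B, b ∈ K ∨ d₀⁻¹ * b ∈ K) : Good P K n := by
  intro b hb
  rcases h2 b hb with h | h
  · exact ⟨1, P.B.one_mem, by simp, by simpa using h⟩
  · exact ⟨d₀, hd₀, hn, h⟩

/-- `B ∩ K` is transitive on the `K`-part of a good cell -/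
theorem good_trans [hK : K.Normal] {n g g' : Γ} (hn : Good P K n) (hg : g ∈ C P n) (hg' : g' ∈ C P n)
    (hgK : g ∈ K) (hgK' : g' ∈ K) : ∃ c ∈ P.B ⊓ K, ∃ c' ∈ P.B ⊓ K, g' = c * g * c' := by
  obtain ⟨b1, hb1, b2, hb2, rfl⟩ := mem_C_iff.1 hg
  obtain ⟨b3, hb3, b4, hb4, rfl⟩ := mem_C_iff.1 hg'
  obtain ⟨d, hd, hdn, hdK⟩ := hn (b3⁻¹ * b1) (P.B.mul_mem (P.B.inv_mem hb3) hb1)
  have hcB : b3 * d * b1⁻¹ ∈ P.B := P.B.mul_mem (P.B.mul_mem hb3 hd) (P.B.inv_mem hb1)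
  have hcK : b3 * d * b1⁻¹ ∈ K := by
    have h1 : (d⁻¹ * (b3⁻¹ * b1))⁻¹ ∈ K := K.inv_mem hdK
    have h2 := hK.conj_mem _ h1 b1
    have e : b1 * (d⁻¹ * (b3⁻¹ * b1))⁻¹ * b1⁻¹ = b3 * d * b1⁻¹ := by group
    rwa [e] at h2
  have hc'B : b2⁻¹ * (n⁻¹ * d * n)⁻¹ * b4 ∈ P.B :=
    P.B.mul_mem (P.B.mul_mem (P.B.inv_mem hb2) (P.B.inv_mem hdn)) hb4
  have e : b3 * n * b4 = (b3 * d * b1⁻¹) * (b1 * n * b2) * (b2⁻¹ * (n⁻¹ * d * n)⁻¹ * b4) := by group
  have hc'K : b2⁻¹ * (n⁻¹ * d * n)⁻¹ * b4 ∈ K := by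
    have e' : b2⁻¹ * (n⁻¹ * d * n)⁻¹ * b4 = (b1 * n * b2)⁻¹ * (b3 * d * b1⁻¹)⁻¹ * (b3 * n * b4) := by group
    rw [e']
    exact K.mul_mem (K.mul_mem (K.inv_mem hgK) (K.inv_mem hcK)) hgK'
  exact ⟨_, ⟨hcB, hcK⟩, _, ⟨hc'B, hc'K⟩, e⟩

/-- a subgroup `M ≥ B ∩ K` meeting the `K`-part of a good cell contains it -/
theorem mem_of_good [hK : K.Normal] {M : Subgroup Γ} (hBM : P.B ⊓ K ≤ M) {n m g : Γ} (hn : Good P K n)
    (hm : m ∈ M) (hmK : m ∈ K) (hmn : m ∈ C P n) (hgK : g ∈ K) (hgn : g ∈ C P n) : g ∈ M := by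
  obtain ⟨c, hc, c', hc', rfl⟩ := good_trans hn hmn hgn hmK hgK
  exact M.mul_mem (M.mul_mem (hBM hc) hm) (hBM hc')

variable (P) in
/-- the `B`-core of `M`: the intersection of the `B`-conjugates of `M` -/
def bcore (M : Subgroup Γ) : Subgroup Γ where
  carrier := {g | ∀ b ∈ P.B, b * g * b⁻¹ ∈ M}
  one_mem' := by
    intro b hb
    simp
  mul_mem' := by
    intro x y hx hy b hb
    have e : b * (x * y) * b⁻¹ = (b * x * b⁻¹) * (b * y * b⁻¹) := by group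
    rw [e]
    exact M.mul_mem (hx b hb) (hy b hb)
  inv_mem' := by
    intro x hx b hb
    have e : b * x⁻¹ * b⁻¹ = (b * x * b⁻¹)⁻¹ := by group
    rw [e]
    exact M.inv_mem (hx b hb)

theorem bcore_le (M : Subgroup Γ) : bcore P M ≤ M := by
  intro g hg
  have := hg 1 P.B.one_mem
  simpa using this

theorem conj_mem_bcore {M : Subgroup Γ} {g b : Γ} (hg : g ∈ bcore P M) (hb : b ∈ P.B) :
    b * g * b⁻¹ ∈ bcore P M := by
  intro b' hb'
  have e : b' * (b * g * b⁻¹) * b'⁻¹ = (b' * b) * g * (b' * b)⁻¹ := by group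
  rw [e]
  exact hg _ (P.B.mul_mem hb' hb)

variable (P) in
/-- the subgroup `(B-core of M) · B` -/
def bcoreB (M : Subgroup Γ) : Subgroup Γ where
  carrier := {g | ∃ m ∈ bcore P M, ∃ b ∈ P.B, g = m * b}
  one_mem' := ⟨1, one_mem _, 1, P.B.one_mem, by simp⟩
  mul_mem' := by
    rintro _ _ ⟨m, hm, b, hb, rfl⟩ ⟨m', hm', b', hb', rfl⟩
    refine ⟨m * (b * m' * b⁻¹), mul_mem hm (conj_mem_bcore hm' hb), b * b', P.B.mul_mem hb hb', ?_⟩
    group
  inv_mem' := by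
    rintro _ ⟨m, hm, b, hb, rfl⟩
    refine ⟨b⁻¹ * m⁻¹ * b⁻¹⁻¹, conj_mem_bcore (inv_mem hm) (P.B.inv_mem hb), b⁻¹, P.B.inv_mem hb, ?_⟩
    group

theorem B_le_bcoreB (M : Subgroup Γ) : P.B ≤ bcoreB P M := by
  intro b hb
  exact ⟨1, one_mem _, b, hb, by simp⟩

theorem bcore_le_bcoreB (M : Subgroup Γ) : bcore P M ≤ bcoreB P M := by
  intro m hm
  exact ⟨m, hm, 1, P.B.one_mem, by simp⟩

/-- **Classification of the subgroups between `B ∩ K` and `K`.** -/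
theorem eq_inf_parabolic [hK : K.Normal]
    (hgood : ∀ g : Γ, ∃ n ∈ P.N, g ∈ C P n ∧ (Good P K n ∨ Pulled P K n))
    (M : Subgroup Γ) (hBM : P.B ⊓ K ≤ M) (hMK : M ≤ K) :
    ∃ J ⊆ P.S, M = K ⊓ P.parabolic J := by
  -- the `K`-part of a good cell met by `M` lies in the `B`-core
  have key : ∀ n : Γ, Good P K n → ∀ m ∈ M, m ∈ C P n → ∀ g ∈ K, g ∈ C P n → g ∈ bcore P M := by
    intro n hn m hm hmn g hgK hgn b hb
    refine mem_of_good hBM hn hm (hMK hm) hmn (hK.conj_mem g hgK b) ?_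
    exact mul_right_mem_C (P.B.inv_mem hb) (mul_left_mem_C hb (by simpa [mul_assoc] using hgn))
  have hpar := eq_parabolic_of_le (P := P) (bcoreB P M) (B_le_bcoreB M)
  refine ⟨{s | s ∈ P.S ∧ s ∈ bcoreB P M}, fun s hs => hs.1, ?_⟩
  rw [← hpar]
  apply le_antisymm
  · intro m hm
    refine ⟨hMK hm, ?_⟩
    obtain ⟨n, hnN, hmn, hn | ⟨x, hx, n', hn'N, hn', hxn, hsupp⟩⟩ := hgood m
    · exact bcore_le_bcoreB M (key n hn m hm hmn m (hMK hm) hmn)
    · obtain ⟨b1, hb1, b2, hb2, rfl⟩ := mem_C_iff.1 hmn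
      -- the pulled element
      have hxM : b1 * x * b1⁻¹ ∈ M := by
        apply hBM
        exact ⟨P.B.mul_mem (P.B.mul_mem hb1 hx.1) (P.B.inv_mem hb1), hK.conj_mem x hx.2 b1⟩
      have hm' : (b1 * n * b2)⁻¹ * (b1 * x * b1⁻¹) * (b1 * n * b2) ∈ M :=
        M.mul_mem (M.mul_mem (M.inv_mem hm) hxM) hm
      have e : (b1 * n * b2)⁻¹ * (b1 * x * b1⁻¹) * (b1 * n * b2) = b2⁻¹ * (n⁻¹ * x * n) * b2 := by
        group
      rw [e] at hm'
      have hm'C : b2⁻¹ * (n⁻¹ * x * n) * b2 ∈ C P n' :=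
        mul_right_mem_C hb2 (mul_left_mem_C (P.B.inv_mem hb2) hxn)
      have h1 : b2⁻¹ * (n⁻¹ * x * n) * b2 ∈ bcoreB P M :=
        bcore_le_bcoreB M (key n' hn' _ hm' hm'C _ (hMK hm') hm'C)
      -- so `n'` lies in the parabolic, hence `n` does
      have h2 : n' ∈ bcoreB P M := by
        obtain ⟨c1, hc1, c2, hc2, hc⟩ := mem_C_iff.1 hm'C
        have e' : n' = c1⁻¹ * (b2⁻¹ * (n⁻¹ * x * n) * b2) * c2⁻¹ := by rw [hc]; group
        rw [e']
        exact mul_mem (mul_mem (inv_mem (B_le_bcoreB M hc1)) h1) (inv_mem (B_le_bcoreB M hc2))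
      rw [hpar] at h2
      have h3 := hsupp _ (fun s hs => hs.1) h2
      rw [← hpar] at h3
      exact mul_mem (mul_mem (B_le_bcoreB M hb1) h3) (B_le_bcoreB M hb2)
  · rintro g ⟨hgK, m, hm, b, hb, rfl⟩
    have hmM : m ∈ M := bcore_le M hm
    have hbK : b ∈ K := by
      have : b = m⁻¹ * (m * b) := by group
      rw [this]
      exact K.mul_mem (K.inv_mem (hMK hmM)) hgK
    exact M.mul_mem hmM (hBM ⟨hb, hbK⟩)

/-- support of `s t s⁻¹` in a (B,N)-pair of rank two -/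
theorem supp_conj {s t : Γ} (hs : s ∈ P.S) (ht : t ∈ P.S) (hne : s ≠ t)
    (hS : ∀ u ∈ P.S, u = s ∨ u = t) (hirr : s * t * s⁻¹ * t⁻¹ ∉ P.B) :
    ∀ J ⊆ P.S, s * t * s⁻¹ ∈ P.parabolic J → J = P.S := by
  intro J hJ hmem
  have hsJ : s ∈ J := by
    by_contra hsJ
    have hJt : J ⊆ {t} := by
      intro u hu
      rcases hS u (hJ hu) with rfl | rfl
      · exact absurd hu hsJ
      · rfl
    have h1 : s * t * s⁻¹ ∈ P.parabolic {t} := parabolic_mono hJt hmem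
    obtain ⟨m, hm, hmC⟩ := (mem_parabolic_iff (P := P) (Set.singleton_subset_iff.2 ht) _).1 h1
    have hmN : m ∈ P.N := closure_le_N (Set.singleton_subset_iff.2 ht) hm
    have hn'N : s * t * s⁻¹ ∈ P.N :=
      P.N.mul_mem (P.N.mul_mem (S_mem_N hs) (S_mem_N ht)) (P.N.inv_mem (S_mem_N hs))
    have he : Eqv P m (s * t * s⁻¹) := eqv_of_mem_C hmN hn'N hmC
    obtain ⟨l, hl, hle⟩ := exists_word_of_mem_closure' (P := P) (Set.singleton_subset_iff.2 ht) hm
    have hword : ∀ l : List Γ, (∀ x ∈ l, x = t) → l.prod ∈ P.B ∨ t⁻¹ * l.prod ∈ P.B := by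
      intro l
      induction l with
      | nil => intro _; left; simp
      | cons a l ih =>
        intro hl
        have ha : a = t := hl a (by simp)
        subst ha
        rcases ih (fun x hx => hl x (List.mem_cons_of_mem _ hx)) with h | h
        · right
          rw [List.prod_cons, inv_mul_cancel_left]
          exact h
        · left
          rw [List.prod_cons]
          have e : a * l.prod = (a * a) * (a⁻¹ * l.prod) := by group
          rw [e]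
          exact P.B.mul_mem (S_sq ht) h
    have hl' : ∀ x ∈ l, x = t := fun x hx => hl x hx
    -- `l.prod ≡ m ≡ s t s⁻¹`
    have he2 : Eqv P l.prod (s * t * s⁻¹) := hle.trans he
    rcases hword l hl' with h | h
    · -- `s t s⁻¹ ∈ B`
      have h3 : s * t * s⁻¹ ∈ P.B := by
        have : s * t * s⁻¹ = l.prod * (l.prod⁻¹ * (s * t * s⁻¹)) := by group
        rw [this]
        exact P.B.mul_mem h he2
      have h4 : t ∈ P.B := by
        apply mem_B_of_conj (P := P) (n := s⁻¹) (P.N.inv_mem (S_mem_N hs)) (S_mem_N ht)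
        simpa using h3
      exact S_not_mem_B ht h4
    · -- `t⁻¹ s t s⁻¹ ∈ B`
      have h3 : t⁻¹ * (s * t * s⁻¹) ∈ P.B := by
        have : t⁻¹ * (s * t * s⁻¹) = (t⁻¹ * l.prod) * (l.prod⁻¹ * (s * t * s⁻¹)) := by group
        rw [this]
        exact P.B.mul_mem h he2
      have h3N : t⁻¹ * (s * t * s⁻¹) ∈ P.N := P.N.mul_mem (P.N.inv_mem (S_mem_N ht)) hn'N
      have h4 := T_conj (P := P) (S_mem_N ht) h3 h3N
      have e : t * (t⁻¹ * (s * t * s⁻¹)) * t⁻¹ = s * t * s⁻¹ * t⁻¹ := by group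
      rw [e] at h4
      exact hirr h4
  have htJ : t ∈ J := by
    by_contra htJ
    have hJs : J ⊆ {s} := by
      intro u hu
      rcases hS u (hJ hu) with rfl | rfl
      · rfl
      · exact absurd hu htJ
    have h1 : s * t * s⁻¹ ∈ P.parabolic {s} := parabolic_mono hJs hmem
    have hsP : s ∈ P.parabolic {s} :=
      (le_sup_right : Subgroup.closure {s} ≤ P.parabolic {s}) (Subgroup.subset_closure rfl)
    have h2 : t ∈ P.parabolic {s} := by
      have : t = s⁻¹ * (s * t * s⁻¹) * s := by group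
      rw [this]
      exact mul_mem (mul_mem (inv_mem hsP) h1) hsP
    have h3 := mem_of_mem_parabolic (P := P) (Set.singleton_subset_iff.2 hs) ht h2
    exact hne h3.symm
  apply Set.Subset.antisymm hJ
  intro u hu
  rcases hS u hu with rfl | rfl
  · exact hsJ
  · exact htJ

/-- **S2936 for a normal subgroup of a group with a (B,N)-pair whose `B` is a `p`-group.** -/
theorem overgroupProp_of_bn_normal [Finite Γ] (p : ℕ) [Fact p.Prime] [hK : K.Normal]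
    (hB : IsPGroup p ↥P.B)
    (hgood : ∀ g : Γ, ∃ n ∈ P.N, g ∈ C P n ∧ (Good P K n ∨ Pulled P K n))
    (hQ : ∀ s ∈ P.S, ∃ Q : Subgroup Γ, Q ≤ P.B ⊓ K ∧ Q ≠ ⊥ ∧
      ∀ g ∈ P.parabolic (P.S \ {s}), ∀ x ∈ Q, g * x * g⁻¹ ∈ Q) :
    OvergroupProp p ↥K := by
  intro M hM hidx
  -- `U = B ∩ K` as a subgroup of `K`
  have hU : IsPGroup p ↥((P.B ⊓ K).subgroupOf K) := by
    have h1 : IsPGroup p ↥(P.B ⊓ K) := hB.to_le inf_le_left
    exact h1.comap_subtype
  obtain ⟨g, hg⟩ := og_exists_conj_le p ((P.B ⊓ K).subgroupOf K) hU M hidx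
  -- `M' = g⁻¹ M g ≥ U`
  set M' := M.map (MulAut.conj g⁻¹).toMonoidHom with hM'
  have hUM' : (P.B ⊓ K).subgroupOf K ≤ M' := by
    intro u hu
    refine ⟨g * u * g⁻¹, hg u hu, ?_⟩
    simp only [MulEquiv.coe_toMonoidHom, MulAut.conj_apply, inv_inv]
    group
  have hM'core : Cfsg.pCore p ↥M' = ⊥ :=
    og_pCore_eq_bot_of_mulEquiv p (MulEquiv.subgroupMap (MulAut.conj g⁻¹) M) hM
  -- it suffices that `M' = ⊤`
  suffices hM'top : M' = ⊤ by
    rw [eq_top_iff]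
    intro x _
    have hx : g⁻¹ * x * g ∈ M' := by rw [hM'top]; trivial
    obtain ⟨y, hy, hyx⟩ := hx
    simp only [MulEquiv.coe_toMonoidHom, MulAut.conj_apply, inv_inv] at hyx
    have : x = y := (mul_left_cancel (mul_right_cancel hyx)).symm
    rw [this]; exact hy
  -- the image of `M'` in `Γ`
  set MΓ := M'.map K.subtype with hMΓ
  have hMΓK : MΓ ≤ K := by
    rintro _ ⟨y, _, rfl⟩
    exact y.2
  have hBMΓ : P.B ⊓ K ≤ MΓ := by
    intro x hx
    refine ⟨⟨x, hx.2⟩, hUM' ?_, rfl⟩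
    rw [Subgroup.mem_subgroupOf]
    exact hx
  obtain ⟨J, hJ, hMJ⟩ := eq_inf_parabolic hgood MΓ hBMΓ hMΓK
  by_cases hJS : J = P.S
  · -- `M' = ⊤`
    rw [eq_top_iff]
    intro x _
    have hx : (x : Γ) ∈ MΓ := by
      rw [hMJ, hJS, parabolic_S]
      exact ⟨x.2, Subgroup.mem_top _⟩
    obtain ⟨y, hy, hyx⟩ := hx
    have : y = x := Subtype.ext hyx
    rw [← this]; exact hy
  · exfalso
    have hex : ∃ s ∈ P.S, s ∉ J := by
      by_contra hcon
      push Not at hcon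
      exact hJS (Set.Subset.antisymm hJ hcon)
    obtain ⟨s, hsS, hsJ⟩ := hex
    obtain ⟨Q, hQB, hQne, hQn⟩ := hQ s hsS
    have hJs : J ⊆ P.S \ {s} := by
      intro u hu
      refine ⟨hJ hu, ?_⟩
      rintro rfl
      exact hsJ hu
    -- `Q` as a subgroup of `M'`
    let φ : ↥M' →* Γ := K.subtype.comp M'.subtype
    have hφinj : Function.Injective φ := by
      intro a b hab
      exact Subtype.ext (Subtype.ext hab)
    have hφmem : ∀ y : ↥M', φ y ∈ P.parabolic (P.S \ {s}) := by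
      intro y
      have h1 : φ y ∈ MΓ := ⟨(y : ↥K), y.2, rfl⟩
      rw [hMJ] at h1
      exact parabolic_mono hJs h1.2
    have hQ'n : (Q.comap φ).Normal := by
      constructor
      intro n hn y
      rw [Subgroup.mem_comap] at hn ⊢
      rw [map_mul, map_mul, map_inv]
      exact hQn _ (hφmem y) _ hn
    have hQ'p : IsPGroup p ↥(Q.comap φ) :=
      (hB.to_le (hQB.trans inf_le_left)).comap_of_injective φ hφinj
    have hbot := og_eq_bot_of_normal_pGroup p hM'core (Q.comap φ) hQ'n hQ'p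
    apply hQne
    rw [eq_bot_iff]
    intro x hx
    rw [Subgroup.mem_bot]
    have hxM : x ∈ MΓ := hBMΓ (hQB hx)
    obtain ⟨y, hy, hyx⟩ := hxM
    have h1 : (⟨y, hy⟩ : ↥M') ∈ Q.comap φ := by
      rw [Subgroup.mem_comap]
      show K.subtype y ∈ Q
      rw [hyx]; exact hx
    rw [hbot, Subgroup.mem_bot] at h1
    have h2 : y = 1 := congrArg Subtype.val h1
    rw [← hyx, h2]
    rfl

end Cfsg.Agent.Lib.H2.OGN
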