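import Mathlib

/-!
# Order types: counting solutions of `x ^ d = 1`

`fc G d` is the number of solutions of `x ^ d = 1` in `G`.  It is multiplicative over
products, and two finite groups with the same `fc` have the same order type.
-/

namespace Cfsg.Agent.Lib.H2.OT

/-- number of solutions of `x ^ d = 1` -/
noncomputable def fc (G : Type*) [Monoid G] (d : ℕ) : ℕ := Nat.card {x : G // x ^ d = 1}

theorem fc_congr {G H : Type*} [Monoid G] [Monoid H] (e : G ≃* H) (d : ℕ) :
    fc G d = fc H d := by
  unfold fc
  refine Nat.card_congr (e.toEquiv.subtypeEquiv ?_)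
  intro a
  constructor
  · intro h
    show e a ^ d = 1
    rw [← map_pow, h, map_one]
  · intro h
    have h' : e a ^ d = 1 := h
    rw [← map_pow] at h'
    exact e.injective (by rw [h', map_one])

theorem fc_prod (G H : Type*) [Monoid G] [Monoid H] (d : ℕ) :
    fc (G × H) d = fc G d * fc H d := by
  unfold fc
  rw [← Nat.card_prod]
  refine Nat.card_congr ?_
  refine
    { toFun := fun x => (⟨x.1.1, by have := x.2; rw [Prod.ext_iff] at this; exact this.1⟩,
                          ⟨x.1.2, by have := x.2; rw [Prod.ext_iff] at this; exact this.2⟩)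
      invFun := fun y => ⟨(y.1.1, y.2.1), by
        rw [Prod.ext_iff]; exact ⟨y.1.2, y.2.2⟩⟩
      left_inv := fun x => rfl
      right_inv := fun y => rfl }

theorem fc_pi (ι : Type*) [Finite ι] (G : Type*) [Monoid G] (d : ℕ) :
    fc (ι → G) d = fc G d ^ Nat.card ι := by
  unfold fc
  rw [← Nat.card_fun]
  refine Nat.card_congr ?_
  refine
    { toFun := fun x i => ⟨x.1 i, by have := x.2; exact congrFun this i⟩
      invFun := fun y => ⟨fun i => (y i).1, by funext i; exact (y i).2⟩
      left_inv := fun x => rfl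
      right_inv := fun y => rfl }

theorem fc_fin_pi (m : ℕ) (G : Type*) [Monoid G] (d : ℕ) :
    fc (Fin m → G) d = fc G d ^ m := by
  rw [fc_pi, Nat.card_eq_fintype_card, Fintype.card_fin]

/-- number of elements of order `n` -/
noncomputable def oc (G : Type*) [Monoid G] (n : ℕ) : ℕ := Nat.card {x : G // orderOf x = n}

theorem fc_eq_sum_oc (G : Type*) [Group G] [Finite G] {d : ℕ} (hd : d ≠ 0) :
    fc G d = ∑ m ∈ d.divisors, oc G m := by
  classical
  have := Fintype.ofFinite G
  unfold fc oc
  have h1 : Nat.card {x : G // x ^ d = 1}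
      = (Finset.univ.filter (fun x : G => orderOf x ∈ d.divisors)).card := by
    rw [Nat.card_eq_fintype_card, Fintype.card_subtype]
    congr 1
    ext x
    simp only [Finset.mem_filter, Finset.mem_univ, true_and, Nat.mem_divisors]
    constructor
    · intro h; exact ⟨orderOf_dvd_of_pow_eq_one h, hd⟩
    · intro h; exact orderOf_dvd_iff_pow_eq_one.mp h.1
  rw [h1, Finset.card_eq_sum_card_fiberwise (f := fun x : G => orderOf x) (t := d.divisors)]
  · refine Finset.sum_congr rfl ?_
    intro m hm
    rw [Nat.card_eq_fintype_card, Fintype.card_subtype]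
    congr 1
    ext x
    simp only [Finset.mem_filter, Finset.mem_univ, true_and]
    constructor
    · intro h; exact h.2
    · intro h; exact ⟨h ▸ hm, h⟩
  · intro x hx
    simp only [Finset.coe_filter, Finset.mem_univ, true_and, Set.mem_ofPred_eq] at hx
    exact hx

/-- Equal numbers of solutions of `x ^ d = 1` for all `d` give equal order types. -/
theorem oc_eq_of_fc_eq (G H : Type*) [Group G] [Finite G] [Group H] [Finite H]
    (h : ∀ d, d ≠ 0 → fc G d = fc H d) (n : ℕ) : oc G n = oc H n := by
  induction n using Nat.strong_induction_on with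
  | _ n ih =>
    rcases Nat.eq_zero_or_pos n with rfl | hn
    · unfold oc
      have e1 : IsEmpty {x : G // orderOf x = 0} :=
        ⟨fun x => (orderOf_pos x.1).ne' x.2⟩
      have e2 : IsEmpty {x : H // orderOf x = 0} :=
        ⟨fun x => (orderOf_pos x.1).ne' x.2⟩
      rw [Nat.card_of_isEmpty, Nat.card_of_isEmpty]
    · have hG := fc_eq_sum_oc G hn.ne'
      have hH := fc_eq_sum_oc H hn.ne'
      rw [← Nat.cons_self_properDivisors hn.ne', Finset.sum_cons] at hG hH
      have hs : ∑ m ∈ n.properDivisors, oc G m = ∑ m ∈ n.properDivisors, oc H m := by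
        refine Finset.sum_congr rfl ?_
        intro m hm
        exact ih m (Nat.mem_properDivisors.mp hm).2
      have := h n hn.ne'
      omega

end Cfsg.Agent.Lib.H2.OT

namespace Cfsg.Agent.Lib.H2.OT

section cord
variable {K : Type*} [Monoid K] [DecidableEq K]

/-- iterate `y ↦ y * x` until `1` is hit; returns the number of steps, or `0` without fuel -/
def ordAux (x : K) : ℕ → K → ℕ → ℕ
  | 0, _, _ => 0
  | fuel + 1, y, k => if y = 1 then k else ordAux x fuel (y * x) (k + 1)

/-- computable order with search bound `B` (`0` if not found) -/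
def cord (B : ℕ) (x : K) : ℕ := ordAux x B x 1

theorem ordAux_spec (x : K) : ∀ (fuel : ℕ) (y : K) (k : ℕ), y = x ^ k → 0 < k →
    (∀ j, 0 < j → j < k → x ^ j ≠ 1) → ordAux x fuel y k ≠ 0 →
    x ^ (ordAux x fuel y k) = 1 ∧ ∀ j, 0 < j → j < ordAux x fuel y k → x ^ j ≠ 1 := by
  intro fuel
  induction fuel with
  | zero => intro y k _ _ _ h; exact absurd rfl h
  | succ f ih =>
    intro y k hy hk hmin hne
    unfold ordAux at hne ⊢
    by_cases h1 : y = 1
    · rw [if_pos h1] at hne ⊢
      exact ⟨by rw [← hy, h1], hmin⟩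
    · rw [if_neg h1] at hne ⊢
      refine ih (y * x) (k + 1) (by rw [hy, pow_succ]) (Nat.succ_pos k) ?_ hne
      intro j hj hjk
      rcases Nat.lt_succ_iff_lt_or_eq.mp hjk with h | h
      · exact hmin j hj h
      · rw [h, ← hy]; exact h1

theorem orderOf_eq_cord {B : ℕ} {x : K} (h : cord B x ≠ 0) : orderOf x = cord B x := by
  have := ordAux_spec x B x 1 (pow_one x).symm Nat.one_pos
    (fun j hj hj1 => absurd hj1 (by omega)) h
  rw [orderOf_eq_iff (Nat.pos_of_ne_zero h)]
  exact ⟨this.1, fun m hm hm0 => this.2 m hm0 hm⟩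

theorem pow_eq_one_iff_cord_dvd {B : ℕ} {x : K} (h : cord B x ≠ 0) (d : ℕ) :
    x ^ d = 1 ↔ cord B x ∣ d := by
  rw [← orderOf_eq_cord h, orderOf_dvd_iff_pow_eq_one]

end cord

end Cfsg.Agent.Lib.H2.OT
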