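import Mathlib
import Cfsg.Agent.Lib.H2.OT1

/-!
# The groups `C₇ ⋊_χ K`
-/

namespace Cfsg.Agent.Lib.H2.OT

open Multiplicative

abbrev U7 := (ZMod 7)ˣ
abbrev N7 := Multiplicative (ZMod 7)

/-- the units of `ZMod 7` acting on the (multiplicative copy of the) additive group -/
def act7 : U7 →* MulAut N7 where
  toFun u :=
    { toFun := fun n => ofAdd ((u : ZMod 7) * toAdd n)
      invFun := fun n => ofAdd (((u⁻¹ : U7) : ZMod 7) * toAdd n)
      left_inv := fun n => by
        show ofAdd (((u⁻¹ : U7) : ZMod 7) * ((u : ZMod 7) * toAdd n)) = n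
        rw [← mul_assoc, Units.inv_mul, one_mul]; rfl
      right_inv := fun n => by
        show ofAdd ((u : ZMod 7) * (((u⁻¹ : U7) : ZMod 7) * toAdd n)) = n
        rw [← mul_assoc, Units.mul_inv, one_mul]; rfl
      map_mul' := fun a b => by
        show ofAdd ((u : ZMod 7) * (toAdd a + toAdd b)) = _
        rw [mul_add]; rfl }
  map_one' := by
    ext n
    show ofAdd (((1 : U7) : ZMod 7) * toAdd n) = n
    rw [Units.val_one, one_mul]; rfl
  map_mul' := fun u v => by
    ext n
    show ofAdd (((u * v : U7) : ZMod 7) * toAdd n) = ofAdd ((u : ZMod 7) * ((v : ZMod 7) * toAdd n))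
    rw [Units.val_mul, mul_assoc]

theorem act7_apply (u : U7) (b : ZMod 7) : act7 u (ofAdd b) = ofAdd ((u : ZMod 7) * b) := rfl

/-- `C₇ ⋊_χ K` -/
abbrev Aff {K : Type*} [Group K] (χ : K →* U7) := N7 ⋊[act7.comp χ] K

variable {K : Type*} [Group K] (χ : K →* U7)

theorem aff_pow (b : ZMod 7) (k : K) (d : ℕ) :
    (⟨ofAdd b, k⟩ : Aff χ) ^ d
      = ⟨ofAdd ((∑ i ∈ Finset.range d, ((χ k : U7) : ZMod 7) ^ i) * b), k ^ d⟩ := by
  induction d with
  | zero =>
    refine SemidirectProduct.ext ?_ ?_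
    · simp
    · simp
  | succ d ih =>
    rw [pow_succ, ih]
    refine SemidirectProduct.ext ?_ ?_
    · rw [SemidirectProduct.mul_left]
      show ofAdd _ * (act7 (χ (k ^ d))) (ofAdd b) = _
      rw [act7_apply, map_pow, Units.val_pow_eq_pow_val, Finset.sum_range_succ, add_mul]
      rfl
    · rw [SemidirectProduct.mul_right, pow_succ]

theorem aff_pow_eq_one_iff (b : ZMod 7) (k : K) (d : ℕ) :
    (⟨ofAdd b, k⟩ : Aff χ) ^ d = 1 ↔
      k ^ d = 1 ∧ ((χ k = 1 ∧ (d : ZMod 7) * b = 0) ∨ χ k ≠ 1) := by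
  rw [aff_pow, SemidirectProduct.ext_iff]
  simp only [SemidirectProduct.one_left, SemidirectProduct.one_right]
  constructor
  · rintro ⟨h1, h2⟩
    refine ⟨h2, ?_⟩
    by_cases hc : χ k = 1
    · left
      refine ⟨hc, ?_⟩
      rw [hc] at h1
      simpa using h1
    · right; exact hc
  · rintro ⟨h2, h⟩
    refine ⟨?_, h2⟩
    rcases h with ⟨hc, h⟩ | hc
    · rw [hc]
      simp only [Units.val_one, one_pow, Finset.sum_const, Finset.card_range, nsmul_eq_mul, mul_one]
      rw [h]; rfl
    · have hc' : ((χ k : U7) : ZMod 7) - 1 ≠ 0 := by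
        intro h0
        apply hc
        ext
        rw [Units.val_one]
        exact sub_eq_zero.mp h0
      have hg := geom_sum_mul ((χ k : U7) : ZMod 7) d
      have hkd : ((χ k : U7) : ZMod 7) ^ d = 1 := by
        rw [← Units.val_pow_eq_pow_val, ← map_pow, h2, map_one, Units.val_one]
      rw [hkd, sub_self] at hg
      have : (∑ i ∈ Finset.range d, ((χ k : U7) : ZMod 7) ^ i) = 0 := by
        have : Fact (Nat.Prime 7) := ⟨by norm_num⟩
        rcases mul_eq_zero.mp hg with h | h
        · exact h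
        · exact absurd h hc'
      rw [this, zero_mul]; rfl


theorem card_mul_eq_zero (d : ℕ) :
    (Finset.univ.filter (fun b : ZMod 7 => (d : ZMod 7) * b = 0)).card = Nat.gcd d 7 := by
  have : Fact (Nat.Prime 7) := ⟨by norm_num⟩
  by_cases h : 7 ∣ d
  · have h0 : (d : ZMod 7) = 0 := (ZMod.natCast_eq_zero_iff d 7).mpr h
    rw [Nat.gcd_eq_right h]
    simp only [h0, zero_mul, Finset.filter_true]
    rfl
  · have h0 : (d : ZMod 7) ≠ 0 := fun h' => h ((ZMod.natCast_eq_zero_iff d 7).mp h')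
    have hg : Nat.gcd d 7 = 1 := by
      rw [Nat.gcd_comm]
      exact (Nat.Prime.coprime_iff_not_dvd (by norm_num)).mpr h
    rw [hg]
    have : (Finset.univ.filter (fun b : ZMod 7 => (d : ZMod 7) * b = 0)) = {0} := by
      ext b
      simp only [Finset.mem_filter, Finset.mem_univ, true_and, Finset.mem_singleton]
      constructor
      · intro hb
        rcases mul_eq_zero.mp hb with h' | h'
        · exact absurd h' h0
        · exact h'
      · intro hb; rw [hb, mul_zero]
    rw [this, Finset.card_singleton]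

/-- the number of solutions of `x ^ d = 1` in `C₇ ⋊_χ K` -/
theorem fc_aff [Finite K] (d : ℕ) :
    fc (Aff χ) d = Nat.gcd d 7 * Nat.card {k : K // k ^ d = 1 ∧ χ k = 1}
      + 7 * Nat.card {k : K // k ^ d = 1 ∧ χ k ≠ 1} := by
  classical
  have := Fintype.ofFinite K
  unfold fc
  have e : {g : Aff χ // g ^ d = 1} ≃
      {p : K × ZMod 7 // p.1 ^ d = 1 ∧ ((χ p.1 = 1 ∧ (d : ZMod 7) * p.2 = 0) ∨ χ p.1 ≠ 1)} :=
    { toFun := fun g => ⟨(g.1.right, toAdd g.1.left), by
        have h := g.2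
        have hg : g.1 = ⟨ofAdd (toAdd g.1.left), g.1.right⟩ := rfl
        rw [hg, aff_pow_eq_one_iff] at h
        exact h⟩
      invFun := fun p => ⟨⟨ofAdd p.1.2, p.1.1⟩, (aff_pow_eq_one_iff χ _ _ _).mpr p.2⟩
      left_inv := fun g => rfl
      right_inv := fun p => rfl }
  rw [Nat.card_congr e, Nat.card_eq_fintype_card, Fintype.card_subtype]
  rw [Nat.card_eq_fintype_card, Fintype.card_subtype, Nat.card_eq_fintype_card,
    Fintype.card_subtype]
  have hsplit : (Finset.univ.filter (fun p : K × ZMod 7 =>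
        p.1 ^ d = 1 ∧ ((χ p.1 = 1 ∧ (d : ZMod 7) * p.2 = 0) ∨ χ p.1 ≠ 1)))
      = ((Finset.univ.filter (fun k : K => k ^ d = 1 ∧ χ k = 1)) ×ˢ
          (Finset.univ.filter (fun b : ZMod 7 => (d : ZMod 7) * b = 0)))
        ∪ ((Finset.univ.filter (fun k : K => k ^ d = 1 ∧ χ k ≠ 1)) ×ˢ
          (Finset.univ : Finset (ZMod 7))) := by
    ext p
    simp only [Finset.mem_filter, Finset.mem_univ, true_and, Finset.mem_union,
      Finset.mem_product, and_true]
    tauto
  rw [hsplit, Finset.card_union_of_disjoint, Finset.card_product, Finset.card_product,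
    card_mul_eq_zero, Finset.card_univ, ZMod.card, mul_comm, mul_comm _ 7]
  rw [Finset.disjoint_left]
  intro p hp1 hp2
  simp only [Finset.mem_filter, Finset.mem_univ, true_and, Finset.mem_product, and_true] at hp1 hp2
  exact hp2.2 hp1.1.2

end Cfsg.Agent.Lib.H2.OT
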