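import Mathlib
import Cfsg.Agent.Lib.H2.OT1
import Cfsg.Agent.Lib.H2.OT2

/-!
# Computable tables for `fc`
-/

namespace Cfsg.Agent.Lib.H2.OT

section tables
variable {K : Type*} [Group K] [Fintype K] [DecidableEq K]

/-- computable count of the `k` with `k ^ d = 1` and `P k` -/
def cnt (B : ℕ) (P : K → Prop) [DecidablePred P] (d : ℕ) : ℕ :=
  (Finset.univ.filter (fun k : K => cord B k ∣ d ∧ P k)).card

theorem gcd_gcd_of_dvd {E M : ℕ} (hEM : E ∣ M) (d : ℕ) : Nat.gcd (Nat.gcd d M) E = Nat.gcd d E := by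
  rw [Nat.gcd_assoc, Nat.gcd_eq_right hEM]

theorem card_pow_eq_one_and (B E : ℕ) (P : K → Prop) [DecidablePred P]
    (h1 : ∀ k : K, cord B k ≠ 0 ∧ cord B k ∣ E) (d : ℕ) :
    Nat.card {k : K // k ^ d = 1 ∧ P k} = cnt B P (Nat.gcd d E) := by
  rw [Nat.card_eq_fintype_card, Fintype.card_subtype]
  unfold cnt
  congr 1
  ext k
  simp only [Finset.mem_filter, Finset.mem_univ, true_and]
  rw [pow_eq_one_iff_cord_dvd (h1 k).1, Nat.dvd_gcd_iff]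
  constructor
  · rintro ⟨h, hp⟩; exact ⟨⟨h, (h1 k).2⟩, hp⟩
  · rintro ⟨h, hp⟩; exact ⟨h.1, hp⟩

/-- table form of `fc K` -/
theorem fc_of_table (B E M : ℕ) (hE : E ≠ 0) (hEM : E ∣ M)
    (h1 : ∀ k : K, cord B k ≠ 0 ∧ cord B k ∣ E) (t : ℕ → ℕ)
    (h2 : ∀ e ∈ Nat.divisors E, cnt (K := K) B (fun _ => True) e = t e) (d : ℕ) :
    fc K d = t (Nat.gcd (Nat.gcd d M) E) := by
  rw [gcd_gcd_of_dvd hEM, ← h2 _ (Nat.mem_divisors.mpr ⟨Nat.gcd_dvd_right d E, hE⟩),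
    ← card_pow_eq_one_and B E _ h1]
  unfold fc
  refine Nat.card_congr (Equiv.subtypeEquivRight ?_)
  intro k; simp

/-- table form of `fc (C₇ ⋊_χ K)` -/
theorem fc_aff_of_table (χ : K →* U7) (B E M : ℕ) (hE : E ≠ 0) (hEM : E ∣ M) (h7 : 7 ∣ M)
    (h1 : ∀ k : K, cord B k ≠ 0 ∧ cord B k ∣ E) (a b : ℕ → ℕ)
    (h2 : ∀ e ∈ Nat.divisors E, cnt B (fun k : K => χ k = 1) e = a e ∧
      cnt B (fun k : K => χ k ≠ 1) e = b e) (d : ℕ) :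
    fc (Aff χ) d = Nat.gcd (Nat.gcd d M) 7 * a (Nat.gcd (Nat.gcd d M) E)
      + 7 * b (Nat.gcd (Nat.gcd d M) E) := by
  have hm := h2 _ (Nat.mem_divisors.mpr ⟨Nat.gcd_dvd_right d E, hE⟩)
  rw [gcd_gcd_of_dvd hEM, gcd_gcd_of_dvd h7, ← hm.1, ← hm.2,
    ← card_pow_eq_one_and B E _ h1, ← card_pow_eq_one_and B E _ h1, fc_aff]

end tables

end Cfsg.Agent.Lib.H2.OT
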