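import Mathlib

/-!
# Semidirect products and products: finiteness, solvability
-/

namespace Cfsg.Agent.Lib.H2.OT

open Multiplicative

section sdp
variable {N G : Type*} [Group N] [Group G] (φ : G →* MulAut N)

/-- decidable equality of a semidirect product that reduces well in the kernel -/
instance (priority := 2000) sdpDecEq [DecidableEq N] [DecidableEq G] : DecidableEq (N ⋊[φ] G) :=
  fun a b => decidable_of_iff (a.left = b.left ∧ a.right = b.right) SemidirectProduct.ext_iff.symm

/-- enumeration of a semidirect product -/
instance sdpFintype [Fintype N] [Fintype G] : Fintype (N ⋊[φ] G) :=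
  Fintype.ofEquiv (N × G) SemidirectProduct.equivProd.symm

theorem isSolvable_sdp [Group.IsSolvable N] [Group.IsSolvable G] : Group.IsSolvable (N ⋊[φ] G) :=
  Group.isSolvable_of_ker_le_range (SemidirectProduct.inl : N →* N ⋊[φ] G)
    (SemidirectProduct.rightHom : N ⋊[φ] G →* G)
    (le_of_eq SemidirectProduct.range_inl_eq_ker_rightHom.symm)

theorem not_isSolvable_sdp (h : ¬ Group.IsSolvable N) : ¬ Group.IsSolvable (N ⋊[φ] G) := by
  intro hs
  exact h (Group.isSolvable_of_isSolvable_injective
    (f := (SemidirectProduct.inl : N →* N ⋊[φ] G)) SemidirectProduct.inl_injective)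

end sdp

section pi
variable {ι : Type*} {X : Type*} [Group X]

theorem derivedSeries_pi_le (n : ℕ) :
    derivedSeries (ι → X) n ≤ Subgroup.pi Set.univ (fun _ : ι => derivedSeries X n) := by
  induction n with
  | zero =>
    intro f _ i _
    exact Subgroup.mem_top _
  | succ n ih =>
    rw [derivedSeries_succ]
    refine le_trans (Subgroup.commutator_mono ih ih) ?_
    exact Subgroup.commutator_pi_pi_le _ _

theorem isSolvable_pi [h : Group.IsSolvable X] : Group.IsSolvable (ι → X) := by
  obtain ⟨n, hn⟩ := h
  refine ⟨⟨n, ?_⟩⟩
  rw [eq_bot_iff]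
  refine le_trans (derivedSeries_pi_le n) ?_
  rw [hn, Subgroup.pi_bot]

theorem not_isSolvable_pi (i : ι) (h : ¬ Group.IsSolvable X) : ¬ Group.IsSolvable (ι → X) := by
  classical
  intro hs
  exact h (Group.isSolvable_of_isSolvable_injective
    (f := (MonoidHom.mulSingle (fun _ : ι => X) i)) (fun a b hab => by
      have := congrFun hab i
      simpa using this))

theorem not_isSolvable_prod_left {Y : Type*} [Group Y] (h : ¬ Group.IsSolvable X) :
    ¬ Group.IsSolvable (X × Y) := by
  intro hs
  exact h (Group.isSolvable_of_isSolvable_injective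
    (f := MonoidHom.inl X Y) (fun a b hab => by
      have := congrArg Prod.fst hab
      simpa using this))

theorem not_isSolvable_prod_right {Y : Type*} [Group Y] (h : ¬ Group.IsSolvable Y) :
    ¬ Group.IsSolvable (X × Y) := by
  intro hs
  exact h (Group.isSolvable_of_isSolvable_injective
    (f := MonoidHom.inr X Y) (fun a b hab => by
      have := congrArg Prod.snd hab
      simpa using this))

end pi

section zmodPow
variable {G : Type*} [Monoid G]

/-- the homomorphism `k ↦ x ^ k` out of a cyclic group of order `n` -/
def zmodPowHom (n : ℕ) [NeZero n] (x : G) (h : x ^ n = 1) : Multiplicative (ZMod n) →* G where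
  toFun k := x ^ (toAdd k).val
  map_one' := by
    show x ^ (0 : ZMod n).val = 1
    rw [ZMod.val_zero, pow_zero]
  map_mul' a b := by
    show x ^ (toAdd a + toAdd b).val = x ^ (toAdd a).val * x ^ (toAdd b).val
    rw [ZMod.val_add, ← pow_add, ← pow_eq_pow_mod _ h]

theorem zmodPowHom_apply (n : ℕ) [NeZero n] (x : G) (h : x ^ n = 1) (k : Multiplicative (ZMod n)) :
    zmodPowHom n x h k = x ^ (toAdd k).val := rfl

end zmodPow

end Cfsg.Agent.Lib.H2.OT
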