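import Mathlib
import Cfsg.Agent.Lib.H2.OT3
import Cfsg.Agent.Lib.H2.OT4

/-!
# A model of `PGL₂(7) ≅ SL₃(2) ⋊ C₂`
-/

namespace Cfsg.Agent.Lib.H2.OT

open Multiplicative Matrix

abbrev SL32 := Matrix.SpecialLinearGroup (Fin 3) (ZMod 2)

/-- the cofactor matrix (transposed adjugate) -/
def cof (A : Matrix (Fin 3) (Fin 3) (ZMod 2)) : Matrix (Fin 3) (Fin 3) (ZMod 2) :=
  !![A 1 1 * A 2 2 - A 1 2 * A 2 1,
      -(A 1 0 * A 2 2) + A 1 2 * A 2 0,
      A 1 0 * A 2 1 - A 1 1 * A 2 0;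
      -(A 0 1 * A 2 2) + A 0 2 * A 2 1,
      A 0 0 * A 2 2 - A 0 2 * A 2 0,
      -(A 0 0 * A 2 1) + A 0 1 * A 2 0;
      A 0 1 * A 1 2 - A 0 2 * A 1 1,
      -(A 0 0 * A 1 2) + A 0 2 * A 1 0,
      A 0 0 * A 1 1 - A 0 1 * A 1 0]

theorem cof_eq (A : Matrix (Fin 3) (Fin 3) (ZMod 2)) : cof A = (adjugate A)ᵀ := by
  rw [adjugate_fin_three]
  ext i j
  fin_cases i <;> fin_cases j <;> rfl

theorem det_cof (A : Matrix (Fin 3) (Fin 3) (ZMod 2)) (h : A.det = 1) : (cof A).det = 1 := by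
  rw [cof_eq, det_transpose, det_adjugate, h, one_pow]

theorem cof_mul (A B : Matrix (Fin 3) (Fin 3) (ZMod 2)) : cof (A * B) = cof A * cof B := by
  rw [cof_eq, cof_eq, cof_eq, adjugate_mul_distrib, transpose_mul]

theorem cof_cof (A : Matrix (Fin 3) (Fin 3) (ZMod 2)) (h : A.det = 1) : cof (cof A) = A := by
  rw [cof_eq, cof_eq, adjugate_transpose, transpose_transpose, adjugate_adjugate _ (by simp), h,
    one_pow, one_smul]

/-- inverse transpose -/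
def tau : MulAut SL32 where
  toFun M := ⟨cof M.1, det_cof M.1 M.2⟩
  invFun M := ⟨cof M.1, det_cof M.1 M.2⟩
  left_inv M := Subtype.ext (cof_cof M.1 M.2)
  right_inv M := Subtype.ext (cof_cof M.1 M.2)
  map_mul' M N := Subtype.ext (cof_mul M.1 N.1)

theorem tau_sq : tau ^ 2 = 1 := by
  ext M : 1
  show tau (tau M) = M
  exact Subtype.ext (cof_cof M.1 M.2)

/-- the action of `C₂` on `SL₃(2)` by inverse transpose -/
def phi27 : Multiplicative (ZMod 2) →* MulAut SL32 := zmodPowHom 2 tau tau_sq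

/-- a model of `PGL₂(7)` -/
abbrev PGL27 := SL32 ⋊[phi27] Multiplicative (ZMod 2)

end Cfsg.Agent.Lib.H2.OT
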