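import Mathlib
import Cfsg.Agent.Lib.H2.OT3
import Cfsg.Agent.Lib.H2.OT4

/-!
# Small groups and their characters into `(ZMod 7)ˣ`
-/

namespace Cfsg.Agent.Lib.H2.OT

open Multiplicative

abbrev C2 := Multiplicative (ZMod 2)
abbrev C3 := Multiplicative (ZMod 3)
abbrev C4 := Multiplicative (ZMod 4)
abbrev S3 := DihedralGroup 3
abbrev D4 := DihedralGroup 4
abbrev D8 := DihedralGroup 8
abbrev Dic3 := QuaternionGroup 3
abbrev Q16 := QuaternionGroup 4
abbrev Q8 := QuaternionGroup 2
abbrev V4 := Multiplicative (ZMod 2 × ZMod 2)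

/-- the element `2` of order `3` -/
def u2 : U7 := ⟨2, 4, by decide, by decide⟩

def cC2 : C2 →* U7 := zmodPowHom 2 (-1) (by decide)
def cC3 : C3 →* U7 := zmodPowHom 3 u2 (by decide)
def cC4 : C4 →* U7 := zmodPowHom 4 (-1) (by decide)

def cS3 : S3 →* U7 :=
  MonoidHom.mk' (fun g => match g with | .r _ => 1 | .sr _ => -1) (by decide)
def cD4a : D4 →* U7 :=
  MonoidHom.mk' (fun g => match g with | .r _ => 1 | .sr _ => -1) (by decide)
def cD4b : D4 →* U7 :=
  MonoidHom.mk' (fun g => match g with | .r i => (-1) ^ i.val | .sr i => (-1) ^ (i.val + 1))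
    (by decide)
def cD8b : D8 →* U7 :=
  MonoidHom.mk' (fun g => match g with | .r i => (-1) ^ i.val | .sr i => (-1) ^ (i.val + 1))
    (by decide)
def cQ16 : Q16 →* U7 :=
  MonoidHom.mk' (fun g => match g with | .a i => (-1) ^ i.val | .xa i => (-1) ^ (i.val + 1))
    (by decide)
def cDic3 : Dic3 →* U7 :=
  MonoidHom.mk' (fun g => match g with | .a _ => 1 | .xa _ => -1) (by decide)

/-- the automorphism of order `3` of the four-group -/
def sigmaV4 : MulAut V4 where
  toFun n := ofAdd ((toAdd n).2, (toAdd n).1 + (toAdd n).2)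
  invFun n := ofAdd ((toAdd n).1 + (toAdd n).2, (toAdd n).1)
  left_inv := by decide
  right_inv := by decide
  map_mul' := by decide

theorem sigmaV4_pow : sigmaV4 ^ 3 = 1 := by
  ext n : 1
  revert n
  decide

/-- a model of the alternating group `A₄` -/
abbrev A4 := V4 ⋊[zmodPowHom 3 sigmaV4 sigmaV4_pow] C3

def cA4 : A4 →* U7 := cC3.comp SemidirectProduct.rightHom

/-- the automorphism `i ↦ j ↦ k ↦ i` of the quaternion group -/
def sigmaQ8 : MulAut Q8 where
  toFun q := match q with
    | .a i => if i = 0 then .a 0 else if i = 1 then .xa 0 else if i = 2 then .a 2 else .xa 2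
    | .xa i => if i = 0 then .xa 3 else if i = 1 then .a 3 else if i = 2 then .xa 1 else .a 1
  invFun q := match q with
    | .a i => if i = 0 then .a 0 else if i = 1 then .xa 3 else if i = 2 then .a 2 else .xa 1
    | .xa i => if i = 0 then .a 1 else if i = 1 then .xa 2 else if i = 2 then .a 3 else .xa 0
  left_inv := by decide
  right_inv := by decide
  map_mul' := by decide

theorem sigmaQ8_pow : sigmaQ8 ^ 3 = 1 := by
  ext n : 1
  revert n
  decide

/-- a model of `SL₂(3)` -/
abbrev SL23 := Q8 ⋊[zmodPowHom 3 sigmaQ8 sigmaQ8_pow] C3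

def cSL23 : SL23 →* U7 := cC3.comp SemidirectProduct.rightHom

/-- the automorphism `i ↦ -j, j ↦ -i, k ↦ -k` of the quaternion group -/
def rhoQ8 : MulAut Q8 where
  toFun q := match q with
    | .a i => if i = 0 then .a 0 else if i = 1 then .xa 2 else if i = 2 then .a 2 else .xa 0
    | .xa i => if i = 0 then .a 3 else if i = 1 then .xa 3 else if i = 2 then .a 1 else .xa 1
  invFun q := match q with
    | .a i => if i = 0 then .a 0 else if i = 1 then .xa 2 else if i = 2 then .a 2 else .xa 0
    | .xa i => if i = 0 then .a 3 else if i = 1 then .xa 3 else if i = 2 then .a 1 else .xa 1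
  left_inv := by decide
  right_inv := by decide
  map_mul' := by decide

/-- the action of `S₃` on the quaternion group -/
def phiGL : S3 →* MulAut Q8 :=
  MonoidHom.mk' (fun g => match g with
    | .r i => sigmaQ8 ^ i.val
    | .sr i => rhoQ8 * sigmaQ8 ^ i.val) (by
      intro a b
      ext q : 1
      revert a b q
      decide)

/-- a model of `GL₂(3)` -/
abbrev GL23 := Q8 ⋊[phiGL] S3

def cGL23 : GL23 →* U7 := cS3.comp SemidirectProduct.rightHom

end Cfsg.Agent.Lib.H2.OT
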