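import Mathlib
import Cfsg.Agent.Lib.H2.OT6

/-!
# A model of `AΓL₁(8)`
-/

namespace Cfsg.Agent.Lib.H2.OT

open Multiplicative

abbrev V8 := Multiplicative (ZMod 2 × ZMod 2 × ZMod 2)

/-- multiplication by a primitive element of the field of order `8` -/
def mulA : MulAut V8 where
  toFun n := ofAdd ((toAdd n).2.2, (toAdd n).1 + (toAdd n).2.2, (toAdd n).2.1)
  invFun n := ofAdd ((toAdd n).1 + (toAdd n).2.1, (toAdd n).2.2, (toAdd n).1)
  left_inv := by decide
  right_inv := by decide
  map_mul' := by decide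

/-- the Frobenius automorphism of the field of order `8` -/
def frobS : MulAut V8 where
  toFun n := ofAdd ((toAdd n).1, (toAdd n).2.2, (toAdd n).2.1 + (toAdd n).2.2)
  invFun n := ofAdd ((toAdd n).1, (toAdd n).2.1 + (toAdd n).2.2, (toAdd n).2.1)
  left_inv := by decide
  right_inv := by decide
  map_mul' := by decide

theorem mulA_pow : mulA ^ 7 = 1 := by
  ext n : 1
  revert n
  decide

theorem frobS_pow : frobS ^ 3 = 1 := by
  ext n : 1
  revert n
  decide

theorem act7_u2_pow : (act7 u2) ^ 3 = 1 := by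
  rw [← map_pow]
  have : u2 ^ 3 = 1 := by decide
  rw [this, map_one]

/-- the Frobenius group of order `21` -/
abbrev F21 := N7 ⋊[zmodPowHom 3 (act7 u2) act7_u2_pow] C3

/-- the action of `F₂₁` on the additive group of the field of order `8` -/
def phi8 : F21 →* MulAut V8 :=
  SemidirectProduct.lift (zmodPowHom 7 mulA mulA_pow) (zmodPowHom 3 frobS frobS_pow) (by
    intro g
    refine MonoidHom.ext fun n => MulEquiv.ext fun v => ?_
    revert g n v
    decide)

/-- a model of `AΓL₁(8)` -/
abbrev AGL8 := V8 ⋊[phi8] F21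

end Cfsg.Agent.Lib.H2.OT
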