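import Mathlib
import Cfsg.Agent.Lib.H2.OT5
import Cfsg.Agent.Lib.H2.OT6
import Cfsg.Agent.Lib.H2.OT7

/-!
# Solvability of the factors
-/

namespace Cfsg.Agent.Lib.H2.OT

open Multiplicative
open scoped commutatorElement

theorem isSolvable_of_comm_ker {G A : Type*} [Group G] [CommGroup A] (f : G →* A)
    (h : ∀ a b : G, f a = 1 → f b = 1 → a * b = b * a) : Group.IsSolvable G := by
  have : Group.IsSolvable f.ker :=
    Group.isSolvable_of_comm (fun a b => Subtype.ext (h a b a.2 b.2))
  exact Group.isSolvable_of_ker_le_range f.ker.subtype f (by simp)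

instance isSolvable_S3 : Group.IsSolvable S3 := isSolvable_of_comm_ker cS3 (by decide)
instance isSolvable_D4 : Group.IsSolvable D4 := isSolvable_of_comm_ker cD4a (by decide)
instance isSolvable_Dic3 : Group.IsSolvable Dic3 := isSolvable_of_comm_ker cDic3 (by decide)

/-- the character of `D₈` with kernel the rotations -/
def cD8a : D8 →* U7 :=
  MonoidHom.mk' (fun g => match g with | .r _ => 1 | .sr _ => -1) (by decide)
/-- the character of `Q₁₆` with cyclic kernel -/
def cQ16a : Q16 →* U7 :=
  MonoidHom.mk' (fun g => match g with | .a _ => 1 | .xa _ => -1) (by decide)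
/-- the character of `Q₈` with cyclic kernel -/
def cQ8a : Q8 →* U7 :=
  MonoidHom.mk' (fun g => match g with | .a _ => 1 | .xa _ => -1) (by decide)

instance isSolvable_D8 : Group.IsSolvable D8 := isSolvable_of_comm_ker cD8a (by decide)
instance isSolvable_Q16 : Group.IsSolvable Q16 := isSolvable_of_comm_ker cQ16a (by decide)
instance isSolvable_Q8 : Group.IsSolvable Q8 := isSolvable_of_comm_ker cQ8a (by decide)

instance isSolvable_A4 : Group.IsSolvable A4 := isSolvable_sdp _
instance isSolvable_SL23 : Group.IsSolvable SL23 := isSolvable_sdp _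
instance isSolvable_GL23 : Group.IsSolvable GL23 := isSolvable_sdp _
instance isSolvable_F21 : Group.IsSolvable F21 := isSolvable_sdp _
instance isSolvable_AGL8 : Group.IsSolvable AGL8 := isSolvable_sdp _

instance isSolvable_Aff {K : Type*} [Group K] [Group.IsSolvable K] (χ : K →* U7) :
    Group.IsSolvable (Aff χ) := isSolvable_sdp _

instance isSolvable_finPi {m : ℕ} {X : Type*} [Group X] [Group.IsSolvable X] :
    Group.IsSolvable (Fin m → X) := isSolvable_pi

/-! ### `SL₃(2)` is not solvable -/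

theorem not_isSolvable_of_perfect_set {G : Type*} [Group G] (S : Set G)
    (hS : ∀ s ∈ S, ∃ a ∈ S, ∃ b ∈ S, s = ⁅a, b⁆) (g : G) (hg : g ∈ S) (hg1 : g ≠ 1) :
    ¬ Group.IsSolvable G := by
  have key : ∀ n : ℕ, ∀ s ∈ S, s ∈ derivedSeries G n := by
    intro n
    induction n with
    | zero => intro s _; exact Subgroup.mem_top s
    | succ n ih =>
      intro s hs
      obtain ⟨a, ha, b, hb, rfl⟩ := hS s hs
      rw [derivedSeries_succ]
      exact Subgroup.commutator_mem_commutator (ih a ha) (ih b hb)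
  exact not_isSolvable_of_mem_derivedSeries hg1 (fun n => key n g hg)

def e01 : SL32 := ⟨!![1, 1, 0; 0, 1, 0; 0, 0, 1], by decide⟩
def e02 : SL32 := ⟨!![1, 0, 1; 0, 1, 0; 0, 0, 1], by decide⟩
def e10 : SL32 := ⟨!![1, 0, 0; 1, 1, 0; 0, 0, 1], by decide⟩
def e12 : SL32 := ⟨!![1, 0, 0; 0, 1, 1; 0, 0, 1], by decide⟩
def e20 : SL32 := ⟨!![1, 0, 0; 0, 1, 0; 1, 0, 1], by decide⟩
def e21 : SL32 := ⟨!![1, 0, 0; 0, 1, 0; 0, 1, 1], by decide⟩

theorem comm_of_invol {G : Type*} [Group G] {a b s : G} (ha : a * a = 1) (hb : b * b = 1)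
    (h : s = a * b * a * b) : s = ⁅a, b⁆ := by
  rw [commutatorElement_def, ← eq_inv_of_mul_eq_one_left ha, ← eq_inv_of_mul_eq_one_left hb]
  exact h

theorem not_isSolvable_SL32 : ¬ Group.IsSolvable SL32 := by
  have h01 : e01 * e01 = 1 := by decide
  have h02 : e02 * e02 = 1 := by decide
  have h10 : e10 * e10 = 1 := by decide
  have h12 : e12 * e12 = 1 := by decide
  have h20 : e20 * e20 = 1 := by decide
  have h21 : e21 * e21 = 1 := by decide
  refine not_isSolvable_of_perfect_set {e01, e02, e10, e12, e20, e21} ?_ e01 (by simp) (by decide)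
  intro s hs
  simp only [Set.mem_insert_iff, Set.mem_singleton_iff] at hs
  rcases hs with rfl | rfl | rfl | rfl | rfl | rfl
  · exact ⟨e02, by simp, e21, by simp, comm_of_invol h02 h21 (by decide)⟩
  · exact ⟨e01, by simp, e12, by simp, comm_of_invol h01 h12 (by decide)⟩
  · exact ⟨e12, by simp, e20, by simp, comm_of_invol h12 h20 (by decide)⟩
  · exact ⟨e10, by simp, e02, by simp, comm_of_invol h10 h02 (by decide)⟩
  · exact ⟨e21, by simp, e10, by simp, comm_of_invol h21 h10 (by decide)⟩
  · exact ⟨e20, by simp, e01, by simp, comm_of_invol h20 h01 (by decide)⟩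

theorem not_isSolvable_PGL27 : ¬ Group.IsSolvable PGL27 := not_isSolvable_sdp _ not_isSolvable_SL32

end Cfsg.Agent.Lib.H2.OT
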