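import Mathlib
import Cfsg.Agent.Lib.H2.OT5

/-!
# The table for the model of `PGL₂(7)` (generated)
-/

namespace Cfsg.Agent.Lib.H2.OT

def t_PGL27 : ℕ → ℕ := fun e => match e with
  | 1 => 1 | 2 => 50 | 3 => 57 | 4 => 92 | 6 => 162 | 7 => 49 | 8 => 176 | 12 => 204 | 14 => 98 | 21 => 105 | 24 => 288 | 28 => 140 | 42 => 210 | 56 => 224 | 84 => 252 | 168 => 336
  | _ => 0

set_option maxRecDepth 1000000 in
theorem h1_PGL27 : ∀ k : PGL27, cord 24 k ≠ 0 ∧ cord 24 k ∣ 168 := by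
  decide +kernel

set_option maxRecDepth 1000000 in
theorem h2_PGL27 : ∀ e ∈ Nat.divisors 168, cnt (K := PGL27) 24 (fun _ => True) e = t_PGL27 e := by
  decide +kernel

theorem fc_PGL27 (d : ℕ) : fc PGL27 d = t_PGL27 (Nat.gcd (Nat.gcd d 168) 168) :=
  fc_of_table 24 168 168 (by norm_num) (dvd_refl _) h1_PGL27 t_PGL27 h2_PGL27 d

end Cfsg.Agent.Lib.H2.OT
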