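import Mathlib
import Cfsg.Agent.Lib.H2.OT6
import Cfsg.Agent.Lib.H2.OT7

/-!
# Tables of the numbers of solutions of `x ^ d = 1` (generated)
-/

namespace Cfsg.Agent.Lib.H2.OT

-- C2
def t_C2 : ℕ → ℕ := fun e => match e with
  | 1 => 1 | 2 => 2 | 3 => 1 | 4 => 2 | 6 => 2 | 7 => 1 | 8 => 2 | 12 => 2 | 14 => 2 | 21 => 1 | 24 => 2 | 28 => 2 | 42 => 2 | 56 => 2 | 84 => 2 | 168 => 2
  | _ => 0

set_option maxRecDepth 1000000 in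
theorem h1_C2 : ∀ k : C2, cord 24 k ≠ 0 ∧ cord 24 k ∣ 168 := by
  decide +kernel

set_option maxRecDepth 1000000 in
theorem h2_C2 : ∀ e ∈ Nat.divisors 168, cnt (K := C2) 24 (fun _ => True) e = t_C2 e := by
  decide +kernel

theorem fc_C2 (d : ℕ) : fc C2 d = t_C2 (Nat.gcd (Nat.gcd d 168) 168) :=
  fc_of_table 24 168 168 (by norm_num) (dvd_refl _) h1_C2 t_C2 h2_C2 d

-- D4
def t_D4 : ℕ → ℕ := fun e => match e with
  | 1 => 1 | 2 => 6 | 3 => 1 | 4 => 8 | 6 => 6 | 7 => 1 | 8 => 8 | 12 => 8 | 14 => 6 | 21 => 1 | 24 => 8 | 28 => 8 | 42 => 6 | 56 => 8 | 84 => 8 | 168 => 8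
  | _ => 0

set_option maxRecDepth 1000000 in
theorem h1_D4 : ∀ k : D4, cord 24 k ≠ 0 ∧ cord 24 k ∣ 168 := by
  decide +kernel

set_option maxRecDepth 1000000 in
theorem h2_D4 : ∀ e ∈ Nat.divisors 168, cnt (K := D4) 24 (fun _ => True) e = t_D4 e := by
  decide +kernel

theorem fc_D4 (d : ℕ) : fc D4 d = t_D4 (Nat.gcd (Nat.gcd d 168) 168) :=
  fc_of_table 24 168 168 (by norm_num) (dvd_refl _) h1_D4 t_D4 h2_D4 d

-- A4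
def t_A4 : ℕ → ℕ := fun e => match e with
  | 1 => 1 | 2 => 4 | 3 => 9 | 4 => 4 | 6 => 12 | 7 => 1 | 8 => 4 | 12 => 12 | 14 => 4 | 21 => 9 | 24 => 12 | 28 => 4 | 42 => 12 | 56 => 4 | 84 => 12 | 168 => 12
  | _ => 0

set_option maxRecDepth 1000000 in
theorem h1_A4 : ∀ k : A4, cord 24 k ≠ 0 ∧ cord 24 k ∣ 168 := by
  decide +kernel

set_option maxRecDepth 1000000 in
theorem h2_A4 : ∀ e ∈ Nat.divisors 168, cnt (K := A4) 24 (fun _ => True) e = t_A4 e := by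
  decide +kernel

theorem fc_A4 (d : ℕ) : fc A4 d = t_A4 (Nat.gcd (Nat.gcd d 168) 168) :=
  fc_of_table 24 168 168 (by norm_num) (dvd_refl _) h1_A4 t_A4 h2_A4 d

-- Dic3
def t_Dic3 : ℕ → ℕ := fun e => match e with
  | 1 => 1 | 2 => 2 | 3 => 3 | 4 => 8 | 6 => 6 | 7 => 1 | 8 => 8 | 12 => 12 | 14 => 2 | 21 => 3 | 24 => 12 | 28 => 8 | 42 => 6 | 56 => 8 | 84 => 12 | 168 => 12
  | _ => 0

set_option maxRecDepth 1000000 in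
theorem h1_Dic3 : ∀ k : Dic3, cord 24 k ≠ 0 ∧ cord 24 k ∣ 168 := by
  decide +kernel

set_option maxRecDepth 1000000 in
theorem h2_Dic3 : ∀ e ∈ Nat.divisors 168, cnt (K := Dic3) 24 (fun _ => True) e = t_Dic3 e := by
  decide +kernel

theorem fc_Dic3 (d : ℕ) : fc Dic3 d = t_Dic3 (Nat.gcd (Nat.gcd d 168) 168) :=
  fc_of_table 24 168 168 (by norm_num) (dvd_refl _) h1_Dic3 t_Dic3 h2_Dic3 d

-- Q16
def t_Q16 : ℕ → ℕ := fun e => match e with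
  | 1 => 1 | 2 => 2 | 3 => 1 | 4 => 12 | 6 => 2 | 7 => 1 | 8 => 16 | 12 => 12 | 14 => 2 | 21 => 1 | 24 => 16 | 28 => 12 | 42 => 2 | 56 => 16 | 84 => 12 | 168 => 16
  | _ => 0

set_option maxRecDepth 1000000 in
theorem h1_Q16 : ∀ k : Q16, cord 24 k ≠ 0 ∧ cord 24 k ∣ 168 := by
  decide +kernel

set_option maxRecDepth 1000000 in
theorem h2_Q16 : ∀ e ∈ Nat.divisors 168, cnt (K := Q16) 24 (fun _ => True) e = t_Q16 e := by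
  decide +kernel

theorem fc_Q16 (d : ℕ) : fc Q16 d = t_Q16 (Nat.gcd (Nat.gcd d 168) 168) :=
  fc_of_table 24 168 168 (by norm_num) (dvd_refl _) h1_Q16 t_Q16 h2_Q16 d

-- 7 C3[2]
set_option maxRecDepth 1000000 in
theorem h1k_C3 : ∀ k : C3, cord 24 k ≠ 0 ∧ cord 24 k ∣ 24 := by
  decide +kernel

def a_A_C3 : ℕ → ℕ := fun e => match e with
  | 1 => 1 | 2 => 1 | 3 => 1 | 4 => 1 | 6 => 1 | 8 => 1 | 12 => 1 | 24 => 1
  | _ => 0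

def b_A_C3 : ℕ → ℕ := fun e => match e with
  | 1 => 0 | 2 => 0 | 3 => 2 | 4 => 0 | 6 => 2 | 8 => 0 | 12 => 2 | 24 => 2
  | _ => 0

set_option maxRecDepth 1000000 in
theorem h2_A_C3 : ∀ e ∈ Nat.divisors 24,
    cnt 24 (fun k : C3 => cC3 k = 1) e = a_A_C3 e ∧
    cnt 24 (fun k : C3 => cC3 k ≠ 1) e = b_A_C3 e := by
  decide +kernel

theorem fc_A_C3 (d : ℕ) : fc (Aff cC3) d =
    Nat.gcd (Nat.gcd d 168) 7 * a_A_C3 (Nat.gcd (Nat.gcd d 168) 24)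
      + 7 * b_A_C3 (Nat.gcd (Nat.gcd d 168) 24) :=
  fc_aff_of_table cC3 24 24 168 (by norm_num) (by norm_num) (by norm_num) h1k_C3 a_A_C3 b_A_C3 h2_A_C3 d

-- 7 C4[3]
set_option maxRecDepth 1000000 in
theorem h1k_C4 : ∀ k : C4, cord 24 k ≠ 0 ∧ cord 24 k ∣ 24 := by
  decide +kernel

def a_A_C4 : ℕ → ℕ := fun e => match e with
  | 1 => 1 | 2 => 2 | 3 => 1 | 4 => 2 | 6 => 2 | 8 => 2 | 12 => 2 | 24 => 2
  | _ => 0

def b_A_C4 : ℕ → ℕ := fun e => match e with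
  | 1 => 0 | 2 => 0 | 3 => 0 | 4 => 2 | 6 => 0 | 8 => 2 | 12 => 2 | 24 => 2
  | _ => 0

set_option maxRecDepth 1000000 in
theorem h2_A_C4 : ∀ e ∈ Nat.divisors 24,
    cnt 24 (fun k : C4 => cC4 k = 1) e = a_A_C4 e ∧
    cnt 24 (fun k : C4 => cC4 k ≠ 1) e = b_A_C4 e := by
  decide +kernel

theorem fc_A_C4 (d : ℕ) : fc (Aff cC4) d =
    Nat.gcd (Nat.gcd d 168) 7 * a_A_C4 (Nat.gcd (Nat.gcd d 168) 24)
      + 7 * b_A_C4 (Nat.gcd (Nat.gcd d 168) 24) :=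
  fc_aff_of_table cC4 24 24 168 (by norm_num) (by norm_num) (by norm_num) h1k_C4 a_A_C4 b_A_C4 h2_A_C4 d

-- 7 C2[3]*C3[2]
set_option maxRecDepth 1000000 in
theorem h1k_C2xC3 : ∀ k : C2 × C3, cord 24 k ≠ 0 ∧ cord 24 k ∣ 24 := by
  decide +kernel

def a_A_C2C3 : ℕ → ℕ := fun e => match e with
  | 1 => 1 | 2 => 1 | 3 => 1 | 4 => 1 | 6 => 1 | 8 => 1 | 12 => 1 | 24 => 1
  | _ => 0

def b_A_C2C3 : ℕ → ℕ := fun e => match e with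
  | 1 => 0 | 2 => 1 | 3 => 2 | 4 => 1 | 6 => 5 | 8 => 1 | 12 => 5 | 24 => 5
  | _ => 0

set_option maxRecDepth 1000000 in
theorem h2_A_C2C3 : ∀ e ∈ Nat.divisors 24,
    cnt 24 (fun k : C2 × C3 => (cC2.coprod cC3) k = 1) e = a_A_C2C3 e ∧
    cnt 24 (fun k : C2 × C3 => (cC2.coprod cC3) k ≠ 1) e = b_A_C2C3 e := by
  decide +kernel

theorem fc_A_C2C3 (d : ℕ) : fc (Aff (cC2.coprod cC3)) d =
    Nat.gcd (Nat.gcd d 168) 7 * a_A_C2C3 (Nat.gcd (Nat.gcd d 168) 24)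
      + 7 * b_A_C2C3 (Nat.gcd (Nat.gcd d 168) 24) :=
  fc_aff_of_table (cC2.coprod cC3) 24 24 168 (by norm_num) (by norm_num) (by norm_num) h1k_C2xC3 a_A_C2C3 b_A_C2C3 h2_A_C2C3 d

-- 7 S3[0,3]
set_option maxRecDepth 1000000 in
theorem h1k_S3 : ∀ k : S3, cord 24 k ≠ 0 ∧ cord 24 k ∣ 24 := by
  decide +kernel

def a_A_S3 : ℕ → ℕ := fun e => match e with
  | 1 => 1 | 2 => 1 | 3 => 3 | 4 => 1 | 6 => 3 | 8 => 1 | 12 => 3 | 24 => 3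
  | _ => 0

def b_A_S3 : ℕ → ℕ := fun e => match e with
  | 1 => 0 | 2 => 3 | 3 => 0 | 4 => 3 | 6 => 3 | 8 => 3 | 12 => 3 | 24 => 3
  | _ => 0

set_option maxRecDepth 1000000 in
theorem h2_A_S3 : ∀ e ∈ Nat.divisors 24,
    cnt 24 (fun k : S3 => cS3 k = 1) e = a_A_S3 e ∧
    cnt 24 (fun k : S3 => cS3 k ≠ 1) e = b_A_S3 e := by
  decide +kernel

theorem fc_A_S3 (d : ℕ) : fc (Aff cS3) d =
    Nat.gcd (Nat.gcd d 168) 7 * a_A_S3 (Nat.gcd (Nat.gcd d 168) 24)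
      + 7 * b_A_S3 (Nat.gcd (Nat.gcd d 168) 24) :=
  fc_aff_of_table cS3 24 24 168 (by norm_num) (by norm_num) (by norm_num) h1k_S3 a_A_S3 b_A_S3 h2_A_S3 d

-- 7 D4[0,3]
set_option maxRecDepth 1000000 in
theorem h1k_D4 : ∀ k : D4, cord 24 k ≠ 0 ∧ cord 24 k ∣ 24 := by
  decide +kernel

def a_A_D4a : ℕ → ℕ := fun e => match e with
  | 1 => 1 | 2 => 2 | 3 => 1 | 4 => 4 | 6 => 2 | 8 => 4 | 12 => 4 | 24 => 4
  | _ => 0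

def b_A_D4a : ℕ → ℕ := fun e => match e with
  | 1 => 0 | 2 => 4 | 3 => 0 | 4 => 4 | 6 => 4 | 8 => 4 | 12 => 4 | 24 => 4
  | _ => 0

set_option maxRecDepth 1000000 in
theorem h2_A_D4a : ∀ e ∈ Nat.divisors 24,
    cnt 24 (fun k : D4 => cD4a k = 1) e = a_A_D4a e ∧
    cnt 24 (fun k : D4 => cD4a k ≠ 1) e = b_A_D4a e := by
  decide +kernel

theorem fc_A_D4a (d : ℕ) : fc (Aff cD4a) d =
    Nat.gcd (Nat.gcd d 168) 7 * a_A_D4a (Nat.gcd (Nat.gcd d 168) 24)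
      + 7 * b_A_D4a (Nat.gcd (Nat.gcd d 168) 24) :=
  fc_aff_of_table cD4a 24 24 168 (by norm_num) (by norm_num) (by norm_num) h1k_D4 a_A_D4a b_A_D4a h2_A_D4a d

-- 7 Q16[3,3]
set_option maxRecDepth 1000000 in
theorem h1k_Q16 : ∀ k : Q16, cord 24 k ≠ 0 ∧ cord 24 k ∣ 24 := by
  decide +kernel

def a_A_Q16 : ℕ → ℕ := fun e => match e with
  | 1 => 1 | 2 => 2 | 3 => 1 | 4 => 8 | 6 => 2 | 8 => 8 | 12 => 8 | 24 => 8
  | _ => 0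

def b_A_Q16 : ℕ → ℕ := fun e => match e with
  | 1 => 0 | 2 => 0 | 3 => 0 | 4 => 4 | 6 => 0 | 8 => 8 | 12 => 4 | 24 => 8
  | _ => 0

set_option maxRecDepth 1000000 in
theorem h2_A_Q16 : ∀ e ∈ Nat.divisors 24,
    cnt 24 (fun k : Q16 => cQ16 k = 1) e = a_A_Q16 e ∧
    cnt 24 (fun k : Q16 => cQ16 k ≠ 1) e = b_A_Q16 e := by
  decide +kernel

theorem fc_A_Q16 (d : ℕ) : fc (Aff cQ16) d =
    Nat.gcd (Nat.gcd d 168) 7 * a_A_Q16 (Nat.gcd (Nat.gcd d 168) 24)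
      + 7 * b_A_Q16 (Nat.gcd (Nat.gcd d 168) 24) :=
  fc_aff_of_table cQ16 24 24 168 (by norm_num) (by norm_num) (by norm_num) h1k_Q16 a_A_Q16 b_A_Q16 h2_A_Q16 d

-- 7 C3[2]*D4[3,3]
set_option maxRecDepth 1000000 in
theorem h1k_C3xD4 : ∀ k : C3 × D4, cord 24 k ≠ 0 ∧ cord 24 k ∣ 24 := by
  decide +kernel

def a_A_C3D4b : ℕ → ℕ := fun e => match e with
  | 1 => 1 | 2 => 4 | 3 => 1 | 4 => 4 | 6 => 4 | 8 => 4 | 12 => 4 | 24 => 4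
  | _ => 0

def b_A_C3D4b : ℕ → ℕ := fun e => match e with
  | 1 => 0 | 2 => 2 | 3 => 2 | 4 => 4 | 6 => 14 | 8 => 4 | 12 => 20 | 24 => 20
  | _ => 0

set_option maxRecDepth 1000000 in
theorem h2_A_C3D4b : ∀ e ∈ Nat.divisors 24,
    cnt 24 (fun k : C3 × D4 => (cC3.coprod cD4b) k = 1) e = a_A_C3D4b e ∧
    cnt 24 (fun k : C3 × D4 => (cC3.coprod cD4b) k ≠ 1) e = b_A_C3D4b e := by
  decide +kernel

theorem fc_A_C3D4b (d : ℕ) : fc (Aff (cC3.coprod cD4b)) d =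
    Nat.gcd (Nat.gcd d 168) 7 * a_A_C3D4b (Nat.gcd (Nat.gcd d 168) 24)
      + 7 * b_A_C3D4b (Nat.gcd (Nat.gcd d 168) 24) :=
  fc_aff_of_table (cC3.coprod cD4b) 24 24 168 (by norm_num) (by norm_num) (by norm_num) h1k_C3xD4 a_A_C3D4b b_A_C3D4b h2_A_C3D4b d

-- 7 SL23[2,4]
set_option maxRecDepth 1000000 in
theorem h1k_SL23 : ∀ k : SL23, cord 24 k ≠ 0 ∧ cord 24 k ∣ 24 := by
  decide +kernel

def a_A_SL23 : ℕ → ℕ := fun e => match e with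
  | 1 => 1 | 2 => 2 | 3 => 1 | 4 => 8 | 6 => 2 | 8 => 8 | 12 => 8 | 24 => 8
  | _ => 0

def b_A_SL23 : ℕ → ℕ := fun e => match e with
  | 1 => 0 | 2 => 0 | 3 => 8 | 4 => 0 | 6 => 16 | 8 => 0 | 12 => 16 | 24 => 16
  | _ => 0

set_option maxRecDepth 1000000 in
theorem h2_A_SL23 : ∀ e ∈ Nat.divisors 24,
    cnt 24 (fun k : SL23 => cSL23 k = 1) e = a_A_SL23 e ∧
    cnt 24 (fun k : SL23 => cSL23 k ≠ 1) e = b_A_SL23 e := by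
  decide +kernel

theorem fc_A_SL23 (d : ℕ) : fc (Aff cSL23) d =
    Nat.gcd (Nat.gcd d 168) 7 * a_A_SL23 (Nat.gcd (Nat.gcd d 168) 24)
      + 7 * b_A_SL23 (Nat.gcd (Nat.gcd d 168) 24) :=
  fc_aff_of_table cSL23 24 24 168 (by norm_num) (by norm_num) (by norm_num) h1k_SL23 a_A_SL23 b_A_SL23 h2_A_SL23 d

-- 7 C2[3]*SL23[2,4]
set_option maxRecDepth 1000000 in
theorem h1k_C2xSL23 : ∀ k : C2 × SL23, cord 24 k ≠ 0 ∧ cord 24 k ∣ 24 := by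
  decide +kernel

def a_A_C2SL23 : ℕ → ℕ := fun e => match e with
  | 1 => 1 | 2 => 2 | 3 => 1 | 4 => 8 | 6 => 2 | 8 => 8 | 12 => 8 | 24 => 8
  | _ => 0

def b_A_C2SL23 : ℕ → ℕ := fun e => match e with
  | 1 => 0 | 2 => 2 | 3 => 8 | 4 => 8 | 6 => 34 | 8 => 8 | 12 => 40 | 24 => 40
  | _ => 0

set_option maxRecDepth 1000000 in
theorem h2_A_C2SL23 : ∀ e ∈ Nat.divisors 24,
    cnt 24 (fun k : C2 × SL23 => (cC2.coprod cSL23) k = 1) e = a_A_C2SL23 e ∧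
    cnt 24 (fun k : C2 × SL23 => (cC2.coprod cSL23) k ≠ 1) e = b_A_C2SL23 e := by
  decide +kernel

theorem fc_A_C2SL23 (d : ℕ) : fc (Aff (cC2.coprod cSL23)) d =
    Nat.gcd (Nat.gcd d 168) 7 * a_A_C2SL23 (Nat.gcd (Nat.gcd d 168) 24)
      + 7 * b_A_C2SL23 (Nat.gcd (Nat.gcd d 168) 24) :=
  fc_aff_of_table (cC2.coprod cSL23) 24 24 168 (by norm_num) (by norm_num) (by norm_num) h1k_C2xSL23 a_A_C2SL23 b_A_C2SL23 h2_A_C2SL23 d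

-- 7 S3[0,3]*D8[3,3]
set_option maxRecDepth 1000000 in
theorem h1k_S3xD8 : ∀ k : S3 × D8, cord 24 k ≠ 0 ∧ cord 24 k ∣ 24 := by
  decide +kernel

def a_A_S3D8 : ℕ → ℕ := fun e => match e with
  | 1 => 1 | 2 => 18 | 3 => 3 | 4 => 20 | 6 => 30 | 8 => 32 | 12 => 36 | 24 => 48
  | _ => 0

def b_A_S3D8 : ℕ → ℕ := fun e => match e with
  | 1 => 0 | 2 => 22 | 3 => 0 | 4 => 28 | 6 => 30 | 8 => 32 | 12 => 36 | 24 => 48
  | _ => 0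

set_option maxRecDepth 1000000 in
theorem h2_A_S3D8 : ∀ e ∈ Nat.divisors 24,
    cnt 24 (fun k : S3 × D8 => (cS3.coprod cD8b) k = 1) e = a_A_S3D8 e ∧
    cnt 24 (fun k : S3 × D8 => (cS3.coprod cD8b) k ≠ 1) e = b_A_S3D8 e := by
  decide +kernel

theorem fc_A_S3D8 (d : ℕ) : fc (Aff (cS3.coprod cD8b)) d =
    Nat.gcd (Nat.gcd d 168) 7 * a_A_S3D8 (Nat.gcd (Nat.gcd d 168) 24)
      + 7 * b_A_S3D8 (Nat.gcd (Nat.gcd d 168) 24) :=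
  fc_aff_of_table (cS3.coprod cD8b) 24 24 168 (by norm_num) (by norm_num) (by norm_num) h1k_S3xD8 a_A_S3D8 b_A_S3D8 h2_A_S3D8 d

-- C4
def t_C4 : ℕ → ℕ := fun e => match e with
  | 1 => 1 | 2 => 2 | 3 => 1 | 4 => 4 | 6 => 2 | 7 => 1 | 8 => 4 | 12 => 4 | 14 => 2 | 21 => 1 | 24 => 4 | 28 => 4 | 42 => 2 | 56 => 4 | 84 => 4 | 168 => 4
  | _ => 0

set_option maxRecDepth 1000000 in
theorem h1_C4 : ∀ k : C4, cord 24 k ≠ 0 ∧ cord 24 k ∣ 168 := by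
  decide +kernel

set_option maxRecDepth 1000000 in
theorem h2_C4 : ∀ e ∈ Nat.divisors 168, cnt (K := C4) 24 (fun _ => True) e = t_C4 e := by
  decide +kernel

theorem fc_C4 (d : ℕ) : fc C4 d = t_C4 (Nat.gcd (Nat.gcd d 168) 168) :=
  fc_of_table 24 168 168 (by norm_num) (dvd_refl _) h1_C4 t_C4 h2_C4 d

-- S3
def t_S3 : ℕ → ℕ := fun e => match e with
  | 1 => 1 | 2 => 4 | 3 => 3 | 4 => 4 | 6 => 6 | 7 => 1 | 8 => 4 | 12 => 6 | 14 => 4 | 21 => 3 | 24 => 6 | 28 => 4 | 42 => 6 | 56 => 4 | 84 => 6 | 168 => 6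
  | _ => 0

set_option maxRecDepth 1000000 in
theorem h1_S3 : ∀ k : S3, cord 24 k ≠ 0 ∧ cord 24 k ∣ 168 := by
  decide +kernel

set_option maxRecDepth 1000000 in
theorem h2_S3 : ∀ e ∈ Nat.divisors 168, cnt (K := S3) 24 (fun _ => True) e = t_S3 e := by
  decide +kernel

theorem fc_S3 (d : ℕ) : fc S3 d = t_S3 (Nat.gcd (Nat.gcd d 168) 168) :=
  fc_of_table 24 168 168 (by norm_num) (dvd_refl _) h1_S3 t_S3 h2_S3 d

-- 7 C2[3]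
set_option maxRecDepth 1000000 in
theorem h1k_C2 : ∀ k : C2, cord 24 k ≠ 0 ∧ cord 24 k ∣ 24 := by
  decide +kernel

def a_A_C2 : ℕ → ℕ := fun e => match e with
  | 1 => 1 | 2 => 1 | 3 => 1 | 4 => 1 | 6 => 1 | 8 => 1 | 12 => 1 | 24 => 1
  | _ => 0

def b_A_C2 : ℕ → ℕ := fun e => match e with
  | 1 => 0 | 2 => 1 | 3 => 0 | 4 => 1 | 6 => 1 | 8 => 1 | 12 => 1 | 24 => 1
  | _ => 0

set_option maxRecDepth 1000000 in
theorem h2_A_C2 : ∀ e ∈ Nat.divisors 24,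
    cnt 24 (fun k : C2 => cC2 k = 1) e = a_A_C2 e ∧
    cnt 24 (fun k : C2 => cC2 k ≠ 1) e = b_A_C2 e := by
  decide +kernel

theorem fc_A_C2 (d : ℕ) : fc (Aff cC2) d =
    Nat.gcd (Nat.gcd d 168) 7 * a_A_C2 (Nat.gcd (Nat.gcd d 168) 24)
      + 7 * b_A_C2 (Nat.gcd (Nat.gcd d 168) 24) :=
  fc_aff_of_table cC2 24 24 168 (by norm_num) (by norm_num) (by norm_num) h1k_C2 a_A_C2 b_A_C2 h2_A_C2 d

-- D8
def t_D8 : ℕ → ℕ := fun e => match e with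
  | 1 => 1 | 2 => 10 | 3 => 1 | 4 => 12 | 6 => 10 | 7 => 1 | 8 => 16 | 12 => 12 | 14 => 10 | 21 => 1 | 24 => 16 | 28 => 12 | 42 => 10 | 56 => 16 | 84 => 12 | 168 => 16
  | _ => 0

set_option maxRecDepth 1000000 in
theorem h1_D8 : ∀ k : D8, cord 24 k ≠ 0 ∧ cord 24 k ∣ 168 := by
  decide +kernel

set_option maxRecDepth 1000000 in
theorem h2_D8 : ∀ e ∈ Nat.divisors 168, cnt (K := D8) 24 (fun _ => True) e = t_D8 e := by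
  decide +kernel

theorem fc_D8 (d : ℕ) : fc D8 d = t_D8 (Nat.gcd (Nat.gcd d 168) 168) :=
  fc_of_table 24 168 168 (by norm_num) (dvd_refl _) h1_D8 t_D8 h2_D8 d

-- SL23
def t_SL23 : ℕ → ℕ := fun e => match e with
  | 1 => 1 | 2 => 2 | 3 => 9 | 4 => 8 | 6 => 18 | 7 => 1 | 8 => 8 | 12 => 24 | 14 => 2 | 21 => 9 | 24 => 24 | 28 => 8 | 42 => 18 | 56 => 8 | 84 => 24 | 168 => 24
  | _ => 0

set_option maxRecDepth 1000000 in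
theorem h1_SL23 : ∀ k : SL23, cord 24 k ≠ 0 ∧ cord 24 k ∣ 168 := by
  decide +kernel

set_option maxRecDepth 1000000 in
theorem h2_SL23 : ∀ e ∈ Nat.divisors 168, cnt (K := SL23) 24 (fun _ => True) e = t_SL23 e := by
  decide +kernel

theorem fc_SL23 (d : ℕ) : fc SL23 d = t_SL23 (Nat.gcd (Nat.gcd d 168) 168) :=
  fc_of_table 24 168 168 (by norm_num) (dvd_refl _) h1_SL23 t_SL23 h2_SL23 d

-- 7 D4[3,3]
def a_A_D4b : ℕ → ℕ := fun e => match e with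
  | 1 => 1 | 2 => 4 | 3 => 1 | 4 => 4 | 6 => 4 | 8 => 4 | 12 => 4 | 24 => 4
  | _ => 0

def b_A_D4b : ℕ → ℕ := fun e => match e with
  | 1 => 0 | 2 => 2 | 3 => 0 | 4 => 4 | 6 => 2 | 8 => 4 | 12 => 4 | 24 => 4
  | _ => 0

set_option maxRecDepth 1000000 in
theorem h2_A_D4b : ∀ e ∈ Nat.divisors 24,
    cnt 24 (fun k : D4 => cD4b k = 1) e = a_A_D4b e ∧
    cnt 24 (fun k : D4 => cD4b k ≠ 1) e = b_A_D4b e := by
  decide +kernel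

theorem fc_A_D4b (d : ℕ) : fc (Aff cD4b) d =
    Nat.gcd (Nat.gcd d 168) 7 * a_A_D4b (Nat.gcd (Nat.gcd d 168) 24)
      + 7 * b_A_D4b (Nat.gcd (Nat.gcd d 168) 24) :=
  fc_aff_of_table cD4b 24 24 168 (by norm_num) (by norm_num) (by norm_num) h1k_D4 a_A_D4b b_A_D4b h2_A_D4b d

-- 7 A4[2,0]
set_option maxRecDepth 1000000 in
theorem h1k_A4 : ∀ k : A4, cord 24 k ≠ 0 ∧ cord 24 k ∣ 24 := by
  decide +kernel

def a_A_A4 : ℕ → ℕ := fun e => match e with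
  | 1 => 1 | 2 => 4 | 3 => 1 | 4 => 4 | 6 => 4 | 8 => 4 | 12 => 4 | 24 => 4
  | _ => 0

def b_A_A4 : ℕ → ℕ := fun e => match e with
  | 1 => 0 | 2 => 0 | 3 => 8 | 4 => 0 | 6 => 8 | 8 => 0 | 12 => 8 | 24 => 8
  | _ => 0

set_option maxRecDepth 1000000 in
theorem h2_A_A4 : ∀ e ∈ Nat.divisors 24,
    cnt 24 (fun k : A4 => cA4 k = 1) e = a_A_A4 e ∧
    cnt 24 (fun k : A4 => cA4 k ≠ 1) e = b_A_A4 e := by
  decide +kernel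

theorem fc_A_A4 (d : ℕ) : fc (Aff cA4) d =
    Nat.gcd (Nat.gcd d 168) 7 * a_A_A4 (Nat.gcd (Nat.gcd d 168) 24)
      + 7 * b_A_A4 (Nat.gcd (Nat.gcd d 168) 24) :=
  fc_aff_of_table cA4 24 24 168 (by norm_num) (by norm_num) (by norm_num) h1k_A4 a_A_A4 b_A_A4 h2_A_A4 d

-- 7 C3[2]*C4[3]
set_option maxRecDepth 1000000 in
theorem h1k_C3xC4 : ∀ k : C3 × C4, cord 24 k ≠ 0 ∧ cord 24 k ∣ 24 := by
  decide +kernel

def a_A_C3C4 : ℕ → ℕ := fun e => match e with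
  | 1 => 1 | 2 => 2 | 3 => 1 | 4 => 2 | 6 => 2 | 8 => 2 | 12 => 2 | 24 => 2
  | _ => 0

def b_A_C3C4 : ℕ → ℕ := fun e => match e with
  | 1 => 0 | 2 => 0 | 3 => 2 | 4 => 2 | 6 => 4 | 8 => 2 | 12 => 10 | 24 => 10
  | _ => 0

set_option maxRecDepth 1000000 in
theorem h2_A_C3C4 : ∀ e ∈ Nat.divisors 24,
    cnt 24 (fun k : C3 × C4 => (cC3.coprod cC4) k = 1) e = a_A_C3C4 e ∧
    cnt 24 (fun k : C3 × C4 => (cC3.coprod cC4) k ≠ 1) e = b_A_C3C4 e := by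
  decide +kernel

theorem fc_A_C3C4 (d : ℕ) : fc (Aff (cC3.coprod cC4)) d =
    Nat.gcd (Nat.gcd d 168) 7 * a_A_C3C4 (Nat.gcd (Nat.gcd d 168) 24)
      + 7 * b_A_C3C4 (Nat.gcd (Nat.gcd d 168) 24) :=
  fc_aff_of_table (cC3.coprod cC4) 24 24 168 (by norm_num) (by norm_num) (by norm_num) h1k_C3xC4 a_A_C3C4 b_A_C3C4 h2_A_C3C4 d

-- 7 Dic3[0,3]
set_option maxRecDepth 1000000 in
theorem h1k_Dic3 : ∀ k : Dic3, cord 24 k ≠ 0 ∧ cord 24 k ∣ 24 := by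
  decide +kernel

def a_A_Dic3 : ℕ → ℕ := fun e => match e with
  | 1 => 1 | 2 => 2 | 3 => 3 | 4 => 2 | 6 => 6 | 8 => 2 | 12 => 6 | 24 => 6
  | _ => 0

def b_A_Dic3 : ℕ → ℕ := fun e => match e with
  | 1 => 0 | 2 => 0 | 3 => 0 | 4 => 6 | 6 => 0 | 8 => 6 | 12 => 6 | 24 => 6
  | _ => 0

set_option maxRecDepth 1000000 in
theorem h2_A_Dic3 : ∀ e ∈ Nat.divisors 24,
    cnt 24 (fun k : Dic3 => cDic3 k = 1) e = a_A_Dic3 e ∧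
    cnt 24 (fun k : Dic3 => cDic3 k ≠ 1) e = b_A_Dic3 e := by
  decide +kernel

theorem fc_A_Dic3 (d : ℕ) : fc (Aff cDic3) d =
    Nat.gcd (Nat.gcd d 168) 7 * a_A_Dic3 (Nat.gcd (Nat.gcd d 168) 24)
      + 7 * b_A_Dic3 (Nat.gcd (Nat.gcd d 168) 24) :=
  fc_aff_of_table cDic3 24 24 168 (by norm_num) (by norm_num) (by norm_num) h1k_Dic3 a_A_Dic3 b_A_Dic3 h2_A_Dic3 d

-- 7 C3[2]*D4[0,3]
def a_A_C3D4a : ℕ → ℕ := fun e => match e with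
  | 1 => 1 | 2 => 2 | 3 => 1 | 4 => 4 | 6 => 2 | 8 => 4 | 12 => 4 | 24 => 4
  | _ => 0

def b_A_C3D4a : ℕ → ℕ := fun e => match e with
  | 1 => 0 | 2 => 4 | 3 => 2 | 4 => 4 | 6 => 16 | 8 => 4 | 12 => 20 | 24 => 20
  | _ => 0

set_option maxRecDepth 1000000 in
theorem h2_A_C3D4a : ∀ e ∈ Nat.divisors 24,
    cnt 24 (fun k : C3 × D4 => (cC3.coprod cD4a) k = 1) e = a_A_C3D4a e ∧
    cnt 24 (fun k : C3 × D4 => (cC3.coprod cD4a) k ≠ 1) e = b_A_C3D4a e := by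
  decide +kernel

theorem fc_A_C3D4a (d : ℕ) : fc (Aff (cC3.coprod cD4a)) d =
    Nat.gcd (Nat.gcd d 168) 7 * a_A_C3D4a (Nat.gcd (Nat.gcd d 168) 24)
      + 7 * b_A_C3D4a (Nat.gcd (Nat.gcd d 168) 24) :=
  fc_aff_of_table (cC3.coprod cD4a) 24 24 168 (by norm_num) (by norm_num) (by norm_num) h1k_C3xD4 a_A_C3D4a b_A_C3D4a h2_A_C3D4a d

-- AGaL18
def t_AGL8 : ℕ → ℕ := fun e => match e with
  | 1 => 1 | 2 => 8 | 3 => 57 | 4 => 8 | 6 => 120 | 7 => 49 | 8 => 8 | 12 => 120 | 14 => 56 | 21 => 105 | 24 => 120 | 28 => 56 | 42 => 168 | 56 => 56 | 84 => 168 | 168 => 168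
  | _ => 0

set_option maxRecDepth 1000000 in
theorem h1_AGL8 : ∀ k : AGL8, cord 24 k ≠ 0 ∧ cord 24 k ∣ 168 := by
  decide +kernel

set_option maxRecDepth 1000000 in
theorem h2_AGL8 : ∀ e ∈ Nat.divisors 168, cnt (K := AGL8) 24 (fun _ => True) e = t_AGL8 e := by
  decide +kernel

theorem fc_AGL8 (d : ℕ) : fc AGL8 d = t_AGL8 (Nat.gcd (Nat.gcd d 168) 168) :=
  fc_of_table 24 168 168 (by norm_num) (dvd_refl _) h1_AGL8 t_AGL8 h2_AGL8 d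

-- 7 C3[2]*Q16[3,3]
set_option maxRecDepth 1000000 in
theorem h1k_C3xQ16 : ∀ k : C3 × Q16, cord 24 k ≠ 0 ∧ cord 24 k ∣ 24 := by
  decide +kernel

def a_A_C3Q16 : ℕ → ℕ := fun e => match e with
  | 1 => 1 | 2 => 2 | 3 => 1 | 4 => 8 | 6 => 2 | 8 => 8 | 12 => 8 | 24 => 8
  | _ => 0

def b_A_C3Q16 : ℕ → ℕ := fun e => match e with
  | 1 => 0 | 2 => 0 | 3 => 2 | 4 => 4 | 6 => 4 | 8 => 8 | 12 => 28 | 24 => 40
  | _ => 0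

set_option maxRecDepth 1000000 in
theorem h2_A_C3Q16 : ∀ e ∈ Nat.divisors 24,
    cnt 24 (fun k : C3 × Q16 => (cC3.coprod cQ16) k = 1) e = a_A_C3Q16 e ∧
    cnt 24 (fun k : C3 × Q16 => (cC3.coprod cQ16) k ≠ 1) e = b_A_C3Q16 e := by
  decide +kernel

theorem fc_A_C3Q16 (d : ℕ) : fc (Aff (cC3.coprod cQ16)) d =
    Nat.gcd (Nat.gcd d 168) 7 * a_A_C3Q16 (Nat.gcd (Nat.gcd d 168) 24)
      + 7 * b_A_C3Q16 (Nat.gcd (Nat.gcd d 168) 24) :=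
  fc_aff_of_table (cC3.coprod cQ16) 24 24 168 (by norm_num) (by norm_num) (by norm_num) h1k_C3xQ16 a_A_C3Q16 b_A_C3Q16 h2_A_C3Q16 d

-- 7 GL23[0,3,3]
set_option maxRecDepth 1000000 in
theorem h1k_GL23 : ∀ k : GL23, cord 24 k ≠ 0 ∧ cord 24 k ∣ 24 := by
  decide +kernel

def a_A_GL23 : ℕ → ℕ := fun e => match e with
  | 1 => 1 | 2 => 2 | 3 => 9 | 4 => 8 | 6 => 18 | 8 => 8 | 12 => 24 | 24 => 24
  | _ => 0

def b_A_GL23 : ℕ → ℕ := fun e => match e with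
  | 1 => 0 | 2 => 12 | 3 => 0 | 4 => 12 | 6 => 12 | 8 => 24 | 12 => 12 | 24 => 24
  | _ => 0

set_option maxRecDepth 1000000 in
theorem h2_A_GL23 : ∀ e ∈ Nat.divisors 24,
    cnt 24 (fun k : GL23 => cGL23 k = 1) e = a_A_GL23 e ∧
    cnt 24 (fun k : GL23 => cGL23 k ≠ 1) e = b_A_GL23 e := by
  decide +kernel

theorem fc_A_GL23 (d : ℕ) : fc (Aff cGL23) d =
    Nat.gcd (Nat.gcd d 168) 7 * a_A_GL23 (Nat.gcd (Nat.gcd d 168) 24)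
      + 7 * b_A_GL23 (Nat.gcd (Nat.gcd d 168) 24) :=
  fc_aff_of_table cGL23 24 24 168 (by norm_num) (by norm_num) (by norm_num) h1k_GL23 a_A_GL23 b_A_GL23 h2_A_GL23 d

-- 7 S3[0,3]*Q16[3,3]
set_option maxRecDepth 1000000 in
theorem h1k_S3xQ16 : ∀ k : S3 × Q16, cord 24 k ≠ 0 ∧ cord 24 k ∣ 24 := by
  decide +kernel

def a_A_S3Q16 : ℕ → ℕ := fun e => match e with
  | 1 => 1 | 2 => 2 | 3 => 3 | 4 => 20 | 6 => 6 | 8 => 32 | 12 => 36 | 24 => 48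
  | _ => 0

def b_A_S3Q16 : ℕ → ℕ := fun e => match e with
  | 1 => 0 | 2 => 6 | 3 => 0 | 4 => 28 | 6 => 6 | 8 => 32 | 12 => 36 | 24 => 48
  | _ => 0

set_option maxRecDepth 1000000 in
theorem h2_A_S3Q16 : ∀ e ∈ Nat.divisors 24,
    cnt 24 (fun k : S3 × Q16 => (cS3.coprod cQ16) k = 1) e = a_A_S3Q16 e ∧
    cnt 24 (fun k : S3 × Q16 => (cS3.coprod cQ16) k ≠ 1) e = b_A_S3Q16 e := by
  decide +kernel

theorem fc_A_S3Q16 (d : ℕ) : fc (Aff (cS3.coprod cQ16)) d =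
    Nat.gcd (Nat.gcd d 168) 7 * a_A_S3Q16 (Nat.gcd (Nat.gcd d 168) 24)
      + 7 * b_A_S3Q16 (Nat.gcd (Nat.gcd d 168) 24) :=
  fc_aff_of_table (cS3.coprod cQ16) 24 24 168 (by norm_num) (by norm_num) (by norm_num) h1k_S3xQ16 a_A_S3Q16 b_A_S3Q16 h2_A_S3Q16 d

end Cfsg.Agent.Lib.H2.OT
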