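import Mathlib

/-!
# Groups whose Sylow 2-subgroups are self-normalising with a single orbit of "opposite" Sylow
subgroups, and extensions of index two of such groups (helper2)
-/

set_option autoImplicit false
set_option linter.unusedSectionVars false

namespace Cfsg.Agent.Lib.H2.Opp

open Subgroup
open scoped Pointwise

/-- Sylow 2-subgroups are self-normalising, and the Sylow 2-subgroups meeting a given one trivially
are permuted transitively by it -/
def OppSyl (K : Type*) [Group K] : Prop :=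
  (∀ V : Subgroup K, IsPGroup 2 V → ¬ 2 ∣ V.index → ∀ g : K, MulAut.conj g • V = V → g ∈ V) ∧
  (∀ V T T' : Subgroup K, IsPGroup 2 V → ¬ 2 ∣ V.index → IsPGroup 2 T → ¬ 2 ∣ T.index →
     IsPGroup 2 T' → ¬ 2 ∣ T'.index → V ⊓ T = ⊥ → V ⊓ T' = ⊥ → ∃ u ∈ V, T' = MulAut.conj u • T)

theorem mem_conj_smul {K : Type*} [Group K] (g y : K) (V : Subgroup K) :
    y ∈ MulAut.conj g • V ↔ g⁻¹ * y * g ∈ V := by
  rw [Subgroup.mem_pointwise_smul_iff_inv_smul_mem, MulAut.smul_def, ← map_inv, MulAut.conj_apply,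
    inv_inv]

theorem map_conj_smul {K K' : Type*} [Group K] [Group K'] (e : K ≃* K') (g : K) (V : Subgroup K) :
    (MulAut.conj g • V).map e.toMonoidHom = MulAut.conj (e g) • V.map e.toMonoidHom := by
  ext y
  rw [mem_conj_smul, Subgroup.mem_map, Subgroup.mem_map]
  constructor
  · rintro ⟨x, hx, rfl⟩
    rw [mem_conj_smul] at hx
    exact ⟨g⁻¹ * x * g, hx, by simp⟩
  · rintro ⟨x, hx, hxy⟩
    refine ⟨g * x * g⁻¹, ?_, ?_⟩
    · rw [mem_conj_smul]
      have : g⁻¹ * (g * x * g⁻¹) * g = x := by group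
      rw [this]; exact hx
    · have h1 : e.toMonoidHom (g * x * g⁻¹) = e g * e.toMonoidHom x * (e g)⁻¹ := by simp
      rw [h1, hxy]; group

theorem OppSyl.of_equiv {K K' : Type*} [Group K] [Group K'] (e : K ≃* K') (h : OppSyl K') :
    OppSyl K := by
  have hidx : ∀ V : Subgroup K, (V.map e.toMonoidHom).index = V.index := fun V =>
    Subgroup.index_map_equiv V e
  constructor
  · intro V hV hVi g hg
    have h1 := h.1 (V.map e.toMonoidHom) (hV.map _) (by rw [hidx]; exact hVi) (e g)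
      (by rw [← map_conj_smul, hg])
    obtain ⟨x, hx, hxg⟩ := Subgroup.mem_map.1 h1
    have : x = g := e.injective hxg
    rw [← this]; exact hx
  · intro V T T' hV hVi hT hTi hT' hTi' hVT hVT'
    have hinj : Function.Injective e.toMonoidHom := e.injective
    obtain ⟨u', hu', hu'T⟩ := h.2 (V.map e.toMonoidHom) (T.map e.toMonoidHom) (T'.map e.toMonoidHom)
      (hV.map _) (by rw [hidx]; exact hVi) (hT.map _) (by rw [hidx]; exact hTi)
      (hT'.map _) (by rw [hidx]; exact hTi')
      (by rw [← Subgroup.map_inf _ _ _ hinj, hVT, Subgroup.map_bot])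
      (by rw [← Subgroup.map_inf _ _ _ hinj, hVT', Subgroup.map_bot])
    obtain ⟨u, hu, rfl⟩ := Subgroup.mem_map.1 hu'
    refine ⟨u, hu, ?_⟩
    apply Subgroup.map_injective hinj
    rw [map_conj_smul]
    exact hu'T

/-- the based version of `OppSyl` -/
def OppAt {K : Type*} [Group K] (U : Subgroup K) : Prop :=
  (∀ g : K, MulAut.conj g • U = U → g ∈ U) ∧
  (∀ g g' : K, U ⊓ MulAut.conj g • U = ⊥ → U ⊓ MulAut.conj g' • U = ⊥ →
    ∃ u ∈ U, MulAut.conj g' • U = MulAut.conj u • MulAut.conj g • U)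

theorem exists_conj_eq {K : Type*} [Group K] [Finite K] {U V : Subgroup K} (hU : IsPGroup 2 U)
    (hUi : ¬ 2 ∣ U.index) (hV : IsPGroup 2 V) (hVi : ¬ 2 ∣ V.index) :
    ∃ a : K, V = MulAut.conj a • U := by
  obtain ⟨a, ha⟩ := MulAction.exists_smul_eq K (hU.toSylow hUi) (hV.toSylow hVi)
  refine ⟨a, ?_⟩
  have h1 := congrArg (fun P : Sylow 2 K => (P : Subgroup K)) ha
  simp only [Sylow.coe_subgroup_smul, IsPGroup.toSylow_coe] at h1
  exact h1.symm

theorem conj_smul_smul {K : Type*} [Group K] (a b : K) (U : Subgroup K) :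
    MulAut.conj a • MulAut.conj b • U = MulAut.conj (a * b) • U := by
  rw [map_mul, mul_smul]

theorem conj_smul_eq_self {K : Type*} [Group K] {a : K} {U : Subgroup K} (ha : a ∈ U) :
    MulAut.conj a • U = U := by
  ext y
  rw [mem_conj_smul]
  constructor
  · intro h
    have := U.mul_mem (U.mul_mem ha h) (U.inv_mem ha)
    have h2 : a * (a⁻¹ * y * a) * a⁻¹ = y := by group
    rwa [h2] at this
  · intro h
    exact U.mul_mem (U.mul_mem (U.inv_mem ha) h) ha

theorem OppSyl.of_oppAt {K : Type*} [Group K] [Finite K] (U : Subgroup K) (hU : IsPGroup 2 U)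
    (hUi : ¬ 2 ∣ U.index) (h : OppAt U) : OppSyl K := by
  constructor
  · intro V hV hVi g hg
    obtain ⟨a, rfl⟩ := exists_conj_eq hU hUi hV hVi
    rw [mem_conj_smul]
    apply h.1
    rw [← conj_smul_smul, ← conj_smul_smul, hg, conj_smul_smul, inv_mul_cancel, map_one, one_smul]
  · intro V T T' hV hVi hT hTi hT' hTi' hVT hVT'
    obtain ⟨a, rfl⟩ := exists_conj_eq hU hUi hV hVi
    obtain ⟨b, rfl⟩ := exists_conj_eq hU hUi hT hTi
    obtain ⟨c, rfl⟩ := exists_conj_eq hU hUi hT' hTi'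
    have e1 : U ⊓ MulAut.conj (a⁻¹ * b) • U = ⊥ := by
      have := congrArg (fun X : Subgroup K => MulAut.conj a⁻¹ • X) hVT
      simp only [Subgroup.smul_inf, conj_smul_smul, inv_mul_cancel, map_one, one_smul] at this
      rw [this]
      exact Subgroup.smul_bot _
    have e2 : U ⊓ MulAut.conj (a⁻¹ * c) • U = ⊥ := by
      have := congrArg (fun X : Subgroup K => MulAut.conj a⁻¹ • X) hVT'
      simp only [Subgroup.smul_inf, conj_smul_smul, inv_mul_cancel, map_one, one_smul] at this
      rw [this]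
      exact Subgroup.smul_bot _
    obtain ⟨u, hu, huc⟩ := h.2 _ _ e1 e2
    refine ⟨a * u * a⁻¹, ?_, ?_⟩
    · rw [mem_conj_smul]
      have : a⁻¹ * (a * u * a⁻¹) * a = u := by group
      rw [this]; exact hu
    · have := congrArg (fun X : Subgroup K => MulAut.conj a • X) huc
      simp only [conj_smul_smul] at this
      have h1 : a * (a⁻¹ * c) = c := by group
      have h2 : a * (u * (a⁻¹ * b)) = a * u * a⁻¹ * b := by group
      rw [h1, h2] at this
      rw [this, conj_smul_smul]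

variable {G : Type*} [Group G] [Finite G]

/-- the intersection of a Sylow subgroup with a normal subgroup has odd index there -/
theorem not_dvd_index_subgroupOf (N : Subgroup G) [N.Normal] (P : Sylow 2 G) :
    ¬ 2 ∣ ((P : Subgroup G).subgroupOf N).index := by
  have h1 : (P : Subgroup G).relIndex N = (P : Subgroup G).relIndex ((P : Subgroup G) ⊔ N) := by
    have e1 : ((P : Subgroup G) ⊓ N).relIndex N * N.relIndex ((P : Subgroup G) ⊔ N) =
        ((P : Subgroup G) ⊓ N).relIndex ((P : Subgroup G) ⊔ N) :=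
      Subgroup.relIndex_mul_relIndex _ _ _ inf_le_right le_sup_right
    have e2 : ((P : Subgroup G) ⊓ N).relIndex P * (P : Subgroup G).relIndex ((P : Subgroup G) ⊔ N) =
        ((P : Subgroup G) ⊓ N).relIndex ((P : Subgroup G) ⊔ N) :=
      Subgroup.relIndex_mul_relIndex _ _ _ inf_le_left le_sup_left
    rw [Subgroup.inf_relIndex_right, Subgroup.relIndex_sup_right] at e1
    rw [Subgroup.inf_relIndex_left] at e2
    have hne : N.relIndex (P : Subgroup G) ≠ 0 := by
      have : Finite (↥(P : Subgroup G)) := inferInstance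
      exact Subgroup.index_ne_zero_of_finite
    have e3 : N.relIndex (P : Subgroup G) * (P : Subgroup G).relIndex N =
        N.relIndex (P : Subgroup G) * (P : Subgroup G).relIndex ((P : Subgroup G) ⊔ N) := by
      rw [e2, ← e1, mul_comm]
    exact Nat.eq_of_mul_eq_mul_left (Nat.pos_of_ne_zero hne) e3
  intro h2
  apply P.not_dvd_index
  have h3 : ((P : Subgroup G).subgroupOf N).index = (P : Subgroup G).relIndex N := rfl
  rw [h3, h1] at h2
  exact h2.trans (Subgroup.relIndex_dvd_index_of_le le_sup_left)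

theorem exists_notMem {N : Subgroup G} (hidx : N.index = 2) (P : Sylow 2 G) :
    ∃ k ∈ (P : Subgroup G), k ∉ N := by
  by_contra h
  push Not at h
  have hle : (P : Subgroup G) ≤ N := h
  have h1 := Subgroup.relIndex_mul_index hle
  apply P.not_dvd_index
  rw [← h1, hidx]
  exact dvd_mul_left 2 _

theorem conjNormal_mem_iff {N : Subgroup G} [N.Normal] (P : Subgroup G) {k : G}
    (hk : k ∈ P) (y : N) :
    MulAut.conjNormal k y ∈ P.subgroupOf N ↔ y ∈ P.subgroupOf N := by
  rw [Subgroup.mem_subgroupOf, Subgroup.mem_subgroupOf, MulAut.conjNormal_apply]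
  constructor
  · intro h
    have h1 := P.mul_mem (P.mul_mem (P.inv_mem hk) h) hk
    have h2 : k⁻¹ * (k * (y : G) * k⁻¹) * k = (y : G) := by group
    rwa [h2] at h1
  · intro h
    exact P.mul_mem (P.mul_mem hk h) (P.inv_mem hk)

/-- **Main abstract theorem**: in an extension of index two of a group with `OppSyl`, any two
Sylow 2-subgroups meet non-trivially. -/
theorem sylow_inf_ne_bot (N : Subgroup G) [N.Normal] (hidx : N.index = 2) (hO : OppSyl ↥N)
    (H : Sylow 2 G) (x : G) : (H : Subgroup G) ⊓ MulAut.conj x • (H : Subgroup G) ≠ ⊥ := by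
  intro hbot
  set H2 : Sylow 2 G := x • H with hH2
  have hH2c : (H2 : Subgroup G) = MulAut.conj x • (H : Subgroup G) := Sylow.coe_subgroup_smul
  rw [← hH2c] at hbot
  obtain ⟨h, hhH, hhN⟩ := exists_notMem hidx H
  obtain ⟨k, hkH2, hkN⟩ := exists_notMem hidx H2
  set S : Subgroup ↥N := (H : Subgroup G).subgroupOf N with hS
  set S2 : Subgroup ↥N := (H2 : Subgroup G).subgroupOf N with hS2
  set f : ↥N ≃* ↥N := MulAut.conjNormal h with hf
  set T : Subgroup ↥N := S2.map f.toMonoidHom with hT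
  have hSp : IsPGroup 2 S := H.2.comap_of_injective _ (Subgroup.subtype_injective N)
  have hS2p : IsPGroup 2 S2 := H2.2.comap_of_injective _ (Subgroup.subtype_injective N)
  have hSi : ¬ 2 ∣ S.index := not_dvd_index_subgroupOf N H
  have hS2i : ¬ 2 ∣ S2.index := not_dvd_index_subgroupOf N H2
  have hTp : IsPGroup 2 T := hS2p.map _
  have hTi : ¬ 2 ∣ T.index := by
    have := Subgroup.index_map_equiv S2 f
    rw [hT]
    change ¬ 2 ∣ (Subgroup.map (f : ↥N →* ↥N) S2).index
    rw [this]; exact hS2i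
  have hmemT : ∀ z : ↥N, f z ∈ T ↔ z ∈ S2 := fun z =>
    Subgroup.mem_map_iff_mem (f := f.toMonoidHom) f.injective
  have hinf : ∀ z : ↥N, z ∈ S → z ∈ S2 → z = 1 := by
    intro z hz hz2
    have h1 : (z : G) ∈ (H : Subgroup G) ⊓ (H2 : Subgroup G) :=
      ⟨Subgroup.mem_subgroupOf.1 hz, Subgroup.mem_subgroupOf.1 hz2⟩
    rw [hbot, Subgroup.mem_bot] at h1
    exact Subtype.ext h1
  have hSS2 : S ⊓ S2 = ⊥ := by
    rw [eq_bot_iff]
    intro z hz
    rw [Subgroup.mem_bot]
    exact hinf z hz.1 hz.2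
  have hST : S ⊓ T = ⊥ := by
    rw [eq_bot_iff]
    intro y hy
    rw [Subgroup.mem_bot]
    obtain ⟨z, hz, hzy⟩ := Subgroup.mem_map.1 hy.2
    have hzy' : f z = y := hzy
    have h1 : z ∈ S := by
      rw [← conjNormal_mem_iff (H : Subgroup G) hhH z, ← hf, hzy']
      exact hy.1
    rw [← hzy', hinf z h1 hz, map_one]
  obtain ⟨u, huS, huT⟩ := hO.2 S S2 T hSp hSi hS2p hS2i hTp hTi hSS2 hST
  -- the element `h' = u⁻¹ h`
  have huH : (u : G) ∈ (H : Subgroup G) := Subgroup.mem_subgroupOf.1 huS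
  set h' : G := (u : G)⁻¹ * h with hh'
  have hh'H : h' ∈ (H : Subgroup G) := (H : Subgroup G).mul_mem ((H : Subgroup G).inv_mem huH) hhH
  have hh'N : h' ∉ N := by
    intro hc
    apply hhN
    have : h = (u : G) * h' := by rw [hh']; group
    rw [this]
    exact N.mul_mem u.2 hc
  have hnorm' : ∀ z : ↥N, MulAut.conjNormal h' z ∈ S2 ↔ z ∈ S2 := by
    intro z
    rw [← hmemT z, huT, mem_conj_smul]
    have : MulAut.conjNormal h' z = u⁻¹ * f z * u := by
      apply Subtype.ext
      rw [MulAut.conjNormal_apply, Subgroup.coe_mul, Subgroup.coe_mul, hf,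
        MulAut.conjNormal_apply, hh', Subgroup.coe_inv]
      group
    rw [this]
  -- `m = h' k⁻¹` lies in `N` and normalises `S2`
  have hkinvN : k⁻¹ ∉ N := fun hc => hkN (by simpa using N.inv_mem hc)
  have hmN : h' * k⁻¹ ∈ N := by
    rw [Subgroup.mul_mem_iff_of_index_two hidx]
    exact ⟨fun hc => absurd hc hh'N, fun hc => absurd hc hkinvN⟩
  set m : ↥N := ⟨h' * k⁻¹, hmN⟩ with hm
  have hnormk : ∀ z : ↥N, MulAut.conjNormal k⁻¹ z ∈ S2 ↔ z ∈ S2 :=
    fun z => conjNormal_mem_iff (H2 : Subgroup G) ((H2 : Subgroup G).inv_mem hkH2) z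
  have hmS2 : m⁻¹ ∈ S2 := by
    apply hO.1 S2 hS2p hS2i
    ext z
    rw [mem_conj_smul, inv_inv]
    have : m * z * m⁻¹ = MulAut.conjNormal h' (MulAut.conjNormal k⁻¹ z) := by
      apply Subtype.ext
      rw [MulAut.conjNormal_apply, MulAut.conjNormal_apply, Subgroup.coe_mul, Subgroup.coe_mul,
        Subgroup.coe_inv, hm]
      group
    rw [this, hnorm', hnormk]
  have hmH2 : (h' * k⁻¹) ∈ (H2 : Subgroup G) := by
    have := S2.inv_mem hmS2
    rw [inv_inv] at this
    exact Subgroup.mem_subgroupOf.1 this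
  have hh'H2 : h' ∈ (H2 : Subgroup G) := by
    have := (H2 : Subgroup G).mul_mem hmH2 hkH2
    rwa [inv_mul_cancel_right] at this
  have h1 : h' ∈ (H : Subgroup G) ⊓ (H2 : Subgroup G) := ⟨hh'H, hh'H2⟩
  rw [hbot, Subgroup.mem_bot] at h1
  exact hh'N (h1 ▸ N.one_mem)

end Cfsg.Agent.Lib.H2.Opp
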