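import Mathlib
import Cfsg.Agent.Lib.H12.DCosB
import Cfsg.Agent.Lib.H13.AutPSLSylow
import Cfsg.Agent.Lib.H2.Opp1

/-!
# `SL_n(2)`: the unitriangular group is self-normalising and permutes its opposites transitively
(helper2; uses helper12's Bruhat decomposition and helper13's unitriangular Sylow subgroup)
-/

set_option autoImplicit false
set_option linter.unusedSectionVars false

namespace Cfsg.Agent.Lib.H2.Opp

open Matrix Cfsg.Agent.Lib.H12.DCos Cfsg.Agent.Lib.H13.AutPSL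
open scoped Pointwise

variable {n : ℕ}

local notation "SLn" => Matrix.SpecialLinearGroup (Fin n) (ZMod 2)

theorem zmod2_eq_one_of_ne_zero : ∀ x : ZMod 2, x ≠ 0 → x = 1 := by decide

theorem det_eq_one_of_isUnit (M : Matrix (Fin n) (Fin n) (ZMod 2)) (h : M.det ≠ 0) : M.det = 1 :=
  zmod2_eq_one_of_ne_zero _ h

theorem det_GL_eq_one (x : GL (Fin n) (ZMod 2)) : (x : Matrix (Fin n) (Fin n) (ZMod 2)).det = 1 :=
  det_eq_one_of_isUnit _ (Matrix.GeneralLinearGroup.det_ne_zero x)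

/-- an invertible matrix over `ZMod 2` as an element of `SL` -/
def ofGL (x : GL (Fin n) (ZMod 2)) : SLn := ⟨x.val, det_GL_eq_one x⟩

theorem ofGL_coe (x : GL (Fin n) (ZMod 2)) :
    ((ofGL x : SLn) : Matrix (Fin n) (Fin n) (ZMod 2)) = x.val := rfl

theorem ofGL_mul (x y : GL (Fin n) (ZMod 2)) : ofGL (x * y) = ofGL x * ofGL y := by
  apply Subtype.ext
  rw [Matrix.SpecialLinearGroup.coe_mul]; rfl

theorem ofGL_toGL (g : SLn) : ofGL (Matrix.SpecialLinearGroup.toGL g) = g := by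
  apply Subtype.ext; rfl

/-- permutation matrices in `SL_n(2)` -/
def wSL (σ : Equiv.Perm (Fin n)) : SLn := ofGL (wGL (ZMod 2) σ)

theorem wSL_coe (σ : Equiv.Perm (Fin n)) :
    ((wSL σ : SLn) : Matrix (Fin n) (Fin n) (ZMod 2)) = wmat (ZMod 2) σ := rfl

theorem wSL_one : wSL (1 : Equiv.Perm (Fin n)) = 1 := by
  apply Subtype.ext
  rw [wSL_coe, wmat_one]; rfl

theorem wSL_inv (σ : Equiv.Perm (Fin n)) : (wSL σ)⁻¹ = wSL σ⁻¹ := by
  apply inv_eq_of_mul_eq_one_right
  unfold wSL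
  rw [← ofGL_mul, ← map_mul, mul_inv_cancel, map_one]
  apply Subtype.ext; rfl

theorem mem_UT_of_upper {b : GL (Fin n) (ZMod 2)} (hb : b ∈ Cfsg.upperTriangularGL n (ZMod 2)) :
    ofGL b ∈ (UT : Subgroup SLn) := by
  rw [mem_UT, ofGL_coe]
  have hbt : (b : Matrix (Fin n) (Fin n) (ZMod 2)).BlockTriangular id := hb
  refine ⟨fun i j hji => hbt hji, fun i => ?_⟩
  have hdet := det_GL_eq_one b
  rw [Matrix.det_of_isUpperTriangular hbt] at hdet
  apply zmod2_eq_one_of_ne_zero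
  intro h0
  have : ∏ i, (b : Matrix (Fin n) (Fin n) (ZMod 2)) i i = 0 :=
    Finset.prod_eq_zero (Finset.mem_univ i) h0
  rw [this] at hdet
  exact zero_ne_one hdet

/-- Bruhat decomposition of `SL_n(2)` -/
theorem bruhatSL (g : SLn) : ∃ u ∈ (UT : Subgroup SLn), ∃ σ : Equiv.Perm (Fin n),
    ∃ u' ∈ (UT : Subgroup SLn), g = u * wSL σ * u' := by
  obtain ⟨b, hb, σ, b', hb', hg⟩ := bruhat (Matrix.SpecialLinearGroup.toGL g)
  refine ⟨ofGL b, mem_UT_of_upper hb, σ, ofGL b', mem_UT_of_upper hb', ?_⟩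
  rw [← ofGL_toGL g, hg, ofGL_mul, ofGL_mul]; rfl

/-- conjugation by a permutation matrix -/
theorem wmat_conj_apply (σ : Equiv.Perm (Fin n)) (M : Matrix (Fin n) (Fin n) (ZMod 2)) (i j : Fin n) :
    (wmat (ZMod 2) σ * M * wmat (ZMod 2) σ⁻¹) i j = M (σ⁻¹ i) (σ⁻¹ j) := by
  rw [Matrix.mul_apply, Finset.sum_eq_single (σ⁻¹ j)]
  · rw [wmat_apply, if_pos rfl, mul_one, Matrix.mul_apply, Finset.sum_eq_single (σ⁻¹ i)]
    · rw [wmat_apply, if_pos (by simp), one_mul]
    · intro k _ hk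
      rw [wmat_apply, if_neg, zero_mul]
      intro h
      apply hk
      rw [h]; simp
    · intro h; exact absurd (Finset.mem_univ _) h
  · intro k _ hk
    rw [wmat_apply, if_neg hk, mul_zero]
  · intro h; exact absurd (Finset.mem_univ _) h

theorem wSL_conj_apply (σ : Equiv.Perm (Fin n)) (s : SLn) (i j : Fin n) :
    ((wSL σ * s * (wSL σ)⁻¹ : SLn) : Matrix (Fin n) (Fin n) (ZMod 2)) i j =
      (s : Matrix (Fin n) (Fin n) (ZMod 2)) (σ⁻¹ i) (σ⁻¹ j) := by
  rw [wSL_inv, Matrix.SpecialLinearGroup.coe_mul, Matrix.SpecialLinearGroup.coe_mul, wSL_coe,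
    wSL_coe, wmat_conj_apply]

/-- elementary matrices -/
def eSL (k l : Fin n) (h : k ≠ l) : SLn :=
  ⟨Matrix.transvection k l 1, Matrix.det_transvection_of_ne k l h 1⟩

theorem eSL_apply (k l : Fin n) (h : k ≠ l) (i j : Fin n) :
    ((eSL k l h : SLn) : Matrix (Fin n) (Fin n) (ZMod 2)) i j =
      (if i = j then 1 else 0) + (if k = i ∧ l = j then 1 else 0) := by
  show (Matrix.transvection k l (1 : ZMod 2)) i j = _
  rw [Matrix.transvection, Matrix.add_apply, Matrix.one_apply, Matrix.single_apply]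

theorem eSL_ne_one (k l : Fin n) (h : k ≠ l) : eSL k l h ≠ 1 := by
  intro hc
  have h1 : ((eSL k l h : SLn) : Matrix (Fin n) (Fin n) (ZMod 2)) k l =
      ((1 : SLn) : Matrix (Fin n) (Fin n) (ZMod 2)) k l := by rw [hc]
  rw [eSL_apply, if_neg h, if_pos ⟨rfl, rfl⟩, Matrix.SpecialLinearGroup.coe_one,
    Matrix.one_apply_ne h, zero_add] at h1
  exact one_ne_zero h1

theorem eSL_mem_UT {k l : Fin n} (h : k < l) : eSL k l (ne_of_lt h) ∈ (UT : Subgroup SLn) := by
  rw [mem_UT]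
  constructor
  · intro i j hji
    rw [eSL_apply, if_neg (ne_of_gt hji), if_neg, add_zero]
    rintro ⟨rfl, rfl⟩
    exact absurd hji (not_lt.2 h.le)
  · intro i
    rw [eSL_apply, if_pos rfl, if_neg, add_zero]
    rintro ⟨rfl, rfl⟩
    exact lt_irrefl _ h

theorem pinv_apply (σ : Equiv.Perm (Fin n)) (i : Fin n) : σ⁻¹ (σ i) = i := by simp

theorem papply_inv (σ : Equiv.Perm (Fin n)) (i : Fin n) : σ (σ⁻¹ i) = i := by simp

/-- a strictly monotone permutation of `Fin n` is the identity -/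
theorem perm_eq_one_of_strictMono (σ : Equiv.Perm (Fin n)) (h : ∀ k l : Fin n, k < l → σ k < σ l) :
    σ = 1 := by
  have hmono : StrictMono σ := fun k l hkl => h k l hkl
  have hmono' : StrictMono (σ⁻¹ : Equiv.Perm (Fin n)) := by
    intro a b hab
    by_contra hc
    rw [not_lt] at hc
    rcases hc.lt_or_eq with hc | hc
    · have := hmono hc
      simp at this
      exact absurd hab (not_lt.2 this.le)
    · have := congrArg σ hc
      simp at this
      exact absurd hab (by rw [this]; exact lt_irrefl _)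
  ext i
  have h1 : i ≤ σ i := hmono.le_apply
  have h2 : σ i ≤ σ⁻¹ (σ i) := hmono'.le_apply
  rw [pinv_apply] at h2
  rw [Equiv.Perm.one_apply]
  exact congrArg Fin.val (le_antisymm h2 h1)

/-- two order-reversing permutations agree -/
theorem perm_eq_of_antitone (σ τ : Equiv.Perm (Fin n)) (hσ : ∀ k l : Fin n, k < l → σ l < σ k)
    (hτ : ∀ k l : Fin n, k < l → τ l < τ k) : σ = τ := by
  have hτ' : ∀ a b : Fin n, a < b → τ⁻¹ b < τ⁻¹ a := by
    intro a b hab
    by_contra hc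
    rw [not_lt] at hc
    rcases hc.lt_or_eq with hc | hc
    · have := hτ _ _ hc
      simp at this
      exact absurd hab (not_lt.2 this.le)
    · have := congrArg τ hc
      simp at this
      exact absurd hab (by rw [this]; exact lt_irrefl _)
  have h1 : σ * τ⁻¹ = 1 := by
    apply perm_eq_one_of_strictMono
    intro k l hkl
    rw [Equiv.Perm.mul_apply, Equiv.Perm.mul_apply]
    exact hσ _ _ (hτ' _ _ hkl)
  exact mul_inv_eq_one.1 h1

/-- a permutation matrix normalising `UT` is trivial -/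
theorem perm_eq_one_of_normalizes (σ : Equiv.Perm (Fin n))
    (h : ∀ s ∈ (UT : Subgroup SLn), wSL σ * s * (wSL σ)⁻¹ ∈ (UT : Subgroup SLn)) : σ = 1 := by
  apply perm_eq_one_of_strictMono
  intro k l hkl
  have h1 := h _ (eSL_mem_UT hkl)
  rw [mem_UT] at h1
  by_contra hc
  rw [not_lt] at hc
  have hne : σ k ≠ σ l := fun he => (ne_of_lt hkl) (σ.injective he)
  have hlt : σ l < σ k := lt_of_le_of_ne hc (Ne.symm hne)
  have h2 := h1.1 (σ k) (σ l) hlt
  rw [wSL_conj_apply, pinv_apply, pinv_apply, eSL_apply,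
    if_neg (ne_of_lt hkl), if_pos ⟨rfl, rfl⟩, zero_add] at h2
  exact one_ne_zero h2

/-- if `UT` meets its conjugate under a permutation matrix trivially, the permutation reverses the
order -/
theorem perm_antitone_of_inf_eq_bot (σ : Equiv.Perm (Fin n))
    (h : ∀ s ∈ (UT : Subgroup SLn), wSL σ * s * (wSL σ)⁻¹ ∈ (UT : Subgroup SLn) → s = 1) :
    ∀ k l : Fin n, k < l → σ l < σ k := by
  intro k l hkl
  by_contra hc
  rw [not_lt] at hc
  have hne : σ k ≠ σ l := fun he => (ne_of_lt hkl) (σ.injective he)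
  have hlt : σ k < σ l := lt_of_le_of_ne hc hne
  apply eSL_ne_one k l (ne_of_lt hkl)
  apply h _ (eSL_mem_UT hkl)
  rw [mem_UT]
  constructor
  · intro i j hji
    rw [wSL_conj_apply, eSL_apply, if_neg, if_neg, add_zero]
    · rintro ⟨h1, h2⟩
      have hi : i = σ k := by rw [h1]; simp
      have hj : j = σ l := by rw [h2]; simp
      rw [hi, hj] at hji
      exact absurd hji (not_lt.2 hlt.le)
    · intro he
      exact (ne_of_gt hji) (σ⁻¹.injective he)
  · intro i
    rw [wSL_conj_apply, eSL_apply, if_pos rfl, if_neg, add_zero]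
    rintro ⟨h1, h2⟩
    exact (ne_of_lt hkl) (h1.trans h2.symm)

theorem conj_mem_of_smul_eq {K : Type*} [Group K] {g : K} {U : Subgroup K}
    (h : MulAut.conj g • U = U) {s : K} (hs : s ∈ U) : g * s * g⁻¹ ∈ U := by
  rw [← h, mem_conj_smul]
  have : g⁻¹ * (g * s * g⁻¹) * g = s := by group
  rw [this]; exact hs

theorem oppAt_UT : OppAt (UT : Subgroup SLn) := by
  constructor
  · intro g hg
    obtain ⟨u, hu, σ, u', hu', rfl⟩ := bruhatSL g
    have hσ : σ = 1 := by
      apply perm_eq_one_of_normalizes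
      intro s hs
      have h1 : u'⁻¹ * s * u' ∈ (UT : Subgroup SLn) :=
        UT.mul_mem (UT.mul_mem (UT.inv_mem hu') hs) hu'
      have h2 := conj_mem_of_smul_eq hg h1
      have h3 := UT.mul_mem (UT.mul_mem (UT.inv_mem hu) h2) hu
      have h4 : u⁻¹ * (u * wSL σ * u' * (u'⁻¹ * s * u') * (u * wSL σ * u')⁻¹) * u =
          wSL σ * s * (wSL σ)⁻¹ := by group
      rwa [h4] at h3
    rw [hσ, wSL_one, mul_one]
    exact UT.mul_mem hu hu'
  · intro g g' hg hg'
    obtain ⟨u, hu, σ, u', hu', rfl⟩ := bruhatSL g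
    obtain ⟨v, hv, τ, v', hv', rfl⟩ := bruhatSL g'
    have key : ∀ (a : SLn) (_ : a ∈ (UT : Subgroup SLn)) (ρ : Equiv.Perm (Fin n)) (a' : SLn)
        (_ : a' ∈ (UT : Subgroup SLn)),
        (UT : Subgroup SLn) ⊓ MulAut.conj (a * wSL ρ * a') • (UT : Subgroup SLn) = ⊥ →
        ∀ k l : Fin n, k < l → ρ l < ρ k := by
      intro a ha ρ a' ha' hbot
      apply perm_antitone_of_inf_eq_bot
      intro s hs ht
      have hy1 : a * (wSL ρ * s * (wSL ρ)⁻¹) * a⁻¹ ∈ (UT : Subgroup SLn) :=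
        UT.mul_mem (UT.mul_mem ha ht) (UT.inv_mem ha)
      have hy2 : a * (wSL ρ * s * (wSL ρ)⁻¹) * a⁻¹ ∈
          MulAut.conj (a * wSL ρ * a') • (UT : Subgroup SLn) := by
        rw [mem_conj_smul]
        have : (a * wSL ρ * a')⁻¹ * (a * (wSL ρ * s * (wSL ρ)⁻¹) * a⁻¹) * (a * wSL ρ * a') =
            a'⁻¹ * s * a' := by group
        rw [this]
        exact UT.mul_mem (UT.mul_mem (UT.inv_mem ha') hs) ha'
      have hy : a * (wSL ρ * s * (wSL ρ)⁻¹) * a⁻¹ ∈
          (UT : Subgroup SLn) ⊓ MulAut.conj (a * wSL ρ * a') • (UT : Subgroup SLn) := ⟨hy1, hy2⟩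
      rw [hbot, Subgroup.mem_bot] at hy
      have h5 : s = (wSL ρ)⁻¹ * (a⁻¹ * (a * (wSL ρ * s * (wSL ρ)⁻¹) * a⁻¹) * a) * wSL ρ := by group
      rw [h5, hy]; group
    have hστ : σ = τ := perm_eq_of_antitone σ τ (key u hu σ u' hu' hg) (key v hv τ v' hv' hg')
    subst hστ
    refine ⟨v * u⁻¹, UT.mul_mem hv (UT.inv_mem hu), ?_⟩
    have h1 : MulAut.conj (v * wSL σ * v') • (UT : Subgroup SLn) =
        MulAut.conj (v * wSL σ) • (UT : Subgroup SLn) := by
      rw [← conj_smul_smul (v * wSL σ) v', conj_smul_eq_self hv']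
    have h2 : MulAut.conj (u * wSL σ * u') • (UT : Subgroup SLn) =
        MulAut.conj (u * wSL σ) • (UT : Subgroup SLn) := by
      rw [← conj_smul_smul (u * wSL σ) u', conj_smul_eq_self hu']
    rw [h1, h2, conj_smul_smul]
    have h3 : v * u⁻¹ * (u * wSL σ) = v * wSL σ := by group
    rw [h3]

theorem oppSyl_SL : OppSyl SLn :=
  OppSyl.of_oppAt (UT : Subgroup SLn) (isPGroup_UT (p := 2)) (not_dvd_index_UT (p := 2)) oppAt_UT

end Cfsg.Agent.Lib.H2.Opp
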