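import Cfsg.Agent.Lib.H11.OrMax8

/-!
# `GO(Q) ∩ SL` maximal in `SL_n(F)`, `q` odd, for `10 ≤ n` (helper2)

helper11's `Cfsg.Agent.Lib.H11.OrMax.quad_sim_maximal` needs `13 ≤ n`.  Two refinements lower the bound to `10`:
* a subspace `U ≤ c^⊥` with `Q c ≠ 0` and `n ≤ 2 dim U` contains a non-singular vector (`exists_nonsing_ker'`),
  so Step A (`exists_tv_in'`) works for `10 ≤ n`;
* `span_level'` with ONE hyperbolic pair (`9 ≤ n`): `L(y) - L(0) = y - Q(y) f`, `L(2y) - L(0) = 2y - 4 Q(y) f`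
  give `2 Q(y) f ∈ Y`.
The rest is helper11's proof with the weaker bound.
-/

set_option autoImplicit false
set_option linter.unusedSimpArgs false
set_option linter.unusedSectionVars false
set_option linter.unusedVariables false

namespace Cfsg.Agent.Lib.H2.OrMaxLow

open Matrix Module
open Cfsg.Agent.Lib.H28 Cfsg.Agent.Lib.H11.SubspMax
open Cfsg.Agent.Lib.H11.CD Cfsg.Agent.Lib.H11.SiegelGen
open Cfsg.Agent.Lib.H11.OrMax

variable {F : Type*} [Field F] {n : ℕ} (Q : QuadraticForm F (Fin n → F))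

set_option quotPrecheck false in
local notation "P" => QuadraticMap.polar (⇑Q)

/-- a subspace `U ≤ c^⊥`, `Q c ≠ 0`, of at least half the dimension contains a non-singular vector -/
theorem exists_nonsing_in' (hQ : (QuadraticMap.polarBilin Q).Nondegenerate)
    (U : Submodule F (Fin n → F)) (c : Fin n → F) (hc : Q c ≠ 0) (hU : ∀ x ∈ U, P c x = 0)
    (h : n ≤ 2 * finrank F U) : ∃ x ∈ U, Q x ≠ 0 := by
  by_contra hcon
  push Not at hcon
  have hle : U ≤ LinearMap.BilinForm.orthogonal (QuadraticMap.polarBilin Q) U := by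
    intro x hx
    rw [LinearMap.BilinForm.mem_orthogonal_iff]
    intro y hy
    show (QuadraticMap.polarBilin Q) y x = 0
    rw [QuadraticMap.polarBilin_apply_apply]
    simp only [QuadraticMap.polar]
    rw [hcon _ (U.add_mem hy hx), hcon _ hy, hcon _ hx]; ring
  have h1 : finrank F (LinearMap.BilinForm.orthogonal (QuadraticMap.polarBilin Q) U) ≤ finrank F U := by
    rw [LinearMap.BilinForm.finrank_orthogonal hQ, Module.finrank_fin_fun]
    omega
  have heq : U = LinearMap.BilinForm.orthogonal (QuadraticMap.polarBilin Q) U :=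
    Submodule.eq_of_le_of_finrank_le hle h1
  have hcU : c ∈ U := by
    rw [heq, LinearMap.BilinForm.mem_orthogonal_iff]
    intro y hy
    show (QuadraticMap.polarBilin Q) y c = 0
    rw [QuadraticMap.polarBilin_apply_apply, P_comm]
    exact hU y hy
  exact hc (hcon c hcU)

/-- a non-singular vector killed by `k ≤ n/2` functionals one of which is `P c ·` with `Q c ≠ 0` -/
theorem exists_nonsing_ker' (hQ : (QuadraticMap.polarBilin Q).Nondegenerate) {k : ℕ}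
    (fs : Fin k → Dual F (Fin n → F)) (c : Fin n → F) (hc : Q c ≠ 0) (i0 : Fin k)
    (hi0 : fs i0 = fr Q c) (h : 2 * k ≤ n) :
    ∃ x, (∀ i, fs i x = 0) ∧ Q x ≠ 0 := by
  have h1 := finrank_ker_pi fs
  obtain ⟨x, hx, hQx⟩ := exists_nonsing_in' Q hQ (LinearMap.ker (LinearMap.pi fs)) c hc
    (fun x hx => by
      have := (mem_ker_pi fs x).1 hx i0
      rw [hi0, fr_apply] at this
      exact this) (by omega)
  exact ⟨x, (mem_ker_pi fs x).1 hx, hQx⟩

/-- Step A: an overgroup of `N` containing a non-similarity contains a transvection of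
orthogonal type -/
theorem exists_tv_in' [Fintype F] (hQ : (QuadraticMap.polarBilin Q).Nondegenerate)
    (h2 : (2 : F) ≠ 0) (hn : 10 ≤ n) (M : Subgroup (GL (Fin n) F))
    (hNM : Cfsg.Geo.quadSimilarityGroup (⇑Q) ⊓ Cfsg.Geo.specialLinear (Fin n) F ≤ M)
    (h : GL (Fin n) F) (hhM : h ∈ M) (hh : h ∉ Cfsg.Geo.quadSimilarityGroup (⇑Q)) :
    ∃ (u a : Fin n → F) (hua : fr Q a u = 0), u ≠ 0 ∧ Q a ≠ 0 ∧ tvGL (fr Q a) u hua ∈ M := by
  obtain ⟨a, c, hQa, hQc, hac, hne⟩ := exists_witness Q hQ h2 (by omega) h hh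
  obtain ⟨hm, hhm⟩ : ∃ hm : Matrix (Fin n) (Fin n) F, hm = (h : Matrix (Fin n) (Fin n) F) :=
    ⟨_, rfl⟩
  obtain ⟨hi, hhi⟩ : ∃ hi : Matrix (Fin n) (Fin n) F,
    hi = ((h⁻¹ : GL (Fin n) F) : Matrix (Fin n) (Fin n) F) := ⟨_, rfl⟩
  rw [← hhm] at hne
  rw [← hhi] at hac
  have hihm : ∀ x, hi *ᵥ (hm *ᵥ x) = x := fun x => by rw [hhi, hhm, gl_inv_mulVec]
  have hmhi : ∀ x, hm *ᵥ (hi *ᵥ x) = x := fun x => by rw [hhi, hhm, gl_mulVec_inv]
  -- the vector b
  obtain ⟨b, hb, hQb⟩ := exists_nonsing_ker Q hQ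
    ![fr Q a, fr Q (hi *ᵥ c), (fr Q c).comp (Matrix.mulVecLin hm)] (by omega)
  have hab : P a b = 0 := hb 0
  have hxb : P (hi *ᵥ c) b = 0 := hb 1
  have hcb : P c (hm *ᵥ b) = 0 := hb 2
  -- the vector c'
  obtain ⟨c', hc', hQc'⟩ := exists_nonsing_ker' Q hQ
    ![(fr Q a).comp (Matrix.mulVecLin hi), (fr Q b).comp (Matrix.mulVecLin hi), fr Q c,
      fr Q (hm *ᵥ a), fr Q (hm *ᵥ b)] c hQc 2 rfl (by omega)
  have k1 : P a (hi *ᵥ c') = 0 := hc' 0
  have k2 : P b (hi *ᵥ c') = 0 := hc' 1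
  have k3 : P c c' = 0 := hc' 2
  have k4 : P (hm *ᵥ a) c' = 0 := hc' 3
  have k5 : P (hm *ᵥ b) c' = 0 := hc' 4
  have k4' : P c' (hm *ᵥ a) = 0 := by rw [P_comm]; exact k4
  have k5' : P c' (hm *ᵥ b) = 0 := by rw [P_comm]; exact k5
  have hxb' : P b (hi *ᵥ c) = 0 := by rw [P_comm]; exact hxb
  have hba : P b a = 0 := by rw [P_comm]; exact hab
  -- the elements
  obtain ⟨g, hg⟩ : ∃ g : GL (Fin n) F,
    g = ((rr Q c c' hQc hQc' : ↥(Cfsg.isometryGroup F ⇑Q)) : GL (Fin n) F) := ⟨_, rfl⟩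
  obtain ⟨k0, hk0⟩ : ∃ k0 : GL (Fin n) F,
    k0 = ((rr Q a b hQa hQb : ↥(Cfsg.isometryGroup F ⇑Q)) : GL (Fin n) F) := ⟨_, rfl⟩
  have hgM : g ∈ M := by rw [hg]; exact hNM (rr_mem_N Q c c' hQc hQc')
  have hk0M : k0 ∈ M := by rw [hk0]; exact hNM (rr_mem_N Q a b hQa hQb)
  obtain ⟨K, hK⟩ : ∃ K : GL (Fin n) F, K = h * k0 * h⁻¹ := ⟨_, rfl⟩
  have hkM : K ∈ M := by rw [hK]; exact M.mul_mem (M.mul_mem hhM hk0M) (M.inv_mem hhM)
  have g_act : ∀ v, (g : Matrix (Fin n) (Fin n) F) *ᵥ v =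
      v - ((Q c)⁻¹ * P c v) • c - ((Q c')⁻¹ * P c' v) • c' := by
    intro v
    rw [hg, rr_mulVec Q c c' hQc hQc' k3]
  have k_act : ∀ v, (K : Matrix (Fin n) (Fin n) F) *ᵥ v =
      v - ((Q a)⁻¹ * P a (hi *ᵥ v)) • (hm *ᵥ a) - ((Q b)⁻¹ * P b (hi *ᵥ v)) • (hm *ᵥ b) := by
    intro v
    rw [hK, gl_mul_mulVec, gl_mul_mulVec, hk0, rr_mulVec Q a b hQa hQb hab, ← hhi, ← hhm,
      Matrix.mulVec_sub, Matrix.mulVec_sub, Matrix.mulVec_smul, Matrix.mulVec_smul, hmhi]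
  -- the transvection
  obtain ⟨μ, hμ⟩ : ∃ μ : F, μ = -((Q c)⁻¹ * (Q a)⁻¹ * P c (hm *ᵥ a)) := ⟨_, rfl⟩
  have hμ0 : μ ≠ 0 := by
    rw [hμ]
    apply neg_ne_zero.2
    apply mul_ne_zero (mul_ne_zero (inv_ne_zero hQc) (inv_ne_zero hQa))
    rw [P_comm]; exact hne
  obtain ⟨φ, hφ⟩ : ∃ φ : Dual F (Fin n → F), φ = (μ • fr Q a).comp (Matrix.mulVecLin hi) :=
    ⟨_, rfl⟩
  have φ_apply : ∀ w, φ w = μ * P a (hi *ᵥ w) := by
    intro w
    rw [hφ, LinearMap.comp_apply, Matrix.mulVecLin_apply, LinearMap.smul_apply, fr_apply,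
      smul_eq_mul]
  have hφc : φ c = 0 := by rw [φ_apply, hac, mul_zero]
  have key : g * K = tvGL φ c hφc * K * g := by
    apply gl_ext
    intro v
    rw [gl_mul_mulVec, gl_mul_mulVec, gl_mul_mulVec, tvGL_mulVec, φ_apply]
    obtain ⟨A, hA⟩ : ∃ A, A = P a (hi *ᵥ v) := ⟨_, rfl⟩
    obtain ⟨B, hB⟩ : ∃ B, B = P b (hi *ᵥ v) := ⟨_, rfl⟩
    obtain ⟨C, hC⟩ : ∃ C, C = P c v := ⟨_, rfl⟩
    obtain ⟨C', hC'⟩ : ∃ C', C' = P c' v := ⟨_, rfl⟩
    obtain ⟨D, hD⟩ : ∃ D, D = P c (hm *ᵥ a) := ⟨_, rfl⟩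
    have e1 : (K : Matrix (Fin n) (Fin n) F) *ᵥ v =
        v - ((Q a)⁻¹ * A) • (hm *ᵥ a) - ((Q b)⁻¹ * B) • (hm *ᵥ b) := by rw [k_act, hA, hB]
    have e2 : (g : Matrix (Fin n) (Fin n) F) *ᵥ v =
        v - ((Q c)⁻¹ * C) • c - ((Q c')⁻¹ * C') • c' := by rw [g_act, hC, hC']
    have e3 : (g : Matrix (Fin n) (Fin n) F) *ᵥ
        (v - ((Q a)⁻¹ * A) • (hm *ᵥ a) - ((Q b)⁻¹ * B) • (hm *ᵥ b)) =
        (v - ((Q a)⁻¹ * A) • (hm *ᵥ a) - ((Q b)⁻¹ * B) • (hm *ᵥ b)) -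
          ((Q c)⁻¹ * (C - (Q a)⁻¹ * A * D)) • c - ((Q c')⁻¹ * C') • c' := by
      rw [g_act]
      simp only [QuadraticMap.polar_sub_right, QuadraticMap.polar_smul_right, smul_eq_mul,
        ← hC, ← hC', ← hD, hcb, k4', k5', mul_zero, sub_zero]
    have e4 : (K : Matrix (Fin n) (Fin n) F) *ᵥ
        (v - ((Q c)⁻¹ * C) • c - ((Q c')⁻¹ * C') • c') =
        (v - ((Q c)⁻¹ * C) • c - ((Q c')⁻¹ * C') • c') -
          ((Q a)⁻¹ * A) • (hm *ᵥ a) - ((Q b)⁻¹ * B) • (hm *ᵥ b) := by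
      rw [k_act]
      simp only [Matrix.mulVec_sub, Matrix.mulVec_smul, QuadraticMap.polar_sub_right,
        QuadraticMap.polar_smul_right, smul_eq_mul, ← hA, ← hB, hac, k1, k2, hxb', mul_zero,
        sub_zero]
    have e5 : P a (hi *ᵥ ((v - ((Q c)⁻¹ * C) • c - ((Q c')⁻¹ * C') • c') -
          ((Q a)⁻¹ * A) • (hm *ᵥ a) - ((Q b)⁻¹ * B) • (hm *ᵥ b))) = -A := by
      simp only [Matrix.mulVec_sub, Matrix.mulVec_smul, QuadraticMap.polar_sub_right,
        QuadraticMap.polar_smul_right, smul_eq_mul, ← hA, hac, k1, hihm, hab, P_self, mul_zero,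
        sub_zero]
      field_simp
      ring
    rw [e1, e3, e2, e4, e5, hμ, ← hD]
    module
  have htM : tvGL φ c hφc ∈ M := by
    have e : tvGL φ c hφc = g * K * g⁻¹ * K⁻¹ := by
      rw [key]; group
    rw [e]
    exact M.mul_mem (M.mul_mem (M.mul_mem hgM hkM) (M.inv_mem hgM)) (M.inv_mem hkM)
  -- conjugate back
  have hc0 : hi *ᵥ c ≠ 0 := by
    intro h0
    apply hQc
    have := hmhi c
    rw [h0, Matrix.mulVec_zero] at this
    rw [← this, QuadraticMap.map_zero]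
  have hua : fr Q a (μ • hi *ᵥ c) = 0 := by
    rw [fr_apply, QuadraticMap.polar_smul_right, hac, smul_zero]
  refine ⟨μ • hi *ᵥ c, a, hua, smul_ne_zero hμ0 hc0, hQa, ?_⟩
  have e : tvGL (fr Q a) (μ • hi *ᵥ c) hua = h⁻¹ * tvGL φ c hφc * h := by
    apply gl_ext
    intro v
    rw [gl_mul_mulVec, gl_mul_mulVec, tvGL_mulVec, tvGL_mulVec, φ_apply, ← hhi, ← hhm, hihm,
      Matrix.mulVec_add, Matrix.mulVec_smul, hihm, fr_apply, smul_smul, mul_comm]
  rw [e]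
  exact M.mul_mem (M.mul_mem (M.inv_mem hhM) htM) hhM


/-- a subspace containing a level set (inside `s^⊥`, avoiding a line) contains `s^⊥`; `9 ≤ n` -/
theorem span_level' [Fintype F] (hQ : (QuadraticMap.polarBilin Q).Nondegenerate) (h2 : (2 : F) ≠ 0)
    (hn : 9 ≤ n)
    (Y : Submodule F (Fin n → F)) (s u₀ : Fin n → F) (α : F)
    (hY : ∀ v, Q v = α → P s v = 0 → (∀ t : F, v ≠ t • u₀) → v ∈ Y)
    (w : Fin n → F) (hw : P s w = 0) : w ∈ Y := by
  obtain ⟨e, f, hQe, hQf, hef, hve, hvf⟩ := exists_hyp_perp Q hQ ![s, u₀, w] (by omega)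
  have se : P s e = 0 := hve 0
  have ue : P u₀ e = 0 := hve 1
  have we : P w e = 0 := hve 2
  have sf : P s f = 0 := hvf 0
  have uf : P u₀ f = 0 := hvf 1
  have wf : P w f = 0 := hvf 2
  have fe : P f e = 1 := by rw [P_comm]; exact hef
  have fu : P f u₀ = 0 := by rw [P_comm]; exact uf
  have L : ∀ y, P y e = 0 → P y f = 0 → P s y = 0 → y + e + (α - Q y) • f ∈ Y := by
    intro y hye hyf hsy
    apply hY
    · rw [add_assoc, Q_add, Q_add, QuadraticMap.map_smul, hQe, hQf, QuadraticMap.polar_smul_right,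
        hef, QuadraticMap.polar_add_right, QuadraticMap.polar_smul_right, hye, hyf]
      simp
    · rw [QuadraticMap.polar_add_right, QuadraticMap.polar_add_right,
        QuadraticMap.polar_smul_right, hsy, se, sf]
      simp
    · intro t ht
      have e1 : P f (y + e + (α - Q y) • f) = 1 := by
        rw [QuadraticMap.polar_add_right, QuadraticMap.polar_add_right,
          QuadraticMap.polar_smul_right, P_comm Q f y, hyf, fe, P_self, hQf]
        simp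
      rw [ht, QuadraticMap.polar_smul_right, fu, smul_zero] at e1
      exact zero_ne_one e1
  have hB : e + α • f ∈ Y := by
    have := L 0 (by simp) (by simp) (by simp)
    simpa using this
  -- a non-singular `y` orthogonal to `e, f, s`
  obtain ⟨y, hy, hQy⟩ := exists_nonsing_ker Q hQ ![fr Q e, fr Q f, fr Q s] (by omega)
  have ye : P y e = 0 := by rw [P_comm]; exact hy 0
  have yf : P y f = 0 := by rw [P_comm]; exact hy 1
  have sy : P s y = 0 := hy 2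
  have h1 := L y ye yf sy
  have h2y := L ((2 : F) • y)
    (by rw [QuadraticMap.polar_smul_left, ye, smul_zero])
    (by rw [QuadraticMap.polar_smul_left, yf, smul_zero])
    (by rw [QuadraticMap.polar_smul_right, sy, smul_zero])
  rw [QuadraticMap.map_smul] at h2y
  have hf : f ∈ Y := by
    have e1 : (2 * Q y) • f = (2 : F) • ((y + e + (α - Q y) • f) - (e + α • f)) -
        (((2 : F) • y + e + (α - 2 * 2 * Q y) • f) - (e + α • f)) := by
      module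
    have e2 : (2 * Q y) • f ∈ Y := by
      rw [e1]
      exact Y.sub_mem (Y.smul_mem _ (Y.sub_mem h1 hB)) (Y.sub_mem h2y hB)
    have e3 : f = (2 * Q y)⁻¹ • ((2 * Q y) • f) := by
      rw [smul_smul, inv_mul_cancel₀ (mul_ne_zero h2 hQy), one_smul]
    rw [e3]
    exact Y.smul_mem _ e2
  have he : e ∈ Y := by
    have : e = (e + α • f) - α • f := by abel
    rw [this]; exact Y.sub_mem hB (Y.smul_mem _ hf)
  have hA := L w we wf hw
  have : w = (w + e + (α - Q w) • f) - e - (α - Q w) • f := by abel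
  rw [this]
  exact Y.sub_mem (Y.sub_mem hA he) (Y.smul_mem _ hf)

section main
variable [Fintype F] (hQ : (QuadraticMap.polarBilin Q).Nondegenerate) (h2 : (2 : F) ≠ 0)
  (hn : 10 ≤ n) (M : Subgroup (GL (Fin n) F))
  (hNM : Cfsg.Geo.quadSimilarityGroup (⇑Q) ⊓ Cfsg.Geo.specialLinear (Fin n) F ≤ M)
include hQ h2 hn hNM

/-- Claim 1 -/
theorem TT_level' (u₀ a₀ : Fin n → F) (hT : TT Q M u₀ a₀) (hu₀ : u₀ ≠ 0) (ha₀ : Q a₀ ≠ 0)
    (u₁ : Fin n → F) (hau₁ : P a₀ u₁ = 0) (hQu₁ : Q u₁ = Q u₀) (hne : ∀ t : F, u₁ ≠ t • u₀)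
    (lam : F) : TT Q M (lam • u₁) a₀ := by
  have hu₁0 : u₁ ≠ 0 := by
    intro h0
    exact hne 0 (by rw [h0, zero_smul])
  obtain ⟨e, f, hQe, hQf, hef, hve, hvf⟩ := exists_hyp_perp Q hQ ![u₀, u₁] (by omega)
  have u0e : P u₀ e = 0 := hve 0
  have u1e : P u₁ e = 0 := hve 1
  have u0f : P u₀ f = 0 := hvf 0
  have u1f : P u₁ f = 0 := hvf 1
  have hnm : u₀ ∉ Submodule.span F {u₁} := by
    intro hmem
    rw [Submodule.mem_span_singleton] at hmem
    obtain ⟨s, hs⟩ := hmem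
    have hs0 : s ≠ 0 := by
      rintro rfl
      rw [zero_smul] at hs
      exact hu₀ hs.symm
    exact hne s⁻¹ (by rw [← hs, smul_smul, inv_mul_cancel₀ hs0, one_smul])
  obtain ⟨φ, hφ0, hφ1⟩ := Submodule.exists_le_ker_of_notMem hnm
  obtain ⟨p, rfl⟩ := exists_fr Q hQ φ
  have hp0 : P p u₀ ≠ 0 := hφ0
  have hp1 : P p u₁ = 0 := by
    have := hφ1 (Submodule.mem_span_singleton_self u₁)
    exact this
  obtain ⟨p₁, hp₁⟩ : ∃ p₁, p₁ = (-lam / P p u₀) • p := ⟨_, rfl⟩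
  have hp₁0 : P p₁ u₀ = -lam := by
    rw [hp₁, QuadraticMap.polar_smul_left, smul_eq_mul, div_mul_cancel₀ _ hp0]
  have hp₁1 : P p₁ u₁ = 0 := by
    rw [hp₁, QuadraticMap.polar_smul_left, hp1, smul_zero]
  obtain ⟨p', hp'⟩ : ∃ p', p' = p₁ - (P p₁ f) • e - (P p₁ e) • f := ⟨_, rfl⟩
  have fe : P f e = 1 := by rw [P_comm]; exact hef
  have hp'e : P p' e = 0 := by
    rw [hp', QuadraticMap.polar_sub_left, QuadraticMap.polar_sub_left,
      QuadraticMap.polar_smul_left, QuadraticMap.polar_smul_left, P_self, hQe, fe]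
    simp
  have hp'f : P p' f = 0 := by
    rw [hp', QuadraticMap.polar_sub_left, QuadraticMap.polar_sub_left,
      QuadraticMap.polar_smul_left, QuadraticMap.polar_smul_left, P_self, hQf, hef]
    simp
  have hp'0 : P p' u₀ = -lam := by
    rw [hp', QuadraticMap.polar_sub_left, QuadraticMap.polar_sub_left,
      QuadraticMap.polar_smul_left, QuadraticMap.polar_smul_left, P_comm Q e u₀, P_comm Q f u₀,
      u0e, u0f, hp₁0]
    simp
  have hp'1 : P p' u₁ = 0 := by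
    rw [hp', QuadraticMap.polar_sub_left, QuadraticMap.polar_sub_left,
      QuadraticMap.polar_smul_left, QuadraticMap.polar_smul_left, P_comm Q e u₁, P_comm Q f u₁,
      u1e, u1f, hp₁1]
    simp
  obtain ⟨a₁, ha₁⟩ : ∃ a₁, a₁ = p' + e + (Q a₀ - Q p') • f := ⟨_, rfl⟩
  have hQa₁ : Q a₁ = Q a₀ := by
    rw [ha₁, add_assoc, Q_add, Q_add, QuadraticMap.map_smul, hQe, hQf,
      QuadraticMap.polar_smul_right, hef, QuadraticMap.polar_add_right,
      QuadraticMap.polar_smul_right, hp'e, hp'f]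
    simp
  have ha₁0 : P a₁ u₀ = -lam := by
    rw [ha₁, QuadraticMap.polar_add_left, QuadraticMap.polar_add_left,
      QuadraticMap.polar_smul_left, P_comm Q e u₀, P_comm Q f u₀, u0e, u0f, hp'0]
    simp
  have ha₁1 : P a₁ u₁ = 0 := by
    rw [ha₁, QuadraticMap.polar_add_left, QuadraticMap.polar_add_left,
      QuadraticMap.polar_smul_left, P_comm Q e u₁, P_comm Q f u₁, u1e, u1f, hp'1]
    simp
  have hQa₁0 : Q a₁ ≠ 0 := by rw [hQa₁]; exact ha₀
  obtain ⟨g0, hdet, hg0⟩ := witt_det_one Q hQ 2 ![u₀, a₀] ![u₁, a₁]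
    (li_pair' Q h2 u₀ a₀ hu₀ ha₀ hT.1) (li_pair' Q h2 u₁ a₁ hu₁0 hQa₁0 ha₁1)
    (Cfsg.Agent.Lib.H11.OmegaTrans.Q_pair Q u₀ a₀ u₁ a₁ hQu₁ hQa₁)
    (Cfsg.Agent.Lib.H11.OmegaTrans.gram_pair Q u₀ a₀ u₁ a₁ hQu₁ hQa₁
      (by rw [P_comm Q u₁ a₁, ha₁1, P_comm Q u₀ a₀, hT.1])) (by omega)
  have h0 : act Q g0 u₀ = u₁ := hg0 0
  have h1 : act Q g0 a₀ = a₁ := hg0 1
  have hg0M : (g0 : GL (Fin n) F) ∈ M := hNM (iso_mem_N Q g0 hdet)
  have hT' := TT_conj Q M hT g0 hg0M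
  rw [h0, h1] at hT'
  have := TT_comm Q M hT hT' hau₁
  rw [ha₁0, neg_neg] at this
  exact this

/-- Claim 2 -/
theorem TT_all_left' (u₀ a₀ : Fin n → F) (hT : TT Q M u₀ a₀) (hu₀ : u₀ ≠ 0) (ha₀ : Q a₀ ≠ 0)
    (u : Fin n → F) (hau : P a₀ u = 0) : TT Q M u a₀ := by
  obtain ⟨Y, hY⟩ : ∃ Y : Submodule F (Fin n → F),
      ∀ v, v ∈ Y ↔ (P a₀ v = 0 ∧ ∀ lam : F, TT Q M (lam • v) a₀) := by
    refine ⟨{ carrier := {v | P a₀ v = 0 ∧ ∀ lam : F, TT Q M (lam • v) a₀}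
              add_mem' := ?_
              zero_mem' := ?_
              smul_mem' := ?_ }, fun v => Iff.rfl⟩
    · rintro v w ⟨hv1, hv2⟩ ⟨hw1, hw2⟩
      refine ⟨by rw [QuadraticMap.polar_add_right, hv1, hw1, add_zero], fun lam => ?_⟩
      rw [smul_add]
      exact TT_add_left Q M (hv2 lam) (hw2 lam)
    · refine ⟨by simp, fun lam => ?_⟩
      rw [smul_zero]
      exact TT_zero_left Q M a₀
    · rintro c v ⟨hv1, hv2⟩
      refine ⟨by rw [QuadraticMap.polar_smul_right, hv1, smul_zero], fun lam => ?_⟩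
      rw [smul_smul]
      exact hv2 _
  have h1 := span_level' Q hQ h2 (by omega) Y a₀ u₀ (Q u₀) (fun v hv1 hv2 hv3 => (hY v).2
    ⟨hv2, fun lam => TT_level' Q hQ h2 hn M hNM u₀ a₀ hT hu₀ ha₀ v hv2 hv1 hv3 lam⟩) u hau
  have h3 := ((hY u).1 h1).2 1
  rwa [one_smul] at h3

/-- Claim 3 -/
theorem TT_all_level' (u₀ a₀ : Fin n → F) (hT : TT Q M u₀ a₀) (hu₀ : u₀ ≠ 0) (ha₀ : Q a₀ ≠ 0)
    (a : Fin n → F) (hQa : Q a = Q a₀) (u : Fin n → F) (hau : P a u = 0) : TT Q M u a := by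
  have ha0 : a₀ ≠ 0 := by
    rintro rfl
    exact ha₀ (QuadraticMap.map_zero _)
  have ha0' : a ≠ 0 := by
    rintro rfl
    rw [QuadraticMap.map_zero] at hQa
    exact ha₀ hQa.symm
  obtain ⟨g0, hdet, hg0⟩ := witt_det_one Q hQ 1 (fun _ => a₀) (fun _ => a)
    (linearIndependent_unique_iff.2 ha0) (linearIndependent_unique_iff.2 ha0')
    (fun _ => hQa) (fun _ _ => by rw [P_self, P_self, hQa]) (by omega)
  have h0 : act Q g0 a₀ = a := hg0 0
  have hg0M : (g0 : GL (Fin n) F) ∈ M := hNM (iso_mem_N Q g0 hdet)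
  have h1 : P a₀ (act Q g0⁻¹ u) = 0 := by
    rw [← polar_act Q g0, h0, Cfsg.Agent.Lib.H11.OmegaTrans.act_inv_act]
    exact hau
  have hT' := TT_all_left' Q hQ h2 hn M hNM u₀ a₀ hT hu₀ ha₀ _ h1
  have := TT_conj Q M hT' g0 hg0M
  rwa [h0, Cfsg.Agent.Lib.H11.OmegaTrans.act_inv_act] at this

/-- Claim 4 -/
theorem TT_all' (u₀ a₀ : Fin n → F) (hT : TT Q M u₀ a₀) (hu₀ : u₀ ≠ 0) (ha₀ : Q a₀ ≠ 0)
    (u z : Fin n → F) (hzu : P z u = 0) : TT Q M u z := by
  obtain ⟨Z, hZ⟩ : ∃ Z : Submodule F (Fin n → F),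
      ∀ v, v ∈ Z ↔ (P v u = 0 ∧ ∀ lam : F, TT Q M (lam • u) v) := by
    refine ⟨{ carrier := {v | P v u = 0 ∧ ∀ lam : F, TT Q M (lam • u) v}
              add_mem' := ?_
              zero_mem' := ?_
              smul_mem' := ?_ }, fun v => Iff.rfl⟩
    · rintro v w ⟨hv1, hv2⟩ ⟨hw1, hw2⟩
      refine ⟨by rw [QuadraticMap.polar_add_left, hv1, hw1, add_zero], fun lam => ?_⟩
      exact TT_add_right Q M (hv2 lam) (hw2 lam)
    · refine ⟨by simp, fun lam => ?_⟩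
      exact TT_zero_right Q M _
    · rintro c v ⟨hv1, hv2⟩
      refine ⟨by rw [QuadraticMap.polar_smul_left, hv1, smul_zero], fun lam => ?_⟩
      rw [← TT_smul_swap, smul_smul]
      exact hv2 _
  have h1 := span_level' Q hQ h2 (by omega) Z u 0 (Q a₀) (fun v hv1 hv2 _ => (hZ v).2
    ⟨by rw [P_comm]; exact hv2, fun lam => TT_all_level' Q hQ h2 hn M hNM u₀ a₀ hT hu₀ ha₀ v hv1
      (lam • u) (by rw [QuadraticMap.polar_smul_right, P_comm, hv2, smul_zero])⟩) z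
    (by rw [P_comm]; exact hzu)
  have h3 := ((hZ z).1 h1).2 1
  rwa [one_smul] at h3

/-- an overgroup of `N` containing a non-similarity contains `SL` -/
theorem sl_le' (h : GL (Fin n) F) (hhM : h ∈ M)
    (hh : h ∉ Cfsg.Geo.quadSimilarityGroup (⇑Q)) : Cfsg.Geo.specialLinear (Fin n) F ≤ M := by
  obtain ⟨u₀, a₀, hua, hu₀, ha₀, hmem⟩ := exists_tv_in' Q hQ h2 hn M hNM h hhM hh
  have hT : TT Q M u₀ a₀ := ⟨hua, _, hmem, fun x => by rw [tvGL_mulVec, fr_apply]⟩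
  have : Nontrivial (Fin n) := by
    rw [← Fintype.one_lt_card_iff_nontrivial, Fintype.card_fin]; omega
  apply sl_le_of_tvGL
  intro φ u hφ
  obtain ⟨z, rfl⟩ := exists_fr Q hQ φ
  obtain ⟨-, g, hg, hgx⟩ := TT_all' Q hQ h2 hn M hNM u₀ a₀ hT hu₀ ha₀ u z hφ
  have : tvGL (fr Q z) u hφ = g := gl_ext (fun x => by rw [tvGL_mulVec, hgx, fr_apply])
  rw [this]
  exact hg

end main

/-- the similarity group of a quadratic form meets `SL` in a proper subgroup -/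
theorem sim_lt' [Fintype F] (hQ : (QuadraticMap.polarBilin Q).Nondegenerate) (hn : 10 ≤ n) :
    Cfsg.Geo.quadSimilarityGroup (⇑Q) ⊓ Cfsg.Geo.specialLinear (Fin n) F <
      Cfsg.Geo.specialLinear (Fin n) F := by
  refine lt_of_le_of_ne inf_le_right ?_
  intro heq
  obtain ⟨e, f, e', f', hQe, hQf, hef, hQe', hQf', hef', hee', hef'', hfe', hff', -, -, -, -⟩ :=
    exists_two_hyp_perp Q hQ (k := 0) (fun i => i.elim0) (by omega)
  have h0 : fr Q e' e = 0 := by rw [fr_apply, P_comm]; exact hee'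
  have hmem : tvGL (fr Q e') e h0 ∈
      Cfsg.Geo.quadSimilarityGroup (⇑Q) ⊓ Cfsg.Geo.specialLinear (Fin n) F := by
    rw [heq]; exact tvGL_mem_specialLinear _ _ _
  obtain ⟨c, hc⟩ := hmem.1
  have h1 := hc (f + f')
  rw [tvGL_mulVec, fr_apply, QuadraticMap.polar_add_right, P_comm Q e' f, hfe', hef', zero_add,
    one_smul, Q_add, Q_add, hQf, hQf', hQe, hff', QuadraticMap.polar_add_left, P_comm Q f e, hef,
    P_comm Q f' e, hef''] at h1
  simp at h1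

theorem quad_sim_maximal' [Fintype F] (hQ : (QuadraticMap.polarBilin Q).Nondegenerate)
    (h2 : (2 : F) ≠ 0) (hn : 10 ≤ n) :
    Cfsg.Geo.IsMaximalIn (Cfsg.Geo.specialLinear (Fin n) F)
      (Cfsg.Geo.quadSimilarityGroup (⇑Q) ⊓ Cfsg.Geo.specialLinear (Fin n) F) := by
  refine ⟨sim_lt' Q hQ hn, ?_⟩
  intro M hNM hMS
  by_cases hMN : M = Cfsg.Geo.quadSimilarityGroup (⇑Q) ⊓ Cfsg.Geo.specialLinear (Fin n) F
  · left; exact hMN
  right
  apply le_antisymm hMS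
  obtain ⟨h, hhM, hhN⟩ : ∃ h ∈ M, h ∉ Cfsg.Geo.quadSimilarityGroup (⇑Q) := by
    by_contra hcon
    push Not at hcon
    apply hMN
    apply le_antisymm _ hNM
    intro g hg
    exact ⟨hcon g hg, hMS hg⟩
  exact sl_le' Q hQ h2 hn M hNM h hhM hhN


/-- `GO(Q) ∩ SL` is maximal in `SL_n(F)`, `q` odd, `10 ≤ n` (helper11's statement with the weaker bound) -/
theorem quad_sim_maximal [Fintype F] (hQ : (QuadraticMap.polarBilin Q).Nondegenerate)
    (h2 : (2 : F) ≠ 0) (hn : 10 ≤ n) :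
    Cfsg.Geo.IsMaximalIn (Cfsg.Geo.specialLinear (Fin n) F)
      (Cfsg.Geo.quadSimilarityGroup (⇑Q) ⊓ Cfsg.Geo.specialLinear (Fin n) F) :=
  quad_sim_maximal' Q hQ h2 hn

/-- the same in the vocabulary of the frozen statements (cf. `Cfsg/Agent/S5644.lean`) -/
theorem quad_sim_maximal_of {F : Type*} [Field F] [Fintype F] (n : ℕ) (hn : 10 ≤ n)
    (hodd : Odd (Fintype.card F)) (Q : (Fin n → F) → F)
    (hQ : Cfsg.Geo.IsNondegenerateQuadraticForm Q) :
    Cfsg.Geo.IsMaximalIn (Cfsg.Geo.specialLinear (Fin n) F)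
      (Cfsg.Geo.quadSimilarityGroup Q ⊓ Cfsg.Geo.specialLinear (Fin n) F) := by
  have h2 : (2 : F) ≠ 0 := by
    intro h0
    have h1 : ringChar F = 2 := CharP.ringChar_of_prime_eq_zero Nat.prime_two (by exact_mod_cast h0)
    rw [FiniteField.even_card_iff_char_two] at h1
    rw [Nat.odd_iff] at hodd
    omega
  obtain ⟨B, hB⟩ : ∃ B : LinearMap.BilinMap F (Fin n → F) F, ∀ x y, B x y = QuadraticMap.polar Q x y :=
    ⟨LinearMap.mk₂ F (QuadraticMap.polar Q) hQ.polar_bilinear.add_left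
      hQ.polar_bilinear.smul_left hQ.polar_bilinear.add_right hQ.polar_bilinear.smul_right,
      fun x y => rfl⟩
  obtain ⟨Qf, hQf⟩ : ∃ Qf : QuadraticForm F (Fin n → F), ⇑Qf = Q :=
    ⟨{ toFun := Q
       toFun_smul := fun a x => by rw [hQ.smul, pow_two, smul_eq_mul]
       exists_companion' := ⟨B, fun x y => by rw [hB]; unfold QuadraticMap.polar; ring⟩ }, rfl⟩
  have hnd : (QuadraticMap.polarBilin Qf).Nondegenerate := by
    constructor
    · intro x hx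
      by_contra hne
      obtain ⟨-, y, hy⟩ := hQ.nondegenerate x hne
      apply hy
      have := hx y
      rw [QuadraticMap.polarBilin_apply_apply, hQf] at this
      exact this
    · intro x hx
      by_contra hne
      obtain ⟨⟨y, hy⟩, -⟩ := hQ.nondegenerate x hne
      apply hy
      have := hx y
      rw [QuadraticMap.polarBilin_apply_apply, hQf] at this
      exact this
  have := quad_sim_maximal' Qf hnd h2 hn
  rw [hQf] at this
  exact this

end Cfsg.Agent.Lib.H2.OrMaxLow
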