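import Mathlib
import Cfsg.Agent.Lib.H1.NilpotentBasic

/-!
helper2 library: tools for recognising `C₃ ≀ S₃` (order 162): an involution-invariant hyperplane
of an elementary abelian 3-group avoiding a fixed vector, via an averaged complex character.
-/

set_option autoImplicit false

namespace Cfsg.Agent.Lib.H2.Ord162

open scoped Pointwise

variable {G : Type*} [Group G]

/-- A nontrivial subgroup `K ≤ P` normalised by the finite `p`-subgroup `P` contains a nontrivial
element centralising `P`. -/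
theorem exists_mem_centralizer_of_normal {p : ℕ} [Fact p.Prime] (P K : Subgroup G) [Finite P]
    (hP : IsPGroup p P) (hKP : K ≤ P) (hK : K ≠ ⊥) (hn : P ≤ Subgroup.normalizer (K : Set G)) :
    ∃ x ∈ K, x ≠ 1 ∧ x ∈ Subgroup.centralizer (P : Set G) := by
  have : Group.IsNilpotent P := hP.isNilpotent
  have : (K.subgroupOf P).Normal := by
    constructor
    intro n hn' g
    rw [Subgroup.mem_subgroupOf] at hn' ⊢
    have := (Subgroup.mem_normalizer_iff.mp (hn g.2) (n : G)).mp hn'
    simpa using this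
  have hne : K.subgroupOf P ≠ ⊥ := by
    intro h
    apply hK
    rw [eq_bot_iff]
    intro x hx
    have : (⟨x, hKP hx⟩ : P) ∈ K.subgroupOf P := Subgroup.mem_subgroupOf.mpr hx
    rw [h, Subgroup.mem_bot] at this
    rw [Subgroup.mem_bot]
    exact congrArg Subtype.val this
  have h := Cfsg.Agent.Lib.H1.normal_inf_center_ne_bot (K.subgroupOf P) hne
  obtain ⟨⟨y, hy⟩, hy1⟩ := (Subgroup.ne_bot_iff_exists_ne_one).mp h
  rw [Subgroup.mem_inf, Subgroup.mem_subgroupOf, Subgroup.mem_center_iff] at hy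
  refine ⟨(y : G), hy.1, fun h1 => hy1 (Subtype.ext (Subtype.ext h1)), ?_⟩
  rw [Subgroup.mem_centralizer_iff]
  intro s hs
  have := hy.2 ⟨s, hs⟩
  exact congrArg Subtype.val this

/-- An invariant hyperplane: if `J` is a finite normal abelian subgroup of exponent 3, `t` an
involution and `z ∈ J` a nontrivial element centralised by `t`, then some subgroup `J₀ ≤ J` of
index 3 is normalised by `t` and does not contain `z`. -/
theorem exists_invariant_hyperplane [Finite G] (J : Subgroup G) [hJn : J.Normal]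
    (hJcomm : ∀ a ∈ J, ∀ b ∈ J, a * b = b * a) (hJexp : ∀ a ∈ J, a ^ 3 = 1) (t z : G)
    (ht : t * t = 1) (hzJ : z ∈ J) (hz1 : z ≠ 1) (htz : t * z * t⁻¹ = z) :
    ∃ J₀ : Subgroup G, J₀ ≤ J ∧ (∀ a ∈ J₀, t * a * t⁻¹ ∈ J₀) ∧ z ∉ J₀ ∧
      Nat.card J = 3 * Nat.card J₀ := by
  classical
  let _ : CommGroup J := { (inferInstance : Group J) with
    mul_comm := fun a b => Subtype.ext (hJcomm a a.2 b b.2) }
  have : NeZero (Monoid.exponent J) := ⟨Monoid.exponent_ne_zero_of_finite⟩
  obtain ⟨φ, hφ⟩ := CommGroup.exists_apply_ne_one_of_hasEnoughRootsOfUnity J ℂ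
    (a := (⟨z, hzJ⟩ : J)) (fun h => hz1 (congrArg Subtype.val h))
  set θ : J ≃* J := MulAut.conjNormal t with hθ
  have hθθ : ∀ a : J, θ (θ a) = a := by
    intro a
    apply Subtype.ext
    rw [hθ, MulAut.conjNormal_apply, MulAut.conjNormal_apply]
    have ht' : t⁻¹ = t := inv_eq_of_mul_eq_one_left ht
    rw [ht']
    calc t * (t * a * t) * t = (t * t) * a * (t * t) := by group
      _ = a := by rw [ht, one_mul, mul_one]
  have hθz : θ ⟨z, hzJ⟩ = ⟨z, hzJ⟩ := by
    apply Subtype.ext
    rw [hθ, MulAut.conjNormal_apply]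
    exact htz
  set ψ : J →* ℂˣ := φ * φ.comp θ.toMonoidHom with hψ
  have hψapp : ∀ a : J, ψ a = φ a * φ (θ a) := fun a => rfl
  have hψθ : ∀ a : J, ψ (θ a) = ψ a := by
    intro a
    rw [hψapp, hψapp, hθθ, mul_comm]
  have hφ3 : φ ⟨z, hzJ⟩ ^ 3 = 1 := by
    rw [← map_pow]
    have : (⟨z, hzJ⟩ : J) ^ 3 = 1 := Subtype.ext (by simpa using hJexp z hzJ)
    rw [this, map_one]
  have hψz : ψ ⟨z, hzJ⟩ ≠ 1 := by
    rw [hψapp, hθz]
    intro h
    apply hφ
    have h2 : φ ⟨z, hzJ⟩ ^ 2 = 1 := by rw [pow_two]; exact h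
    calc φ ⟨z, hzJ⟩ = φ ⟨z, hzJ⟩ ^ 3 * (φ ⟨z, hzJ⟩ ^ 2)⁻¹ := by group
      _ = 1 := by rw [hφ3, h2]; simp
  refine ⟨ψ.ker.map J.subtype, Subgroup.map_subtype_le _, ?_, ?_, ?_⟩
  · rintro _ ⟨a, ha, rfl⟩
    refine ⟨θ a, ?_, ?_⟩
    · rw [SetLike.mem_coe, MonoidHom.mem_ker] at ha ⊢
      rw [hψθ, ha]
    · rw [hθ]
      simp [MulAut.conjNormal_apply]
  · rintro ⟨a, ha, haz⟩
    rw [SetLike.mem_coe, MonoidHom.mem_ker] at ha
    apply hψz
    have : a = ⟨z, hzJ⟩ := Subtype.ext haz
    rw [← this]; exact ha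
  · -- cardinalities
    have hrange : Nat.card ψ.range = 3 := by
      have hfin : Finite ψ.range := by
        have : Finite (Set.range ψ) := inferInstance
        exact this
      have : IsCyclic ψ.range := isCyclic_subgroup_units _
      have hexp : Monoid.exponent ψ.range ∣ 3 := by
        apply Monoid.exponent_dvd_of_forall_pow_eq_one
        rintro ⟨_, ⟨a, rfl⟩⟩
        apply Subtype.ext
        simp only [SubgroupClass.coe_pow, OneMemClass.coe_one]
        rw [← map_pow]
        have : a ^ 3 = 1 := Subtype.ext (by simpa using hJexp a a.2)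
        rw [this, map_one]
      rw [IsCyclic.exponent_eq_card] at hexp
      rcases (Nat.dvd_prime Nat.prime_three).mp hexp with h | h
      · exfalso
        apply hψz
        have hsub : Subsingleton ψ.range := (Nat.card_eq_one_iff_unique.mp h).1
        have := Subsingleton.elim (⟨ψ ⟨z, hzJ⟩, ⟨_, rfl⟩⟩ : ψ.range) 1
        exact congrArg Subtype.val this
      · exact h
    have h1 := Subgroup.card_mul_index ψ.ker
    rw [Subgroup.index_ker, hrange] at h1
    rw [Nat.card_congr (Subgroup.equivMapOfInjective ψ.ker J.subtype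
      (Subgroup.subtype_injective J)).toEquiv.symm, ← h1, mul_comm]

end Cfsg.Agent.Lib.H2.Ord162
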