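import Mathlib
import Cfsg.Agent.Lib.H2.Ord162a

/-!
helper2 library: recognition of the group of order 162 with the structure of `C₃ ≀ S₃`
(the centraliser in `S₉` of a product of three disjoint 3-cycles).
-/

set_option autoImplicit false
set_option maxHeartbeats 1000000

namespace Cfsg.Agent.Lib.H2.Ord162

open scoped Pointwise

/-- The product of three disjoint 3-cycles on 9 points. -/
abbrev sig : Equiv.Perm (Fin 9) :=
  Equiv.swap (0 : Fin 9) 1 * Equiv.swap 1 2 * Equiv.swap 3 4 * Equiv.swap 4 5 * Equiv.swap 6 7 *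
    Equiv.swap 7 8

theorem cycleType_sig : sig.cycleType = {3, 3, 3} := by
  unfold sig
  decide

theorem card_centralizer_of_cycleType (g : Equiv.Perm (Fin 9)) (h : g.cycleType = {3, 3, 3}) :
    Nat.card (Subgroup.centralizer ({g} : Set (Equiv.Perm (Fin 9)))) = 162 := by
  rw [Equiv.Perm.nat_card_centralizer, h]
  decide

variable {G : Type*} [Group G]

/-- A subgroup of prime order is contained in any subgroup containing one of its nontrivial
elements. -/
theorem le_of_prime_card {p : ℕ} [hp : Fact p.Prime] (Z N : Subgroup G) (hZ : Nat.card Z = p)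
    {x : G} (hxZ : x ∈ Z) (hx1 : x ≠ 1) (hxN : x ∈ N) : Z ≤ N := by
  have hfin : Finite Z := Nat.finite_of_card_ne_zero (by rw [hZ]; exact hp.out.ne_zero)
  have hle : Subgroup.zpowers x ≤ Z := by rwa [Subgroup.zpowers_le]
  have hcard : Nat.card (Subgroup.zpowers x) = p := by
    have hdvd := Subgroup.card_dvd_of_le hle
    rw [hZ] at hdvd
    rcases (Nat.dvd_prime hp.out).mp hdvd with h | h
    · exfalso
      rw [Nat.card_zpowers] at h
      exact hx1 (orderOf_eq_one_iff.mp h)
    · exact h
  have heq : Subgroup.zpowers x = Z := Subgroup.eq_of_le_of_card_ge hle (by rw [hZ, hcard])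
  rw [← heq, Subgroup.zpowers_le]
  exact hxN

theorem main [Finite G] (hG : Nat.card G = 162)
    (S : Sylow 3 G) (T : Sylow 2 G) (J : Subgroup G) [hJn : J.Normal]
    (hJcomm : IsMulCommutative J)
    (hJexp : ∀ a ∈ J, a ^ 3 = 1) (hJcard : Nat.card J = 27)
    (Z : Subgroup G)
    (hZ : Z = (S : Subgroup G) ⊓ Subgroup.centralizer ((S : Subgroup G) : Set G))
    (hZcard : Nat.card Z = 3)
    (hZT : Z ≤ Subgroup.centralizer ((T : Subgroup G) : Set G))
    (hST : (S : Subgroup G) ⊓ Subgroup.centralizer ((T : Subgroup G) : Set G) ≠ S) :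
    Nonempty (G ≃* Subgroup.centralizer ({sig} : Set (Equiv.Perm (Fin 9)))) := by
  classical
  have h3 : (162 : ℕ).factorization 3 = 4 := by decide +kernel
  have h2 : (162 : ℕ).factorization 2 = 1 := by decide +kernel
  have hS81 : Nat.card (S : Subgroup G) = 81 := by
    rw [Sylow.card_eq_multiplicity, hG, h3]; norm_num
  have hT2 : Nat.card (T : Subgroup G) = 2 := by
    rw [Sylow.card_eq_multiplicity, hG, h2]; norm_num
  -- `J ≤ S`
  have hJp : IsPGroup 3 J := IsPGroup.of_card (n := 3) (by rw [hJcard]; norm_num)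
  have hJS : J ≤ S := by
    have h1 : IsPGroup 3 ((S : Subgroup G) ⊔ J : Subgroup G) :=
      IsPGroup.to_sup_of_normal_right S.2 hJp
    have h2 := S.is_maximal' h1 le_sup_left
    rw [← h2]
    exact le_sup_right
  -- the involution `t`
  have hTne : (T : Subgroup G) ≠ ⊥ := by
    intro h
    rw [h, Subgroup.card_bot] at hT2
    omega
  obtain ⟨⟨t, htT⟩, ht1'⟩ := (Subgroup.ne_bot_iff_exists_ne_one).mp hTne
  have ht1 : t ≠ 1 := fun h => ht1' (Subtype.ext h)
  have htt : t * t = 1 := by
    have := pow_card_eq_one' (G := (T : Subgroup G)) (x := ⟨t, htT⟩)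
    rw [hT2] at this
    have := congrArg Subtype.val this
    simpa [pow_two] using this
  have htinv : t⁻¹ = t := inv_eq_of_mul_eq_one_left htt
  have hTz : (T : Subgroup G) = Subgroup.zpowers t := by
    symm
    apply Subgroup.eq_of_le_of_card_ge
    · rwa [Subgroup.zpowers_le]
    · rw [hT2, Nat.card_zpowers]
      have : Fact (Nat.Prime 2) := ⟨Nat.prime_two⟩
      rw [orderOf_eq_prime (by rw [pow_two]; exact htt) ht1]
  have hTmem : ∀ τ ∈ (T : Subgroup G), τ = 1 ∨ τ = t := by
    intro τ hτ
    rw [hTz, Subgroup.mem_zpowers_iff] at hτ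
    obtain ⟨k, rfl⟩ := hτ
    rcases Int.emod_two_eq_zero_or_one k with h | h
    · left
      have : k = 2 * (k / 2) := by omega
      rw [this, zpow_mul, zpow_two, htt, one_zpow]
    · right
      have : k = 2 * (k / 2) + 1 := by omega
      rw [this, zpow_add, zpow_mul, zpow_two, htt, one_zpow, one_mul, zpow_one]
  -- the central element `z`
  have hZne : Z ≠ ⊥ := by
    intro h
    rw [h, Subgroup.card_bot] at hZcard
    omega
  obtain ⟨⟨z, hzZ⟩, hz1'⟩ := (Subgroup.ne_bot_iff_exists_ne_one).mp hZne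
  have hz1 : z ≠ 1 := fun h => hz1' (Subtype.ext h)
  have hzS : z ∈ (S : Subgroup G) := by rw [hZ] at hzZ; exact hzZ.1
  have hzCS : z ∈ Subgroup.centralizer ((S : Subgroup G) : Set G) := by rw [hZ] at hzZ; exact hzZ.2
  have hzt : t * z = z * t := (Subgroup.mem_centralizer_iff.mp (hZT hzZ)) t htT
  have htz : t * z * t⁻¹ = z := by rw [hzt, mul_assoc, mul_inv_cancel, mul_one]
  -- `S ⊔ T = ⊤`
  have hSTtop : (S : Subgroup G) ⊔ T = ⊤ := by
    rw [← Subgroup.card_eq_iff_eq_top, hG]
    have d1 : 81 ∣ Nat.card ((S : Subgroup G) ⊔ T : Subgroup G) := by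
      have := Subgroup.card_dvd_of_le (le_sup_left : (S : Subgroup G) ≤ (S : Subgroup G) ⊔ T)
      rwa [hS81] at this
    have d2 : 2 ∣ Nat.card ((S : Subgroup G) ⊔ T : Subgroup G) := by
      have := Subgroup.card_dvd_of_le (le_sup_right : (T : Subgroup G) ≤ (S : Subgroup G) ⊔ T)
      rwa [hT2] at this
    have d3 : 162 ∣ Nat.card ((S : Subgroup G) ⊔ T : Subgroup G) :=
      Nat.Coprime.mul_dvd_of_dvd_of_dvd (by norm_num : Nat.Coprime 81 2) d1 d2
    have d4 : Nat.card ((S : Subgroup G) ⊔ T : Subgroup G) ∣ 162 := by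
      rw [← hG]; exact Subgroup.card_subgroup_dvd_card _
    exact Nat.dvd_antisymm d4 d3
  have hzc : ∀ g : G, g * z = z * g := by
    have hle : (S : Subgroup G) ⊔ T ≤ Subgroup.centralizer ({z} : Set G) := by
      apply sup_le
      · intro s hs
        rw [Subgroup.mem_centralizer_singleton_iff]
        exact (Subgroup.mem_centralizer_iff.mp hzCS s hs)
      · intro τ hτ
        rw [Subgroup.mem_centralizer_singleton_iff]
        exact (Subgroup.mem_centralizer_iff.mp (hZT hzZ) τ hτ)
    intro g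
    have : g ∈ Subgroup.centralizer ({z} : Set G) := hle (hSTtop ▸ Subgroup.mem_top g)
    exact Subgroup.mem_centralizer_singleton_iff.mp this
  -- `z ∈ J`
  have hJne : J ≠ ⊥ := by
    intro h
    rw [h, Subgroup.card_bot] at hJcard
    omega
  have hZJ : Z ≤ J := by
    obtain ⟨x, hxJ, hx1, hxC⟩ := exists_mem_centralizer_of_normal (p := 3) S J S.2 hJS hJne
      (fun s _ => Subgroup.mem_normalizer_iff.mpr (fun a => ⟨fun h => hJn.conj_mem a h s,
        fun h => by
          have := hJn.conj_mem _ h s⁻¹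
          have e : s⁻¹ * (s * a * s⁻¹) * s⁻¹⁻¹ = a := by group
          rwa [e] at this⟩))
    have : Fact (Nat.Prime 3) := ⟨Nat.prime_three⟩
    exact le_of_prime_card Z J hZcard (by rw [hZ]; exact ⟨hJS hxJ, hxC⟩) hx1 hxJ
  have hzJ : z ∈ J := hZJ hzZ
  -- the hyperplane
  obtain ⟨J₀, hJ₀J, hJ₀t, hzJ₀, hcard⟩ := exists_invariant_hyperplane J
    (fun a ha b hb => congrArg Subtype.val (mul_comm' (⟨a, ha⟩ : J) ⟨b, hb⟩)) hJexp t z htt hzJ hz1
    htz
  have hJ₀9 : Nat.card J₀ = 9 := by rw [hJcard] at hcard; omega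
  -- `T` normalises `J₀`
  have htn : t ∈ Subgroup.normalizer (J₀ : Set G) := by
    rw [Subgroup.mem_normalizer_iff]
    intro a
    refine ⟨hJ₀t a, fun h => ?_⟩
    have := hJ₀t _ h
    rw [htinv] at this
    have e : t * (t * a * t) * t = a := by
      calc t * (t * a * t) * t = (t * t) * a * (t * t) := by group
        _ = a := by rw [htt, one_mul, mul_one]
    rwa [e] at this
  have hTn : (T : Subgroup G) ≤ Subgroup.normalizer (J₀ : Set G) := by
    rw [hTz, Subgroup.zpowers_le]; exact htn
  set H : Subgroup G := (T : Subgroup G) ⊔ J₀ with hH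
  have hHcoe : (H : Set G) = (T : Set G) * (J₀ : Set G) :=
    Subgroup.coe_mul_of_left_le_normalizer_right _ _ hTn
  have hTJ : (T : Subgroup G) ⊓ J = ⊥ :=
    (Subgroup.disjoint_of_coprime_natCard (by rw [hT2, hJcard]; norm_num)).eq_bot
  have hzH : z ∉ H := by
    intro hz
    have : z ∈ (H : Set G) := hz
    rw [hHcoe, Set.mem_mul] at this
    obtain ⟨τ, hτ, j, hj, hτj⟩ := this
    have hτJ : τ ∈ J := by
      have : τ = z * j⁻¹ := by rw [← hτj]; group
      rw [this]
      exact J.mul_mem hzJ (J.inv_mem (hJ₀J hj))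
    have : τ ∈ (T : Subgroup G) ⊓ J := ⟨hτ, hτJ⟩
    rw [hTJ, Subgroup.mem_bot] at this
    rw [this, one_mul] at hτj
    exact hzJ₀ (hτj ▸ hj)
  have hH18 : Nat.card H = 18 := by
    have d1 : 9 ∣ Nat.card H := by
      have := Subgroup.card_dvd_of_le (le_sup_right : J₀ ≤ (T : Subgroup G) ⊔ J₀)
      rwa [hJ₀9] at this
    have d2 : 2 ∣ Nat.card H := by
      have := Subgroup.card_dvd_of_le (le_sup_left : (T : Subgroup G) ≤ (T : Subgroup G) ⊔ J₀)
      rwa [hT2] at this
    have d3 : 18 ∣ Nat.card H :=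
      Nat.Coprime.mul_dvd_of_dvd_of_dvd (by norm_num : Nat.Coprime 9 2) d1 d2
    have hle : Nat.card H ≤ 18 := by
      have h1 : Nat.card H = Nat.card ((T : Set G) * (J₀ : Set G) : Set G) := by
        rw [← hHcoe]; rfl
      rw [h1]
      refine (Set.natCard_mul_le).trans ?_
      have e1 : Nat.card ((T : Subgroup G) : Set G) = 2 := hT2
      have e2 : Nat.card (J₀ : Set G) = 9 := hJ₀9
      calc Nat.card ((T : Subgroup G) : Set G) * Nat.card (J₀ : Set G) = 2 * 9 := by rw [e1, e2]
        _ ≤ 18 := by norm_num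
    have hpos : 0 < Nat.card H := Nat.card_pos
    obtain ⟨k, hk⟩ := d3
    have : k = 1 := by nlinarith
    rw [hk, this]
  have hidx : H.index = 9 := by
    have := Subgroup.card_mul_index H
    rw [hH18, hG] at this
    omega
  -- the action on the cosets of `H`
  set φ : G →* Equiv.Perm (G ⧸ H) := MulAction.toPermHom G (G ⧸ H) with hφ
  have hker : φ.ker ≤ H := by
    rw [hφ, ← Subgroup.normalCore_eq_ker]
    exact Subgroup.normalCore_le H
  have hNS : φ.ker ⊓ S = ⊥ := by
    by_contra hne
    obtain ⟨x, hxK, hx1, hxC⟩ := exists_mem_centralizer_of_normal (p := 3) S (φ.ker ⊓ S) S.2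
      inf_le_right hne (by
        intro s hs
        rw [Subgroup.mem_normalizer_iff]
        intro a
        rw [Subgroup.mem_inf, Subgroup.mem_inf]
        constructor
        · rintro ⟨h1, h2⟩
          exact ⟨(MonoidHom.normal_ker φ).conj_mem a h1 s,
            (S : Subgroup G).mul_mem ((S : Subgroup G).mul_mem hs h2) ((S : Subgroup G).inv_mem hs)⟩
        · rintro ⟨h1, h2⟩
          have e : a = s⁻¹ * (s * a * s⁻¹) * s⁻¹⁻¹ := by group
          rw [e]
          exact ⟨(MonoidHom.normal_ker φ).conj_mem _ h1 s⁻¹,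
            (S : Subgroup G).mul_mem ((S : Subgroup G).mul_mem ((S : Subgroup G).inv_mem hs) h2)
              ((S : Subgroup G).inv_mem ((S : Subgroup G).inv_mem hs))⟩)
    have : Fact (Nat.Prime 3) := ⟨Nat.prime_three⟩
    have hZker : Z ≤ φ.ker :=
      le_of_prime_card Z φ.ker hZcard (by rw [hZ]; exact ⟨hxK.2, hxC⟩) hx1 hxK.1
    exact hzH (hker (hZker hzZ))
  have hker1 : φ.ker = ⊥ := by
    -- 3 does not divide the order of the kernel
    have h3n : ¬ 3 ∣ Nat.card φ.ker := by
      intro hdvd
      have : Fact (Nat.Prime 3) := ⟨Nat.prime_three⟩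
      obtain ⟨n, hn⟩ := exists_prime_orderOf_dvd_card' (G := φ.ker) 3 hdvd
      have hn1 : (n : G) ≠ 1 := by
        intro h
        have : n = 1 := Subtype.ext h
        rw [this, orderOf_one] at hn
        omega
      have hpz : IsPGroup 3 (Subgroup.zpowers (n : G)) := by
        apply IsPGroup.of_card (n := 1)
        rw [Nat.card_zpowers, Subgroup.orderOf_coe, hn, pow_one]
      obtain ⟨Q, hQ⟩ := hpz.exists_le_sylow
      obtain ⟨g, hg⟩ := MulAction.exists_smul_eq G Q S
      have hnQ : (n : G) ∈ (Q : Subgroup G) := hQ (Subgroup.mem_zpowers _)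
      have hgn : g * (n : G) * g⁻¹ ∈ (S : Subgroup G) := by
        rw [← hg, Sylow.coe_subgroup_smul]
        exact ⟨(n : G), hnQ, by simp [MulAut.smul_def]⟩
      have hgk : g * (n : G) * g⁻¹ ∈ φ.ker := (MonoidHom.normal_ker φ).conj_mem _ n.2 g
      have : g * (n : G) * g⁻¹ ∈ φ.ker ⊓ S := ⟨hgk, hgn⟩
      rw [hNS, Subgroup.mem_bot] at this
      apply hn1
      have e : (n : G) = g⁻¹ * (g * (n : G) * g⁻¹) * g := by group
      rw [e, this]; group
    have hdvd : Nat.card φ.ker ∣ 2 := by
      have h162 : Nat.card φ.ker ∣ 81 * 2 := by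
        have := Subgroup.card_subgroup_dvd_card φ.ker
        rwa [hG] at this
      have hcop : Nat.Coprime (Nat.card φ.ker) 81 := by
        have : Nat.Coprime (Nat.card φ.ker) 3 :=
          ((Nat.Prime.coprime_iff_not_dvd Nat.prime_three).mpr h3n).symm
        exact (this.pow_right 4)
      exact hcop.dvd_of_dvd_mul_left h162
    rcases (Nat.dvd_prime Nat.prime_two).mp hdvd with h | h
    · exact Subgroup.card_eq_one.mp h
    · exfalso
      -- the kernel is a normal Sylow 2-subgroup, so equals `T`, and `t` is central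
      have hp2 : IsPGroup 2 φ.ker := IsPGroup.of_card (n := 1) (by rw [h, pow_one])
      obtain ⟨Q, hQ⟩ := hp2.exists_le_sylow
      obtain ⟨g, hg⟩ := MulAction.exists_smul_eq G Q T
      have htker : ∀ τ ∈ (T : Subgroup G), τ ∈ φ.ker := by
        intro τ hτ
        rw [← hg, Sylow.coe_subgroup_smul] at hτ
        obtain ⟨q, hq, rfl⟩ := hτ
        have hQeq : φ.ker = (Q : Subgroup G) := by
          apply Subgroup.eq_of_le_of_card_ge hQ
          rw [h, Sylow.card_eq_multiplicity, hG, h2]
          norm_num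
        rw [← hQeq] at hq
        simpa [MulAut.smul_def] using (MonoidHom.normal_ker φ).conj_mem q hq g
      have hkerT : ∀ n ∈ φ.ker, n = 1 ∨ n = t := by
        intro n hn
        have hTeq : (T : Subgroup G) = φ.ker := by
          apply Subgroup.eq_of_le_of_card_ge htker
          rw [h, hT2]
        rw [← hTeq] at hn
        exact hTmem n hn
      apply hST
      apply le_antisymm inf_le_left
      apply le_inf le_rfl
      intro s _
      rw [Subgroup.mem_centralizer_iff]
      intro τ hτ
      rcases hTmem τ hτ with rfl | rfl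
      · simp
      · have hc := (MonoidHom.normal_ker φ).conj_mem τ (htker τ htT) s
        rcases hkerT _ hc with h1 | h1
        · exfalso
          apply ht1
          have e : τ = s⁻¹ * (s * τ * s⁻¹) * s := by group
          rw [e, h1]; group
        · calc τ * s = (s * τ * s⁻¹) * s := by rw [h1]
            _ = s * τ := by group
  have hφinj : Function.Injective φ := (MonoidHom.ker_eq_bot_iff φ).mp hker1
  -- transport to `Fin 9`
  have hcardq : Nat.card (G ⧸ H) = 9 := hidx
  let e : (G ⧸ H) ≃ Fin 9 := Finite.equivFinOfCardEq hcardq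
  set ψ : G →* Equiv.Perm (Fin 9) := (Equiv.permCongrHom e).toMonoidHom.comp φ with hψ
  have hψapp : ∀ (g : G) (i : Fin 9), ψ g i = e (g • e.symm i) := fun g i => rfl
  have hψinj : Function.Injective ψ := by
    intro a b hab
    apply hφinj
    exact (Equiv.permCongrHom e).injective hab
  set ζ : Equiv.Perm (Fin 9) := ψ z with hζ
  have hz3 : z ^ 3 = 1 := hJexp z hzJ
  have hζ3 : ζ ^ 3 = 1 := by rw [hζ, ← map_pow, hz3, map_one]
  have hζfix : ∀ i : Fin 9, ζ i ≠ i := by
    intro i hi
    rw [hζ, hψapp] at hi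
    have h1 : z • e.symm i = e.symm i := by
      apply e.injective
      rw [hi, Equiv.apply_symm_apply]
    obtain ⟨g, hg⟩ := QuotientGroup.mk_surjective (e.symm i)
    rw [← hg] at h1
    have h2 : ((z * g : G) : G ⧸ H) = (g : G ⧸ H) := h1
    rw [QuotientGroup.eq] at h2
    apply hzH
    have e1 : (z * g)⁻¹ * g = z⁻¹ := by
      rw [← hzc g]; group
    rw [e1] at h2
    simpa using H.inv_mem h2
  have hζ1 : ζ ≠ 1 := by
    intro h
    exact hζfix 0 (by rw [h]; rfl)
  have hord : orderOf ζ = 3 := by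
    have : Fact (Nat.Prime 3) := ⟨Nat.prime_three⟩
    exact orderOf_eq_prime hζ3 hζ1
  have hct : ζ.cycleType = {3, 3, 3} := by
    obtain ⟨n, hn⟩ := Equiv.Perm.cycleType_prime_order (σ := ζ) (by rw [hord]; exact Nat.prime_three)
    rw [hord] at hn
    have hsum := Equiv.Perm.sum_cycleType ζ
    have hsupp : ζ.support = Finset.univ := by
      ext i
      simp only [Equiv.Perm.mem_support, Finset.mem_univ, iff_true]
      exact hζfix i
    rw [hsupp, Finset.card_univ, Fintype.card_fin, hn, Multiset.sum_replicate, smul_eq_mul] at hsum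
    have : n = 2 := by omega
    rw [hn, this]
    rfl
  have hconj : IsConj sig ζ := by
    rw [Equiv.Perm.isConj_iff_cycleType_eq, cycleType_sig, hct]
  obtain ⟨c, hc⟩ := isConj_iff.mp hconj
  -- the embedding into the centraliser of `sig`
  have hcomm : ∀ g : G, ζ * ψ g = ψ g * ζ := by
    intro g
    rw [hζ, ← map_mul, ← map_mul, hzc g]
  let f : G →* Subgroup.centralizer ({sig} : Set (Equiv.Perm (Fin 9))) :=
    { toFun := fun g => ⟨c⁻¹ * ψ g * c, by
        rw [Subgroup.mem_centralizer_singleton_iff]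
        have h1 : sig = c⁻¹ * ζ * c := by rw [← hc]; group
        rw [h1]
        calc c⁻¹ * ψ g * c * (c⁻¹ * ζ * c) = c⁻¹ * (ψ g * ζ) * c := by group
          _ = c⁻¹ * (ζ * ψ g) * c := by rw [hcomm g]
          _ = c⁻¹ * ζ * c * (c⁻¹ * ψ g * c) := by group⟩
      map_one' := by
        apply Subtype.ext
        simp
      map_mul' := by
        intro a b
        apply Subtype.ext
        simp only [map_mul, Subgroup.coe_mul]
        group }
  have hfinj : Function.Injective f := by
    intro a b hab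
    have h1 : c⁻¹ * ψ a * c = c⁻¹ * ψ b * c := congrArg Subtype.val hab
    apply hψinj
    have h2 : ψ a = c * (c⁻¹ * ψ a * c) * c⁻¹ := by group
    rw [h2, h1]; group
  have hfbij : Function.Bijective f := by
    rw [Nat.bijective_iff_injective_and_card]
    exact ⟨hfinj, by rw [hG, card_centralizer_of_cycleType sig cycleType_sig]⟩
  exact ⟨MulEquiv.ofBijective f hfbij⟩

end Cfsg.Agent.Lib.H2.Ord162
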