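import Mathlib

set_option autoImplicit false
set_option linter.unusedSectionVars false

/-! # Action of a group on its Sylow `p`-subgroups when these intersect trivially -/

namespace Cfsg.Agent.Lib.H2.SylowTI

open Subgroup MulAction

variable {G : Type*} [Group G] [Finite G] {p : ℕ} [Fact p.Prime]

/-- Sylow subgroups of prime order intersect trivially -/
theorem inf_eq_bot_of_card_prime {P Q : Sylow p G} (hc : Nat.card (P : Subgroup G) = p)
    (hPQ : P ≠ Q) : (P : Subgroup G) ⊓ (Q : Subgroup G) = ⊥ := by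
  have hp : p.Prime := Fact.out
  have hd : Nat.card ((P : Subgroup G) ⊓ (Q : Subgroup G) : Subgroup G) ∣ p := by
    have := Subgroup.card_dvd_of_le (inf_le_left : (P : Subgroup G) ⊓ (Q : Subgroup G) ≤ P)
    rwa [hc] at this
  rcases (Nat.dvd_prime hp).mp hd with h1 | h1
  · exact Subgroup.card_eq_one.mp h1
  · exfalso
    have heq : ((P : Subgroup G) ⊓ (Q : Subgroup G) : Subgroup G) = P :=
      Subgroup.eq_of_le_of_card_ge inf_le_left (by rw [h1, hc])
    have hle : (P : Subgroup G) ≤ Q := heq ▸ inf_le_right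
    exact hPQ (Sylow.ext (P.3 Q.2 hle).symm)

variable (hTI : ∀ P Q : Sylow p G, P ≠ Q → (P : Subgroup G) ⊓ (Q : Subgroup G) = ⊥)

include hTI in
/-- semiregularity of a Sylow subgroup on the other Sylow subgroups -/
theorem eq_one_of_smul_eq {P Q : Sylow p G} (hPQ : P ≠ Q) {x : G}
    (hx : x ∈ P) (hxQ : x • Q = Q) : x = 1 := by
  have h1 : x ∈ (P : Subgroup G) ⊓ normalizer (Q : Set G) :=
    ⟨hx, Sylow.smul_eq_iff_mem_normalizer.mp hxQ⟩
  rw [IsPGroup.inf_normalizer_sylow P.2 Q, hTI P Q hPQ] at h1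
  exact Subgroup.mem_bot.mp h1

omit [Finite G] [Fact p.Prime] in
theorem smul_self_of_mem {P : Sylow p G} {x : G} (hx : x ∈ P) : x • P = P :=
  Sylow.smul_eq_iff_mem_normalizer.mpr (le_normalizer hx)

include hTI in
theorem smul_injOn {P Q : Sylow p G} (hPQ : P ≠ Q) :
    Set.InjOn (fun x : G => x • Q) (P : Set G) := by
  intro x hx y hy hxy
  have hxy' : x • Q = y • Q := hxy
  have h1 : (y⁻¹ * x) • Q = Q := by rw [mul_smul, hxy', inv_smul_smul]
  have h2 := eq_one_of_smul_eq hTI hPQ (mul_mem (inv_mem hy) hx) h1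
  exact (inv_mul_eq_one.mp h2).symm

omit [Finite G] [Fact p.Prime] in
theorem smul_ne_self {P Q : Sylow p G} (hPQ : P ≠ Q) {x : G} (hx : x ∈ P) : x • Q ≠ P := by
  intro hxQ
  apply hPQ
  have h1 : x⁻¹ • (x • Q) = x⁻¹ • P := by rw [hxQ]
  rw [inv_smul_smul, smul_self_of_mem (inv_mem hx)] at h1
  exact h1.symm

variable {m : ℕ} (hm : ∀ P : Sylow p G, Nat.card (P : Subgroup G) = m)
  (hn : Nat.card (Sylow p G) = m + 1)

include hTI hm hn in
/-- a Sylow subgroup is transitive on the other Sylow subgroups, when their number is `|P| + 1` -/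
theorem exists_mem_smul_eq {P Q R : Sylow p G} (hQ : P ≠ Q) (hR : P ≠ R) :
    ∃ x ∈ P, x • Q = R := by
  classical
  have hsub : (fun x : G => x • Q) '' (P : Set G) ⊆ ({P} : Set (Sylow p G))ᶜ := by
    rintro _ ⟨x, hx, rfl⟩
    simp only [Set.mem_compl_iff, Set.mem_singleton_iff]
    exact smul_ne_self hQ hx
  have hPm : (P : Set G).ncard = m := by
    rw [← hm P]
    exact (Nat.card_coe_set_eq (P : Set G)).symm
  have hcard : (({P} : Set (Sylow p G))ᶜ).ncard ≤ ((fun x : G => x • Q) '' (P : Set G)).ncard := by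
    rw [(smul_injOn hTI hQ).ncard_image, Set.ncard_compl, hn, Set.ncard_singleton, hPm]
    omega
  have heq := Set.eq_of_subset_of_ncard_le hsub hcard (Set.toFinite _)
  have hmem : R ∈ ({P} : Set (Sylow p G))ᶜ := by
    simp only [Set.mem_compl_iff, Set.mem_singleton_iff]
    exact fun hh => hR hh.symm
  rw [← heq] at hmem
  obtain ⟨x, hx, hxe⟩ := hmem
  exact ⟨x, hx, hxe⟩

include hTI hm hn in
theorem two_pretransitive : IsMultiplyPretransitive G (Sylow p G) 2 := by
  rw [is_two_pretransitive_iff]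
  intro a b c d hab hcd
  obtain ⟨P⟩ : Nonempty (Sylow p G) := inferInstance
  obtain ⟨g1, hg1⟩ := exists_smul_eq G a P
  obtain ⟨g2, hg2⟩ := exists_smul_eq G c P
  have h1 : P ≠ g1 • b := by
    intro hb
    rw [← hg1] at hb
    exact hab (smul_left_cancel g1 hb)
  have h2 : P ≠ g2 • d := by
    intro hb
    rw [← hg2] at hb
    exact hcd (smul_left_cancel g2 hb)
  obtain ⟨x, hx, hxe⟩ := exists_mem_smul_eq hTI hm hn h1 h2
  refine ⟨g2⁻¹ * x * g1, ?_, ?_⟩
  · rw [mul_smul, mul_smul, hg1, smul_self_of_mem hx, ← hg2, inv_smul_smul]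
  · rw [mul_smul, mul_smul, hxe, inv_smul_smul]

include hTI hm hn in
theorem card_two_point_stab {P Q : Sylow p G} (hPQ : P ≠ Q) :
    Nat.card (stabilizer G P ⊓ stabilizer G Q : Subgroup G) * ((m + 1) * m) = Nat.card G := by
  classical
  have : Fintype (Sylow p G) := Fintype.ofFinite _
  have := two_pretransitive hTI hm hn
  have hstab : stabilizer G (Function.Embedding.embFinTwo hPQ) =
      stabilizer G P ⊓ stabilizer G Q := by
    ext g
    simp only [mem_stabilizer_iff, Subgroup.mem_inf]
    constructor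
    · intro hg
      constructor
      · have := congrArg (fun f => f 0) hg
        simpa [Function.Embedding.smul_apply, Function.Embedding.embFinTwo_apply_zero] using this
      · have := congrArg (fun f => f 1) hg
        simpa [Function.Embedding.smul_apply, Function.Embedding.embFinTwo_apply_one] using this
    · rintro ⟨h1, h2⟩
      refine Function.Embedding.ext fun i => ?_
      fin_cases i
      · rw [Function.Embedding.smul_apply]
        exact h1
      · rw [Function.Embedding.smul_apply]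
        exact h2
  have hidx : (stabilizer G (Function.Embedding.embFinTwo hPQ)).index =
      Nat.card (Fin 2 ↪ Sylow p G) :=
    index_stabilizer_of_transitive G _
  have hemb : Nat.card (Fin 2 ↪ Sylow p G) = (m + 1) * m := by
    rw [Nat.card_eq_fintype_card, Fintype.card_embedding_eq, Fintype.card_fin,
      ← Nat.card_eq_fintype_card, hn]
    simp [Nat.descFactorial]
    ring
  have hmi := (stabilizer G (Function.Embedding.embFinTwo hPQ)).card_mul_index
  rw [hidx, hemb, hstab] at hmi
  exact hmi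

include hTI in
/-- if `i` fixes `P`, `Q` and `x • Q` with `x ∈ P`, then `i` commutes with `x` -/
theorem comm_of_fixed {P Q : Sylow p G} (hPQ : P ≠ Q) {i x : G}
    (hiP : i • P = P) (hiQ : i • Q = Q) (hx : x ∈ P) (hix : i • (x • Q) = x • Q) :
    i * x = x * i := by
  have hiN : i ∈ normalizer ((P : Subgroup G) : Set G) := Sylow.smul_eq_iff_mem_normalizer.mp hiP
  have hx' : i * x * i⁻¹ ∈ (P : Subgroup G) := (mem_normalizer_iff.mp hiN x).mp hx
  have h1 : (x⁻¹ * (i * x * i⁻¹)) • Q = Q := by
    have h2 : (i * x * i⁻¹) • Q = x • Q := by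
      conv_lhs => rw [← hiQ]
      rw [← mul_smul, inv_mul_cancel_right, mul_smul]
      exact hix
    rw [mul_smul, h2, inv_smul_smul]
  have h3 := eq_one_of_smul_eq hTI hPQ (mul_mem (inv_mem hx) hx') h1
  have h4 : i * x * i⁻¹ = x := (inv_mul_eq_one.mp h3).symm
  calc i * x = i * x * i⁻¹ * i := by group
    _ = x * i := by rw [h4]

end Cfsg.Agent.Lib.H2.SylowTI
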