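import Mathlib
import Cfsg.Agent.Lib.H2.SimpleAct
import Cfsg.Agent.Lib.H2.SylowTI
import Cfsg.Agent.Lib.H5.SimpleTools
import Cfsg.Agent.Lib.H5.SubgroupCard

set_option autoImplicit false
set_option linter.unusedSectionVars false

/-! # Simple groups of order 504, part 1: Sylow 7-subgroups, no subgroup of index 7 -/

namespace Cfsg.Agent.Lib.H2.Ord504

open Subgroup MulAction Cfsg.Agent.Lib.H5 Cfsg.Agent.Lib.H2.SimpleAct Cfsg.Agent.Lib.H2.SylowTI

variable {G : Type*} [Group G] [Finite G] [IsSimpleGroup G]

theorem seven_le_index (h : Nat.card G = 504) {H : Subgroup G} (hH : H ≠ ⊤) : 7 ≤ H.index := by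
  by_contra hlt
  have h6 : H.index ≤ 6 := by omega
  have h1 := card_dvd_factorial_index H hH
  have h2 : Nat.factorial H.index ∣ Nat.factorial 6 := Nat.factorial_dvd_factorial h6
  have h3 := dvd_trans h1 h2
  rw [h] at h3
  revert h3
  decide

theorem two_lt_card (h : Nat.card G = 504) : 2 < Nat.card G := by rw [h]; norm_num

theorem perfect (h : Nat.card G = 504) : commutator G = ⊤ :=
  commutator_eq_top (by rw [h]; norm_num)

theorem not_isPGroup (h : Nat.card G = 504) (p : ℕ) [Fact p.Prime] : ¬ IsPGroup p G := by
  by_cases hp : p = 2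
  · subst hp
    exact not_isPGroup_of_prime_dvd Nat.prime_three (by norm_num) (by rw [h]; norm_num)
  · exact not_isPGroup_of_prime_dvd Nat.prime_two (fun h2 => hp h2.symm) (by rw [h]; norm_num)

instance : Fact (Nat.Prime 7) := ⟨by norm_num⟩

theorem card_sylow7_subgroup (h : Nat.card G = 504) (P : Sylow 7 G) :
    Nat.card (P : Subgroup G) = 7 ∧ (P : Subgroup G).index = 72 := by
  have := sylow_card_and_index P (k := 1) (m := 72) (by rw [h]; norm_num) (by norm_num)
  simpa using this

theorem card_sylow3_subgroup (h : Nat.card G = 504) (P : Sylow 3 G) :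
    Nat.card (P : Subgroup G) = 9 ∧ (P : Subgroup G).index = 56 := by
  have := sylow_card_and_index P (k := 2) (m := 56) (by rw [h]; norm_num) (by norm_num)
  simpa using this

theorem card_sylow2_subgroup (h : Nat.card G = 504) (P : Sylow 2 G) :
    Nat.card (P : Subgroup G) = 8 ∧ (P : Subgroup G).index = 63 := by
  have := sylow_card_and_index P (k := 3) (m := 63) (by rw [h]; norm_num) (by norm_num)
  simpa using this

theorem sylow7_inf (h : Nat.card G = 504) (P Q : Sylow 7 G) (hPQ : P ≠ Q) :
    (P : Subgroup G) ⊓ (Q : Subgroup G) = ⊥ :=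
  inf_eq_bot_of_card_prime (card_sylow7_subgroup h P).1 hPQ

theorem sylow7_comm (h : Nat.card G = 504) (P : Sylow 7 G) {a b : G} (ha : a ∈ P) (hb : b ∈ P) :
    a * b = b * a := by
  have hc : Nat.card (P : Subgroup G) = 7 := (card_sylow7_subgroup h P).1
  have hcyc : IsCyclic (P : Subgroup G) := isCyclic_of_prime_card hc
  have hcm : IsMulCommutative (P : Subgroup G) := IsCyclic.isMulCommutative
  have := hcm.is_comm.comm (⟨a, ha⟩ : (P : Subgroup G)) ⟨b, hb⟩
  exact congrArg Subtype.val this

/-- an element of `P` of order dividing 3 is trivial -/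
theorem sylow7_pow_three (h : Nat.card G = 504) (P : Sylow 7 G) {u : G} (hu : u ∈ P)
    (h3 : u ^ 3 = 1) : u = 1 := by
  have h7 : u ^ 7 = 1 := by
    have := pow_card_eq_one' (G := (P : Subgroup G)) (x := ⟨u, hu⟩)
    rw [(card_sylow7_subgroup h P).1] at this
    exact congrArg Subtype.val this
  calc u = u ^ 7 * ((u ^ 3) ^ 2)⁻¹ := by
        rw [← pow_mul]; group
    _ = 1 := by rw [h7, h3]; simp

theorem card_sylow7 (h : Nat.card G = 504) : Nat.card (Sylow 7 G) = 36 := by
  obtain ⟨P⟩ : Nonempty (Sylow 7 G) := inferInstance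
  obtain ⟨hPc, hPi⟩ := card_sylow7_subgroup h P
  have hmem := card_sylow_mem_filter_divisors P (by norm_num : (72 : ℕ) ≠ 0) hPi
  have hfilt : (Nat.divisors 72).filter (fun d => d % 7 = 1) = {1, 8, 36} := by decide
  rw [hfilt] at hmem
  simp only [Finset.mem_insert, Finset.mem_singleton] at hmem
  rcases hmem with h1 | h8 | h36
  · exact absurd h1 (card_sylow_ne_one_of_simple (by rw [h]; norm_num) (not_isPGroup h 7))
  · exfalso
    have hN := card_normalizer_mul_card_sylow P
    rw [h, h8] at hN
    have hNc : Nat.card (normalizer ((P : Subgroup G) : Set G)) = 63 := by omega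
    have hrel := relIndex_centralizer_normalizer_dvd_of_card_prime (P : Subgroup G) (p := 7) hPc
    have hmul := card_centralizer_mul_relIndex_normalizer (P : Subgroup G)
    rw [hNc] at hmul
    have h3C : 3 ∣ Nat.card (centralizer ((P : Subgroup G) : Set G)) := by
      generalize (centralizer ((P : Subgroup G) : Set G)).relIndex
        (normalizer ((P : Subgroup G) : Set G)) = r at *
      generalize Nat.card (centralizer ((P : Subgroup G) : Set G)) = c at *
      have hr6 : r ≤ 6 := Nat.le_of_dvd (by norm_num) hrel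
      have hr0 : 0 < r := Nat.pos_of_ne_zero (by rintro rfl; simp at hmul)
      interval_cases r <;> omega
    have : Fact (Nat.Prime 3) := ⟨Nat.prime_three⟩
    obtain ⟨y, hy⟩ := exists_prime_orderOf_dvd_card' (G := centralizer ((P : Subgroup G) : Set G))
      3 h3C
    have hyC : (y : G) ∈ centralizer ((P : Subgroup G) : Set G) := y.2
    have hyo : orderOf (y : G) = 3 := by rw [← hy]; exact (Subgroup.orderOf_coe y)
    have hycomm : ∀ u ∈ P, (y : G) * u = u * y := by
      intro u hu
      exact ((mem_centralizer_iff.mp hyC) u hu).symm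
    have hyP : (y : G) • P = P :=
      Sylow.smul_eq_iff_mem_normalizer.mpr (centralizer_le_normalizer _ hyC)
    have hTI := sylow7_inf h
    have hm : ∀ P : Sylow 7 G, Nat.card (P : Subgroup G) = 7 := fun P => (card_sylow7_subgroup h P).1
    have hfix : ∀ Q : Sylow 7 G, (y : G) • Q = Q := by
      intro Q
      by_cases hQ : P = Q
      · rw [← hQ]; exact hyP
      have hyQ : P ≠ (y : G) • Q := by
        intro hh
        apply hQ
        have : (y : G) • P = (y : G) • Q := by rw [hyP]; exact hh
        exact smul_left_cancel _ this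
      obtain ⟨u, hu, hue⟩ := exists_mem_smul_eq hTI hm h8 hQ hyQ
      have hpow : ∀ n : ℕ, (y : G) ^ n • Q = u ^ n • Q := by
        intro n
        induction n with
        | zero => simp
        | succ n ih =>
          rw [pow_succ', mul_smul, ih, ← mul_smul, hycomm _ (pow_mem hu n), mul_smul, ← hue,
            ← mul_smul, ← pow_succ]
      have h3 := hpow 3
      have hy3 : (y : G) ^ 3 = 1 := by rw [← hyo, pow_orderOf_eq_one]
      rw [hy3, one_smul] at h3
      have hu3 : u ^ 3 = 1 := eq_one_of_smul_eq hTI hQ (pow_mem hu 3) h3.symm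
      have hu1 := sylow7_pow_three h P hu hu3
      rw [← hue, hu1, one_smul]
    have hex : ∃ Q : Sylow 7 G, P ≠ Q := by
      by_contra hno
      push Not at hno
      have : Subsingleton (Sylow 7 G) := ⟨fun a b => (hno a).symm.trans (hno b)⟩
      have := Nat.card_eq_one_iff_unique.mpr ⟨this, ⟨P⟩⟩
      omega
    obtain ⟨Q, hQ⟩ := hex
    obtain ⟨g, hg⟩ := exists_smul_eq G P Q
    have hne : g • P ≠ P := by rw [hg]; exact fun hh => hQ hh.symm
    have hy1 : (y : G) = 1 := eq_one_of_forall_smul hne hfix
    rw [hy1, orderOf_one] at hyo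
    omega
  · exact h36

theorem card_normalizer_sylow7 (h : Nat.card G = 504) (P : Sylow 7 G) :
    Nat.card (normalizer ((P : Subgroup G) : Set G)) = 14 := by
  have hN := card_normalizer_mul_card_sylow P
  rw [h, card_sylow7 h] at hN
  omega

/-- the centralizer of a Sylow 7-subgroup is the subgroup itself -/
theorem centralizer_sylow7 (h : Nat.card G = 504) (P : Sylow 7 G) :
    centralizer ((P : Subgroup G) : Set G) = (P : Subgroup G) := by
  have hPc := (card_sylow7_subgroup h P).1
  have hle : (P : Subgroup G) ≤ centralizer ((P : Subgroup G) : Set G) := by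
    intro x hx
    rw [mem_centralizer_iff]
    intro y hy
    exact sylow7_comm h P hy hx
  symm
  apply Subgroup.eq_of_le_of_card_ge hle
  have hmul := card_centralizer_mul_relIndex_normalizer (P : Subgroup G)
  rw [card_normalizer_sylow7 h P] at hmul
  have hd : Nat.card (centralizer ((P : Subgroup G) : Set G)) ∣ 14 := Dvd.intro _ hmul
  have h7 : 7 ∣ Nat.card (centralizer ((P : Subgroup G) : Set G)) := by
    have := Subgroup.card_dvd_of_le hle
    rwa [hPc] at this
  have hne : Nat.card (centralizer ((P : Subgroup G) : Set G)) ≠ 14 := by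
    intro h14
    apply not_normalizer_le_centralizer_of_simple (p := 7) (by rw [h]; norm_num)
      (not_isPGroup h 7) P
    have : centralizer ((P : Subgroup G) : Set G) = normalizer ((P : Subgroup G) : Set G) :=
      Subgroup.eq_of_le_of_card_ge (centralizer_le_normalizer _)
        (by rw [h14, card_normalizer_sylow7 h P])
    exact this.symm.le
  rw [hPc]
  have hpos : 0 < Nat.card (centralizer ((P : Subgroup G) : Set G)) := Nat.card_pos
  have hle14 := Nat.le_of_dvd (by norm_num) hd
  generalize Nat.card (centralizer ((P : Subgroup G) : Set G)) = c at *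
  interval_cases c <;> omega

/-- an element commuting with a non-identity element of a Sylow 7-subgroup lies in it -/
theorem mem_sylow7_of_comm (h : Nat.card G = 504) (P : Sylow 7 G) {x g : G} (hx : x ∈ P)
    (hx1 : x ≠ 1) (hc : g * x = x * g) : g ∈ P := by
  have hPc := (card_sylow7_subgroup h P).1
  have hz : zpowers x = (P : Subgroup G) := by
    apply Subgroup.eq_of_le_of_card_ge
    · rw [zpowers_le]; exact hx
    · rw [Nat.card_zpowers, hPc]
      have hd : orderOf x ∣ 7 := by
        have := orderOf_dvd_natCard (⟨x, hx⟩ : (P : Subgroup G))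
        rwa [Subgroup.orderOf_mk, hPc] at this
      rcases (Nat.dvd_prime (by norm_num : Nat.Prime 7)).mp hd with h1 | h7
      · exact absurd (orderOf_eq_one_iff.mp h1) hx1
      · rw [h7]
  have hg : g ∈ centralizer ((P : Subgroup G) : Set G) := by
    rw [← hz, mem_centralizer_iff]
    intro y hy
    obtain ⟨k, rfl⟩ := mem_zpowers_iff.mp hy
    exact ((Commute.zpow_right (show Commute g x from hc) k).eq).symm
  rw [centralizer_sylow7 h P] at hg
  exact hg

end Cfsg.Agent.Lib.H2.Ord504
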