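import Mathlib
import Cfsg.Agent.Lib.H2.Ord504a

set_option autoImplicit false
set_option linter.unusedSectionVars false

/-! # Simple groups of order 504, part 2: no subgroup of index 7 -/

namespace Cfsg.Agent.Lib.H2.Ord504

open Subgroup MulAction Cfsg.Agent.Lib.H5 Cfsg.Agent.Lib.H2.SimpleAct Cfsg.Agent.Lib.H2.SylowTI

variable {G : Type*} [Group G] [Finite G] [IsSimpleGroup G]

/-- elements of a Sylow 7-subgroup: `u ^ 7 = 1` -/
theorem sylow7_pow_seven (h : Nat.card G = 504) (P : Sylow 7 G) {u : G} (hu : u ∈ P) :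
    u ^ 7 = 1 := by
  have := pow_card_eq_one' (G := (P : Subgroup G)) (x := ⟨u, hu⟩)
  rw [(card_sylow7_subgroup h P).1] at this
  exact congrArg Subtype.val this

theorem sylow7_pow_two (h : Nat.card G = 504) (P : Sylow 7 G) {u : G} (hu : u ∈ P)
    (h2 : u ^ 2 = 1) : u = 1 := by
  have h7 := sylow7_pow_seven h P hu
  calc u = u ^ 7 * ((u ^ 2) ^ 3)⁻¹ := by
        rw [← pow_mul]; group
    _ = 1 := by rw [h7, h2]; simp

/-- there is an involution inverting a given Sylow 7-subgroup -/
theorem exists_inverting_involution (h : Nat.card G = 504) (P : Sylow 7 G) :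
    ∃ t : G, orderOf t = 2 ∧ t ∈ normalizer ((P : Subgroup G) : Set G) ∧
      ∀ x ∈ P, t * x * t⁻¹ = x⁻¹ := by
  have hNc := card_normalizer_sylow7 h P
  have h2N : 2 ∣ Nat.card (normalizer ((P : Subgroup G) : Set G)) := by rw [hNc]; norm_num
  obtain ⟨t, ht⟩ := exists_prime_orderOf_dvd_card'
    (G := normalizer ((P : Subgroup G) : Set G)) 2 h2N
  have hto : orderOf (t : G) = 2 := by rw [← ht]; exact (Subgroup.orderOf_coe t)
  have htN : (t : G) ∈ normalizer ((P : Subgroup G) : Set G) := t.2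
  refine ⟨t, hto, htN, ?_⟩
  intro x hx
  have htt : (t : G) * t = 1 := by rw [← pow_two, ← hto, pow_orderOf_eq_one]
  have htinv : (t : G)⁻¹ = t := inv_eq_of_mul_eq_one_left htt
  have hx' : (t : G) * x * (t : G)⁻¹ ∈ (P : Subgroup G) := (mem_normalizer_iff.mp htN x).mp hx
  set w := x * ((t : G) * x * (t : G)⁻¹) with hw
  have hwP : w ∈ P := mul_mem hx hx'
  have hcomm : (t : G) * w = w * t := by
    have hc2 : (t : G) * ((t : G) * x * (t : G)⁻¹) * (t : G)⁻¹ = x := by
      have : (t : G) * ((t : G) * x * (t : G)⁻¹) * (t : G)⁻¹ =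
          ((t : G) * t) * x * ((t : G) * t)⁻¹ := by group
      rw [this, htt]
      simp
    have h1 : (t : G) * w * (t : G)⁻¹ = w := by
      rw [hw]
      have : (t : G) * (x * ((t : G) * x * (t : G)⁻¹)) * (t : G)⁻¹ =
          ((t : G) * x * (t : G)⁻¹) * ((t : G) * ((t : G) * x * (t : G)⁻¹) * (t : G)⁻¹) := by group
      rw [this, hc2]
      exact sylow7_comm h P hx' hx
    calc (t : G) * w = (t : G) * w * (t : G)⁻¹ * t := by group
      _ = w * t := by rw [h1]
  by_cases hw1 : w = 1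
  · rw [hw] at hw1
    exact (eq_inv_of_mul_eq_one_right hw1)
  · exfalso
    have htP := mem_sylow7_of_comm h P hwP hw1 hcomm
    have ht2 : (t : G) ^ 2 = 1 := by rw [pow_two, htt]
    have := sylow7_pow_two h P htP ht2
    rw [this, orderOf_one] at hto
    omega

theorem no_index_seven (h : Nat.card G = 504) (H : Subgroup G) : H.index ≠ 7 := by
  intro hH
  have hfi : H.FiniteIndex := ⟨by rw [hH]; norm_num⟩
  have hΩ : Nat.card (G ⧸ H) = 7 := hH
  have hfin : Finite (G ⧸ H) := Nat.finite_of_card_ne_zero (by rw [hΩ]; norm_num)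
  obtain ⟨P⟩ : Nonempty (Sylow 7 G) := inferInstance
  have hPc := (card_sylow7_subgroup h P).1
  -- stabilizers have order 72
  have hstab : ∀ a : G ⧸ H, Nat.card (stabilizer G a) = 72 := by
    intro a
    have h1 : (stabilizer G a).index = Nat.card (G ⧸ H) := index_stabilizer_of_transitive G a
    have h2 := (stabilizer G a).card_mul_index
    rw [h1, hΩ, h] at h2
    omega
  -- elements of P fixing a point are trivial
  have hsemi : ∀ u ∈ P, ∀ a : G ⧸ H, u • a = a → u = 1 := by
    intro u hu a hua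
    have h1 : orderOf u ∣ 72 := by
      have := orderOf_dvd_natCard (⟨u, hua⟩ : stabilizer G a)
      have h' : orderOf (⟨u, hua⟩ : stabilizer G a) = orderOf u := Subgroup.orderOf_mk u hua
      rwa [h', hstab a] at this
    have h2 : orderOf u ∣ 7 := orderOf_dvd_of_pow_eq_one (sylow7_pow_seven h P hu)
    have h3 : orderOf u ∣ Nat.gcd 72 7 := Nat.dvd_gcd h1 h2
    have h4 : Nat.gcd 72 7 = 1 := by decide
    rw [h4, Nat.dvd_one] at h3
    exact orderOf_eq_one_iff.mp h3
  -- a generator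
  have hnt : Nontrivial (P : Subgroup G) := by
    rw [← Finite.one_lt_card_iff_nontrivial, hPc]; norm_num
  obtain ⟨⟨x, hx⟩, hx1'⟩ := exists_ne (1 : (P : Subgroup G))
  have hx1 : x ≠ 1 := fun hh => hx1' (Subtype.ext hh)
  have hxo : orderOf x = 7 := by
    have h2 : orderOf x ∣ 7 := orderOf_dvd_of_pow_eq_one (sylow7_pow_seven h P hx)
    rcases (Nat.dvd_prime (by norm_num : Nat.Prime 7)).mp h2 with h1 | h7
    · exact absurd (orderOf_eq_one_iff.mp h1) hx1
    · exact h7
  obtain ⟨t, hto, htN, htinv⟩ := exists_inverting_involution h P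
  have htt : t * t = 1 := by rw [← pow_two, ← hto, pow_orderOf_eq_one]
  -- fixed points of t
  have h4 := four_dvd_moved (Ω := G ⧸ H) (two_lt_card h) htt
  rw [hΩ] at h4
  have hF7 : {a : G ⧸ H | t • a = a}.ncard ≤ 7 := by
    rw [← hΩ, ← Set.ncard_univ]
    exact Set.ncard_le_ncard (Set.subset_univ _) (Set.toFinite _)
  have hF1 : 1 < {a : G ⧸ H | t • a = a}.ncard := by
    obtain ⟨k, hk⟩ := h4
    omega
  obtain ⟨a, ha, b, hb, hab⟩ := (Set.one_lt_ncard (Set.toFinite _)).mp hF1
  simp only [Set.mem_ofPred_eq] at ha hb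
  -- transitivity of ⟨x⟩
  have hinj : Function.Injective (fun j : Fin 7 => x ^ (j : ℕ) • a) := by
    intro i j hij
    have hij' : x ^ (i : ℕ) • a = x ^ (j : ℕ) • a := hij
    have h1 : ((x ^ (j : ℕ))⁻¹ * x ^ (i : ℕ)) • a = a := by
      rw [mul_smul, hij', inv_smul_smul]
    have h2 := hsemi _ (mul_mem (inv_mem (pow_mem hx _)) (pow_mem hx _)) a h1
    have h3 : x ^ (i : ℕ) = x ^ (j : ℕ) := (inv_mul_eq_one.mp h2).symm
    have h4 := pow_injOn_Iio_orderOf (x := x) (by rw [hxo]; exact i.2) (by rw [hxo]; exact j.2) h3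
    exact Fin.ext h4
  have hbij := hinj.bijective_of_nat_card_le (by rw [hΩ, Nat.card_eq_fintype_card, Fintype.card_fin])
  obtain ⟨j, hj⟩ := hbij.2 b
  have hj' : x ^ (j : ℕ) • a = b := hj
  set u := x ^ (j : ℕ) with hu
  have huP : u ∈ P := pow_mem hx _
  have htu : t * u * t⁻¹ = u⁻¹ := htinv u huP
  -- t • b = b gives u⁻¹ • a = u • a
  have h5 : u⁻¹ • a = u • a := by
    have h6 : t • (u • a) = u • a := by rw [hj']; exact hb
    have h7 : t • (u • a) = (t * u * t⁻¹) • (t • a) := by
      rw [← mul_smul, ← mul_smul, inv_mul_cancel_right]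
    rw [h7, ha, htu] at h6
    exact h6
  have h8 : (u ^ 2) • a = a := by
    rw [pow_two, mul_smul, ← h5, smul_inv_smul]
  have h9 := hsemi _ (pow_mem huP 2) a h8
  have h10 := sylow7_pow_two h P huP h9
  rw [h10, one_smul] at hj'
  exact hab hj'

theorem eight_le_index (h : Nat.card G = 504) {H : Subgroup G} (hH : H ≠ ⊤) : 8 ≤ H.index := by
  have h7 := seven_le_index h hH
  have h7' := no_index_seven h H
  omega

theorem eq_top_of_card (h : Nat.card G = 504) {H : Subgroup G} (hH : 63 < Nat.card H) :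
    H = ⊤ := by
  by_contra hne
  have h8 := eight_le_index h hne
  have hm := H.card_mul_index
  rw [h] at hm
  nlinarith

end Cfsg.Agent.Lib.H2.Ord504
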