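import Mathlib
import Cfsg.Agent.Lib.H2.Ord504b
import Cfsg.Agent.Lib.H5.OrderCount

set_option autoImplicit false
set_option linter.unusedSectionVars false

/-! # Simple groups of order 504, part 3: Sylow 3-subgroups -/

namespace Cfsg.Agent.Lib.H2.Ord504

open Subgroup MulAction Cfsg.Agent.Lib.H5 Cfsg.Agent.Lib.H2.SimpleAct Cfsg.Agent.Lib.H2.SylowTI

variable {G : Type*} [Group G] [Finite G] [IsSimpleGroup G]

theorem sylow3_comm (h : Nat.card G = 504) (P : Sylow 3 G) {a b : G} (ha : a ∈ P) (hb : b ∈ P) :
    a * b = b * a := by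
  have hc : Nat.card (P : Subgroup G) = 3 ^ 2 := by rw [(card_sylow3_subgroup h P).1]; norm_num
  have hcm : IsMulCommutative (P : Subgroup G) := IsPGroup.isMulCommutative_of_card_eq_prime_sq hc
  have := hcm.is_comm.comm ⟨a, ha⟩ ⟨b, hb⟩
  exact congrArg Subtype.val this

theorem card_sylow3 (h : Nat.card G = 504) : Nat.card (Sylow 3 G) = 28 := by
  obtain ⟨P⟩ : Nonempty (Sylow 3 G) := inferInstance
  obtain ⟨hPc, hPi⟩ := card_sylow3_subgroup h P
  have hmem := card_sylow_mem_filter_divisors P (by norm_num : (56 : ℕ) ≠ 0) hPi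
  have hfilt : (Nat.divisors 56).filter (fun d => d % 3 = 1) = {1, 4, 7, 28} := by decide
  rw [hfilt] at hmem
  simp only [Finset.mem_insert, Finset.mem_singleton] at hmem
  have hI := index_normalizer_eq_card_sylow P
  have hn1 : Nat.card (Sylow 3 G) ≠ 1 :=
    card_sylow_ne_one_of_simple (by rw [h]; norm_num) (not_isPGroup h 3)
  by_contra hne
  have hle : Nat.card (Sylow 3 G) ≤ 7 := by
    rcases hmem with h1 | h1 | h1 | h1 <;> omega
  have htop : normalizer ((P : Subgroup G) : Set G) = ⊤ := by
    by_contra hnt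
    have := eight_le_index h hnt
    omega
  rw [htop, index_top] at hI
  exact hn1 hI.symm

theorem card_normalizer_sylow3 (h : Nat.card G = 504) (P : Sylow 3 G) :
    Nat.card (normalizer ((P : Subgroup G) : Set G)) = 18 := by
  have hN := card_normalizer_mul_card_sylow P
  rw [h, card_sylow3 h] at hN
  omega

/-- a subgroup of order 4 is never normalized by a subgroup of order 36 -/
theorem no_normal_four (h : Nat.card G = 504) {M T0 : Subgroup G} (hMc : Nat.card M = 36)
    (hT0c : Nat.card T0 = 4) (hMN : M ≤ normalizer (T0 : Set G)) : False := by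
  have hT0p : IsPGroup 2 T0 := IsPGroup.of_card (n := 2) (by rw [hT0c]; norm_num)
  obtain ⟨S, hS⟩ := hT0p.exists_le_sylow
  obtain ⟨hSc, hSi⟩ := card_sylow2_subgroup h S
  have hrel : T0.relIndex S = 2 := by
    have h1 := relIndex_mul_index hS
    have h2 := T0.card_mul_index
    rw [hT0c, h] at h2
    rw [hSi] at h1
    have : T0.index = 126 := by omega
    rw [this] at h1
    omega
  have hnorm : (T0.subgroupOf S).Normal := Subgroup.normal_of_index_eq_two hrel
  have hSN : (S : Subgroup G) ≤ normalizer (T0 : Set G) :=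
    (normal_subgroupOf_iff_le_normalizer hS).mp hnorm
  have h8 : 8 ∣ Nat.card (normalizer (T0 : Set G)) := hSc ▸ Subgroup.card_dvd_of_le hSN
  have h36 : 36 ∣ Nat.card (normalizer (T0 : Set G)) := hMc ▸ Subgroup.card_dvd_of_le hMN
  have h72 : 72 ∣ Nat.card (normalizer (T0 : Set G)) := by
    have := Nat.lcm_dvd h8 h36
    have hl : Nat.lcm 8 36 = 72 := by decide
    rwa [hl] at this
  have hpos : 0 < Nat.card (normalizer (T0 : Set G)) := Nat.card_pos
  have htop : normalizer (T0 : Set G) = ⊤ := by
    apply eq_top_of_card h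
    have := Nat.le_of_dvd hpos h72
    omega
  have hn : T0.Normal := normalizer_eq_top_iff.mp htop
  rcases hn.eq_bot_or_eq_top with hb | ht
  · rw [hb, Subgroup.card_bot] at hT0c
    omega
  · rw [ht, Subgroup.card_top, h] at hT0c
    omega

/-- no element of order 7 commutes with a non-identity element of order dividing 3 -/
theorem no_comm_seven_three (h : Nat.card G = 504) {x d : G} (hx : orderOf x = 7) (hd1 : d ≠ 1)
    (hd3 : d ^ 3 = 1) (hc : d * x = x * d) : False := by
  obtain ⟨P, hxP⟩ := exists_sylow_mem_of_orderOf_eq (p := 7) x hx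
  have hx1 : x ≠ 1 := by
    intro h1
    rw [h1, orderOf_one] at hx
    omega
  have hdP := mem_sylow7_of_comm h P hxP hx1 hc
  exact hd1 (sylow7_pow_three h P hdP hd3)

/-- distinct Sylow 3-subgroups intersect trivially -/
theorem sylow3_inf (h : Nat.card G = 504) (P Q : Sylow 3 G) (hPQ : P ≠ Q) :
    (P : Subgroup G) ⊓ (Q : Subgroup G) = ⊥ := by
  by_contra hD
  set D : Subgroup G := (P : Subgroup G) ⊓ (Q : Subgroup G) with hDdef
  have hnorm : ∀ R : Sylow 3 G, D ≤ R → (R : Subgroup G) ≤ normalizer (D : Set G) := by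
    intro R hDR x hx
    rw [mem_normalizer_iff]
    intro g
    constructor
    · intro hg
      have hgP : g ∈ R := hDR hg
      have : x * g * x⁻¹ = g := by
        rw [sylow3_comm h R hx hgP, mul_inv_cancel_right]
      rwa [this]
    · intro hg
      have hgP : x * g * x⁻¹ ∈ R := hDR hg
      have hgP' : g ∈ R := by
        have hmm := mul_mem (mul_mem (inv_mem hx) hgP) hx
        rw [show x⁻¹ * (x * g * x⁻¹) * x = g by group] at hmm
        exact hmm
      have : x * g * x⁻¹ = g := by
        rw [sylow3_comm h R hx hgP', mul_inv_cancel_right]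
      rwa [this] at hg
  have hP : (P : Subgroup G) ≤ normalizer (D : Set G) := hnorm P inf_le_left
  have hQ : (Q : Subgroup G) ≤ normalizer (D : Set G) := hnorm Q inf_le_right
  set M : Subgroup G := normalizer (D : Set G) with hMdef
  have hM : M ≠ ⊤ := by
    intro htop
    have hn : D.Normal := normalizer_eq_top_iff.mp htop
    rcases hn.eq_bot_or_eq_top with hb | ht
    · exact hD hb
    · have hle : (⊤ : Subgroup G) ≤ P := ht ▸ (inf_le_left : D ≤ P)
      have := Subgroup.card_dvd_of_le hle
      rw [Subgroup.card_top, h, (card_sylow3_subgroup h P).1] at this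
      omega
  -- |D| = 3
  have hDc : Nat.card D = 3 := by
    have hd : Nat.card D ∣ 9 := by
      have := Subgroup.card_dvd_of_le (inf_le_left : D ≤ P)
      rwa [(card_sylow3_subgroup h P).1] at this
    have hmem : Nat.card D ∈ Nat.divisors 9 := by simp [hd]
    have hdiv : Nat.divisors 9 = {1, 3, 9} := by decide
    rw [hdiv] at hmem
    simp only [Finset.mem_insert, Finset.mem_singleton] at hmem
    rcases hmem with h1 | h3 | h9
    · exact absurd (Subgroup.card_eq_one.mp h1) hD
    · exact h3
    · exfalso
      have heq : D = (P : Subgroup G) :=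
        Subgroup.eq_of_le_of_card_ge inf_le_left (by rw [h9, (card_sylow3_subgroup h P).1])
      have hle : (P : Subgroup G) ≤ Q := heq ▸ (inf_le_right : D ≤ Q)
      exact hPQ (Sylow.ext (P.3 Q.2 hle).symm)
  -- 7 does not divide |M|
  have h7M : ¬ 7 ∣ Nat.card M := by
    intro h7
    have hrel := relIndex_centralizer_normalizer_dvd_of_card_prime D (p := 3) hDc
    have hmul := card_centralizer_mul_relIndex_normalizer D
    have h7C : 7 ∣ Nat.card (centralizer (D : Set G)) := by
      have h7' : 7 ∣ Nat.card (centralizer (D : Set G)) *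
          (centralizer (D : Set G)).relIndex (normalizer (D : Set G)) := by rw [hmul]; exact h7
      rcases (Nat.Prime.dvd_mul (by norm_num : Nat.Prime 7)).mp h7' with h1 | h1
      · exact h1
      · exfalso
        have := dvd_trans h1 hrel
        omega
    obtain ⟨x, hx⟩ := exists_prime_orderOf_dvd_card' (G := centralizer (D : Set G)) 7 h7C
    have hxo : orderOf (x : G) = 7 := by rw [← hx]; exact (Subgroup.orderOf_coe x)
    have hnt : Nontrivial D := by
      rw [← Finite.one_lt_card_iff_nontrivial, hDc]; norm_num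
    obtain ⟨⟨d, hd⟩, hd1'⟩ := exists_ne (1 : D)
    have hd1 : d ≠ 1 := fun hh => hd1' (Subtype.ext hh)
    have hd3 : d ^ 3 = 1 := by
      have := pow_card_eq_one' (G := D) (x := ⟨d, hd⟩)
      rw [hDc] at this
      exact congrArg Subtype.val this
    have hc : d * (x : G) = x * d := (mem_centralizer_iff.mp x.2) d hd
    exact no_comm_seven_three h hxo hd1 hd3 hc
  -- now the Sylow analysis of M
  have h8 := eight_le_index h hM
  have hmi := M.card_mul_index
  rw [h] at hmi
  have h9 : 9 ∣ Nat.card M := by
    have := Subgroup.card_dvd_of_le hP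
    rwa [(card_sylow3_subgroup h P).1] at this
  have hne : P.subtype hP ≠ Q.subtype hQ := fun he => hPQ (Sylow.subtype_injective he)
  have hn1 : Nat.card (Sylow 3 M) ≠ 1 := by
    intro h1
    have : Subsingleton (Sylow 3 M) := (Nat.card_eq_one_iff_unique.mp h1).1
    exact hne (Subsingleton.elim _ _)
  have hmod := card_sylow_modEq_one 3 M
  have hdvd := Sylow.card_dvd_index (P.subtype hP)
  have hP'c : Nat.card ((P.subtype hP : Sylow 3 M) : Subgroup M) = 9 := by
    rw [Sylow.coe_subtype, Nat.card_congr (subgroupOfEquivOfLe hP).toEquiv]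
    exact (card_sylow3_subgroup h P).1
  have hP'i := ((P.subtype hP : Sylow 3 M) : Subgroup M).card_mul_index
  rw [hP'c] at hP'i
  obtain ⟨k, hk⟩ := h9
  have hidx : ((P.subtype hP : Sylow 3 M) : Subgroup M).index = k := by
    rw [hk] at hP'i
    omega
  rw [hidx] at hdvd
  have hk56 : k * M.index = 56 := by
    rw [hk] at hmi
    nlinarith
  have hk7 : k ≤ 7 := by nlinarith
  have hkpos : 0 < k := by
    rcases Nat.eq_zero_or_pos k with h0 | h0
    · rw [h0] at hk56; omega
    · exact h0
  have hk7' : ¬ 7 ∣ k := by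
    intro h7
    apply h7M
    rw [hk]
    exact Dvd.dvd.mul_left h7 9
  have hnle : Nat.card (Sylow 3 M) ≤ k := Nat.le_of_dvd hkpos hdvd
  have hmod' : Nat.card (Sylow 3 M) % 3 = 1 := hmod
  have hk4 : k = 4 ∧ Nat.card (Sylow 3 M) = 4 := by
    generalize Nat.card (Sylow 3 M) = n at *
    have hidx6 : M.index ≤ 56 := by nlinarith
    generalize M.index = j at *
    interval_cases k <;> interval_cases n <;> omega
  obtain ⟨rfl, hn4⟩ := hk4
  have hMc : Nat.card M = 36 := by omega
  -- the normalizer in `M` of the Sylow subgroup is itself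
  have hNc : Nat.card (normalizer (((P.subtype hP : Sylow 3 M) : Subgroup M) : Set M)) = 9 := by
    have := card_normalizer_mul_card_sylow (P.subtype hP : Sylow 3 M)
    rw [hn4, hMc] at this
    omega
  have heq : ((P.subtype hP : Sylow 3 M) : Subgroup M) =
      normalizer (((P.subtype hP : Sylow 3 M) : Subgroup M) : Set M) :=
    Subgroup.eq_of_le_of_card_ge le_normalizer (by rw [hNc, hP'c])
  have hNC : normalizer (((P.subtype hP : Sylow 3 M) : Subgroup M) : Set M) ≤
      centralizer (((P.subtype hP : Sylow 3 M) : Subgroup M) : Set M) := by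
    intro x hx
    rw [← heq] at hx
    rw [mem_centralizer_iff]
    intro y hy
    have hx' : (x : G) ∈ P := by
      rw [Sylow.coe_subtype] at hx
      exact mem_subgroupOf.mp hx
    have hy' : (y : G) ∈ P := by
      have hy2 : y ∈ ((P.subtype hP : Sylow 3 M) : Subgroup M) := hy
      rw [Sylow.coe_subtype] at hy2
      exact mem_subgroupOf.mp hy2
    exact Subtype.ext (sylow3_comm h P hy' hx')
  have hcomp := MonoidHom.ker_transferSylow_isComplement' (P.subtype hP : Sylow 3 M) hNC
  have hTc : Nat.card (MonoidHom.transferSylow (P.subtype hP : Sylow 3 M) hNC).ker = 4 := by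
    have := hcomp.card_mul_card
    rw [hP'c, hMc] at this
    omega
  have hTn : (MonoidHom.transferSylow (P.subtype hP : Sylow 3 M) hNC).ker.Normal :=
    MonoidHom.normal_ker _
  refine no_normal_four h (M := M)
    (T0 := (MonoidHom.transferSylow (P.subtype hP : Sylow 3 M) hNC).ker.map M.subtype) hMc ?_ ?_
  · rw [Subgroup.card_subtype]
    exact hTc
  · have h1 := le_normalizer_map (H := (MonoidHom.transferSylow (P.subtype hP : Sylow 3 M) hNC).ker)
      M.subtype
    rw [normalizer_eq_top_iff.mpr hTn, ← MonoidHom.range_eq_map, Subgroup.range_subtype] at h1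
    exact h1

/-- an involution commutes with no non-identity element of a Sylow 3-subgroup -/
theorem no_comm_two_three (h : Nat.card G = 504) (P : Sylow 3 G) {y t : G} (hy : y ∈ P)
    (hy1 : y ≠ 1) (ht : orderOf t = 2) (hc : t * y = y * t) : False := by
  -- t normalizes P
  have htP : t • P = P := by
    by_contra hne
    have hmem : y ∈ ((t • P : Sylow 3 G) : Subgroup G) := by
      rw [Sylow.coe_subgroup_smul, Subgroup.mem_smul_pointwise_iff_exists]
      refine ⟨y, hy, ?_⟩
      rw [MulAut.smul_def, MulAut.conj_apply, hc, mul_inv_cancel_right]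
    have : y ∈ ((t • P : Sylow 3 G) : Subgroup G) ⊓ (P : Subgroup G) :=
      Subgroup.mem_inf.mpr ⟨hmem, hy⟩
    rw [sylow3_inf h _ _ hne, Subgroup.mem_bot] at this
    exact hy1 this
  have htN : t ∈ normalizer ((P : Subgroup G) : Set G) := Sylow.smul_eq_iff_mem_normalizer.mp htP
  have hPc := (card_sylow3_subgroup h P).1
  have hNc := card_normalizer_sylow3 h P
  -- K = C(y) ∩ N(P) is all of N(P)
  set K : Subgroup G := centralizer {y} ⊓ normalizer ((P : Subgroup G) : Set G) with hK
  have hPK : (P : Subgroup G) ≤ K := by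
    intro u hu
    refine Subgroup.mem_inf.mpr ⟨?_, le_normalizer hu⟩
    rw [mem_centralizer_iff]
    intro z hz
    rw [Set.mem_singleton_iff.mp hz]
    exact sylow3_comm h P hy hu
  have htK : t ∈ K := by
    refine Subgroup.mem_inf.mpr ⟨?_, htN⟩
    rw [mem_centralizer_iff]
    intro z hz
    rw [Set.mem_singleton_iff.mp hz]
    exact hc.symm
  have hKN : K ≤ normalizer ((P : Subgroup G) : Set G) := inf_le_right
  have hKc : Nat.card K = 18 := by
    have h9 : 9 ∣ Nat.card K := hPc ▸ Subgroup.card_dvd_of_le hPK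
    have h18 : Nat.card K ∣ 18 := hNc ▸ Subgroup.card_dvd_of_le hKN
    have hne9 : Nat.card K ≠ 9 := by
      intro h9'
      have : (P : Subgroup G) = K := Subgroup.eq_of_le_of_card_ge hPK (by rw [h9', hPc])
      have htP' : t ∈ (P : Subgroup G) := this ▸ htK
      have h1 : orderOf t ∣ 9 := by
        have := orderOf_dvd_natCard (⟨t, htP'⟩ : (P : Subgroup G))
        rwa [Subgroup.orderOf_mk, hPc] at this
      rw [ht] at h1
      omega
    have hle := Nat.le_of_dvd (by norm_num) h18
    have hpos : 0 < Nat.card K := Nat.card_pos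
    generalize Nat.card K = c at *
    interval_cases c <;> omega
  have hKeq : K = normalizer ((P : Subgroup G) : Set G) :=
    Subgroup.eq_of_le_of_card_ge hKN (by rw [hKc, hNc])
  apply hy1
  apply eq_one_of_central_normalizer P (fun a ha b hb => sylow3_comm h P ha hb) (perfect h) hy
  intro n hn
  rw [← hKeq] at hn
  have := (Subgroup.mem_inf.mp hn).1
  rw [mem_centralizer_iff] at this
  exact (this y (Set.mem_singleton y)).symm

end Cfsg.Agent.Lib.H2.Ord504
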