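import Mathlib
import Cfsg.Agent.Lib.H2.Ord504c
import Cfsg.Agent.Lib.H5.ConjCount

set_option autoImplicit false
set_option linter.unusedSectionVars false

/-! # Simple groups of order 504, part 4: counting; Sylow 2-subgroups -/

namespace Cfsg.Agent.Lib.H2.Ord504

open Subgroup MulAction Cfsg.Agent.Lib.H5 Cfsg.Agent.Lib.H2.SimpleAct Cfsg.Agent.Lib.H2.SylowTI

variable {G : Type*} [Group G] [Finite G] [IsSimpleGroup G]

/-- at most 63 elements have even order -/
theorem ncard_even_le (h : Nat.card G = 504) : {g : G | 2 ∣ orderOf g}.ncard ≤ 63 := by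
  have h7 : Nat.card (Sylow 7 G) * (7 - 1) ≤ {g : G | orderOf g = 7}.ncard := by
    apply ti_card_le 7 (fun P => (card_sylow7_subgroup h P).1) (sylow7_inf h)
    intro P g hg hg1
    have h2 : orderOf g ∣ 7 := orderOf_dvd_of_pow_eq_one (sylow7_pow_seven h P hg)
    rcases (Nat.dvd_prime (by norm_num : Nat.Prime 7)).mp h2 with h1 | h7
    · exact absurd (orderOf_eq_one_iff.mp h1) hg1
    · exact h7
  have h3 : Nat.card (Sylow 3 G) * (9 - 1) ≤ {g : G | g ≠ 1 ∧ g ^ 9 = 1}.ncard := by
    apply ti_card_le 9 (fun P => (card_sylow3_subgroup h P).1) (sylow3_inf h)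
    intro P g hg hg1
    refine ⟨hg1, ?_⟩
    have := pow_card_eq_one' (G := (P : Subgroup G)) (x := ⟨g, hg⟩)
    rw [(card_sylow3_subgroup h P).1] at this
    exact congrArg Subtype.val this
  rw [card_sylow7 h] at h7
  rw [card_sylow3 h] at h3
  set E : Set G := {g : G | 2 ∣ orderOf g} with hE
  set A7 : Set G := {g : G | orderOf g = 7} with hA7
  set A3 : Set G := {g : G | g ≠ 1 ∧ g ^ 9 = 1} with hA3
  have hd1 : Disjoint E A7 := by
    rw [Set.disjoint_left]
    intro g hgE hg7
    simp only [hE, hA7, Set.mem_ofPred_eq] at hgE hg7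
    rw [hg7] at hgE
    omega
  have hd2 : Disjoint (E ∪ A7) A3 := by
    rw [Set.disjoint_left]
    intro g hg hg3
    simp only [hA3, Set.mem_ofPred_eq] at hg3
    have h9 : orderOf g ∣ 9 := orderOf_dvd_of_pow_eq_one hg3.2
    rcases hg with hgE | hg7
    · simp only [hE, Set.mem_ofPred_eq] at hgE
      have := dvd_trans hgE h9
      omega
    · simp only [hA7, Set.mem_ofPred_eq] at hg7
      rw [hg7] at h9
      omega
  have hd3 : Disjoint (E ∪ A7 ∪ A3) {1} := by
    rw [Set.disjoint_singleton_right]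
    rintro ((hgE | hg7) | hg3)
    · simp only [hE, Set.mem_ofPred_eq, orderOf_one] at hgE
      omega
    · simp only [hA7, Set.mem_ofPred_eq, orderOf_one] at hg7
      omega
    · exact hg3.1 rfl
  have hcard : (E ∪ A7 ∪ A3 ∪ {1}).ncard = E.ncard + A7.ncard + A3.ncard + 1 := by
    rw [Set.ncard_union_eq hd3 (Set.toFinite _) (Set.toFinite _),
      Set.ncard_union_eq hd2 (Set.toFinite _) (Set.toFinite _),
      Set.ncard_union_eq hd1 (Set.toFinite _) (Set.toFinite _), Set.ncard_singleton]
  have hle : (E ∪ A7 ∪ A3 ∪ {1}).ncard ≤ 504 := by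
    rw [← h, ← Set.ncard_univ]
    exact Set.ncard_le_ncard (Set.subset_univ _) (Set.toFinite _)
  omega

/-- the centralizer of an involution has order dividing 8 -/
theorem card_centralizer_involution_dvd (h : Nat.card G = 504) {t : G} (ht : orderOf t = 2) :
    Nat.card (centralizer ({t} : Set G)) ∣ 8 := by
  have ht1 : t ≠ 1 := by
    intro h1
    rw [h1, orderOf_one] at ht
    omega
  have h3 : ¬ 3 ∣ Nat.card (centralizer ({t} : Set G)) := by
    intro h3
    have : Fact (Nat.Prime 3) := ⟨Nat.prime_three⟩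
    obtain ⟨y, hy⟩ := exists_prime_orderOf_dvd_card' (G := centralizer ({t} : Set G)) 3 h3
    have hyo : orderOf (y : G) = 3 := by rw [← hy]; exact (Subgroup.orderOf_coe y)
    obtain ⟨P, hyP⟩ := exists_sylow_mem_of_orderOf_eq (p := 3) (y : G) hyo
    have hy1 : (y : G) ≠ 1 := by
      intro h1
      rw [h1, orderOf_one] at hyo
      omega
    have hc : t * (y : G) = y * t := (mem_centralizer_iff.mp y.2) t (Set.mem_singleton t)
    exact no_comm_two_three h P hyP hy1 ht hc
  have h7 : ¬ 7 ∣ Nat.card (centralizer ({t} : Set G)) := by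
    intro h7
    obtain ⟨x, hx⟩ := exists_prime_orderOf_dvd_card' (G := centralizer ({t} : Set G)) 7 h7
    have hxo : orderOf (x : G) = 7 := by rw [← hx]; exact (Subgroup.orderOf_coe x)
    obtain ⟨P, hxP⟩ := exists_sylow_mem_of_orderOf_eq (p := 7) (x : G) hxo
    have hx1 : (x : G) ≠ 1 := by
      intro h1
      rw [h1, orderOf_one] at hxo
      omega
    have hc : t * (x : G) = x * t := (mem_centralizer_iff.mp x.2) t (Set.mem_singleton t)
    have htP := mem_sylow7_of_comm h P hxP hx1 hc
    have ht2 : t ^ 2 = 1 := by rw [← ht, pow_orderOf_eq_one]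
    exact ht1 (sylow7_pow_two h P htP ht2)
  have hd : Nat.card (centralizer ({t} : Set G)) ∣ 8 * 63 := by
    have := Subgroup.card_subgroup_dvd_card (centralizer ({t} : Set G))
    rwa [h] at this
  have hcop : Nat.Coprime (Nat.card (centralizer ({t} : Set G))) 63 := by
    have h63 : (63 : ℕ) = 3 ^ 2 * 7 := by norm_num
    rw [h63]
    apply Nat.Coprime.mul_right
    · apply Nat.Coprime.pow_right
      rw [Nat.coprime_comm]
      exact (Nat.Prime.coprime_iff_not_dvd Nat.prime_three).mpr h3
    · rw [Nat.coprime_comm]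
      exact (Nat.Prime.coprime_iff_not_dvd (by norm_num)).mpr h7
  exact hcop.dvd_of_dvd_mul_right hd

/-- every element of even order is an involution -/
theorem orderOf_eq_two_of_even (h : Nat.card G = 504) {g : G} (hg : 2 ∣ orderOf g) :
    orderOf g = 2 := by
  -- an involution exists
  have h2G : 2 ∣ Nat.card G := by rw [h]; norm_num
  obtain ⟨t, ht⟩ := exists_prime_orderOf_dvd_card' (G := G) 2 h2G
  have hC := card_centralizer_involution_dvd h ht
  have hmul := ncard_conj_mul_card_centralizer t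
  rw [h] at hmul
  have hE := ncard_even_le h
  have hsub : {g : G | IsConj t g} ⊆ {g : G | 2 ∣ orderOf g} := by
    intro g hg
    simp only [Set.mem_ofPred_eq] at hg ⊢
    rw [← orderOf_eq_of_isConj hg, ht]
  have hle := Set.ncard_le_ncard hsub (Set.toFinite _)
  have hC8 : Nat.card (centralizer ({t} : Set G)) ≤ 8 := Nat.le_of_dvd (by norm_num) hC
  have hcl : 63 ≤ {g : G | IsConj t g}.ncard := by nlinarith
  have heq : {g : G | IsConj t g} = {g : G | 2 ∣ orderOf g} :=
    Set.eq_of_subset_of_ncard_le hsub (by omega) (Set.toFinite _)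
  have hgm : g ∈ {g : G | IsConj t g} := by rw [heq]; exact hg
  simp only [Set.mem_ofPred_eq] at hgm
  rw [← orderOf_eq_of_isConj hgm, ht]

/-- the centralizer of an involution has order exactly 8 -/
theorem card_centralizer_involution (h : Nat.card G = 504) {t : G} (ht : orderOf t = 2) :
    Nat.card (centralizer ({t} : Set G)) = 8 := by
  have hC := card_centralizer_involution_dvd h ht
  have hmul := ncard_conj_mul_card_centralizer t
  rw [h] at hmul
  have hE := ncard_even_le h
  have hsub : {g : G | IsConj t g} ⊆ {g : G | 2 ∣ orderOf g} := by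
    intro g hg
    simp only [Set.mem_ofPred_eq] at hg ⊢
    rw [← orderOf_eq_of_isConj hg, ht]
  have hle := Set.ncard_le_ncard hsub (Set.toFinite _)
  have hC8 : Nat.card (centralizer ({t} : Set G)) ≤ 8 := Nat.le_of_dvd (by norm_num) hC
  nlinarith

/-- non-identity elements of a Sylow 2-subgroup are involutions -/
theorem orderOf_of_mem_sylow2 (h : Nat.card G = 504) (S : Sylow 2 G) {s : G} (hs : s ∈ S)
    (hs1 : s ≠ 1) : orderOf s = 2 := by
  apply orderOf_eq_two_of_even h
  obtain ⟨k, hk⟩ := (IsPGroup.iff_orderOf.mp S.2) ⟨s, hs⟩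
  rw [Subgroup.orderOf_mk] at hk
  rcases Nat.eq_zero_or_pos k with h0 | h0
  · rw [h0, pow_zero] at hk
    exact absurd (orderOf_eq_one_iff.mp hk) hs1
  · rw [hk]
    exact dvd_pow_self 2 h0.ne'

theorem sylow2_sq (h : Nat.card G = 504) (S : Sylow 2 G) {s : G} (hs : s ∈ S) : s * s = 1 := by
  by_cases hs1 : s = 1
  · rw [hs1, one_mul]
  · rw [← pow_two, ← orderOf_of_mem_sylow2 h S hs hs1, pow_orderOf_eq_one]

theorem sylow2_comm (h : Nat.card G = 504) (S : Sylow 2 G) {a b : G} (ha : a ∈ S) (hb : b ∈ S) :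
    a * b = b * a := by
  have h1 := sylow2_sq h S ha
  have h2 := sylow2_sq h S hb
  have h3 := sylow2_sq h S (mul_mem ha hb)
  have ha' : a⁻¹ = a := inv_eq_of_mul_eq_one_left h1
  have hb' : b⁻¹ = b := inv_eq_of_mul_eq_one_left h2
  have hab : (a * b)⁻¹ = a * b := inv_eq_of_mul_eq_one_left h3
  rw [mul_inv_rev, ha', hb'] at hab
  exact hab.symm

/-- a Sylow 2-subgroup is the centralizer of each of its involutions -/
theorem sylow2_eq_centralizer (h : Nat.card G = 504) (S : Sylow 2 G) {t : G} (ht : t ∈ S)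
    (ht1 : t ≠ 1) : (S : Subgroup G) = centralizer ({t} : Set G) := by
  apply Subgroup.eq_of_le_of_card_ge
  · intro s hs
    rw [mem_centralizer_iff]
    intro z hz
    rw [Set.mem_singleton_iff.mp hz]
    exact sylow2_comm h S ht hs
  · rw [card_centralizer_involution h (orderOf_of_mem_sylow2 h S ht ht1),
      (card_sylow2_subgroup h S).1]

theorem sylow2_inf (h : Nat.card G = 504) (S T : Sylow 2 G) (hST : S ≠ T) :
    (S : Subgroup G) ⊓ (T : Subgroup G) = ⊥ := by
  rw [eq_bot_iff]
  intro t ht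
  rw [Subgroup.mem_bot]
  by_contra ht1
  obtain ⟨htS, htT⟩ := Subgroup.mem_inf.mp ht
  apply hST
  apply Sylow.ext
  rw [sylow2_eq_centralizer h S htS ht1, sylow2_eq_centralizer h T htT ht1]

theorem card_sylow2 (h : Nat.card G = 504) : Nat.card (Sylow 2 G) = 9 := by
  obtain ⟨S⟩ : Nonempty (Sylow 2 G) := inferInstance
  have hle : Nat.card (Sylow 2 G) * (8 - 1) ≤ {g : G | 2 ∣ orderOf g}.ncard := by
    apply ti_card_le 8 (fun P => (card_sylow2_subgroup h P).1) (sylow2_inf h)
    intro P g hg hg1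
    simp only [Set.mem_ofPred_eq]
    rw [orderOf_of_mem_sylow2 h P hg hg1]
  have hE := ncard_even_le h
  have hI := index_normalizer_eq_card_sylow S
  have hn1 : Nat.card (Sylow 2 G) ≠ 1 :=
    card_sylow_ne_one_of_simple (by rw [h]; norm_num) (not_isPGroup h 2)
  have h9 : Nat.card (Sylow 2 G) ≤ 9 := by omega
  have h8 : 8 ≤ Nat.card (Sylow 2 G) := by
    by_contra hlt
    have htop : normalizer ((S : Subgroup G) : Set G) = ⊤ := by
      by_contra hnt
      have := eight_le_index h hnt
      omega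
    rw [htop, index_top] at hI
    exact hn1 hI.symm
  have hodd := card_sylow_modEq_one 2 G
  have hodd' : Nat.card (Sylow 2 G) % 2 = 1 := hodd
  omega

end Cfsg.Agent.Lib.H2.Ord504
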