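import Mathlib
import Cfsg.Agent.Lib.H2.Ord504d
import Cfsg.Agent.Lib.H4.S3T.PGL
import Cfsg.Agent.Lib.H2.SLMapEquiv
import Cfsg.Agent.Lib.H29.ExcIso

set_option autoImplicit false
set_option linter.unusedSectionVars false

/-! # Simple groups of order 504, part 5: sharply 3-transitive action on Sylow 2-subgroups -/

namespace Cfsg.Agent.Lib.H2.Ord504

open Subgroup MulAction Cfsg.Agent.Lib.H5 Cfsg.Agent.Lib.H2.SimpleAct Cfsg.Agent.Lib.H2.SylowTI
open Cfsg.Agent.Lib.H4.S3T

variable {G : Type*} [Group G] [Finite G] [IsSimpleGroup G]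

theorem card_two_point_stab2 (h : Nat.card G = 504) {S T : Sylow 2 G} (hST : S ≠ T) :
    Nat.card (stabilizer G S ⊓ stabilizer G T : Subgroup G) = 7 := by
  have := card_two_point_stab (sylow2_inf h) (fun P => (card_sylow2_subgroup h P).1)
    (card_sylow2 h) hST
  rw [h] at this
  omega

theorem eq_one_of_three_fixed (h : Nat.card G = 504) {S T R : Sylow 2 G} (hST : S ≠ T)
    (hSR : S ≠ R) (hTR : T ≠ R) {g : G} (hS : g • S = S) (hT : g • T = T) (hR : g • R = R) :
    g = 1 := by
  by_contra hg1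
  have hmem : g ∈ stabilizer G S ⊓ stabilizer G T := Subgroup.mem_inf.mpr ⟨hS, hT⟩
  have hord : orderOf g ∣ 7 := by
    have := orderOf_dvd_natCard (⟨g, hmem⟩ : (stabilizer G S ⊓ stabilizer G T : Subgroup G))
    rw [card_two_point_stab2 h hST] at this
    rwa [Subgroup.orderOf_mk] at this
  have hgo : orderOf g = 7 := by
    rcases (Nat.dvd_prime (by norm_num : Nat.Prime 7)).mp hord with h1 | h7
    · exact absurd (orderOf_eq_one_iff.mp h1) hg1
    · exact h7
  obtain ⟨u, hu, hue⟩ := exists_mem_smul_eq (sylow2_inf h)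
    (fun P => (card_sylow2_subgroup h P).1) (card_sylow2 h) hST hSR
  have hcomm := comm_of_fixed (sylow2_inf h) hST hS hT hu (by rw [hue]; exact hR)
  obtain ⟨P, hgP⟩ := exists_sylow_mem_of_orderOf_eq (p := 7) g hgo
  have huP := mem_sylow7_of_comm h P hgP hg1 hcomm.symm
  have hu2 : u ^ 2 = 1 := by rw [pow_two]; exact sylow2_sq h S hu
  have hu1 := sylow7_pow_two h P huP hu2
  rw [hu1, one_smul] at hue
  exact hTR hue

/-- the two-point stabilizer is transitive on the remaining seven points -/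
theorem exists_stab_smul_eq (h : Nat.card G = 504) {S T R R' : Sylow 2 G} (hST : S ≠ T)
    (hSR : S ≠ R) (hTR : T ≠ R) (hSR' : S ≠ R') (hTR' : T ≠ R') :
    ∃ z : G, z • S = S ∧ z • T = T ∧ z • R = R' := by
  classical
  set H : Subgroup G := stabilizer G S ⊓ stabilizer G T with hH
  have hHc : Nat.card H = 7 := card_two_point_stab2 h hST
  have hinj : Set.InjOn (fun z : G => z • R) (H : Set G) := by
    intro z hz z' hz' hzz
    have hzz' : z • R = z' • R := hzz
    have hzm := Subgroup.mem_inf.mp hz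
    have hzm' := Subgroup.mem_inf.mp hz'
    have h1 : (z'⁻¹ * z) • R = R := by rw [mul_smul, hzz', inv_smul_smul]
    have h2 : (z'⁻¹ * z) • S = S := by
      rw [mul_smul, mem_stabilizer_iff.mp hzm.1, inv_smul_eq_iff, mem_stabilizer_iff.mp hzm'.1]
    have h3 : (z'⁻¹ * z) • T = T := by
      rw [mul_smul, mem_stabilizer_iff.mp hzm.2, inv_smul_eq_iff, mem_stabilizer_iff.mp hzm'.2]
    have := eq_one_of_three_fixed h hST hSR hTR h2 h3 h1
    exact (inv_mul_eq_one.mp this).symm
  have hsub : (fun z : G => z • R) '' (H : Set G) ⊆ ({S, T} : Set (Sylow 2 G))ᶜ := by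
    rintro _ ⟨z, hz, rfl⟩
    have hzm := Subgroup.mem_inf.mp hz
    simp only [Set.mem_compl_iff, Set.mem_insert_iff, Set.mem_singleton_iff, not_or]
    constructor
    · intro hh
      apply hSR
      have : z • R = z • S := by rw [hh, mem_stabilizer_iff.mp hzm.1]
      exact (smul_left_cancel z this).symm
    · intro hh
      apply hTR
      have : z • R = z • T := by rw [hh, mem_stabilizer_iff.mp hzm.2]
      exact (smul_left_cancel z this).symm
  have hH7 : (H : Set G).ncard = 7 := by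
    rw [← hHc]
    exact (Nat.card_coe_set_eq (H : Set G)).symm
  have hcard : (({S, T} : Set (Sylow 2 G))ᶜ).ncard ≤ ((fun z : G => z • R) '' (H : Set G)).ncard := by
    rw [hinj.ncard_image, Set.ncard_compl, card_sylow2 h, Set.ncard_pair hST, hH7]
  have heq := Set.eq_of_subset_of_ncard_le hsub hcard (Set.toFinite _)
  have hmem : R' ∈ ({S, T} : Set (Sylow 2 G))ᶜ := by
    simp only [Set.mem_compl_iff, Set.mem_insert_iff, Set.mem_singleton_iff, not_or]
    exact ⟨fun hh => hSR' hh.symm, fun hh => hTR' hh.symm⟩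
  rw [← heq] at hmem
  obtain ⟨z, hz, hze⟩ := hmem
  have hzm := Subgroup.mem_inf.mp hz
  exact ⟨z, mem_stabilizer_iff.mp hzm.1, mem_stabilizer_iff.mp hzm.2, hze⟩

theorem sharp3 (h : Nat.card G = 504) : Sharp3 G (Sylow 2 G) := by
  constructor
  · intro u v w u' v' w' huv huw hvw huv' huw' hvw'
    have h2 := two_pretransitive (sylow2_inf h) (fun P => (card_sylow2_subgroup h P).1)
      (card_sylow2 h)
    rw [is_two_pretransitive_iff] at h2
    obtain ⟨g1, hg1u, hg1v⟩ := h2 huv huv'
    -- g1 u = u', g1 v = v'; now move g1 w to w' fixing u', v'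
    have h1 : u' ≠ g1 • w := by
      intro hh
      rw [← hg1u] at hh
      exact huw (smul_left_cancel g1 hh)
    have h2' : v' ≠ g1 • w := by
      intro hh
      rw [← hg1v] at hh
      exact hvw (smul_left_cancel g1 hh)
    obtain ⟨z, hzu, hzv, hzw⟩ := exists_stab_smul_eq h huv' h1 h2' huw' hvw'
    refine ⟨z * g1, ?_, ?_, ?_⟩
    · rw [mul_smul, hg1u, hzu]
    · rw [mul_smul, hg1v, hzv]
    · rw [mul_smul, hzw]
  · intro g u v w huv huw hvw h1 h2 h3
    exact eq_one_of_three_fixed h huv huw hvw h1 h2 h3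

/-- in a field with 8 elements every unit is a square -/
theorem exists_sq_of_card_eight {K : Type*} [Field K] [Fintype K] (hK : Fintype.card K = 8)
    (r : Kˣ) : ∃ k : Kˣ, k ^ Fintype.card (Fin 2) = r := by
  classical
  refine ⟨r ^ 4, ?_⟩
  rw [Fintype.card_fin, ← pow_mul]
  have h7 : r ^ 7 = 1 := by
    have := pow_card_eq_one (x := r)
    rwa [Fintype.card_units, hK] at this
  calc r ^ (4 * 2) = r ^ 7 * r := by rw [← pow_succ]
    _ = r := by rw [h7, one_mul]

theorem main (h : Nat.card G = 504) {F : Type*} [Field F] [Fintype F]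
    (hF : Fintype.card F = 8) :
    Nonempty (G ≃* Matrix.ProjectiveSpecialLinearGroup (Fin 2) F) := by
  classical
  have : Fintype (Sylow 2 G) := Fintype.ofFinite _
  have hc9 : Fintype.card (Sylow 2 G) = 9 := by
    rw [← Nat.card_eq_fintype_card, card_sylow2 h]
  obtain ⟨S⟩ : Nonempty (Sylow 2 G) := inferInstance
  obtain ⟨fld, ⟨φ⟩⟩ := exists_PGL (sharp3 h) (by rw [hc9]; decide) (by rw [hc9]; norm_num) S
  let _ := fld
  have hK : Fintype.card (Pts S) = 8 := by
    rw [Fintype.card_subtype_compl, Fintype.card_subtype_eq, hc9]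
  have hbij : Function.Bijective
      (Matrix.ProjectiveSpecialLinearGroup.toPGL (n := Fin 2) (R := Pts S)) :=
    ⟨Matrix.ProjectiveSpecialLinearGroup.toPGL_injective,
      Matrix.ProjectiveSpecialLinearGroup.toPGL_surj_of_roots (exists_sq_of_card_eight hK)⟩
  let e1 : Matrix.ProjectiveSpecialLinearGroup (Fin 2) (Pts S) ≃*
      Matrix.ProjGenLinGroup (Fin 2) (Pts S) := MulEquiv.ofBijective _ hbij
  let r : Pts S ≃+* F := FiniteField.ringEquivOfCardEq (hK.trans hF.symm)
  obtain ⟨e2⟩ := Cfsg.Agent.Lib.H29.ExcIso.quot_center_congr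
    (Cfsg.Agent.Lib.H2.slMapEquiv (n := Fin 2) r)
  exact ⟨(φ.trans e1.symm).trans e2⟩

end Cfsg.Agent.Lib.H2.Ord504
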