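import Mathlib

set_option autoImplicit false

/-!
# Extensions by elementary abelian 2-groups on which odd-order elements act freely:
element orders `r * s`
-/

namespace Cfsg.Agent.Lib.H2.PGExt

variable {H G : Type*} [Group H] [Group G]

theorem exists_order_iff [Finite H] (π : H →* G) (ι : G →* H) (hπι : ∀ g, π (ι g) = g)
    (hker : ∀ z ∈ π.ker, z * z = 1)
    (hfpf : ∀ y z : H, z ∈ π.ker → Commute z y → (orderOf (π y)).Prime → orderOf (π y) ≠ 2 → z = 1)
    {r s : ℕ} (hr : r.Prime) (hs : s.Prime) (hrs : r ≠ s) :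
    (∃ y : H, orderOf y = r * s) ↔ (∃ x : G, orderOf x = r * s) := by
  have hιinj : Function.Injective ι := fun a b hab => by
    have := congrArg π hab
    rwa [hπι, hπι] at this
  constructor
  · rintro ⟨y, hy⟩
    have hdvd : orderOf (π y) ∣ r * s := hy ▸ orderOf_map_dvd π y
    -- the kernel element
    have key : ∀ n : ℕ, orderOf (π y) = n → n ∣ r * s → 0 < n →
        orderOf (y ^ n) = r * s / n ∧ y ^ n ∈ π.ker := by
      intro n hn hnd hpos
      refine ⟨?_, ?_⟩
      · rw [orderOf_pow' y hpos.ne', hy, Nat.gcd_eq_right hnd]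
      · rw [MonoidHom.mem_ker, map_pow, ← hn, pow_orderOf_eq_one]
    have hz2 : ∀ n : ℕ, y ^ n ∈ π.ker → orderOf (y ^ n) ∣ 2 := by
      intro n hn
      apply orderOf_dvd_of_pow_eq_one
      rw [pow_two]
      exact hker _ hn
    have hcomm : ∀ n : ℕ, Commute (y ^ n) y := fun n => (Commute.refl y).pow_left n
    have hy1 : y ^ (r * s) = 1 := hy ▸ pow_orderOf_eq_one y
    have hr2 := hr.two_le
    have hs2 := hs.two_le
    rcases (Nat.dvd_mul.1 hdvd) with ⟨a, b, ha, hb, hab⟩
    rcases (Nat.dvd_prime hr).1 ha with ha1 | ha1 <;>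
      rcases (Nat.dvd_prime hs).1 hb with hb1 | hb1 <;> subst a <;> subst b
    · -- order 1
      obtain ⟨h1, h2⟩ := key 1 (by rw [← hab]) (by simp) one_pos
      have h3 := hz2 1 h2
      rw [h1, Nat.div_one] at h3
      have := Nat.le_of_dvd (by norm_num) h3
      nlinarith
    · -- order s
      rw [one_mul] at hab
      obtain ⟨h1, h2⟩ := key s hab.symm (Dvd.intro_left r rfl) hs.pos
      have h3 := hz2 s h2
      rw [h1, Nat.mul_div_cancel _ hs.pos] at h3
      have hr2' : r = 2 := (Nat.prime_dvd_prime_iff_eq hr Nat.prime_two).1 h3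
      have hz := hfpf y (y ^ s) h2 (hcomm s) (by rw [← hab]; exact hs)
        (by rw [← hab]; intro h0; exact hrs (hr2'.trans h0.symm))
      rw [hz, orderOf_one, Nat.mul_div_cancel _ hs.pos] at h1
      omega
    · -- order r
      rw [mul_one] at hab
      obtain ⟨h1, h2⟩ := key r hab.symm (Dvd.intro s rfl) hr.pos
      have h3 := hz2 r h2
      rw [h1, Nat.mul_div_cancel_left _ hr.pos] at h3
      have hs2' : s = 2 := (Nat.prime_dvd_prime_iff_eq hs Nat.prime_two).1 h3
      have hz := hfpf y (y ^ r) h2 (hcomm r) (by rw [← hab]; exact hr)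
        (by rw [← hab]; intro h0; exact hrs (h0.trans hs2'.symm))
      rw [hz, orderOf_one, Nat.mul_div_cancel_left _ hr.pos] at h1
      omega
    · exact ⟨π y, hab.symm⟩
  · rintro ⟨x, hx⟩
    exact ⟨ι x, by rw [orderOf_injective ι hιinj, hx]⟩

end Cfsg.Agent.Lib.H2.PGExt
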