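import Mathlib
import Cfsg.Prelude.Def_Characters
import Cfsg.Agent.Lib.L0.RealPDegD

/-!
# S4711 piece CLIF0 (helper2): an irreducible character is trivial on a normal subgroup or sums
to zero over it.
-/

set_option autoImplicit false

namespace Cfsg.Agent.Lib.H2.PL1

open Cfsg
open scoped ComplexConjugate

/-- CLIF0: an irreducible character is trivial on a normal subgroup `A` or sums to zero over it. -/
theorem le_ker_or_sum_eq_zero {H : Type*} [Group H] [Finite H] (θ : H → ℂ)
    (hθ : IsIrrCharacter H θ) (A : Subgroup H) [A.Normal] :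
    (∀ a ∈ A, θ a = θ 1) ∨ ∑ᶠ a : ↥A, θ (a : H) = 0 := by
  classical
  by_cases h0 : ∑ᶠ a : ↥A, θ (a : H) = 0
  · exact Or.inr h0
  · left
    letI : Fintype H := Fintype.ofFinite H
    letI : Fintype ↥A := Fintype.ofFinite ↥A
    have hcon : classInner (fun n : ↥A => ((⟨θ, hθ⟩ : IrrCharacter H) : H → ℂ) n)
        (fun _ => (1 : ℂ)) ≠ 0 := by
      unfold classInner
      rw [finsum_eq_sum_of_fintype] at h0
      have hc : (Nat.card ↥A : ℂ) ≠ 0 := by
        exact_mod_cast Nat.card_pos.ne'
      simp only [map_one, mul_one]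
      exact mul_ne_zero (inv_ne_zero hc) h0
    exact Cfsg.Agent.Lib.L0.RealPDeg.trivial_on_of_classInner_ne_zero A ⟨θ, hθ⟩ hcon

end Cfsg.Agent.Lib.H2.PL1
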