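import Mathlib
import Cfsg.Prelude.Def_Characters
import Cfsg.Prelude.Def_Local
import Cfsg.Prelude.Def_Transfer
import Cfsg.Agent.Lib.H24.TwoDegrees
import Cfsg.Agent.Lib.H24.CharDefl
import Cfsg.Agent.Lib.H24.CharAbelian
import Cfsg.Agent.Lib.H16.PQTATE
import Cfsg.Agent.Lib.H19.PLength

/-!
# S4711 piece FIN (helper2): if every linear character of a Sylow `p`-subgroup `P` of `X` extends
to `X`, then `X` has `p`-length at most one.
-/

set_option autoImplicit false

namespace Cfsg.Agent.Lib.H2.PL1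

open Cfsg
open scoped commutatorElement

/-- A linear character is trivial on the commutator subgroup. -/
theorem linear_trivial_on_commutator {X : Type*} [Group X] [Finite X] {ψ : X → ℂ}
    (hψ : IsCharacter X ψ) (h1 : ψ 1 = 1) : ∀ x ∈ commutator X, ψ x = 1 := by
  intro x hx
  rw [commutator_def, Subgroup.commutator_def] at hx
  induction hx using Subgroup.closure_induction with
  | mem x hx =>
    obtain ⟨a, -, b, -, rfl⟩ := hx
    rw [commutatorElement_def]
    exact Cfsg.Agent.Lib.H24.linear_commutator hψ h1 a b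
  | one => exact h1
  | mul x y _ _ hx hy => rw [Cfsg.Agent.Lib.L0.linear_char_mul hψ h1, hx, hy, mul_one]
  | inv x _ hx =>
    have h2 : ψ x * ψ x⁻¹ = 1 := by
      rw [← Cfsg.Agent.Lib.L0.linear_char_mul hψ h1, mul_inv_cancel, h1]
    rw [hx, one_mul] at h2
    exact h2

/-- If every linear character of `P` extends to `X` then `X' ∩ P ≤ P'`. -/
theorem commutator_inf_sylow_le {X : Type*} [Group X] [Finite X] (p : ℕ) [Fact p.Prime]
    (P : Sylow p X)
    (h : ∀ lam : ↥(P : Subgroup X) → ℂ, IsCharacter ↥(P : Subgroup X) lam → lam 1 = 1 →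
      ∃ ψ : IrrCharacter X, ∀ u : ↥(P : Subgroup X), (ψ : X → ℂ) u = lam u) :
    commutator X ⊓ (P : Subgroup X) ≤
      (commutator ↥(P : Subgroup X)).map (P : Subgroup X).subtype := by
  intro u hu
  obtain ⟨huK, huP⟩ := hu
  by_contra hnot
  have hcomm : ∀ a b : ↥(P : Subgroup X) ⧸ commutator ↥(P : Subgroup X), a * b = b * a := by
    have hc := (Subgroup.Normal.quotient_commutative_iff_commutator_le
      (N := commutator ↥(P : Subgroup X))).2 le_rfl
    exact isMulCommutative_iff.1 hc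
  have hne : ((⟨u, huP⟩ : ↥(P : Subgroup X)) : ↥(P : Subgroup X) ⧸ commutator ↥(P : Subgroup X))
      ≠ 1 := by
    intro heq
    rw [QuotientGroup.eq_one_iff] at heq
    exact hnot ⟨⟨u, huP⟩, heq, rfl⟩
  obtain ⟨χ, hχ⟩ := Cfsg.Agent.Lib.H24.exists_irr_ne_of_ne hcomm hne
  have hχ1 : (χ : ↥(P : Subgroup X) ⧸ commutator ↥(P : Subgroup X) → ℂ) 1 = 1 :=
    Cfsg.Agent.Lib.H24.irr_apply_one_of_comm hcomm χ
  have hlam : IsCharacter ↥(P : Subgroup X)
      (Cfsg.Agent.Lib.H24.inflIrr (commutator ↥(P : Subgroup X)) χ : ↥(P : Subgroup X) → ℂ) :=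
    Cfsg.Agent.Lib.L0.isCharacter_of_irr
      (Cfsg.Agent.Lib.H24.inflIrr (commutator ↥(P : Subgroup X)) χ).2
  have hlam1 : (Cfsg.Agent.Lib.H24.inflIrr (commutator ↥(P : Subgroup X)) χ :
      ↥(P : Subgroup X) → ℂ) 1 = 1 := by
    rw [Cfsg.Agent.Lib.H24.inflIrr_apply, QuotientGroup.mk_one]
    exact hχ1
  obtain ⟨ψ, hψ⟩ := h _ hlam hlam1
  have hψ1 : (ψ : X → ℂ) 1 = 1 := by
    have := hψ 1
    rw [hlam1] at this
    simpa using this
  have hu1 : (ψ : X → ℂ) u = 1 :=
    linear_trivial_on_commutator (Cfsg.Agent.Lib.L0.isCharacter_of_irr ψ.2) hψ1 u huK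
  have h2 := hψ ⟨u, huP⟩
  rw [Cfsg.Agent.Lib.H24.inflIrr_apply] at h2
  apply hχ
  rw [← h2, hχ1]
  exact hu1

/-- FIN: if every linear character of the Sylow `p`-subgroup `P` extends to `X`, then `X` has
`p`-length at most one. -/
theorem plengthLE_one_of_linear_extend {X : Type*} [Group X] [Finite X] (p : ℕ) [Fact p.Prime]
    (P : Sylow p X)
    (h : ∀ lam : ↥(P : Subgroup X) → ℂ, IsCharacter ↥(P : Subgroup X) lam → lam 1 = 1 →
      ∃ ψ : IrrCharacter X, ∀ u : ↥(P : Subgroup X), (ψ : X → ℂ) u = lam u) :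
    PLengthLE p 1 X := by
  classical
  have hp := (Fact.out : p.Prime)
  have hKP := commutator_inf_sylow_le p P h
  obtain ⟨k, hk⟩ := Cfsg.Agent.Lib.H16.PQ.relIndex_pPrimeCore_eq_pow p P (commutator X) hKP
  have hYn : (pPrimeCore p X).Normal := Cfsg.Agent.Lib.H22.pPrimeCore_normal p
  have hYc : (Nat.card (pPrimeCore p X)).Coprime p := Cfsg.Agent.Lib.H22.card_pPrimeCore_coprime p
  have hKS : commutator X ≤ commutator X ⊔ pPrimeCore p X ⊔ (P : Subgroup X) :=
    le_sup_left.trans le_sup_left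
  have hYS : pPrimeCore p X ≤ commutator X ⊔ pPrimeCore p X ⊔ (P : Subgroup X) :=
    le_sup_right.trans le_sup_left
  have hPS : (P : Subgroup X) ≤ commutator X ⊔ pPrimeCore p X ⊔ (P : Subgroup X) := le_sup_right
  have hSn : (commutator X ⊔ pPrimeCore p X ⊔ (P : Subgroup X)).Normal := by
    constructor
    intro n hn g
    have e : g * n * g⁻¹ = ⁅g, n⁆ * n := by
      rw [commutatorElement_def]; group
    rw [e]
    refine Subgroup.mul_mem _ (hKS ?_) hn
    rw [commutator_def]
    exact Subgroup.commutator_mem_commutator (Subgroup.mem_top g) (Subgroup.mem_top n)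
  -- the index of `Y` in `S` is a power of `p`
  have hm : ∃ m : ℕ, (pPrimeCore p X).relIndex
      (commutator X ⊔ pPrimeCore p X ⊔ (P : Subgroup X)) = p ^ m := by
    rw [← Cfsg.Agent.Lib.H19.card_map_mk', Subgroup.map_sup, Subgroup.map_sup,
      QuotientGroup.map_mk'_self, sup_bot_eq]
    have hK1 : IsPGroup p ((commutator X).map (QuotientGroup.mk' (pPrimeCore p X))) := by
      apply IsPGroup.of_card (n := k)
      rw [Cfsg.Agent.Lib.H19.card_map_mk', hk]
    have hK2 : ((commutator X).map (QuotientGroup.mk' (pPrimeCore p X))).Normal :=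
      Subgroup.Normal.map inferInstance _ (QuotientGroup.mk'_surjective _)
    have hP1 : IsPGroup p ((P : Subgroup X).map (QuotientGroup.mk' (pPrimeCore p X))) :=
      P.2.map _
    have hsup := IsPGroup.to_sup_of_normal_left hK1 hP1
    exact IsPGroup.iff_card.1 hsup
  -- the index of `S` is prime to `p`
  have hcop : ((commutator X ⊔ pPrimeCore p X ⊔ (P : Subgroup X)).index).Coprime p := by
    have hd : (commutator X ⊔ pPrimeCore p X ⊔ (P : Subgroup X)).index ∣
        (P : Subgroup X).index := Subgroup.index_dvd_of_le hPS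
    have hnd : ¬ p ∣ (P : Subgroup X).index := P.not_dvd_index
    have hnd' : ¬ p ∣ (commutator X ⊔ pPrimeCore p X ⊔ (P : Subgroup X)).index :=
      fun hh => hnd (hh.trans hd)
    exact ((Nat.Prime.coprime_iff_not_dvd hp).2 hnd').symm
  rw [Cfsg.Agent.Lib.H19.plengthLE_iff]
  have r1 : Cfsg.Agent.Lib.H19.Reach p 1 (pPrimeCore p X) :=
    Cfsg.Agent.Lib.H19.Reach.even Cfsg.Agent.Lib.H19.Reach.zero (by decide) bot_le hYn
      (by rw [Subgroup.relIndex_bot_left]; exact hYc)
  have r2 : Cfsg.Agent.Lib.H19.Reach p 2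
      (commutator X ⊔ pPrimeCore p X ⊔ (P : Subgroup X)) :=
    Cfsg.Agent.Lib.H19.Reach.odd r1 (by decide) hYS hSn hm
  exact Cfsg.Agent.Lib.H19.Reach.even r2 (by decide) le_top inferInstance
    (by rw [Subgroup.relIndex_top_right]; exact hcop)

end Cfsg.Agent.Lib.H2.PL1
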