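import Mathlib
import Cfsg.Agent.Lib.H26.PPearlDefs

/-!
# S5238 piece CLS: the class of `e` is `e γ₂` (helper2; general-`p` version of `Lib/H2/PearlCLS.lean`)

`|G| = p^n`, `|C_G(e)| = p^2`, `|γ₂| = p^(n-2)`: the map `g C_G(e) ↦ e⁻¹ g e g⁻¹` is an injection of `G ⧸ C_G(e)` into `γ₂`,
hence a bijection, so every `e d` (`d ∈ γ₂`) is a conjugate of `e`.
-/

set_option autoImplicit false

namespace Cfsg.Agent.Lib.H2.PPearl

open Cfsg.Agent.Lib.H22.Pearl Cfsg.Agent.Lib.H26.PPearl
open scoped commutatorElement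

section

variable {p : ℕ} [Fact p.Prime] {G : Type*} [Group G] [Finite G] {n : ℕ} {e : G}

/-- **CLS**.  Every element of `e γ₂` is a conjugate of `e`. -/
theorem PP.exists_conj_eq (h : PP p G n e) (hn : 3 ≤ n) (hL1 : Nat.card ↥(L G 1) = p ^ (n - 2)) :
    ∀ d ∈ L G 1, ∃ g : G, g * e * g⁻¹ = e * d := by
  classical
  have hp0 : 0 < p := (Fact.out : p.Prime).pos
  have hmemC : ∀ g : G, g ∈ Subgroup.centralizer ({e} : Set G) ↔ g * e = e * g := by
    intro g
    rw [Subgroup.mem_centralizer_iff]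
    constructor
    · intro hg; exact (hg e rfl).symm
    · intro hg x hx
      rw [Set.mem_singleton_iff] at hx
      rw [hx]; exact hg.symm
  have hmemL : ∀ g : G, e⁻¹ * g * e * g⁻¹ ∈ L G 1 := by
    intro g
    have h1 : ⁅e⁻¹, g⁆ ∈ ⁅(⊤ : Subgroup G), (⊤ : Subgroup G)⁆ :=
      Subgroup.commutator_mem_commutator (Subgroup.mem_top _) (Subgroup.mem_top _)
    rw [commutatorElement_def, inv_inv] at h1
    exact h1
  let φ : G ⧸ Subgroup.centralizer ({e} : Set G) → ↥(L G 1) := fun q =>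
    Quotient.liftOn' q (fun g => ⟨e⁻¹ * g * e * g⁻¹, hmemL g⟩) (by
      intro a b hab
      rw [QuotientGroup.leftRel_apply, hmemC] at hab
      apply Subtype.ext
      show e⁻¹ * a * e * a⁻¹ = e⁻¹ * b * e * b⁻¹
      have h1 : b * e = a * e * a⁻¹ * b := by
        calc b * e = a * (a⁻¹ * b * e) := by group
          _ = a * (e * (a⁻¹ * b)) := by rw [hab]
          _ = a * e * a⁻¹ * b := by group
      have h2 : b * e * b⁻¹ = a * e * a⁻¹ := by rw [h1]; group
      calc e⁻¹ * a * e * a⁻¹ = e⁻¹ * (a * e * a⁻¹) := by group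
        _ = e⁻¹ * (b * e * b⁻¹) := by rw [h2]
        _ = e⁻¹ * b * e * b⁻¹ := by group)
  have hinj : Function.Injective φ := by
    intro q1 q2
    refine Quotient.inductionOn₂' q1 q2 ?_
    intro a b hab
    have h1 : e⁻¹ * a * e * a⁻¹ = e⁻¹ * b * e * b⁻¹ := congrArg Subtype.val hab
    apply Quotient.sound'
    rw [QuotientGroup.leftRel_apply, hmemC]
    have h2 : a * e * a⁻¹ = b * e * b⁻¹ := by
      have h3 := congrArg (fun x => e * x) h1
      simpa [mul_assoc] using h3
    calc a⁻¹ * b * e = a⁻¹ * (b * e * b⁻¹) * b := by group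
      _ = a⁻¹ * (a * e * a⁻¹) * b := by rw [h2]
      _ = e * (a⁻¹ * b) := by group
  have hcard : Nat.card (G ⧸ Subgroup.centralizer ({e} : Set G)) = p ^ (n - 2) := by
    have h1 := Subgroup.card_mul_index (Subgroup.centralizer ({e} : Set G))
    rw [h.card, h.hC] at h1
    have h2 : p ^ n = p ^ 2 * p ^ (n - 2) := by
      rw [← pow_add]
      congr 1
      omega
    rw [h2] at h1
    exact Nat.eq_of_mul_eq_mul_left (pow_pos hp0 2) h1
  have hbij : Function.Bijective φ := hinj.bijective_of_nat_card_le (by rw [hcard, hL1])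
  intro d hd
  obtain ⟨q, hq⟩ := hbij.2 ⟨d, hd⟩
  induction q using Quotient.inductionOn' with
  | h g =>
    have h1 : e⁻¹ * g * e * g⁻¹ = d := congrArg Subtype.val hq
    exact ⟨g, by rw [← h1]; group⟩

end

end Cfsg.Agent.Lib.H2.PPearl
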