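import Mathlib
import Cfsg.Agent.Lib.H22.PearlDefs

/-!
# S5239 piece FILA: the abstract filtration lemma `fil_two_gen` (helper2)

A subgroup `H ≤ M 0` of a filtered group (`Fil M m`, factors of order at most `3`, cubing raises the
level by exactly two) is generated by two elements: one generator for the even levels, one for the odd levels.
-/

set_option autoImplicit false

namespace Cfsg.Agent.Lib.H2.Pearl

open Cfsg.Agent.Lib.H22.Pearl

section

variable {G : Type*} [Group G] {M : ℕ → Subgroup G} {m : ℕ}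

theorem fila_anti (hM : Fil M m) : ∀ k i, M (i + k) ≤ M i := by
  intro k
  induction k with
  | zero => intro i; exact le_refl _
  | succ k ih => intro i; exact le_trans (hM.anti (i + k)) (ih i)

theorem fila_bot_of_le (hM : Fil M m) {i : ℕ} (hi : m ≤ i) : M i = ⊥ := by
  obtain ⟨k, rfl⟩ := Nat.exists_eq_add_of_le hi
  have h := fila_anti hM k m
  rw [hM.bot] at h
  exact le_bot_iff.mp h

theorem fila_pow_level
    (hpow : ∀ i, i + 2 < m → ∀ d ∈ M i, d ∉ M (i + 1) → d ^ 3 ∈ M (i + 2) ∧ d ^ 3 ∉ M (i + 3))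
    {i : ℕ} {d : G} (hd : d ∈ M i) (hd' : d ∉ M (i + 1)) :
    ∀ k, i + 2 * k < m → d ^ (3 ^ k) ∈ M (i + 2 * k) ∧ d ^ (3 ^ k) ∉ M (i + 2 * k + 1) := by
  intro k
  induction k with
  | zero => intro _; simpa using ⟨hd, hd'⟩
  | succ k ih =>
    intro hk
    have h1 := ih (by omega)
    have h2 := hpow (i + 2 * k) (by omega) _ h1.1 h1.2
    have e : d ^ (3 ^ (k + 1)) = (d ^ (3 ^ k)) ^ 3 := by rw [pow_succ, pow_mul]
    rw [e]
    have e1 : i + 2 * (k + 1) = i + 2 * k + 2 := by ring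
    rw [e1]
    exact h2

/-- If a subgroup `K ≤ H` realizes every level realized in `H`, then `H ∩ M i ≤ K` for all `i`. -/
theorem fila_le_of_levels (hM : Fil M m) (H K : Subgroup G) (hKH : K ≤ H)
    (hlev : ∀ i, i < m → (∃ g ∈ H, g ∈ M i ∧ g ∉ M (i + 1)) → ∃ w ∈ K, w ∈ M i ∧ w ∉ M (i + 1)) :
    ∀ k i, m ≤ i + k → ∀ g ∈ H, g ∈ M i → g ∈ K := by
  intro k
  induction k with
  | zero =>
    intro i hi g _ hgi
    rw [fila_bot_of_le hM (by omega), Subgroup.mem_bot] at hgi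
    rw [hgi]; exact K.one_mem
  | succ k ih =>
    intro i hi g hgH hgi
    by_cases hg1 : g ∈ M (i + 1)
    · exact ih (i + 1) (by omega) g hgH hg1
    · have him : i < m := by
        by_contra hcon
        have hcon := not_lt.mp hcon
        rw [fila_bot_of_le hM hcon, Subgroup.mem_bot] at hgi
        exact hg1 (hgi ▸ (M (i + 1)).one_mem)
      obtain ⟨w, hwK, hwi, hwi1⟩ := hlev i him ⟨g, hgH, hgi, hg1⟩
      obtain ⟨j, hj⟩ := hM.idx i him g hgi w hwi hwi1
      have h1 : g * w ^ j ∈ K :=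
        ih (i + 1) (by omega) _ (H.mul_mem hgH (H.pow_mem (hKH hwK) j)) hj
      have h2 : g = g * w ^ j * (w ^ j)⁻¹ := by group
      rw [h2]
      exact K.mul_mem h1 (K.inv_mem (K.pow_mem hwK j))

/-- One generator realizes all the levels of a given parity. -/
theorem fila_exists_parity
    (hpow : ∀ i, i + 2 < m → ∀ d ∈ M i, d ∉ M (i + 1) → d ^ 3 ∈ M (i + 2) ∧ d ^ 3 ∉ M (i + 3))
    (H : Subgroup G) (r : ℕ) :
    ∃ z ∈ H, ∀ i, i < m → i % 2 = r → (∃ g ∈ H, g ∈ M i ∧ g ∉ M (i + 1)) →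
      ∃ w ∈ Subgroup.zpowers z, w ∈ M i ∧ w ∉ M (i + 1) := by
  classical
  by_cases hB : ∃ i, i % 2 = r ∧ ∃ g ∈ H, g ∈ M i ∧ g ∉ M (i + 1)
  · obtain ⟨hbr, z, hzH, hzb, hzb1⟩ := Nat.find_spec hB
    refine ⟨z, hzH, ?_⟩
    intro i him hir hex
    have hle : Nat.find hB ≤ i := Nat.find_min' hB ⟨hir, hex⟩
    generalize Nat.find hB = b at hbr hzb hzb1 hle
    obtain ⟨k, hk⟩ : ∃ k, i = b + 2 * k := ⟨(i - b) / 2, by omega⟩
    have h := fila_pow_level hpow hzb hzb1 k (by omega)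
    refine ⟨z ^ (3 ^ k), Subgroup.pow_mem _ (Subgroup.mem_zpowers z) _, ?_⟩
    rw [hk]; exact h
  · refine ⟨1, H.one_mem, ?_⟩
    intro i _ hir hex
    exact absurd ⟨i, hir, hex⟩ hB

/-- **FILA**. -/
theorem fil_two_gen (hM : Fil M m)
    (hpow : ∀ i, i + 2 < m → ∀ d ∈ M i, d ∉ M (i + 1) → d ^ 3 ∈ M (i + 2) ∧ d ^ 3 ∉ M (i + 3))
    (H : Subgroup G) (hH : H ≤ M 0) : ∃ x y : G, Subgroup.closure ({x, y} : Set G) = H := by
  obtain ⟨x, hxH, hx⟩ := fila_exists_parity hpow H 0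
  obtain ⟨y, hyH, hy⟩ := fila_exists_parity hpow H 1
  have hKH : Subgroup.closure ({x, y} : Set G) ≤ H := by
    rw [Subgroup.closure_le]
    intro g hg
    rcases hg with rfl | rfl
    · exact hxH
    · exact hyH
  refine ⟨x, y, le_antisymm hKH ?_⟩
  intro g hg
  have hxK : Subgroup.zpowers x ≤ Subgroup.closure ({x, y} : Set G) := by
    rw [Subgroup.zpowers_le]; exact Subgroup.subset_closure (by simp)
  have hyK : Subgroup.zpowers y ≤ Subgroup.closure ({x, y} : Set G) := by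
    rw [Subgroup.zpowers_le]; exact Subgroup.subset_closure (by simp)
  refine fila_le_of_levels hM H _ hKH ?_ m 0 (by omega) g hg (hH hg)
  intro i him hex
  rcases Nat.mod_two_eq_zero_or_one i with h0 | h1
  · obtain ⟨w, hw, h⟩ := hx i him h0 hex
    exact ⟨w, hxK hw, h⟩
  · obtain ⟨w, hw, h⟩ := hy i him h1 hex
    exact ⟨w, hyK hw, h⟩

end

end Cfsg.Agent.Lib.H2.Pearl
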