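import Mathlib
import Cfsg.Agent.Lib.H26.PPearlDefs
import Cfsg.Agent.Lib.H2.PearlFILA

/-!
# S5238 piece FILA: the abstract filtration lemma `fil_gen` for general `p` (helper2)

A subgroup `H ≤ M 0` of a filtered group (`Fil M m`, `p`-th powers raise the level by exactly `p - 1`) is generated by
`p - 1` elements: one generator for each residue class of the level modulo `p - 1`.
-/

set_option autoImplicit false

namespace Cfsg.Agent.Lib.H2.PPearl

open Cfsg.Agent.Lib.H22.Pearl Cfsg.Agent.Lib.H26.PPearl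

section

variable {G : Type*} [Group G] {M : ℕ → Subgroup G} {m : ℕ}

theorem filg_pow_level {p : ℕ} (hp : 2 ≤ p)
    (hpow : ∀ i, i + (p - 1) < m → ∀ d ∈ M i, d ∉ M (i + 1) → d ^ p ∈ M (i + (p - 1)) ∧ d ^ p ∉ M (i + p))
    {i : ℕ} {d : G} (hd : d ∈ M i) (hd' : d ∉ M (i + 1)) :
    ∀ k, i + (p - 1) * k < m →
      d ^ (p ^ k) ∈ M (i + (p - 1) * k) ∧ d ^ (p ^ k) ∉ M (i + (p - 1) * k + 1) := by
  intro k
  induction k with
  | zero => intro _; simpa using ⟨hd, hd'⟩
  | succ k ih =>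
    intro hk
    have e0 : (p - 1) * (k + 1) = (p - 1) * k + (p - 1) := by ring
    have h1 := ih (by omega)
    have h2 := hpow (i + (p - 1) * k) (by omega) _ h1.1 h1.2
    have e : d ^ (p ^ (k + 1)) = (d ^ (p ^ k)) ^ p := by rw [pow_succ, pow_mul]
    rw [e]
    have e1 : i + (p - 1) * (k + 1) = i + (p - 1) * k + (p - 1) := by omega
    have e2 : i + (p - 1) * (k + 1) + 1 = i + (p - 1) * k + p := by omega
    rw [e2, e1]
    exact h2

/-- One generator realizes all the levels of a given residue class modulo `p - 1`. -/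
theorem filg_exists_res {p : ℕ} (hp : 2 ≤ p)
    (hpow : ∀ i, i + (p - 1) < m → ∀ d ∈ M i, d ∉ M (i + 1) → d ^ p ∈ M (i + (p - 1)) ∧ d ^ p ∉ M (i + p))
    (H : Subgroup G) (r : ℕ) :
    ∃ z ∈ H, ∀ i, i < m → i % (p - 1) = r → (∃ g ∈ H, g ∈ M i ∧ g ∉ M (i + 1)) →
      ∃ w ∈ Subgroup.zpowers z, w ∈ M i ∧ w ∉ M (i + 1) := by
  classical
  by_cases hB : ∃ i, i % (p - 1) = r ∧ ∃ g ∈ H, g ∈ M i ∧ g ∉ M (i + 1)
  · obtain ⟨hbr, z, hzH, hzb, hzb1⟩ := Nat.find_spec hB
    refine ⟨z, hzH, ?_⟩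
    intro i him hir hex
    have hle : Nat.find hB ≤ i := Nat.find_min' hB ⟨hir, hex⟩
    generalize Nat.find hB = b at hbr hzb hzb1 hle
    have hmod : b ≡ i [MOD (p - 1)] := by
      show b % (p - 1) = i % (p - 1)
      rw [hbr, hir]
    obtain ⟨k, hk⟩ := (Nat.modEq_iff_dvd' hle).mp hmod
    have hik : i = b + (p - 1) * k := by omega
    have h := filg_pow_level hp hpow hzb hzb1 k (by omega)
    refine ⟨z ^ (p ^ k), Subgroup.pow_mem _ (Subgroup.mem_zpowers z) _, ?_⟩
    rw [hik]; exact h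
  · refine ⟨1, H.one_mem, ?_⟩
    intro i _ hir hex
    exact absurd ⟨i, hir, hex⟩ hB

/-- **FILA** (general `p`). -/
theorem fil_gen (hM : Fil M m) {p : ℕ} (hp : 2 ≤ p)
    (hpow : ∀ i, i + (p - 1) < m → ∀ d ∈ M i, d ∉ M (i + 1) → d ^ p ∈ M (i + (p - 1)) ∧ d ^ p ∉ M (i + p))
    (H : Subgroup G) (hH : H ≤ M 0) :
    ∃ T : Finset G, T.card ≤ p - 1 ∧ Subgroup.closure (T : Set G) = H := by
  classical
  choose x hxH hx using fun r => filg_exists_res hp hpow H r
  refine ⟨(Finset.range (p - 1)).image x, ?_, ?_⟩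
  · exact le_trans Finset.card_image_le (by rw [Finset.card_range])
  have hKH : Subgroup.closure (((Finset.range (p - 1)).image x : Finset G) : Set G) ≤ H := by
    rw [Subgroup.closure_le]
    intro g hg
    rw [Finset.mem_coe, Finset.mem_image] at hg
    obtain ⟨r, _, rfl⟩ := hg
    exact hxH r
  refine le_antisymm hKH ?_
  intro g hg
  refine Cfsg.Agent.Lib.H2.Pearl.fila_le_of_levels hM H _ hKH ?_ m 0 (by omega) g hg (hH hg)
  intro i him hex
  have hr : i % (p - 1) < p - 1 := Nat.mod_lt _ (by omega)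
  obtain ⟨w, hw, h⟩ := hx (i % (p - 1)) i him rfl hex
  refine ⟨w, ?_, h⟩
  have hle : Subgroup.zpowers (x (i % (p - 1))) ≤
      Subgroup.closure (((Finset.range (p - 1)).image x : Finset G) : Set G) := by
    rw [Subgroup.zpowers_le]
    apply Subgroup.subset_closure
    rw [Finset.mem_coe, Finset.mem_image]
    exact ⟨i % (p - 1), Finset.mem_range.mpr hr, rfl⟩
  exact hle hw

end

end Cfsg.Agent.Lib.H2.PPearl
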