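import Mathlib
import Cfsg.Agent.Lib.H1.CoprimeSylow

set_option autoImplicit false
open Pointwise
open scoped commutatorElement

namespace Cfsg.Agent.Lib.H2.PQ2

open Cfsg.Agent.Lib.H1

variable {G : Type*} [Group G]

/-- Conjugation by `x` preserves `[A, B]` when it preserves `A` and `B`. -/
theorem conj_mem_commutator {A B : Subgroup G} {x : G}
    (hA : ∀ a ∈ A, x * a * x⁻¹ ∈ A) (hB : ∀ b ∈ B, x * b * x⁻¹ ∈ B) :
    ∀ g ∈ ⁅A, B⁆, x * g * x⁻¹ ∈ ⁅A, B⁆ := by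
  intro g hg
  have hmap : (⁅A, B⁆ : Subgroup G).map (MulAut.conj x).toMonoidHom ≤ ⁅A, B⁆ := by
    rw [Subgroup.map_commutator]
    apply Subgroup.commutator_mono
    · rintro _ ⟨a, ha, rfl⟩
      simpa using hA a ha
    · rintro _ ⟨b, hb, rfl⟩
      simpa using hB b hb
  have : (MulAut.conj x).toMonoidHom g ∈ ⁅A, B⁆ := hmap ⟨g, hg, rfl⟩
  simpa using this

/-- If `H` normalizes `A` and `B` then it normalizes `[A, B]`. -/
theorem le_normalizer_commutator {H A B : Subgroup G}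
    (hA : H ≤ Subgroup.normalizer (A : Set G)) (hB : H ≤ Subgroup.normalizer (B : Set G)) :
    H ≤ Subgroup.normalizer ((⁅A, B⁆ : Subgroup G) : Set G) := by
  intro x hx
  rw [Subgroup.mem_normalizer_iff]
  intro g
  have hxA : ∀ y ∈ H, ∀ a ∈ A, y * a * y⁻¹ ∈ A := fun y hy a ha =>
    (Subgroup.mem_normalizer_iff.mp (hA hy) a).mp ha
  have hxB : ∀ y ∈ H, ∀ b ∈ B, y * b * y⁻¹ ∈ B := fun y hy b hb =>
    (Subgroup.mem_normalizer_iff.mp (hB hy) b).mp hb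
  constructor
  · exact conj_mem_commutator (hxA x hx) (hxB x hx) g
  · intro hg
    have := conj_mem_commutator (x := x⁻¹) (hxA x⁻¹ (H.inv_mem hx)) (hxB x⁻¹ (H.inv_mem hx)) _ hg
    have e : x⁻¹ * (x * g * x⁻¹) * x⁻¹⁻¹ = g := by group
    rwa [e] at this

/-- A `p`-group `P₀` acting on a nontrivial `p`-group `V` has `[P₀, V] < V`. -/
theorem commutator_lt_of_isPGroup [Finite G] (p : ℕ) [Fact p.Prime] (V P₀ : Subgroup G)
    (hV : IsPGroup p V) (hP₀ : IsPGroup p P₀) (hPV : P₀ ≤ Subgroup.normalizer (V : Set G))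
    (hne : V ≠ ⊥) : ⁅P₀, V⁆ < V := by
  have hle : ⁅P₀, V⁆ ≤ V := by
    rw [Subgroup.commutator_comm]
    exact Subgroup.le_normalizer_iff_commutator_le_left.mp hPV
  refine lt_of_le_of_ne hle ?_
  intro heq
  apply hne
  have hT : IsPGroup p (V ⊔ P₀ : Subgroup G) := IsPGroup.to_sup_of_normal_left' hV hP₀ hPV
  have hnil : Group.IsNilpotent (V ⊔ P₀ : Subgroup G) := hT.isNilpotent
  obtain ⟨n, hn⟩ := (Subgroup.isNilpotent_iff_lowerCentralSeries _).mp hnil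
  have key : ∀ k, V ≤ (V ⊔ P₀).lowerCentralSeries k := by
    intro k
    induction k with
    | zero => exact le_sup_left
    | succ k ih =>
      rw [Subgroup.lowerCentralSeries_succ]
      calc V = ⁅P₀, V⁆ := heq.symm
        _ = ⁅V, P₀⁆ := Subgroup.commutator_comm _ _
        _ ≤ _ := Subgroup.commutator_mono ih le_sup_right
  have := key n
  rw [hn] at this
  exact le_bot_iff.mp this

/-- The key step: `[Q₀, V] ≤ [P₀, V]` implies `[Q₀, [P₀, V]] ≤ [P₀, [P₀, V]]` for abelian `V`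
and commuting `P₀`, `Q₀`. -/
theorem commutator_step (V P₀ Q₀ : Subgroup G)
    (hVab : ∀ a ∈ V, ∀ b ∈ V, a * b = b * a)
    (hPV : P₀ ≤ Subgroup.normalizer (V : Set G)) (hQV : Q₀ ≤ Subgroup.normalizer (V : Set G))
    (hcomm : ∀ x ∈ Q₀, ∀ s ∈ P₀, x * s = s * x)
    (h : ⁅Q₀, V⁆ ≤ ⁅P₀, V⁆) : ⁅Q₀, ⁅P₀, V⁆⁆ ≤ ⁅P₀, ⁅P₀, V⁆⁆ := by
  rw [Subgroup.commutator_le]
  intro x hx v hv
  have hxV : ∀ a ∈ V, x * a * x⁻¹ ∈ V := fun a ha =>
    (Subgroup.mem_normalizer_iff.mp (hQV hx) a).mp ha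
  have hsV : ∀ s ∈ P₀, ∀ a ∈ V, s * a * s⁻¹ ∈ V := fun s hs a ha =>
    (Subgroup.mem_normalizer_iff.mp (hPV hs) a).mp ha
  have hgen : v ∈ V ∧ ⁅x, v⁆ ∈ ⁅P₀, ⁅P₀, V⁆⁆ := by
    rw [Subgroup.commutator_def] at hv
    refine Subgroup.closure_induction
      (p := fun v _ => v ∈ V ∧ ⁅x, v⁆ ∈ ⁅P₀, ⁅P₀, V⁆⁆) ?_ ?_ ?_ ?_ hv
    · rintro c ⟨s, hs, n, hn, rfl⟩
      have ha : x * n * x⁻¹ ∈ V := hxV n hn
      have hA : s * (x * n * x⁻¹) * s⁻¹ ∈ V := hsV s hs _ ha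
      have hB : s * n⁻¹ * s⁻¹ ∈ V := hsV s hs _ (V.inv_mem hn)
      have hu : (x * n * x⁻¹)⁻¹ ∈ V := V.inv_mem ha
      refine ⟨?_, ?_⟩
      · rw [commutatorElement_def]
        exact V.mul_mem (hsV s hs n hn) (V.inv_mem hn)
      · have e1 : x * s = s * x := hcomm x hx s hs
        have e2 : x * s⁻¹ = s⁻¹ * x := by
          have : s⁻¹ * (x * s) * s⁻¹ = s⁻¹ * (s * x) * s⁻¹ := by rw [e1]
          calc x * s⁻¹ = s⁻¹ * (s * x) * s⁻¹ := by group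
            _ = s⁻¹ * (x * s) * s⁻¹ := by rw [e1]
            _ = s⁻¹ * x := by group
        have key : ⁅x, ⁅s, n⁆⁆ = ⁅s, ⁅x, n⁆⁆ := by
          rw [commutatorElement_def, commutatorElement_def, commutatorElement_def,
            commutatorElement_def]
          have c1 : x * (s * n * s⁻¹ * n⁻¹) * x⁻¹ =
              (s * (x * n * x⁻¹) * s⁻¹) * (x * n * x⁻¹)⁻¹ := by
            calc x * (s * n * s⁻¹ * n⁻¹) * x⁻¹
                = (x * s) * n * s⁻¹ * n⁻¹ * x⁻¹ := by group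
              _ = (s * x) * n * s⁻¹ * n⁻¹ * x⁻¹ := by rw [e1]
              _ = s * (x * n * x⁻¹) * (x * s⁻¹) * n⁻¹ * x⁻¹ := by group
              _ = s * (x * n * x⁻¹) * (s⁻¹ * x) * n⁻¹ * x⁻¹ := by rw [e2]
              _ = (s * (x * n * x⁻¹) * s⁻¹) * (x * n * x⁻¹)⁻¹ := by group
          have c2 : (s * n * s⁻¹ * n⁻¹)⁻¹ = n * (s * n⁻¹ * s⁻¹) := by group
          have c3 : s * (x * n * x⁻¹ * n⁻¹) * s⁻¹ * (x * n * x⁻¹ * n⁻¹)⁻¹ =
              (s * (x * n * x⁻¹) * s⁻¹) * ((s * n⁻¹ * s⁻¹) * (n * (x * n * x⁻¹)⁻¹)) := by group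
          have c4 : (x * n * x⁻¹)⁻¹ * (n * (s * n⁻¹ * s⁻¹)) =
              (s * n⁻¹ * s⁻¹) * (n * (x * n * x⁻¹)⁻¹) := by
            rw [hVab _ hu _ (V.mul_mem hn hB), hVab _ hn _ hB, mul_assoc]
          rw [c1, c2, c3, mul_assoc, c4]
        rw [key]
        exact Subgroup.commutator_mem_commutator hs
          (h (Subgroup.commutator_mem_commutator hx hn))
    · refine ⟨V.one_mem, ?_⟩
      rw [commutatorElement_def]
      have : x * 1 * x⁻¹ * 1⁻¹ = 1 := by group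
      rw [this]
      exact Subgroup.one_mem _
    · rintro a b _ _ ⟨haV, ha⟩ ⟨hbV, hb⟩
      refine ⟨V.mul_mem haV hbV, ?_⟩
      have hcb : ⁅x, b⁆ ∈ V := by
        rw [commutatorElement_def]
        exact V.mul_mem (hxV b hbV) (V.inv_mem hbV)
      have e : ⁅x, a * b⁆ = ⁅x, a⁆ * ⁅x, b⁆ := by
        calc ⁅x, a * b⁆ = (x * a * x⁻¹) * (⁅x, b⁆ * a⁻¹) := by
              rw [commutatorElement_def, commutatorElement_def]; group
          _ = (x * a * x⁻¹) * (a⁻¹ * ⁅x, b⁆) := by rw [hVab _ hcb _ (V.inv_mem haV)]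
          _ = ⁅x, a⁆ * ⁅x, b⁆ := by
              rw [commutatorElement_def, commutatorElement_def]; group
      rw [e]
      exact Subgroup.mul_mem _ ha hb
    · rintro a _ ⟨haV, ha⟩
      refine ⟨V.inv_mem haV, ?_⟩
      have e : ⁅x, a⁻¹⁆ = (⁅x, a⁆)⁻¹ := by
        calc ⁅x, a⁻¹⁆ = (x * a⁻¹ * x⁻¹) * a := by
              rw [commutatorElement_def]; group
          _ = a * (x * a⁻¹ * x⁻¹) := hVab _ (hxV _ (V.inv_mem haV)) _ haV
          _ = (⁅x, a⁆)⁻¹ := by rw [commutatorElement_def]; group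
      rw [e]
      exact Subgroup.inv_mem _ ha
  exact hgen.2

/-- General form: `V` an abelian `p`-subgroup normalized by the commuting `p`-group `P₀` and
`q`-group `Q₀`; if `[Q₀, V] ≤ [P₀, V]` then `[Q₀, V] = 1`. -/
theorem commutator_eq_bot_of_le [Finite G] (p q : ℕ) [Fact p.Prime] [Fact q.Prime] (hpq : p ≠ q)
    (P₀ Q₀ : Subgroup G) (hP₀ : IsPGroup p P₀) (hQ₀ : IsPGroup q Q₀)
    (hcomm : ∀ x ∈ Q₀, ∀ s ∈ P₀, x * s = s * x) (V : Subgroup G) :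
    IsPGroup p V → (∀ a ∈ V, ∀ b ∈ V, a * b = b * a) →
      P₀ ≤ Subgroup.normalizer (V : Set G) → Q₀ ≤ Subgroup.normalizer (V : Set G) →
      ⁅Q₀, V⁆ ≤ ⁅P₀, V⁆ → ⁅Q₀, V⁆ = ⊥ := by
  refine WellFoundedLT.induction (motive := fun V : Subgroup G => IsPGroup p V →
      (∀ a ∈ V, ∀ b ∈ V, a * b = b * a) →
      P₀ ≤ Subgroup.normalizer (V : Set G) → Q₀ ≤ Subgroup.normalizer (V : Set G) →
      ⁅Q₀, V⁆ ≤ ⁅P₀, V⁆ → ⁅Q₀, V⁆ = ⊥) V ?_
  intro V ih hVp hVab hPV hQV h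
  by_cases hV : V = ⊥
  · subst hV; exact Subgroup.commutator_bot_right _
  have hlt := commutator_lt_of_isPGroup p V P₀ hVp hP₀ hPV hV
  have hQP : Q₀ ≤ Subgroup.normalizer (P₀ : Set G) := by
    intro x hx
    rw [Subgroup.mem_normalizer_iff]
    intro s
    constructor
    · intro hs
      have e : x * s * x⁻¹ = s := by rw [hcomm x hx s hs]; group
      rwa [e]
    · intro hs
      have h1 := hcomm x⁻¹ (Q₀.inv_mem hx) _ hs
      have e : s = x⁻¹ * (x * s * x⁻¹) * x := by group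
      have e2 : x⁻¹ * (x * s * x⁻¹) * x = x * s * x⁻¹ := by rw [h1]; group
      rw [e, e2]; exact hs
  have hV₁ : ⁅Q₀, ⁅P₀, V⁆⁆ = ⊥ :=
    ih ⁅P₀, V⁆ hlt (hVp.to_le hlt.le)
      (fun a ha b hb => hVab a (hlt.le ha) b (hlt.le hb))
      (Subgroup.normalizer_commutator_ge_left P₀ V)
      (le_normalizer_commutator hQP hQV)
      (commutator_step V P₀ Q₀ hVab hPV hQV hcomm h)
  have hQsolv : Group.IsSolvable Q₀ := by
    have : Group.IsNilpotent Q₀ := hQ₀.isNilpotent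
    infer_instance
  have hc : CoprimeAction Q₀ V :=
    ⟨hQV, IsPGroup.coprime_card_of_ne q p (Ne.symm hpq) Q₀ V hQ₀ hVp, Or.inl hQsolv⟩
  have h2 : ⁅⁅V, Q₀⁆, Q₀⁆ = ⁅V, Q₀⁆ := coprime_commutator_commutator hc
  rw [Subgroup.commutator_comm Q₀ V, ← h2, eq_bot_iff]
  calc ⁅⁅V, Q₀⁆, Q₀⁆ ≤ ⁅⁅P₀, V⁆, Q₀⁆ :=
        Subgroup.commutator_mono (by rw [Subgroup.commutator_comm V Q₀]; exact h) le_rfl
    _ = ⁅Q₀, ⁅P₀, V⁆⁆ := Subgroup.commutator_comm _ _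
    _ = ⊥ := hV₁

/-- FINALN. -/
theorem centralizes_of_commutator_le {G : Type*} [Group G] [Finite G] (p q : ℕ) [Fact p.Prime]
    [Fact q.Prime] (hpq : p ≠ q) (N P₀ Q₀ : Subgroup G) [N.Normal] (hNp : IsPGroup p N)
    (hNab : ∀ a ∈ N, ∀ b ∈ N, a * b = b * a) (hP₀ : IsPGroup p P₀) (hQ₀ : IsPGroup q Q₀)
    (hcomm : ∀ x ∈ Q₀, ∀ s ∈ P₀, x * s = s * x)
    (h : ∀ x ∈ Q₀, ∀ n ∈ N, x * n * x⁻¹ * n⁻¹ ∈
      Subgroup.closure {c : G | ∃ s ∈ P₀, ∃ m ∈ N, c = s * m * s⁻¹ * m⁻¹}) :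
    ∀ x ∈ Q₀, ∀ n ∈ N, x * n = n * x := by
  have hset : Subgroup.closure {c : G | ∃ s ∈ P₀, ∃ m ∈ N, c = s * m * s⁻¹ * m⁻¹} = ⁅P₀, N⁆ := by
    rw [Subgroup.commutator_def]
    congr 1
    ext c
    constructor
    · rintro ⟨s, hs, m, hm, rfl⟩; exact ⟨s, hs, m, hm, rfl⟩
    · rintro ⟨s, hs, m, hm, rfl⟩; exact ⟨s, hs, m, hm, rfl⟩
  rw [hset] at h
  have hle : ⁅Q₀, N⁆ ≤ ⁅P₀, N⁆ := by
    rw [Subgroup.commutator_le]
    intro x hx n hn
    exact h x hx n hn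
  have hnormal : ∀ H : Subgroup G, H ≤ Subgroup.normalizer (N : Set G) := by
    intro H
    rw [Subgroup.normalizer_eq_top]
    exact le_top
  have hbot := commutator_eq_bot_of_le p q hpq P₀ Q₀ hP₀ hQ₀ hcomm N hNp hNab
    (hnormal P₀) (hnormal Q₀) hle
  intro x hx n hn
  have h1 : ⁅x, n⁆ ∈ ⁅Q₀, N⁆ := Subgroup.commutator_mem_commutator hx hn
  rw [hbot, Subgroup.mem_bot, commutatorElement_eq_one_iff_mul_comm] at h1
  exact h1

end Cfsg.Agent.Lib.H2.PQ2
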