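import Mathlib
import Cfsg.Agent.Lib.H1.CoprimeSylow

set_option autoImplicit false
open Pointwise

namespace Cfsg.Agent.Lib.H2.PQ2

open Cfsg.Agent.Lib.H1

/-- `|Q| * |Y : Q| = |Y|` for `Q ≤ Y`. -/
theorem card_mul_relIndex_of_le {G : Type*} [Group G] {Q Y : Subgroup G} (hQY : Q ≤ Y) :
    Nat.card Q * Q.relIndex Y = Nat.card Y := by
  have := Subgroup.relIndex_mul_relIndex ⊥ Q Y bot_le hQY
  rwa [Subgroup.relIndex_bot_left, Subgroup.relIndex_bot_left] at this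

/-- `q ∤ |Y : Q|` gives `v_q |Q| = v_q |Y|`. -/
theorem factorization_card_of_not_dvd_relIndex {G : Type*} [Group G] [Finite G] (q : ℕ)
    [Fact q.Prime] {Q Y : Subgroup G} (hQY : Q ≤ Y) (h : ¬ q ∣ Q.relIndex Y) :
    (Nat.card Y).factorization q = (Nat.card Q).factorization q := by
  have hmul := card_mul_relIndex_of_le hQY
  have h1 : Nat.card Q ≠ 0 := Nat.card_pos.ne'
  have h2 : Q.relIndex Y ≠ 0 := by
    intro h0
    rw [h0, mul_zero] at hmul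
    exact (Nat.card_pos (α := Y)).ne' hmul.symm
  rw [← hmul, Nat.factorization_mul h1 h2, Finsupp.add_apply,
    Nat.factorization_eq_zero_of_not_dvd h, add_zero]

/-- A `q`-subgroup of `Y` of index prime to `q` is a Sylow `q`-subgroup of `Y`. -/
theorem isSylowOf_of_not_dvd_relIndex {G : Type*} [Group G] [Finite G] (q : ℕ) [Fact q.Prime]
    {Q Y : Subgroup G} (hQY : Q ≤ Y) (hQ : IsPGroup q Q) (h : ¬ q ∣ Q.relIndex Y) :
    IsSylowOf q Y Q := by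
  have hq : q.Prime := Fact.out
  refine ⟨hQY, ?_⟩
  obtain ⟨k, hk⟩ := IsPGroup.iff_card.mp hQ
  rw [factorization_card_of_not_dvd_relIndex q hQY h, hk, Nat.factorization_pow]
  simp [hq.factorization_self]

/-- FIXLAM. -/
theorem sylow_le_of_normal_in_fixed {G : Type*} [Group G] [Finite G] (p q : ℕ) [Fact p.Prime]
    [Fact q.Prime] (Y P₀ Q₀ I : Subgroup G) (hP₀ : IsPGroup p P₀)
    (hYp : (Nat.card Y).Coprime p) (hnorm : ∀ s ∈ P₀, ∀ y ∈ Y, s * y * s⁻¹ ∈ Y)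
    (hQ₀Y : Q₀ ≤ Y) (hQ₀ : IsPGroup q Q₀) (hQ₀syl : ¬ q ∣ Q₀.relIndex Y)
    (hcent : ∀ x ∈ Q₀, ∀ s ∈ P₀, x * s = s * x)
    (hQn : ∀ c ∈ Y ⊓ Subgroup.centralizer (P₀ : Set G), ∀ x ∈ Q₀, c * x * c⁻¹ ∈ Q₀)
    (hP₀I : P₀ ≤ I) (hI : ¬ q ∣ (I ⊓ Y).relIndex Y) : Q₀ ≤ I := by
  -- `P₀` normalizes `Y`
  have hPY : P₀ ≤ Subgroup.normalizer (Y : Set G) := by
    intro s hs
    rw [Subgroup.mem_normalizer_iff]
    intro y
    constructor
    · exact hnorm s hs y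
    · intro hy
      have := hnorm s⁻¹ (P₀.inv_mem hs) _ hy
      have e : s⁻¹ * (s * y * s⁻¹) * s⁻¹⁻¹ = y := by group
      rwa [e] at this
  have hPsolv : Group.IsSolvable P₀ := by
    have : Group.IsNilpotent P₀ := hP₀.isNilpotent
    infer_instance
  have hcopY : (Nat.card P₀).Coprime (Nat.card Y) := by
    obtain ⟨k, hk⟩ := IsPGroup.iff_card.mp hP₀
    rw [hk]
    exact Nat.Coprime.pow_left k hYp.symm
  have hY : CoprimeAction P₀ Y := ⟨hPY, hcopY, Or.inl hPsolv⟩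
  -- `P₀` normalizes `I ⊓ Y`
  have hPIY : P₀ ≤ Subgroup.normalizer ((I ⊓ Y : Subgroup G) : Set G) := by
    intro s hs
    rw [Subgroup.mem_normalizer_iff]
    intro y
    have hsI : s ∈ I := hP₀I hs
    have h2 := Subgroup.mem_normalizer_iff.mp (hPY hs) y
    rw [Subgroup.mem_inf, Subgroup.mem_inf, ← h2]
    constructor
    · rintro ⟨h1, h3⟩
      exact ⟨I.mul_mem (I.mul_mem hsI h1) (I.inv_mem hsI), h3⟩
    · rintro ⟨h1, h3⟩
      refine ⟨?_, h3⟩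
      have e : y = s⁻¹ * (s * y * s⁻¹) * s := by group
      rw [e]
      exact I.mul_mem (I.mul_mem (I.inv_mem hsI) h1) hsI
  have hIY : CoprimeAction P₀ (I ⊓ Y) := hY.mono inf_le_right hPIY
  -- an invariant Sylow `q`-subgroup of `I ⊓ Y`
  obtain ⟨Q', hQ', hQ'P⟩ := coprime_exists_invariant_sylow hIY q
  have hQ'Y : IsSylowOf q Y Q' := by
    refine ⟨hQ'.1.trans inf_le_right, ?_⟩
    rw [hQ'.2, factorization_card_of_not_dvd_relIndex q (inf_le_right : I ⊓ Y ≤ Y) hI]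
  have hQ₀Y' : IsSylowOf q Y Q₀ := isSylowOf_of_not_dvd_relIndex q hQ₀Y hQ₀ hQ₀syl
  have hQ₀P : P₀ ≤ Subgroup.normalizer (Q₀ : Set G) := by
    intro s hs
    rw [Subgroup.mem_normalizer_iff]
    intro x
    constructor
    · intro hx
      have e : s * x * s⁻¹ = x := by
        rw [← hcent x hx s hs]; group
      rwa [e]
    · intro hx
      have h1 := hcent _ hx s⁻¹ (P₀.inv_mem hs)
      have e : x = s⁻¹ * (s * x * s⁻¹) * s := by group
      have e2 : s⁻¹ * (s * x * s⁻¹) * s = s * x * s⁻¹ := by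
        rw [← h1]; group
      rw [e, e2]; exact hx
  obtain ⟨c, hc, hcQ⟩ := coprime_invariant_sylow_conj hY hQ₀Y' hQ'Y hQ₀P hQ'P
  have hle : Q' ≤ Q₀ := by
    rw [← hcQ, conj_smul_le_iff]
    exact hQn c hc
  have hcard : Nat.card Q₀ ≤ Nat.card Q' := by
    rw [hQ'Y.2, hQ₀Y'.2]
  have heq : Q' = Q₀ := Subgroup.eq_of_le_of_card_ge hle hcard
  rw [← heq]
  exact hQ'.1.trans inf_le_left

end Cfsg.Agent.Lib.H2.PQ2
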