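import Mathlib
import Cfsg.Agent.Lib.H4.Dickson.SL2Mat
import Cfsg.Agent.Lib.H12.SL2
import Cfsg.Agent.Lib.H5.SL2Char2A4
import Cfsg.Agent.Lib.H2.CTSol

/-!
# `SL₂` in characteristic two: commuting is transitive, tori and their normalisers
-/

set_option autoImplicit false

namespace Cfsg.Agent.Lib.H2.PSol

open scoped commutatorElement

open Matrix Cfsg.Agent.Lib.H4.Dickson Cfsg.Agent.Lib.H12 Cfsg.Agent.Lib.H2.CTSol

variable {F : Type*} [Field F]

local notation "SL2" => Matrix.SpecialLinearGroup (Fin 2) F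
local notation "M2" => Matrix (Fin 2) (Fin 2) F

/-- the trace -/
def tr (g : SL2) : F := (g : M2) 0 0 + (g : M2) 1 1

theorem tr_one : tr (1 : SL2) = 2 := by
  unfold tr
  simp
  norm_num

theorem tr_conj (g x : SL2) : tr (g * x * g⁻¹) = tr x := by
  have := sl2_trace_conj x g
  rw [trace_eq, trace_eq] at this
  exact this

section char2

variable (h2 : (2 : F) = 0)

include h2

theorem neg_eq (x : F) : -x = x := Cfsg.Agent.Lib.H5.SL2Char2.neg_eq_self h2 x

theorem add_self (x : F) : x + x = 0 := by rw [← two_mul, h2, zero_mul]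

theorem det_eq2 (g : SL2) : (g : M2) 0 0 * (g : M2) 1 1 + (g : M2) 0 1 * (g : M2) 1 0 = 1 := by
  have := det_eq g
  rw [sub_eq_add_neg, neg_eq h2] at this
  exact this

theorem inv_01 (g : SL2) : ((g⁻¹ : SL2) : M2) 0 1 = (g : M2) 0 1 := by
  rw [inv_apply_01, neg_eq h2]

theorem inv_10 (g : SL2) : ((g⁻¹ : SL2) : M2) 1 0 = (g : M2) 1 0 := by
  rw [inv_apply_10, neg_eq h2]

theorem tr_ne_zero_ne_one {x : SL2} (ht : tr x ≠ 0) : x ≠ 1 := by
  rintro rfl
  apply ht
  rw [tr_one, h2]

/-- Cayley–Hamilton: `g * g = 1` iff the trace vanishes -/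
theorem mul_self_eq_one_iff (g : SL2) : g * g = 1 ↔ tr g = 0 := by
  have hd := det_eq2 h2 g
  constructor
  · intro h
    have h00 := congrArg (fun x : SL2 => (x : M2) 0 0) h
    have h01 := congrArg (fun x : SL2 => (x : M2) 0 1) h
    have h10 := congrArg (fun x : SL2 => (x : M2) 1 0) h
    have h11 := congrArg (fun x : SL2 => (x : M2) 1 1) h
    simp only [mul_apply_00, mul_apply_01, mul_apply_10, mul_apply_11,
      Matrix.SpecialLinearGroup.coe_one, Matrix.one_apply_eq] at h00 h01 h10 h11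
    rw [Matrix.one_apply_ne (by decide)] at h01 h10
    unfold tr
    by_contra ht
    have e01 : (g : M2) 0 1 = 0 := by
      have : ((g : M2) 0 0 + (g : M2) 1 1) * (g : M2) 0 1 = 0 := by linear_combination h01
      exact (mul_eq_zero.1 this).resolve_left ht
    have e10 : (g : M2) 1 0 = 0 := by
      have : ((g : M2) 0 0 + (g : M2) 1 1) * (g : M2) 1 0 = 0 := by linear_combination h10
      exact (mul_eq_zero.1 this).resolve_left ht
    rw [e01, zero_mul, add_zero] at h00 hd
    rw [e01, mul_zero, zero_add] at h11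
    -- `g00² = 1`, `g11² = 1`, `g00 g11 = 1`
    apply ht
    have : ((g : M2) 0 0 + (g : M2) 1 1) ^ 2 = 0 := by
      linear_combination h00 + h11 + 2 * hd + 2 * h2
    exact pow_eq_zero_iff (two_ne_zero) |>.1 this
  · intro ht
    unfold tr at ht
    apply sl2_ext <;>
      simp only [mul_apply_00, mul_apply_01, mul_apply_10, mul_apply_11,
        Matrix.SpecialLinearGroup.coe_one, Matrix.one_apply_eq]
    · linear_combination hd + (g : M2) 0 0 * ht - (g : M2) 0 0 * (g : M2) 1 1 * h2
    · rw [Matrix.one_apply_ne (by decide)]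
      linear_combination (g : M2) 0 1 * ht
    · rw [Matrix.one_apply_ne (by decide)]
      linear_combination (g : M2) 1 0 * ht
    · linear_combination hd + (g : M2) 1 1 * ht - (g : M2) 0 0 * (g : M2) 1 1 * h2

theorem nonScalar_of_ne_one {g : SL2} (hg : g ≠ 1) : NonScalar (g : M2) :=
  Cfsg.Agent.Lib.H5.SL2Char2.nonScalar_of_ne_one h2 hg

/-- elements commuting with `x ≠ 1` are of the form `α + β x` -/
theorem exists_of_commute {x g : SL2} (hx : x ≠ 1) (hc : Commute g x) :
    ∃ α β : F, (g : M2) = α • (1 : M2) + β • (x : M2) := by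
  apply commute_nonScalar (x : M2) (g : M2) (nonScalar_of_ne_one h2 hx)
  have := congrArg (fun z : SL2 => (z : M2)) hc.eq
  simp only [Matrix.SpecialLinearGroup.coe_mul] at this
  exact this.symm

/-- commuting is transitive on `SL₂ ∖ 1` in characteristic two -/
theorem isCT : IsCT SL2 := by
  intro a b c hb hab hbc
  obtain ⟨α, β, ha⟩ := exists_of_commute h2 hb hab
  obtain ⟨γ, δ, hc⟩ := exists_of_commute h2 hb hbc.symm
  have hcomm : Commute (α • (1 : M2) + β • (b : M2)) (γ • (1 : M2) + δ • (b : M2)) := by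
    apply Commute.add_left
    · exact (Commute.one_left _).smul_left α
    · apply Commute.smul_left
      apply Commute.add_right
      · exact (Commute.one_right _).smul_right γ
      · exact (Commute.refl _).smul_right δ
  apply Subtype.ext
  rw [Matrix.SpecialLinearGroup.coe_mul, Matrix.SpecialLinearGroup.coe_mul, ha, hc]
  exact hcomm.eq


theorem ne_one_of_tr {x : SL2} (ht : tr x ≠ 0) : x ≠ 1 := tr_ne_zero_ne_one h2 ht

omit h2 in
theorem entries_of_eq {g : SL2} {x : SL2} {α β : F}
    (he : (g : M2) = α • (1 : M2) + β • (x : M2)) :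
    (g : M2) 0 0 = α + β * (x : M2) 0 0 ∧ (g : M2) 0 1 = β * (x : M2) 0 1 ∧
      (g : M2) 1 0 = β * (x : M2) 1 0 ∧ (g : M2) 1 1 = α + β * (x : M2) 1 1 := by
  refine ⟨?_, ?_, ?_, ?_⟩
  · have := congrFun (congrFun he 0) 0
    simpa using this
  · have := congrFun (congrFun he 0) 1
    simpa using this
  · have := congrFun (congrFun he 1) 0
    simpa using this
  · have := congrFun (congrFun he 1) 1
    simpa using this

/-- elements commuting with an involution have trace zero -/
theorem tr_eq_zero_of_commute {u g : SL2} (hu : u ≠ 1) (huu : tr u = 0) (hc : Commute g u) :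
    tr g = 0 := by
  obtain ⟨α, β, he⟩ := exists_of_commute h2 hu hc
  obtain ⟨e00, -, -, e11⟩ := entries_of_eq he
  unfold tr at huu ⊢
  rw [e00, e11]
  linear_combination β * huu + α * h2

theorem tr_ne_zero_of_mem_Cn {x c : SL2} (ht : tr x ≠ 0) (hc : c ∈ Cn x) (hc1 : c ≠ 1) :
    tr c ≠ 0 := by
  intro h0
  exact ht (tr_eq_zero_of_commute h2 hc1 h0 (mem_Cn.1 hc).symm)

/-- an element normalising a torus centralises or inverts its generator -/
theorem conj_eq_or_eq_inv {x g : SL2} (ht : tr x ≠ 0) (hg : g ∈ NC x) :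
    g * x * g⁻¹ = x ∨ g * x * g⁻¹ = x⁻¹ := by
  have hx1 : x ≠ 1 := ne_one_of_tr h2 ht
  have hc : Commute (g * x * g⁻¹) x := (mem_NC_iff (isCT h2) hx1).1 hg
  obtain ⟨α, β, he⟩ := exists_of_commute h2 hx1 hc
  obtain ⟨e00, e01, e10, e11⟩ := entries_of_eq he
  have htr : tr (g * x * g⁻¹) = tr x := tr_conj g x
  have hd := det_eq2 h2 (g * x * g⁻¹)
  have hdx := det_eq2 h2 x
  rw [e00, e01, e10, e11] at hd
  unfold tr at htr ht
  rw [e00, e11] at htr
  have hβ : β = 1 := by
    have : (β - 1) * ((x : M2) 0 0 + (x : M2) 1 1) = 0 := by linear_combination htr - α * h2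
    rcases mul_eq_zero.1 this with h | h
    · exact sub_eq_zero.1 h
    · exact absurd h ht
  subst hβ
  have hα : α * (α + ((x : M2) 0 0 + (x : M2) 1 1)) = 0 := by
    linear_combination hd - hdx
  rcases mul_eq_zero.1 hα with h | h
  · left
    subst h
    apply sl2_ext
    · rw [e00]; ring
    · rw [e01]; ring
    · rw [e10]; ring
    · rw [e11]; ring
  · right
    have hα' : α = (x : M2) 0 0 + (x : M2) 1 1 := by
      linear_combination h - ((x : M2) 0 0 + (x : M2) 1 1) * h2
    apply sl2_ext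
    · rw [e00, inv_apply_00, hα']
      linear_combination (x : M2) 0 0 * h2
    · rw [e01, inv_01 h2]; ring
    · rw [e10, inv_10 h2]; ring
    · rw [e11, inv_apply_11, hα']
      linear_combination (x : M2) 1 1 * h2

omit h2 in
theorem mem_Cn_of_conj {x g : SL2} (h : g * x * g⁻¹ = x) : g ∈ Cn x := by
  rw [mem_Cn]
  show g * x = x * g
  have : g * x = (g * x * g⁻¹) * g := by group
  rw [this, h]

/-- elements of `N(T) ∖ T` are involutions inverting `x` -/
theorem mul_self_of_mem_NC {x g : SL2} (ht : tr x ≠ 0) (hg : g ∈ NC x) (hgc : g ∉ Cn x) :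
    g * g = 1 ∧ g * x * g⁻¹ = x⁻¹ := by
  rcases conj_eq_or_eq_inv h2 ht hg with h | h
  · exact absurd (mem_Cn_of_conj h) hgc
  · refine ⟨?_, h⟩
    rw [mul_self_eq_one_iff h2]
    by_contra htg
    have hgg : g * g ≠ 1 := fun e => htg ((mul_self_eq_one_iff h2 g).1 e)
    have h1 : Commute g (g * g) := by
      show g * (g * g) = g * g * g
      group
    have h2' : Commute (g * g) x := by
      show g * g * x = x * (g * g)
      have e1 : g * x = x⁻¹ * g := by
        have : g * x = (g * x * g⁻¹) * g := by group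
        rw [this, h]
      have e2 : g * x⁻¹ = x * g := by
        have : g * x⁻¹ = (g * x * g⁻¹)⁻¹ * g := by group
        rw [this, h, inv_inv]
      calc g * g * x = g * (g * x) := by group
        _ = g * (x⁻¹ * g) := by rw [e1]
        _ = (g * x⁻¹) * g := by group
        _ = x * g * g := by rw [e2]
        _ = x * (g * g) := by group
    exact hgc (mem_Cn.2 (isCT h2 g (g * g) x hgg h1 h2'))

/-- elements of `N(T) ∖ T` invert `T` -/
theorem conj_inv_of_mem {x g c : SL2} (ht : tr x ≠ 0) (hg : g ∈ NC x) (hgc : g ∉ Cn x)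
    (hc : c ∈ Cn x) : g * c * g⁻¹ = c⁻¹ := by
  have hgg := (mul_self_of_mem_NC h2 ht hg hgc).1
  have hgcN : g * c ∈ NC x := (NC x).mul_mem hg (Cn_le_NC x hc)
  have hgcC : g * c ∉ Cn x := by
    intro h
    apply hgc
    have : g = (g * c) * c⁻¹ := by group
    rw [this]
    exact (Cn x).mul_mem h ((Cn x).inv_mem hc)
  have h1 := (mul_self_of_mem_NC h2 ht hgcN hgcC).1
  have hginv : g⁻¹ = g := by
    rw [inv_eq_iff_mul_eq_one]; exact hgg
  rw [hginv]
  have : g * c * g = (g * c * (g * c)) * c⁻¹ := by group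
  rw [this, h1, one_mul]

theorem commute_of_mem_Cn {x a b : SL2} (hx : x ≠ 1) (ha : a ∈ Cn x) (hb : b ∈ Cn x) :
    a * b = b * a :=
  (isCT h2 a x b hx (mem_Cn.1 ha) (mem_Cn.1 hb).symm).eq

/-- torus normalisers are solvable -/
theorem isSolvable_NC_of_tr {x : SL2} (ht : tr x ≠ 0) : Group.IsSolvable (NC x) := by
  have hx1 : x ≠ 1 := ne_one_of_tr h2 ht
  apply isSolvable_of_commutator_le ((Cn x).subgroupOf (NC x))
  · intro a ha b hb
    apply Subtype.ext
    exact commute_of_mem_Cn h2 hx1 ha hb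
  · rw [Subgroup.commutator_le]
    intro g _ k _
    show ((⁅g, k⁆ : NC x) : SL2) ∈ Cn x
    have e : ((⁅g, k⁆ : NC x) : SL2) = (g : SL2) * k * (g : SL2)⁻¹ * (k : SL2)⁻¹ := rfl
    rw [e]
    by_cases hgC : (g : SL2) ∈ Cn x
    · by_cases hkC : (k : SL2) ∈ Cn x
      · exact (Cn x).mul_mem ((Cn x).mul_mem ((Cn x).mul_mem hgC hkC) ((Cn x).inv_mem hgC))
          ((Cn x).inv_mem hkC)
      · have := conj_inv_of_mem h2 ht k.2 hkC ((Cn x).inv_mem hgC)
        have e2 : (g : SL2) * k * (g : SL2)⁻¹ * (k : SL2)⁻¹ =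
            (g : SL2) * ((k : SL2) * (g : SL2)⁻¹ * (k : SL2)⁻¹) := by group
        rw [e2, this, inv_inv]
        exact (Cn x).mul_mem hgC hgC
    · by_cases hkC : (k : SL2) ∈ Cn x
      · have := conj_inv_of_mem h2 ht g.2 hgC hkC
        rw [this]
        exact (Cn x).mul_mem ((Cn x).inv_mem hkC) ((Cn x).inv_mem hkC)
      · -- both invert: `g k` and `k g` centralise
        have hg' := (mul_self_of_mem_NC h2 ht g.2 hgC).2
        have hk' := (mul_self_of_mem_NC h2 ht k.2 hkC).2
        have h1 : (g : SL2) * k ∈ Cn x := by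
          apply mem_Cn_of_conj
          have : (g : SL2) * k * x * ((g : SL2) * k)⁻¹ =
              (g : SL2) * ((k : SL2) * x * (k : SL2)⁻¹) * (g : SL2)⁻¹ := by group
          rw [this, hk']
          have : (g : SL2) * x⁻¹ * (g : SL2)⁻¹ = ((g : SL2) * x * (g : SL2)⁻¹)⁻¹ := by group
          rw [this, hg', inv_inv]
        have h3 : (k : SL2) * g ∈ Cn x := by
          apply mem_Cn_of_conj
          have : (k : SL2) * g * x * ((k : SL2) * g)⁻¹ =
              (k : SL2) * ((g : SL2) * x * (g : SL2)⁻¹) * (k : SL2)⁻¹ := by group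
          rw [this, hg']
          have : (k : SL2) * x⁻¹ * (k : SL2)⁻¹ = ((k : SL2) * x * (k : SL2)⁻¹)⁻¹ := by group
          rw [this, hk', inv_inv]
        have e2 : (g : SL2) * k * (g : SL2)⁻¹ * (k : SL2)⁻¹ =
            ((g : SL2) * k) * ((k : SL2) * g)⁻¹ := by group
        rw [e2]
        exact (Cn x).mul_mem h1 ((Cn x).inv_mem h3)

end char2

end Cfsg.Agent.Lib.H2.PSol
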