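import Mathlib
import Cfsg.Agent.Lib.H2.PSol1

/-!
# The non-split tori of `SL₂(q)`, `q` even, and their normalisers
-/

set_option autoImplicit false
set_option linter.unusedSimpArgs false

namespace Cfsg.Agent.Lib.H2.PSol

open Matrix Cfsg.Agent.Lib.H4.Dickson Cfsg.Agent.Lib.H12 Cfsg.Agent.Lib.H2.CTSol

variable {F : Type*} [Field F]

local notation "SL2" => Matrix.SpecialLinearGroup (Fin 2) F
local notation "M2" => Matrix (Fin 2) (Fin 2) F

/-- the norm form of `F[x]`, `x` of trace `t` -/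
def Nrm (t α β : F) : F := α ^ 2 + t * α * β + β ^ 2

theorem Nrm_smul (t μ α β : F) : Nrm t (μ * α) (μ * β) = μ ^ 2 * Nrm t α β := by
  unfold Nrm; ring

theorem Nrm_ne_zero {t : F} (hno : ∀ l : F, l ^ 2 + t * l + 1 ≠ 0) {α β : F}
    (h : α ≠ 0 ∨ β ≠ 0) : Nrm t α β ≠ 0 := by
  intro h0
  unfold Nrm at h0
  by_cases hβ : β = 0
  · subst hβ
    have hα : α ≠ 0 := by
      rcases h with h | h
      · exact h
      · exact absurd rfl h
    apply hα
    have : α ^ 2 = 0 := by linear_combination h0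
    exact pow_eq_zero_iff (two_ne_zero) |>.1 this
  · apply hno (α / β)
    field_simp
    linear_combination h0

theorem det_el (x : SL2) (α β : F) :
    (α • (1 : M2) + β • (x : M2)).det = Nrm (tr x) α β := by
  have hd := det_eq x
  rw [Matrix.det_fin_two]
  simp only [Matrix.add_apply, Matrix.smul_apply, Matrix.one_apply_eq, smul_eq_mul, mul_one,
    Matrix.one_apply_ne (show (0 : Fin 2) ≠ 1 by decide),
    Matrix.one_apply_ne (show (1 : Fin 2) ≠ 0 by decide), mul_zero, zero_add]
  unfold Nrm tr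
  linear_combination β ^ 2 * hd

section fin

variable [Fintype F] (h2 : (2 : F) = 0)

include h2

theorem exists_sq (c : F) : ∃ μ : F, μ ^ 2 = c := by
  have h1 : (1 : F) ≠ 0 := one_ne_zero
  have : CharP F 2 := CharTwo.of_one_ne_zero_of_two_eq_zero h1 h2
  have hr : ringChar F = 2 := ringChar.eq F 2
  obtain ⟨r, hr⟩ := FiniteField.isSquare_of_char_two hr c
  exact ⟨r, by rw [hr, pow_two]⟩

omit h2 in
theorem two_le_card : 2 ≤ Fintype.card F := Fintype.one_lt_card

/-- the number of elements of norm one in the non-split case -/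
theorem card_K {t : F} (hno : ∀ l : F, l ^ 2 + t * l + 1 ≠ 0) [DecidableEq F] :
    (Finset.univ.filter (fun p : F × F => Nrm t p.1 p.2 = 1)).card = Fintype.card F + 1 := by
  classical
  set q := Fintype.card F with hq
  set K := Finset.univ.filter (fun p : F × F => Nrm t p.1 p.2 = 1) with hK
  set S := Finset.univ.filter (fun p : F × F => p ≠ 0) with hS
  set T := Finset.univ.filter (fun c : F => c ≠ 0) with hT
  have hScard : S.card = q ^ 2 - 1 := by
    rw [hS, Finset.filter_ne' Finset.univ (0 : F × F), Finset.card_erase_of_mem (Finset.mem_univ _),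
      Finset.card_univ, Fintype.card_prod, ← hq, pow_two]
  have hTcard : T.card = q - 1 := by
    rw [hT, Finset.filter_ne' Finset.univ (0 : F), Finset.card_erase_of_mem (Finset.mem_univ _),
      Finset.card_univ]
  have hmaps : ∀ p ∈ S, Nrm t p.1 p.2 ∈ T := by
    intro p hp
    rw [hS, Finset.mem_filter] at hp
    rw [hT, Finset.mem_filter]
    refine ⟨Finset.mem_univ _, Nrm_ne_zero hno ?_⟩
    by_contra hcon
    push Not at hcon
    exact hp.2 (Prod.ext hcon.1 hcon.2)
  have hfib : ∀ c ∈ T, (S.filter (fun p => Nrm t p.1 p.2 = c)).card = K.card := by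
    intro c hc
    rw [hT, Finset.mem_filter] at hc
    obtain ⟨μ, hμ⟩ := exists_sq h2 c
    have hμ0 : μ ≠ 0 := by
      rintro rfl
      apply hc.2
      rw [← hμ]; ring
    apply Finset.card_bij (fun p _ => (μ⁻¹ * p.1, μ⁻¹ * p.2))
    · intro p hp
      rw [Finset.mem_filter] at hp
      rw [hK, Finset.mem_filter]
      refine ⟨Finset.mem_univ _, ?_⟩
      show Nrm t (μ⁻¹ * p.1) (μ⁻¹ * p.2) = 1
      rw [Nrm_smul, hp.2, ← hμ]
      field_simp
    · intro p _ p' _ h
      have h1 : μ⁻¹ * p.1 = μ⁻¹ * p'.1 := congrArg Prod.fst h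
      have h2' : μ⁻¹ * p.2 = μ⁻¹ * p'.2 := congrArg Prod.snd h
      have hi : μ⁻¹ ≠ 0 := inv_ne_zero hμ0
      exact Prod.ext (mul_left_cancel₀ hi h1) (mul_left_cancel₀ hi h2')
    · intro k hk
      rw [hK, Finset.mem_filter] at hk
      have hN : Nrm t (μ * k.1) (μ * k.2) = c := by rw [Nrm_smul, hk.2, mul_one, hμ]
      refine ⟨(μ * k.1, μ * k.2), ?_, ?_⟩
      · rw [Finset.mem_filter, hS, Finset.mem_filter]
        refine ⟨⟨Finset.mem_univ _, ?_⟩, hN⟩
        intro h0
        have e1 : μ * k.1 = 0 := congrArg Prod.fst h0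
        have e2 : μ * k.2 = 0 := congrArg Prod.snd h0
        apply hc.2
        rw [← hN, e1, e2]
        unfold Nrm; ring
      · apply Prod.ext
        · show μ⁻¹ * (μ * k.1) = k.1
          field_simp
        · show μ⁻¹ * (μ * k.2) = k.2
          field_simp
  have hsum := Finset.card_eq_sum_card_fiberwise (f := fun p : F × F => Nrm t p.1 p.2) hmaps
  rw [Finset.sum_congr rfl hfib, Finset.sum_const, hScard, hTcard, smul_eq_mul] at hsum
  have hq2 : 2 ≤ q := two_le_card
  have : (q - 1) * (q + 1) = q ^ 2 - 1 := by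
    obtain ⟨j, hj⟩ : ∃ j, q = j + 1 := ⟨q - 1, by omega⟩
    rw [hj, Nat.add_sub_cancel]
    have : (j + 1) ^ 2 - 1 = j * (j + 1 + 1) := by
      have : (j + 1) ^ 2 = j * (j + 1 + 1) + 1 := by ring
      omega
    rw [this]
  rw [← this] at hsum
  exact (Nat.eq_of_mul_eq_mul_left (by omega : 0 < q - 1) hsum).symm


omit [Fintype F] in
theorem x01_ne_zero {x : SL2} (hno : ∀ l : F, l ^ 2 + tr x * l + 1 ≠ 0) : (x : M2) 0 1 ≠ 0 := by
  intro h0
  apply hno ((x : M2) 0 0)
  have hd := det_eq2 h2 x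
  rw [h0, zero_mul, add_zero] at hd
  unfold tr
  linear_combination hd + ((x : M2) 0 0 ^ 2 + 1) * h2

/-- the order of a non-split torus -/
theorem ncard_Cn_nonsplit {x : SL2} (hno : ∀ l : F, l ^ 2 + tr x * l + 1 ≠ 0) :
    ((Cn x : Subgroup SL2) : Set SL2).ncard = Fintype.card F + 1 := by
  classical
  have ht : tr x ≠ 0 := by
    intro h0
    apply hno 1
    rw [h0]
    linear_combination h2
  have hx1 : x ≠ 1 := ne_one_of_tr h2 ht
  have hb := x01_ne_zero h2 hno
  rw [← card_K h2 hno, ← Set.ncard_coe_finset]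
  symm
  have hmem : ∀ p : F × F, p ∈ ((Finset.univ.filter
      (fun p : F × F => Nrm (tr x) p.1 p.2 = 1) : Finset (F × F)) : Set (F × F)) →
      (p.1 • (1 : M2) + p.2 • (x : M2)).det = 1 := by
    intro p hp
    rw [det_el]
    exact (Finset.mem_filter.1 (Finset.mem_coe.1 hp)).2
  let φ : ∀ p : F × F, p ∈ ((Finset.univ.filter
      (fun p : F × F => Nrm (tr x) p.1 p.2 = 1) : Finset (F × F)) : Set (F × F)) → SL2 :=
    fun p hp => ⟨p.1 • (1 : M2) + p.2 • (x : M2), hmem p hp⟩
  have hφ : ∀ p hp, ((φ p hp : SL2) : M2) = p.1 • (1 : M2) + p.2 • (x : M2) := fun p hp => rfl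
  apply Set.ncard_congr φ
  · intro p hp
    apply mem_Cn.2
    apply Subtype.ext
    rw [Matrix.SpecialLinearGroup.coe_mul, Matrix.SpecialLinearGroup.coe_mul, hφ p hp]
    rw [add_mul, mul_add, smul_mul_assoc, smul_mul_assoc, mul_smul_comm, mul_smul_comm, one_mul,
      mul_one]
  · intro p p' hp hp' h
    have hm : p.1 • (1 : M2) + p.2 • (x : M2) = p'.1 • (1 : M2) + p'.2 • (x : M2) := by
      rw [← hφ p hp, ← hφ p' hp', h]
    have e01 := congrFun (congrFun hm 0) 1
    have e00 := congrFun (congrFun hm 0) 0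
    simp only [Matrix.add_apply, Matrix.smul_apply, Matrix.one_apply_eq, smul_eq_mul, mul_one,
      Matrix.one_apply_ne (show (0 : Fin 2) ≠ 1 by decide), mul_zero, zero_add] at e01 e00
    have h2' : p.2 = p'.2 := mul_right_cancel₀ hb e01
    rw [h2'] at e00
    exact Prod.ext (add_right_cancel e00) h2'
  · intro g hg
    have hg' : Commute g x := mem_Cn.1 hg
    obtain ⟨α, β, he⟩ := exists_of_commute h2 hx1 hg'
    have hdet : Nrm (tr x) α β = 1 := by
      rw [← det_el, ← he]
      exact g.det_coe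
    have hK : (α, β) ∈ ((Finset.univ.filter
        (fun p : F × F => Nrm (tr x) p.1 p.2 = 1) : Finset (F × F)) : Set (F × F)) := by
      rw [Finset.mem_coe, Finset.mem_filter]
      exact ⟨Finset.mem_univ _, hdet⟩
    refine ⟨(α, β), hK, ?_⟩
    apply Subtype.ext
    rw [hφ (α, β) hK]
    exact he.symm

omit [Fintype F] in
/-- the normaliser of a torus, given an inverting element -/
theorem ncard_NC [Finite F] {x g₀ : SL2} (ht : tr x ≠ 0) (hg₀ : g₀ ∈ NC x) (hg₀' : g₀ ∉ Cn x) :
    ((NC x : Subgroup SL2) : Set SL2).ncard = 2 * ((Cn x : Subgroup SL2) : Set SL2).ncard := by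
  have hinv := (mul_self_of_mem_NC h2 ht hg₀ hg₀').2
  have hset : ((NC x : Subgroup SL2) : Set SL2) =
      ((Cn x : Subgroup SL2) : Set SL2) ∪ (fun c => g₀ * c) '' ((Cn x : Subgroup SL2) : Set SL2) := by
    ext g
    constructor
    · intro hg
      by_cases hgc : g ∈ Cn x
      · exact Or.inl hgc
      · right
        have hg' := (mul_self_of_mem_NC h2 ht hg hgc).2
        refine ⟨g₀⁻¹ * g, ?_, by group⟩
        apply mem_Cn_of_conj
        have : g₀⁻¹ * g * x * (g₀⁻¹ * g)⁻¹ = g₀⁻¹ * (g * x * g⁻¹) * g₀ := by group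
        rw [this, hg', ← hinv]
        group
    · rintro (hg | ⟨c, hc, rfl⟩)
      · exact Cn_le_NC x hg
      · exact (NC x).mul_mem hg₀ (Cn_le_NC x hc)
  have hdisj : Disjoint ((Cn x : Subgroup SL2) : Set SL2)
      ((fun c => g₀ * c) '' ((Cn x : Subgroup SL2) : Set SL2)) := by
    rw [Set.disjoint_left]
    rintro g hg ⟨c, hc, rfl⟩
    apply hg₀'
    have : g₀ = (g₀ * c) * c⁻¹ := by group
    rw [this]
    exact (Cn x).mul_mem hg ((Cn x).inv_mem hc)
  rw [hset, Set.ncard_union_eq hdisj (Set.toFinite _) (Set.toFinite _),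
    Set.ncard_image_of_injective _ (mul_right_injective g₀)]
  ring

omit [Fintype F] in
/-- an involution inverting `x` -/
theorem exists_inverting {x : SL2} (ht : tr x ≠ 0) (hb : (x : M2) 0 1 ≠ 0) :
    ∃ g₀ : SL2, g₀ ∈ NC x ∧ g₀ ∉ Cn x := by
  have hx1 : x ≠ 1 := ne_one_of_tr h2 ht
  obtain ⟨s, hs⟩ : ∃ s : F, s * (x : M2) 0 1 = (x : M2) 0 0 + (x : M2) 1 1 :=
    ⟨tr x / (x : M2) 0 1, by unfold tr; field_simp⟩
  have hconj : ll s * x * (ll s)⁻¹ = x⁻¹ := by
    apply sl2_ext
    · simp only [mul_apply_00, mul_apply_01, mul_apply_10, mul_apply_11, inv_apply_00,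
        inv_apply_01, inv_apply_10, inv_apply_11, ll_00, ll_01, ll_10, ll_11]
      linear_combination (-1 : F) * hs - (x : M2) 1 1 * h2
    · simp only [mul_apply_00, mul_apply_01, mul_apply_10, mul_apply_11, inv_apply_00,
        inv_apply_01, inv_apply_10, inv_apply_11, ll_00, ll_01, ll_10, ll_11]
      linear_combination (x : M2) 0 1 * h2
    · simp only [mul_apply_00, mul_apply_01, mul_apply_10, mul_apply_11, inv_apply_00,
        inv_apply_01, inv_apply_10, inv_apply_11, ll_00, ll_01, ll_10, ll_11]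
      linear_combination (-s) * hs + ((x : M2) 1 0 - s * (x : M2) 1 1) * h2
    · simp only [mul_apply_00, mul_apply_01, mul_apply_10, mul_apply_11, inv_apply_00,
        inv_apply_01, inv_apply_10, inv_apply_11, ll_00, ll_01, ll_10, ll_11]
      linear_combination hs + (x : M2) 1 1 * h2
  refine ⟨ll s, ?_, ?_⟩
  · rw [mem_NC_iff (isCT h2) hx1, hconj]
    exact (Commute.refl x).inv_left
  · intro hc
    have hcomm : ll s * x = x * ll s := (mem_Cn.1 hc).eq
    have : x⁻¹ = x := by
      rw [← hconj, hcomm]; group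
    have hxx : x * x = 1 := by
      nth_rewrite 1 [← this]; group
    exact ht ((mul_self_eq_one_iff h2 x).1 hxx)

theorem ncard_NC_nonsplit {x : SL2} (hno : ∀ l : F, l ^ 2 + tr x * l + 1 ≠ 0) :
    ((NC x : Subgroup SL2) : Set SL2).ncard = 2 * (Fintype.card F + 1) := by
  have ht : tr x ≠ 0 := by
    intro h0
    apply hno 1
    rw [h0]
    linear_combination h2
  obtain ⟨g₀, hg₀, hg₀'⟩ := exists_inverting h2 ht (x01_ne_zero h2 hno)
  rw [ncard_NC h2 ht hg₀ hg₀', ncard_Cn_nonsplit h2 hno]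

end fin

end Cfsg.Agent.Lib.H2.PSol
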