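import Mathlib
import Cfsg.Agent.Lib.H2.PSol2

/-!
# Borel subgroups and the split torus of `SL₂(q)`, `q` even
-/

set_option autoImplicit false
set_option linter.unusedSimpArgs false

namespace Cfsg.Agent.Lib.H2.PSol

open scoped commutatorElement

open Matrix Cfsg.Agent.Lib.H4.Dickson Cfsg.Agent.Lib.H12 Cfsg.Agent.Lib.H2.CTSol

variable {F : Type*} [Field F]

local notation "SL2" => Matrix.SpecialLinearGroup (Fin 2) F
local notation "M2" => Matrix (Fin 2) (Fin 2) F

@[simp] theorem hh_00 (t : Fˣ) : ((hh t : SL2) : M2) 0 0 = (t : F) := rfl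
@[simp] theorem hh_01 (t : Fˣ) : ((hh t : SL2) : M2) 0 1 = 0 := rfl
@[simp] theorem hh_10 (t : Fˣ) : ((hh t : SL2) : M2) 1 0 = 0 := rfl
@[simp] theorem hh_11 (t : Fˣ) : ((hh t : SL2) : M2) 1 1 = ((t⁻¹ : Fˣ) : F) := rfl

theorem tr_uu (β : F) : tr (uu β : SL2) = 2 := by
  unfold tr; simp; norm_num

theorem tr_ll (β : F) : tr (ll β : SL2) = 2 := by
  unfold tr; simp; norm_num

theorem tr_hh (t : Fˣ) : tr (hh t : SL2) = (t : F) + ((t⁻¹ : Fˣ) : F) := by
  unfold tr; simp

theorem uu_ne_one {β : F} (hβ : β ≠ 0) : (uu β : SL2) ≠ 1 := by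
  intro h
  have := congrArg (fun g : SL2 => (g : M2) 0 1) h
  simp at this
  exact hβ this

theorem ll_ne_one {β : F} (hβ : β ≠ 0) : (ll β : SL2) ≠ 1 := by
  intro h
  have := congrArg (fun g : SL2 => (g : M2) 1 0) h
  simp at this
  exact hβ this

/-- `g` commutes with `ll lam` (`lam ≠ 0`) iff it is lower unitriangular up to a scalar -/
theorem commute_ll_iff {lam : F} (hlam : lam ≠ 0) (g : SL2) :
    g * ll lam = ll lam * g ↔ (g : M2) 0 1 = 0 ∧ (g : M2) 0 0 = (g : M2) 1 1 := by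
  constructor
  · intro h
    have h11 := congrArg (fun x : SL2 => (x : M2) 1 1) h
    have h10 := congrArg (fun x : SL2 => (x : M2) 1 0) h
    simp only [mul_apply_11, mul_apply_10, ll_00, ll_01, ll_10, ll_11, mul_one, mul_zero,
      add_zero, one_mul, zero_add] at h11 h10
    have h01 : (g : M2) 0 1 = 0 := by
      have : lam * (g : M2) 0 1 = 0 := by linear_combination -h11
      exact (mul_eq_zero.mp this).resolve_left hlam
    refine ⟨h01, ?_⟩
    have : lam * ((g : M2) 0 0 - (g : M2) 1 1) = 0 := by linear_combination -h10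
    exact sub_eq_zero.mp ((mul_eq_zero.mp this).resolve_left hlam)
  · rintro ⟨h01, h00⟩
    apply sl2_ext <;>
      simp only [mul_apply_00, mul_apply_01, mul_apply_10, mul_apply_11, ll_00, ll_01, ll_10,
        ll_11, mul_one, mul_zero, add_zero, one_mul, zero_mul, zero_add, h01, h00]
    ring

/-- the `(0,1)`-entry of `g * ll lam * g⁻¹` -/
theorem conj_ll_01 (g : SL2) (lam : F) :
    ((g * ll lam * g⁻¹ : SL2) : M2) 0 1 = -lam * (g : M2) 0 1 ^ 2 := by
  simp only [mul_apply_00, mul_apply_01, inv_apply_01, inv_apply_11,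
    ll_00, ll_01, ll_10, ll_11]
  ring

/-- conjugating `ll a` by a lower triangular matrix -/
theorem conj_ll_of_lower {g : SL2} (hg : (g : M2) 0 1 = 0) (a : F) :
    g * ll a * g⁻¹ = ll ((g : M2) 1 1 ^ 2 * a) := by
  have hd := det_eq g
  rw [hg, zero_mul, sub_zero] at hd
  apply sl2_ext <;>
    simp only [mul_apply_10, mul_apply_00, mul_apply_01, mul_apply_11, inv_apply_00, inv_apply_10,
      inv_apply_01, inv_apply_11, ll_00, ll_01, ll_10, ll_11, hg]
  · linear_combination hd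
  · ring
  · ring
  · linear_combination hd

section char2

variable (h2 : (2 : F) = 0)

include h2

theorem mem_NC_uu {β : F} (hβ : β ≠ 0) (g : SL2) : g ∈ NC (uu β) ↔ (g : M2) 1 0 = 0 := by
  rw [mem_NC_iff (isCT h2) (uu_ne_one hβ)]
  constructor
  · intro hc
    have h10 := ((commute_uu_iff hβ _).1 hc.eq).1
    rw [conj_uu_10] at h10
    have : (g : M2) 1 0 ^ 2 = 0 := by
      rcases mul_eq_zero.1 h10 with h | h
      · exact absurd (neg_eq_zero.1 h) hβ
      · exact h
    exact pow_eq_zero_iff (two_ne_zero) |>.1 this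
  · intro h10
    rw [conj_uu_of_upper h10]
    show uu _ * uu β = uu β * uu _
    rw [← uu_add, ← uu_add, add_comm]

theorem mem_NC_ll {β : F} (hβ : β ≠ 0) (g : SL2) : g ∈ NC (ll β) ↔ (g : M2) 0 1 = 0 := by
  rw [mem_NC_iff (isCT h2) (ll_ne_one hβ)]
  constructor
  · intro hc
    have h01 := ((commute_ll_iff hβ _).1 hc.eq).1
    rw [conj_ll_01] at h01
    have : (g : M2) 0 1 ^ 2 = 0 := by
      rcases mul_eq_zero.1 h01 with h | h
      · exact absurd (neg_eq_zero.1 h) hβ
      · exact h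
    exact pow_eq_zero_iff (two_ne_zero) |>.1 this
  · intro h01
    rw [conj_ll_of_lower h01]
    show ll _ * ll β = ll β * ll _
    rw [← ll_add, ← ll_add, add_comm]

omit h2 in
theorem mem_Cn_uu {β : F} (hβ : β ≠ 0) (g : SL2) :
    g ∈ Cn (uu β) ↔ (g : M2) 1 0 = 0 ∧ (g : M2) 0 0 = (g : M2) 1 1 := by
  rw [mem_Cn]
  exact commute_uu_iff hβ g

/-- the upper triangular group is solvable -/
theorem isSolvable_NC_uu {β : F} (hβ : β ≠ 0) : Group.IsSolvable (NC (uu β : SL2)) := by
  apply isSolvable_of_commutator_le ((Cn (uu β : SL2)).subgroupOf (NC (uu β)))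
  · intro a ha b hb
    apply Subtype.ext
    exact commute_of_mem_Cn h2 (uu_ne_one hβ) ha hb
  · rw [Subgroup.commutator_le]
    intro g _ k _
    show ((⁅g, k⁆ : NC (uu β : SL2)) : SL2) ∈ Cn (uu β)
    have e : ((⁅g, k⁆ : NC (uu β : SL2)) : SL2) = (g : SL2) * k * (g : SL2)⁻¹ * (k : SL2)⁻¹ := rfl
    rw [e, mem_Cn_uu hβ]
    have hg : ((g : SL2) : M2) 1 0 = 0 := (mem_NC_uu h2 hβ _).1 g.2
    have hk : ((k : SL2) : M2) 1 0 = 0 := (mem_NC_uu h2 hβ _).1 k.2
    have hdg := det_eq (g : SL2)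
    have hdk := det_eq (k : SL2)
    rw [hg, mul_zero, sub_zero] at hdg
    rw [hk, mul_zero, sub_zero] at hdk
    constructor
    · simp only [mul_apply_10, mul_apply_00, mul_apply_01, mul_apply_11, inv_apply_00,
        inv_apply_10, inv_apply_01, inv_apply_11, hg, hk]
      ring
    · simp only [mul_apply_10, mul_apply_00, mul_apply_01, mul_apply_11, inv_apply_00,
        inv_apply_10, inv_apply_01, inv_apply_11, hg, hk]
      ring


omit h2 in
theorem units_mul_inv (l : Fˣ) : (l : F) * ((l⁻¹ : Fˣ) : F) = 1 := Units.mul_inv l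

theorem hh_sub_ne {l : Fˣ} (ht0 : tr (hh l : SL2) ≠ 0) : (l : F) - ((l⁻¹ : Fˣ) : F) ≠ 0 := by
  intro h
  apply ht0
  rw [tr_hh]
  linear_combination h + ((l⁻¹ : Fˣ) : F) * h2

/-- the normaliser of the diagonal torus: monomial matrices -/
theorem mem_NC_hh {l : Fˣ} (ht0 : tr (hh l : SL2) ≠ 0) (g : SL2) :
    g ∈ NC (hh l) ↔ ((g : M2) 0 1 = 0 ∧ (g : M2) 1 0 = 0) ∨ ((g : M2) 0 0 = 0 ∧ (g : M2) 1 1 = 0) := by
  have hne := hh_sub_ne h2 ht0
  have hx1 : (hh l : SL2) ≠ 1 := ne_one_of_tr h2 ht0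
  constructor
  · intro hg
    rcases conj_eq_or_eq_inv h2 ht0 hg with h | h
    · left
      have hc : g * hh l = hh l * g := by
        have : g * hh l = (g * hh l * g⁻¹) * g := by group
        rw [this, h]
      have e01 := congrArg (fun z : SL2 => (z : M2) 0 1) hc
      have e10 := congrArg (fun z : SL2 => (z : M2) 1 0) hc
      simp only [mul_apply_01, mul_apply_10, hh_00, hh_01, hh_10, hh_11, mul_zero, zero_mul,
        zero_add, add_zero] at e01 e10
      constructor
      · have : (g : M2) 0 1 * ((l : F) - ((l⁻¹ : Fˣ) : F)) = 0 := by linear_combination -e01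
        exact (mul_eq_zero.1 this).resolve_right hne
      · have : (g : M2) 1 0 * ((l : F) - ((l⁻¹ : Fˣ) : F)) = 0 := by linear_combination e10
        exact (mul_eq_zero.1 this).resolve_right hne
    · right
      have hc : g * hh l = (hh l)⁻¹ * g := by
        have : g * hh l = (g * hh l * g⁻¹) * g := by group
        rw [this, h]
      have e00 := congrArg (fun z : SL2 => (z : M2) 0 0) hc
      have e11 := congrArg (fun z : SL2 => (z : M2) 1 1) hc
      simp only [mul_apply_00, mul_apply_11, inv_apply_00, inv_apply_01, inv_apply_10,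
        inv_apply_11, hh_00, hh_01, hh_10, hh_11, mul_zero, zero_mul, neg_zero,
        zero_add, add_zero] at e00 e11
      constructor
      · have : (g : M2) 0 0 * ((l : F) - ((l⁻¹ : Fˣ) : F)) = 0 := by linear_combination e00
        exact (mul_eq_zero.1 this).resolve_right hne
      · have : (g : M2) 1 1 * ((l : F) - ((l⁻¹ : Fˣ) : F)) = 0 := by linear_combination -e11
        exact (mul_eq_zero.1 this).resolve_right hne
  · rintro (⟨h01, h10⟩ | ⟨h00, h11⟩)
    · apply Cn_le_NC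
      rw [mem_Cn]
      apply sl2_ext <;>
        simp only [mul_apply_00, mul_apply_01, mul_apply_10, mul_apply_11, hh_00, hh_01, hh_10,
          hh_11, h01, h10, mul_zero, zero_mul, zero_add, add_zero]
      · ring
      · ring
    · rw [mem_NC_iff (isCT h2) hx1]
      have hd := det_eq g
      rw [h00, h11, zero_mul, zero_sub] at hd
      have hconj : g * hh l * g⁻¹ = (hh l)⁻¹ := by
        apply sl2_ext <;>
          simp only [mul_apply_00, mul_apply_01, mul_apply_10, mul_apply_11, inv_apply_00,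
            inv_apply_01, inv_apply_10, inv_apply_11, hh_00, hh_01, hh_10,
            hh_11, h00, h11, mul_zero, zero_mul, zero_add, add_zero, neg_zero]
        · linear_combination ((l⁻¹ : Fˣ) : F) * hd
        · linear_combination (l : F) * hd
      rw [hconj]
      exact (Commute.refl _).inv_left

theorem eq_uu_of_upper {a : SL2} (hta : tr a = 0) (h10 : (a : M2) 1 0 = 0) :
    a = uu ((a : M2) 0 1) := by
  have hd := det_eq2 h2 a
  rw [h10, mul_zero, add_zero] at hd
  unfold tr at hta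
  have h1 : ((a : M2) 0 0 - 1) ^ 2 = 0 := by
    linear_combination (-1 : F) * hd + (a : M2) 0 0 * hta - (a : M2) 0 0 * h2
  have h00 : (a : M2) 0 0 = 1 := sub_eq_zero.1 (pow_eq_zero_iff (two_ne_zero) |>.1 h1)
  have h11 : (a : M2) 1 1 = 1 := by
    rw [h00] at hta
    linear_combination hta - h2
  apply sl2_ext
  · rw [h00]; rfl
  · rfl
  · rw [h10]; rfl
  · rw [h11]; rfl

theorem eq_ll_of_lower {a : SL2} (hta : tr a = 0) (h01 : (a : M2) 0 1 = 0) :
    a = ll ((a : M2) 1 0) := by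
  have hd := det_eq2 h2 a
  rw [h01, zero_mul, add_zero] at hd
  unfold tr at hta
  have h1 : ((a : M2) 0 0 - 1) ^ 2 = 0 := by
    linear_combination (-1 : F) * hd + (a : M2) 0 0 * hta - (a : M2) 0 0 * h2
  have h00 : (a : M2) 0 0 = 1 := sub_eq_zero.1 (pow_eq_zero_iff (two_ne_zero) |>.1 h1)
  have h11 : (a : M2) 1 1 = 1 := by
    rw [h00] at hta
    linear_combination hta - h2
  apply sl2_ext
  · rw [h00]; rfl
  · rw [h01]; rfl
  · rfl
  · rw [h11]; rfl

/-- a Sylow `2`-subgroup normalised by a diagonal element is upper or lower unitriangular -/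
theorem invol_of_hh_mem_NC {a : SL2} (ha1 : a ≠ 1) {l : Fˣ}
    (ht0 : tr (hh l : SL2) ≠ 0) (h : hh l ∈ NC a) : (a : M2) 0 1 = 0 ∨ (a : M2) 1 0 = 0 := by
  have hc := (mem_NC_iff (isCT h2) ha1).1 h
  have e := congrArg (fun z : SL2 => (z : M2) 0 0) hc.eq
  simp only [mul_apply_00, mul_apply_01, mul_apply_10, mul_apply_11, inv_apply_00,
    inv_apply_01, inv_apply_10, inv_apply_11, hh_00, hh_01, hh_10, hh_11, mul_zero, zero_mul,
    zero_add, add_zero, neg_zero] at e
  have hne := hh_sub_ne h2 ht0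
  have hu := units_mul_inv l
  have hne2 : (l : F) + ((l⁻¹ : Fˣ) : F) ≠ 0 := by rw [← tr_hh]; exact ht0
  have : (a : M2) 0 1 * (a : M2) 1 0 * (((l : F) - ((l⁻¹ : Fˣ) : F)) * ((l : F) + ((l⁻¹ : Fˣ) : F))) = 0 := by
    linear_combination e
  rcases mul_eq_zero.1 this with h | h
  · exact mul_eq_zero.1 h
  · rcases mul_eq_zero.1 h with h | h
    · exact absurd h hne
    · exact absurd h hne2

/-- a Sylow `2`-subgroup normalised by `uu 1` is upper unitriangular -/
theorem invol_of_uu_mem_NC {a : SL2} (ha1 : a ≠ 1) (hta : tr a = 0)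
    (h : uu 1 ∈ NC a) : (a : M2) 1 0 = 0 := by
  have hc := (mem_NC_iff (isCT h2) ha1).1 h
  have e := congrArg (fun z : SL2 => (z : M2) 0 0) hc.eq
  simp only [mul_apply_00, mul_apply_01, mul_apply_10, mul_apply_11, inv_apply_00,
    inv_apply_01, inv_apply_10, inv_apply_11, uu_00, uu_01, uu_10, uu_11, mul_zero, zero_mul,
    zero_add, add_zero, neg_zero, mul_one, one_mul] at e
  unfold tr at hta
  have : (a : M2) 1 0 ^ 2 = 0 := by
    linear_combination (-1 : F) * e - (a : M2) 1 0 * hta + (a : M2) 1 0 * (a : M2) 1 1 * h2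
  exact pow_eq_zero_iff (two_ne_zero) |>.1 this

section fin

variable [Finite F]

theorem allSquares (a : F) : IsSquare a := by
  have := Fintype.ofFinite F
  obtain ⟨μ, hμ⟩ := exists_sq h2 a
  exact ⟨μ, by rw [← hμ, pow_two]⟩

/-- all involutions are conjugate to `uu 1` -/
theorem exists_conj_uu {x : SL2} (hx1 : x ≠ 1) (ht : tr x = 0) :
    ∃ s : SL2, x = s * uu 1 * s⁻¹ := by
  have hc : IsConj (uu 1 : SL2) x := by
    apply sl2_isConj_of_trace_of_allSquares (allSquares h2) _ _
      (nonScalar_of_ne_one h2 (uu_ne_one one_ne_zero)) (nonScalar_of_ne_one h2 hx1)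
    rw [trace_eq, trace_eq]
    have h1 := tr_uu (F := F) 1
    unfold tr at h1 ht
    rw [h1, ht, h2]
  obtain ⟨c, hc⟩ := isConj_iff.1 hc
  exact ⟨c, hc.symm⟩

/-- semisimple elements with an eigenvalue in `F` are conjugate to diagonal matrices -/
theorem exists_conj_hh {x : SL2} (l : Fˣ) (ht : tr x = (l : F) + ((l⁻¹ : Fˣ) : F))
    (ht0 : tr x ≠ 0) : ∃ s : SL2, x = s * hh l * s⁻¹ := by
  have hx1 : x ≠ 1 := ne_one_of_tr h2 ht0
  have hh1 : (hh l : SL2) ≠ 1 := by
    apply ne_one_of_tr h2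
    rw [tr_hh, ← ht]
    exact ht0
  have hc : IsConj (hh l : SL2) x := by
    apply sl2_isConj_of_trace_of_allSquares (allSquares h2) _ _
      (nonScalar_of_ne_one h2 hh1) (nonScalar_of_ne_one h2 hx1)
    rw [trace_eq, trace_eq]
    have h1 := tr_hh (F := F) l
    unfold tr at h1 ht
    rw [h1, ht]
  obtain ⟨c, hc⟩ := isConj_iff.1 hc
  exact ⟨c, hc.symm⟩

theorem isSolvable_NC_invol {a : SL2} (ha1 : a ≠ 1) (ht : tr a = 0) :
    Group.IsSolvable (NC a) := by
  obtain ⟨s, rfl⟩ := exists_conj_uu h2 ha1 ht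
  exact isSolvable_NC_conj s _ (isSolvable_NC_uu h2 one_ne_zero)

theorem isSolvable_NC {a : SL2} (ha1 : a ≠ 1) : Group.IsSolvable (NC a) := by
  by_cases ht : tr a = 0
  · exact isSolvable_NC_invol h2 ha1 ht
  · exact isSolvable_NC_of_tr h2 ht

/-- the solubiliser of `x ≠ 1` in `SL₂(q)`, `q` even -/
theorem mem_Sol_iff' {x y : SL2} (hx : x ≠ 1) :
    y ∈ Sol x ↔ ∃ a : SL2, a ≠ 1 ∧ x ∈ NC a ∧ y ∈ NC a :=
  mem_Sol_iff (isCT h2) (fun _ ha => isSolvable_NC h2 ha) hx

end fin

end char2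

end Cfsg.Agent.Lib.H2.PSol
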