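import Mathlib
import Cfsg.Agent.Lib.H2.PSol3

/-!
# Counting in `SL₂(q)`, `q` even: triangular, monomial and trace-zero matrices
-/

set_option autoImplicit false
set_option linter.unusedSimpArgs false

namespace Cfsg.Agent.Lib.H2.PSol

open Matrix Cfsg.Agent.Lib.H4.Dickson Cfsg.Agent.Lib.H12 Cfsg.Agent.Lib.H2.CTSol

variable {F : Type*} [Field F]

local notation "SL2" => Matrix.SpecialLinearGroup (Fin 2) F
local notation "M2" => Matrix (Fin 2) (Fin 2) F

/-- upper triangular matrices -/
def Bu : Set SL2 := {g | (g : M2) 1 0 = 0}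

/-- lower triangular matrices -/
def Bl : Set SL2 := {g | (g : M2) 0 1 = 0}

/-- antidiagonal matrices -/
def Tn : Set SL2 := {g | (g : M2) 0 0 = 0 ∧ (g : M2) 1 1 = 0}

/-- trace zero matrices -/
def I0 : Set SL2 := {g | tr g = 0}

def mkU (p : Fˣ × F) : SL2 :=
  ⟨!![(p.1 : F), p.2; 0, ((p.1⁻¹ : Fˣ) : F)], by simp [Matrix.det_fin_two_of]⟩

def mkL (p : Fˣ × F) : SL2 :=
  ⟨!![(p.1 : F), 0; p.2, ((p.1⁻¹ : Fˣ) : F)], by simp [Matrix.det_fin_two_of]⟩

def mkT (b : Fˣ) : SL2 :=
  ⟨!![0, (b : F); -((b⁻¹ : Fˣ) : F), 0], by simp [Matrix.det_fin_two_of]⟩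

theorem mkU_injective : Function.Injective (mkU : Fˣ × F → SL2) := by
  intro p p' h
  have h00 := congrArg (fun g : SL2 => (g : M2) 0 0) h
  have h01 := congrArg (fun g : SL2 => (g : M2) 0 1) h
  simp [mkU] at h00 h01
  exact Prod.ext (Units.ext h00) h01

theorem mkL_injective : Function.Injective (mkL : Fˣ × F → SL2) := by
  intro p p' h
  have h00 := congrArg (fun g : SL2 => (g : M2) 0 0) h
  have h10 := congrArg (fun g : SL2 => (g : M2) 1 0) h
  simp [mkL] at h00 h10
  exact Prod.ext (Units.ext h00) h10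

theorem mkT_injective : Function.Injective (mkT : Fˣ → SL2) := by
  intro b b' h
  have h01 := congrArg (fun g : SL2 => (g : M2) 0 1) h
  simp [mkT] at h01
  exact Units.ext h01

theorem hh_injective : Function.Injective (hh : Fˣ → SL2) := by
  intro b b' h
  have h00 := congrArg (fun g : SL2 => (g : M2) 0 0) h
  simp at h00
  exact Units.ext h00

theorem range_mkU : Set.range (mkU : Fˣ × F → SL2) = Bu := by
  ext g
  constructor
  · rintro ⟨p, rfl⟩
    show ((mkU p : SL2) : M2) 1 0 = 0
    simp [mkU]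
  · intro hg
    have h10 : (g : M2) 1 0 = 0 := hg
    have hd := det_eq g
    rw [h10, mul_zero, sub_zero] at hd
    have h0 : (g : M2) 0 0 ≠ 0 := by
      intro h; rw [h, zero_mul] at hd; exact zero_ne_one hd
    refine ⟨(Units.mk0 _ h0, (g : M2) 0 1), ?_⟩
    apply sl2_ext
    · simp [mkU]
    · simp [mkU]
    · simp [mkU, h10]
    · simp [mkU]
      field_simp
      linear_combination -hd

theorem range_mkL : Set.range (mkL : Fˣ × F → SL2) = Bl := by
  ext g
  constructor
  · rintro ⟨p, rfl⟩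
    show ((mkL p : SL2) : M2) 0 1 = 0
    simp [mkL]
  · intro hg
    have h01 : (g : M2) 0 1 = 0 := hg
    have hd := det_eq g
    rw [h01, zero_mul, sub_zero] at hd
    have h0 : (g : M2) 0 0 ≠ 0 := by
      intro h; rw [h, zero_mul] at hd; exact zero_ne_one hd
    refine ⟨(Units.mk0 _ h0, (g : M2) 1 0), ?_⟩
    apply sl2_ext
    · simp [mkL]
    · simp [mkL, h01]
    · simp [mkL]
    · simp [mkL]
      field_simp
      linear_combination -hd

theorem range_mkT : Set.range (mkT : Fˣ → SL2) = Tn := by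
  ext g
  constructor
  · rintro ⟨p, rfl⟩
    show ((mkT p : SL2) : M2) 0 0 = 0 ∧ ((mkT p : SL2) : M2) 1 1 = 0
    simp [mkT]
  · rintro ⟨h00, h11⟩
    have hd := det_eq g
    rw [h00, zero_mul, zero_sub] at hd
    have h0 : (g : M2) 0 1 ≠ 0 := by
      intro h; rw [h, zero_mul, neg_zero] at hd; exact zero_ne_one hd
    refine ⟨Units.mk0 _ h0, ?_⟩
    apply sl2_ext
    · simp [mkT, h00]
    · simp [mkT]
    · simp [mkT]
      field_simp
      linear_combination hd
    · simp [mkT, h11]

theorem range_hh : Set.range (hh : Fˣ → SL2) = Bu ∩ Bl := by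
  ext g
  constructor
  · rintro ⟨p, rfl⟩
    exact ⟨rfl, rfl⟩
  · rintro ⟨h10, h01⟩
    have h10' : (g : M2) 1 0 = 0 := h10
    have h01' : (g : M2) 0 1 = 0 := h01
    have hd := det_eq g
    rw [h10', mul_zero, sub_zero] at hd
    have h0 : (g : M2) 0 0 ≠ 0 := by
      intro h; rw [h, zero_mul] at hd; exact zero_ne_one hd
    refine ⟨Units.mk0 _ h0, ?_⟩
    apply sl2_ext
    · simp
    · simp [h01']
    · simp [h10']
    · simp
      field_simp
      linear_combination -hd

section fin

variable [Fintype F]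

theorem card_units' : Nat.card Fˣ = Fintype.card F - 1 := by
  rw [Nat.card_units, Nat.card_eq_fintype_card]

theorem ncard_Bu : (Bu : Set SL2).ncard = (Fintype.card F - 1) * Fintype.card F := by
  rw [← range_mkU, Set.ncard_range_of_injective mkU_injective, Nat.card_prod, card_units',
    Nat.card_eq_fintype_card]

theorem ncard_Bl : (Bl : Set SL2).ncard = (Fintype.card F - 1) * Fintype.card F := by
  rw [← range_mkL, Set.ncard_range_of_injective mkL_injective, Nat.card_prod, card_units',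
    Nat.card_eq_fintype_card]

theorem ncard_Tn : (Tn : Set SL2).ncard = Fintype.card F - 1 := by
  rw [← range_mkT, Set.ncard_range_of_injective mkT_injective, card_units']

theorem ncard_Dg : (Bu ∩ Bl : Set SL2).ncard = Fintype.card F - 1 := by
  rw [← range_hh, Set.ncard_range_of_injective hh_injective, card_units']

omit [Fintype F] in
theorem disjoint_Tn : Disjoint (Bu ∪ Bl : Set SL2) Tn := by
  rw [Set.disjoint_left]
  rintro g (hg | hg) ⟨h00, h11⟩
  · have h10 : (g : M2) 1 0 = 0 := hg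
    have hd := det_eq g
    rw [h00, h10, zero_mul, mul_zero, sub_zero] at hd
    exact zero_ne_one hd
  · have h01 : (g : M2) 0 1 = 0 := hg
    have hd := det_eq g
    rw [h00, h01, zero_mul, zero_mul, sub_zero] at hd
    exact zero_ne_one hd

/-- the size of the solubiliser of a split semisimple element -/
theorem ncard_split : (Bu ∪ Bl ∪ Tn : Set SL2).ncard = 2 * Fintype.card F * (Fintype.card F - 1) := by
  have hfin : ∀ s : Set SL2, s.Finite := fun s => Set.toFinite s
  rw [Set.ncard_union_eq disjoint_Tn (hfin _) (hfin _), ncard_Tn]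
  have h1 := Set.ncard_union_add_ncard_inter (Bu : Set SL2) Bl (hfin _) (hfin _)
  rw [ncard_Bu, ncard_Bl, ncard_Dg] at h1
  have hq : 1 ≤ Fintype.card F := Fintype.card_pos
  obtain ⟨j, hj⟩ : ∃ j, Fintype.card F = j + 1 := ⟨Fintype.card F - 1, by omega⟩
  rw [hj] at h1 ⊢
  simp only [Nat.add_sub_cancel] at h1 ⊢
  have : (Bu ∪ Bl : Set SL2).ncard = j * (j + 1) + j * (j + 1) - j := by omega
  rw [this]
  have h3 : j ≤ j * (j + 1) := Nat.le_mul_of_pos_right j (by omega)
  have : 2 * (j + 1) * j = j * (j + 1) + j * (j + 1) := by ring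
  omega


section char2

variable (h2 : (2 : F) = 0)

include h2

/-- a square root (the field is finite of characteristic two) -/
noncomputable def sqrtF (c : F) : F := Classical.choose (exists_sq h2 c)

theorem sqrtF_sq (c : F) : sqrtF h2 c ^ 2 = c := Classical.choose_spec (exists_sq h2 c)

omit [Fintype F] in
theorem sq_inj {a b : F} (h : a ^ 2 = b ^ 2) : a = b := by
  have : (a - b) ^ 2 = 0 := by linear_combination h - (a * b - b ^ 2) * h2
  exact sub_eq_zero.1 (pow_eq_zero_iff (two_ne_zero) |>.1 this)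

/-- the trace zero matrix with given off-diagonal entries -/
noncomputable def mkI (p : F × F) : SL2 :=
  ⟨!![sqrtF h2 (1 + p.1 * p.2), p.1; p.2, sqrtF h2 (1 + p.1 * p.2)], by
    rw [Matrix.det_fin_two_of, ← pow_two, sqrtF_sq]; ring⟩

theorem mkI_injective : Function.Injective (mkI h2 : F × F → SL2) := by
  intro p p' h
  have h01 := congrArg (fun g : SL2 => (g : M2) 0 1) h
  have h10 := congrArg (fun g : SL2 => (g : M2) 1 0) h
  simp [mkI] at h01 h10
  exact Prod.ext h01 h10

theorem range_mkI : Set.range (mkI h2 : F × F → SL2) = I0 := by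
  ext g
  constructor
  · rintro ⟨p, rfl⟩
    show tr (mkI h2 p) = 0
    unfold tr
    simp [mkI]
    rw [← two_mul, h2, zero_mul]
  · intro hg
    have ht : (g : M2) 0 0 + (g : M2) 1 1 = 0 := hg
    have hd := det_eq2 h2 g
    have h11 : (g : M2) 1 1 = (g : M2) 0 0 := by
      linear_combination ht - (g : M2) 0 0 * h2
    have hs : sqrtF h2 (1 + (g : M2) 0 1 * (g : M2) 1 0) = (g : M2) 0 0 := by
      apply sq_inj h2
      rw [sqrtF_sq]
      rw [h11] at hd
      linear_combination (-1 : F) * hd + ((g : M2) 0 1 * (g : M2) 1 0) * h2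
    refine ⟨((g : M2) 0 1, (g : M2) 1 0), ?_⟩
    apply sl2_ext
    · simp [mkI, hs]
    · simp [mkI]
    · simp [mkI]
    · simp [mkI, hs, h11]

theorem ncard_I0 : (I0 : Set SL2).ncard = Fintype.card F ^ 2 := by
  rw [← range_mkI h2, Set.ncard_range_of_injective (mkI_injective h2), Nat.card_prod,
    Nat.card_eq_fintype_card, pow_two]

omit [Fintype F] in
theorem range_uu : Set.range (uu : F → SL2) = Bu ∩ I0 := by
  ext g
  constructor
  · rintro ⟨β, rfl⟩
    refine ⟨rfl, ?_⟩
    show tr (uu β) = 0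
    rw [tr_uu, h2]
  · rintro ⟨h10, ht⟩
    exact ⟨(g : M2) 0 1, (eq_uu_of_upper h2 ht h10).symm⟩

theorem ncard_Bu_inter_I0 : (Bu ∩ I0 : Set SL2).ncard = Fintype.card F := by
  rw [← range_uu h2, Set.ncard_range_of_injective uu_injective, Nat.card_eq_fintype_card]

/-- elements with non-zero trace inverted by `uu 1` -/
def Rr : Set SL2 := {y | tr y ≠ 0 ∧ uu 1 * y * (uu 1)⁻¹ = y⁻¹}

omit [Fintype F] in
theorem uu_one_inv : ((uu 1 : SL2))⁻¹ = uu 1 := by
  rw [inv_eq_iff_mul_eq_one, ← uu_add]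
  have : (1 : F) + 1 = 0 := by rw [← two_mul, h2, zero_mul]
  rw [this, uu_zero]

omit [Fintype F] in
/-- the translates of the trace zero matrices -/
theorem Rr_union : (Rr ∪ Set.range (uu : F → SL2) : Set SL2) = (fun z => uu 1 * z) '' I0 := by
  have hxi := uu_one_inv h2
  have hxx : (uu 1 : SL2) * uu 1 = 1 := inv_eq_iff_mul_eq_one.1 hxi
  ext y
  constructor
  · rintro (⟨hty, hinv⟩ | ⟨β, rfl⟩)
    · refine ⟨uu 1 * y, ?_, ?_⟩
      · show tr (uu 1 * y) = 0
        rw [← mul_self_eq_one_iff h2]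
        have : uu 1 * y * (uu 1 * y) = (uu 1 * y * (uu 1)⁻¹) * (uu 1 * uu 1) * y := by group
        rw [this, hinv, hxx]; group
      · show uu 1 * (uu 1 * y) = y
        rw [← mul_assoc, hxx, one_mul]
    · refine ⟨uu 1 * uu β, ?_, ?_⟩
      · show tr (uu 1 * uu β) = 0
        rw [← uu_add, tr_uu, h2]
      · show uu 1 * (uu 1 * uu β) = uu β
        rw [← mul_assoc, hxx, one_mul]
  · rintro ⟨z, hz, rfl⟩
    have hz0 : tr z = 0 := hz
    have hzz : z * z = 1 := (mul_self_eq_one_iff h2 z).2 hz0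
    by_cases hty : tr (uu 1 * z) = 0
    · right
      have hyy : uu 1 * z * (uu 1 * z) = 1 := (mul_self_eq_one_iff h2 _).2 hty
      -- `z` commutes with `uu 1`
      have hcomm : z * uu 1 = uu 1 * z := by
        have e1 : z * uu 1 = (uu 1 * uu 1) * (z * uu 1) * (z * z) := by rw [hxx, hzz]; group
        have e2 : (uu 1 * uu 1) * (z * uu 1) * (z * z) = uu 1 * (uu 1 * z * (uu 1 * z)) * z := by group
        rw [e1, e2, hyy]; group
      obtain ⟨h10, h00⟩ := (commute_uu_iff one_ne_zero z).1 hcomm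
      have hz' := eq_uu_of_upper h2 hz0 h10
      refine ⟨1 + (z : M2) 0 1, ?_⟩
      show uu (1 + (z : M2) 0 1) = uu 1 * z
      rw [uu_add, ← hz']
    · left
      refine ⟨hty, ?_⟩
      show uu 1 * (uu 1 * z) * (uu 1)⁻¹ = (uu 1 * z)⁻¹
      rw [hxi, ← mul_assoc, hxx, one_mul, _root_.mul_inv_rev, hxi]
      have : z⁻¹ = z := inv_eq_iff_mul_eq_one.2 hzz
      rw [this]

omit [Fintype F] in
theorem disjoint_Rr_uu : Disjoint (Rr : Set SL2) (Set.range (uu : F → SL2)) := by
  rw [Set.disjoint_left]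
  rintro y ⟨hty, -⟩ ⟨β, rfl⟩
  apply hty
  rw [tr_uu, h2]

theorem ncard_Rr : (Rr : Set SL2).ncard + Fintype.card F = Fintype.card F ^ 2 := by
  have hfin : ∀ s : Set SL2, s.Finite := fun s => Set.toFinite s
  have h1 := Set.ncard_union_eq (disjoint_Rr_uu h2) (hfin _) (hfin _)
  rw [Rr_union h2, Set.ncard_image_of_injective _ (mul_right_injective _), ncard_I0 h2,
    Set.ncard_range_of_injective uu_injective, Nat.card_eq_fintype_card] at h1
  exact h1.symm

omit [Fintype F] in
theorem disjoint_Rr : Disjoint (Bu ∪ I0 : Set SL2) Rr := by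
  rw [Set.disjoint_left]
  rintro y (hy | hy) ⟨hty, hinv⟩
  · have h10 : (y : M2) 1 0 = 0 := hy
    have e := congrArg (fun z : SL2 => (z : M2) 0 0) hinv
    simp only [mul_apply_00, mul_apply_01, mul_apply_10, mul_apply_11, inv_apply_00,
      inv_apply_01, inv_apply_10, inv_apply_11, uu_00, uu_01, uu_10, uu_11, h10, mul_zero,
      zero_mul, add_zero, one_mul, mul_one, neg_zero] at e
    apply hty
    unfold tr
    rw [e, ← two_mul, h2, zero_mul]
  · exact hty hy

/-- the size of the solubiliser of an involution -/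
theorem ncard_invol : (Bu ∪ I0 ∪ Rr : Set SL2).ncard =
    3 * Fintype.card F * (Fintype.card F - 1) := by
  have hfin : ∀ s : Set SL2, s.Finite := fun s => Set.toFinite s
  rw [Set.ncard_union_eq (disjoint_Rr h2) (hfin _) (hfin _)]
  have h1 := Set.ncard_union_add_ncard_inter (Bu : Set SL2) I0 (hfin _) (hfin _)
  rw [ncard_Bu, ncard_I0 h2, ncard_Bu_inter_I0 h2] at h1
  have h3 := ncard_Rr h2
  obtain ⟨j, hj⟩ : ∃ j, Fintype.card F = j + 1 := ⟨Fintype.card F - 1, by
    have : 1 ≤ Fintype.card F := Fintype.card_pos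
    omega⟩
  rw [hj] at h1 h3 ⊢
  simp only [Nat.add_sub_cancel] at h1 ⊢
  have e1 : (j + 1) ^ 2 = j * (j + 1) + (j + 1) := by ring
  have e2 : 3 * (j + 1) * j = j * (j + 1) + j * (j + 1) + j * (j + 1) := by ring
  rw [e1] at h1 h3
  omega

end char2

end fin

end Cfsg.Agent.Lib.H2.PSol
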