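import Mathlib
import Cfsg.Agent.Lib.H2.PSol4

/-!
# The solubilisers in `SL₂(q)`, `q` even
-/

set_option autoImplicit false
set_option linter.unusedSimpArgs false

namespace Cfsg.Agent.Lib.H2.PSol

open Matrix Cfsg.Agent.Lib.H4.Dickson Cfsg.Agent.Lib.H12 Cfsg.Agent.Lib.H2.CTSol

variable {F : Type*} [Field F]

local notation "SL2" => Matrix.SpecialLinearGroup (Fin 2) F
local notation "M2" => Matrix (Fin 2) (Fin 2) F

section char2

variable [Fintype F] (h2 : (2 : F) = 0)

include h2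

omit [Fintype F] h2 in
theorem one_mem_Bu : (1 : SL2) ∈ (Bu : Set SL2) := by
  show ((1 : SL2) : M2) 1 0 = 0
  simp

/-- the solubiliser of the involution `uu 1` -/
theorem Sol_uu : Sol (uu 1 : SL2) = Bu ∪ I0 ∪ Rr := by
  have hx1 : (uu 1 : SL2) ≠ 1 := uu_ne_one one_ne_zero
  have htx : tr (uu 1 : SL2) = 0 := by rw [tr_uu, h2]
  have hxi := uu_one_inv h2
  have hxx : (uu 1 : SL2) * uu 1 = 1 := inv_eq_iff_mul_eq_one.1 hxi
  ext y
  rw [mem_Sol_iff' h2 hx1]
  constructor
  · rintro ⟨a, ha1, hxa, hya⟩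
    by_cases hta : tr a = 0
    · have h10 := invol_of_uu_mem_NC h2 ha1 hta hxa
      have ea := eq_uu_of_upper h2 hta h10
      have hβ : (a : M2) 0 1 ≠ 0 := by
        intro h0
        apply ha1
        rw [ea, h0, uu_zero]
      rw [ea] at hya
      exact Or.inl (Or.inl ((mem_NC_uu h2 hβ y).1 hya))
    · have hxC : uu 1 ∉ Cn a := fun hc => (tr_ne_zero_of_mem_Cn h2 hta hc hx1) htx
      by_cases hyC : y ∈ Cn a
      · by_cases hy1 : y = 1
        · rw [hy1]
          exact Or.inl (Or.inl one_mem_Bu)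
        · exact Or.inr ⟨tr_ne_zero_of_mem_Cn h2 hta hyC hy1, conj_inv_of_mem h2 hta hxa hxC hyC⟩
      · have := (mul_self_of_mem_NC h2 hta hya hyC).1
        exact Or.inl (Or.inr ((mul_self_eq_one_iff h2 y).1 this))
  · rintro ((hy | hy) | hy)
    · exact ⟨uu 1, hx1, self_mem_NC _, (mem_NC_uu h2 one_ne_zero y).2 hy⟩
    · by_cases h10 : (y : M2) 1 0 = 0
      · exact ⟨uu 1, hx1, self_mem_NC _, (mem_NC_uu h2 one_ne_zero y).2 h10⟩
      · have hyy : y * y = 1 := (mul_self_eq_one_iff h2 y).2 hy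
        have hyi : y⁻¹ = y := inv_eq_iff_mul_eq_one.2 hyy
        have htz : tr (uu 1 * y) ≠ 0 := by
          intro h0
          have hzz : uu 1 * y * (uu 1 * y) = 1 := (mul_self_eq_one_iff h2 _).2 h0
          have hcomm : y * uu 1 = uu 1 * y := by
            have e1 : y * uu 1 = (uu 1 * uu 1) * (y * uu 1) * (y * y) := by rw [hxx, hyy]; group
            have e2 : (uu 1 * uu 1) * (y * uu 1) * (y * y) = uu 1 * (uu 1 * y * (uu 1 * y)) * y := by
              group
            rw [e1, e2, hzz]; group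
          exact h10 ((commute_uu_iff one_ne_zero y).1 hcomm).1
        have hz1 : uu 1 * y ≠ 1 := ne_one_of_tr h2 htz
        have hxz : uu 1 ∈ NC (uu 1 * y) := by
          rw [mem_NC_iff (isCT h2) hz1]
          have : uu 1 * (uu 1 * y) * (uu 1)⁻¹ = (uu 1 * y)⁻¹ := by
            rw [hxi, ← mul_assoc, hxx, one_mul, _root_.mul_inv_rev, hxi, hyi]
          rw [this]
          exact (Commute.refl _).inv_left
        refine ⟨uu 1 * y, hz1, hxz, ?_⟩
        have hy' : uu 1 * (uu 1 * y) ∈ NC (uu 1 * y) := (NC _).mul_mem hxz (self_mem_NC _)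
        rwa [← mul_assoc, hxx, one_mul] at hy'
    · refine ⟨y, ne_one_of_tr h2 hy.1, ?_, self_mem_NC y⟩
      rw [mem_NC_iff (isCT h2) (ne_one_of_tr h2 hy.1), hy.2]
      exact (Commute.refl y).inv_left

/-- the solubiliser of a diagonal element -/
theorem Sol_hh {l : Fˣ} (ht0 : tr (hh l : SL2) ≠ 0) : Sol (hh l : SL2) = Bu ∪ Bl ∪ Tn := by
  have hx1 : (hh l : SL2) ≠ 1 := ne_one_of_tr h2 ht0
  ext y
  rw [mem_Sol_iff' h2 hx1]
  constructor
  · rintro ⟨a, ha1, hxa, hya⟩
    by_cases hta : tr a = 0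
    · rcases invol_of_hh_mem_NC h2 ha1 ht0 hxa with h01 | h10
      · have ea := eq_ll_of_lower h2 hta h01
        have hβ : (a : M2) 1 0 ≠ 0 := by
          intro h0
          apply ha1
          rw [ea, h0, ll_zero]
        rw [ea] at hya
        exact Or.inl (Or.inr ((mem_NC_ll h2 hβ y).1 hya))
      · have ea := eq_uu_of_upper h2 hta h10
        have hβ : (a : M2) 0 1 ≠ 0 := by
          intro h0
          apply ha1
          rw [ea, h0, uu_zero]
        rw [ea] at hya
        exact Or.inl (Or.inl ((mem_NC_uu h2 hβ y).1 hya))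
    · have hxC : hh l ∈ Cn a := by
        by_contra hxC
        have := (mul_self_of_mem_NC h2 hta hxa hxC).1
        exact ht0 ((mul_self_eq_one_iff h2 _).1 this)
      have hNC : NC a = NC (hh l) := NC_eq (isCT h2) ha1 hx1 (mem_Cn.1 hxC).symm
      rw [hNC, mem_NC_hh h2 ht0] at hya
      rcases hya with ⟨-, h10⟩ | h
      · exact Or.inl (Or.inl h10)
      · exact Or.inr h
  · rintro ((hy | hy) | hy)
    · exact ⟨uu 1, uu_ne_one one_ne_zero, (mem_NC_uu h2 one_ne_zero _).2 rfl,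
        (mem_NC_uu h2 one_ne_zero y).2 hy⟩
    · exact ⟨ll 1, ll_ne_one one_ne_zero, (mem_NC_ll h2 one_ne_zero _).2 rfl,
        (mem_NC_ll h2 one_ne_zero y).2 hy⟩
    · exact ⟨hh l, hx1, self_mem_NC _, (mem_NC_hh h2 ht0 y).2 (Or.inr hy)⟩

omit [Fintype F] in
theorem tr_ne_zero_of_noroot {x : SL2} (hno : ∀ l : F, l ^ 2 + tr x * l + 1 ≠ 0) : tr x ≠ 0 := by
  intro h0
  apply hno 1
  rw [h0]
  linear_combination h2

/-- the solubiliser of a non-split element is its torus normaliser -/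
theorem Sol_nonsplit {x : SL2} (hno : ∀ l : F, l ^ 2 + tr x * l + 1 ≠ 0) :
    Sol x = ((NC x : Subgroup SL2) : Set SL2) := by
  have ht := tr_ne_zero_of_noroot h2 hno
  have hx1 : x ≠ 1 := ne_one_of_tr h2 ht
  ext y
  rw [mem_Sol_iff' h2 hx1]
  constructor
  · rintro ⟨a, ha1, hxa, hya⟩
    by_cases hta : tr a = 0
    · exfalso
      obtain ⟨s, rfl⟩ := exists_conj_uu h2 ha1 hta
      have hx' : s⁻¹ * x * s ∈ NC (uu 1 : SL2) := by
        rw [← mem_NC_conj (g := s)]
        have : s * (s⁻¹ * x * s) * s⁻¹ = x := by group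
        rw [this]
        exact hxa
      have h10 := (mem_NC_uu h2 one_ne_zero _).1 hx'
      have htr : tr (s⁻¹ * x * s) = tr x := by
        have := tr_conj s⁻¹ x
        rwa [inv_inv] at this
      have hd := det_eq2 h2 (s⁻¹ * x * s)
      rw [h10, mul_zero, add_zero] at hd
      apply hno (((s⁻¹ * x * s : SL2) : M2) 0 0)
      rw [← htr]
      unfold tr
      linear_combination hd + ((((s⁻¹ * x * s : SL2) : M2) 0 0) ^ 2 + 1) * h2
    · have hxC : x ∈ Cn a := by
        by_contra hxC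
        have := (mul_self_of_mem_NC h2 hta hxa hxC).1
        exact ht ((mul_self_eq_one_iff h2 _).1 this)
      have hNC : NC a = NC x := NC_eq (isCT h2) ha1 hx1 (mem_Cn.1 hxC).symm
      rw [hNC] at hya
      exact hya
  · intro hy
    exact ⟨x, hx1, self_mem_NC x, hy⟩


omit [Fintype F] h2 in
theorem hh_mul (a b : Fˣ) : (hh (a * b) : SL2) = hh a * hh b := by
  apply sl2_ext <;>
    simp only [mul_apply_00, mul_apply_01, mul_apply_10, mul_apply_11, hh_00, hh_01, hh_10, hh_11,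
      mul_zero, zero_mul, add_zero, zero_add, Units.val_mul, _root_.mul_inv_rev]
  rw [mul_comm]

omit [Fintype F] h2 in
theorem hh_one : (hh (1 : Fˣ) : SL2) = 1 := by
  apply sl2_ext <;> simp

omit [Fintype F] h2 in
theorem hh_pow (a : Fˣ) (n : ℕ) : (hh (a ^ n) : SL2) = (hh a) ^ n := by
  induction n with
  | zero => simp [hh_one]
  | succ n ih => rw [pow_succ, hh_mul, ih, pow_succ]

omit [Fintype F] h2 in
theorem eq_one_of_odd_pow {G : Type*} [Group G] {x : G} (hxx : x * x = 1) {n : ℕ} (hn : Odd n)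
    (hpow : x ^ n = 1) : x = 1 := by
  obtain ⟨k, rfl⟩ := hn
  rw [pow_succ, pow_mul, pow_two, hxx, one_pow, one_mul] at hpow
  exact hpow

omit [Fintype F] in
theorem root_units {x : SL2} {l : F} (hl : l ^ 2 + tr x * l + 1 = 0) :
    ∃ lu : Fˣ, tr x = (lu : F) + ((lu⁻¹ : Fˣ) : F) := by
  have hl0 : l ≠ 0 := by
    rintro rfl
    simp at hl
  refine ⟨Units.mk0 l hl0, ?_⟩
  rw [Units.val_inv_eq_inv_val, Units.val_mk0]
  field_simp
  linear_combination hl - (l ^ 2 + 1) * h2

/-- involutions -/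
theorem ncard_Sol_invol {x : SL2} (hx1 : x ≠ 1) (hxx : x * x = 1) :
    (Sol x).ncard = 3 * Fintype.card F * (Fintype.card F - 1) := by
  have ht : tr x = 0 := (mul_self_eq_one_iff h2 x).1 hxx
  obtain ⟨s, rfl⟩ := exists_conj_uu h2 hx1 ht
  rw [ncard_Sol_conj, Sol_uu h2, ncard_invol h2]

omit [Fintype F] in
theorem tr_ne_zero_of_odd_pow {x : SL2} (hx1 : x ≠ 1) {n : ℕ} (hn : Odd n) (hpow : x ^ n = 1) :
    tr x ≠ 0 := by
  intro h0
  exact hx1 (eq_one_of_odd_pow ((mul_self_eq_one_iff h2 x).2 h0) hn hpow)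

omit [Fintype F] h2 in
theorem mul_self_of_pows {x : SL2} {q : ℕ} (hq : 1 ≤ q) (h1 : x ^ (q - 1) = 1)
    (h2' : x ^ (q + 1) = 1) : x * x = 1 := by
  have : q + 1 = (q - 1) + 2 := by omega
  rw [this, pow_add, h1, one_mul, pow_two] at h2'
  exact h2'

/-- elements of order dividing `q + 1` -/
theorem ncard_Sol_nonsplit {x : SL2} (hq : Even (Fintype.card F)) (hx1 : x ≠ 1)
    (hpow : x ^ (Fintype.card F + 1) = 1) :
    (Sol x).ncard = 2 * (Fintype.card F + 1) := by
  have hodd : Odd (Fintype.card F + 1) := hq.add_one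
  have ht : tr x ≠ 0 := tr_ne_zero_of_odd_pow h2 hx1 hodd hpow
  have hno : ∀ l : F, l ^ 2 + tr x * l + 1 ≠ 0 := by
    intro l hl
    obtain ⟨lu, hlu⟩ := root_units h2 hl
    obtain ⟨s, hs⟩ := exists_conj_hh h2 lu hlu ht
    have hp : x ^ (Fintype.card F - 1) = 1 := by
      rw [hs, conj_pow, ← hh_pow]
      have : lu ^ (Fintype.card F - 1) = 1 := by
        rw [← card_units']
        exact pow_card_eq_one'
      rw [this, hh_one]
      group
    have hxx := mul_self_of_pows Fintype.card_pos hp hpow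
    exact ht ((mul_self_eq_one_iff h2 x).1 hxx)
  rw [Sol_nonsplit h2 hno, ncard_NC_nonsplit h2 hno]

/-- elements of order dividing `q - 1` -/
theorem ncard_Sol_split {x : SL2} (hq : Even (Fintype.card F)) (hx1 : x ≠ 1)
    (hpow : x ^ (Fintype.card F - 1) = 1) :
    (Sol x).ncard = 2 * Fintype.card F * (Fintype.card F - 1) := by
  have hpos : 1 ≤ Fintype.card F := Fintype.card_pos
  have hodd : Odd (Fintype.card F - 1) := by
    obtain ⟨k, hk⟩ := hq
    exact ⟨k - 1, by omega⟩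
  have ht : tr x ≠ 0 := tr_ne_zero_of_odd_pow h2 hx1 hodd hpow
  have hroot : ∃ l : F, l ^ 2 + tr x * l + 1 = 0 := by
    by_contra hcon
    push Not at hcon
    have hcard := ncard_Cn_nonsplit h2 hcon
    have hp : x ^ (Fintype.card F + 1) = 1 := by
      have h1 : (⟨x, self_mem_Cn x⟩ : Cn x) ^ Nat.card (Cn x) = 1 := pow_card_eq_one'
      have h3 : Nat.card (Cn x) = Fintype.card F + 1 := by
        rw [← hcard]
        exact (Nat.card_coe_set_eq _)
      rw [h3] at h1
      have := congrArg Subtype.val h1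
      simpa using this
    have hxx := mul_self_of_pows hpos hpow hp
    exact ht ((mul_self_eq_one_iff h2 x).1 hxx)
  obtain ⟨l, hl⟩ := hroot
  obtain ⟨lu, hlu⟩ := root_units h2 hl
  obtain ⟨s, rfl⟩ := exists_conj_hh h2 lu hlu ht
  have ht0 : tr (hh lu : SL2) ≠ 0 := by
    rw [tr_hh, ← hlu]; exact ht
  rw [ncard_Sol_conj, Sol_hh h2 ht0, ncard_split]

end char2

end Cfsg.Agent.Lib.H2.PSol
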