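import Mathlib
import Cfsg.Agent.Lib.H28.PSp4Defs

/-!
# S5320 farm-out (architect helper28), piece N1 (helper2): the centralizer of `Φ(-1,1)` in `Sp₄(F)` is `SL₂ × SL₂`
-/

set_option autoImplicit false

namespace Cfsg.Agent.Lib.H2.PSp4

open Matrix Cfsg.Agent.Lib.H9.SqC Cfsg.Agent.Lib.H28.PSp4

variable {F : Type*} [Field F]

/-- a `2 × 2` matrix with `A * adj A = 1` has determinant one -/
theorem det_eq_one_of_mul_adjugate {A : Matrix (Fin 2) (Fin 2) F} (h : A * A.adjugate = 1) :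
    A.det = 1 := by
  rw [Matrix.mul_adjugate] at h
  have := congrFun (congrFun h 0) 0
  simpa using this

/-- **N1**. -/
theorem exists_Ph_of_comm (h2 : (2 : F) ≠ 0) (g : Sp4 F)
    (hg : g * Ph (-1) 1 = Ph (-1) 1 * g) : ∃ a b : SL2 F, g = Ph a b := by
  obtain ⟨A, B, C, D, hABCD⟩ := exists_bm g.1
  have hz : (Ph (-1 : SL2 F) 1).1 = bm (-1) 0 0 1 := by
    rw [Ph_val]
    rfl
  have h1 := congrArg Subtype.val hg
  have h1' : g.1 * (Ph (-1 : SL2 F) 1).1 = (Ph (-1 : SL2 F) 1).1 * g.1 := h1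
  rw [hz, hABCD, bm_mul, bm_mul] at h1'
  obtain ⟨-, hB, hC, -⟩ := bm_inj h1'
  have hB0 : B = 0 := by
    have e : B = -B := by simpa using hB
    have e2 : (2 : F) • B = 0 := by
      rw [two_smul]
      nth_rewrite 2 [e]
      exact add_neg_cancel B
    exact (smul_eq_zero.1 e2).resolve_left h2
  have hC0 : C = 0 := by
    have e : -C = C := by simpa using hC
    have e2 : (2 : F) • C = 0 := by
      rw [two_smul]
      nth_rewrite 1 [← e]
      exact neg_add_cancel C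
    exact (smul_eq_zero.1 e2).resolve_left h2
  have hmem : bm A B C D ∈ Matrix.symplecticGroup (Fin 2) F := by
    rw [← hABCD]
    exact g.2
  rw [bm_mem_iff, hB0, hC0] at hmem
  obtain ⟨hA, -, -, hD⟩ := hmem
  simp only [Matrix.zero_mul, add_zero, zero_add] at hA hD
  let a : SL2 F := ⟨A, det_eq_one_of_mul_adjugate hA⟩
  let b : SL2 F := ⟨D, det_eq_one_of_mul_adjugate hD⟩
  refine ⟨a, b, ?_⟩
  apply Subtype.ext
  rw [Ph_val a b, hABCD, hB0, hC0]

end Cfsg.Agent.Lib.H2.PSp4
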