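import Mathlib
import Cfsg.Agent.Lib.H28.PSp4Defs
import Cfsg.Agent.Lib.H12.SL2Reg

/-!
# S5320 farm-out (architect helper28), piece N2 (helper2): `N(St Q) = St Q · Δ(N(Q))`
-/

set_option autoImplicit false

namespace Cfsg.Agent.Lib.H2.PSp4

open Matrix Cfsg.Agent.Lib.H9.SqC Cfsg.Agent.Lib.H28.PSp4 Cfsg.Agent.Lib.H12

variable {F : Type*} [Field F]

theorem Ph_neg_one_one_sq {x : SL2 F} (hxx : x * x = -1) : Ph x 1 * Ph x 1 = Ph (-1 : SL2 F) 1 := by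
  rw [Ph_mul, hxx, mul_one]

theorem neg_one_ne_one (h2 : (2 : F) ≠ 0) : (-1 : SL2 F) ≠ 1 := by
  intro h
  have h1 := congrArg (fun y : SL2 F => (y : Matrix (Fin 2) (Fin 2) F) 0 0) h
  simp only [Matrix.SpecialLinearGroup.coe_neg, Matrix.SpecialLinearGroup.coe_one,
    Matrix.neg_apply, Matrix.one_apply_eq] at h1
  apply h2
  have : (2 : F) = 1 - (-1) := by ring
  rw [this, h1, sub_self]

/-- **N2**. -/
theorem normalizer_St (h2 : (2 : F) ≠ 0) {Q : Subgroup (SL2 F)} {x : SL2 F} (hxQ : x ∈ Q)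
    (hxx : x * x = -1)
    (hN1 : ∀ g : Sp4 F, g * Ph (-1) 1 = Ph (-1) 1 * g → ∃ a b : SL2 F, g = Ph a b)
    (g : Sp4 F) (hg : g ∈ Subgroup.normalizer (St Q : Set (Sp4 F))) :
    ∃ s ∈ St Q, ∃ k ∈ Subgroup.normalizer (Q : Set (SL2 F)), g = s * Ph k k := by
  have hn1 : (-1 : SL2 F) ≠ 1 := neg_one_ne_one h2
  have hnn : (-1 : SL2 F) * (-1) = 1 := by simp
  -- the conjugate of `Φ(-1,1)` is `Φ(-1,1)` or `Φ(1,-1)`
  have ht : g * Ph x 1 * g⁻¹ ∈ St Q :=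
    (Subgroup.mem_normalizer_iff.1 hg _).1 (Ph_mem_St.2 ⟨hxQ, Q.one_mem⟩)
  have hsq : (g * Ph x 1 * g⁻¹) * (g * Ph x 1 * g⁻¹) = g * Ph (-1) 1 * g⁻¹ := by
    rw [← Ph_neg_one_one_sq hxx]
    group
  have hz2 : (g * Ph (-1 : SL2 F) 1 * g⁻¹) * (g * Ph (-1) 1 * g⁻¹) = 1 := by
    have : Ph (-1 : SL2 F) 1 * Ph (-1) 1 = 1 := by rw [Ph_mul, hnn, mul_one, Ph_one]
    calc (g * Ph (-1 : SL2 F) 1 * g⁻¹) * (g * Ph (-1) 1 * g⁻¹)
        = g * (Ph (-1 : SL2 F) 1 * Ph (-1) 1) * g⁻¹ := by group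
      _ = 1 := by rw [this]; group
  have hznc : g * Ph (-1 : SL2 F) 1 * g⁻¹ ∉ Subgroup.center (Sp4 F) := by
    intro hc
    have hc' : Ph (-1 : SL2 F) 1 ∈ Subgroup.center (Sp4 F) := by
      have := (Subgroup.center (Sp4 F)).normal_of_characteristic.conj_mem _ hc g⁻¹
      simpa [mul_assoc] using this
    rw [mem_center_iff] at hc'
    rcases hc' with h | h
    · rw [← Ph_one] at h
      exact hn1 (Ph_inj h).1
    · exact hn1 (Ph_inj h).2.symm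
  have hcases : g * Ph (-1 : SL2 F) 1 * g⁻¹ = Ph (-1) 1 ∨ g * Ph (-1 : SL2 F) 1 * g⁻¹ = Ph 1 (-1) := by
    obtain ⟨a, ha, b, hb, hab | hab⟩ := ht
    · -- `t = Φ(a,b)`
      rw [hab, Ph_mul] at hsq
      rw [← hsq, Ph_mul, ← Ph_one] at hz2
      obtain ⟨e1, e2⟩ := Ph_inj hz2
      rw [← hsq, mem_center_iff] at hznc
      push Not at hznc
      rcases (sl2_mul_self_eq_one_iff h2 _).1 e1 with h1 | h1 <;>
        rcases (sl2_mul_self_eq_one_iff h2 _).1 e2 with h1' | h1'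
      · exact absurd (by rw [h1, h1', Ph_one]) hznc.1
      · right; rw [← hsq, h1, h1']
      · left; rw [← hsq, h1, h1']
      · exact absurd (by rw [h1, h1']) hznc.2
    · -- `t = Φ(a,b) sw`
      exfalso
      have e : Ph a b * sw * (Ph a b * sw) = Ph (a * b) (b * a) := by
        rw [mul_assoc, ← mul_assoc sw, sw_mul_Ph, mul_assoc (Ph b a), sw_mul_sw, mul_one, Ph_mul]
      rw [hab, e] at hsq
      rw [← hsq, Ph_mul, ← Ph_one] at hz2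
      obtain ⟨e1, -⟩ := Ph_inj hz2
      rw [← hsq, mem_center_iff] at hznc
      push Not at hznc
      have hba : ∀ c : SL2 F, a * b = c → c * a = a * c → b * a = c := by
        intro c hc hcc
        have : b * a = a⁻¹ * (a * b) * a := by group
        rw [this, hc, mul_assoc, hcc, ← mul_assoc, inv_mul_cancel, one_mul]
      rcases (sl2_mul_self_eq_one_iff h2 _).1 e1 with h1 | h1
      · have := hba 1 h1 (by rw [one_mul, mul_one])
        exact hznc.1 (by rw [h1, this, Ph_one])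
      · have := hba (-1) h1 (by simp)
        exact hznc.2 (by rw [h1, this])
  -- reduce to `g = s₀ * Φ(h₀,h₁)`
  obtain ⟨s₀, hs₀, h₀, h₁, hg'⟩ : ∃ s₀ ∈ St Q, ∃ h₀ h₁ : SL2 F, g = s₀ * Ph h₀ h₁ := by
    rcases hcases with hc | hc
    · have hcomm : g * Ph (-1 : SL2 F) 1 = Ph (-1) 1 * g := by
        calc g * Ph (-1 : SL2 F) 1 = (g * Ph (-1 : SL2 F) 1 * g⁻¹) * g := by group
          _ = Ph (-1) 1 * g := by rw [hc]
      obtain ⟨h₀, h₁, e⟩ := hN1 g hcomm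
      exact ⟨1, Subgroup.one_mem _, h₀, h₁, by rw [one_mul, e]⟩
    · have hcomm : (sw * g) * Ph (-1 : SL2 F) 1 = Ph (-1) 1 * (sw * g) := by
        have e1 : sw * (g * Ph (-1 : SL2 F) 1 * g⁻¹) * sw⁻¹ = Ph (-1) 1 := by
          rw [hc, sw_conj_Ph]
        have e2 : sw * g * Ph (-1 : SL2 F) 1 = sw * (g * Ph (-1 : SL2 F) 1 * g⁻¹) * sw⁻¹ * (sw * g) := by
          group
        rw [e2, e1]
      obtain ⟨h₀, h₁, e⟩ := hN1 (sw * g) hcomm
      refine ⟨sw, sw_mem_St Q, h₀, h₁, ?_⟩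
      rw [← e, ← mul_assoc, sw_mul_sw, one_mul]
  -- `Φ(h₀,h₁)` normalizes `St Q`
  have hnorm : Ph h₀ h₁ ∈ Subgroup.normalizer (St Q : Set (Sp4 F)) := by
    have : Ph h₀ h₁ = s₀⁻¹ * g := by rw [hg']; group
    rw [this]
    exact Subgroup.mul_mem _ (Subgroup.inv_mem _ (Subgroup.le_normalizer hs₀)) hg
  have hiff := Subgroup.mem_normalizer_iff.1 hnorm
  have hconj : ∀ a b : SL2 F, Ph h₀ h₁ * Ph a b * (Ph h₀ h₁)⁻¹ = Ph (h₀ * a * h₀⁻¹) (h₁ * b * h₁⁻¹) := by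
    intro a b
    rw [Ph_inv, Ph_mul, Ph_mul]
  have hk0 : h₀ ∈ Subgroup.normalizer (Q : Set (SL2 F)) := by
    rw [Subgroup.mem_normalizer_iff]
    intro q
    have := hiff (Ph q 1)
    rw [hconj, Ph_mem_St, Ph_mem_St, mul_one, mul_inv_cancel] at this
    constructor
    · intro hq
      exact (this.1 ⟨hq, Q.one_mem⟩).1
    · intro hq
      exact (this.2 ⟨hq, Q.one_mem⟩).1
  have hk1 : h₁ ∈ Subgroup.normalizer (Q : Set (SL2 F)) := by
    rw [Subgroup.mem_normalizer_iff]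
    intro q
    have := hiff (Ph 1 q)
    rw [hconj, Ph_mem_St, Ph_mem_St, mul_one, mul_inv_cancel] at this
    constructor
    · intro hq
      exact (this.1 ⟨Q.one_mem, hq⟩).2
    · intro hq
      exact (this.2 ⟨Q.one_mem, hq⟩).2
  have hdiff : h₀ * h₁⁻¹ ∈ Q := by
    have := (hiff sw).1 (sw_mem_St Q)
    have e : Ph h₀ h₁ * sw * (Ph h₀ h₁)⁻¹ = Ph (h₀ * h₁⁻¹) (h₁ * h₀⁻¹) * sw := by
      rw [Ph_inv, mul_assoc, sw_mul_Ph, ← mul_assoc, Ph_mul]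
    rw [e, Ph_mul_sw_mem_St] at this
    exact this.1
  refine ⟨s₀ * Ph (h₀ * h₁⁻¹) 1, Subgroup.mul_mem _ hs₀ (Ph_mem_St.2 ⟨hdiff, Q.one_mem⟩), h₁, hk1, ?_⟩
  rw [hg', mul_assoc, Ph_mul, one_mul, inv_mul_cancel_right]

end Cfsg.Agent.Lib.H2.PSp4
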