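import Mathlib
import Cfsg.Agent.Lib.H2.ProjLine

set_option autoImplicit false

/-!
# `SL₂(q)` is 3-transitive on the projective line iff `q` is even
-/

namespace Cfsg.Agent.Lib.H2.ProjLine

open Matrix Projectivization
open scoped LinearAlgebra.Projectivization MatrixGroups

variable {F : Type*} [Field F]

theorem SL_smul_def (g : SpecialLinearGroup (Fin 2) F) (v : Fin 2 → F) :
    g • v = (g : Matrix (Fin 2) (Fin 2) F) *ᵥ v := rfl

theorem SL_three_pretransitive_of_char_two [Fintype F] (h2 : ringChar F = 2) :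
    MulAction.IsMultiplyPretransitive (Matrix.SpecialLinearGroup (Fin 2) F)
      (Projectivization F (Fin 2 → F)) 3 := by
  constructor
  intro x y
  obtain ⟨g, hg⟩ := (PGL_three_pretransitive (F := F)).exists_smul_eq x y
  induction g using ProjGenLinGroup.induction_on with
  | mk A =>
  have hdet : (A : Matrix (Fin 2) (Fin 2) F).det ≠ 0 :=
    ((Matrix.isUnit_iff_isUnit_det _).1 A.isUnit).ne_zero
  obtain ⟨e, he⟩ := FiniteField.isSquare_of_char_two h2 (A : Matrix (Fin 2) (Fin 2) F).det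
  have he0 : e ≠ 0 := by
    rintro rfl
    rw [mul_zero] at he
    exact hdet he
  let B : SpecialLinearGroup (Fin 2) F := ⟨e⁻¹ • (A : Matrix (Fin 2) (Fin 2) F), by
    rw [Matrix.det_smul, Fintype.card_fin, he]
    field_simp⟩
  refine ⟨B, ?_⟩
  rw [← hg]
  ext i
  rw [Function.Embedding.smul_apply, Function.Embedding.smul_apply]
  induction x i using Projectivization.ind with
  | _ v hv =>
  rw [Projectivization.smul_mk, PGL.mk_smul_mk, Projectivization.mk_eq_mk_iff']
  refine ⟨e⁻¹, ?_⟩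
  rw [SL_smul_def, GL_smul_def]
  show e⁻¹ • ((A : Matrix (Fin 2) (Fin 2) F) *ᵥ v) = (e⁻¹ • (A : Matrix (Fin 2) (Fin 2) F)) *ᵥ v
  rw [Matrix.smul_mulVec]

theorem char_two_of_SL_three_pretransitive [Fintype F]
    (h : MulAction.IsMultiplyPretransitive (Matrix.SpecialLinearGroup (Fin 2) F)
      (Projectivization F (Fin 2 → F)) 3) : ringChar F = 2 := by
  by_contra h2
  obtain ⟨n, hn⟩ := FiniteField.exists_nonsquare h2
  have hn0 : n ≠ 0 := by
    rintro rfl
    exact hn ⟨0, by simp⟩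
  have hne : (![n, 1] : Fin 2 → F) ≠ 0 := by
    intro h; simpa using congrFun h 1
  let y : Fin 3 ↪ ℙ F (Fin 2 → F) :=
    triple (Projectivization.mk F ![1, 0] e0_ne) (Projectivization.mk F ![0, 1] e1_ne)
      (Projectivization.mk F ![n, 1] hne)
      (by rw [Ne, mk_eq_mk_iff_D]; simp [D])
      (by rw [Ne, mk_eq_mk_iff_D]; simp [D])
      (by rw [Ne, mk_eq_mk_iff_D]; simp [D, hn0])
  obtain ⟨g, hg⟩ := h.exists_smul_eq (std F) y
  have h0 := congrArg (fun z : Fin 3 ↪ ℙ F (Fin 2 → F) => z 0) hg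
  have h1 := congrArg (fun z : Fin 3 ↪ ℙ F (Fin 2 → F) => z 1) hg
  have h2' := congrArg (fun z : Fin 3 ↪ ℙ F (Fin 2 → F) => z 2) hg
  simp only [Function.Embedding.smul_apply] at h0 h1 h2'
  have y0 : y 0 = Projectivization.mk F ![1, 0] e0_ne := rfl
  have y1 : y 1 = Projectivization.mk F ![0, 1] e1_ne := rfl
  have y2 : y 2 = Projectivization.mk F ![n, 1] hne := rfl
  rw [std_zero, Projectivization.smul_mk, y0, mk_eq_mk_iff_D, SL_smul_def] at h0
  rw [std_one, Projectivization.smul_mk, y1, mk_eq_mk_iff_D, SL_smul_def] at h1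
  rw [std_two, Projectivization.smul_mk, y2, mk_eq_mk_iff_D, SL_smul_def] at h2'
  have hdet : (g : Matrix (Fin 2) (Fin 2) F) 0 0 * (g : Matrix (Fin 2) (Fin 2) F) 1 1 -
      (g : Matrix (Fin 2) (Fin 2) F) 0 1 * (g : Matrix (Fin 2) (Fin 2) F) 1 0 = 1 := by
    rw [← Matrix.det_fin_two]; exact g.2
  simp only [D, Matrix.mulVec, dotProduct, Fin.sum_univ_two] at h0 h1 h2'
  simp at h0 h1 h2'
  apply hn
  refine ⟨(g : Matrix (Fin 2) (Fin 2) F) 0 0, ?_⟩
  rw [h0] at hdet
  rw [h1] at hdet h2'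
  rw [h0] at h2'
  -- h2' : a - d n = 0, hdet : a d = 1
  linear_combination (-(g : Matrix (Fin 2) (Fin 2) F) 0 0) * h2' + (-n) * hdet

end Cfsg.Agent.Lib.H2.ProjLine
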