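import Mathlib
import Cfsg.Agent.Lib.H2.RTA

set_option autoImplicit false

/-!
# Automorphisms of order five: counting fixed points
-/

namespace Cfsg.Agent.Lib.H2.Q5

open Subgroup Cfsg.Agent.Lib.H2.L34 Cfsg.Agent.Lib.H2.RT

variable {T : Type*} [Group T]

/-- the number of fixed points of an automorphism of order five in an invariant subgroup -/
theorem card_modEq_fix [Finite T] (σ : MulAut T) (h5 : ∀ y, σ (σ (σ (σ (σ y)))) = y)
    (H : Subgroup T) (hH : ∀ y, y ∈ H ↔ σ y ∈ H) :
    Nat.card H ≡ Nat.card ↥(H ⊓ fixSub σ) [MOD 5] := by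
  classical
  let _ : Fintype H := Fintype.ofFinite H
  let τ : Equiv.Perm H := Equiv.subtypeEquiv σ.toEquiv (fun a => hH a)
  have hτ : ∀ y : H, ((τ y : H) : T) = σ (y : T) := fun y => rfl
  have h1 : τ ^ 5 ^ 1 = 1 := by
    ext y
    simp only [pow_succ, pow_zero, one_mul, Equiv.Perm.mul_apply, hτ, Equiv.Perm.one_apply]
    exact h5 _
  have : Fact (Nat.Prime 5) := ⟨by norm_num⟩
  have h4 := Equiv.Perm.card_compl_support_modEq h1
  have e : ↥(H ⊓ fixSub σ) ≃ {y : H // y ∈ (Equiv.Perm.support τ)ᶜ} :=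
    { toFun := fun k => ⟨⟨k.1, k.2.1⟩, by
        simp only [Finset.mem_compl, Equiv.Perm.mem_support, not_not]
        exact Subtype.ext (by rw [hτ]; exact k.2.2)⟩
      invFun := fun y => ⟨y.1.1, y.1.2, by
        have := y.2
        simp only [Finset.mem_compl, Equiv.Perm.mem_support, not_not] at this
        show σ (y.1 : T) = y.1
        rw [← hτ, this]⟩
      left_inv := fun k => rfl
      right_inv := fun y => rfl }
  have hK : Nat.card ↥(H ⊓ fixSub σ) = (Equiv.Perm.support τ)ᶜ.card := by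
    rw [Nat.card_congr e, Nat.card_eq_fintype_card, Fintype.card_coe]
  rw [hK, Nat.card_eq_fintype_card]
  exact h4.symm

/-- fixed-point-free automorphism of order dividing five -/
structure Fpf5 (σ : MulAut T) : Prop where
  pow5 : ∀ y, σ (σ (σ (σ (σ y)))) = y
  fpf : ∀ y, σ y = y → y = 1

theorem Fpf5.card_modEq [Finite T] {σ : MulAut T} (h : Fpf5 σ) (H : Subgroup T)
    (hH : ∀ y, y ∈ H ↔ σ y ∈ H) : Nat.card H ≡ 1 [MOD 5] := by
  have h1 := card_modEq_fix σ h.pow5 H hH
  have h2 : H ⊓ fixSub σ = ⊥ := by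
    ext y
    rw [Subgroup.mem_inf, mem_fixSub, Subgroup.mem_bot]
    constructor
    · rintro ⟨_, hy⟩; exact h.fpf y hy
    · rintro rfl; exact ⟨one_mem _, map_one σ⟩
  rw [h2, Subgroup.card_bot] at h1
  exact h1

/-- an invariant subgroup of a group of order dividing 16 under a fixed-point-free automorphism of
order five is trivial or of order 16 -/
theorem Fpf5.card_cases [Finite T] {σ : MulAut T} (h : Fpf5 σ) (hT : Nat.card T ∣ 16)
    (H : Subgroup T) (hH : ∀ y, y ∈ H ↔ σ y ∈ H) : Nat.card H = 1 ∨ Nat.card H = 16 := by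
  have h1 : Nat.card H ∣ 2 ^ 4 := (Subgroup.card_subgroup_dvd_card H).trans hT
  obtain ⟨k, hk, hk2⟩ := (Nat.dvd_prime_pow Nat.prime_two).mp h1
  have hm := h.card_modEq H hH
  rw [hk2] at hm ⊢
  interval_cases k <;> first | (exfalso; revert hm; decide) | norm_num

end Cfsg.Agent.Lib.H2.Q5
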