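import Mathlib
import Cfsg.Agent.Lib.H2.Q5A
import Cfsg.Agent.Lib.H2.L34C

set_option autoImplicit false

/-!
# Groups of order 64 with an automorphism of order five: first reductions
-/

namespace Cfsg.Agent.Lib.H2.Q5

open Subgroup Cfsg.Agent.Lib.H2.L34 Cfsg.Agent.Lib.H2.RT

variable {P : Type*} [Group P]

/-- class two, central squares, centre of exponent two -/
structure Sq (P : Type*) [Group P] : Prop where
  comm : ∀ g k : P, cm g k ∈ center P
  zsq : ∀ z : P, z ∈ center P → z * z = 1
  sq : ∀ g : P, g * g ∈ center P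

namespace Sq

theorem cmc (S : Sq P) (g k u : P) : u * cm g k = cm g k * u :=
  Subgroup.mem_center_iff.mp (S.comm g k) u

theorem cm_sq (S : Sq P) (g k : P) : cm g k * cm g k = 1 := S.zsq _ (S.comm g k)

theorem z_inv (S : Sq P) {z : P} (hz : z ∈ center P) : z⁻¹ = z :=
  inv_eq_of_mul_eq_one_left (S.zsq z hz)

theorem cm_inv (S : Sq P) (g k : P) : (cm g k)⁻¹ = cm g k := S.z_inv (S.comm g k)

theorem cm_symm (S : Sq P) (g k : P) : cm k g = cm g k := by
  rw [← cm_inv_swap, S.cm_inv]

theorem cm_mul_left (S : Sq P) (g g' k : P) : cm (g * g') k = cm g k * cm g' k := by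
  have h1 : cm (g * g') k = g * cm g' k * k * g⁻¹ * k⁻¹ := by
    rw [cm_def, cm_def]; group
  rw [h1, S.cmc g' k g, S.cmc g' k (cm g k), cm_def g k]
  group

theorem cm_mul_right (S : Sq P) (g k k' : P) : cm g (k * k') = cm g k * cm g k' := by
  rw [← S.cm_symm, S.cm_mul_left, S.cm_symm, S.cm_symm k']

theorem cm_inv_left (S : Sq P) (g k : P) : cm g⁻¹ k = cm g k := by
  have h := S.cm_mul_left g⁻¹ g k
  rw [inv_mul_cancel, cm_one_left] at h
  have : cm g⁻¹ k = (cm g k)⁻¹ := eq_inv_of_mul_eq_one_left h.symm
  rw [this, S.cm_inv]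

theorem cm_inv_right (S : Sq P) (g k : P) : cm g k⁻¹ = cm g k := by
  rw [← S.cm_symm, S.cm_inv_left, S.cm_symm]

theorem cm_center_left (_S : Sq P) {z : P} (hz : z ∈ center P) (k : P) : cm z k = 1 := by
  rw [cm_eq_one_iff]
  exact (Subgroup.mem_center_iff.mp hz k).symm

theorem cm_center_right (S : Sq P) {z : P} (hz : z ∈ center P) (k : P) : cm k z = 1 := by
  rw [← S.cm_symm, S.cm_center_left hz]

theorem sq_mul (S : Sq P) (g k : P) : (g * k) * (g * k) = cm g k * (g * g) * (k * k) := by
  have h := swap k g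
  rw [S.cm_symm] at h
  calc g * k * (g * k) = g * (k * g) * k := by group
    _ = g * (cm g k * g * k) * k := by rw [h]
    _ = (g * cm g k) * g * k * k := by group
    _ = (cm g k * g) * g * k * k := by rw [S.cmc]
    _ = cm g k * (g * g) * (k * k) := by group

end Sq

/-- the hypotheses on the derived subgroup of a group of order 320, in terms of the automorphism
induced by an element of order five -/
structure Hyp5 (α : MulAut P) : Prop where
  card : Nat.card P = 64
  cardZ : Nat.card (center P) = 4
  zsq : ∀ z : P, z ∈ center P → z * z = 1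
  pow5 : ∀ y, α (α (α (α (α y)))) = y
  gen : ∀ N : Subgroup P, N.Normal → (∀ y ∈ N, α y ∈ N) → (∀ x y, cm x y ∈ N) →
    (∀ x, x⁻¹ * α x ∈ N) → N = ⊤

namespace Hyp5

variable {α : MulAut P}

theorem finite (H : Hyp5 α) : Finite P := by
  apply Nat.finite_of_card_ne_zero
  rw [H.card]; norm_num

/-- the centre is fixed pointwise -/
theorem fix_center (H : Hyp5 α) {z : P} (hz : z ∈ center P) : α z = z := by
  have : Finite P := H.finite
  have h1 := card_modEq_fix α H.pow5 (center P) (Fpf3.center_inv α)
  rw [H.cardZ] at h1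
  have hle : center P ⊓ fixSub α ≤ center P := inf_le_left
  have h2 : Nat.card ↥(center P ⊓ fixSub α) ∣ 2 ^ 2 := by
    have := Subgroup.card_dvd_of_le hle
    rwa [H.cardZ] at this
  obtain ⟨k, hk, hk2⟩ := (Nat.dvd_prime_pow Nat.prime_two).mp h2
  have h3 : Nat.card ↥(center P ⊓ fixSub α) = 4 := by
    rw [hk2] at h1 ⊢
    interval_cases k <;> first | (exfalso; revert h1; decide) | norm_num
  have h4 : center P ⊓ fixSub α = center P :=
    Subgroup.eq_of_le_of_card_ge hle (by rw [h3, H.cardZ])
  have : z ∈ center P ⊓ fixSub α := by rw [h4]; exact hz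
  exact (mem_fixSub α z).mp this.2

theorem isPGroup (H : Hyp5 α) : IsPGroup 2 P :=
  IsPGroup.of_card (n := 6) (by rw [H.card]; norm_num)

/-- `α` is not the identity -/
theorem ne_one (H : Hyp5 α) : ¬ ∀ x, α x = x := by
  intro hid
  have : Finite P := H.finite
  have h1 : commutator P = ⊤ := by
    apply H.gen (commutator P) inferInstance
    · intro y hy; rw [hid]; exact hy
    · intro x y
      rw [cm_def, commutator_def]
      have := Subgroup.commutator_mem_commutator (Subgroup.mem_top x) (Subgroup.mem_top y)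
      rwa [commutatorElement_def] at this
    · intro x; rw [hid, inv_mul_cancel]; exact one_mem _
  have : Fact (Nat.Prime 2) := ⟨Nat.prime_two⟩
  have hnil : Group.IsNilpotent P := H.isPGroup.isNilpotent
  have : Nontrivial P := by
    rw [← Finite.one_lt_card_iff_nontrivial, H.card]; norm_num
  have h2 := Group.IsSolvable.commutator_lt_top_of_nontrivial P
  rw [h1] at h2
  exact lt_irrefl _ h2

theorem card_quot (H : Hyp5 α) : Nat.card (P ⧸ center P) = 16 := by
  have := Subgroup.card_eq_card_quotient_mul_card_subgroup (center P)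
  rw [H.card, H.cardZ] at this
  omega

theorem quot_pow5 (H : Hyp5 α) (y : P ⧸ center P) :
    Fpf3.quotAut α (Fpf3.quotAut α (Fpf3.quotAut α (Fpf3.quotAut α (Fpf3.quotAut α y)))) = y := by
  induction y using QuotientGroup.induction_on with
  | H y => simp only [Fpf3.quotAut_mk, H.pow5]

/-- the induced automorphism of the central quotient is fixed-point-free -/
theorem quot_fpf (H : Hyp5 α) : Fpf5 (Fpf3.quotAut α) := by
  have : Finite P := H.finite
  refine ⟨H.quot_pow5, ?_⟩
  set σ := Fpf3.quotAut α with hσ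
  have h1 := card_modEq_fix σ H.quot_pow5 ⊤ (fun y => by simp)
  rw [Subgroup.card_top, H.card_quot, top_inf_eq] at h1
  have h2 : Nat.card ↥(fixSub σ) ∣ 2 ^ 4 := by
    have := Subgroup.card_subgroup_dvd_card (fixSub σ)
    rwa [H.card_quot] at this
  obtain ⟨k, hk, hk2⟩ := (Nat.dvd_prime_pow Nat.prime_two).mp h2
  have h3 : Nat.card ↥(fixSub σ) = 1 ∨ Nat.card ↥(fixSub σ) = 16 := by
    rw [hk2] at h1 ⊢
    interval_cases k <;> first | (exfalso; revert h1; decide) | norm_num
  rcases h3 with h3 | h3
  · intro y hy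
    have hy' : y ∈ fixSub σ := (mem_fixSub σ y).mpr hy
    rw [Subgroup.card_eq_one.mp h3, Subgroup.mem_bot] at hy'
    exact hy'
  · exfalso
    have htop : fixSub σ = ⊤ := Subgroup.eq_top_of_card_eq _ (by rw [h3, H.card_quot])
    apply H.ne_one
    intro x
    have hx : (QuotientGroup.mk x : P ⧸ center P) ∈ fixSub σ := htop ▸ Subgroup.mem_top _
    rw [mem_fixSub, hσ, Fpf3.quotAut_mk, eq_comm, QuotientGroup.eq] at hx
    set z := x⁻¹ * α x with hz
    have hαx : α x = x * z := by rw [hz]; group
    have hαz : α z = z := H.fix_center hx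
    have h2 : α (α x) = x := by
      rw [hαx, map_mul, hαx, hαz, mul_assoc, H.zsq z hx, mul_one]
    have h5 := H.pow5 x
    rw [h2, h2] at h5
    exact h5

theorem isPGroup_quot (H : Hyp5 α) : IsPGroup 2 (P ⧸ center P) :=
  IsPGroup.of_card (n := 4) (by rw [H.card_quot]; norm_num)

/-- the central quotient is abelian -/
theorem quot_comm (H : Hyp5 α) (a b : P ⧸ center P) : a * b = b * a := by
  have : Finite P := H.finite
  have : Nontrivial (P ⧸ center P) := by
    rw [← Finite.one_lt_card_iff_nontrivial, H.card_quot]; norm_num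
  have htop : center (P ⧸ center P) = ⊤ := by
    rcases H.quot_fpf.card_cases (by rw [H.card_quot]) (center (P ⧸ center P))
      (Fpf3.center_inv _) with h1 | h1
    · exfalso
      have := H.isPGroup_quot.bot_lt_center
      rw [Subgroup.card_eq_one.mp h1] at this
      exact lt_irrefl _ this
    · exact Subgroup.eq_top_of_card_eq _ (by rw [h1, H.card_quot])
  have hb : b ∈ center (P ⧸ center P) := htop ▸ Subgroup.mem_top _
  exact Subgroup.mem_center_iff.mp hb a

/-- the central quotient has exponent two -/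
theorem quot_sq (H : Hyp5 α) (a : P ⧸ center P) : a * a = 1 := by
  have : Finite P := H.finite
  set σ := Fpf3.quotAut α with hσ
  let K : Subgroup (P ⧸ center P) :=
    { carrier := {q | q * q = 1}
      one_mem' := by simp
      mul_mem' := by
        intro a b ha hb
        simp only [Set.mem_ofPred_eq] at ha hb ⊢
        calc a * b * (a * b) = a * (b * a) * b := by group
          _ = a * (a * b) * b := by rw [H.quot_comm b a]
          _ = (a * a) * (b * b) := by group
          _ = 1 := by rw [ha, hb, one_mul]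
      inv_mem' := by
        intro a ha
        simp only [Set.mem_ofPred_eq] at ha ⊢
        rw [← mul_inv_rev, ha, inv_one] }
  have hKmem : ∀ q, q ∈ K ↔ q * q = 1 := fun q => Iff.rfl
  have hKinv : ∀ q, q ∈ K ↔ σ q ∈ K := by
    intro q
    rw [hKmem, hKmem, ← map_mul]
    constructor
    · intro h; rw [h, map_one]
    · intro h; rwa [← map_one σ, σ.injective.eq_iff] at h
  have htop : K = ⊤ := by
    rcases H.quot_fpf.card_cases (by rw [H.card_quot]) K hKinv with h1 | h1
    · exfalso
      have : Fact (Nat.Prime 2) := ⟨Nat.prime_two⟩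
      obtain ⟨x, hx⟩ := exists_prime_orderOf_dvd_card' (G := P ⧸ center P) 2
        (by rw [H.card_quot]; norm_num)
      have hxK : x ∈ K := by
        rw [hKmem, ← pow_two, ← hx]; exact pow_orderOf_eq_one x
      rw [Subgroup.card_eq_one.mp h1, Subgroup.mem_bot] at hxK
      rw [hxK, orderOf_one] at hx
      omega
    · exact Subgroup.eq_top_of_card_eq _ (by rw [h1, H.card_quot])
  have : a ∈ K := htop ▸ Subgroup.mem_top _
  exact this

/-- class two with central squares -/
theorem toSq (H : Hyp5 α) : Sq P := by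
  refine ⟨fun g k => ?_, H.zsq, fun g => ?_⟩
  · rw [← QuotientGroup.eq_one_iff, cm_def]
    simp only [QuotientGroup.mk_mul, QuotientGroup.mk_inv]
    rw [H.quot_comm (QuotientGroup.mk g) (QuotientGroup.mk k)]
    group
  · rw [← QuotientGroup.eq_one_iff, QuotientGroup.mk_mul]
    exact H.quot_sq _

end Hyp5

end Cfsg.Agent.Lib.H2.Q5
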