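import Mathlib
import Cfsg.Agent.Lib.H2.Q5B

set_option autoImplicit false

/-!
# Groups of order 64 with an automorphism of order five: an orbit of generators
-/

namespace Cfsg.Agent.Lib.H2.Q5

open Subgroup Cfsg.Agent.Lib.H2.L34 Cfsg.Agent.Lib.H2.RT

variable {P : Type*} [Group P]

theorem iff_of_imp {T : Type*} [Group T] (σ : MulAut T) (h5 : ∀ y, σ (σ (σ (σ (σ y)))) = y)
    (K : Subgroup T) (h : ∀ y ∈ K, σ y ∈ K) : ∀ y, y ∈ K ↔ σ y ∈ K := by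
  intro y
  refine ⟨h y, fun hy => ?_⟩
  have := h _ (h _ (h _ (h _ hy)))
  rwa [h5] at this

/-- commutators lie in a subgroup as soon as those of generators do -/
theorem Sq.cm_mem_of_closure (S : Sq P) (B : Subgroup P) (X : Set P) (hX : closure X = ⊤)
    (h : ∀ x ∈ X, ∀ y ∈ X, cm x y ∈ B) (g k : P) : cm g k ∈ B := by
  have hg : g ∈ closure X := hX ▸ mem_top g
  have hk : k ∈ closure X := hX ▸ mem_top k
  refine Subgroup.closure_induction₂ (p := fun x y _ _ => cm x y ∈ B) ?_ ?_ ?_ ?_ ?_ ?_ ?_ hg hk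
  · intro x y hx hy; exact h x hx y hy
  · intro x _; rw [cm_one_left]; exact one_mem _
  · intro x _; rw [cm_one_right]; exact one_mem _
  · intro x y z _ _ _ h1 h2; rw [S.cm_mul_left]; exact mul_mem h1 h2
  · intro y z x _ _ _ h1 h2; rw [S.cm_mul_right]; exact mul_mem h1 h2
  · intro x y _ _ h1; rw [S.cm_inv_left]; exact h1
  · intro x y _ _ h1; rw [S.cm_inv_right]; exact h1

/-- an orbit of a noncentral element -/
structure Orb (α : MulAut P) (u0 u1 u2 u3 u4 b1 b2 : P) : Prop where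
  a0 : α u0 = u1
  a1 : α u1 = u2
  a2 : α u2 = u3
  a3 : α u3 = u4
  a4 : α u4 = u0
  hb1 : cm u0 u1 = b1
  hb2 : cm u0 u2 = b2
  nz : u0 ∉ center P

namespace Orb

variable {α : MulAut P} {u0 u1 u2 u3 u4 b1 b2 : P}

theorem b1z (H : Hyp5 α) (O : Orb α u0 u1 u2 u3 u4 b1 b2) : b1 ∈ center P := by
  rw [← O.hb1]; exact H.toSq.comm _ _

theorem b2z (H : Hyp5 α) (O : Orb α u0 u1 u2 u3 u4 b1 b2) : b2 ∈ center P := by
  rw [← O.hb2]; exact H.toSq.comm _ _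

theorem fb1 (H : Hyp5 α) (O : Orb α u0 u1 u2 u3 u4 b1 b2) : α b1 = b1 := H.fix_center (O.b1z H)

theorem fb2 (H : Hyp5 α) (O : Orb α u0 u1 u2 u3 u4 b1 b2) : α b2 = b2 := H.fix_center (O.b2z H)

theorem e01 (_H : Hyp5 α) (O : Orb α u0 u1 u2 u3 u4 b1 b2) : cm u0 u1 = b1 := O.hb1

theorem e12 (H : Hyp5 α) (O : Orb α u0 u1 u2 u3 u4 b1 b2) : cm u1 u2 = b1 := by
  have : α (cm u0 u1) = cm u1 u2 := by rw [Sp.rho_cm, O.a0, O.a1]
  rw [← this, O.hb1, O.fb1 H]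

theorem e23 (H : Hyp5 α) (O : Orb α u0 u1 u2 u3 u4 b1 b2) : cm u2 u3 = b1 := by
  have : α (cm u1 u2) = cm u2 u3 := by rw [Sp.rho_cm, O.a1, O.a2]
  rw [← this, O.e12 H, O.fb1 H]

theorem e34 (H : Hyp5 α) (O : Orb α u0 u1 u2 u3 u4 b1 b2) : cm u3 u4 = b1 := by
  have : α (cm u2 u3) = cm u3 u4 := by rw [Sp.rho_cm, O.a2, O.a3]
  rw [← this, O.e23 H, O.fb1 H]

theorem e40 (H : Hyp5 α) (O : Orb α u0 u1 u2 u3 u4 b1 b2) : cm u4 u0 = b1 := by
  have : α (cm u3 u4) = cm u4 u0 := by rw [Sp.rho_cm, O.a3, O.a4]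
  rw [← this, O.e34 H, O.fb1 H]

theorem e02 (_H : Hyp5 α) (O : Orb α u0 u1 u2 u3 u4 b1 b2) : cm u0 u2 = b2 := O.hb2

theorem e13 (H : Hyp5 α) (O : Orb α u0 u1 u2 u3 u4 b1 b2) : cm u1 u3 = b2 := by
  have : α (cm u0 u2) = cm u1 u3 := by rw [Sp.rho_cm, O.a0, O.a2]
  rw [← this, O.hb2, O.fb2 H]

theorem e24 (H : Hyp5 α) (O : Orb α u0 u1 u2 u3 u4 b1 b2) : cm u2 u4 = b2 := by
  have : α (cm u1 u3) = cm u2 u4 := by rw [Sp.rho_cm, O.a1, O.a3]
  rw [← this, O.e13 H, O.fb2 H]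

theorem e30 (H : Hyp5 α) (O : Orb α u0 u1 u2 u3 u4 b1 b2) : cm u3 u0 = b2 := by
  have : α (cm u2 u4) = cm u3 u0 := by rw [Sp.rho_cm, O.a2, O.a4]
  rw [← this, O.e24 H, O.fb2 H]

theorem e41 (H : Hyp5 α) (O : Orb α u0 u1 u2 u3 u4 b1 b2) : cm u4 u1 = b2 := by
  have : α (cm u3 u0) = cm u4 u1 := by rw [Sp.rho_cm, O.a3, O.a0]
  rw [← this, O.e30 H, O.fb2 H]

theorem sq1 (H : Hyp5 α) (O : Orb α u0 u1 u2 u3 u4 b1 b2) : u1 * u1 = u0 * u0 := by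
  have : α (u0 * u0) = u1 * u1 := by rw [map_mul, O.a0]
  rw [← this, H.fix_center (H.toSq.sq u0)]

theorem sq2 (H : Hyp5 α) (O : Orb α u0 u1 u2 u3 u4 b1 b2) : u2 * u2 = u0 * u0 := by
  have : α (u1 * u1) = u2 * u2 := by rw [map_mul, O.a1]
  rw [← this, H.fix_center (H.toSq.sq u1), O.sq1 H]

theorem sq3 (H : Hyp5 α) (O : Orb α u0 u1 u2 u3 u4 b1 b2) : u3 * u3 = u0 * u0 := by
  have : α (u2 * u2) = u3 * u3 := by rw [map_mul, O.a2]
  rw [← this, H.fix_center (H.toSq.sq u2), O.sq2 H]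

theorem sq4 (H : Hyp5 α) (O : Orb α u0 u1 u2 u3 u4 b1 b2) : u4 * u4 = u0 * u0 := by
  have : α (u3 * u3) = u4 * u4 := by rw [map_mul, O.a3]
  rw [← this, H.fix_center (H.toSq.sq u3), O.sq3 H]

/-- the product over the orbit is central -/
theorem wz (H : Hyp5 α) (O : Orb α u0 u1 u2 u3 u4 b1 b2) :
    u0 * u1 * u2 * u3 * u4 ∈ center P := by
  rw [← QuotientGroup.eq_one_iff]
  apply H.quot_fpf.fpf
  rw [Fpf3.quotAut_mk]
  simp only [map_mul, O.a0, O.a1, O.a2, O.a3, O.a4, QuotientGroup.mk_mul]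
  set q0 : P ⧸ center P := QuotientGroup.mk u0
  set q1 : P ⧸ center P := QuotientGroup.mk u1
  set q2 : P ⧸ center P := QuotientGroup.mk u2
  set q3 : P ⧸ center P := QuotientGroup.mk u3
  set q4 : P ⧸ center P := QuotientGroup.mk u4
  rw [H.quot_comm (q1 * q2 * q3 * q4) q0]
  simp only [mul_assoc]

/-- the common square -/
theorem sq0 (H : Hyp5 α) (O : Orb α u0 u1 u2 u3 u4 b1 b2) : u0 * u0 = b1 * b2 := by
  have S := H.toSq
  set v := u0 * u1 * u2 * u3 with hv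
  have hw : v * u4 ∈ center P := O.wz H
  set w := v * u4 with hwdef
  have hu4 : u4 = v⁻¹ * w := by rw [hwdef]; group
  have hwc : ∀ y : P, y * w = w * y := fun y => Subgroup.mem_center_iff.mp hw y
  have hvv : v * v ∈ center P := S.sq v
  -- `u4 * u4 = (v * v)⁻¹`
  have h1 : u4 * u4 = (v * v)⁻¹ := by
    rw [hu4]
    calc v⁻¹ * w * (v⁻¹ * w) = v⁻¹ * (w * v⁻¹) * w := by group
      _ = v⁻¹ * (v⁻¹ * w) * w := by rw [hwc v⁻¹]
      _ = v⁻¹ * v⁻¹ * (w * w) := by group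
      _ = (v * v)⁻¹ := by rw [S.zsq w hw]; group
  rw [S.z_inv hvv] at h1
  -- compute `v * v`
  set s := u0 * u0 with hs
  have hsz : s ∈ center P := S.sq u0
  have hss : s * s = 1 := S.zsq s hsz
  have hsc : ∀ y : P, y * s = s * y := fun y => Subgroup.mem_center_iff.mp hsz y
  have hb1c : ∀ y : P, y * b1 = b1 * y := fun y => Subgroup.mem_center_iff.mp (O.b1z H) y
  have hb2c : ∀ y : P, y * b2 = b2 * y := fun y => Subgroup.mem_center_iff.mp (O.b2z H) y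
  have hb1s : b1 * b1 = 1 := S.zsq _ (O.b1z H)
  have hb2s : b2 * b2 = 1 := S.zsq _ (O.b2z H)
  have e1 : (u0 * u1) * (u0 * u1) = b1 := by
    rw [S.sq_mul, O.sq1 H, ← hs, O.hb1, mul_assoc, hss, mul_one]
  have e2 : (u0 * u1 * u2) * (u0 * u1 * u2) = b2 * s := by
    rw [S.sq_mul, e1, O.sq2 H, ← hs, S.cm_mul_left, O.hb2, O.e12 H]
    calc b2 * b1 * b1 * s = b2 * (b1 * b1) * s := by group
      _ = b2 * s := by rw [hb1s, mul_one]
  have e3 : v * v = b1 * b2 := by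
    rw [hv, S.sq_mul, e2, O.sq3 H, ← hs, S.cm_mul_left, S.cm_mul_left, O.e13 H, O.e23 H,
      S.cm_symm u3 u0, O.e30 H]
    calc b2 * b2 * b1 * (b2 * s) * s = (b2 * b2) * b1 * b2 * (s * s) := by group
      _ = b1 * b2 := by rw [hb2s, hss, one_mul, mul_one]
  rw [hs, ← O.sq4 H, h1, e3]

end Orb

end Cfsg.Agent.Lib.H2.Q5
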