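import Mathlib
import Cfsg.Agent.Lib.H2.Q5C

set_option autoImplicit false

/-!
# Groups of order 64 with an automorphism of order five: generators and relations
-/

namespace Cfsg.Agent.Lib.H2.Q5

open Subgroup Cfsg.Agent.Lib.H2.L34 Cfsg.Agent.Lib.H2.RT

variable {P : Type*} [Group P]

/-- the centre lies in the derived subgroup -/
theorem Hyp5.center_le_commutator {α : MulAut P} (H : Hyp5 α) : center P ≤ commutator P := by
  have : Finite P := H.finite
  let φ : Abelianization P →* Abelianization P := Abelianization.map α.toMonoidHom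
  let θ : Abelianization P →* Abelianization P := (MonoidHom.id (Abelianization P))⁻¹ * φ
  have hφ : ∀ x : P, φ (Abelianization.of x) = Abelianization.of (α x) :=
    fun x => Abelianization.map_of _ x
  have hθa : ∀ a : Abelianization P, θ a = a⁻¹ * φ a := fun a => rfl
  have hθ : ∀ x : P, θ (Abelianization.of x) = Abelianization.of (x⁻¹ * α x) := by
    intro x
    rw [hθa, hφ, map_mul, map_inv]
  have hcomm : ∀ a : Abelianization P, φ (θ a) = θ (φ a) := by
    intro a
    rw [hθa, hθa, map_mul, map_inv]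
  let N : Subgroup P := θ.range.comap Abelianization.of
  have hNmem : ∀ y : P, y ∈ N ↔ ∃ a, θ a = Abelianization.of y := fun y => Iff.rfl
  have hN : N = ⊤ := by
    apply H.gen N inferInstance
    · intro y hy
      rw [hNmem] at hy ⊢
      obtain ⟨a, ha⟩ := hy
      exact ⟨φ a, by rw [← hcomm, ha, hφ]⟩
    · intro x y
      rw [hNmem]
      refine ⟨1, ?_⟩
      rw [map_one, cm_def]
      simp only [map_mul, map_inv]
      rw [mul_comm (Abelianization.of x) (Abelianization.of y)]
      simp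
    · intro x
      rw [hNmem]
      exact ⟨Abelianization.of x, hθ x⟩
  have hsurj : Function.Surjective θ := by
    intro a
    obtain ⟨y, rfl⟩ := QuotientGroup.mk_surjective a
    have : y ∈ N := hN ▸ Subgroup.mem_top y
    exact (hNmem y).mp this
  have hinj : Function.Injective θ := Finite.injective_iff_surjective.mpr hsurj
  intro z hz
  have h1 : θ (Abelianization.of z) = θ 1 := by
    rw [hθ, H.fix_center hz, inv_mul_cancel, map_one, map_one]
  have h2 := hinj h1
  rw [← Abelianization.ker_of, MonoidHom.mem_ker]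
  exact h2

theorem Hyp5.not_center_le_zpowers {α : MulAut P} (H : Hyp5 α) (c : P) (hc : c * c = 1) :
    ¬ center P ≤ zpowers c := by
  have : Finite P := H.finite
  intro hle
  have h1 := Subgroup.card_le_of_le hle
  rw [H.cardZ, Nat.card_zpowers] at h1
  have h2 : orderOf c ≤ 2 := orderOf_le_of_pow_eq_one (by norm_num) (by rw [pow_two, hc])
  omega

namespace Orb

variable {α : MulAut P} {u0 u1 u2 u3 u4 b1 b2 : P}

/-- the orbit generates modulo the centre -/
theorem closure_eq_top (H : Hyp5 α) (O : Orb α u0 u1 u2 u3 u4 b1 b2) :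
    closure (({u0, u1, u2, u3, u4} : Set P) ∪ (center P : Set P)) = ⊤ := by
  have : Finite P := H.finite
  set X : Set P := ({u0, u1, u2, u3, u4} : Set P) ∪ (center P : Set P) with hX
  set M := closure X with hM
  have hZM : center P ≤ M := fun z hz => subset_closure (Or.inr hz)
  have h0 : u0 ∈ M := subset_closure (Or.inl (by simp))
  have h1 : u1 ∈ M := subset_closure (Or.inl (by simp))
  have h2 : u2 ∈ M := subset_closure (Or.inl (by simp))
  have h3 : u3 ∈ M := subset_closure (Or.inl (by simp))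
  have h4 : u4 ∈ M := subset_closure (Or.inl (by simp))
  have hinvM : ∀ y ∈ M, α y ∈ M := by
    intro y hy
    induction hy using Subgroup.closure_induction with
    | mem x hx =>
      rcases hx with hx | hx
      · simp only [Set.mem_insert_iff, Set.mem_singleton_iff] at hx
        rcases hx with hx | hx | hx | hx | hx
        · rw [hx, O.a0]; exact h1
        · rw [hx, O.a1]; exact h2
        · rw [hx, O.a2]; exact h3
        · rw [hx, O.a3]; exact h4
        · rw [hx, O.a4]; exact h0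
      · rw [H.fix_center hx]; exact hZM hx
    | one => rw [map_one]; exact one_mem _
    | mul x y _ _ h1 h2 => rw [map_mul]; exact mul_mem h1 h2
    | inv x _ h1 => rw [map_inv]; exact inv_mem h1
  set σ := Fpf3.quotAut α with hσ
  set M' : Subgroup (P ⧸ center P) := M.map (QuotientGroup.mk' (center P)) with hM'
  have hinv' : ∀ q ∈ M', σ q ∈ M' := by
    rintro q ⟨m, hm, rfl⟩
    exact ⟨α m, hinvM m hm, rfl⟩
  have hu0 : (QuotientGroup.mk u0 : P ⧸ center P) ∈ M' := ⟨u0, h0, rfl⟩
  have htop : M' = ⊤ := by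
    rcases H.quot_fpf.card_cases (by rw [H.card_quot]) M'
      (iff_of_imp σ H.quot_pow5 M' hinv') with h1 | h1
    · exfalso
      rw [Subgroup.card_eq_one.mp h1, Subgroup.mem_bot, QuotientGroup.eq_one_iff] at hu0
      exact O.nz hu0
    · exact Subgroup.eq_top_of_card_eq _ (by rw [h1, H.card_quot])
  rw [eq_top_iff]
  intro g _
  have hg : (QuotientGroup.mk g : P ⧸ center P) ∈ M' := htop ▸ Subgroup.mem_top _
  obtain ⟨m, hm, hmg⟩ := hg
  rw [QuotientGroup.mk'_apply, QuotientGroup.eq] at hmg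
  have : g = m * (m⁻¹ * g) := by group
  rw [this]
  exact mul_mem hm (hZM hmg)

/-- all commutators lie in a subgroup containing `b1` and `b2` -/
theorem cm_mem (H : Hyp5 α) (O : Orb α u0 u1 u2 u3 u4 b1 b2) (B : Subgroup P) (h1 : b1 ∈ B)
    (h2 : b2 ∈ B) (g k : P) : cm g k ∈ B := by
  have S := H.toSq
  apply S.cm_mem_of_closure B _ (O.closure_eq_top H)
  have e01 := O.e01 H
  have e12 := O.e12 H
  have e23 := O.e23 H
  have e34 := O.e34 H
  have e40 := O.e40 H
  have e02 := O.e02 H
  have e13 := O.e13 H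
  have e24 := O.e24 H
  have e30 := O.e30 H
  have e41 := O.e41 H
  have e10 : cm u1 u0 = b1 := by rw [S.cm_symm]; exact e01
  have e21 : cm u2 u1 = b1 := by rw [S.cm_symm]; exact e12
  have e32 : cm u3 u2 = b1 := by rw [S.cm_symm]; exact e23
  have e43 : cm u4 u3 = b1 := by rw [S.cm_symm]; exact e34
  have e04 : cm u0 u4 = b1 := by rw [S.cm_symm]; exact e40
  have e20 : cm u2 u0 = b2 := by rw [S.cm_symm]; exact e02
  have e31 : cm u3 u1 = b2 := by rw [S.cm_symm]; exact e13
  have e42 : cm u4 u2 = b2 := by rw [S.cm_symm]; exact e24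
  have e03 : cm u0 u3 = b2 := by rw [S.cm_symm]; exact e30
  have e14 : cm u1 u4 = b2 := by rw [S.cm_symm]; exact e41
  intro x hx y hy
  rcases hx with hx | hx
  · rcases hy with hy | hy
    · simp only [Set.mem_insert_iff, Set.mem_singleton_iff] at hx hy
      rcases hx with hx | hx | hx | hx | hx <;> rcases hy with hy | hy | hy | hy | hy <;>
        rw [hx, hy] <;>
        first
        | (rw [cm_self]; exact one_mem _)
        | (rw [e01]; exact h1) | (rw [e12]; exact h1) | (rw [e23]; exact h1)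
        | (rw [e34]; exact h1) | (rw [e40]; exact h1) | (rw [e10]; exact h1)
        | (rw [e21]; exact h1) | (rw [e32]; exact h1) | (rw [e43]; exact h1)
        | (rw [e04]; exact h1)
        | (rw [e02]; exact h2) | (rw [e13]; exact h2) | (rw [e24]; exact h2)
        | (rw [e30]; exact h2) | (rw [e41]; exact h2) | (rw [e20]; exact h2)
        | (rw [e31]; exact h2) | (rw [e42]; exact h2) | (rw [e03]; exact h2)
        | (rw [e14]; exact h2)
    · rw [S.cm_center_right hy]; exact one_mem _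
  · rw [S.cm_center_left hx]; exact one_mem _

/-- the centre lies in every subgroup containing `b1` and `b2` -/
theorem center_le (H : Hyp5 α) (O : Orb α u0 u1 u2 u3 u4 b1 b2) (B : Subgroup P) (h1 : b1 ∈ B)
    (h2 : b2 ∈ B) : center P ≤ B := by
  refine H.center_le_commutator.trans ?_
  rw [commutator_def, Subgroup.commutator_le]
  intro g _ k _
  rw [commutatorElement_def]
  exact O.cm_mem H B h1 h2 g k

theorem b1_ne (H : Hyp5 α) (O : Orb α u0 u1 u2 u3 u4 b1 b2) : b1 ≠ 1 := by
  intro h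
  apply H.not_center_le_zpowers b2 (H.zsq _ (O.b2z H))
  exact O.center_le H _ (h ▸ one_mem _) (mem_zpowers b2)

theorem b2_ne (H : Hyp5 α) (O : Orb α u0 u1 u2 u3 u4 b1 b2) : b2 ≠ 1 := by
  intro h
  apply H.not_center_le_zpowers b1 (H.zsq _ (O.b1z H))
  exact O.center_le H _ (mem_zpowers b1) (h ▸ one_mem _)

theorem b12_ne (H : Hyp5 α) (O : Orb α u0 u1 u2 u3 u4 b1 b2) : b1 ≠ b2 := by
  intro h
  apply H.not_center_le_zpowers b1 (H.zsq _ (O.b1z H))
  exact O.center_le H _ (mem_zpowers b1) (h ▸ mem_zpowers b1)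

end Orb

/-- generators and relations -/
structure UGens (u0 u1 u2 u3 b1 b2 : P) : Prop where
  s0 : u0 * u0 = b1 * b2
  s1 : u1 * u1 = b1 * b2
  s2 : u2 * u2 = b1 * b2
  s3 : u3 * u3 = b1 * b2
  bb1 : b1 * b1 = 1
  bb2 : b2 * b2 = 1
  c10 : u1 * u0 = u0 * (u1 * b1)
  c20 : u2 * u0 = u0 * (u2 * b2)
  c30 : u3 * u0 = u0 * (u3 * b2)
  c21 : u2 * u1 = u1 * (u2 * b1)
  c31 : u3 * u1 = u1 * (u3 * b2)
  c32 : u3 * u2 = u2 * (u3 * b1)
  b1c : ∀ u : P, b1 * u = u * b1
  b2c : ∀ u : P, b2 * u = u * b2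
  b1_ne : b1 ≠ 1
  b2_ne : b2 ≠ 1
  b12_ne : b1 ≠ b2

theorem swap_of_cm {g k b : P} (h : cm g k = b) (hb : ∀ u : P, b * u = u * b) :
    g * k = k * (g * b) := by
  have := swap g k
  rw [h] at this
  rw [this, hb, mul_assoc, hb g]

theorem Orb.ugens {α : MulAut P} {u0 u1 u2 u3 u4 b1 b2 : P} (H : Hyp5 α)
    (O : Orb α u0 u1 u2 u3 u4 b1 b2) : UGens u0 u1 u2 u3 b1 b2 := by
  have S := H.toSq
  have hb1c : ∀ u : P, b1 * u = u * b1 :=
    fun u => (Subgroup.mem_center_iff.mp (O.b1z H) u).symm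
  have hb2c : ∀ u : P, b2 * u = u * b2 :=
    fun u => (Subgroup.mem_center_iff.mp (O.b2z H) u).symm
  refine ⟨O.sq0 H, ?_, ?_, ?_, H.zsq _ (O.b1z H), H.zsq _ (O.b2z H), ?_, ?_, ?_, ?_, ?_, ?_,
    hb1c, hb2c, O.b1_ne H, O.b2_ne H, O.b12_ne H⟩
  · rw [O.sq1 H, O.sq0 H]
  · rw [O.sq2 H, O.sq0 H]
  · rw [O.sq3 H, O.sq0 H]
  · exact swap_of_cm (by rw [S.cm_symm]; exact O.e01 H) hb1c
  · exact swap_of_cm (by rw [S.cm_symm]; exact O.e02 H) hb2c
  · exact swap_of_cm (O.e30 H) hb2c
  · exact swap_of_cm (by rw [S.cm_symm]; exact O.e12 H) hb1c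
  · exact swap_of_cm (by rw [S.cm_symm]; exact O.e13 H) hb2c
  · exact swap_of_cm (by rw [S.cm_symm]; exact O.e23 H) hb1c

/-- existence of the generators -/
theorem Hyp5.exists_ugens {α : MulAut P} (H : Hyp5 α) :
    ∃ u0 u1 u2 u3 b1 b2 : P, UGens u0 u1 u2 u3 b1 b2 := by
  have : Finite P := H.finite
  obtain ⟨u0, hu0⟩ : ∃ u0 : P, u0 ∉ center P := by
    by_contra hcon
    push Not at hcon
    have htop : center P = ⊤ := eq_top_iff.mpr fun x _ => hcon x
    have := H.cardZ
    rw [htop, Subgroup.card_top, H.card] at this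
    omega
  have O : Orb α u0 (α u0) (α (α u0)) (α (α (α u0))) (α (α (α (α u0)))) (cm u0 (α u0))
      (cm u0 (α (α u0))) := ⟨rfl, rfl, rfl, rfl, H.pow5 u0, rfl, rfl, hu0⟩
  exact ⟨_, _, _, _, _, _, O.ugens H⟩

end Cfsg.Agent.Lib.H2.Q5
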