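import Mathlib
import Cfsg.Agent.Lib.H2.Q5D
import Cfsg.Agent.Lib.H2.RTG

set_option autoImplicit false
set_option linter.unusedSimpArgs false

/-!
# Groups of order 64 with an automorphism of order five: identification with `Ell`
-/

namespace Cfsg.Agent.Lib.H2.Q5

open Subgroup Cfsg.Agent.Lib.H2.L34 Cfsg.Agent.Lib.H2.RT

variable {P : Type*} [Group P]

namespace UGens

variable {u0 u1 u2 u3 b1 b2 : P}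

theorem q_u0 (G : UGens u0 u1 u2 u3 b1 b2) : u0 * u0 = b1 * b2 := G.s0
theorem q_u0R (G : UGens u0 u1 u2 u3 b1 b2) (u : P) : u0 * (u0 * u) = b1 * (b2 * u) := by
  rw [← mul_assoc, G.q_u0]; simp only [mul_assoc]
theorem q_u1 (G : UGens u0 u1 u2 u3 b1 b2) : u1 * u1 = b1 * b2 := G.s1
theorem q_u1R (G : UGens u0 u1 u2 u3 b1 b2) (u : P) : u1 * (u1 * u) = b1 * (b2 * u) := by
  rw [← mul_assoc, G.q_u1]; simp only [mul_assoc]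
theorem q_u2 (G : UGens u0 u1 u2 u3 b1 b2) : u2 * u2 = b1 * b2 := G.s2
theorem q_u2R (G : UGens u0 u1 u2 u3 b1 b2) (u : P) : u2 * (u2 * u) = b1 * (b2 * u) := by
  rw [← mul_assoc, G.q_u2]; simp only [mul_assoc]
theorem q_u3 (G : UGens u0 u1 u2 u3 b1 b2) : u3 * u3 = b1 * b2 := G.s3
theorem q_u3R (G : UGens u0 u1 u2 u3 b1 b2) (u : P) : u3 * (u3 * u) = b1 * (b2 * u) := by
  rw [← mul_assoc, G.q_u3]; simp only [mul_assoc]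
theorem q_b1 (G : UGens u0 u1 u2 u3 b1 b2) : b1 * b1 = 1 := G.bb1
theorem q_b1R (G : UGens u0 u1 u2 u3 b1 b2) (u : P) : b1 * (b1 * u) = u := by rw [← mul_assoc, G.q_b1, one_mul]
theorem q_b2 (G : UGens u0 u1 u2 u3 b1 b2) : b2 * b2 = 1 := G.bb2
theorem q_b2R (G : UGens u0 u1 u2 u3 b1 b2) (u : P) : b2 * (b2 * u) = u := by rw [← mul_assoc, G.q_b2, one_mul]
theorem r_u1_u0 (G : UGens u0 u1 u2 u3 b1 b2) : u1 * u0 = u0 * (u1 * b1) := G.c10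
theorem r_u1_u0R (G : UGens u0 u1 u2 u3 b1 b2) (u : P) : u1 * (u0 * u) = u0 * (u1 * (b1 * u)) := by
  rw [← mul_assoc, G.r_u1_u0]; simp only [mul_assoc]
theorem r_u2_u0 (G : UGens u0 u1 u2 u3 b1 b2) : u2 * u0 = u0 * (u2 * b2) := G.c20
theorem r_u2_u0R (G : UGens u0 u1 u2 u3 b1 b2) (u : P) : u2 * (u0 * u) = u0 * (u2 * (b2 * u)) := by
  rw [← mul_assoc, G.r_u2_u0]; simp only [mul_assoc]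
theorem r_u3_u0 (G : UGens u0 u1 u2 u3 b1 b2) : u3 * u0 = u0 * (u3 * b2) := G.c30
theorem r_u3_u0R (G : UGens u0 u1 u2 u3 b1 b2) (u : P) : u3 * (u0 * u) = u0 * (u3 * (b2 * u)) := by
  rw [← mul_assoc, G.r_u3_u0]; simp only [mul_assoc]
theorem r_u2_u1 (G : UGens u0 u1 u2 u3 b1 b2) : u2 * u1 = u1 * (u2 * b1) := G.c21
theorem r_u2_u1R (G : UGens u0 u1 u2 u3 b1 b2) (u : P) : u2 * (u1 * u) = u1 * (u2 * (b1 * u)) := by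
  rw [← mul_assoc, G.r_u2_u1]; simp only [mul_assoc]
theorem r_u3_u1 (G : UGens u0 u1 u2 u3 b1 b2) : u3 * u1 = u1 * (u3 * b2) := G.c31
theorem r_u3_u1R (G : UGens u0 u1 u2 u3 b1 b2) (u : P) : u3 * (u1 * u) = u1 * (u3 * (b2 * u)) := by
  rw [← mul_assoc, G.r_u3_u1]; simp only [mul_assoc]
theorem r_u3_u2 (G : UGens u0 u1 u2 u3 b1 b2) : u3 * u2 = u2 * (u3 * b1) := G.c32
theorem r_u3_u2R (G : UGens u0 u1 u2 u3 b1 b2) (u : P) : u3 * (u2 * u) = u2 * (u3 * (b1 * u)) := by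
  rw [← mul_assoc, G.r_u3_u2]; simp only [mul_assoc]
theorem r_b1_u0 (G : UGens u0 u1 u2 u3 b1 b2) : b1 * u0 = u0 * b1 := G.b1c _
theorem r_b1_u0R (G : UGens u0 u1 u2 u3 b1 b2) (u : P) : b1 * (u0 * u) = u0 * (b1 * u) := by
  rw [← mul_assoc, G.r_b1_u0, mul_assoc]
theorem r_b1_u1 (G : UGens u0 u1 u2 u3 b1 b2) : b1 * u1 = u1 * b1 := G.b1c _
theorem r_b1_u1R (G : UGens u0 u1 u2 u3 b1 b2) (u : P) : b1 * (u1 * u) = u1 * (b1 * u) := by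
  rw [← mul_assoc, G.r_b1_u1, mul_assoc]
theorem r_b1_u2 (G : UGens u0 u1 u2 u3 b1 b2) : b1 * u2 = u2 * b1 := G.b1c _
theorem r_b1_u2R (G : UGens u0 u1 u2 u3 b1 b2) (u : P) : b1 * (u2 * u) = u2 * (b1 * u) := by
  rw [← mul_assoc, G.r_b1_u2, mul_assoc]
theorem r_b1_u3 (G : UGens u0 u1 u2 u3 b1 b2) : b1 * u3 = u3 * b1 := G.b1c _
theorem r_b1_u3R (G : UGens u0 u1 u2 u3 b1 b2) (u : P) : b1 * (u3 * u) = u3 * (b1 * u) := by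
  rw [← mul_assoc, G.r_b1_u3, mul_assoc]
theorem r_b2_u0 (G : UGens u0 u1 u2 u3 b1 b2) : b2 * u0 = u0 * b2 := G.b2c _
theorem r_b2_u0R (G : UGens u0 u1 u2 u3 b1 b2) (u : P) : b2 * (u0 * u) = u0 * (b2 * u) := by
  rw [← mul_assoc, G.r_b2_u0, mul_assoc]
theorem r_b2_u1 (G : UGens u0 u1 u2 u3 b1 b2) : b2 * u1 = u1 * b2 := G.b2c _
theorem r_b2_u1R (G : UGens u0 u1 u2 u3 b1 b2) (u : P) : b2 * (u1 * u) = u1 * (b2 * u) := by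
  rw [← mul_assoc, G.r_b2_u1, mul_assoc]
theorem r_b2_u2 (G : UGens u0 u1 u2 u3 b1 b2) : b2 * u2 = u2 * b2 := G.b2c _
theorem r_b2_u2R (G : UGens u0 u1 u2 u3 b1 b2) (u : P) : b2 * (u2 * u) = u2 * (b2 * u) := by
  rw [← mul_assoc, G.r_b2_u2, mul_assoc]
theorem r_b2_u3 (G : UGens u0 u1 u2 u3 b1 b2) : b2 * u3 = u3 * b2 := G.b2c _
theorem r_b2_u3R (G : UGens u0 u1 u2 u3 b1 b2) (u : P) : b2 * (u3 * u) = u3 * (b2 * u) := by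
  rw [← mul_assoc, G.r_b2_u3, mul_assoc]
theorem r_b2_b1 (G : UGens u0 u1 u2 u3 b1 b2) : b2 * b1 = b1 * b2 := G.b2c _
theorem r_b2_b1R (G : UGens u0 u1 u2 u3 b1 b2) (u : P) : b2 * (b1 * u) = b1 * (b2 * u) := by
  rw [← mul_assoc, G.r_b2_b1, mul_assoc]

/-- the relations of `Ell` -/
theorem egens (G : UGens u0 u1 u2 u3 b1 b2) :
    EGens (u0 * u2) u1 u0 (u2 * u3) b2 (b1 * b2) := by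
  refine ⟨?_, ?_, ?_, ?_, ?_, ?_, ?_, ?_, ?_, ?_, ?_, ?_, ?_, ?_, ?_, ?_, ?_⟩
  · simp only [mul_assoc, mul_one, one_mul, G.q_u0, G.q_u0R, G.q_u1, G.q_u1R, G.q_u2, G.q_u2R, G.q_u3, G.q_u3R, G.q_b1, G.q_b1R, G.q_b2, G.q_b2R, G.r_u1_u0, G.r_u1_u0R, G.r_u2_u0, G.r_u2_u0R, G.r_u3_u0, G.r_u3_u0R, G.r_u2_u1, G.r_u2_u1R, G.r_u3_u1, G.r_u3_u1R, G.r_u3_u2, G.r_u3_u2R, G.r_b1_u0, G.r_b1_u0R, G.r_b1_u1, G.r_b1_u1R, G.r_b1_u2, G.r_b1_u2R, G.r_b1_u3, G.r_b1_u3R, G.r_b2_u0, G.r_b2_u0R, G.r_b2_u1, G.r_b2_u1R, G.r_b2_u2, G.r_b2_u2R, G.r_b2_u3, G.r_b2_u3R, G.r_b2_b1, G.r_b2_b1R]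
  · simp only [mul_assoc, mul_one, one_mul, G.q_u0, G.q_u0R, G.q_u1, G.q_u1R, G.q_u2, G.q_u2R, G.q_u3, G.q_u3R, G.q_b1, G.q_b1R, G.q_b2, G.q_b2R, G.r_u1_u0, G.r_u1_u0R, G.r_u2_u0, G.r_u2_u0R, G.r_u3_u0, G.r_u3_u0R, G.r_u2_u1, G.r_u2_u1R, G.r_u3_u1, G.r_u3_u1R, G.r_u3_u2, G.r_u3_u2R, G.r_b1_u0, G.r_b1_u0R, G.r_b1_u1, G.r_b1_u1R, G.r_b1_u2, G.r_b1_u2R, G.r_b1_u3, G.r_b1_u3R, G.r_b2_u0, G.r_b2_u0R, G.r_b2_u1, G.r_b2_u1R, G.r_b2_u2, G.r_b2_u2R, G.r_b2_u3, G.r_b2_u3R, G.r_b2_b1, G.r_b2_b1R]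
  · simp only [mul_assoc, mul_one, one_mul, G.q_u0, G.q_u0R, G.q_u1, G.q_u1R, G.q_u2, G.q_u2R, G.q_u3, G.q_u3R, G.q_b1, G.q_b1R, G.q_b2, G.q_b2R, G.r_u1_u0, G.r_u1_u0R, G.r_u2_u0, G.r_u2_u0R, G.r_u3_u0, G.r_u3_u0R, G.r_u2_u1, G.r_u2_u1R, G.r_u3_u1, G.r_u3_u1R, G.r_u3_u2, G.r_u3_u2R, G.r_b1_u0, G.r_b1_u0R, G.r_b1_u1, G.r_b1_u1R, G.r_b1_u2, G.r_b1_u2R, G.r_b1_u3, G.r_b1_u3R, G.r_b2_u0, G.r_b2_u0R, G.r_b2_u1, G.r_b2_u1R, G.r_b2_u2, G.r_b2_u2R, G.r_b2_u3, G.r_b2_u3R, G.r_b2_b1, G.r_b2_b1R]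
  · simp only [mul_assoc, mul_one, one_mul, G.q_u0, G.q_u0R, G.q_u1, G.q_u1R, G.q_u2, G.q_u2R, G.q_u3, G.q_u3R, G.q_b1, G.q_b1R, G.q_b2, G.q_b2R, G.r_u1_u0, G.r_u1_u0R, G.r_u2_u0, G.r_u2_u0R, G.r_u3_u0, G.r_u3_u0R, G.r_u2_u1, G.r_u2_u1R, G.r_u3_u1, G.r_u3_u1R, G.r_u3_u2, G.r_u3_u2R, G.r_b1_u0, G.r_b1_u0R, G.r_b1_u1, G.r_b1_u1R, G.r_b1_u2, G.r_b1_u2R, G.r_b1_u3, G.r_b1_u3R, G.r_b2_u0, G.r_b2_u0R, G.r_b2_u1, G.r_b2_u1R, G.r_b2_u2, G.r_b2_u2R, G.r_b2_u3, G.r_b2_u3R, G.r_b2_b1, G.r_b2_b1R]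
  · simp only [mul_assoc, mul_one, one_mul, G.q_u0, G.q_u0R, G.q_u1, G.q_u1R, G.q_u2, G.q_u2R, G.q_u3, G.q_u3R, G.q_b1, G.q_b1R, G.q_b2, G.q_b2R, G.r_u1_u0, G.r_u1_u0R, G.r_u2_u0, G.r_u2_u0R, G.r_u3_u0, G.r_u3_u0R, G.r_u2_u1, G.r_u2_u1R, G.r_u3_u1, G.r_u3_u1R, G.r_u3_u2, G.r_u3_u2R, G.r_b1_u0, G.r_b1_u0R, G.r_b1_u1, G.r_b1_u1R, G.r_b1_u2, G.r_b1_u2R, G.r_b1_u3, G.r_b1_u3R, G.r_b2_u0, G.r_b2_u0R, G.r_b2_u1, G.r_b2_u1R, G.r_b2_u2, G.r_b2_u2R, G.r_b2_u3, G.r_b2_u3R, G.r_b2_b1, G.r_b2_b1R]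
  · simp only [mul_assoc, mul_one, one_mul, G.q_u0, G.q_u0R, G.q_u1, G.q_u1R, G.q_u2, G.q_u2R, G.q_u3, G.q_u3R, G.q_b1, G.q_b1R, G.q_b2, G.q_b2R, G.r_u1_u0, G.r_u1_u0R, G.r_u2_u0, G.r_u2_u0R, G.r_u3_u0, G.r_u3_u0R, G.r_u2_u1, G.r_u2_u1R, G.r_u3_u1, G.r_u3_u1R, G.r_u3_u2, G.r_u3_u2R, G.r_b1_u0, G.r_b1_u0R, G.r_b1_u1, G.r_b1_u1R, G.r_b1_u2, G.r_b1_u2R, G.r_b1_u3, G.r_b1_u3R, G.r_b2_u0, G.r_b2_u0R, G.r_b2_u1, G.r_b2_u1R, G.r_b2_u2, G.r_b2_u2R, G.r_b2_u3, G.r_b2_u3R, G.r_b2_b1, G.r_b2_b1R]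
  · simp only [mul_assoc, mul_one, one_mul, G.q_u0, G.q_u0R, G.q_u1, G.q_u1R, G.q_u2, G.q_u2R, G.q_u3, G.q_u3R, G.q_b1, G.q_b1R, G.q_b2, G.q_b2R, G.r_u1_u0, G.r_u1_u0R, G.r_u2_u0, G.r_u2_u0R, G.r_u3_u0, G.r_u3_u0R, G.r_u2_u1, G.r_u2_u1R, G.r_u3_u1, G.r_u3_u1R, G.r_u3_u2, G.r_u3_u2R, G.r_b1_u0, G.r_b1_u0R, G.r_b1_u1, G.r_b1_u1R, G.r_b1_u2, G.r_b1_u2R, G.r_b1_u3, G.r_b1_u3R, G.r_b2_u0, G.r_b2_u0R, G.r_b2_u1, G.r_b2_u1R, G.r_b2_u2, G.r_b2_u2R, G.r_b2_u3, G.r_b2_u3R, G.r_b2_b1, G.r_b2_b1R]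
  · simp only [mul_assoc, mul_one, one_mul, G.q_u0, G.q_u0R, G.q_u1, G.q_u1R, G.q_u2, G.q_u2R, G.q_u3, G.q_u3R, G.q_b1, G.q_b1R, G.q_b2, G.q_b2R, G.r_u1_u0, G.r_u1_u0R, G.r_u2_u0, G.r_u2_u0R, G.r_u3_u0, G.r_u3_u0R, G.r_u2_u1, G.r_u2_u1R, G.r_u3_u1, G.r_u3_u1R, G.r_u3_u2, G.r_u3_u2R, G.r_b1_u0, G.r_b1_u0R, G.r_b1_u1, G.r_b1_u1R, G.r_b1_u2, G.r_b1_u2R, G.r_b1_u3, G.r_b1_u3R, G.r_b2_u0, G.r_b2_u0R, G.r_b2_u1, G.r_b2_u1R, G.r_b2_u2, G.r_b2_u2R, G.r_b2_u3, G.r_b2_u3R, G.r_b2_b1, G.r_b2_b1R]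
  · simp only [mul_assoc, mul_one, one_mul, G.q_u0, G.q_u0R, G.q_u1, G.q_u1R, G.q_u2, G.q_u2R, G.q_u3, G.q_u3R, G.q_b1, G.q_b1R, G.q_b2, G.q_b2R, G.r_u1_u0, G.r_u1_u0R, G.r_u2_u0, G.r_u2_u0R, G.r_u3_u0, G.r_u3_u0R, G.r_u2_u1, G.r_u2_u1R, G.r_u3_u1, G.r_u3_u1R, G.r_u3_u2, G.r_u3_u2R, G.r_b1_u0, G.r_b1_u0R, G.r_b1_u1, G.r_b1_u1R, G.r_b1_u2, G.r_b1_u2R, G.r_b1_u3, G.r_b1_u3R, G.r_b2_u0, G.r_b2_u0R, G.r_b2_u1, G.r_b2_u1R, G.r_b2_u2, G.r_b2_u2R, G.r_b2_u3, G.r_b2_u3R, G.r_b2_b1, G.r_b2_b1R]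
  · simp only [mul_assoc, mul_one, one_mul, G.q_u0, G.q_u0R, G.q_u1, G.q_u1R, G.q_u2, G.q_u2R, G.q_u3, G.q_u3R, G.q_b1, G.q_b1R, G.q_b2, G.q_b2R, G.r_u1_u0, G.r_u1_u0R, G.r_u2_u0, G.r_u2_u0R, G.r_u3_u0, G.r_u3_u0R, G.r_u2_u1, G.r_u2_u1R, G.r_u3_u1, G.r_u3_u1R, G.r_u3_u2, G.r_u3_u2R, G.r_b1_u0, G.r_b1_u0R, G.r_b1_u1, G.r_b1_u1R, G.r_b1_u2, G.r_b1_u2R, G.r_b1_u3, G.r_b1_u3R, G.r_b2_u0, G.r_b2_u0R, G.r_b2_u1, G.r_b2_u1R, G.r_b2_u2, G.r_b2_u2R, G.r_b2_u3, G.r_b2_u3R, G.r_b2_b1, G.r_b2_b1R]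
  · simp only [mul_assoc, mul_one, one_mul, G.q_u0, G.q_u0R, G.q_u1, G.q_u1R, G.q_u2, G.q_u2R, G.q_u3, G.q_u3R, G.q_b1, G.q_b1R, G.q_b2, G.q_b2R, G.r_u1_u0, G.r_u1_u0R, G.r_u2_u0, G.r_u2_u0R, G.r_u3_u0, G.r_u3_u0R, G.r_u2_u1, G.r_u2_u1R, G.r_u3_u1, G.r_u3_u1R, G.r_u3_u2, G.r_u3_u2R, G.r_b1_u0, G.r_b1_u0R, G.r_b1_u1, G.r_b1_u1R, G.r_b1_u2, G.r_b1_u2R, G.r_b1_u3, G.r_b1_u3R, G.r_b2_u0, G.r_b2_u0R, G.r_b2_u1, G.r_b2_u1R, G.r_b2_u2, G.r_b2_u2R, G.r_b2_u3, G.r_b2_u3R, G.r_b2_b1, G.r_b2_b1R]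
  · simp only [mul_assoc, mul_one, one_mul, G.q_u0, G.q_u0R, G.q_u1, G.q_u1R, G.q_u2, G.q_u2R, G.q_u3, G.q_u3R, G.q_b1, G.q_b1R, G.q_b2, G.q_b2R, G.r_u1_u0, G.r_u1_u0R, G.r_u2_u0, G.r_u2_u0R, G.r_u3_u0, G.r_u3_u0R, G.r_u2_u1, G.r_u2_u1R, G.r_u3_u1, G.r_u3_u1R, G.r_u3_u2, G.r_u3_u2R, G.r_b1_u0, G.r_b1_u0R, G.r_b1_u1, G.r_b1_u1R, G.r_b1_u2, G.r_b1_u2R, G.r_b1_u3, G.r_b1_u3R, G.r_b2_u0, G.r_b2_u0R, G.r_b2_u1, G.r_b2_u1R, G.r_b2_u2, G.r_b2_u2R, G.r_b2_u3, G.r_b2_u3R, G.r_b2_b1, G.r_b2_b1R]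
  · exact G.b2c
  · intro u
    rw [mul_assoc, G.b2c, ← mul_assoc, G.b1c, mul_assoc]
  · exact G.b2_ne
  · intro h
    apply G.b12_ne
    calc b1 = b1 * b2 * b2 := by rw [mul_assoc, G.bb2, mul_one]
      _ = b2 := by rw [h, one_mul]
  · intro h
    apply G.b1_ne
    rw [← h]
    simp only [mul_assoc, mul_one, one_mul, G.q_u0, G.q_u0R, G.q_u1, G.q_u1R, G.q_u2, G.q_u2R, G.q_u3, G.q_u3R, G.q_b1, G.q_b1R, G.q_b2, G.q_b2R, G.r_u1_u0, G.r_u1_u0R, G.r_u2_u0, G.r_u2_u0R, G.r_u3_u0, G.r_u3_u0R, G.r_u2_u1, G.r_u2_u1R, G.r_u3_u1, G.r_u3_u1R, G.r_u3_u2, G.r_u3_u2R, G.r_b1_u0, G.r_b1_u0R, G.r_b1_u1, G.r_b1_u1R, G.r_b1_u2, G.r_b1_u2R, G.r_b1_u3, G.r_b1_u3R, G.r_b2_u0, G.r_b2_u0R, G.r_b2_u1, G.r_b2_u1R, G.r_b2_u2, G.r_b2_u2R, G.r_b2_u3, G.r_b2_u3R, G.r_b2_b1,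 G.r_b2_b1R]

end UGens

/-- a group satisfying `Hyp5` is the group `Ell` -/
theorem Hyp5.nonempty_ell_equiv {α : MulAut P} (H : Hyp5 α) : Nonempty (Ell ≃* P) := by
  have : Finite P := H.finite
  obtain ⟨u0, u1, u2, u3, b1, b2, G⟩ := H.exists_ugens
  exact G.egens.nonempty_ell_equiv H.card

end Cfsg.Agent.Lib.H2.Q5
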