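import Mathlib
import Cfsg.Agent.Lib.H2.Q5E

set_option autoImplicit false

/-!
# Groups of order 320 whose derived subgroup has order 64 and centre a four-group
-/

namespace Cfsg.Agent.Lib.H2.Q5

open Subgroup Cfsg.Agent.Lib.H2.L34 Cfsg.Agent.Lib.H2.RT

variable {G : Type*} [Group G]

/-- a subgroup of order 64 and an element of order 5 generate a group of order 320 -/
theorem sup_zpowers_eq_top [Finite G] (hG : Nat.card G = 320) (P : Subgroup G)
    (hP : Nat.card P = 64) (a : G) (ha : orderOf a = 5) : P ⊔ zpowers a = ⊤ := by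
  have h1 : 64 ∣ Nat.card ↥(P ⊔ zpowers a) := hP ▸ Subgroup.card_dvd_of_le le_sup_left
  have h2 : 5 ∣ Nat.card ↥(P ⊔ zpowers a) := by
    have := Subgroup.card_dvd_of_le (le_sup_right : zpowers a ≤ P ⊔ zpowers a)
    rwa [Nat.card_zpowers, ha] at this
  have h3 : 320 ∣ Nat.card ↥(P ⊔ zpowers a) :=
    Nat.Coprime.mul_dvd_of_dvd_of_dvd (by norm_num) h1 h2
  apply Subgroup.eq_top_of_card_eq
  have h4 := Subgroup.card_le_card_group (P ⊔ zpowers a)
  have h5 := Nat.le_of_dvd Nat.card_pos h3
  omega

theorem eq_top_of_le_of_mem {P : Subgroup G} {a : G} (h : P ⊔ zpowers a = ⊤) (L : Subgroup G)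
    (hP : P ≤ L) (ha : a ∈ L) : L = ⊤ := by
  rw [eq_top_iff, ← h]
  exact sup_le hP ((zpowers_le).mpr ha)

theorem conjNormal_pow5 {P : Subgroup G} [P.Normal] (a : G) (ha : a ^ 5 = 1) (y : P) :
    (MulAut.conjNormal a) ((MulAut.conjNormal a) ((MulAut.conjNormal a)
      ((MulAut.conjNormal a) ((MulAut.conjNormal a) y)))) = y := by
  have h1 : (MulAut.conjNormal a : MulAut P) ^ 5 = 1 := by
    rw [← map_pow, ha, map_one]
  have h2 : ((MulAut.conjNormal a : MulAut P) ^ 5) y = y := by rw [h1]; rfl
  simpa [pow_succ, MulAut.mul_apply] using h2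

/-- the hypotheses `Hyp5` hold in a group of order 320 with derived subgroup of order 64 with
centre a four-group -/
theorem hyp5_of_group [Finite G] (hG : Nat.card G = 320)
    (hD : Nat.card (commutator G) = 64) (hZ : IsKleinFour (center (commutator G)))
    (a : G) (ha : orderOf a = 5) :
    Hyp5 (MulAut.conjNormal a : MulAut (commutator G)) := by
  have ha5 : a ^ 5 = 1 := by rw [← ha]; exact pow_orderOf_eq_one a
  set α : MulAut (commutator G) := MulAut.conjNormal a with hα
  have hαv : ∀ y : commutator G, ((α y : commutator G) : G) = a * y * a⁻¹ :=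
    fun y => MulAut.conjNormal_apply a y
  have hsup := sup_zpowers_eq_top hG (commutator G) hD a ha
  refine ⟨hD, hZ.card_four, ?_, conjNormal_pow5 a ha5, ?_⟩
  · intro z hz
    have h1 : (⟨z, hz⟩ : center (commutator G)) ^ 2 = 1 := by
      rw [← hZ.exponent_two]; exact Monoid.pow_exponent_eq_one _
    have h2 := congrArg Subtype.val h1
    simpa [pow_two] using h2
  · intro N hN hinv hcm htw
    have hinv' := iff_of_imp α (conjNormal_pow5 a ha5) N hinv
    set K : Subgroup G := N.map (commutator G).subtype with hK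
    have hKmem : ∀ g : G, g ∈ K ↔ ∃ h : g ∈ commutator G, (⟨g, h⟩ : commutator G) ∈ N := by
      intro g
      constructor
      · rintro ⟨n, hn, rfl⟩
        exact ⟨n.2, hn⟩
      · rintro ⟨h, hn⟩
        exact ⟨⟨g, h⟩, hn, rfl⟩
    have hKle : K ≤ commutator G := fun g hg => ((hKmem g).mp hg).1
    -- `K` is normal
    have hnorm : normalizer (K : Set G) = ⊤ := by
      apply eq_top_of_le_of_mem hsup
      · intro x hx
        rw [Subgroup.mem_normalizer_iff]
        intro g
        rw [hKmem, hKmem]
        constructor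
        · rintro ⟨h, hn⟩
          refine ⟨Subgroup.Normal.conj_mem inferInstance g h x, ?_⟩
          have := hN.conj_mem _ hn ⟨x, hx⟩
          exact this
        · rintro ⟨h, hn⟩
          have hg : g ∈ commutator G := by
            have := Subgroup.Normal.conj_mem (inferInstance : (commutator G).Normal) _ h x⁻¹
            have e : x⁻¹ * (x * g * x⁻¹) * x⁻¹⁻¹ = g := by group
            rwa [e] at this
          refine ⟨hg, ?_⟩
          have := hN.conj_mem _ hn ⟨x, hx⟩⁻¹
          have e : (⟨x, hx⟩ : commutator G)⁻¹ * ⟨x * g * x⁻¹, h⟩ * (⟨x, hx⟩ : commutator G)⁻¹⁻¹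
              = ⟨g, hg⟩ := by
            apply Subtype.ext
            simp only [Subgroup.coe_mul, Subgroup.coe_inv]
            group
          rwa [e] at this
      · rw [Subgroup.mem_normalizer_iff]
        intro g
        rw [hKmem, hKmem]
        constructor
        · rintro ⟨h, hn⟩
          refine ⟨Subgroup.Normal.conj_mem inferInstance g h a, ?_⟩
          have := hinv _ hn
          have e : α ⟨g, h⟩ = ⟨a * g * a⁻¹, Subgroup.Normal.conj_mem inferInstance g h a⟩ :=
            Subtype.ext (hαv _)
          rwa [e] at this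
        · rintro ⟨h, hn⟩
          have hg : g ∈ commutator G := by
            have := Subgroup.Normal.conj_mem (inferInstance : (commutator G).Normal) _ h a⁻¹
            have e : a⁻¹ * (a * g * a⁻¹) * a⁻¹⁻¹ = g := by group
            rwa [e] at this
          refine ⟨hg, ?_⟩
          rw [hinv']
          have e : α ⟨g, hg⟩ = ⟨a * g * a⁻¹, h⟩ := Subtype.ext (hαv _)
          rwa [e]
    have hKn : K.Normal := Subgroup.normalizer_eq_top_iff.mp hnorm
    -- the quotient is commutative
    have hcomm : ∀ x y : G, Commute (QuotientGroup.mk' K x) (QuotientGroup.mk' K y) := by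
      have hgen : closure (((commutator G : Subgroup G) : Set G) ∪ {a}) = ⊤ := by
        rw [Subgroup.closure_union, Subgroup.closure_eq, ← Subgroup.zpowers_eq_closure]
        exact hsup
      have hPP : ∀ x ∈ commutator G, ∀ y ∈ commutator G,
          Commute (QuotientGroup.mk' K x) (QuotientGroup.mk' K y) := by
        intro x hx y hy
        show QuotientGroup.mk' K x * QuotientGroup.mk' K y =
          QuotientGroup.mk' K y * QuotientGroup.mk' K x
        rw [← map_mul, ← map_mul, QuotientGroup.mk'_apply, QuotientGroup.mk'_apply,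
          QuotientGroup.eq, hKmem]
        have h1 := hcm (⟨x, hx⟩⁻¹) (⟨y, hy⟩⁻¹)
        have e : (x * y)⁻¹ * (y * x) = ((cm (⟨x, hx⟩⁻¹ : commutator G) (⟨y, hy⟩⁻¹)
            : commutator G) : G)⁻¹ := by
          rw [cm_def]
          simp only [Subgroup.coe_mul, Subgroup.coe_inv]
          group
        rw [e]
        exact ⟨(inv_mem (cm (⟨x, hx⟩⁻¹ : commutator G) (⟨y, hy⟩⁻¹)).2), inv_mem h1⟩
      have hPa : ∀ x ∈ commutator G,
          Commute (QuotientGroup.mk' K a) (QuotientGroup.mk' K x) := by
        intro x hx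
        have h1 : QuotientGroup.mk' K (a * x * a⁻¹) = QuotientGroup.mk' K x := by
          rw [QuotientGroup.mk'_apply, QuotientGroup.mk'_apply, eq_comm, QuotientGroup.eq, hKmem]
          have h2 := htw ⟨x, hx⟩
          have e : x⁻¹ * (a * x * a⁻¹) = (((⟨x, hx⟩ : commutator G)⁻¹ * α ⟨x, hx⟩
              : commutator G) : G) := by
            simp only [Subgroup.coe_mul, Subgroup.coe_inv, hαv]
          rw [e]
          exact ⟨((⟨x, hx⟩ : commutator G)⁻¹ * α ⟨x, hx⟩).2, h2⟩
        rw [map_mul, map_mul, map_inv] at h1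
        show QuotientGroup.mk' K a * QuotientGroup.mk' K x =
          QuotientGroup.mk' K x * QuotientGroup.mk' K a
        calc QuotientGroup.mk' K a * QuotientGroup.mk' K x
            = (QuotientGroup.mk' K a * QuotientGroup.mk' K x * (QuotientGroup.mk' K a)⁻¹) *
              QuotientGroup.mk' K a := by group
          _ = QuotientGroup.mk' K x * QuotientGroup.mk' K a := by rw [h1]
      intro x y
      have hx : x ∈ closure (((commutator G : Subgroup G) : Set G) ∪ {a}) := hgen ▸ mem_top x
      have hy : y ∈ closure (((commutator G : Subgroup G) : Set G) ∪ {a}) := hgen ▸ mem_top y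
      refine Subgroup.closure_induction₂ (p := fun x y _ _ =>
        Commute (QuotientGroup.mk' K x) (QuotientGroup.mk' K y)) ?_ ?_ ?_ ?_ ?_ ?_ ?_ hx hy
      · intro x y hx hy
        rcases hx with hx | hx <;> rcases hy with hy | hy
        · exact hPP x hx y hy
        · rw [Set.mem_singleton_iff.mp hy]; exact (hPa x hx).symm
        · rw [Set.mem_singleton_iff.mp hx]; exact hPa y hy
        · rw [Set.mem_singleton_iff.mp hx, Set.mem_singleton_iff.mp hy]
      · intro x _; rw [map_one]; exact Commute.one_left _
      · intro x _; rw [map_one]; exact Commute.one_right _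
      · intro x y z _ _ _ h1 h2; rw [map_mul]; exact h1.mul_left h2
      · intro y z x _ _ _ h1 h2; rw [map_mul]; exact h1.mul_right h2
      · intro x y _ _ h1; rw [map_inv]; exact h1.inv_left
      · intro x y _ _ h1; rw [map_inv]; exact h1.inv_right
    have hle : commutator G ≤ K := by
      rw [← Subgroup.Normal.quotient_commutative_iff_commutator_le]
      refine ⟨⟨fun x' y' => ?_⟩⟩
      obtain ⟨x, rfl⟩ := QuotientGroup.mk'_surjective K x'
      obtain ⟨y, rfl⟩ := QuotientGroup.mk'_surjective K y'
      exact (hcomm x y).eq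
    rw [eq_top_iff]
    intro y _
    obtain ⟨h, hn⟩ := (hKmem y).mp (hle y.2)
    exact hn

end Cfsg.Agent.Lib.H2.Q5
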