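import Mathlib

set_option autoImplicit false

/-!
# Split extensions by a cyclic group are determined by the action of a generator
-/

namespace Cfsg.Agent.Lib.H2.Q5

open Subgroup

theorem forall_mem_zpowers_mk {G : Type*} [Group G] (a : G) (x : zpowers a) :
    x ∈ zpowers (⟨a, mem_zpowers a⟩ : zpowers a) := by
  obtain ⟨n, hn⟩ := mem_zpowers_iff.mp x.2
  rw [mem_zpowers_iff]
  exact ⟨n, Subtype.ext (by rw [Subgroup.coe_zpow]; exact hn)⟩

/-- two split extensions of isomorphic normal subgroups by cyclic groups of the same order, with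
generators acting compatibly, are isomorphic -/
theorem nonempty_mulEquiv_of_compl {G₁ G₂ : Type*} [Group G₁] [Group G₂]
    (P₁ : Subgroup G₁) [P₁.Normal] (P₂ : Subgroup G₂) [P₂.Normal] (a₁ : G₁) (a₂ : G₂)
    (hc₁ : P₁.IsComplement' (zpowers a₁)) (hc₂ : P₂.IsComplement' (zpowers a₂))
    (ho : orderOf a₁ = orderOf a₂)
    (f : P₁ ≃* P₂) (hf : ∀ x : P₁, f (MulAut.conjNormal a₁ x) = MulAut.conjNormal a₂ (f x)) :
    Nonempty (G₁ ≃* G₂) := by
  let e₁ := SemidirectProduct.mulEquivSubgroup hc₁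
  let e₂ := SemidirectProduct.mulEquivSubgroup hc₂
  let g₁ : zpowers a₁ := ⟨a₁, mem_zpowers a₁⟩
  let g₂ : zpowers a₂ := ⟨a₂, mem_zpowers a₂⟩
  have hg₁ : ∀ x : zpowers a₁, x ∈ zpowers g₁ := forall_mem_zpowers_mk a₁
  have hg₂ : ∀ x : zpowers a₂, x ∈ zpowers g₂ := forall_mem_zpowers_mk a₂
  have hoo : orderOf g₁ = orderOf g₂ := by
    rw [Subgroup.orderOf_mk, Subgroup.orderOf_mk, ho]
  let fg : zpowers a₁ ≃* zpowers a₂ := mulEquivOfOrderOfEq hg₁ hg₂ hoo
  have hfg : fg g₁ = g₂ := mulEquivOfOrderOfEq_apply_gen hg₁ hg₂ hoo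
  let φ₁ : zpowers a₁ →* MulAut P₁ :=
    (P₁.normalizerMonoidHom).comp (inclusion (P₁.normalizer_eq_top ▸ le_top))
  let φ₂ : zpowers a₂ →* MulAut P₂ :=
    (P₂.normalizerMonoidHom).comp (inclusion (P₂.normalizer_eq_top ▸ le_top))
  have hφ₁ : ∀ (g : zpowers a₁) (x : P₁), ((φ₁ g x : P₁) : G₁) = g * x * (g : G₁)⁻¹ :=
    fun g x => rfl
  have hφ₂ : ∀ (g : zpowers a₂) (x : P₂), ((φ₂ g x : P₂) : G₂) = g * x * (g : G₂)⁻¹ :=
    fun g x => rfl
  have hkey : φ₂.comp fg.toMonoidHom = (MulAut.congr f).toMonoidHom.comp φ₁ := by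
    rw [MonoidHom.eq_iff_eq_on_generator hg₁]
    simp only [MonoidHom.comp_apply, MulEquiv.coe_toMonoidHom, hfg]
    ext x
    rw [hφ₂]
    have h1 := hf (f.symm x)
    rw [f.apply_symm_apply] at h1
    have h2 : MulAut.congr f (φ₁ g₁) x = f (φ₁ g₁ (f.symm x)) := rfl
    have h3 : φ₁ g₁ (f.symm x) = MulAut.conjNormal a₁ (f.symm x) := by
      apply Subtype.ext
      rw [hφ₁, MulAut.conjNormal_apply]
    rw [h2, h3, h1, MulAut.conjNormal_apply]
  have hcompat : ∀ g : zpowers a₁, (φ₁ g).trans f = f.trans (φ₂ (fg g)) := by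
    intro g
    have h1 := DFunLike.congr_fun hkey g
    simp only [MonoidHom.comp_apply, MulEquiv.coe_toMonoidHom] at h1
    rw [h1]
    ext x
    simp [MulAut.congr]
  exact ⟨e₁.symm.trans ((SemidirectProduct.congr f fg hcompat).trans e₂)⟩

end Cfsg.Agent.Lib.H2.Q5
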