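import Mathlib
import Cfsg.Agent.Lib.H2.SU3F

set_option autoImplicit false

/-!
# Elements of order five in the automorphism group of the Sylow 2-subgroup of `U₃(4)`
-/

namespace Cfsg.Agent.Lib.H2.Q5

open Subgroup Cfsg.Agent.Lib.H13.AutPSU Cfsg.Agent.Lib.H2.SU3

/-- in a finite group of order not divisible by 25, two elements of order five generate conjugate
subgroups -/
theorem exists_conj_zpow_of_order_five {A : Type*} [Group A] [Finite A]
    (h25 : ¬ 25 ∣ Nat.card A) (x y : A) (hx : orderOf x = 5) (hy : orderOf y = 5) :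
    ∃ (g : A) (j : ℤ), g * x * g⁻¹ = y ^ j := by
  have : Fact (Nat.Prime 5) := ⟨by norm_num⟩
  have key : ∀ z : A, orderOf z = 5 → ∃ Q : Sylow 5 A, (Q : Subgroup A) = zpowers z := by
    intro z hz
    have hc : Nat.card (zpowers z) = 5 := by rw [Nat.card_zpowers, hz]
    have hp : IsPGroup 5 (zpowers z) := IsPGroup.of_card (n := 1) (by rw [hc]; norm_num)
    obtain ⟨Q, hQ⟩ := hp.exists_le_sylow
    refine ⟨Q, ?_⟩
    obtain ⟨k, hk⟩ := IsPGroup.iff_card.mp Q.isPGroup'
    have hk1 : k ≤ 1 := by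
      by_contra hcon
      push Not at hcon
      apply h25
      have h1 : 5 ^ 2 ∣ 5 ^ k := pow_dvd_pow 5 hcon
      have h2 : Nat.card (Q : Subgroup A) ∣ Nat.card A := Subgroup.card_subgroup_dvd_card _
      rw [hk] at h2
      exact (by norm_num : (25 : ℕ) = 5 ^ 2) ▸ h1.trans h2
    have hle : Nat.card (Q : Subgroup A) ≤ 5 := by
      rw [hk]
      calc 5 ^ k ≤ 5 ^ 1 := Nat.pow_le_pow_right (by norm_num) hk1
        _ = 5 := by norm_num
    exact (Subgroup.eq_of_le_of_card_ge hQ (by rw [hc]; exact hle)).symm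
  obtain ⟨Q₁, hQ₁⟩ := key x hx
  obtain ⟨Q₂, hQ₂⟩ := key y hy
  obtain ⟨g, hg⟩ := MulAction.exists_smul_eq A Q₁ Q₂
  have h1 : g * x * g⁻¹ ∈ (Q₂ : Subgroup A) := by
    rw [← hg]
    rw [Sylow.coe_subgroup_smul, Subgroup.mem_pointwise_smul_iff_inv_smul_mem, ← map_inv,
      MulAut.smul_def, MulAut.conj_apply, inv_inv, hQ₁]
    have : g⁻¹ * (g * x * g⁻¹) * g = x := by group
    rw [this]
    exact mem_zpowers x
  rw [hQ₂, mem_zpowers_iff] at h1
  obtain ⟨j, hj⟩ := h1
  exact ⟨g, j, hj.symm⟩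

variable {F : Type*} [Field F] [Fintype F] {D : UF F 4} [CharP F 2]

theorem card_mulAut_TU4 (hF : Fintype.card F = 16) : Nat.card (MulAut (TU D)) = 15360 := by
  rw [card_mulAut_TU (D := D) (n := 2) (by norm_num) (by rw [hF]; norm_num)]
  norm_num

theorem exists_conj_TU (hF : Fintype.card F = 16) (x y : MulAut (TU D)) (hx : orderOf x = 5)
    (hy : orderOf y = 5) : ∃ (g : MulAut (TU D)) (j : ℤ), g * x * g⁻¹ = y ^ j := by
  have : Finite (MulAut (TU D)) := by
    apply Nat.finite_of_card_ne_zero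
    rw [card_mulAut_TU4 hF]; norm_num
  apply exists_conj_zpow_of_order_five _ x y hx hy
  rw [card_mulAut_TU4 hF]
  norm_num

end Cfsg.Agent.Lib.H2.Q5
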