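import Mathlib
import Cfsg.Agent.Lib.H13.AutPSU7
import Cfsg.Agent.Lib.H25.PSUI
import Cfsg.Agent.Lib.H2.SU3J

set_option autoImplicit false
set_option linter.unusedSectionVars false

/-!
# The centralizer of a central involution of a Sylow 2-subgroup of `SU₃(q)`, `q` even
-/

namespace Cfsg.Agent.Lib.H2.Q5

open Subgroup Cfsg.Agent.Lib.H13.AutPSU Cfsg.Agent.Lib.H25.PSU Cfsg.Agent.Lib.H2.SU3 TU

variable {F : Type*} [Field F] [Fintype F] {q : ℕ} {D : UF F q} [CharP F 2] (B : Frame D 3 1 1)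

theorem uok_zero_one : UOK D 0 1 := by
  unfold UOK
  rw [map_one, zero_mul, add_zero]
  exact add_self 1

/-- the central involution -/
noncomputable def TT : ↥(Cfsg.SU 3 F q) := uu B 0 1

theorem sv_TT (x : Fin 3 → F) : sv (TT B) x = x + H D x (B.e 0) • B.e 0 := by
  unfold TT
  rw [sv_uu B uok_zero_one]
  simp

theorem TT_mul_self : TT B * TT B = 1 := by
  unfold TT
  rw [uu_mul B uok_zero_one uok_zero_one]
  have h1 : (1 : F) + 1 - 0 * D.τ 0 = 0 := by
    rw [zero_mul, sub_zero]; exact add_self 1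
  rw [h1, add_zero, uu_zero]

theorem TT_ne_one : TT B ≠ 1 := by
  intro h
  have h1 := congrArg (fun s => sv s (B.f 0)) h
  simp only [sv_TT, sv_one, B.fe, if_true, one_smul] at h1
  have h2 : B.e 0 = 0 := by
    have := congrArg (fun v => v - B.f 0) h1
    simpa using this
  exact B.e_ne_zero 0 h2

theorem orderOf_TT : orderOf (TT B) = 2 := by
  have : Fact (Nat.Prime 2) := ⟨Nat.prime_two⟩
  exact orderOf_eq_prime (by rw [pow_two]; exact TT_mul_self B) (TT_ne_one B)

/-- elements commuting with `TT` stabilise the point `e` -/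
theorem eigen_of_comm {s : ↥(Cfsg.SU 3 F q)} (hs : TT B * s = s * TT B) :
    ∃ l : F, l * D.τ l = 1 ∧ sv s (B.e 0) = l • B.e 0 := by
  have h1 := congrArg (fun g => sv g (B.f 0)) hs
  simp only [sv_mul, sv_TT, sv_add, B.fe, if_true, one_smul] at h1
  have h2 : sv s (B.e 0) = H D (sv s (B.f 0)) (B.e 0) • B.e 0 := (add_left_cancel h1).symm
  refine ⟨H D (sv s (B.f 0)) (B.e 0), ?_, h2⟩
  have h3 : H D (sv s (B.e 0)) (sv s (B.f 0)) = 1 := by rw [H_sv, B.ef, if_pos rfl]
  rw [h2, H_smul_left, ← H_symm D (sv s (B.f 0)) (B.e 0)] at h3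
  exact h3

theorem isUT_of_eigen {s : ↥(Cfsg.SU 3 F q)} {l : F} (hl : l ≠ 0)
    (hs : sv s (B.e 0) = l • B.e 0) : IsUT B s := by
  have hτl : D.τ l ≠ 0 := (map_ne_zero D.τ).2 hl
  intro j c hjc
  rw [cm_apply]
  unfold co
  rcases j with i | i | i <;> rcases c with i' | i' | i'
  · simp only [rk_e] at hjc; omega
  · simp only [rk_e, rk_w] at hjc; omega
  · simp only [rk_e, rk_f] at hjc; omega
  · rw [Subsingleton.elim i 0, Subsingleton.elim i' 0]
    simp only [fv_e, bar_w, fv_w]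
    rw [hs, H_smul_left, B.ew, mul_zero]
  · simp only [rk_w] at hjc; omega
  · simp only [rk_w, rk_f] at hjc; omega
  · rw [Subsingleton.elim i 0, Subsingleton.elim i' 0]
    simp only [fv_e, bar_f]
    rw [hs, H_smul_left, B.ee, mul_zero]
  · rw [Subsingleton.elim i 0, Subsingleton.elim i' 0]
    simp only [fv_w, bar_f, fv_e]
    have h1 : H D (sv s (B.w 0)) (sv s (B.e 0)) = 0 := by rw [H_sv, B.we]
    rw [hs, H_smul_right] at h1
    rcases mul_eq_zero.mp h1 with h2 | h2
    · exact absurd h2 hτl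
    · exact h2
  · simp only [rk_f] at hjc; omega

/-- elements stabilising the point `e` are products of an element of `U` and a torus element -/
theorem decomp_of_eigen {s : ↥(Cfsg.SU 3 F q)} {l : F} (hl : l ≠ 0)
    (hs : sv s (B.e 0) = l • B.e 0) : ∃ u ∈ U B, s = u * tor B l hl := by
  have hτl : D.τ l ≠ 0 := (map_ne_zero D.τ).2 hl
  obtain ⟨u, hu, hdg⟩ := upper_decomp B (le_refl 1) s (isUT_of_eigen B hl hs)
  have huU : u ∈ U B := closure_GenEL_le_U B hu
  refine ⟨u, huU, ?_⟩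
  set d := u⁻¹ * s with hd
  have hue : sv u (B.e 0) = B.e 0 := sv_e_of_mem_U B huU 0 rfl
  have hde : sv d (B.e 0) = l • B.e 0 := by
    rw [hd, sv_mul, hs, sv_smul, sv_inv_of_sv hue]
  have hdf : sv d (B.f 0) = (D.τ l)⁻¹ • B.f 0 := hdg.eigen_f B hde
  obtain ⟨m, hm⟩ := hdg (Sum.inr (Sum.inl 0))
  rw [fv_w] at hm
  have hprod := hdg.prod_eq_one B
  rw [Fintype.prod_sum_type, Fintype.prod_sum_type] at hprod
  simp only [Finset.univ_unique, Fin.default_eq_zero, Finset.prod_singleton] at hprod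
  rw [IsDg.cm_of_eigen B (a := Sum.inl 0) hde, IsDg.cm_of_eigen B (a := Sum.inr (Sum.inl 0)) hm,
    IsDg.cm_of_eigen B (a := Sum.inr (Sum.inr 0)) hdf] at hprod
  have hmv : m = D.τ l / l := by
    field_simp
    field_simp at hprod
    linear_combination hprod
  have hdt : d = tor B l hl := by
    apply B.ext_sv'
    · intro i; rw [Subsingleton.elim i 0, hde, sv_tor_e]
    · intro i; rw [Subsingleton.elim i 0, hdf, sv_tor_f]
    · intro i; rw [Subsingleton.elim i 0, hm, sv_tor_w, hmv]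
  rw [← hdt, hd]
  group

end Cfsg.Agent.Lib.H2.Q5
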