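import Mathlib
import Cfsg.Agent.Lib.H2.Q5I

set_option autoImplicit false
set_option linter.unusedSectionVars false

/-!
# The centralizer of a central involution of a Sylow 2-subgroup of `SU₃(q)`: structure
-/

namespace Cfsg.Agent.Lib.H2.Q5

open Subgroup Cfsg.Agent.Lib.H13.AutPSU Cfsg.Agent.Lib.H25.PSU Cfsg.Agent.Lib.H2.SU3 TU

variable {F : Type*} [Field F] [Fintype F] {q : ℕ} {D : UF F q} [CharP F 2] (B : Frame D 3 1 1)

theorem tor_comm {l : F} (hl : l ≠ 0) (hN : l * D.τ l = 1) :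
    TT B * tor B l hl = tor B l hl * TT B := by
  have h := (conj_uu B hl (sv_tor_e B l hl) (sv_tor_w B l hl) (uok_zero_one (D := D))).2
  rw [mul_zero, hN, one_mul] at h
  unfold TT
  calc uu B 0 1 * tor B l hl = (tor B l hl * uu B 0 1 * (tor B l hl)⁻¹) * tor B l hl := by rw [h]
    _ = tor B l hl * uu B 0 1 := by group

theorem uok_of (x : TU D) : UOK D (ca x) (cb x) := by
  unfold UOK
  rw [rel x]
  exact add_self _

theorem Phi_eq_uu (x : TU D) : Phi B x = uu B (ca x) (cb x) := rfl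

theorem U_comm {u : ↥(Cfsg.SU 3 F q)} (hu : u ∈ U B) : TT B * u = u * TT B := by
  obtain ⟨x, rfl⟩ := exists_Phi_eq B hu
  rw [Phi_eq_uu]
  unfold TT
  rw [uu_mul B uok_zero_one (uok_of x), uu_mul B (uok_of x) uok_zero_one]
  congr 1
  · ring
  · rw [map_zero]; ring

/-- the centralizer of the involution -/
def CT : Subgroup ↥(Cfsg.SU 3 F q) := centralizer {TT B}

theorem mem_CT {s : ↥(Cfsg.SU 3 F q)} : s ∈ CT B ↔ TT B * s = s * TT B := by
  unfold CT
  rw [mem_centralizer_iff]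
  constructor
  · intro h; exact h _ rfl
  · intro h t ht; rw [Set.mem_singleton_iff.mp ht]; exact h

theorem U_le_CT : U B ≤ CT B := fun _ hu => (mem_CT B).mpr (U_comm B hu)

theorem tor_mem_CT {l : F} (hl : l ≠ 0) (hN : l * D.τ l = 1) : tor B l hl ∈ CT B :=
  (mem_CT B).mpr (tor_comm B hl hN)

theorem decomp_CT {s : ↥(Cfsg.SU 3 F q)} (hs : s ∈ CT B) :
    ∃ u ∈ U B, ∃ (l : F) (hl : l ≠ 0), l * D.τ l = 1 ∧ s = u * tor B l hl := by
  obtain ⟨l, hN, hse⟩ := eigen_of_comm B ((mem_CT B).mp hs)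
  have hl : l ≠ 0 := left_ne_zero_of_mul_eq_one hN
  obtain ⟨u, hu, hsu⟩ := decomp_of_eigen B hl hse
  exact ⟨u, hu, l, hl, hN, hsu⟩

theorem isDg_tor {l : F} (hl : l ≠ 0) : IsDg B (tor B l hl) := by
  intro a
  rcases a with i | i | i
  · rw [Subsingleton.elim i 0]; exact ⟨_, sv_tor_e B l hl⟩
  · rw [Subsingleton.elim i 0]; exact ⟨_, sv_tor_w B l hl⟩
  · rw [Subsingleton.elim i 0]; exact ⟨_, sv_tor_f B l hl⟩

theorem conj_mem_U_of_CT {s : ↥(Cfsg.SU 3 F q)} (hs : s ∈ CT B) {u : ↥(Cfsg.SU 3 F q)}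
    (hu : u ∈ U B) : s * u * s⁻¹ ∈ U B := by
  obtain ⟨v, hv, l, hl, _, rfl⟩ := decomp_CT B hs
  have h1 := (isDg_tor B hl).conj_mem_U B hu
  have h2 : v * tor B l hl * u * (v * tor B l hl)⁻¹ =
      v * (tor B l hl * u * (tor B l hl)⁻¹) * v⁻¹ := by group
  rw [h2]
  exact mul_mem (mul_mem hv h1) (inv_mem hv)

/-- the Sylow 2-subgroup inside the centralizer -/
abbrev PT : Subgroup ↥(CT B) := (U B).subgroupOf (CT B)

instance PT_normal : (PT B).Normal := by
  constructor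
  intro n hn g
  rw [mem_subgroupOf] at hn ⊢
  simp only [Subgroup.coe_mul, Subgroup.coe_inv]
  exact conj_mem_U_of_CT B g.2 hn

/-- the model of the Sylow 2-subgroup inside the centralizer -/
noncomputable def iotaT : TU D ≃* ↥(PT B) :=
  (equivU B).trans (Subgroup.subgroupOfEquivOfLe (U_le_CT B)).symm

theorem iotaT_coe (y : TU D) : (((iotaT B y : ↥(PT B)) : ↥(CT B)) : ↥(Cfsg.SU 3 F q)) = Phi B y := by
  have h1 : (Subgroup.subgroupOfEquivOfLe (U_le_CT B)) (iotaT B y) = equivU B y := by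
    unfold iotaT
    rw [MulEquiv.trans_apply, MulEquiv.apply_symm_apply]
  have h2 := congrArg Subtype.val h1
  rw [Subgroup.subgroupOfEquivOfLe_apply_coe] at h2
  exact h2

end Cfsg.Agent.Lib.H2.Q5
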