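import Mathlib
import Cfsg.Agent.Lib.H2.Q5J
import Cfsg.Agent.Lib.H2.RTI

set_option autoImplicit false
set_option linter.unusedSectionVars false

/-!
# The centralizer of an involution of `SU₃(4)`
-/

namespace Cfsg.Agent.Lib.H2.Q5

open Subgroup Cfsg.Agent.Lib.H13.AutPSU Cfsg.Agent.Lib.H25.PSU Cfsg.Agent.Lib.H2.SU3 TU

variable {F : Type*} [Field F] [Fintype F] {D : UF F 4} [CharP F 2] (B : Frame D 3 1 1)

/-- the parameter of the torus element attached to a unit `l` -/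
def lam (l : Fˣ) : F := ((l ^ 3 : Fˣ) : F)

theorem lam_ne_zero (l : Fˣ) : lam l ≠ 0 := Units.ne_zero _

theorem lam_pow (l : Fˣ) (k : ℕ) : lam l ^ k = ((l ^ (3 * k) : Fˣ) : F) := by
  unfold lam
  rw [← Units.val_pow_eq_pow_val, ← pow_mul]

theorem lam_pow5 {l : Fˣ} (hl : l ^ 5 = 1) : lam l ^ 5 = 1 := by
  rw [lam_pow, show 3 * 5 = 5 * 3 by norm_num, pow_mul, hl, one_pow, Units.val_one]

theorem lam_pow7 {l : Fˣ} (hl : l ^ 5 = 1) : lam l ^ 7 = (l : F) := by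
  rw [lam_pow, show 3 * 7 = 5 * 4 + 1 by norm_num, pow_succ, pow_mul, hl, one_pow, one_mul]

theorem tau_lam (l : Fˣ) : D.τ (lam l) = lam l ^ 4 := D.hτ _

theorem lam_norm {l : Fˣ} (hl : l ^ 5 = 1) : lam l * D.τ (lam l) = 1 := by
  rw [tau_lam, ← pow_succ', lam_pow5 hl]

/-- the element of order five -/
noncomputable def aT (l : Fˣ) : ↥(Cfsg.SU 3 F 4) := tor B (lam l) (lam_ne_zero l)

theorem aT_mem_CT {l : Fˣ} (hl : l ^ 5 = 1) : aT B l ∈ CT B :=
  tor_mem_CT B (lam_ne_zero l) (lam_norm hl)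

theorem sv_aT_e (l : Fˣ) : sv (aT B l) (B.e 0) = lam l • B.e 0 := sv_tor_e B _ _

theorem sv_aT_f (l : Fˣ) : sv (aT B l) (B.f 0) = (D.τ (lam l))⁻¹ • B.f 0 := sv_tor_f B _ _

theorem sv_aT_w (l : Fˣ) : sv (aT B l) (B.w 0) = (D.τ (lam l) / lam l) • B.w 0 := sv_tor_w B _ _

theorem aT_conj {l : Fˣ} (hl : l ^ 5 = 1) {a b : F} (h : UOK D a b) :
    aT B l * uu B a b * (aT B l)⁻¹ = uu B ((l : F) * a) b := by
  have h1 := (conj_uu B (lam_ne_zero l) (sv_aT_e B l) (sv_aT_w B l) h).2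
  rw [h1, lam_norm hl, one_mul]
  congr 1
  rw [tau_lam]
  have h0 := lam_ne_zero l
  have h7 := lam_pow7 hl
  have : lam l ^ 4 * (lam l ^ 4 / lam l) = lam l ^ 7 := by
    field_simp
  rw [this, h7]

theorem aT_pow5 {l : Fˣ} (hl : l ^ 5 = 1) : aT B l ^ 5 = 1 := by
  have h5 := lam_pow5 hl
  have h0 := lam_ne_zero l
  apply B.ext_sv'
  · intro i
    rw [Subsingleton.elim i 0, sv_pow_smul (sv_aT_e B l), sv_one, h5, one_smul]
  · intro i
    rw [Subsingleton.elim i 0, sv_pow_smul (sv_aT_f B l), sv_one, tau_lam, inv_pow, ← pow_mul,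
      mul_comm, pow_mul, h5, one_pow, inv_one, one_smul]
  · intro i
    rw [Subsingleton.elim i 0, sv_pow_smul (sv_aT_w B l), sv_one, tau_lam, div_pow, ← pow_mul,
      mul_comm, pow_mul, h5, one_pow, div_one, one_smul]

theorem lam_ne_one {l : Fˣ} (hl : orderOf l = 5) : lam l ≠ 1 := by
  intro h
  unfold lam at h
  have h1 : l ^ 3 = 1 := Units.ext h
  have h2 := orderOf_dvd_of_pow_eq_one h1
  rw [hl] at h2
  omega

theorem aT_ne_one {l : Fˣ} (hl : orderOf l = 5) : aT B l ≠ 1 := by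
  intro h
  have h1 := congrArg (fun s => sv s (B.e 0)) h
  simp only [sv_aT_e, sv_one] at h1
  have h2 : (lam l - 1) • B.e 0 = 0 := by rw [sub_smul, one_smul, h1, sub_self]
  rcases smul_eq_zero.mp h2 with h3 | h3
  · exact lam_ne_one hl (sub_eq_zero.mp h3)
  · exact B.e_ne_zero 0 h3

theorem pow5_of_orderOf {l : Fˣ} (hl : orderOf l = 5) : l ^ 5 = 1 := by
  rw [← hl]; exact pow_orderOf_eq_one l

theorem orderOf_aT {l : Fˣ} (hl : orderOf l = 5) : orderOf (aT B l) = 5 := by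
  have : Fact (Nat.Prime 5) := ⟨by norm_num⟩
  exact orderOf_eq_prime (aT_pow5 B (pow5_of_orderOf hl)) (aT_ne_one B hl)

theorem orderOf_lam {l : Fˣ} (hl : orderOf l = 5) : orderOf (lam l) = 5 := by
  unfold lam
  rw [orderOf_units, Nat.Coprime.orderOf_pow (by rw [hl]; norm_num), hl]

section card

variable (hF : Fintype.card F = 16)
include hF

theorem card_U : Nat.card ↥(U B) = 64 := by
  rw [← Nat.card_congr (equivU B).toEquiv, Cfsg.Agent.Lib.H2.RT.card_TU D (by rw [hF]; norm_num)]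
  norm_num

theorem card_CT_le {l : Fˣ} (hl : orderOf l = 5) : Nat.card ↥(CT B) ≤ 320 := by
  have hprim : IsPrimitiveRoot (lam l) 5 := by
    have := IsPrimitiveRoot.orderOf (lam l)
    rwa [orderOf_lam hl] at this
  let m : ↥(U B) × Fin 5 → ↥(Cfsg.SU 3 F 4) :=
    fun p => (p.1 : ↥(Cfsg.SU 3 F 4)) * tor B (lam l ^ (p.2 : ℕ)) (pow_ne_zero _ (lam_ne_zero l))
  have hsub : ((CT B : Subgroup ↥(Cfsg.SU 3 F 4)) : Set ↥(Cfsg.SU 3 F 4)) ⊆ Set.range m := by
    intro s hs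
    obtain ⟨u, hu, l', hl', hN, rfl⟩ := decomp_CT B hs
    have h5 : l' ^ 5 = 1 := by
      rw [D.hτ, ← pow_succ'] at hN
      exact hN
    obtain ⟨i, hi, hil⟩ := hprim.eq_pow_of_pow_eq_one h5
    refine ⟨(⟨u, hu⟩, ⟨i, hi⟩), ?_⟩
    simp only [m]
    congr 1
    subst hil
    rfl
  have h1 : Nat.card ↥(CT B) = Set.ncard ((CT B : Subgroup ↥(Cfsg.SU 3 F 4)) : Set ↥(Cfsg.SU 3 F 4)) :=
    rfl
  rw [h1]
  calc Set.ncard ((CT B : Subgroup ↥(Cfsg.SU 3 F 4)) : Set ↥(Cfsg.SU 3 F 4))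
      ≤ Set.ncard (Set.range m) := Set.ncard_le_ncard hsub (Set.toFinite _)
    _ = Set.ncard (m '' Set.univ) := by rw [Set.image_univ]
    _ ≤ Set.ncard (Set.univ : Set (↥(U B) × Fin 5)) := Set.ncard_image_le (Set.toFinite _)
    _ = Nat.card (↥(U B) × Fin 5) := Set.ncard_univ _
    _ = 320 := by rw [Nat.card_prod, card_U B hF, Nat.card_eq_fintype_card, Fintype.card_fin]

theorem card_CT {l : Fˣ} (hl : orderOf l = 5) : Nat.card ↥(CT B) = 320 := by
  have hle := card_CT_le B hF hl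
  have h1 : 64 ∣ Nat.card ↥(CT B) := by
    have := Subgroup.card_dvd_of_le (U_le_CT B)
    rwa [card_U B hF] at this
  have h2 : 5 ∣ Nat.card ↥(CT B) := by
    have hz : zpowers (aT B l) ≤ CT B := (zpowers_le).mpr (aT_mem_CT B (pow5_of_orderOf hl))
    have := Subgroup.card_dvd_of_le hz
    rwa [Nat.card_zpowers, orderOf_aT B hl] at this
  have h3 : 320 ∣ Nat.card ↥(CT B) := Nat.Coprime.mul_dvd_of_dvd_of_dvd (by norm_num) h1 h2
  have hpos : 0 < Nat.card ↥(CT B) := Nat.card_pos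
  have := Nat.le_of_dvd hpos h3
  omega

end card

end Cfsg.Agent.Lib.H2.Q5
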