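import Mathlib
import Cfsg.Agent.Lib.H2.Q5K

set_option autoImplicit false
set_option linter.unusedSectionVars false

/-!
# The centralizer of an involution of `SU₃(4)` as a split extension; passage to `PSU₃(4)`
-/

namespace Cfsg.Agent.Lib.H2.Q5

open Subgroup Cfsg.Agent.Lib.H13.AutPSU Cfsg.Agent.Lib.H25.PSU Cfsg.Agent.Lib.H2.SU3 TU

variable {F : Type*} [Field F] [Fintype F] {D : UF F 4} [CharP F 2] (B : Frame D 3 1 1)

/-- the element of order five in the centralizer -/
noncomputable def a2 (l : Fˣ) (h5 : l ^ 5 = 1) : ↥(CT B) := ⟨aT B l, aT_mem_CT B h5⟩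

theorem orderOf_a2 {l : Fˣ} (hl : orderOf l = 5) : orderOf (a2 B l (pow5_of_orderOf hl)) = 5 := by
  unfold a2
  rw [Subgroup.orderOf_mk, orderOf_aT B hl]

theorem iotaT_equivariant {l : Fˣ} (h5 : l ^ 5 = 1) (y : TU D) :
    iotaT B (diagHom l y) = MulAut.conjNormal (a2 B l h5) (iotaT B y) := by
  apply Subtype.ext
  apply Subtype.ext
  rw [iotaT_coe, MulAut.conjNormal_apply]
  simp only [Subgroup.coe_mul, Subgroup.coe_inv, iotaT_coe]
  have ha : ((a2 B l h5 : ↥(CT B)) : ↥(Cfsg.SU 3 F 4)) = aT B l := rfl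
  rw [ha, Phi_eq_uu, Phi_eq_uu, aT_conj B h5 (uok_of y)]
  have h1 : ca (diagHom l y) = (l : F) * ca y := rfl
  have h2 : cb (diagHom l y) = (l : F) * D.τ (l : F) * cb y := rfl
  have h3 : (l : F) * D.τ (l : F) = 1 := by
    rw [D.hτ, ← pow_succ', ← Units.val_pow_eq_pow_val, h5, Units.val_one]
  rw [h1, h2, h3, one_mul]

section card

variable (hF : Fintype.card F = 16)
include hF

theorem card_PT : Nat.card ↥(PT B) = 64 := by
  rw [← Nat.card_congr (iotaT B).toEquiv, Cfsg.Agent.Lib.H2.RT.card_TU D (by rw [hF]; norm_num)]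
  norm_num

theorem isComplement_PT {l : Fˣ} (hl : orderOf l = 5) :
    (PT B).IsComplement' (zpowers (a2 B l (pow5_of_orderOf hl))) := by
  have : Finite ↥(CT B) := inferInstance
  apply Subgroup.isComplement'_of_coprime
  · rw [card_PT B hF, Nat.card_zpowers, orderOf_a2 B hl, card_CT B hF hl]
  · rw [card_PT B hF, Nat.card_zpowers, orderOf_a2 B hl]
    norm_num

include B in
/-- `SU₃(4)` has trivial centre -/
theorem pr_injective :
    Function.Injective (pr : ↥(Cfsg.SU 3 F 4) →* Cfsg.PSU 3 F 4) := by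
  rw [injective_iff_map_eq_one]
  intro s hs
  rw [pr_eq_one_iff] at hs
  obtain ⟨c, hc⟩ := scalar_of_mem_center D (by norm_num) hs
  have hdg : IsDg B s := fun a => ⟨c, hc _⟩
  have hprod := hdg.prod_eq_one B
  rw [Fintype.prod_sum_type, Fintype.prod_sum_type] at hprod
  simp only [Finset.univ_unique, Fin.default_eq_zero, Finset.prod_singleton] at hprod
  rw [IsDg.cm_of_eigen B (a := Sum.inl 0) (hc _), IsDg.cm_of_eigen B (a := Sum.inr (Sum.inl 0)) (hc _),
    IsDg.cm_of_eigen B (a := Sum.inr (Sum.inr 0)) (hc _)] at hprod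
  have h5 : c ^ 5 = 1 := by
    have h1 : H D (sv s (B.w 0)) (sv s (B.w 0)) = 1 := by rw [H_sv, B.ww, if_pos rfl]
    rw [hc, H_smul_left, H_smul_right, B.ww, if_pos rfl, mul_one, D.hτ, ← pow_succ'] at h1
    exact h1
  have h6 : c ^ 6 = 1 := by
    have : c ^ 6 = (c * (c * c)) ^ 2 := by ring
    rw [this, hprod, one_pow]
  have hc1 : c = 1 := by
    have : c ^ 6 = c ^ 5 * c := by ring
    rw [h6, h5, one_mul] at this
    exact this.symm
  apply ext_sv
  intro x
  rw [hc, hc1, one_smul, sv_one]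

end card

/-- transport of centralizers along an isomorphism -/
noncomputable def centralizerEquiv {A A' : Type*} [Group A] [Group A'] (E : A ≃* A') (T : A) :
    ↥(centralizer ({T} : Set A)) ≃* ↥(centralizer ({E T} : Set A')) := by
  have h : (centralizer ({T} : Set A)).map E.toMonoidHom = centralizer ({E T} : Set A') := by
    ext y
    rw [Subgroup.mem_map, Subgroup.mem_centralizer_iff]
    constructor
    · rintro ⟨x, hx, rfl⟩ t ht
      rw [Set.mem_singleton_iff.mp ht]
      rw [Subgroup.mem_centralizer_iff] at hx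
      have := hx T rfl
      show E T * E x = E x * E T
      rw [← map_mul, ← map_mul, this]
    · intro hy
      refine ⟨E.symm y, ?_, E.apply_symm_apply y⟩
      rw [Subgroup.mem_centralizer_iff]
      intro t ht
      rw [Set.mem_singleton_iff.mp ht]
      apply E.injective
      rw [map_mul, map_mul, E.apply_symm_apply]
      exact hy _ rfl
  exact (MulEquiv.subgroupMap E _).trans (MulEquiv.subgroupCongr h)

end Cfsg.Agent.Lib.H2.Q5
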