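import Mathlib
import Cfsg.Agent.Lib.H2.Q5F
import Cfsg.Agent.Lib.H2.Q5G
import Cfsg.Agent.Lib.H2.Q5H
import Cfsg.Agent.Lib.H2.Q5L

set_option autoImplicit false

/-!
# A group of order 320 with derived subgroup of order 64 with centre a four-group is the
centralizer of an involution in `U₃(4)`
-/

namespace Cfsg.Agent.Lib.H2.Q5

open Subgroup Cfsg.Agent.Lib.H13.AutPSU Cfsg.Agent.Lib.H25.PSU Cfsg.Agent.Lib.H2.SU3 TU
open Cfsg.Agent.Lib.H2.RT

theorem diagHom_injective {F : Type*} [Field F] {q : ℕ} {D : UF F q} [CharP F 2] :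
    Function.Injective (diagHom (D := D)) := by
  intro l l' h
  have h1 := rho_diagHom (D := D) l 1
  rw [h, rho_diagHom, mul_one, mul_one] at h1
  exact Units.ext h1.symm

theorem orderOf_conj' {A : Type*} [Group A] (g x : A) : orderOf (g * x * g⁻¹) = orderOf x := by
  have := MulEquiv.orderOf_eq (MulAut.conj g) x
  rwa [MulAut.conj_apply] at this

theorem main {G : Type*} [Group G] [Finite G] (hG : Nat.card G = 320)
    (hD : Nat.card (commutator G) = 64) (hZ : IsKleinFour (center (commutator G)))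
    {F : Type*} [Field F] [Fintype F] (hF : Fintype.card F = 16) :
    ∃ t : Cfsg.PSU 3 F 4, orderOf t = 2 ∧
      Nonempty (G ≃* centralizer ({t} : Set (Cfsg.PSU 3 F 4))) := by
  classical
  have hp : Fact (Nat.Prime 2) := ⟨Nat.prime_two⟩
  have hF' : Fintype.card F = 4 ^ 2 := by rw [hF]; norm_num
  have hF2 : Fintype.card F = 2 ^ 4 := by rw [hF]; norm_num
  have hch : CharP F 2 := charP_of_card_eq_prime_pow hF2
  let D : UF F 4 := UF.ofCard (p := 2) (f := 2) (by norm_num) hF'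
  let B : Frame D 3 1 1 := stdFrame D
  have h5 : Fact (Nat.Prime 5) := ⟨by norm_num⟩
  obtain ⟨a₁, ha₁⟩ := exists_prime_orderOf_dvd_card' (G := G) 5 (by rw [hG]; norm_num)
  have H := hyp5_of_group hG hD hZ a₁ ha₁
  set α : MulAut (commutator G) := MulAut.conjNormal a₁ with hα
  obtain ⟨f₀⟩ := H.nonempty_ell_equiv
  obtain ⟨e₁⟩ := nonempty_ell_equiv_TU (D4 := D) hF
  let φ : commutator G ≃* TU D := f₀.symm.trans e₁
  let α' : MulAut (TU D) := MulAut.congr φ α
  have hα5 : α ^ 5 = 1 := by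
    ext y
    simp only [pow_succ, pow_zero, one_mul, MulAut.mul_apply, MulAut.one_apply]
    rw [H.pow5]
  have hαne : α ≠ 1 := by
    intro h
    apply H.ne_one
    intro x
    rw [h]; rfl
  have hoα : orderOf α = 5 := orderOf_eq_prime hα5 hαne
  have hoα' : orderOf α' = 5 := by rw [MulEquiv.orderOf_eq, hoα]
  obtain ⟨l₀, hl₀⟩ := exists_prime_orderOf_dvd_card' (G := Fˣ) 5
    (by rw [Nat.card_eq_fintype_card, Fintype.card_units, hF]; norm_num)
  have hoδ : orderOf (diagHom (D := D) l₀) = 5 := by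
    rw [orderOf_injective _ diagHom_injective, hl₀]
  obtain ⟨g, j, hgj⟩ := exists_conj_TU hF α' (diagHom l₀) hoα' hoδ
  set l := l₀ ^ j with hl
  have hgl : g * α' * g⁻¹ = diagHom l := by rw [hgj, hl, map_zpow]
  have hol : orderOf l = 5 := by
    rw [← orderOf_injective _ (diagHom_injective (D := D)) l, ← hgl, orderOf_conj', hoα']
  let f : commutator G ≃* TU D := φ.trans g
  have hf : ∀ x, f (α x) = diagHom l (f x) := by
    intro x
    rw [← hgl]
    show g (φ (α x)) = g (α' (g⁻¹ (g (φ x))))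
    have h1 : g⁻¹ (g (φ x)) = φ x := by
      rw [← MulAut.mul_apply, inv_mul_cancel]; rfl
    rw [h1]
    show g (φ (α x)) = g (φ (α (φ.symm (φ x))))
    rw [φ.symm_apply_apply]
  let f₂ : commutator G ≃* PT B := f.trans (iotaT B)
  have hf₂ : ∀ x, f₂ (MulAut.conjNormal a₁ x) =
      MulAut.conjNormal (a2 B l (pow5_of_orderOf hol)) (f₂ x) := by
    intro x
    show iotaT B (f (α x)) = _
    rw [hf, iotaT_equivariant B (pow5_of_orderOf hol)]
    rfl
  have hc₁ : (commutator G).IsComplement' (zpowers a₁) := by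
    apply Subgroup.isComplement'_of_coprime
    · rw [hD, Nat.card_zpowers, ha₁, hG]
    · rw [hD, Nat.card_zpowers, ha₁]; norm_num
  have hc₂ := isComplement_PT B hF hol
  obtain ⟨e⟩ := nonempty_mulEquiv_of_compl (commutator G) (PT B) a₁
    (a2 B l (pow5_of_orderOf hol)) hc₁ hc₂ (by rw [ha₁, orderOf_a2 B hol]) f₂ hf₂
  let E : ↥(Cfsg.SU 3 F 4) ≃* Cfsg.PSU 3 F 4 :=
    MulEquiv.ofBijective pr ⟨pr_injective B hF, pr_surjective⟩
  refine ⟨E (TT B), by rw [MulEquiv.orderOf_eq, orderOf_TT], ⟨e.trans ?_⟩⟩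
  exact centralizerEquiv E (TT B)

end Cfsg.Agent.Lib.H2.Q5
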