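import Mathlib
import Cfsg.Prelude.Def_LocalEven
import Cfsg.Agent.Lib.H26.Involves

set_option autoImplicit false

namespace Cfsg.Agent.Lib.H2.QD

/-- `X` has a normal Sylow `p`-subgroup. -/
def PClosed (p : ℕ) (X : Type*) [Group X] : Prop := ∃ P : Sylow p X, (P : Subgroup X).Normal

theorem PClosed.of_surjective {p : ℕ} [Fact p.Prime] {X Y : Type*} [Group X] [Group Y] [Finite X]
    (f : X →* Y) (hf : Function.Surjective f) (h : PClosed p X) : PClosed p Y := by
  obtain ⟨P, hP⟩ := h
  refine ⟨P.mapSurjective hf, ?_⟩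
  rw [Sylow.coe_mapSurjective]
  exact hP.map f hf

theorem PClosed.of_injective {p : ℕ} [Fact p.Prime] {X Y : Type*} [Group X] [Group Y] [Finite X]
    (f : Y →* X) (hf : Function.Injective f) (h : PClosed p X) : PClosed p Y := by
  obtain ⟨P, hP⟩ := h
  have : Finite Y := Finite.of_injective f hf
  have hcp : IsPGroup p ((P : Subgroup X).comap f) := P.2.comap_of_injective f hf
  obtain ⟨Q, hQ⟩ := hcp.exists_le_sylow
  refine ⟨Q, ?_⟩
  have hu : Unique (Sylow p X) := Sylow.unique_of_normal P hP
  have hQP : (Q : Subgroup Y) = (P : Subgroup X).comap f := by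
    apply le_antisymm
    · intro y hy
      have h1 : IsPGroup p ((Q : Subgroup Y).map f) := Q.2.map f
      obtain ⟨P', hP'⟩ := h1.exists_le_sylow
      have h2 : P' = P := Subsingleton.elim _ _
      rw [Subgroup.mem_comap, ← h2]
      exact hP' (Subgroup.mem_map_of_mem f hy)
    · exact hQ
  rw [hQP]
  exact hP.comap f

/-- The Frattini-argument reduction: if the normalizers of all nontrivial `p`-subgroups of `G` are
`p`-closed, then every section of `G` with a nontrivial normal `p`-subgroup is `p`-closed. -/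
theorem pclosed_of_local {G : Type*} [Group G] [Finite G] {Q : Type*} [Group Q] (p : ℕ) [Fact p.Prime]
    (hloc : ∀ R : Subgroup G, IsPGroup p R → R ≠ ⊥ → PClosed p (Subgroup.normalizer (R : Set G)))
    (H : Subgroup G) (f : H →* Q) (hf : Function.Surjective f)
    (V : Subgroup Q) [V.Normal] (hV : IsPGroup p V) (hV1 : V ≠ ⊥) : PClosed p Q := by
  classical
  let L : Subgroup H := V.comap f
  have hLn : L.Normal := inferInstance
  obtain ⟨P⟩ : Nonempty (Sylow p L) := inferInstance
  let PH : Subgroup H := (P : Subgroup L).map L.subtype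
  have hfr : Subgroup.normalizer (PH : Set H) ⊔ L = ⊤ := Sylow.normalizer_sup_eq_top P
  -- the image of P is V
  let g : L →* V := f.subgroupComap V
  have hg : Function.Surjective g := f.subgroupComap_surjective_of_surjective V hf
  have hS : ((P.mapSurjective hg : Sylow p V) : Subgroup V) = ⊤ := by
    have h2 := (P.mapSurjective hg).is_maximal' (Q := ⊤)
      (fun x => by
        obtain ⟨k, hk⟩ := hV x.1
        exact ⟨k, Subtype.ext hk⟩) le_top
    exact h2.symm
  have hVP : ∀ v ∈ V, ∃ x ∈ PH, f x = v := by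
    intro v hv
    have h1 : (⟨v, hv⟩ : V) ∈ ((P.mapSurjective hg : Sylow p V) : Subgroup V) := by
      rw [hS]; trivial
    rw [Sylow.coe_mapSurjective] at h1
    obtain ⟨x, hx, hxv⟩ := h1
    refine ⟨x.1, Subgroup.mem_map_of_mem _ hx, ?_⟩
    exact congrArg Subtype.val hxv
  let R : Subgroup G := PH.map H.subtype
  have hRp : IsPGroup p R := (P.2.map _).map _
  have hR1 : R ≠ ⊥ := by
    intro hR
    apply hV1
    rw [Subgroup.eq_bot_iff_forall]
    intro v hv
    obtain ⟨x, hx, rfl⟩ := hVP v hv
    have : (x : G) ∈ R := Subgroup.mem_map_of_mem _ hx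
    rw [hR, Subgroup.mem_bot] at this
    have hx1 : x = 1 := Subtype.ext this
    rw [hx1, map_one]
  have hN := hloc R hRp hR1
  let N : Subgroup H := Subgroup.normalizer (PH : Set H)
  have hle : N.map H.subtype ≤ Subgroup.normalizer (R : Set G) := Subgroup.le_normalizer_map H.subtype
  let ι : N →* Subgroup.normalizer (R : Set G) :=
    (Subgroup.inclusion hle).comp (N.equivMapOfInjective H.subtype H.subtype_injective).toMonoidHom
  have hι : Function.Injective ι :=
    (Subgroup.inclusion_injective hle).comp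
      (N.equivMapOfInjective H.subtype H.subtype_injective).injective
  have hNc : PClosed p N := PClosed.of_injective ι hι hN
  have hsurj : Function.Surjective (f.comp N.subtype) := by
    intro q
    obtain ⟨h, rfl⟩ := hf q
    have hh : h ∈ Subgroup.normalizer (PH : Set H) ⊔ L := by rw [hfr]; trivial
    rw [← SetLike.mem_coe, Subgroup.mul_normal] at hh
    obtain ⟨n, hn, l, hl, rfl⟩ := hh
    have hfl : f l ∈ V := hl
    obtain ⟨x, hx, hxl⟩ := hVP (f l) hfl
    have hxN : x ∈ N := Subgroup.le_normalizer hx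
    refine ⟨⟨n * x, N.mul_mem hn hxN⟩, ?_⟩
    change f (n * x) = f (n * l)
    rw [map_mul, map_mul, hxl]
  exact PClosed.of_surjective _ hsurj hNc

universe u v

theorem not_involves_of_local {G : Type v} [Group G] [Finite G] {Q : Type u} [Group Q] (p : ℕ)
    [Fact p.Prime]
    (hloc : ∀ R : Subgroup G, IsPGroup p R → R ≠ ⊥ → PClosed p (Subgroup.normalizer (R : Set G)))
    (V : Subgroup Q) [V.Normal] (hV : IsPGroup p V) (hV1 : V ≠ ⊥) (hQ : ¬ PClosed p Q) :
    ¬ Cfsg.Involves Q G := by
  rw [Cfsg.Agent.Lib.H26.involves_iff]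
  rintro ⟨H, f, hf⟩
  exact hQ (pclosed_of_local p hloc H f hf V hV hV1)

theorem involves_of_quotient {H : Type u} [Group H] {G : Type v} [Group G] (N : Subgroup G) [N.Normal]
    (h : Cfsg.Involves H (G ⧸ N)) : Cfsg.Involves H G := by
  rw [Cfsg.Agent.Lib.H26.involves_iff] at h
  obtain ⟨K, f, hf⟩ := h
  refine Cfsg.Agent.Lib.H26.involves_of_le_range (QuotientGroup.mk' N) K ?_ f hf
  intro x _
  exact QuotientGroup.mk'_surjective N x

end Cfsg.Agent.Lib.H2.QD
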