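import Mathlib
import Cfsg.Prelude.Def_PLocal
import Cfsg.Agent.Lib.H2.QDA

set_option autoImplicit false
set_option linter.unusedSectionVars false

namespace Cfsg.Agent.Lib.H2.QD

open Matrix

variable {p : ℕ} [Fact p.Prime]

local notation "M3" => Matrix (Fin 3) (Fin 3) (ZMod p)
local notation "SL3" => Matrix.SpecialLinearGroup (Fin 3) (ZMod p)

/-- Elements of `qd p` have last row `(0,0,1)`. -/
theorem qd_row {M : SL3} (hM : M ∈ Cfsg.qd p) :
    (M : M3) 2 0 = 0 ∧ (M : M3) 2 1 = 0 ∧ (M : M3) 2 2 = 1 := by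
  have key : (fun j => (M : M3) 2 j) = ![0, 0, 1] := by
    have h2 : ∀ N : SL3,
        (fun j => (N : M3) 2 j) = (![0, 0, 1] : Fin 3 → ZMod p) ᵥ* (N : M3) := by
      intro N
      ext j
      simp [Matrix.vecMul, dotProduct, Fin.sum_univ_three]
    rw [h2]
    induction hM using Subgroup.closure_induction with
    | mem x hx =>
      obtain ⟨h0, h1, h2'⟩ := hx
      ext j
      fin_cases j <;> simp [Matrix.vecMul, dotProduct, Fin.sum_univ_three, h0, h1, h2']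
    | one => simp
    | mul x y _ _ hx hy =>
      rw [Matrix.SpecialLinearGroup.coe_mul, ← Matrix.vecMul_vecMul, hx, hy]
    | inv x _ hx =>
      have h4 : (x : M3) * ((x⁻¹ : SL3) : M3) = 1 := by
        rw [← Matrix.SpecialLinearGroup.coe_mul, mul_inv_cancel, Matrix.SpecialLinearGroup.coe_one]
      calc (![0, 0, 1] : Fin 3 → ZMod p) ᵥ* ((x⁻¹ : SL3) : M3)
          = ((![0, 0, 1] : Fin 3 → ZMod p) ᵥ* (x : M3)) ᵥ* ((x⁻¹ : SL3) : M3) := by
            rw [hx]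
        _ = ![0, 0, 1] := by rw [Matrix.vecMul_vecMul, h4, Matrix.vecMul_one]
  refine ⟨?_, ?_, ?_⟩
  · simpa using congrFun key 0
  · simpa using congrFun key 1
  · simpa using congrFun key 2

theorem mem_qd_of_row {M : SL3}
    (h : (M : M3) 2 0 = 0 ∧ (M : M3) 2 1 = 0 ∧ (M : M3) 2 2 = 1) : M ∈ Cfsg.qd p :=
  Subgroup.subset_closure h

/-- matrix of an element of `qd p` -/
def qmat (M : ↥(Cfsg.qd p)) : M3 := ((M : SL3) : M3)

theorem qmat_mul (A B : ↥(Cfsg.qd p)) : qmat (A * B) = qmat A * qmat B := by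
  unfold qmat
  rw [Subgroup.coe_mul, Matrix.SpecialLinearGroup.coe_mul]

theorem qmat_one : qmat (1 : ↥(Cfsg.qd p)) = 1 := by
  unfold qmat
  rw [Subgroup.coe_one, Matrix.SpecialLinearGroup.coe_one]

theorem qmat_pow (A : ↥(Cfsg.qd p)) (n : ℕ) : qmat (A ^ n) = qmat A ^ n := by
  unfold qmat
  rw [Subgroup.coe_pow, Matrix.SpecialLinearGroup.coe_pow]

theorem qmat_injective : Function.Injective (qmat (p := p)) := by
  intro A B h
  apply Subtype.ext
  apply Subtype.ext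
  exact h

theorem qmat_row (M : ↥(Cfsg.qd p)) : qmat M 2 0 = 0 ∧ qmat M 2 1 = 0 ∧ qmat M 2 2 = 1 :=
  qd_row M.2

/-- The upper-left block homomorphism. -/
def qdBlock (p : ℕ) [Fact p.Prime] : ↥(Cfsg.qd p) →* Matrix (Fin 2) (Fin 2) (ZMod p) where
  toFun M := Matrix.of fun i j => qmat M (Fin.castSucc i) (Fin.castSucc j)
  map_one' := by
    ext i j
    fin_cases i <;> fin_cases j <;> simp [qmat_one]
  map_mul' := by
    intro A B
    obtain ⟨b0, b1, _⟩ := qmat_row B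
    ext i j
    fin_cases i <;> fin_cases j <;>
      simp [qmat_mul, Matrix.mul_apply, Fin.sum_univ_three, Fin.sum_univ_two, b0, b1]

/-- The translation subgroup of `qd p`. -/
def qdV (p : ℕ) [Fact p.Prime] : Subgroup ↥(Cfsg.qd p) := (qdBlock p).ker

instance : (qdV p).Normal := by unfold qdV; infer_instance

theorem mem_qdV_iff {M : ↥(Cfsg.qd p)} :
    M ∈ qdV p ↔ qmat M 0 0 = 1 ∧ qmat M 0 1 = 0 ∧ qmat M 1 0 = 0 ∧ qmat M 1 1 = 1 := by
  unfold qdV
  rw [MonoidHom.mem_ker]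
  constructor
  · intro h
    refine ⟨?_, ?_, ?_, ?_⟩
    · simpa [qdBlock] using congrFun (congrFun h 0) 0
    · simpa [qdBlock] using congrFun (congrFun h 0) 1
    · simpa [qdBlock] using congrFun (congrFun h 1) 0
    · simpa [qdBlock] using congrFun (congrFun h 1) 1
  · rintro ⟨h00, h01, h10, h11⟩
    ext i j
    fin_cases i <;> fin_cases j <;> simp [qdBlock, h00, h01, h10, h11]

theorem pow_p_eq_one_of_sq {A : M3} (hA : (A - 1) ^ 2 = 0) :
    A ^ p = 1 := by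
  have hp2 : 2 ≤ p := (Fact.out : p.Prime).two_le
  have h1 : (A - 1) ^ p = A ^ p - 1 := by
    rw [sub_pow_char_of_commute p (Commute.one_right _), one_pow]
  have h2 : (A - 1) ^ p = 0 := pow_eq_zero_of_le hp2 hA
  rw [h2] at h1
  exact sub_eq_zero.1 h1.symm

theorem pow_p_of_qmat {y : ↥(Cfsg.qd p)} (h : (qmat y - 1) ^ 2 = 0) : y ^ p = 1 := by
  apply qmat_injective
  rw [qmat_pow, qmat_one]
  exact pow_p_eq_one_of_sq h

theorem qdV_isPGroup : IsPGroup p (qdV p) := by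
  intro g
  refine ⟨1, ?_⟩
  obtain ⟨h00, h01, h10, h11⟩ := mem_qdV_iff.1 g.2
  obtain ⟨r0, r1, r2⟩ := qmat_row g.1
  apply Subtype.ext
  rw [pow_one, Subgroup.coe_pow, Subgroup.coe_one]
  apply pow_p_of_qmat
  ext i j
  fin_cases i <;> fin_cases j <;>
    simp [pow_two, Matrix.mul_apply, Fin.sum_univ_three, h00, h01, h10, h11, r0, r1, r2]

/-- build an element of `qd p` from an explicit matrix -/
def mkQ (A : M3) (hdet : A.det = 1) (h : A 2 0 = 0 ∧ A 2 1 = 0 ∧ A 2 2 = 1) : ↥(Cfsg.qd p) :=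
  ⟨⟨A, hdet⟩, mem_qd_of_row h⟩

theorem qmat_mkQ (A : M3) (hdet : A.det = 1) (h : A 2 0 = 0 ∧ A 2 1 = 0 ∧ A 2 2 = 1) :
    qmat (mkQ A hdet h) = A := rfl

theorem qdV_ne_bot : qdV p ≠ ⊥ := by
  intro h
  let t0 : ↥(Cfsg.qd p) := mkQ !![1, 0, 1; 0, 1, 0; 0, 0, 1] (by rw [Matrix.det_fin_three]; simp)
    (by refine ⟨?_, ?_, ?_⟩ <;> simp)
  have hV : t0 ∈ qdV p := by
    rw [mem_qdV_iff, qmat_mkQ]
    refine ⟨?_, ?_, ?_, ?_⟩ <;> simp
  rw [h, Subgroup.mem_bot] at hV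
  have h1 : qmat t0 0 2 = qmat (1 : ↥(Cfsg.qd p)) 0 2 := by rw [hV]
  rw [qmat_mkQ, qmat_one] at h1
  simp at h1

theorem qd_not_pclosed (hp : p ≠ 2) : ¬ PClosed p ↥(Cfsg.qd p) := by
  rintro ⟨P, hP⟩
  have hpp : p.Prime := Fact.out
  have hu : Unique (Sylow p ↥(Cfsg.qd p)) := Sylow.unique_of_normal P hP
  have hmemP : ∀ x : ↥(Cfsg.qd p), x ^ p = 1 → x ∈ (P : Subgroup ↥(Cfsg.qd p)) := by
    intro x hx
    have h1 : IsPGroup p (Subgroup.zpowers x) := by
      apply IsPGroup.of_card (n := if x = 1 then 0 else 1)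
      rw [Nat.card_zpowers]
      split_ifs with h
      · rw [h, orderOf_one, pow_zero]
      · rw [pow_one]
        exact orderOf_eq_prime hx h
    obtain ⟨P', hP'⟩ := h1.exists_le_sylow
    have h2 : P' = P := Subsingleton.elim _ _
    rw [← h2]
    exact hP' (Subgroup.mem_zpowers x)
  let x0 : ↥(Cfsg.qd p) := mkQ !![1, 1, 0; 0, 1, 0; 0, 0, 1] (by rw [Matrix.det_fin_three]; simp)
    (by refine ⟨?_, ?_, ?_⟩ <;> simp)
  let z0 : ↥(Cfsg.qd p) := mkQ !![1, 0, 0; -1, 1, 0; 0, 0, 1] (by rw [Matrix.det_fin_three]; simp)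
    (by refine ⟨?_, ?_, ?_⟩ <;> simp)
  have hxP : x0 ∈ (P : Subgroup ↥(Cfsg.qd p)) := by
    apply hmemP
    apply pow_p_of_qmat
    rw [qmat_mkQ]
    ext i j
    fin_cases i <;> fin_cases j <;> simp [pow_two, Matrix.mul_apply, Fin.sum_univ_three]
  have hzP : z0 ∈ (P : Subgroup ↥(Cfsg.qd p)) := by
    apply hmemP
    apply pow_p_of_qmat
    rw [qmat_mkQ]
    ext i j
    fin_cases i <;> fin_cases j <;> simp [pow_two, Matrix.mul_apply, Fin.sum_univ_three]
  set w : ↥(Cfsg.qd p) := x0 * z0 * x0 with hw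
  have hwP : w ∈ (P : Subgroup ↥(Cfsg.qd p)) := mul_mem (mul_mem hxP hzP) hxP
  have hwmat : qmat w = !![0, 1, 0; -1, 0, 0; 0, 0, 1] := by
    rw [hw, qmat_mul, qmat_mul, qmat_mkQ, qmat_mkQ]
    ext i j
    fin_cases i <;> fin_cases j <;> simp [Matrix.mul_apply, Fin.sum_univ_three]
  have hw4 : w ^ 4 = 1 := by
    apply qmat_injective
    rw [qmat_pow, qmat_one, hwmat]
    have h2 : (!![0, 1, 0; -1, 0, 0; 0, 0, 1] : M3) ^ 2
        = !![-1, 0, 0; 0, -1, 0; 0, 0, 1] := by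
      ext i j
      fin_cases i <;> fin_cases j <;> simp [pow_two, Matrix.mul_apply, Fin.sum_univ_three]
    have h4 : (4 : ℕ) = 2 * 2 := rfl
    rw [h4, pow_mul, h2]
    ext i j
    fin_cases i <;> fin_cases j <;> simp [pow_two, Matrix.mul_apply, Fin.sum_univ_three]
  -- order of w is a power of p dividing 4
  obtain ⟨k, hk⟩ := P.2 ⟨w, hwP⟩
  have hk' : w ^ (p ^ k) = 1 := by
    have := congrArg Subtype.val hk
    simpa using this
  have hcop : Nat.Coprime (p ^ k) 4 := by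
    apply Nat.Coprime.pow_left
    have h4 : (4 : ℕ) = 2 ^ 2 := rfl
    rw [h4]
    apply Nat.Coprime.pow_right
    exact (Nat.coprime_primes hpp Nat.prime_two).2 hp
  have hw1 : w = 1 := by
    have h1 : orderOf w ∣ p ^ k := orderOf_dvd_of_pow_eq_one hk'
    have h2 : orderOf w ∣ 4 := orderOf_dvd_of_pow_eq_one hw4
    have h3 : orderOf w ∣ 1 := by
      have := Nat.dvd_gcd h1 h2
      rwa [hcop] at this
    exact orderOf_eq_one_iff.1 (Nat.dvd_one.1 h3)
  have h01 : qmat w 0 1 = qmat (1 : ↥(Cfsg.qd p)) 0 1 := by rw [hw1]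
  rw [hwmat, qmat_one] at h01
  simp at h01

end Cfsg.Agent.Lib.H2.QD
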