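import Mathlib

set_option autoImplicit false
set_option linter.unusedSectionVars false

namespace Cfsg.Agent.Lib.H2.QD

open Matrix

variable {K : Type*} [Field K]

local notation "V3" => Fin 3 → K
local notation "M3" => Matrix (Fin 3) (Fin 3) K

/-- If `x × w = 0` with `w ≠ 0` then `x` is a multiple of `w`. -/
theorem exists_smul_of_cross_eq_zero {x w : V3} (h : x ⨯₃ w = 0) (hw : w ≠ 0) : ∃ c : K, x = c • w := by
  rw [cross_apply] at h
  have h0 : x 1 * w 2 - x 2 * w 1 = 0 := by simpa using congrFun h 0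
  have h1 : x 2 * w 0 - x 0 * w 2 = 0 := by simpa using congrFun h 1
  have h2 : x 0 * w 1 - x 1 * w 0 = 0 := by simpa using congrFun h 2
  by_cases hw0 : w 0 = 0
  · by_cases hw1 : w 1 = 0
    · have hw2 : w 2 ≠ 0 := by
        intro hw2
        apply hw
        ext i
        fin_cases i <;> simp [hw0, hw1, hw2]
      refine ⟨x 2 / w 2, ?_⟩
      ext i
      fin_cases i
      · simp only [Fin.zero_eta, Pi.smul_apply, smul_eq_mul]
        field_simp
        linear_combination -h1
      · simp only [Fin.mk_one, Pi.smul_apply, smul_eq_mul]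
        field_simp
        linear_combination h0
      · simp only [Fin.reduceFinMk, Pi.smul_apply, smul_eq_mul]
        field_simp
    · refine ⟨x 1 / w 1, ?_⟩
      ext i
      fin_cases i
      · simp only [Fin.zero_eta, Pi.smul_apply, smul_eq_mul]
        field_simp
        linear_combination h2
      · simp only [Fin.mk_one, Pi.smul_apply, smul_eq_mul]
        field_simp
      · simp only [Fin.reduceFinMk, Pi.smul_apply, smul_eq_mul]
        field_simp
        linear_combination -h0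
  · refine ⟨x 0 / w 0, ?_⟩
    ext i
    fin_cases i
    · simp only [Fin.zero_eta, Pi.smul_apply, smul_eq_mul]
      field_simp
    · simp only [Fin.mk_one, Pi.smul_apply, smul_eq_mul]
      field_simp
      linear_combination -h2
    · simp only [Fin.reduceFinMk, Pi.smul_apply, smul_eq_mul]
      field_simp
      linear_combination h1

/-- Transformation rule of the cross product. -/
theorem transpose_mulVec_cross (M : M3) (x y : V3) :
    Mᵀ *ᵥ ((M *ᵥ x) ⨯₃ (M *ᵥ y)) = M.det • (x ⨯₃ y) := by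
  ext i
  fin_cases i <;>
  · simp [cross_apply, Matrix.mulVec, dotProduct, Fin.sum_univ_three, Matrix.det_fin_three]
    ring

theorem eq_zero_of_mulVec_eq_zero {M : M3} (h : ∀ v : V3, M *ᵥ v = 0) : M = 0 := by
  ext i j
  have := congrFun (h (Pi.single j 1)) i
  simpa using this

/-! ### The Hermitian-type form -/

variable (σ : K →+* K)

/-- the sesquilinear form `Σ u_i σ(v_i)` -/
def hf (u v : V3) : K := ∑ i, u i * σ (v i)

/-- entrywise `σ` -/
def cj (v : V3) : V3 := fun i => σ (v i)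

theorem hf_eq_dot (u v : V3) : hf σ u v = u ⬝ᵥ cj σ v := rfl

theorem hf_add_left (u u' v : V3) : hf σ (u + u') v = hf σ u v + hf σ u' v := by
  simp [hf_eq_dot]

theorem hf_sub_left (u u' v : V3) : hf σ (u - u') v = hf σ u v - hf σ u' v := by
  simp [hf_eq_dot]

theorem hf_smul_left (c : K) (u v : V3) : hf σ (c • u) v = c * hf σ u v := by
  simp [hf_eq_dot]

theorem hf_conj (hσ : ∀ x, σ (σ x) = x) (u v : V3) : σ (hf σ u v) = hf σ v u := by
  unfold hf
  rw [map_sum]
  apply Finset.sum_congr rfl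
  intro i _
  rw [map_mul, hσ, mul_comm]

theorem cj_ne_zero {w : V3} (hw : w ≠ 0) : cj σ w ≠ 0 := by
  intro h
  apply hw
  ext i
  have := congrFun h i
  simp only [cj, Pi.zero_apply] at this
  simpa using this

theorem cj_cj (hσ : ∀ x, σ (σ x) = x) (w : V3) : cj σ (cj σ w) = w := by
  ext i
  simp [cj, hσ]

theorem cj_smul (c : K) (w : V3) : cj σ (c • w) = σ c • cj σ w := by
  ext i
  simp [cj]

/-- `g` preserves the form -/
def Pres (g : M3) : Prop := ∀ u v : V3, hf σ (g *ᵥ u) (g *ᵥ v) = hf σ u v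

variable {σ}

/-- If `g` preserves the form and fixes `w`, then `gᵀ` fixes `cj w`. -/
theorem transpose_mulVec_cj {g : M3} (hg : Pres σ g) {w : V3} (hw : g *ᵥ w = w) :
    gᵀ *ᵥ cj σ w = cj σ w := by
  have h : ∀ u : V3, (gᵀ *ᵥ cj σ w) ⬝ᵥ u = cj σ w ⬝ᵥ u := by
    intro u
    rw [Matrix.mulVec_transpose, ← Matrix.dotProduct_mulVec, dotProduct_comm, ← hf_eq_dot,
      dotProduct_comm (cj σ w), ← hf_eq_dot]
    have := hg u w
    rw [hw] at this
    exact this
  ext i
  have := h (Pi.single i 1)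
  simpa using this

/-- Key lemma: if `g` (det 1) preserves the form and fixes the isotropic vector `w ≠ 0`, then
`g v - v ∈ K w` for all `v ⊥ w`. -/
theorem exists_smul_of_perp {g : M3} (hdet : g.det = 1) (hg : Pres σ g) {w : V3} (hw0 : w ≠ 0)
    (hww : hf σ w w = 0) (hw : g *ᵥ w = w) {v : V3} (hv : hf σ v w = 0) :
    ∃ c : K, g *ᵥ v - v = c • w := by
  set a := cj σ w with ha
  have ha0 : a ≠ 0 := cj_ne_zero σ hw0
  have hgv : hf σ (g *ᵥ v) w = 0 := by
    have := hg v w
    rw [hw] at this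
    rw [this, hv]
  -- y = v × w and y' = (g v) × w are multiples of a
  have hpar : ∀ x : V3, hf σ x w = 0 → ∃ β : K, x ⨯₃ w = β • a := by
    intro x hx
    apply exists_smul_of_cross_eq_zero _ ha0
    rw [cross_cross_eq_smul_sub_smul, ← hf_eq_dot, ← hf_eq_dot, hx, hww, zero_smul, zero_smul,
      sub_zero]
  obtain ⟨β, hβ⟩ := hpar v hv
  obtain ⟨β', hβ'⟩ := hpar (g *ᵥ v) hgv
  have hT := transpose_mulVec_cross g v w
  rw [hw, hdet, one_smul, hβ', Matrix.mulVec_smul, transpose_mulVec_cj hg hw, ← hβ'] at hT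
  apply exists_smul_of_cross_eq_zero _ hw0
  rw [LinearMap.map_sub₂, hT, sub_self]

/-- `(g - 1) v ⊥ w` whenever `g` fixes `w`. -/
theorem hf_sub_mulVec {g : M3} (hg : Pres σ g) {w : V3} (hw : g *ᵥ w = w) (v : V3) :
    hf σ (g *ᵥ v - v) w = 0 := by
  rw [hf_sub_left]
  have := hg v w
  rw [hw] at this
  rw [this, sub_self]

/-- A matrix of determinant one preserving the form and fixing a nonzero isotropic vector is
unipotent. -/
theorem sub_one_pow_three {g : M3} (hdet : g.det = 1) (hg : Pres σ g) {w : V3} (hw0 : w ≠ 0)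
    (hww : hf σ w w = 0) (hw : g *ᵥ w = w) : (g - 1) ^ 3 = 0 := by
  apply eq_zero_of_mulVec_eq_zero
  intro v
  have e : ∀ x : V3, (g - 1) *ᵥ x = g *ᵥ x - x := by
    intro x
    rw [Matrix.sub_mulVec, Matrix.one_mulVec]
  rw [pow_succ, pow_two, ← Matrix.mulVec_mulVec, ← Matrix.mulVec_mulVec, e v]
  obtain ⟨c, hc⟩ := exists_smul_of_perp hdet hg hw0 hww hw (hf_sub_mulVec hg hw v)
  rw [e (g *ᵥ v - v), hc, e, Matrix.mulVec_smul, hw, sub_self]

/-- Uniqueness of the fixed isotropic line. -/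
theorem eq_one_of_fix_two (hσ : ∀ x, σ (σ x) = x) {g : M3} (hdet : g.det = 1) (hg : Pres σ g)
    {w w' : V3} (hw0 : w ≠ 0) (hw0' : w' ≠ 0) (hww : hf σ w w = 0) (hww' : hf σ w' w' = 0)
    (hw : g *ᵥ w = w) (hw' : g *ᵥ w' = w') (hind : ¬ ∃ c : K, w' = c • w) : g = 1 := by
  by_cases hb : hf σ w w' = 0
  · -- totally isotropic plane: impossible
    exfalso
    have hb' : hf σ w' w = 0 := by rw [← hf_conj σ hσ, hb, map_zero]
    set z := w ⨯₃ w' with hz
    have hz0 : z ≠ 0 := by
      intro h0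
      apply hind
      apply exists_smul_of_cross_eq_zero _ hw0
      rw [← cross_anticomm, ← hz, h0, neg_zero]
    have h1 : cj σ w ⨯₃ z = 0 := by
      rw [hz, cross_cross_eq_smul_sub_smul', dotProduct_comm (cj σ w) w', ← hf_eq_dot, ← hf_eq_dot,
        hb', hww, zero_smul, zero_smul, sub_zero]
    have h2 : cj σ w' ⨯₃ z = 0 := by
      rw [hz, cross_cross_eq_smul_sub_smul', dotProduct_comm (cj σ w') w', ← hf_eq_dot, ← hf_eq_dot,
        hww', hb, zero_smul, zero_smul, sub_zero]
    obtain ⟨c1, hc1⟩ := exists_smul_of_cross_eq_zero h1 hz0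
    obtain ⟨c2, hc2⟩ := exists_smul_of_cross_eq_zero h2 hz0
    have hc1ne : c1 ≠ 0 := by
      intro h
      rw [h, zero_smul] at hc1
      exact cj_ne_zero σ hw0 hc1
    apply hind
    refine ⟨σ (c2 / c1), ?_⟩
    have h3 : cj σ w' = (c2 / c1) • cj σ w := by
      rw [hc1, hc2, smul_smul, div_mul_cancel₀ _ hc1ne]
    have h4 := congrArg (cj σ) h3
    rw [cj_cj σ hσ, cj_smul, cj_cj σ hσ] at h4
    exact h4
  · have hb' : hf σ w' w ≠ 0 := by
      intro h
      apply hb
      rw [← hf_conj σ hσ, h, map_zero]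
    rw [← sub_eq_zero]
    apply eq_zero_of_mulVec_eq_zero
    intro v
    rw [Matrix.sub_mulVec, Matrix.one_mulVec, sub_eq_zero]
    set α := hf σ v w / hf σ w' w with hα
    set v1 := v - α • w' with hv1
    have hv1w : hf σ v1 w = 0 := by
      rw [hv1, hf_sub_left, hf_smul_left, hα, div_mul_cancel₀ _ hb', sub_self]
    set β := hf σ v1 w' / hf σ w w' with hβ
    set v2 := v1 - β • w with hv2
    have hv2w : hf σ v2 w = 0 := by
      rw [hv2, hf_sub_left, hf_smul_left, hv1w, hww, mul_zero, sub_zero]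
    have hv2w' : hf σ v2 w' = 0 := by
      rw [hv2, hf_sub_left, hf_smul_left, hβ, div_mul_cancel₀ _ hb, sub_self]
    obtain ⟨c, hc⟩ := exists_smul_of_perp hdet hg hw0 hww hw hv2w
    obtain ⟨c', hc'⟩ := exists_smul_of_perp hdet hg hw0' hww' hw' hv2w'
    have hc0 : c' = 0 := by
      by_contra hne
      apply hind
      refine ⟨c / c', ?_⟩
      have : c' • w' = c • w := by rw [← hc', hc]
      rw [div_eq_inv_mul, ← smul_smul, ← this, smul_smul, inv_mul_cancel₀ hne, one_smul]
    rw [hc0, zero_smul, sub_eq_zero] at hc'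
    have hv : v = v2 + β • w + α • w' := by
      rw [hv2, hv1]; abel
    rw [hv, Matrix.mulVec_add, Matrix.mulVec_add, Matrix.mulVec_smul, Matrix.mulVec_smul, hw, hw', hc']

end Cfsg.Agent.Lib.H2.QD
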