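import Mathlib
import Cfsg.Prelude.Def_Classical
import Cfsg.Agent.Lib.H2.QDA
import Cfsg.Agent.Lib.H2.QDC

set_option autoImplicit false
set_option linter.unusedSectionVars false

namespace Cfsg.Agent.Lib.H2.QD

open Matrix

/-- The Frobenius-type map `x ↦ x ^ (p ^ n)`. -/
noncomputable def sig (p : ℕ) [Fact p.Prime] (K : Type*) [Field K] [CharP K p] (n : ℕ) : K →+* K :=
  iterateFrobenius K p n

variable {p : ℕ} [Fact p.Prime] {K : Type*} [Field K] [Fintype K] [CharP K p] {n : ℕ}

local notation "V3" => Fin 3 → K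
local notation "M3" => Matrix (Fin 3) (Fin 3) K
local notation "G" => Cfsg.SU 3 K (p ^ n)

theorem sig_apply (x : K) : sig p K n x = x ^ (p ^ n) := iterateFrobenius_def p n x

theorem sig_sig (hK : Fintype.card K = (p ^ n) ^ 2) (x : K) : sig p K n (sig p K n x) = x := by
  rw [sig_apply, sig_apply, ← pow_mul, ← pow_two, ← hK, FiniteField.pow_card]

theorem hermForm_eq (u v : V3) : Cfsg.hermForm 3 K (p ^ n) u v = hf (sig p K n) u v := by
  unfold Cfsg.hermForm hf
  apply Finset.sum_congr rfl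
  intro i _
  rw [sig_apply]

/-- matrix of an element of `SU₃` -/
def smat (g : G) : M3 := ((g : Matrix.SpecialLinearGroup (Fin 3) K) : M3)

theorem smat_mul (a b : G) : smat (a * b) = smat a * smat b := by
  unfold smat
  rw [Subgroup.coe_mul, Matrix.SpecialLinearGroup.coe_mul]

theorem smat_one : smat (1 : G) = 1 := by
  unfold smat
  rw [Subgroup.coe_one, Matrix.SpecialLinearGroup.coe_one]

theorem smat_pow (a : G) (k : ℕ) : smat (a ^ k) = smat a ^ k := by
  unfold smat
  rw [Subgroup.coe_pow, Matrix.SpecialLinearGroup.coe_pow]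

theorem smat_injective : Function.Injective (smat (p := p) (K := K) (n := n)) := by
  intro a b h
  apply Subtype.ext
  apply Subtype.ext
  exact h

theorem smat_det (g : G) : (smat g).det = 1 := g.1.2

theorem smat_pres (g : G) : Pres (sig p K n) (smat g) := by
  intro u v
  have := g.2 u v
  rw [hermForm_eq, hermForm_eq] at this
  exact this

theorem smat_inv_mulVec (g : G) (v : V3) : smat g⁻¹ *ᵥ (smat g *ᵥ v) = v := by
  rw [Matrix.mulVec_mulVec, ← smat_mul, inv_mul_cancel, smat_one, Matrix.one_mulVec]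

theorem smat_mulVec_inv (g : G) (v : V3) : smat g *ᵥ (smat g⁻¹ *ᵥ v) = v := by
  rw [Matrix.mulVec_mulVec, ← smat_mul, mul_inv_cancel, smat_one, Matrix.one_mulVec]

theorem smat_mulVec_ne_zero (g : G) {v : V3} (hv : v ≠ 0) : smat g *ᵥ v ≠ 0 := by
  intro h
  apply hv
  rw [← smat_inv_mulVec g v, h, Matrix.mulVec_zero]

theorem pow_p_eq_one_of_cube {A : M3} (hp : p ≠ 2) (hA : (A - 1) ^ 3 = 0) : A ^ p = 1 := by
  have hp3 : 3 ≤ p := by
    have := (Fact.out : p.Prime).two_le
    omega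
  have h1 : (A - 1) ^ p = A ^ p - 1 := by
    rw [sub_pow_char_of_commute p (Commute.one_right _), one_pow]
  have h2 : (A - 1) ^ p = 0 := pow_eq_zero_of_le hp3 hA
  rw [h2] at h1
  exact sub_eq_zero.1 h1.symm

/-! ### The stabilizer of a vector and of a line -/

variable (p n) in
/-- stabilizer of the vector `w` -/
def vecStab (w : V3) : Subgroup G where
  carrier := {g | smat g *ᵥ w = w}
  one_mem' := by
    change smat 1 *ᵥ w = w
    rw [smat_one, Matrix.one_mulVec]
  mul_mem' := by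
    intro a b ha hb
    change smat (a * b) *ᵥ w = w
    rw [smat_mul, ← Matrix.mulVec_mulVec, hb, ha]
  inv_mem' := by
    intro a ha
    change smat a⁻¹ *ᵥ w = w
    have := smat_inv_mulVec a w
    rw [ha] at this
    exact this

theorem mem_vecStab {w : V3} {g : G} : g ∈ vecStab p n w ↔ smat g *ᵥ w = w := Iff.rfl

variable (p n) in
/-- stabilizer of the line through `w` -/
def lineStab (w : V3) : Subgroup G where
  carrier := {g | ∃ c : Kˣ, smat g *ᵥ w = (c : K) • w}
  one_mem' := ⟨1, by rw [smat_one, Matrix.one_mulVec, Units.val_one, one_smul]⟩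
  mul_mem' := by
    rintro a b ⟨c, hc⟩ ⟨d, hd⟩
    refine ⟨c * d, ?_⟩
    rw [smat_mul, ← Matrix.mulVec_mulVec, hd, Matrix.mulVec_smul, hc, smul_smul, Units.val_mul,
      mul_comm]
  inv_mem' := by
    rintro a ⟨c, hc⟩
    refine ⟨c⁻¹, ?_⟩
    have h := smat_inv_mulVec a w
    rw [hc, Matrix.mulVec_smul] at h
    calc smat a⁻¹ *ᵥ w = ((c⁻¹ : Kˣ) : K) • ((c : K) • smat a⁻¹ *ᵥ w) := by
          rw [smul_smul, ← Units.val_mul, inv_mul_cancel, Units.val_one, one_smul]
      _ = ((c⁻¹ : Kˣ) : K) • w := by rw [h]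

theorem mem_lineStab_of_smul {w : V3} (hw0 : w ≠ 0) {g : G} {c : K} (h : smat g *ᵥ w = c • w) :
    g ∈ lineStab p n w := by
  have hc : c ≠ 0 := by
    intro h0
    rw [h0, zero_smul] at h
    exact smat_mulVec_ne_zero g hw0 h
  exact ⟨Units.mk0 c hc, h⟩

theorem vecStab_le_lineStab (w : V3) : vecStab p n w ≤ lineStab p n w := by
  intro g hg
  refine ⟨1, ?_⟩
  rw [Units.val_one, one_smul]
  exact hg

/-- The vector stabilizer of a nonzero isotropic vector is a `p`-group. -/
theorem vecStab_isPGroup (hp : p ≠ 2) {w : V3} (hw0 : w ≠ 0) (hww : hf (sig p K n) w w = 0) :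
    IsPGroup p (vecStab p n w) := by
  intro g
  refine ⟨1, ?_⟩
  apply Subtype.ext
  rw [pow_one, Subgroup.coe_pow, Subgroup.coe_one]
  apply smat_injective
  rw [smat_pow, smat_one]
  exact pow_p_eq_one_of_cube hp
    (sub_one_pow_three (smat_det g.1) (smat_pres g.1) hw0 hww g.2)

/-- an element of `p`-power order acts trivially on any line it stabilizes -/
theorem mem_vecStab_of_pow {w : V3} (hw0 : w ≠ 0) {g : G} (hg : g ∈ lineStab p n w) {k : ℕ}
    (hk : g ^ (p ^ k) = 1) : g ∈ vecStab p n w := by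
  obtain ⟨c, hc⟩ := hg
  have hpow : ∀ m : ℕ, smat (g ^ m) *ᵥ w = ((c : K) ^ m) • w := by
    intro m
    induction m with
    | zero => rw [pow_zero, smat_one, Matrix.one_mulVec, pow_zero, one_smul]
    | succ m ih =>
      rw [pow_succ, smat_mul, ← Matrix.mulVec_mulVec, hc, Matrix.mulVec_smul, ih, smul_smul,
        pow_succ, mul_comm]
  have h1 := hpow (p ^ k)
  rw [hk, smat_one, Matrix.one_mulVec] at h1
  have h2 : ((c : K) ^ (p ^ k) - 1) • w = 0 := by
    rw [sub_smul, one_smul, ← h1, sub_self]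
  have h3 : (c : K) ^ (p ^ k) - 1 = 0 := by
    rcases smul_eq_zero.1 h2 with h | h
    · exact h
    · exact absurd h hw0
  have h4 : ((c : K) - 1) ^ (p ^ k) = 0 := by
    rw [sub_pow_char_pow_of_commute p k (Commute.one_right _), one_pow, h3]
  have h5 : (c : K) = 1 := by
    have := pow_eq_zero_iff (pow_ne_zero k (Fact.out : p.Prime).ne_zero) |>.1 h4
    exact sub_eq_zero.1 this
  change smat g *ᵥ w = w
  rw [hc, h5, one_smul]

/-- The line stabilizer of a nonzero isotropic vector has a normal Sylow `p`-subgroup. -/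
theorem lineStab_pclosed (hp : p ≠ 2) {w : V3} (hw0 : w ≠ 0) (hww : hf (sig p K n) w w = 0) :
    PClosed p (lineStab p n w) := by
  set B := lineStab p n w with hB
  set C : Subgroup B := (vecStab p n w).subgroupOf B with hC
  have hCp : IsPGroup p C := (vecStab_isPGroup hp hw0 hww).comap_subtype
  have hCn : C.Normal := by
    constructor
    intro g hg b
    rw [hC, Subgroup.mem_subgroupOf] at hg ⊢
    obtain ⟨c, hc⟩ := (b⁻¹).2
    have hg' : smat (g : G) *ᵥ w = w := hg
    change smat ((b : G) * (g : G) * ((b⁻¹ : B) : G)) *ᵥ w = w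
    rw [smat_mul, smat_mul, ← Matrix.mulVec_mulVec, ← Matrix.mulVec_mulVec, hc, Matrix.mulVec_smul,
      hg', ← hc, Subgroup.coe_inv, smat_mulVec_inv]
  obtain ⟨P⟩ : Nonempty (Sylow p B) := inferInstance
  have hPC : (P : Subgroup B) ≤ C := by
    intro g hg
    obtain ⟨k, hk⟩ := P.2 ⟨g, hg⟩
    have hk' : (g : G) ^ (p ^ k) = 1 := by
      have := congrArg Subtype.val hk
      have h2 := congrArg Subtype.val this
      simpa using h2
    rw [hC, Subgroup.mem_subgroupOf]
    exact mem_vecStab_of_pow hw0 g.2 hk'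
  have hPeq : C = P := P.is_maximal' hCp hPC
  refine ⟨P, ?_⟩
  rw [← hPeq]
  exact hCn

/-! ### Existence of a fixed isotropic vector -/

theorem exists_fixed_isotropic (R : Subgroup G) (hR : IsPGroup p R) (hR1 : R ≠ ⊥) :
    ∃ w : V3, w ≠ 0 ∧ hf (sig p K n) w w = 0 ∧ ∀ g ∈ R, smat g *ᵥ w = w := by
  classical
  have hnt : Nontrivial R := by
    rw [Subgroup.nontrivial_iff_ne_bot]
    exact hR1
  have hcz : Nontrivial (Subgroup.center R) := hR.center_nontrivial
  obtain ⟨z, hz1⟩ := exists_ne (1 : Subgroup.center R)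
  have hzc : ∀ r : R, r * z.1 = z.1 * r := fun r => Subgroup.mem_center_iff.1 z.2 r
  set Z : M3 := smat (z.1 : G) with hZ
  set N : M3 := Z - 1 with hN
  have hN0 : N ≠ 0 := by
    intro h
    apply hz1
    apply Subtype.ext
    apply Subtype.ext
    apply smat_injective
    rw [Subgroup.coe_one, Subgroup.coe_one, smat_one]
    exact sub_eq_zero.1 h
  -- N is nilpotent
  obtain ⟨k, hk⟩ := hR z.1
  have hZk : Z ^ (p ^ k) = 1 := by
    rw [hZ, ← smat_pow, ← Subgroup.coe_pow, hk, Subgroup.coe_one, smat_one]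
  have hNk : N ^ (p ^ k) = 0 := by
    rw [hN, sub_pow_char_pow_of_commute p k (Commute.one_right _), one_pow, hZk, sub_self]
  have hex : ∃ m, N ^ m = 0 := ⟨_, hNk⟩
  set m := Nat.find hex with hm
  have hm0 : N ^ m = 0 := Nat.find_spec hex
  have hm2 : 2 ≤ m := by
    by_contra hlt
    have hcases : m = 0 ∨ m = 1 := by omega
    rcases hcases with h | h
    · rw [h, pow_zero] at hm0
      exact one_ne_zero hm0
    · rw [h, pow_one] at hm0
      exact hN0 hm0
  have hm1 : N ^ (m - 1) ≠ 0 := by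
    intro h
    have := Nat.find_min' hex h
    omega
  obtain ⟨v, hv⟩ : ∃ v : V3, N ^ (m - 1) *ᵥ v ≠ 0 := by
    by_contra hcon
    push Not at hcon
    exact hm1 (eq_zero_of_mulVec_eq_zero hcon)
  set y0 : V3 := N ^ (m - 1) *ᵥ v with hy0
  have hy0N : N *ᵥ y0 = 0 := by
    rw [hy0, Matrix.mulVec_mulVec, ← pow_succ']
    have : m - 1 + 1 = m := by omega
    rw [this, hm0, Matrix.zero_mulVec]
  have hy0R : ∃ x, y0 = N *ᵥ x := by
    refine ⟨N ^ (m - 2) *ᵥ v, ?_⟩
    rw [hy0, Matrix.mulVec_mulVec, ← pow_succ']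
    have : m - 2 + 1 = m - 1 := by omega
    rw [this]
  -- the subgroup Y = ker N ∩ range N
  let Y : AddSubgroup V3 :=
    { carrier := {y | N *ᵥ y = 0 ∧ ∃ x, y = N *ᵥ x}
      zero_mem' := ⟨Matrix.mulVec_zero _, 0, (Matrix.mulVec_zero _).symm⟩
      add_mem' := by
        rintro a b ⟨ha, xa, hxa⟩ ⟨hb, xb, hxb⟩
        refine ⟨by rw [Matrix.mulVec_add, ha, hb, add_zero], xa + xb, ?_⟩
        rw [Matrix.mulVec_add, ← hxa, ← hxb]
      neg_mem' := by
        rintro a ⟨ha, xa, hxa⟩
        refine ⟨by rw [Matrix.mulVec_neg, ha, neg_zero], -xa, ?_⟩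
        rw [Matrix.mulVec_neg, ← hxa] }
  have hcomm : ∀ r : R, smat (r : G) * N = N * smat (r : G) := by
    intro r
    have h1 : smat (r : G) * Z = Z * smat (r : G) := by
      rw [hZ, ← smat_mul, ← smat_mul, ← Subgroup.coe_mul, ← Subgroup.coe_mul, hzc r]
    rw [hN, mul_sub, sub_mul, h1, mul_one, one_mul]
  let act : MulAction R Y :=
    { smul := fun r y => ⟨smat (r : G) *ᵥ y.1, by
        obtain ⟨hy, x, hx⟩ := y.2
        refine ⟨?_, smat (r : G) *ᵥ x, ?_⟩
        · rw [Matrix.mulVec_mulVec, ← hcomm r, ← Matrix.mulVec_mulVec, hy, Matrix.mulVec_zero]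
        · rw [Matrix.mulVec_mulVec, ← hcomm r, ← Matrix.mulVec_mulVec, ← hx]⟩
      one_smul := by
        intro y
        apply Subtype.ext
        change smat ((1 : R) : G) *ᵥ y.1 = y.1
        rw [Subgroup.coe_one, smat_one, Matrix.one_mulVec]
      mul_smul := by
        intro a b y
        apply Subtype.ext
        change smat ((a * b : R) : G) *ᵥ y.1 = smat (a : G) *ᵥ (smat (b : G) *ᵥ y.1)
        rw [Subgroup.coe_mul, smat_mul, Matrix.mulVec_mulVec] }
  have hsmul : ∀ (r : R) (y : Y), ((r • y : Y) : V3) = smat (r : G) *ᵥ y.1 := fun r y => rfl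
  have hpp : p.Prime := Fact.out
  have hdvd : p ∣ Nat.card Y := by
    have h1 : Nat.card Y ∣ Nat.card V3 := AddSubgroup.card_addSubgroup_dvd_card Y
    obtain ⟨e, he⟩ := FiniteField.card K p
    have h2 : Nat.card V3 = p ^ ((e : ℕ) * 3) := by
      rw [Nat.card_eq_fintype_card, Fintype.card_fun, he.2, Fintype.card_fin, pow_mul]
    rw [h2] at h1
    obtain ⟨j, _, hj⟩ := (Nat.dvd_prime_pow hpp).1 h1
    have hj0 : j ≠ 0 := by
      intro h0
      rw [h0, pow_zero] at hj
      have hsub : Subsingleton Y := (Nat.card_eq_one_iff_unique.1 hj).1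
      have : (⟨y0, hy0N, hy0R⟩ : Y) = 0 := Subsingleton.elim _ _
      exact hv (congrArg Subtype.val this)
    rw [hj]
    exact dvd_pow_self p hj0
  have h0fix : (0 : Y) ∈ MulAction.fixedPoints R Y := by
    intro r
    apply Subtype.ext
    rw [hsmul]
    exact Matrix.mulVec_zero _
  obtain ⟨b, hbfix, hb0⟩ := hR.exists_fixed_point_of_prime_dvd_card_of_fixed_point Y hdvd h0fix
  have hbfix' : ∀ r : R, smat (r : G) *ᵥ b.1 = b.1 := by
    intro r
    have := hbfix r
    have h2 := congrArg Subtype.val this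
    rw [hsmul] at h2
    exact h2
  refine ⟨b.1, ?_, ?_, ?_⟩
  · intro h
    apply hb0
    apply Subtype.ext
    exact h.symm
  · obtain ⟨hbN, x, hx⟩ := b.2
    have hzb : Z *ᵥ b.1 = b.1 := hbfix' z.1
    have : b.1 = Z *ᵥ x - x := by
      rw [hx, hN, Matrix.sub_mulVec, Matrix.one_mulVec]
    have h := hf_sub_mulVec (smat_pres (z.1 : G)) hzb x
    rw [← hZ, ← this] at h
    exact h
  · intro g hg
    exact hbfix' ⟨g, hg⟩

/-! ### Normalizers of nontrivial `p`-subgroups -/

theorem su3_local (hp : p ≠ 2) (hK : Fintype.card K = (p ^ n) ^ 2) (R : Subgroup G)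
    (hR : IsPGroup p R) (hR1 : R ≠ ⊥) : PClosed p (Subgroup.normalizer (R : Set G)) := by
  obtain ⟨w, hw0, hww, hfix⟩ := exists_fixed_isotropic R hR hR1
  have hle : Subgroup.normalizer (R : Set G) ≤ lineStab p n w := by
    intro x hx
    by_contra hcon
    have hind : ¬ ∃ c : K, smat x *ᵥ w = c • w := by
      rintro ⟨c, hc⟩
      exact hcon (mem_lineStab_of_smul hw0 hc)
    -- every element of R fixes x w
    have hxinv : x⁻¹ ∈ Subgroup.normalizer (R : Set G) := inv_mem hx
    have hfix' : ∀ g ∈ R, smat g *ᵥ (smat x *ᵥ w) = smat x *ᵥ w := by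
      intro g hg
      have h1 : x⁻¹ * g * x⁻¹⁻¹ ∈ R := (Subgroup.mem_normalizer_iff.1 hxinv g).1 hg
      rw [inv_inv] at h1
      have h2 := hfix _ h1
      rw [smat_mul, smat_mul, ← Matrix.mulVec_mulVec, ← Matrix.mulVec_mulVec] at h2
      have h3 : smat x *ᵥ (smat x⁻¹ *ᵥ (smat g *ᵥ (smat x *ᵥ w))) = smat x *ᵥ w := by rw [h2]
      rw [smat_mulVec_inv] at h3
      exact h3
    apply hR1
    rw [Subgroup.eq_bot_iff_forall]
    intro g hg
    apply smat_injective
    rw [smat_one]
    have hpx : hf (sig p K n) (smat x *ᵥ w) (smat x *ᵥ w) = 0 := by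
      rw [smat_pres x w w, hww]
    exact eq_one_of_fix_two (sig_sig hK) (smat_det g) (smat_pres g) hw0 (smat_mulVec_ne_zero x hw0)
      hww hpx (hfix g hg) (hfix' g hg) hind
  have hB := lineStab_pclosed (n := n) hp hw0 hww
  exact PClosed.of_injective (Subgroup.inclusion hle) (Subgroup.inclusion_injective hle) hB

end Cfsg.Agent.Lib.H2.QD
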