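import Mathlib
import Cfsg.Agent.Lib.H2.QNC

set_option autoImplicit false
set_option linter.unusedSectionVars false
set_option linter.style.haveILetI false

/-!
# The case where the quotient is abelian and all its involutions are fixed
-/

namespace Cfsg.Agent.Lib.H2.QN

open Subgroup Cfsg.Agent.Lib.H2.L34 Cfsg.Agent.Lib.H2.RT

variable {T : Type*} [Group T]

theorem CC.pow_mul_mod {C : Subgroup T} (S : CC C) (g k : T) (n : ℕ) :
    ∃ c ∈ C, (g * k) ^ n = g ^ n * k ^ n * c := by
  induction n with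
  | zero => exact ⟨1, one_mem _, by simp⟩
  | succ n ih =>
    obtain ⟨c, hc, h⟩ := ih
    refine ⟨c * cm (k ^ n) g, mul_mem hc (S.comm _ _), ?_⟩
    have h1 := swap (k ^ n) g
    have h2 := S.cmc (k ^ n) g
    have h3 := S.c_comm hc
    calc (g * k) ^ (n + 1) = (g * k) ^ n * (g * k) := pow_succ _ _
      _ = g ^ n * k ^ n * c * (g * k) := by rw [h]
      _ = g ^ n * k ^ n * ((g * k) * c) := by rw [h3 (g * k)]; group
      _ = g ^ n * (k ^ n * g) * k * c := by group
      _ = g ^ n * (cm (k ^ n) g * g * k ^ n) * k * c := by rw [h1]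
      _ = (g ^ n * cm (k ^ n) g) * g * (k ^ n * k) * c := by group
      _ = (cm (k ^ n) g * g ^ n) * g * (k ^ n * k) * c := by rw [h2 (g ^ n)]
      _ = cm (k ^ n) g * (g ^ n * g * (k ^ n * k) * c) := by group
      _ = (g ^ n * g * (k ^ n * k) * c) * cm (k ^ n) g := (h2 _).symm
      _ = g ^ (n + 1) * k ^ (n + 1) * (c * cm (k ^ n) g) := by rw [pow_succ, pow_succ]; group

theorem dd_aut (α f : MulAut T) (hcomm : ∀ x, α (f x) = f (α x)) (x : T) :
    dd α (f x) = f (dd α x) := by
  rw [dd_def, dd_def, map_mul, map_inv, hcomm]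

namespace Hyp

variable {q : ℕ} {α ρ : MulAut T} [Finite T]

theorem dd_pow (H : Hyp q α ρ) (k : ℕ) (x : T) : dd α ((ρ ^ k) x) = (ρ ^ k) (dd α x) :=
  dd_aut α (ρ ^ k) (H.comm_pow k) x

theorem dd_of_mem (_H : Hyp q α ρ) {c : T} (hc : c ∈ fixSub α) : dd α c = 1 :=
  (dd_eq_one_iff' α c).mpr hc

theorem dd_alpha (H : Hyp q α ρ) (x : T) : dd α (α x) = (dd α x)⁻¹ := by
  rw [dd_def, dd_def, H.inv]; group

theorem alpha_dd (H : Hyp q α ρ) (x : T) : α (dd α x) = (dd α x)⁻¹ := by
  rw [dd_def, map_mul, map_inv, H.inv]; group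

theorem dd_mul_c (H : Hyp q α ρ) {x : T} (hx : dd α x ∈ fixSub α) {c : T} (hc : c ∈ fixSub α) :
    dd α (x * c) = dd α x := by
  rw [H.dd_mul hx, H.dd_of_mem hc, mul_one]

/-- if the quotient is abelian and all its involutions are fixed, the group is abelian -/
theorem abelian_of_R (H : Hyp q α ρ) (hcomm : ∀ g k : T, cm g k ∈ fixSub α)
    (hR : ∀ g : T, g * g ∈ fixSub α → dd α g ∈ fixSub α) : ∀ x y : T, x * y = y * x := by
  have S := H.cc hcomm
  by_cases hne : ∃ y, y ∉ fixSub α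
  swap
  · push Not at hne
    intro x y
    exact H.C_comm (hne x) y
  haveI := H.C_normal
  -- the exponent of the quotient
  have hex : ∃ e : ℕ, ∀ g : T, g ^ (2 ^ e) ∈ fixSub α := by
    obtain ⟨e, he⟩ := IsPGroup.iff_card.mp H.pg
    refine ⟨e, fun g => ?_⟩
    rw [← he, pow_card_eq_one']
    exact one_mem _
  classical
  set e := Nat.find hex with he
  have hes : ∀ g : T, g ^ (2 ^ e) ∈ fixSub α := Nat.find_spec hex
  have he1 : 1 ≤ e := by
    by_contra h
    have h0 : e = 0 := by omega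
    obtain ⟨y, hy⟩ := hne
    have := hes y
    rw [h0, pow_zero, pow_one] at this
    exact hy this
  set N := 2 ^ (e - 1) with hN
  have h2N : ∀ g : T, g ^ N * g ^ N ∈ fixSub α := by
    intro g
    have := hes g
    have h1 : 2 ^ e = N + N := by
      rw [hN, ← two_mul, ← pow_succ']
      congr 1
      omega
    rwa [h1, pow_add] at this
  have hx0 : ∃ x0 : T, x0 ^ N ∉ fixSub α := by
    by_contra hcon
    push Not at hcon
    have := Nat.find_min hex (m := e - 1) (by omega)
    exact this hcon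
  obtain ⟨x0, hx0⟩ := hx0
  -- the map Φ
  have hΦC : ∀ g : T, dd α (g ^ N) ∈ fixSub α := fun g => hR _ (h2N g)
  have hΦmul : ∀ g k : T, dd α ((g * k) ^ N) = dd α (g ^ N) * dd α (k ^ N) := by
    intro g k
    obtain ⟨c, hc, h⟩ := S.pow_mul_mod g k N
    rw [h, mul_assoc, H.dd_mul (hΦC g), H.dd_mul (hΦC k), H.dd_of_mem hc, mul_one]
  let Φ : T →* T := MonoidHom.mk' (fun g => dd α (g ^ N)) hΦmul
  have hΦ : ∀ g, Φ g = dd α (g ^ N) := fun g => rfl
  have hΦC' : ∀ g : T, Φ g ∈ fixSub α := hΦC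
  have hΦρ : ∀ k g, Φ ((ρ ^ k) g) = (ρ ^ k) (Φ g) := by
    intro k g
    rw [hΦ, hΦ, ← map_pow, H.dd_pow]
  have hΦα : ∀ g, Φ (α g) = Φ g := by
    intro g
    rw [hΦ, hΦ, ← map_pow, H.dd_alpha, S.c_inv (hΦC g)]
  have hΦx0 : Φ x0 ≠ 1 := by
    rw [hΦ, Ne, dd_eq_one_iff']
    exact hx0
  have hΦc : ∀ c ∈ fixSub α, Φ c = 1 := by
    intro c hc
    rw [hΦ]
    exact H.dd_of_mem (pow_mem hc N)
  have hΦsq : ∀ g, Φ g * Φ g = 1 := fun g => H.C_sq (hΦC g)
  have hrange : Φ.range = fixSub α := by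
    apply le_antisymm
    · rintro _ ⟨g, rfl⟩
      exact hΦC g
    · intro c hc
      by_cases hc1 : c = 1
      · rw [hc1]; exact one_mem _
      · obtain ⟨k, hk⟩ := H.trans (hΦC x0) hΦx0 hc hc1
        exact ⟨(ρ ^ k) x0, by rw [hΦρ]; exact hk⟩
  have hcardker : Nat.card Φ.ker * q = Nat.card T := by
    have h1 := Subgroup.card_mul_index Φ.ker
    rwa [Subgroup.index_ker, hrange, H.card] at h1
  -- the squaring map
  let σ : T →* T ⧸ fixSub α := MonoidHom.mk' (fun g => QuotientGroup.mk (g * g)) (by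
    intro g k
    rw [← QuotientGroup.mk_mul, S.sq_mul, mul_assoc, QuotientGroup.mk_mul,
      (QuotientGroup.eq_one_iff _).mpr (hcomm g k), one_mul])
  have hσ : ∀ g, σ g = QuotientGroup.mk (g * g) := fun g => rfl
  have hσker : σ.ker ≤ H.XX := by
    intro g hg
    rw [MonoidHom.mem_ker, hσ, QuotientGroup.eq_one_iff] at hg
    rw [mem_XX]
    exact hR g hg
  have hσker' : Nat.card σ.ker ≤ q * q := by
    rw [← H.card_XX hne]
    exact Subgroup.card_le_of_le hσker
  have hσcard : Nat.card σ.ker * Nat.card σ.range = Nat.card T := by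
    have h1 := Subgroup.card_mul_index σ.ker
    rwa [Subgroup.index_ker] at h1
  set Sq : Subgroup T := σ.range.comap (QuotientGroup.mk' (fixSub α)) with hSq
  have hSqcard : Nat.card Sq = Nat.card σ.range * q := by
    rw [hSq, card_comap_mk, H.card]
  have hSqmem : ∀ y, y ∈ Sq → ∃ h : T, ∃ c ∈ fixSub α, y = h * h * c := by
    intro y hy
    rw [hSq, Subgroup.mem_comap] at hy
    obtain ⟨h, hh⟩ := hy
    rw [hσ, QuotientGroup.mk'_apply, QuotientGroup.eq] at hh
    exact ⟨h, (h * h)⁻¹ * y, hh, by group⟩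
  have hSqle : Sq ≤ Φ.ker := by
    intro y hy
    obtain ⟨h, c, hc, rfl⟩ := hSqmem y hy
    rw [MonoidHom.mem_ker, map_mul, map_mul, hΦsq, hΦc c hc, one_mul]
  have hSqeq : Sq = Φ.ker := by
    apply Subgroup.eq_of_le_of_card_ge hSqle
    have hqpos : 0 < q := by have := H.hq; omega
    have h1 : Nat.card Φ.ker * q ≤ Nat.card Sq * q := by
      rw [hcardker, hSqcard, ← hσcard]
      calc Nat.card σ.ker * Nat.card σ.range ≤ (q * q) * Nat.card σ.range :=
            Nat.mul_le_mul_right _ hσker'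
        _ = Nat.card σ.range * q * q := by ring
    exact Nat.le_of_mul_le_mul_right h1 hqpos
  have hker : ∀ y, Φ y = 1 → ∃ h : T, ∃ c ∈ fixSub α, y = h * h * c := by
    intro y hy
    apply hSqmem
    rw [hSqeq]
    exact hy
  -- the kernel is central
  have hkcen : ∀ y, Φ y = 1 → ∀ u : T, y * u = u * y := by
    intro y hy u
    obtain ⟨h, c, hc, rfl⟩ := hker y hy
    rw [mul_assoc, ← S.c_comm hc u, ← mul_assoc, S.sq_comm, mul_assoc]
  -- `dd α g` lies in the kernel
  have hΦdd : ∀ g, Φ (dd α g) = 1 := by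
    intro g
    rw [dd_def, map_mul, map_inv, hΦα, inv_mul_cancel]
  have hddcen : ∀ g u : T, dd α g * u = u * dd α g := fun g u => hkcen _ (hΦdd g) u
  have hαg : ∀ g, α g = g * dd α g := fun g => by rw [dd_def]; group
  -- the norm
  have hνC : ∀ g, g * α g ∈ fixSub α := by
    intro g
    rw [mem_fixSub, map_mul, H.inv]
    calc α g * g = g * (dd α g * g) := by rw [hαg g]; group
      _ = g * (g * dd α g) := by rw [hddcen]
      _ = g * α g := by rw [← hαg]
  have hνmul : ∀ g k : T, (g * k) * α (g * k) = cm k g * (g * α g) * (k * α k) := by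
    intro g k
    have h1 := swap k g
    rw [map_mul]
    calc g * k * (α g * α k) = g * k * (g * dd α g * α k) := by rw [hαg g]
      _ = g * (k * g) * (dd α g * α k) := by group
      _ = g * (cm k g * g * k) * (α k * dd α g) := by rw [h1, hddcen]
      _ = (g * cm k g) * g * (k * α k) * dd α g := by group
      _ = (cm k g * g) * g * (k * α k) * dd α g := by rw [S.cmc]
      _ = cm k g * g * g * (dd α g * (k * α k)) := by rw [hddcen]; group
      _ = cm k g * (g * (g * dd α g)) * (k * α k) := by group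
      _ = cm k g * (g * α g) * (k * α k) := by rw [← hαg]
  have hνker : ∀ y, Φ y = 1 → y * α y = 1 := by
    intro y hy
    obtain ⟨h, c, hc, rfl⟩ := hker y hy
    rw [map_mul, map_mul, (mem_fixSub α c).mp hc]
    have h1 := S.c_comm hc
    have h2 := S.c_comm (hνC h)
    calc h * h * c * (α h * α h * c) = h * h * (c * (α h * α h)) * c := by group
      _ = h * h * ((α h * α h) * c) * c := by rw [← h1 (α h * α h)]
      _ = h * (h * α h) * α h * (c * c) := by group
      _ = (h * α h) * h * α h * (c * c) := by rw [h2]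
      _ = (h * α h) * (h * α h) * (c * c) := by group
      _ = 1 := by rw [H.C_sq (hνC h), H.C_sq hc, one_mul]
  have hνmulker : ∀ g y, Φ y = 1 → (g * y) * α (g * y) = g * α g := by
    intro g y hy
    rw [hνmul, hνker y hy, mul_one]
    have : cm y g = 1 := by
      rw [cm_eq_one_iff]
      exact hkcen y hy g
    rw [this, one_mul]
  -- every element commutes with its images
  have hkey : ∀ (i : ℕ) (g : T), cm ((ρ ^ i) g) g = 1 := by
    intro i g
    by_cases hi : (q - 1) ∣ i
    · obtain ⟨j, rfl⟩ := hi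
      rw [pow_mul_apply_fixed ρ (q - 1) j g H.per, cm_self]
    · obtain ⟨m, hm⟩ := H.rel_C i hi
      set y := ((ρ ^ m) g)⁻¹ * (g * (ρ ^ i) g) with hy
      have hyk : Φ y = 1 := by
        rw [hy, map_mul, map_inv, map_mul, hΦρ, hΦρ, ← hm _ (hΦC' g)]
        group
      have h1 : g * (ρ ^ i) g = (ρ ^ m) g * y := by rw [hy]; group
      have h2 := hνmul g ((ρ ^ i) g)
      have e1 : (g * (ρ ^ i) g) * α (g * (ρ ^ i) g) = (ρ ^ m) (g * α g) := by
        rw [h1, hνmulker _ _ hyk, map_mul, H.comm_pow]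
      have e2 : (ρ ^ i) g * α ((ρ ^ i) g) = (ρ ^ i) (g * α g) := by
        rw [map_mul, H.comm_pow]
      rw [e1, e2, ← hm _ (hνC g), mul_assoc (cm ((ρ ^ i) g) g)] at h2
      exact right_eq_mul.mp h2
  intro x y
  by_cases hx : Φ x = 1
  · exact hkcen x hx y
  by_cases hy : Φ y = 1
  · exact (hkcen y hy x).symm
  obtain ⟨i, hi⟩ := H.trans (hΦC' x) hx (hΦC' y) hy
  set w := ((ρ ^ i) x)⁻¹ * y with hw
  have hwk : Φ w = 1 := by
    rw [hw, map_mul, map_inv, hΦρ, hi, inv_mul_cancel]
  have hyw : y = (ρ ^ i) x * w := by rw [hw]; group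
  have h1 : cm y x = 1 := by
    rw [hyw, S.cm_mul_left, hkey]
    rw [one_mul, cm_eq_one_iff]
    exact hkcen w hwk x
  exact ((cm_eq_one_iff _ _).mp h1).symm

end Hyp

end Cfsg.Agent.Lib.H2.QN
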