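import Mathlib
import Cfsg.Agent.Lib.H2.QND

set_option autoImplicit false
set_option linter.unusedSectionVars false
set_option linter.style.haveILetI false
set_option linter.unnecessarySimpa false

/-!
# The case where the quotient is elementary abelian of order `q²`
-/

namespace Cfsg.Agent.Lib.H2.QN

open Subgroup Cfsg.Agent.Lib.H2.L34 Cfsg.Agent.Lib.H2.RT

variable {T : Type*} [Group T]

/-- the structure of the nonabelian groups -/
structure Struct (q : ℕ) (α ρ : MulAut T) : Prop where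
  hyp : Hyp q α ρ
  card : Nat.card T = q * q * q
  comm : ∀ g k : T, cm g k ∈ fixSub α
  sq : ∀ g : T, g * g ∈ fixSub α
  center : ∀ g : T, (∀ k, cm g k = 1) → g ∈ fixSub α
  Dsq : ∀ x : T, dd α x ∈ fixSub α → x ∉ fixSub α → x * x ≠ 1
  P4 : ∀ g x : T, dd α g ∉ fixSub α → dd α x ∈ fixSub α → cm g x = 1 → x ∈ fixSub α
  cm_rho : ∀ g k : T, cm (ρ g) k = (ρ ^ (q / 2)) (cm g k)
  cm_self : ∀ (i : ℕ) (g : T), cm g ((ρ ^ i) g) = 1
  cm_pol : ∀ (j : ℕ) (g h : T), cm g ((ρ ^ j) h) = cm ((ρ ^ j) g) h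
  cm_rho_pow : ∀ (j : ℕ) (g k : T), cm ((ρ ^ (j + j)) g) k = (ρ ^ j) (cm g k)

theorem comm2_identity {G : Type*} [Group G] (hc : ∀ x y : G, x * y = y * x)
    (h2 : ∀ x : G, x * x = 1) (g a b a' c' b' : G) :
    g * a * b * (a * a' * c') * (b * c' * b') = g * a' * b' := by
  letI : CommGroup G := { ‹Group G› with mul_comm := hc }
  have : g * a * b * (a * a' * c') * (b * c' * b') =
      g * a' * b' * ((a * a) * (b * b) * (c' * c')) := by
    ac_rfl
  rw [this, h2 a, h2 b, h2 c']; simp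

theorem dd_mul' (α : MulAut T) {x : T} (h : ∀ u, dd α x * u = u * dd α x) (y : T) :
    dd α (x * y) = dd α x * dd α y := by
  simp only [dd_def] at h ⊢
  rw [map_mul]
  calc (x * y)⁻¹ * (α x * α y) = y⁻¹ * ((x⁻¹ * α x) * α y) := by group
    _ = y⁻¹ * (α y * (x⁻¹ * α x)) := by rw [h]
    _ = (y⁻¹ * α y) * (x⁻¹ * α x) := by group
    _ = x⁻¹ * α x * (y⁻¹ * α y) := (h _).symm

theorem dd_mul_gen (α : MulAut T) (g k : T) :
    dd α (g * k) = cm k⁻¹ (dd α g) * dd α g * dd α k := by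
  simp only [dd_def, cm_def, map_mul]; group

/-- the hypotheses of the elementary abelian case -/
structure EH (q : ℕ) (α ρ : MulAut T) : Prop where
  hyp : Hyp q α ρ
  comm : ∀ g k : T, cm g k ∈ fixSub α
  sq : ∀ g : T, g * g ∈ fixSub α
  card : Nat.card T = q * q * q

/-- the triple product `g ρ^i(g) ρ^m(g)` -/
def N3 (ρ : MulAut T) (i m : ℕ) (g : T) : T := g * (ρ ^ i) g * (ρ ^ m) g

theorem N3_def (ρ : MulAut T) (i m : ℕ) (g : T) : N3 ρ i m g = g * (ρ ^ i) g * (ρ ^ m) g := rfl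

namespace EH

variable {q : ℕ} {α ρ : MulAut T} [Finite T]

theorem cc (E : EH q α ρ) : CC (fixSub α) := E.hyp.cc E.comm

theorem qpos (E : EH q α ρ) : 0 < q := by have := E.hyp.hq; omega

theorem hne (E : EH q α ρ) : ∃ y, y ∉ fixSub α := by
  by_contra h
  push Not at h
  have h1 : fixSub α = ⊤ := (Subgroup.eq_top_iff' _).mpr h
  have h2 := E.hyp.card
  rw [h1, Nat.card_congr (Subgroup.topEquiv (G := T)).toEquiv, E.card] at h2
  have hq := E.hyp.hq
  have : q * q * q ≥ 4 * 4 * q := by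
    apply Nat.mul_le_mul_right
    exact Nat.mul_le_mul hq hq
  omega

theorem card_quot (E : EH q α ρ) [(fixSub α).Normal] : Nat.card (T ⧸ fixSub α) = q * q := by
  have h := E.hyp.card_quot
  rw [E.card] at h
  exact (Nat.eq_of_mul_eq_mul_right E.qpos h).symm

theorem qcomm (E : EH q α ρ) [(fixSub α).Normal] (v w : T ⧸ fixSub α) : v * w = w * v := by
  induction v using QuotientGroup.induction_on with
  | H g =>
    induction w using QuotientGroup.induction_on with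
    | H k =>
      rw [← QuotientGroup.mk_mul, ← QuotientGroup.mk_mul, QuotientGroup.eq]
      have := E.comm k⁻¹ g⁻¹
      rw [cm_def] at this
      simpa [mul_assoc] using this

theorem qsq (E : EH q α ρ) [(fixSub α).Normal] (v : T ⧸ fixSub α) : v * v = 1 := by
  induction v using QuotientGroup.induction_on with
  | H g =>
    rw [← QuotientGroup.mk_mul, QuotientGroup.eq_one_iff]
    exact E.sq g

theorem dd_mem_XX (E : EH q α ρ) [(fixSub α).Normal] (g : T) : dd α g ∈ E.hyp.XX := by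
  rw [Hyp.mem_XX, dd_def (x := dd α g), E.hyp.alpha_dd]
  have := inv_mem (E.sq (dd α g))
  rwa [mul_inv_rev] at this

theorem pow_mem_XX (E : EH q α ρ) [(fixSub α).Normal] {x : T} (hx : x ∈ E.hyp.XX) (k : ℕ) :
    (ρ ^ k) x ∈ E.hyp.XX := by
  rw [Hyp.mem_XX] at hx ⊢
  rw [E.hyp.dd_pow]
  exact E.hyp.rho_mem hx k

/-- every element of `D` is a twisted difference up to `C` -/
theorem exists_dd (E : EH q α ρ) [(fixSub α).Normal] {x : T} (hx : x ∈ E.hyp.XX) :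
    ∃ g : T, ∃ c ∈ fixSub α, x = dd α g * c := by
  have H := E.hyp
  let δ : (T ⧸ fixSub α) →* (T ⧸ fixSub α) := MonoidHom.mk' (fun v => v⁻¹ * H.qα v) (by
    intro v w
    rw [map_mul, mul_inv_rev]
    calc w⁻¹ * v⁻¹ * (H.qα v * H.qα w) = w⁻¹ * ((v⁻¹ * H.qα v) * H.qα w) := by group
      _ = w⁻¹ * (H.qα w * (v⁻¹ * H.qα v)) := by rw [E.qcomm _ (H.qα w)]
      _ = (w⁻¹ * H.qα w) * (v⁻¹ * H.qα v) := by group
      _ = v⁻¹ * H.qα v * (w⁻¹ * H.qα w) := E.qcomm _ _)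
  have hδ : ∀ v, δ v = v⁻¹ * H.qα v := fun v => rfl
  have hker : δ.ker = fixSub H.qα := by
    ext v
    rw [MonoidHom.mem_ker, hδ, mem_fixSub, inv_mul_eq_one, eq_comm]
  have hrange : δ.range ≤ fixSub H.qα := by
    rintro _ ⟨v, rfl⟩
    rw [mem_fixSub, hδ, map_mul, map_inv, H.qα_inv]
    have hi : ∀ w : T ⧸ fixSub α, w⁻¹ = w := fun w => inv_eq_of_mul_eq_one_left (E.qsq w)
    rw [hi, hi, E.qcomm]
  have h1 := Subgroup.card_mul_index δ.ker
  rw [Subgroup.index_ker, hker, H.card_fix_quot E.hne, E.card_quot] at h1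
  have h2 : Nat.card δ.range = q := Nat.eq_of_mul_eq_mul_left E.qpos h1
  have h3 : δ.range = fixSub H.qα := by
    apply Subgroup.eq_of_le_of_card_ge hrange
    rw [h2, H.card_fix_quot E.hne]
  have h4 : (QuotientGroup.mk x : T ⧸ fixSub α) ∈ δ.range := by
    rw [h3, H.mk_mem_fix, ← H.mem_XX]
    exact hx
  obtain ⟨v, hv⟩ := h4
  induction v using QuotientGroup.induction_on with
  | H g =>
    rw [hδ, Hyp.qα_mk, ← QuotientGroup.mk_inv, ← QuotientGroup.mk_mul, QuotientGroup.eq] at hv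
    exact ⟨g, (g⁻¹ * α g)⁻¹ * x, hv, by rw [dd_def]; group⟩

theorem alpha_XX (E : EH q α ρ) [(fixSub α).Normal] {x : T} (hx : x ∈ E.hyp.XX) : α x = x⁻¹ := by
  obtain ⟨g, c, hc, rfl⟩ := E.exists_dd hx
  have S := E.cc
  rw [map_mul, E.hyp.alpha_dd, (mem_fixSub α c).mp hc, mul_inv_rev, S.c_inv hc,
    S.c_comm hc]

theorem XX_comm (E : EH q α ρ) [(fixSub α).Normal] {x y : T} (hx : x ∈ E.hyp.XX)
    (hy : y ∈ E.hyp.XX) : x * y = y * x := by
  have h1 := E.alpha_XX (mul_mem hx hy)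
  rw [map_mul, E.alpha_XX hx, E.alpha_XX hy, mul_inv_rev] at h1
  have h2 : (x * y)⁻¹ = (y * x)⁻¹ := by rw [mul_inv_rev, mul_inv_rev]; exact h1.symm
  exact inv_injective h2

theorem XX_sq (E : EH q α ρ) [(fixSub α).Normal] {x : T} (hx : x ∈ E.hyp.XX) :
    x * x = dd α x := by
  rw [dd_def, E.alpha_XX hx, CC.sq_inv, E.cc.c_inv (E.sq x)]

theorem XX_sq_ne (E : EH q α ρ) [(fixSub α).Normal] {x : T} (hx : x ∈ E.hyp.XX)
    (hxC : x ∉ fixSub α) : x * x ≠ 1 := by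
  rw [E.XX_sq hx, Ne, Hyp.dd_eq_one_iff']
  exact hxC

theorem exists_XX_not_C (E : EH q α ρ) [(fixSub α).Normal] :
    ∃ x ∈ E.hyp.XX, x ∉ fixSub α := by
  by_contra h
  push Not at h
  have h1 : E.hyp.XX ≤ fixSub α := h
  have h2 := Subgroup.card_le_of_le h1
  rw [E.hyp.card_XX E.hne, E.hyp.card] at h2
  have hq := E.hyp.hq
  have : 4 * q ≤ q * q := Nat.mul_le_mul_right _ hq
  omega

/-! ### transport of the relations -/

theorem N3_C (E : EH q α ρ) {i m : ℕ} (hm : ∀ c ∈ fixSub α, c * (ρ ^ i) c = (ρ ^ m) c) {c : T}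
    (hc : c ∈ fixSub α) : N3 ρ i m c = 1 := by
  rw [N3_def, hm c hc]
  exact E.hyp.C_sq (E.hyp.rho_mem hc m)

theorem N3_XX (E : EH q α ρ) [(fixSub α).Normal] {i m : ℕ}
    (hm : ∀ c ∈ fixSub α, c * (ρ ^ i) c = (ρ ^ m) c) {x : T}
    (hx : x ∈ E.hyp.XX) : N3 ρ i m x ∈ fixSub α := by
  have H := E.hyp
  have h1 : x * (ρ ^ i) x ∈ H.XX := mul_mem hx (E.pow_mem_XX hx i)
  rw [← Hyp.dd_eq_one_iff', N3_def, H.dd_mul ((H.mem_XX _).mp h1), H.dd_mul ((H.mem_XX _).mp hx),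
    H.dd_pow, H.dd_pow]
  exact E.N3_C hm ((H.mem_XX _).mp hx)

theorem N3_T (E : EH q α ρ) [(fixSub α).Normal] {i m : ℕ}
    (hm : ∀ c ∈ fixSub α, c * (ρ ^ i) c = (ρ ^ m) c) (g : T) : N3 ρ i m g ∈ E.hyp.XX := by
  have H := E.hyp
  have S := E.cc
  have h1 := E.N3_XX hm (E.dd_mem_XX g)
  rw [N3_def] at h1
  rw [Hyp.mem_XX, N3_def, dd_mul_gen, H.dd_pow]
  generalize hA : cm ((ρ ^ m) g)⁻¹ (dd α (g * (ρ ^ i) g)) = A
  have hAC : A ∈ fixSub α := by rw [← hA]; exact S.comm _ _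
  rw [dd_mul_gen, H.dd_pow]
  generalize hB : cm ((ρ ^ i) g)⁻¹ (dd α g) = B
  have hBC : B ∈ fixSub α := by rw [← hB]; exact S.comm _ _
  have e : A * (B * dd α g * (ρ ^ i) (dd α g)) * (ρ ^ m) (dd α g) =
      A * B * (dd α g * (ρ ^ i) (dd α g) * (ρ ^ m) (dd α g)) := by group
  rw [e]
  exact mul_mem (mul_mem hAC hBC) h1

theorem rel_T (E : EH q α ρ) [(fixSub α).Normal] {i m : ℕ}
    (hm : ∀ c ∈ fixSub α, c * (ρ ^ i) c = (ρ ^ m) c) (g : T) :
    g * (ρ ^ (i + i)) g * (ρ ^ (m + m)) g ∈ fixSub α := by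
  have h1 := E.N3_XX hm (E.N3_T hm g)
  rw [← QuotientGroup.eq_one_iff] at h1 ⊢
  rw [← h1, N3_def, N3_def]
  simp only [map_mul, QuotientGroup.mk_mul]
  rw [← pow_add_apply, ← pow_add_apply, ← pow_add_apply, ← pow_add_apply, Nat.add_comm m i]
  exact (comm2_identity E.qcomm E.qsq _ _ _ _ _ _).symm

theorem rel_C2 (E : EH q α ρ) {i m : ℕ} (hm : ∀ c ∈ fixSub α, c * (ρ ^ i) c = (ρ ^ m) c) :
    ∀ c ∈ fixSub α, c * (ρ ^ (i + i)) c = (ρ ^ (m + m)) c := by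
  intro c hc
  have H := E.hyp
  have h1 := hm c hc
  have h2 := hm _ (H.rho_mem hc i)
  have h3 := hm _ (H.rho_mem hc m)
  rw [pow_add_apply, pow_add_apply, ← h3, ← h1, map_mul]
  have hci := H.rho_mem hc i
  have e := H.C_sq hci
  calc c * (ρ ^ i) ((ρ ^ i) c) = c * ((ρ ^ i) c * (ρ ^ i) c) * (ρ ^ i) ((ρ ^ i) c) := by
        rw [e, mul_one]
    _ = c * (ρ ^ i) c * ((ρ ^ i) c * (ρ ^ i) ((ρ ^ i) c)) := by group

theorem cm_self_aux (E : EH q α ρ) [(fixSub α).Normal] {i : ℕ} (hi : ¬ (q - 1) ∣ i) (g : T) :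
    cm g ((ρ ^ (i + i)) g) = 1 := by
  have H := E.hyp
  have S := E.cc
  obtain ⟨m, hm⟩ := H.rel_C i hi
  have hy := E.rel_T hm g
  set y := g * (ρ ^ (i + i)) g * (ρ ^ (m + m)) g with hydef
  have h1 : g * (ρ ^ (i + i)) g = ((ρ ^ (m + m)) g)⁻¹ * y := by
    rw [S.c_comm hy]
    rw [hydef]; group
  have h2 := S.sq_mul g ((ρ ^ (i + i)) g)
  rw [h1, S.sq_mul_c _ hy, CC.sq_inv, ← map_mul, ← map_mul, S.c_inv (H.rho_mem (E.sq g) _),
    ← E.rel_C2 hm _ (E.sq g), mul_assoc (cm g ((ρ ^ (i + i)) g))] at h2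
  exact right_eq_mul.mp h2

theorem cm_self (E : EH q α ρ) [(fixSub α).Normal] (j : ℕ) (g : T) :
    cm g ((ρ ^ j) g) = 1 := by
  have H := E.hyp
  by_cases hj : (q - 1) ∣ j
  · obtain ⟨k, rfl⟩ := hj
    rw [pow_mul_apply_fixed ρ (q - 1) k g H.per, Cfsg.Agent.Lib.H2.L34.cm_self]
  · obtain ⟨t, ht⟩ := H.two_dvd_q
    have hq := H.hq
    set i := j * t with hi
    have h1 : i + i ≡ j [MOD (q - 1)] := by
      have e : i + i = j * (q - 1) + j := by
        rw [hi]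
        have : q = (q - 1) + 1 := by omega
        calc j * t + j * t = j * (2 * t) := by ring
          _ = j * q := by rw [← ht]
          _ = j * ((q - 1) + 1) := by rw [← this]
          _ = j * (q - 1) + j := by ring
      rw [e]
      have : j * (q - 1) + j ≡ 0 + j [MOD (q - 1)] :=
        Nat.ModEq.add_right _ ((Nat.modEq_zero_iff_dvd).mpr (Dvd.intro_left _ rfl))
      simpa using this
    have h2 : ¬ (q - 1) ∣ i := by
      intro hd
      apply hj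
      have h3 : (q - 1) ∣ i + i := Dvd.dvd.add hd hd
      exact (Nat.modEq_zero_iff_dvd).mp (h1.symm.trans ((Nat.modEq_zero_iff_dvd).mpr h3))
    rw [← H.pow_eq_of_modEq h1 g]
    exact E.cm_self_aux h2 g

theorem cm_pol (E : EH q α ρ) [(fixSub α).Normal] (j : ℕ) (g h : T) :
    cm g ((ρ ^ j) h) = cm ((ρ ^ j) g) h := by
  have S := E.cc
  have h1 := E.cm_self j (g * h)
  rw [map_mul, S.cm_mul_left, S.cm_mul_right, S.cm_mul_right, E.cm_self, E.cm_self, one_mul,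
    mul_one] at h1
  have h2 : cm g ((ρ ^ j) h) = (cm h ((ρ ^ j) g))⁻¹ := eq_inv_of_mul_eq_one_left h1
  rw [h2, S.cm_inv, S.cm_symm]

theorem cm_rho_pow (E : EH q α ρ) [(fixSub α).Normal] (j : ℕ) (g k : T) :
    cm ((ρ ^ (j + j)) g) k = (ρ ^ j) (cm g k) := by
  rw [pow_add_apply, CC.aut_cm, E.cm_pol j ((ρ ^ j) g) k]

theorem cm_rho (E : EH q α ρ) [(fixSub α).Normal] (g k : T) :
    cm (ρ g) k = (ρ ^ (q / 2)) (cm g k) := by
  have H := E.hyp
  rw [← E.cm_rho_pow]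
  obtain ⟨t, ht⟩ := H.two_dvd_q
  have hq := H.hq
  have h1 : q / 2 = t := by omega
  have h2 : q / 2 + q / 2 ≡ 1 [MOD (q - 1)] := by
    have e : q / 2 + q / 2 = (q - 1) + 1 := by omega
    rw [e]
    have : (q - 1) + 1 ≡ 0 + 1 [MOD (q - 1)] :=
      Nat.ModEq.add_right _ ((Nat.modEq_zero_iff_dvd).mpr (dvd_refl _))
    simpa using this
  rw [H.pow_eq_of_modEq h2, pow_one_apply]

theorem cm_rho_pow_eq_one (E : EH q α ρ) [(fixSub α).Normal] (j : ℕ) {g x : T}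
    (h : cm g x = 1) : cm ((ρ ^ j) g) x = 1 := by
  induction j with
  | zero => rwa [pow_zero_apply]
  | succ j ih => rw [pow_succ_apply, E.cm_rho, ih, map_one]

/-- transitivity modulo `D` -/
theorem trans_mod (E : EH q α ρ) [(fixSub α).Normal] {g h : T} (hg : g ∉ E.hyp.XX)
    (hh : h ∉ E.hyp.XX) : ∃ j : ℕ, ∃ w ∈ E.hyp.XX, h = (ρ ^ j) g * w := by
  have H := E.hyp
  have S := E.cc
  have HQ := H.quot E.hne
  rw [Hyp.mem_XX] at hg hh
  have h1 : (QuotientGroup.mk (dd α g) : T ⧸ fixSub α) ∈ fixSub H.qα := by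
    rw [H.mk_mem_fix, ← H.mem_XX]; exact E.dd_mem_XX g
  have h2 : (QuotientGroup.mk (dd α h) : T ⧸ fixSub α) ∈ fixSub H.qα := by
    rw [H.mk_mem_fix, ← H.mem_XX]; exact E.dd_mem_XX h
  have h1' : (QuotientGroup.mk (dd α g) : T ⧸ fixSub α) ≠ 1 := by
    rw [Ne, H.mk_eq_one_iff]; exact hg
  have h2' : (QuotientGroup.mk (dd α h) : T ⧸ fixSub α) ≠ 1 := by
    rw [Ne, H.mk_eq_one_iff]; exact hh
  obtain ⟨j, hj⟩ := HQ.trans h1 h1' h2 h2'
  rw [Hyp.qρ_pow_mk, QuotientGroup.eq, ← H.dd_pow] at hj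
  refine ⟨j, ((ρ ^ j) g)⁻¹ * h, ?_, by group⟩
  rw [Hyp.mem_XX]
  set g' := (ρ ^ j) g with hg'
  have e : h = g' * (g'⁻¹ * h) := by group
  have h3 := dd_mul_gen α g' (g'⁻¹ * h)
  rw [← e] at h3
  -- dd h = c * dd g' * dd w
  have h4 : dd α (g'⁻¹ * h) = (dd α g')⁻¹ * ((cm (g'⁻¹ * h)⁻¹ (dd α g'))⁻¹ * dd α h) := by
    rw [h3]; group
  rw [h4, S.cm_inv, ← S.cmc, ← mul_assoc]
  exact mul_mem hj (S.comm _ _)

theorem center (E : EH q α ρ) [(fixSub α).Normal] {g : T} (hg : ∀ k, cm g k = 1) :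
    g ∈ fixSub α := by
  have H := E.hyp
  have S := E.cc
  have HQ := H.quot E.hne
  by_contra hgC
  have hcen : ∀ {x : T}, x ∈ Subgroup.center T ↔ ∀ k, cm x k = 1 := by
    intro x
    rw [Subgroup.mem_center_iff]
    constructor
    · intro h k; rw [cm_eq_one_iff]; exact (h k).symm
    · intro h k; exact ((cm_eq_one_iff _ _).mp (h k)).symm
  -- the image of the centre
  set Zb : Subgroup (T ⧸ fixSub α) := (Subgroup.center T).map (QuotientGroup.mk' (fixSub α))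
    with hZb
  have hZbinv : ∀ v, v ∈ Zb ↔ H.qα v ∈ Zb := by
    intro v
    constructor
    · rintro ⟨x, hx, rfl⟩
      exact ⟨α x, (Hyp.aut_center α x).mp hx, rfl⟩
    · intro hv
      obtain ⟨x, hx, hxv⟩ := hv
      refine ⟨α x, (Hyp.aut_center α x).mp hx, ?_⟩
      rw [QuotientGroup.mk'_apply, ← H.qα_mk, ← QuotientGroup.mk'_apply, hxv, H.qα_inv]
  have hZbne : Zb ≠ ⊥ := by
    intro h
    have : (QuotientGroup.mk g : T ⧸ fixSub α) ∈ Zb := ⟨g, hcen.mpr hg, rfl⟩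
    rw [h, Subgroup.mem_bot, H.mk_eq_one_iff] at this
    exact hgC this
  obtain ⟨v, hvZ, hv1, hvfix⟩ := exists_fixed_ne_one HQ.pg H.qα H.qα_inv Zb hZbinv hZbne
  obtain ⟨x, hxZ, rfl⟩ := hvZ
  rw [QuotientGroup.mk'_apply] at hv1 hvfix
  have hxC : x ∉ fixSub α := by rwa [Ne, H.mk_eq_one_iff] at hv1
  have hxX : x ∈ H.XX := by rw [Hyp.mem_XX, ← H.mk_mem_fix]; exact hvfix
  -- `D` is central
  have hDZ : ∀ y ∈ H.XX, y ∈ Subgroup.center T := by
    intro y hy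
    by_cases hyC : y ∈ fixSub α
    · exact H.C_le_center hyC
    · have h1 : (QuotientGroup.mk y : T ⧸ fixSub α) ∈ fixSub H.qα := by
        rw [H.mk_mem_fix, ← H.mem_XX]; exact hy
      have h1' : (QuotientGroup.mk y : T ⧸ fixSub α) ≠ 1 := by
        rw [Ne, H.mk_eq_one_iff]; exact hyC
      obtain ⟨j, hj⟩ := HQ.trans hvfix hv1 h1 h1'
      rw [Hyp.qρ_pow_mk, QuotientGroup.eq] at hj
      have e : y = (ρ ^ j) x * (((ρ ^ j) x)⁻¹ * y) := by group
      rw [e]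
      exact mul_mem (Hyp.pow_center ρ j hxZ) (H.C_le_center hj)
  obtain ⟨k, c, hc, hxe⟩ := E.exists_dd hxX
  have h1 : ∀ u, dd α k * u = u * dd α k := by
    intro u
    exact (Subgroup.mem_center_iff.mp (hDZ _ (E.dd_mem_XX k)) u).symm
  have h2 := dd_mul' α h1 k
  rw [(Hyp.dd_eq_one_iff' α _).mpr (E.sq k)] at h2
  apply E.XX_sq_ne hxX hxC
  rw [hxe, S.sq_mul_c _ hc, ← h2]

theorem P4 (E : EH q α ρ) [(fixSub α).Normal] {g x : T} (hg : dd α g ∉ fixSub α)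
    (hx : dd α x ∈ fixSub α) (h : cm g x = 1) : x ∈ fixSub α := by
  have H := E.hyp
  have S := E.cc
  rw [← H.mem_XX] at hg hx
  apply E.center
  intro k
  by_cases hk : k ∈ H.XX
  · rw [cm_eq_one_iff]; exact E.XX_comm hx hk
  · obtain ⟨j, w, hw, rfl⟩ := E.trans_mod hg hk
    rw [S.cm_mul_right, S.cm_symm, E.cm_rho_pow_eq_one j h, one_mul, cm_eq_one_iff]
    exact E.XX_comm hx hw

/-- the structure theorem in the elementary abelian case -/
theorem struct (E : EH q α ρ) : Struct q α ρ := by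
  haveI := E.hyp.C_normal
  exact
  { hyp := E.hyp
    card := E.card
    comm := E.comm
    sq := E.sq
    center := fun g hg => E.center hg
    Dsq := fun x hx hxC => E.XX_sq_ne ((E.hyp.mem_XX _).mpr hx) hxC
    P4 := fun g x hg hx h => E.P4 hg hx h
    cm_rho := E.cm_rho
    cm_self := fun i g => E.cm_self i g
    cm_pol := fun j g h => E.cm_pol j g h
    cm_rho_pow := fun j g k => E.cm_rho_pow j g k }

end EH

end Cfsg.Agent.Lib.H2.QN
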