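import Mathlib
import Cfsg.Agent.Lib.H2.QNE

set_option autoImplicit false
set_option linter.unusedSectionVars false
set_option linter.style.haveILetI false
set_option linter.unnecessarySimpa false

/-!
# The quotient is never of the nonabelian type; the main induction
-/

namespace Cfsg.Agent.Lib.H2.QN

open Subgroup Cfsg.Agent.Lib.H2.L34 Cfsg.Agent.Lib.H2.RT

universe u

variable {T : Type u} [Group T]

theorem map_cm' {Q : Type*} [Group Q] (f : T →* Q) (g k : T) : f (cm g k) = cm (f g) (f k) := by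
  simp only [cm_def, map_mul, map_inv]

theorem mk_cm (N : Subgroup T) [N.Normal] (g k : T) :
    (QuotientGroup.mk (cm g k) : T ⧸ N) = cm (QuotientGroup.mk g) (QuotientGroup.mk k) :=
  map_cm' (QuotientGroup.mk' N) g k

namespace Hyp

variable {q : ℕ} {α ρ : MulAut T} [Finite T]

theorem XX_alpha_iff (H : Hyp q α ρ) [(fixSub α).Normal] (x : T) : x ∈ H.XX ↔ α x ∈ H.XX := by
  rw [H.mem_XX, H.mem_XX, H.dd_alpha]
  exact (inv_mem_iff (H := fixSub α)).symm

theorem XX_rho_iff (H : Hyp q α ρ) [(fixSub α).Normal] (x : T) : x ∈ H.XX ↔ ρ x ∈ H.XX := by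
  rw [H.mem_XX, H.mem_XX, dd_aut α ρ H.comm]
  exact H.rho_mem_iff _

theorem pow_mem_XX (H : Hyp q α ρ) [(fixSub α).Normal] {x : T} (hx : x ∈ H.XX) (k : ℕ) :
    (ρ ^ k) x ∈ H.XX := by
  rw [Hyp.mem_XX] at hx ⊢
  rw [H.dd_pow]
  exact H.rho_mem hx k

theorem mem_XX_iff_mk (H : Hyp q α ρ) [(fixSub α).Normal] (x : T) :
    x ∈ H.XX ↔ (QuotientGroup.mk x : T ⧸ fixSub α) ∈ fixSub H.qα := by
  rw [H.mem_XX, H.mk_mem_fix]

theorem exists_XX_not_C (H : Hyp q α ρ) [(fixSub α).Normal] (hne : ∃ y, y ∉ fixSub α) :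
    ∃ x ∈ H.XX, x ∉ fixSub α := by
  by_contra h
  push Not at h
  have h1 : H.XX ≤ fixSub α := h
  have h2 := Subgroup.card_le_of_le h1
  rw [H.card_XX hne, H.card] at h2
  have hq := H.hq
  have : 4 * q ≤ q * q := Nat.mul_le_mul_right _ hq
  omega

end Hyp

theorem Struct.hne {q : ℕ} {α ρ : MulAut T} [Finite T] (S : Struct q α ρ) :
    ∃ y, y ∉ fixSub α := by
  by_contra h
  push Not at h
  have h1 : fixSub α = ⊤ := (Subgroup.eq_top_iff' _).mpr h
  have h2 := S.hyp.card
  rw [h1, Nat.card_congr (Subgroup.topEquiv (G := T)).toEquiv, S.card] at h2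
  have hq := S.hyp.hq
  have : q * q * q ≥ 4 * 4 * q := by
    apply Nat.mul_le_mul_right
    exact Nat.mul_le_mul hq hq
  omega

/-- the quotient by the fixed points is never of the nonabelian type -/
theorem no_struct_quot [Finite T] {q : ℕ} {α ρ : MulAut T} (H : Hyp q α ρ)
    [(fixSub α).Normal]
    (IH : ∀ (K : Subgroup T) (hKα : ∀ y, y ∈ K ↔ α y ∈ K) (hKρ : ∀ y, y ∈ K ↔ ρ y ∈ K),
      fixSub α ≤ K → Nat.card K < Nat.card T →
        (∀ x y : K, x * y = y * x) ∨ Struct q (resA α K hKα) (resA ρ K hKρ))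
    (SQ : Struct q H.qα H.qρ) : False := by
  classical
  have HQ := SQ.hyp
  haveI := HQ.C_normal
  have SC := HQ.cc SQ.comm
  have hq := H.hq
  have hqpos : 0 < q := by omega
  set Db := HQ.XX with hDb
  set D1 : Subgroup T := Db.comap (QuotientGroup.mk' (fixSub α)) with hD1
  have hmemD1 : ∀ x, x ∈ D1 ↔ (QuotientGroup.mk x : T ⧸ fixSub α) ∈ Db := fun x => Iff.rfl
  have hD1α : ∀ y, y ∈ D1 ↔ α y ∈ D1 := by
    intro y
    rw [hmemD1, hmemD1, ← H.qα_mk]
    exact HQ.XX_alpha_iff _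
  have hD1ρ : ∀ y, y ∈ D1 ↔ ρ y ∈ D1 := by
    intro y
    rw [hmemD1, hmemD1, ← H.qρ_mk]
    exact HQ.XX_rho_iff _
  have hCD1 : fixSub α ≤ D1 := by
    intro c hc
    rw [hmemD1, (H.mk_eq_one_iff c).mpr hc]
    exact one_mem _
  have hcardD1 : Nat.card D1 = q * q * q := by
    rw [hD1, card_comap_mk, HQ.card_XX SQ.hne, H.card]
  have hcardT : Nat.card T = q * q * q * q := by
    rw [H.card_quot, SQ.card]
  have hlt : Nat.card D1 < Nat.card T := by
    rw [hcardD1, hcardT]
    have h3 : 0 < q * q * q := Nat.mul_pos (Nat.mul_pos hqpos hqpos) hqpos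
    calc q * q * q = q * q * q * 1 := (Nat.mul_one _).symm
      _ < q * q * q * q := Nat.mul_lt_mul_of_pos_left (by omega) h3
  -- an element of `D̄` outside `C̄`
  obtain ⟨xb0, hxb0D, hxb0C⟩ := HQ.exists_XX_not_C SQ.hne
  obtain ⟨x0, rfl⟩ := QuotientGroup.mk_surjective xb0
  have hx0D1 : x0 ∈ D1 := (hmemD1 x0).mpr hxb0D
  have hx0sq : x0 * x0 ∉ fixSub α := by
    intro h
    have h1 := SQ.Dsq _ ((HQ.mem_XX _).mp hxb0D) hxb0C
    apply h1
    rw [← QuotientGroup.mk_mul, H.mk_eq_one_iff]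
    exact h
  have HD := H.sub D1 hD1α hD1ρ hCD1
  -- `D1` is abelian with all involutions in `C`
  have hD1 : (∀ x ∈ D1, ∀ y ∈ D1, x * y = y * x) ∧ ∀ y ∈ D1, y * y = 1 → y ∈ fixSub α := by
    rcases IH D1 hD1α hD1ρ hCD1 hlt with hab | hst
    · rcases HD.abelian_cases hab with hR | hE
      · refine ⟨fun x hx y hy => congrArg Subtype.val (hab ⟨x, hx⟩ ⟨y, hy⟩), fun y hy hy2 => ?_⟩
        have h1 := hR ⟨y, hy⟩ (Subtype.ext hy2)
        rw [mem_fixSub] at h1
        have h2 := congrArg Subtype.val h1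
        rwa [resA_coe] at h2
      · exfalso
        apply hx0sq
        have h1 := congrArg Subtype.val (hE.1 ⟨x0, hx0D1⟩)
        change x0 * x0 = 1 at h1
        rw [h1]
        exact one_mem _
    · exfalso
      apply hx0sq
      have h1 := hst.sq ⟨x0, hx0D1⟩
      rw [mem_fixSub] at h1
      have h2 := congrArg Subtype.val h1
      rwa [resA_coe] at h2
  obtain ⟨hD1comm, hΩ⟩ := hD1
  have hC2D1 : H.XX ≤ D1 := by
    intro y hy
    rw [hmemD1]
    exact HQ.C_le_XX ((H.mem_XX_iff_mk y).mp hy)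
  have hsqC2 : ∀ g : T, g * g ∈ H.XX := by
    intro g
    rw [H.mem_XX_iff_mk, QuotientGroup.mk_mul]
    exact SQ.sq _
  have hconj : ∀ g x : T, g * x * g⁻¹ = cm g x * x := by
    intro g x; rw [cm_def]; group
  have hD1norm : ∀ g : T, ∀ x ∈ D1, g * x * g⁻¹ ∈ D1 := by
    intro g x hx
    rw [hconj, hmemD1, QuotientGroup.mk_mul, mk_cm]
    exact mul_mem (HQ.C_le_XX (SQ.comm _ _)) hx
  -- elements outside `D1` invert `C2`
  have hinv : ∀ g : T, g ∉ D1 → ∀ y ∈ H.XX, g * y * g⁻¹ = y⁻¹ := by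
    intro g hg y hy
    by_cases hyC : y ∈ fixSub α
    · rw [H.C_inv hyC, ← H.C_comm hyC, mul_inv_cancel_right]
    have hyb : (QuotientGroup.mk y : T ⧸ fixSub α) ∈ fixSub H.qα := (H.mem_XX_iff_mk y).mp hy
    have hyb1 : (QuotientGroup.mk y : T ⧸ fixSub α) ≠ 1 := by
      rw [Ne, H.mk_eq_one_iff]; exact hyC
    have hgb : dd H.qα (QuotientGroup.mk g : T ⧸ fixSub α) ∉ fixSub H.qα := by
      rw [← HQ.mem_XX]; exact hg
    set cb0 := cm (QuotientGroup.mk g : T ⧸ fixSub α) (QuotientGroup.mk x0) with hcb0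
    have hcb0C : cb0 ∈ fixSub H.qα := SQ.comm _ _
    have hcb01 : cb0 ≠ 1 := by
      intro h
      exact hxb0C (SQ.P4 _ _ hgb ((HQ.mem_XX _).mp hxb0D) h)
    obtain ⟨k, hk⟩ := HQ.trans hcb0C hcb01 hyb hyb1
    set x1 := (ρ ^ (k + k)) x0 with hx1
    have hx1D1 : x1 ∈ D1 := by
      rw [hmemD1, hx1, ← H.qρ_pow_mk]
      exact HQ.pow_mem_XX hxb0D _
    have h1 : (QuotientGroup.mk (cm g x1) : T ⧸ fixSub α) = QuotientGroup.mk y := by
      rw [mk_cm, hx1, ← H.qρ_pow_mk, SC.cm_symm, SQ.cm_rho_pow, SC.cm_symm, ← hk]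
    rw [QuotientGroup.eq] at h1
    set c := (cm g x1)⁻¹ * y with hc
    have hye : y = cm g x1 * c := by rw [hc]; group
    set w := g * x1 * g⁻¹ with hw
    have hwD1 : w ∈ D1 := hD1norm g x1 hx1D1
    have hcmw : cm g x1 = w * x1⁻¹ := by rw [hw, cm_def]
    have hgg : (g * g) * x1 = x1 * (g * g) := hD1comm _ (hC2D1 (hsqC2 g)) _ hx1D1
    have h2 : g * cm g x1 * g⁻¹ = (cm g x1)⁻¹ := by
      rw [hcmw, mul_inv_rev, inv_inv, hw]
      calc g * (g * x1 * g⁻¹ * x1⁻¹) * g⁻¹ = ((g * g) * x1) * (g * g)⁻¹ * (g * x1⁻¹ * g⁻¹) := by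
            group
        _ = (x1 * (g * g)) * (g * g)⁻¹ * (g * x1⁻¹ * g⁻¹) := by rw [hgg]
        _ = x1 * (g * x1 * g⁻¹)⁻¹ := by group
    rw [hye, mul_inv_rev, H.C_inv h1, H.C_comm h1]
    calc g * (cm g x1 * c) * g⁻¹ = (g * cm g x1 * g⁻¹) * (g * c * g⁻¹) := by group
      _ = (cm g x1)⁻¹ * c := by
        rw [h2, ← H.C_comm h1 g, mul_inv_cancel_right]
  -- three elements outside `D1`
  have hidx : D1.index = q := by
    have h1 : D1.index = Db.index :=
      Subgroup.index_comap_of_surjective _ (QuotientGroup.mk'_surjective _)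
    have h2 := Subgroup.card_mul_index Db
    rw [hDb, HQ.card_XX SQ.hne, SQ.card, ← hDb, ← h1, mul_comm] at h2
    have h3 : 0 < q * q := Nat.mul_pos hqpos hqpos
    have h4 : D1.index * (q * q) = q * (q * q) := by rw [h2]; ring
    exact Nat.eq_of_mul_eq_mul_right h3 h4
  have hexg : ∃ g, g ∉ D1 := by
    by_contra h
    push Not at h
    have h1 : D1 = ⊤ := (Subgroup.eq_top_iff' _).mpr h
    rw [h1, Subgroup.index_top] at hidx
    omega
  obtain ⟨g, hg⟩ := hexg
  have hexg' : ∃ g', g' ∉ D1 ∧ g * g' ∉ D1 := by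
    by_contra h
    push Not at h
    have h1 : ∀ v : T ⧸ D1, v = QuotientGroup.mk 1 ∨ v = QuotientGroup.mk g⁻¹ := by
      intro v
      obtain ⟨x, rfl⟩ := QuotientGroup.mk_surjective v
      by_cases hx : x ∈ D1
      · left
        rw [eq_comm, QuotientGroup.eq, inv_one, one_mul]
        exact hx
      · right
        rw [eq_comm, QuotientGroup.eq, inv_inv]
        exact h x hx
    let _ : Fintype (T ⧸ D1) := Fintype.ofFinite _
    have h2 : (Finset.univ : Finset (T ⧸ D1)) ⊆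
        {(QuotientGroup.mk 1 : T ⧸ D1), QuotientGroup.mk g⁻¹} := by
      intro v _
      rw [Finset.mem_insert, Finset.mem_singleton]
      exact h1 v
    have h3 := Finset.card_le_card h2
    have h4 : ({(QuotientGroup.mk 1 : T ⧸ D1), QuotientGroup.mk g⁻¹} : Finset (T ⧸ D1)).card ≤ 2 :=
      Finset.card_le_two
    rw [Finset.card_univ, ← Nat.card_eq_fintype_card, ← Subgroup.index_eq_card, hidx] at h3
    omega
  obtain ⟨g', hg', hgg'⟩ := hexg'
  -- the contradiction
  obtain ⟨y, hyX, hyC⟩ := H.exists_XX_not_C ⟨g, fun h => hg (hCD1 h)⟩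
  apply hyC
  apply hΩ y (hC2D1 hyX)
  have h1 := hinv (g * g') hgg' y hyX
  have h2 : g * g' * y * (g * g')⁻¹ = g * (g' * y * g'⁻¹) * g⁻¹ := by group
  have h3 : y⁻¹ ∈ H.XX := inv_mem hyX
  rw [h2, hinv g' hg' y hyX, hinv g hg _ h3, inv_inv] at h1
  calc y * y = y * y⁻¹ := by rw [← h1]
    _ = 1 := mul_inv_cancel y

/-- the main structure theorem: groups satisfying the hypotheses are abelian or of the
nonabelian type of order `q³` -/
theorem main_aux (n : ℕ) : ∀ (T : Type u) [Group T] [Finite T] (q : ℕ) (α ρ : MulAut T),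
    Nat.card T = n → Hyp q α ρ → (∀ x y : T, x * y = y * x) ∨ Struct q α ρ := by
  induction n using Nat.strong_induction_on with
  | _ n ih =>
    intro T _ _ q α ρ hn H
    by_cases hne : ∃ y, y ∉ fixSub α
    swap
    · left
      push Not at hne
      intro x y
      exact H.C_comm (hne x) y
    haveI := H.C_normal
    have HQ := H.quot hne
    have hq := H.hq
    have hlt : Nat.card (T ⧸ fixSub α) < n := by
      rw [← hn, H.card_quot]
      have h1 : 0 < Nat.card (T ⧸ fixSub α) := Nat.card_pos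
      calc Nat.card (T ⧸ fixSub α) = Nat.card (T ⧸ fixSub α) * 1 := (Nat.mul_one _).symm
        _ < Nat.card (T ⧸ fixSub α) * q := Nat.mul_lt_mul_of_pos_left (by omega) h1
    rcases ih _ hlt (T ⧸ fixSub α) q H.qα H.qρ rfl HQ with hab | hst
    · -- the quotient is abelian
      have hcomm : ∀ g k : T, cm g k ∈ fixSub α := by
        intro g k
        rw [← H.mk_eq_one_iff, mk_cm, cm_eq_one_iff]
        exact hab _ _
      rcases HQ.abelian_cases hab with hR | hE
      · left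
        apply H.abelian_of_R hcomm
        intro g hg
        rw [← H.mk_mem_fix]
        apply hR
        rw [← QuotientGroup.mk_mul, H.mk_eq_one_iff]
        exact hg
      · right
        have E : EH q α ρ :=
          { hyp := H
            comm := hcomm
            sq := by
              intro g
              rw [← H.mk_eq_one_iff, QuotientGroup.mk_mul]
              exact hE.1 _
            card := by rw [H.card_quot, hE.2] }
        exact E.struct
    · exfalso
      refine no_struct_quot H ?_ hst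
      intro K hKα hKρ hCK hKlt
      exact ih _ (by rw [← hn]; exact hKlt) K q _ _ rfl (H.sub K hKα hKρ hCK)

theorem Hyp.main {T : Type u} [Group T] [Finite T] {q : ℕ} {α ρ : MulAut T} (H : Hyp q α ρ) :
    (∀ x y : T, x * y = y * x) ∨ Struct q α ρ :=
  main_aux _ T q α ρ rfl H

end Cfsg.Agent.Lib.H2.QN
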