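import Mathlib
import Cfsg.Agent.Lib.H18.AbstractCoprime

set_option autoImplicit false
set_option linter.unusedSectionVars false
set_option linter.style.haveILetI false

/-!
# Uniqueness of central extensions with the same squaring map (graph trick)
-/

namespace Cfsg.Agent.Lib.H2.QN

open Subgroup

theorem normal_of_le_center {G : Type*} [Group G] {Z : Subgroup G} (h : Z ≤ center G) :
    Z.Normal := by
  constructor
  intro z hz g
  have := Subgroup.mem_center_iff.mp (h hz) g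
  rw [this, mul_inv_cancel_right]
  exact hz

/-- two groups with central subgroups, a map between them which is multiplicative modulo the
centres and compatible with the squaring maps: the groups are isomorphic -/
theorem nonempty_mulEquiv_of_sq {Q1 Q2 : Type*} [Group Q1] [Group Q2] [Finite Q1] [Finite Q2]
    (Z1 : Subgroup Q1) (Z2 : Subgroup Q2) (hZ1c : Z1 ≤ center Q1) (hZ2c : Z2 ≤ center Q2)
    (hZ2sq : ∀ z ∈ Z2, z * z = 1) (f : Q1 → Q2)
    (hf : ∀ x y : Q1, (f x * f y)⁻¹ * f (x * y) ∈ Z2)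
    (hfZ : ∀ x : Q1, f x ∈ Z2 → x ∈ Z1) (hfZ' : ∀ z ∈ Z1, f z ∈ Z2)
    (γ : Q1 → Q2) (hγmul : ∀ x ∈ Z1, ∀ y ∈ Z1, γ (x * y) = γ x * γ y)
    (hγZ : ∀ z ∈ Z1, γ z ∈ Z2) (hγinj : ∀ z ∈ Z1, γ z = 1 → z = 1)
    (hsq : ∀ x : Q1, x * x ∈ Z1 ∧ γ (x * x) = f x * f x)
    (hcard : Nat.card Q1 = Nat.card Q2) : Nonempty (Q1 ≃* Q2) := by
  classical
  haveI : Z2.Normal := normal_of_le_center hZ2c
  have hc1 : ∀ {z : Q1}, z ∈ Z1 → ∀ u, u * z = z * u := fun hz u =>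
    Subgroup.mem_center_iff.mp (hZ1c hz) u
  have hc2 : ∀ {z : Q2}, z ∈ Z2 → ∀ u, u * z = z * u := fun hz u =>
    Subgroup.mem_center_iff.mp (hZ2c hz) u
  have hγ1 : γ 1 = 1 := by
    have := hγmul 1 (one_mem _) 1 (one_mem _)
    rw [mul_one] at this
    exact left_eq_mul.mp this
  -- `f` modulo `Z2`
  let fb : Q1 →* Q2 ⧸ Z2 := MonoidHom.mk' (fun x => QuotientGroup.mk (f x)) (by
    intro x y
    rw [← QuotientGroup.mk_mul, eq_comm, QuotientGroup.eq]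
    exact hf x y)
  have hfb : ∀ x, fb x = QuotientGroup.mk (f x) := fun x => rfl
  let P : Subgroup (Q1 × Q2) :=
    (fb.comp (MonoidHom.fst Q1 Q2)).eqLocus ((QuotientGroup.mk' Z2).comp (MonoidHom.snd Q1 Q2))
  have hP : ∀ p : Q1 × Q2, p ∈ P ↔ (f p.1)⁻¹ * p.2 ∈ Z2 := by
    intro p
    change fb p.1 = QuotientGroup.mk p.2 ↔ _
    rw [hfb, QuotientGroup.eq]
  -- the graph of `γ`
  let Δ : Subgroup P :=
    { carrier := {p | p.1.1 ∈ Z1 ∧ p.1.2 = γ p.1.1}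
      one_mem' := ⟨one_mem _, hγ1.symm⟩
      mul_mem' := by
        rintro a b ⟨ha1, ha2⟩ ⟨hb1, hb2⟩
        refine ⟨mul_mem ha1 hb1, ?_⟩
        change a.1.2 * b.1.2 = γ (a.1.1 * b.1.1)
        rw [hγmul _ ha1 _ hb1, ha2, hb2]
      inv_mem' := by
        rintro a ⟨ha1, ha2⟩
        refine ⟨inv_mem ha1, ?_⟩
        change (a.1.2)⁻¹ = γ (a.1.1)⁻¹
        have h1 := hγmul _ ha1 _ (inv_mem ha1)
        rw [mul_inv_cancel, hγ1] at h1
        rw [ha2]
        exact inv_eq_of_mul_eq_one_right h1.symm }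
  have hΔ : ∀ p : P, p ∈ Δ ↔ p.1.1 ∈ Z1 ∧ p.1.2 = γ p.1.1 := fun p => Iff.rfl
  have hΔcen : ∀ d ∈ Δ, ∀ p : P, p * d = d * p := by
    intro d hd p
    obtain ⟨hd1, hd2⟩ := (hΔ d).mp hd
    apply Subtype.ext
    apply Prod.ext
    · exact hc1 hd1 _
    · change p.1.2 * d.1.2 = d.1.2 * p.1.2
      rw [hd2]
      exact hc2 (hγZ _ hd1) _
  haveI : Δ.Normal := by
    constructor
    intro d hd p
    rw [hΔcen d hd p, mul_inv_cancel_right]
    exact hd
  -- squares lie in `Δ`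
  have hsqΔ : ∀ p : P, p * p ∈ Δ := by
    intro p
    rw [hΔ]
    refine ⟨(hsq p.1.1).1, ?_⟩
    change p.1.2 * p.1.2 = γ (p.1.1 * p.1.1)
    rw [(hsq p.1.1).2]
    have hp := (hP p.1).mp p.2
    set z := (f p.1.1)⁻¹ * p.1.2 with hz
    have e : p.1.2 = f p.1.1 * z := by rw [hz]; group
    rw [e]
    calc f p.1.1 * z * (f p.1.1 * z) = f p.1.1 * (z * f p.1.1) * z := by group
      _ = f p.1.1 * (f p.1.1 * z) * z := by rw [← hc2 hp (f p.1.1)]
      _ = f p.1.1 * f p.1.1 * (z * z) := by group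
      _ = f p.1.1 * f p.1.1 := by rw [hZ2sq z hp, mul_one]
  have hVsq : ∀ v : P ⧸ Δ, v * v = 1 := by
    intro v
    induction v using QuotientGroup.induction_on with
    | H p =>
      rw [← QuotientGroup.mk_mul, QuotientGroup.eq_one_iff]
      exact hsqΔ p
  have hVinv : ∀ v : P ⧸ Δ, v⁻¹ = v := fun v => inv_eq_of_mul_eq_one_left (hVsq v)
  have hVcomm : ∀ v w : P ⧸ Δ, v * w = w * v := by
    intro v w
    have h := hVinv (v * w)
    rw [mul_inv_rev, hVinv, hVinv] at h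
    exact h.symm
  letI : CommGroup (P ⧸ Δ) := { (inferInstance : Group (P ⧸ Δ)) with mul_comm := hVcomm }
  haveI : Fact (Nat.Prime 2) := ⟨Nat.prime_two⟩
  -- the vertical part
  let Zp : Subgroup P :=
    { carrier := {p | p.1.1 = 1}
      one_mem' := rfl
      mul_mem' := by
        intro a b ha hb
        change a.1.1 * b.1.1 = 1
        rw [ha, hb, mul_one]
      inv_mem' := by
        intro a ha
        change (a.1.1)⁻¹ = 1
        rw [ha, inv_one] }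
  have hZp : ∀ p : P, p ∈ Zp ↔ p.1.1 = 1 := fun p => Iff.rfl
  have hf1 : f 1 ∈ Z2 := hfZ' 1 (one_mem _)
  have hZp2 : ∀ p : P, p ∈ Zp → p.1.2 ∈ Z2 := by
    intro p hp
    have h1 := (hP p.1).mp p.2
    rw [(hZp p).mp hp] at h1
    have e : p.1.2 = f 1 * ((f 1)⁻¹ * p.1.2) := by group
    rw [e]
    exact mul_mem hf1 h1
  let U : Subgroup (P ⧸ Δ) := Zp.map (QuotientGroup.mk' Δ)
  obtain ⟨W, hUW1, hUW2⟩ :=
    Cfsg.Agent.Lib.H18.exists_complement_of_exponent (V := P ⧸ Δ) (p := 2)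
      (fun v => by rw [pow_two]; exact hVsq v) U
  let M : Subgroup P := W.comap (QuotientGroup.mk' Δ)
  have hM : ∀ p : P, p ∈ M ↔ (QuotientGroup.mk p : P ⧸ Δ) ∈ W := fun p => Iff.rfl
  -- `M ∩ Zp = 1`
  have hMZ : ∀ p : P, p ∈ M → p ∈ Zp → p = 1 := by
    intro p hpM hpZ
    have h1 : (QuotientGroup.mk p : P ⧸ Δ) ∈ U ⊓ W := ⟨⟨p, hpZ, rfl⟩, hpM⟩
    rw [hUW1, Subgroup.mem_bot, QuotientGroup.eq_one_iff, hΔ] at h1
    apply Subtype.ext
    apply Prod.ext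
    · exact (hZp p).mp hpZ
    · change p.1.2 = 1
      rw [h1.2, (hZp p).mp hpZ, hγ1]
  -- the first projection
  let φ1 : M →* Q1 := (MonoidHom.fst Q1 Q2).comp (P.subtype.comp M.subtype)
  have hφ1 : ∀ m : M, φ1 m = m.1.1.1 := fun m => rfl
  have hφ1inj : Function.Injective φ1 := by
    rw [injective_iff_map_eq_one]
    intro m hm
    rw [hφ1] at hm
    exact Subtype.ext (hMZ m.1 m.2 hm)
  have hφ1surj : Function.Surjective φ1 := by
    intro x
    have hxP : (x, f x) ∈ P := by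
      rw [hP]
      change (f x)⁻¹ * f x ∈ Z2
      rw [inv_mul_cancel]
      exact one_mem _
    have h1 : (QuotientGroup.mk (⟨(x, f x), hxP⟩ : P) : P ⧸ Δ) ∈ U ⊔ W := by
      rw [hUW2]; exact Subgroup.mem_top _
    obtain ⟨u, hu, w, hw, huw⟩ := Subgroup.mem_sup.mp h1
    obtain ⟨pu, hpu, rfl⟩ := hu
    have h2 : (QuotientGroup.mk (pu⁻¹ * ⟨(x, f x), hxP⟩ : P) : P ⧸ Δ) ∈ W := by
      rw [QuotientGroup.mk_mul, QuotientGroup.mk_inv, ← huw]
      rw [QuotientGroup.mk'_apply, inv_mul_cancel_left]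
      exact hw
    refine ⟨⟨pu⁻¹ * ⟨(x, f x), hxP⟩, h2⟩, ?_⟩
    rw [hφ1]
    change (pu.1.1)⁻¹ * x = x
    rw [(hZp pu).mp hpu, inv_one, one_mul]
  -- the second projection
  let φ2 : M →* Q2 := (MonoidHom.snd Q1 Q2).comp (P.subtype.comp M.subtype)
  have hφ2 : ∀ m : M, φ2 m = m.1.1.2 := fun m => rfl
  have hφ2inj : Function.Injective φ2 := by
    rw [injective_iff_map_eq_one]
    intro m hm
    rw [hφ2] at hm
    have h1 := (hP m.1.1).mp m.1.2
    rw [hm, mul_one] at h1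
    have hx : m.1.1.1 ∈ Z1 := hfZ _ (by simpa using inv_mem h1)
    -- `(x, 1) = (x, γ x) (1, (γ x)⁻¹)`
    have hdP : (m.1.1.1, γ m.1.1.1) ∈ P := by
      rw [hP]
      exact mul_mem (inv_mem (hfZ' _ hx)) (hγZ _ hx)
    have hzP : ((1 : Q1), (γ m.1.1.1)⁻¹) ∈ P := by
      rw [hP]
      exact mul_mem (inv_mem hf1) (inv_mem (hγZ _ hx))
    have e : m.1 = (⟨_, hdP⟩ : P) * ⟨_, hzP⟩ := by
      apply Subtype.ext
      apply Prod.ext
      · change m.1.1.1 = m.1.1.1 * 1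
        rw [mul_one]
      · change m.1.1.2 = γ m.1.1.1 * (γ m.1.1.1)⁻¹
        rw [hm, mul_inv_cancel]
    have hdΔ : (⟨_, hdP⟩ : P) ∈ Δ := (hΔ _).mpr ⟨hx, rfl⟩
    have h2 : (QuotientGroup.mk m.1 : P ⧸ Δ) ∈ U ⊓ W := by
      refine ⟨⟨⟨_, hzP⟩, rfl, ?_⟩, m.2⟩
      have e' : (QuotientGroup.mk m.1 : P ⧸ Δ) =
          QuotientGroup.mk ((⟨_, hdP⟩ : P) * ⟨_, hzP⟩) := congrArg _ e
      rw [e', QuotientGroup.mk'_apply, QuotientGroup.mk_mul,
        (QuotientGroup.eq_one_iff _).mpr hdΔ, one_mul]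
    rw [hUW1, Subgroup.mem_bot, QuotientGroup.eq_one_iff, hΔ] at h2
    have h3 : m.1.1.1 = 1 := hγinj _ hx (by rw [← h2.2, hm])
    apply Subtype.ext
    apply Subtype.ext
    apply Prod.ext
    · exact h3
    · exact hm
  have e1 : M ≃* Q1 := MulEquiv.ofBijective φ1 ⟨hφ1inj, hφ1surj⟩
  have hφ2bij : Function.Bijective φ2 := by
    rw [Nat.bijective_iff_injective_and_card]
    refine ⟨hφ2inj, ?_⟩
    rw [Nat.card_congr e1.toEquiv, hcard]
  exact ⟨e1.symm.trans (MulEquiv.ofBijective φ2 hφ2bij)⟩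

end Cfsg.Agent.Lib.H2.QN
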