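import Mathlib

set_option autoImplicit false
set_option linter.unusedSectionVars false
set_option linter.style.haveILetI false

/-!
# The field generated by a transitive automorphism of an elementary abelian 2-group
-/

namespace Cfsg.Agent.Lib.H2.QN

universe u

theorem exists_field_of_transitive {A : Type u} [AddCommGroup A] [Finite A] (σ : A ≃+ A)
    (a1 : A) (ha1 : a1 ≠ 0)
    (htr : ∀ b : A, b ≠ 0 → ∃ k : ℕ, σ^[k] a1 = b) :
    ∃ (S : Type u) (_ : Field S) (ev : S → A) (t : S),
      (∀ s s', ev (s + s') = ev s + ev s') ∧ Function.Bijective ev ∧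
      (∀ s, ev (t * s) = σ (ev s)) ∧ (∀ s : S, s ≠ 0 → ∃ k : ℕ, s = t ^ k) ∧ ev 1 = a1 := by
  classical
  let e : AddMonoid.End A := σ.toAddMonoidHom
  have he : ∀ a, e a = σ a := fun a => rfl
  have hepow : ∀ (k : ℕ) (a : A), (e ^ k) a = σ^[k] a := by
    intro k a
    rw [AddMonoid.End.coe_pow]
    rfl
  let S : Subring (AddMonoid.End A) := Subring.closure {e}
  letI : CommRing S := Subring.closureCommRingOfComm (by
    intro x hx y hy
    rw [Set.mem_singleton_iff] at hx hy
    rw [hx, hy])
  let t : S := ⟨e, Subring.subset_closure (Set.mem_singleton e)⟩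
  have hcomm : ∀ s : S, (s : AddMonoid.End A) * e = e * s := by
    intro s
    have := mul_comm s t
    exact congrArg Subtype.val this
  have hcommpow : ∀ (s : S) (k : ℕ) (a : A), (s : AddMonoid.End A) ((e ^ k) a) =
      (e ^ k) ((s : AddMonoid.End A) a) := by
    intro s k a
    induction k generalizing a with
    | zero => simp
    | succ k ih =>
      have h1 : (e ^ (k + 1)) a = (e ^ k) (e a) := by rw [pow_succ]; rfl
      have h2 : (e ^ (k + 1)) ((s : AddMonoid.End A) a) = (e ^ k) (e ((s : AddMonoid.End A) a)) := by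
        rw [pow_succ]; rfl
      rw [h1, h2, ih]
      congr 1
      exact congrArg (fun f : AddMonoid.End A => f a) (hcomm s)
  let ev : S → A := fun s => (s : AddMonoid.End A) a1
  have hev : ∀ s : S, ev s = (s : AddMonoid.End A) a1 := fun s => rfl
  have hevinj : Function.Injective ev := by
    intro s s' h
    apply Subtype.ext
    apply DFunLike.ext (F := AddMonoid.End A)
    intro a
    by_cases ha : a = 0
    · rw [ha, map_zero (s : AddMonoid.End A), map_zero (s' : AddMonoid.End A)]
    · obtain ⟨k, rfl⟩ := htr a ha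
      rw [← hepow, hcommpow, hcommpow]
      rw [hev, hev] at h
      rw [h]
  have hevpow : ∀ k : ℕ, ev (t ^ k) = σ^[k] a1 := by
    intro k
    rw [hev, ← hepow]
    rfl
  have hevsurj : Function.Surjective ev := by
    intro a
    by_cases ha : a = 0
    · exact ⟨0, by rw [hev, ha]; rfl⟩
    · obtain ⟨k, rfl⟩ := htr a ha
      exact ⟨t ^ k, hevpow k⟩
  have hev0 : ev 0 = 0 := rfl
  have hpow : ∀ s : S, s ≠ 0 → ∃ k : ℕ, s = t ^ k := by
    intro s hs
    have h1 : ev s ≠ 0 := by
      intro h
      apply hs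
      apply hevinj
      rw [h, hev0]
    obtain ⟨k, hk⟩ := htr _ h1
    exact ⟨k, hevinj (by rw [hevpow, hk])⟩
  have hpowne : ∀ k : ℕ, t ^ k ≠ 0 := by
    intro k h
    have h1 := hevpow k
    rw [h, hev0] at h1
    have h2 : Function.Injective σ^[k] := σ.injective.iterate k
    have h3 : σ^[k] a1 = σ^[k] 0 := by
      rw [← h1]
      exact (iterate_map_zero σ k).symm
    exact ha1 (h2 h3)
  haveI : Nontrivial S := ⟨⟨t ^ 0, 0, hpowne 0⟩⟩
  haveI : NoZeroDivisors S := by
    constructor
    intro a b hab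
    by_contra h
    push Not at h
    obtain ⟨i, rfl⟩ := hpow a h.1
    obtain ⟨j, rfl⟩ := hpow b h.2
    rw [← pow_add] at hab
    exact hpowne _ hab
  haveI : IsDomain S := NoZeroDivisors.to_isDomain S
  haveI : Finite S := Finite.of_injective ev hevinj
  letI : Fintype S := Fintype.ofFinite S
  let instF : Field S := Fintype.fieldOfDomain S
  refine ⟨S, instF, ev, t, ?_, ⟨hevinj, hevsurj⟩, ?_, hpow, ?_⟩
  · intro s s'
    rfl
  · intro s
    rfl
  · rfl

/-- coordinates on an elementary abelian subgroup by a field -/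
structure Coord {T : Type*} [Group T] (C : Subgroup T) (τ : MulAut T) (F : Type*) [Field F] where
  ev : F → T
  t : F
  ev_mem : ∀ s, ev s ∈ C
  ev_add : ∀ s s', ev (s + s') = ev s * ev s'
  ev_surj : ∀ c ∈ C, ∃ s, ev s = c
  ev_inj : Function.Injective ev
  ev_t : ∀ s, ev (t * s) = τ (ev s)
  t_pow : ∀ s : F, s ≠ 0 → ∃ k : ℕ, s = t ^ k

/-- transport of coordinates along a ring isomorphism -/
def Coord.map {T : Type*} [Group T] {C : Subgroup T} {τ : MulAut T} {F F' : Type*} [Field F]
    [Field F'] (K : Coord C τ F) (φ : F ≃+* F') : Coord C τ F' where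
  ev := fun s => K.ev (φ.symm s)
  t := φ K.t
  ev_mem := fun s => K.ev_mem _
  ev_add := fun s s' => by rw [map_add, K.ev_add]
  ev_surj := fun c hc => by
    obtain ⟨s, hs⟩ := K.ev_surj c hc
    exact ⟨φ s, by rw [φ.symm_apply_apply, hs]⟩
  ev_inj := fun s s' h => φ.symm.injective (K.ev_inj h)
  ev_t := fun s => by rw [map_mul, φ.symm_apply_apply, K.ev_t]
  t_pow := fun s hs => by
    have h1 : φ.symm s ≠ 0 := by
      intro h
      apply hs
      rw [← φ.apply_symm_apply s, h, map_zero]
    obtain ⟨k, hk⟩ := K.t_pow _ h1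
    exact ⟨k, by rw [← map_pow, ← hk, φ.apply_symm_apply]⟩

theorem iterate_eq_pow {T : Type*} [Group T] (τ : MulAut T) (k : ℕ) (x : T) :
    (τ ^ k) x = τ^[k] x := by
  induction k generalizing x with
  | zero => rfl
  | succ k ih =>
    rw [pow_succ, MulAut.mul_apply, ih, Function.iterate_succ_apply]

/-- existence of field coordinates -/
theorem exists_coord {T : Type u} [Group T] [Finite T] (C : Subgroup T) (τ : MulAut T)
    (hτC : ∀ c, c ∈ C ↔ τ c ∈ C) (hcomm : ∀ c ∈ C, ∀ c' ∈ C, c * c' = c' * c)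
    (c1 : T) (hc1 : c1 ∈ C) (hc11 : c1 ≠ 1)
    (htr : ∀ c ∈ C, c ≠ 1 → ∃ k : ℕ, (τ ^ k) c1 = c) :
    ∃ (S : Type u) (_ : Field S) (K : Coord C τ S), K.ev 1 = c1 := by
  letI : CommGroup C := { (inferInstance : Group C) with
    mul_comm := fun a b => Subtype.ext (hcomm a a.2 b b.2) }
  let σm : C ≃* C :=
    { toFun := fun c => ⟨τ (c : T), (hτC c).mp c.2⟩
      invFun := fun c => ⟨τ.symm (c : T), by rw [hτC, τ.apply_symm_apply]; exact c.2⟩
      left_inv := fun c => Subtype.ext (τ.symm_apply_apply (c : T))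
      right_inv := fun c => Subtype.ext (τ.apply_symm_apply (c : T))
      map_mul' := fun a b => Subtype.ext (map_mul τ (a : T) (b : T)) }
  let σ : Additive C ≃+ Additive C := MulEquiv.toAdditive σm
  have hσ : ∀ a : Additive C, ((σ a).toMul : T) = τ (a.toMul : T) := fun a => rfl
  have hσit : ∀ (k : ℕ) (a : Additive C), (((σ^[k]) a).toMul : T) = (τ ^ k) (a.toMul : T) := by
    intro k a
    induction k generalizing a with
    | zero => rfl
    | succ k ih =>
      rw [Function.iterate_succ_apply, ih, hσ, pow_succ, MulAut.mul_apply]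
  let a1 : Additive C := Additive.ofMul ⟨c1, hc1⟩
  have ha1 : a1 ≠ 0 := by
    intro h
    apply hc11
    have : (⟨c1, hc1⟩ : C) = 1 := h
    exact congrArg Subtype.val this
  have htr' : ∀ b : Additive C, b ≠ 0 → ∃ k : ℕ, σ^[k] a1 = b := by
    intro b hb
    have hb1 : (b.toMul : T) ≠ 1 := by
      intro h
      apply hb
      have : b.toMul = 1 := Subtype.ext h
      exact this
    obtain ⟨k, hk⟩ := htr _ b.toMul.2 hb1
    refine ⟨k, ?_⟩
    have : ((σ^[k] a1).toMul : T) = b.toMul := by rw [hσit]; exact hk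
    exact Additive.toMul.injective (Subtype.ext this)
  obtain ⟨S, instS, ev, t, hadd, hbij, hevt, hpow, hev1⟩ :=
    exists_field_of_transitive σ a1 ha1 htr'
  refine ⟨S, instS, ⟨fun s => ((ev s).toMul : T), t, fun s => (ev s).toMul.2, ?_, ?_, ?_, ?_,
    hpow⟩, ?_⟩
  · intro s s'
    rw [hadd]
    rfl
  · intro c hc
    obtain ⟨s, hs⟩ := hbij.2 (Additive.ofMul ⟨c, hc⟩)
    exact ⟨s, by rw [hs]; rfl⟩
  · intro s s' h
    apply hbij.1
    exact Additive.toMul.injective (Subtype.ext h)
  · intro s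
    rw [hevt, hσ]
  · change ((ev 1).toMul : T) = c1
    rw [hev1]
    rfl

end Cfsg.Agent.Lib.H2.QN
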