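import Mathlib
import Cfsg.Agent.Lib.H2.QNF
import Cfsg.Agent.Lib.H2.QNH

set_option autoImplicit false
set_option linter.unusedSectionVars false
set_option linter.style.haveILetI false
set_option linter.unnecessarySimpa false

/-!
# Coordinates and the quadratic form of squaring
-/

namespace Cfsg.Agent.Lib.H2.QN

open Subgroup Cfsg.Agent.Lib.H2.L34 Cfsg.Agent.Lib.H2.RT

variable {T : Type*} [Group T] {F : Type*} [Field F]

namespace Coord

variable {C : Subgroup T} {τ : MulAut T} (K : Coord C τ F)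

include K

theorem ev_zero : K.ev 0 = 1 := by
  have := K.ev_add 0 0
  rw [add_zero] at this
  exact left_eq_mul.mp this

/-- the inverse of `ev` -/
noncomputable def co (c : T) : F :=
  open Classical in if h : c ∈ C then Classical.choose (K.ev_surj c h) else 0

theorem ev_co {c : T} (hc : c ∈ C) : K.ev (K.co c) = c := by
  rw [co, dif_pos hc]
  exact Classical.choose_spec (K.ev_surj c hc)

theorem co_ev (s : F) : K.co (K.ev s) = s :=
  K.ev_inj (K.ev_co (K.ev_mem s))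

theorem co_one : K.co 1 = 0 := by
  rw [← K.ev_zero, K.co_ev]

theorem co_mul {c c' : T} (hc : c ∈ C) (hc' : c' ∈ C) : K.co (c * c') = K.co c + K.co c' := by
  apply K.ev_inj
  rw [K.ev_co (mul_mem hc hc'), K.ev_add, K.ev_co hc, K.ev_co hc']

theorem co_eq_zero {c : T} (hc : c ∈ C) (h : K.co c = 0) : c = 1 := by
  rw [← K.ev_co hc, h, K.ev_zero]

theorem ev_eq_one {s : F} (h : K.ev s = 1) : s = 0 := by
  apply K.ev_inj
  rw [h, K.ev_zero]

theorem ev_tpow (k : ℕ) (s : F) : K.ev (K.t ^ k * s) = (τ ^ k) (K.ev s) := by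
  induction k with
  | zero => rw [pow_zero, one_mul, pow_zero_apply]
  | succ k ih => rw [pow_succ', mul_assoc, K.ev_t, ih, pow_succ_apply]

theorem tau_mem {c : T} (hc : c ∈ C) : τ c ∈ C := by
  rw [← K.ev_co hc, ← K.ev_t]
  exact K.ev_mem _

theorem co_tau {c : T} (hc : c ∈ C) : K.co (τ c) = K.t * K.co c := by
  apply K.ev_inj
  rw [K.ev_co (K.tau_mem hc), K.ev_t, K.ev_co hc]

theorem card_eq [Finite T] : Nat.card F = Nat.card C := by
  apply Nat.card_congr
  refine Equiv.ofBijective (fun s => (⟨K.ev s, K.ev_mem s⟩ : C)) ⟨?_, ?_⟩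
  · intro s s' h
    exact K.ev_inj (congrArg Subtype.val h)
  · intro c
    obtain ⟨s, hs⟩ := K.ev_surj c c.2
    exact ⟨s, Subtype.ext hs⟩

/-- the action of the field on the group through the powers of `ρ` -/
noncomputable def act (ρ : MulAut T) (s : F) (x : T) : T :=
  open Classical in if h : s = 0 then 1 else (ρ ^ (Classical.choose (K.t_pow s h))) x

theorem act_zero (ρ : MulAut T) (x : T) : K.act ρ 0 x = 1 := by
  rw [act, dif_pos rfl]

theorem act_of_ne (ρ : MulAut T) {s : F} (h : s ≠ 0) (x : T) :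
    ∃ k : ℕ, s = K.t ^ k ∧ K.act ρ s x = (ρ ^ k) x := by
  refine ⟨Classical.choose (K.t_pow s h), Classical.choose_spec (K.t_pow s h), ?_⟩
  rw [act, dif_neg h]

end Coord

namespace Struct

variable {q : ℕ} {α ρ : MulAut T} [Finite T]

theorem cc (S : Struct q α ρ) : CC (fixSub α) := S.hyp.cc S.comm

theorem tau_tau (S : Struct q α ρ) (k : ℕ) (x : T) :
    ((ρ ^ (q / 2)) ^ k) (((ρ ^ (q / 2)) ^ k) x) = (ρ ^ k) x := by
  have H := S.hyp
  rw [← pow_mul, ← pow_add_apply]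
  apply H.pow_eq_of_modEq
  obtain ⟨t, ht⟩ := H.two_dvd_q
  have hq := H.hq
  have e : q / 2 * k + q / 2 * k = k * (q - 1) + k := by
    have h1 : q / 2 = t := by omega
    have h2 : q = (q - 1) + 1 := by omega
    calc q / 2 * k + q / 2 * k = k * (2 * t) := by rw [h1]; ring
      _ = k * q := by rw [← ht]
      _ = k * ((q - 1) + 1) := by rw [← h2]
      _ = k * (q - 1) + k := by ring
  rw [e]
  have : k * (q - 1) + k ≡ 0 + k [MOD (q - 1)] :=
    Nat.ModEq.add_right _ ((Nat.modEq_zero_iff_dvd).mpr (Dvd.intro_left _ rfl))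
  simpa using this

theorem cm_pow_left (S : Struct q α ρ) (k : ℕ) (g h : T) :
    cm ((ρ ^ k) g) h = ((ρ ^ (q / 2)) ^ k) (cm g h) := by
  induction k with
  | zero => rw [pow_zero_apply, pow_zero_apply]
  | succ k ih => rw [pow_succ_apply, S.cm_rho, ih, pow_succ_apply]

/-- the first coordinate -/
noncomputable def ca (_S : Struct q α ρ) (K : Coord (fixSub α) (ρ ^ (q / 2)) F) (e2 g : T) : F :=
  K.co (cm g e2)

/-- the second coordinate -/
noncomputable def cc' (_S : Struct q α ρ) (K : Coord (fixSub α) (ρ ^ (q / 2)) F) (e1 g : T) : F :=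
  K.co (cm e1 g)

variable (S : Struct q α ρ) (K : Coord (fixSub α) (ρ ^ (q / 2)) F)

include S K

theorem two_eq_zero : (2 : F) = 0 := by
  have h1 := K.ev_add 1 1
  rw [S.hyp.C_sq (K.ev_mem 1)] at h1
  have := K.ev_eq_one h1
  rw [← this]; norm_num

theorem charP : CharP F 2 :=
  CharTwo.of_one_ne_zero_of_two_eq_zero one_ne_zero (S.two_eq_zero K)

theorem cm_act_left (s : F) (x y : T) :
    cm (K.act ρ s x) y = K.ev (s * K.co (cm x y)) := by
  by_cases hs : s = 0
  · rw [hs, K.act_zero, cm_one_left, zero_mul, K.ev_zero]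
  · obtain ⟨k, hk, hact⟩ := K.act_of_ne ρ hs x
    rw [hact, S.cm_pow_left, hk, K.ev_tpow, K.ev_co (S.comm x y)]

theorem cm_act_right (s : F) (x y : T) :
    cm x (K.act ρ s y) = K.ev (s * K.co (cm x y)) := by
  rw [S.cc.cm_symm, S.cm_act_left K, S.cc.cm_symm]

theorem sq_act (s : F) (x : T) :
    K.act ρ s x * K.act ρ s x = K.ev (s * s * K.co (x * x)) := by
  by_cases hs : s = 0
  · rw [hs, K.act_zero, one_mul, zero_mul, zero_mul, K.ev_zero]
  · obtain ⟨k, hk, hact⟩ := K.act_of_ne ρ hs x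
    rw [hact, ← map_mul, hk, mul_assoc, K.ev_tpow, K.ev_tpow, K.ev_co (S.sq x), S.tau_tau]

theorem act_mem {x : T} (hx : x ∈ fixSub α) (s : F) : K.act ρ s x ∈ fixSub α := by
  by_cases hs : s = 0
  · rw [hs, K.act_zero]; exact one_mem _
  · obtain ⟨k, -, hact⟩ := K.act_of_ne ρ hs x
    rw [hact]
    exact S.hyp.rho_mem hx k

theorem ca_mul (e2 g h : T) : S.ca K e2 (g * h) = S.ca K e2 g + S.ca K e2 h := by
  rw [ca, ca, ca, S.cc.cm_mul_left, K.co_mul (S.comm _ _) (S.comm _ _)]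

theorem cc'_mul (e1 g h : T) : S.cc' K e1 (g * h) = S.cc' K e1 g + S.cc' K e1 h := by
  rw [cc', cc', cc', S.cc.cm_mul_right, K.co_mul (S.comm _ _) (S.comm _ _)]

theorem ca_of_mem (e2 : T) {z : T} (hz : z ∈ fixSub α) : S.ca K e2 z = 0 := by
  rw [ca, S.cc.cm_c_left hz, K.co_one]

theorem cc'_of_mem (e1 : T) {z : T} (hz : z ∈ fixSub α) : S.cc' K e1 z = 0 := by
  rw [cc', S.cc.cm_c_right hz, K.co_one]

section frame

variable {e1 e2 : T} (he : cm e1 e2 = K.ev 1)

include he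

theorem ca_act1 (a : F) : S.ca K e2 (K.act ρ a e1) = a := by
  rw [ca, S.cm_act_left K, he, K.co_ev, K.co_ev, mul_one]

theorem ca_act2 (c : F) : S.ca K e2 (K.act ρ c e2) = 0 := by
  rw [ca, S.cm_act_left K, Cfsg.Agent.Lib.H2.L34.cm_self, K.co_one, mul_zero, K.ev_zero, K.co_one]

theorem cc'_act1 (a : F) : S.cc' K e1 (K.act ρ a e1) = 0 := by
  rw [cc', S.cm_act_right K, Cfsg.Agent.Lib.H2.L34.cm_self, K.co_one, mul_zero, K.ev_zero,
    K.co_one]

theorem cc'_act2 (c : F) : S.cc' K e1 (K.act ρ c e2) = c := by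
  rw [cc', S.cm_act_right K, he, K.co_ev, K.co_ev, mul_one]

theorem ca_nf (a c : F) {z : T} (hz : z ∈ fixSub α) :
    S.ca K e2 (K.act ρ a e1 * K.act ρ c e2 * z) = a := by
  rw [S.ca_mul K, S.ca_mul K, S.ca_act1 K he, S.ca_act2 K he, S.ca_of_mem K e2 hz, add_zero,
    add_zero]

theorem cc'_nf (a c : F) {z : T} (hz : z ∈ fixSub α) :
    S.cc' K e1 (K.act ρ a e1 * K.act ρ c e2 * z) = c := by
  rw [S.cc'_mul K, S.cc'_mul K, S.cc'_act1 K he, S.cc'_act2 K he, S.cc'_of_mem K e1 hz,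
    add_zero, zero_add]

/-- the normal form of the elements -/
theorem exists_nf (g : T) : ∃ (a c : F) (z : T), z ∈ fixSub α ∧
    g = K.act ρ a e1 * K.act ρ c e2 * z := by
  let Φ : F × F × fixSub α → T := fun p => K.act ρ p.1 e1 * K.act ρ p.2.1 e2 * (p.2.2 : T)
  have hΦ : Function.Injective Φ := by
    rintro ⟨a, c, z⟩ ⟨a', c', z'⟩ h
    simp only [Φ] at h
    have h1 := congrArg (S.ca K e2) h
    rw [S.ca_nf K he a c z.2, S.ca_nf K he a' c' z'.2] at h1
    have h2 := congrArg (S.cc' K e1) h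
    rw [S.cc'_nf K he a c z.2, S.cc'_nf K he a' c' z'.2] at h2
    subst h1 h2
    have h3 : (z : T) = z' := mul_left_cancel h
    rw [Subtype.ext h3]
  have hb : Function.Bijective Φ := by
    rw [Nat.bijective_iff_injective_and_card]
    refine ⟨hΦ, ?_⟩
    rw [Nat.card_prod, Nat.card_prod, K.card_eq, S.hyp.card, S.card, mul_assoc]
  obtain ⟨⟨a, c, z⟩, hp⟩ := hb.2 g
  exact ⟨a, c, z, z.2, hp.symm⟩

/-- the quadratic form of squaring -/
theorem sq_formula (g : T) :
    g * g = K.ev (K.co (e1 * e1) * (S.ca K e2 g * S.ca K e2 g) + S.ca K e2 g * S.cc' K e1 g +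
      K.co (e2 * e2) * (S.cc' K e1 g * S.cc' K e1 g)) := by
  obtain ⟨a, c, z, hz, rfl⟩ := S.exists_nf K he g
  rw [S.ca_nf K he a c hz, S.cc'_nf K he a c hz, S.cc.sq_mul_c _ hz, S.cc.sq_mul, S.sq_act K,
    S.sq_act K, S.cm_act_left K, S.cm_act_right K, he, K.co_ev, K.co_ev, mul_one, ← K.ev_add,
    ← K.ev_add]
  congr 1
  ring

/-- the coordinates vanish exactly on the centre -/
theorem mem_of_coords_zero {g : T} (ha : S.ca K e2 g = 0) (hc : S.cc' K e1 g = 0) :
    g ∈ fixSub α := by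
  obtain ⟨a, c, z, hz, rfl⟩ := S.exists_nf K he g
  rw [S.ca_nf K he a c hz] at ha
  rw [S.cc'_nf K he a c hz] at hc
  rw [ha, hc, K.act_zero, K.act_zero, one_mul, one_mul]
  exact hz

theorem exists_coords (a c : F) : ∃ g : T, S.ca K e2 g = a ∧ S.cc' K e1 g = c :=
  ⟨K.act ρ a e1 * K.act ρ c e2 * 1, S.ca_nf K he a c (one_mem _), S.cc'_nf K he a c (one_mem _)⟩

end frame

/-- normalising the commutator of a pair of non-commuting elements -/
theorem exists_normalised {e1 k : T} (h : cm e1 k ≠ 1) :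
    ∃ e2 : T, cm e1 e2 = K.ev 1 := by
  have h1 : K.co (cm e1 k) ≠ 0 := fun h0 => h (K.co_eq_zero (S.comm _ _) h0)
  refine ⟨K.act ρ (K.co (cm e1 k))⁻¹ k, ?_⟩
  rw [S.cm_act_right K, inv_mul_cancel₀ h1]

theorem exists_not_mem : ∃ g : T, g ∉ fixSub α := S.hne

theorem exists_noncomm {g : T} (hg : g ∉ fixSub α) : ∃ k : T, cm g k ≠ 1 := by
  by_contra h
  push Not at h
  exact hg (S.center g h)

end Struct

end Cfsg.Agent.Lib.H2.QN
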