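import Mathlib
import Cfsg.Agent.Lib.H2.QNI
import Cfsg.Agent.Lib.H2.QNG
import Cfsg.Agent.Lib.H13.AutPSLSylow

set_option autoImplicit false
set_option linter.unusedSectionVars false
set_option linter.style.haveILetI false
set_option linter.unnecessarySimpa false

/-!
# The Heisenberg group over a field and the hyperbolic case
-/

namespace Cfsg.Agent.Lib.H2.QN

open Subgroup Cfsg.Agent.Lib.H2.L34 Cfsg.Agent.Lib.H2.RT

/-- the Heisenberg group over `F` -/
@[ext]
structure HeisF (F : Type*) where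
  a : F
  c : F
  b : F

namespace HeisF

variable {F : Type*} [Field F]

instance : Mul (HeisF F) := ⟨fun h k => ⟨h.a + k.a, h.c + k.c, h.b + k.b + h.c * k.a⟩⟩
instance : One (HeisF F) := ⟨⟨0, 0, 0⟩⟩
instance : Inv (HeisF F) := ⟨fun h => ⟨-h.a, -h.c, -h.b + h.c * h.a⟩⟩

theorem mul_a (h k : HeisF F) : (h * k).a = h.a + k.a := rfl
theorem mul_c (h k : HeisF F) : (h * k).c = h.c + k.c := rfl
theorem mul_b (h k : HeisF F) : (h * k).b = h.b + k.b + h.c * k.a := rfl
theorem one_a : (1 : HeisF F).a = 0 := rfl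
theorem one_c : (1 : HeisF F).c = 0 := rfl
theorem one_b : (1 : HeisF F).b = 0 := rfl
theorem inv_a (h : HeisF F) : (h⁻¹).a = -h.a := rfl
theorem inv_c (h : HeisF F) : (h⁻¹).c = -h.c := rfl
theorem inv_b (h : HeisF F) : (h⁻¹).b = -h.b + h.c * h.a := rfl

instance : Group (HeisF F) where
  mul_assoc x y z := by
    ext
    · simp only [mul_a]; ring
    · simp only [mul_c]; ring
    · simp only [mul_b, mul_a, mul_c]; ring
  one_mul x := by
    ext
    · simp only [mul_a, one_a]; ring
    · simp only [mul_c, one_c]; ring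
    · simp only [mul_b, one_b, one_c]; ring
  mul_one x := by
    ext
    · simp only [mul_a, one_a]; ring
    · simp only [mul_c, one_c]; ring
    · simp only [mul_b, one_b, one_a]; ring
  inv_mul_cancel x := by
    ext
    · simp only [mul_a, inv_a, one_a]; ring
    · simp only [mul_c, inv_c, one_c]; ring
    · simp only [mul_b, inv_b, inv_c, one_b]; ring

/-- the centre -/
def Z (F : Type*) [Field F] : Subgroup (HeisF F) where
  carrier := {h | h.a = 0 ∧ h.c = 0}
  one_mem' := ⟨rfl, rfl⟩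
  mul_mem' := by
    rintro h k ⟨h1, h2⟩ ⟨k1, k2⟩
    exact ⟨by rw [mul_a, h1, k1, add_zero], by rw [mul_c, h2, k2, add_zero]⟩
  inv_mem' := by
    rintro h ⟨h1, h2⟩
    exact ⟨by rw [inv_a, h1, neg_zero], by rw [inv_c, h2, neg_zero]⟩

theorem mem_Z (h : HeisF F) : h ∈ Z F ↔ h.a = 0 ∧ h.c = 0 := Iff.rfl

theorem Z_le_center : Z F ≤ center (HeisF F) := by
  rintro h ⟨h1, h2⟩
  rw [Subgroup.mem_center_iff]
  intro k
  ext
  · simp only [mul_a]; ring
  · simp only [mul_c]; ring
  · simp only [mul_b, h1, h2]; ring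

/-- the equivalence with triples -/
def equivProd : HeisF F ≃ F × F × F where
  toFun h := (h.a, h.c, h.b)
  invFun p := ⟨p.1, p.2.1, p.2.2⟩
  left_inv _ := rfl
  right_inv _ := rfl

instance [Finite F] : Finite (HeisF F) := Finite.of_equiv _ equivProd.symm

theorem card_eq [Finite F] : Nat.card (HeisF F) = Nat.card F * Nat.card F * Nat.card F := by
  rw [Nat.card_congr equivProd, Nat.card_prod, Nat.card_prod, mul_assoc]

open Matrix

/-- the unitriangular matrix of an element of the Heisenberg group -/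
def hmat (h : HeisF F) : Matrix (Fin 3) (Fin 3) F := !![1, h.c, h.b; 0, 1, h.a; 0, 0, 1]

theorem det_hmat (h : HeisF F) : (hmat h).det = 1 := by
  simp [hmat, Matrix.det_fin_three]

theorem hmat_mul (h k : HeisF F) : hmat (h * k) = hmat h * hmat k := by
  ext i j
  fin_cases i <;> fin_cases j <;>
    simp [hmat, Matrix.mul_apply, Fin.sum_univ_three, mul_a, mul_b, mul_c] <;> ring

/-- the embedding into `SL₃(F)` -/
def toSL : HeisF F →* SpecialLinearGroup (Fin 3) F :=
  MonoidHom.mk' (fun h => ⟨hmat h, det_hmat h⟩) (fun h k => Subtype.ext (hmat_mul h k))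

theorem toSL_coe (h : HeisF F) : (toSL h : Matrix (Fin 3) (Fin 3) F) = hmat h := rfl

/-- the embedding into `PSL₃(F)` -/
def toPSL : HeisF F →* ProjectiveSpecialLinearGroup (Fin 3) F :=
  (QuotientGroup.mk' (Subgroup.center (SpecialLinearGroup (Fin 3) F))).comp toSL

theorem toPSL_injective : Function.Injective (toPSL : HeisF F →* _) := by
  rw [injective_iff_map_eq_one]
  intro h hh
  have h1 : toSL h ∈ Subgroup.center (SpecialLinearGroup (Fin 3) F) :=
    (QuotientGroup.eq_one_iff _).mp hh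
  rw [Matrix.SpecialLinearGroup.mem_center_iff] at h1
  obtain ⟨r, -, hr⟩ := h1
  have e : ∀ i j, (scalar (Fin 3) r) i j = hmat h i j := fun i j => by rw [hr, toSL_coe]
  have e1 := e 0 1
  have e2 := e 0 2
  have e3 := e 1 2
  simp [hmat, Matrix.scalar_apply] at e1 e2 e3
  ext
  · exact e3.symm
  · exact e1.symm
  · exact e2.symm

open Cfsg.Agent.Lib.H13.AutPSL in
theorem range_toSL [Fintype F] : (toSL : HeisF F →* _).range = (UT : Subgroup (SpecialLinearGroup (Fin 3) F)) := by
  ext s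
  constructor
  · rintro ⟨h, rfl⟩
    rw [mem_UT, toSL_coe]
    constructor
    · intro i j hji
      fin_cases i <;> fin_cases j <;> simp [hmat] at hji ⊢
    · intro i
      fin_cases i <;> simp [hmat]
  · intro hs
    rw [mem_UT] at hs
    refine ⟨⟨(s : Matrix (Fin 3) (Fin 3) F) 1 2, (s : Matrix (Fin 3) (Fin 3) F) 0 1,
      (s : Matrix (Fin 3) (Fin 3) F) 0 2⟩, ?_⟩
    apply Subtype.ext
    rw [toSL_coe]
    ext i j
    fin_cases i <;> fin_cases j <;> simp [hmat]
    · exact (hs.2 0).symm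
    · exact (hs.1 1 0 (by decide)).symm
    · exact (hs.2 1).symm
    · exact (hs.1 2 0 (by decide)).symm
    · exact (hs.1 2 1 (by decide)).symm
    · exact (hs.2 2).symm

open Cfsg.Agent.Lib.H13.AutPSL in
/-- the Heisenberg group is a Sylow `2`-subgroup of `PSL₃(F)` -/
theorem nonempty_equiv_sylow [Fintype F] [CharP F 2]
    (P : Sylow 2 (ProjectiveSpecialLinearGroup (Fin 3) F)) :
    Nonempty (HeisF F ≃* ↥(P : Subgroup (ProjectiveSpecialLinearGroup (Fin 3) F))) := by
  haveI : Fact (Nat.Prime 2) := ⟨Nat.prime_two⟩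
  have h1 : (toPSL : HeisF F →* _).range =
      ((sylU 2 : Sylow 2 (ProjectiveSpecialLinearGroup (Fin 3) F)) :
        Subgroup (ProjectiveSpecialLinearGroup (Fin 3) F)) := by
    rw [coe_sylU, UTbar, ← range_toSL, toPSL, MonoidHom.range_comp]
  have e1 : HeisF F ≃* ↥((sylU 2 : Sylow 2 (ProjectiveSpecialLinearGroup (Fin 3) F)) :
      Subgroup (ProjectiveSpecialLinearGroup (Fin 3) F)) := by
    rw [← h1]
    exact MonoidHom.ofInjective toPSL_injective
  obtain ⟨g, hg⟩ := MulAction.exists_smul_eq (ProjectiveSpecialLinearGroup (Fin 3) F)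
    (sylU 2 : Sylow 2 (ProjectiveSpecialLinearGroup (Fin 3) F)) P
  have e3 : ↥((sylU 2 : Sylow 2 (ProjectiveSpecialLinearGroup (Fin 3) F)) :
      Subgroup (ProjectiveSpecialLinearGroup (Fin 3) F)) ≃*
      ↥(P : Subgroup (ProjectiveSpecialLinearGroup (Fin 3) F)) := by
    rw [← hg]
    exact Sylow.equivSMul _ g
  exact ⟨e1.trans e3⟩

end HeisF

namespace Struct

variable {T : Type*} [Group T] {F : Type*} [Field F] {q : ℕ} {α ρ : MulAut T} [Finite T]

/-- the hyperbolic case: a noncentral involution forces the Heisenberg group -/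
theorem heis_of_inv (S : Struct q α ρ) (K : Coord (fixSub α) (ρ ^ (q / 2)) F) {u : T}
    (hu : u * u = 1) (huC : u ∉ fixSub α) : Nonempty (T ≃* HeisF F) := by
  haveI := S.charP K
  have H := S.hyp
  have SC := S.cc
  obtain ⟨k, hk⟩ := S.exists_noncomm K huC
  obtain ⟨e2', he'⟩ := S.exists_normalised K hk
  set B := K.co (e2' * e2') with hB
  set e2 := K.act ρ B u * e2' with he2
  have he : cm u e2 = K.ev 1 := by
    rw [he2, SC.cm_mul_right, S.cm_act_right K, Cfsg.Agent.Lib.H2.L34.cm_self, K.co_one, mul_zero,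
      K.ev_zero, one_mul, he']
  have hsq2 : e2 * e2 = 1 := by
    rw [S.sq_formula K he' e2, hu, K.co_one, zero_mul, zero_add]
    have h1 : S.ca K e2' e2 = B := by
      rw [he2, S.ca_mul K, S.ca_act1 K he', ca, Cfsg.Agent.Lib.H2.L34.cm_self, K.co_one, add_zero]
    have h2 : S.cc' K u e2 = 1 := by
      rw [he2, S.cc'_mul K, S.cc'_act1 K he', cc', he', K.co_ev, zero_add]
    rw [h1, h2, mul_one, mul_one, mul_one, CharTwo.add_self_eq_zero, K.ev_zero]
  have hsq : ∀ g : T, g * g = K.ev (S.ca K e2 g * S.cc' K u g) := by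
    intro g
    rw [S.sq_formula K he g, hu, hsq2, K.co_one, zero_mul, zero_mul, zero_add, add_zero]
  haveI : Finite F := by
    have h := K.card_eq
    rw [H.card] at h
    have hq := H.hq
    exact Nat.finite_of_card_ne_zero (by omega)
  apply nonempty_mulEquiv_of_sq (fixSub α) (HeisF.Z F) H.C_le_center HeisF.Z_le_center
    (f := fun g => ⟨S.ca K e2 g, S.cc' K u g, 0⟩) (γ := fun z => ⟨0, 0, K.co z⟩)
  · rintro z ⟨h1, h2⟩
    ext
    · rw [HeisF.mul_a, h1, add_zero, HeisF.one_a]
    · rw [HeisF.mul_c, h2, add_zero, HeisF.one_c]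
    · rw [HeisF.mul_b, h1, mul_zero, add_zero, CharTwo.add_self_eq_zero, HeisF.one_b]
  · intro x y
    rw [HeisF.mem_Z]
    constructor
    · simp only [HeisF.mul_a, HeisF.inv_a, S.ca_mul K]; ring
    · simp only [HeisF.mul_c, HeisF.inv_c, S.cc'_mul K]; ring
  · rintro x ⟨h1, h2⟩
    exact S.mem_of_coords_zero K he h1 h2
  · intro z hz
    exact ⟨S.ca_of_mem K e2 hz, S.cc'_of_mem K u hz⟩
  · intro x hx y hy
    ext
    · simp [HeisF.mul_a]
    · simp [HeisF.mul_c]
    · simp only [HeisF.mul_b, K.co_mul hx hy]; ring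
  · intro z _
    exact ⟨rfl, rfl⟩
  · intro z hz h
    have h1 : K.co z = 0 := congrArg HeisF.b h
    exact K.co_eq_zero hz h1
  · intro x
    refine ⟨S.sq x, ?_⟩
    ext
    · simp only [HeisF.mul_a]; rw [CharTwo.add_self_eq_zero]
    · simp only [HeisF.mul_c]; rw [CharTwo.add_self_eq_zero]
    · simp only [HeisF.mul_b]
      rw [hsq x, K.co_ev]; ring
  · rw [S.card, HeisF.card_eq, K.card_eq, H.card]

end Struct

end Cfsg.Agent.Lib.H2.QN
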