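import Mathlib
import Cfsg.Agent.Lib.H2.QNI
import Cfsg.Agent.Lib.H2.QNG
import Cfsg.Agent.Lib.H2.RTI

set_option autoImplicit false
set_option linter.unusedSectionVars false
set_option linter.style.haveILetI false
set_option linter.unnecessarySimpa false

/-!
# The elliptic case: the unitary group
-/

namespace Cfsg.Agent.Lib.H2.QN

open Subgroup Cfsg.Agent.Lib.H2.L34 Cfsg.Agent.Lib.H2.SU3 Cfsg.Agent.Lib.H13.AutPSU

section AS

variable {F : Type*} [Field F] [Finite F] [CharP F 2]

/-- the Artin-Schreier map -/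
def wp (F : Type*) [Field F] [CharP F 2] : F →+ F :=
  AddMonoidHom.mk' (fun x => x * x + x) (by
    intro x y
    rw [CharTwo.add_mul_self]
    ring)

theorem wp_apply (x : F) : wp F x = x * x + x := rfl

theorem wp_eq_zero {x : F} (h : wp F x = 0) : x = 0 ∨ x = 1 := by
  rw [wp_apply] at h
  have h1 : x * (x + 1) = 0 := by rw [← h]; ring
  rcases mul_eq_zero.mp h1 with h2 | h2
  · exact Or.inl h2
  · right
    have := CharTwo.add_eq_zero.mp h2
    exact this

theorem card_wp_ker : Nat.card (wp F).ker = 2 := by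
  classical
  have h1 : ((wp F).ker : Set F) = {0, 1} := by
    ext x
    simp only [SetLike.mem_coe, AddMonoidHom.mem_ker, Set.mem_insert_iff, Set.mem_singleton_iff]
    constructor
    · exact wp_eq_zero
    · rintro (rfl | rfl)
      · exact map_zero _
      · rw [wp_apply, mul_one, CharTwo.add_self_eq_zero]
  have h2 : Nat.card (wp F).ker = Set.ncard ((wp F).ker : Set F) := rfl
  rw [h2, h1, Set.ncard_pair zero_ne_one]

theorem wp_range_index : (wp F).range.index = 2 := by
  have e1 := AddSubgroup.card_mul_index (wp F).ker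
  rw [AddSubgroup.index_ker, card_wp_ker] at e1
  have e2 := AddSubgroup.card_mul_index (wp F).range
  rw [← e1] at e2
  have hpos : 0 < Nat.card (wp F).range := Nat.card_pos
  have : Nat.card (wp F).range * (wp F).range.index = Nat.card (wp F).range * 2 := by
    rw [e2, mul_comm]
  exact Nat.eq_of_mul_eq_mul_left hpos this

theorem wp_add_mem {d d' : F} (hd : d ∉ (wp F).range) (hd' : d' ∉ (wp F).range) :
    d + d' ∈ (wp F).range := by
  rw [AddSubgroup.add_mem_iff_of_index_two wp_range_index]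
  exact ⟨fun h => absurd h hd, fun h => absurd h hd'⟩

end AS

section

variable {Kf : Type*} [Field Kf] {q : ℕ}

/-- the fixed field -/
def fixF (D : UF Kf q) : Subfield Kf := (D.τ : Kf →+* Kf).eqLocusField (RingHom.id Kf)

theorem mem_fixF (D : UF Kf q) {x : Kf} : x ∈ fixF D ↔ D.τ x = x := Iff.rfl

theorem tau_fixF (D : UF Kf q) (x : fixF D) : D.τ (x : Kf) = x := x.2

variable [Fintype Kf] [CharP Kf 2]

theorem card_fixF (D : UF Kf q) (hK : Nat.card Kf = q ^ 2) :
    Nat.card (fixF D) = q := by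
  have h := card_fixK (D := D) hK
  exact (Nat.card_congr (Equiv.subtypeEquivRight (fun x => Iff.rfl))).trans h

/-- an element of trace one with prescribed norm in the fixed field -/
theorem exists_theta (D : UF Kf q) (d : fixF D)
    (hd : ∀ x : fixF D, x * x + x + d ≠ 0) :
    ∃ θ : Kf, θ + D.τ θ = 1 ∧ θ * D.τ θ = d := by
  haveI : CharP (fixF D) 2 := by
    apply CharTwo.of_one_ne_zero_of_two_eq_zero one_ne_zero
    apply Subtype.ext
    push_cast
    exact CharTwo.two_eq_zero
  obtain ⟨θ0, hθ0⟩ := D.tr_surj 1 (map_one _)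
  have hτθ0 : D.τ θ0 = θ0 + 1 := by
    have : D.τ θ0 = 1 - θ0 := by rw [← hθ0]; ring
    rw [this, CharTwo.sub_eq_add, add_comm]
  have hd0fix : θ0 * θ0 + θ0 ∈ fixF D := by
    rw [mem_fixF, map_add, map_mul, hτθ0]
    have := CharTwo.add_self_eq_zero (1 : Kf)
    linear_combination (θ0 + 1) * this
  set d0 : fixF D := ⟨θ0 * θ0 + θ0, hd0fix⟩ with hd0
  have h1 : d ∉ (wp (fixF D)).range := by
    rintro ⟨x, hx⟩
    apply hd x
    rw [wp_apply] at hx
    rw [hx, CharTwo.add_self_eq_zero]
  have h2 : d0 ∉ (wp (fixF D)).range := by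
    rintro ⟨e, he⟩
    have he' : (e : Kf) * e + e = θ0 * θ0 + θ0 := by
      have := congrArg Subtype.val he
      rw [wp_apply] at this
      simpa using this
    have h3 : (θ0 + e) * (θ0 + e + 1) = 0 := by
      have := CharTwo.add_self_eq_zero (θ0 * θ0 + θ0)
      linear_combination he' + this + (CharTwo.two_eq_zero (R := Kf)) * (θ0 * e)
    have h4 : θ0 ∈ fixF D := by
      rcases mul_eq_zero.mp h3 with h5 | h5
      · have : θ0 = e := CharTwo.add_eq_zero.mp h5
        rw [this]; exact e.2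
      · have : θ0 + e = 1 := CharTwo.add_eq_zero.mp h5
        have h6 : θ0 = 1 + e := by
          rw [← this, add_assoc, CharTwo.add_self_eq_zero, add_zero]
        rw [h6]
        exact add_mem (one_mem _) e.2
    rw [mem_fixF] at h4
    rw [h4, CharTwo.add_self_eq_zero] at hθ0
    exact zero_ne_one hθ0
  obtain ⟨e, he⟩ := wp_add_mem h1 h2
  have he' : (e : Kf) * e + e = d + (θ0 * θ0 + θ0) := by
    have := congrArg Subtype.val he
    rw [wp_apply] at this
    simpa using this
  refine ⟨θ0 + e, ?_, ?_⟩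
  · rw [map_add, tau_fixF, hτθ0]
    have := CharTwo.add_self_eq_zero (e : Kf)
    have h0 := CharTwo.add_self_eq_zero θ0
    linear_combination this + h0
  · rw [map_add, tau_fixF, hτθ0]
    have h0 := CharTwo.add_self_eq_zero (θ0 * θ0 + θ0)
    have h2' := CharTwo.two_eq_zero (R := Kf)
    linear_combination he' + h0 + h2' * (θ0 * e)

end

namespace Struct

variable {T : Type*} [Group T] {q : ℕ} {α ρ : MulAut T} [Finite T]
  {Kf : Type*} [Field Kf] [Fintype Kf] [CharP Kf 2]

/-- the elliptic case: if all involutions are central the group is the unitary one -/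
theorem tu_of_ell (S : Struct q α ρ) (D : UF Kf q) (hKf : Fintype.card Kf = q ^ 2)
    (K : Coord (fixSub α) (ρ ^ (q / 2)) (fixF D))
    (hell : ∀ g : T, g * g = 1 → g ∈ fixSub α) : Nonempty (T ≃* TU D) := by
  haveI := S.charP K
  have H := S.hyp
  have SC := S.cc
  have hev1 : K.ev 1 ≠ 1 := fun h => one_ne_zero (K.ev_eq_one h)
  -- the frame
  obtain ⟨g0, hg0⟩ := S.exists_not_mem K
  have hs0 : K.co (g0 * g0) ≠ 0 := by
    intro h
    exact hg0 (hell g0 (K.co_eq_zero (S.sq g0) h))
  obtain ⟨r, hr⟩ := FiniteField.isSquare_of_char_two (ringChar.eq (fixF D) 2) (K.co (g0 * g0))⁻¹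
  set e1 := K.act ρ r g0 with he1
  have he1sq : e1 * e1 = K.ev 1 := by
    rw [he1, S.sq_act K, ← hr, inv_mul_cancel₀ hs0]
  have he1C : e1 ∉ fixSub α := by
    intro h
    rw [H.C_sq h] at he1sq
    exact hev1 he1sq.symm
  obtain ⟨k, hk⟩ := S.exists_noncomm K he1C
  obtain ⟨e2, he⟩ := S.exists_normalised K hk
  set d := K.co (e2 * e2) with hd
  have hsq : ∀ g : T, g * g = K.ev (S.ca K e2 g * S.ca K e2 g + S.ca K e2 g * S.cc' K e1 g +
      d * (S.cc' K e1 g * S.cc' K e1 g)) := by
    intro g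
    rw [S.sq_formula K he g, he1sq, K.co_ev, one_mul]
  have haniso : ∀ x : fixF D, x * x + x + d ≠ 0 := by
    intro x hx
    obtain ⟨g, hga, hgc⟩ := S.exists_coords K he x 1
    have h1 := hsq g
    rw [hga, hgc, mul_one, mul_one, mul_one, hx, K.ev_zero] at h1
    have h2 := S.cc'_of_mem K e1 (hell g h1)
    rw [hgc] at h2
    exact one_ne_zero h2
  obtain ⟨θ, hθ1, hθ2⟩ := exists_theta D d haniso
  have hθfix : D.τ θ ≠ θ := by
    intro h
    rw [h, CharTwo.add_self_eq_zero] at hθ1
    exact zero_ne_one hθ1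
  -- the map
  let φ : T → Kf := fun g => ((S.ca K e2 g : fixF D) : Kf) + ((S.cc' K e1 g : fixF D) : Kf) * θ
  have hφ : ∀ g, φ g = ((S.ca K e2 g : fixF D) : Kf) + ((S.cc' K e1 g : fixF D) : Kf) * θ := fun g => rfl
  have hφmul : ∀ x y, φ (x * y) = φ x + φ y := by
    intro x y
    rw [hφ, hφ, hφ, S.ca_mul K, S.cc'_mul K]
    push_cast
    ring
  have hφ0 : ∀ g, φ g = 0 → g ∈ fixSub α := by
    intro g hg
    rw [hφ] at hg
    have hc : S.cc' K e1 g = 0 := by
      by_contra hc
      have hc' : ((S.cc' K e1 g : fixF D) : Kf) ≠ 0 := fun h => hc (Subtype.ext h)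
      apply hθfix
      have h1 : θ = -((S.ca K e2 g : fixF D) : Kf) / ((S.cc' K e1 g : fixF D) : Kf) := by
        field_simp
        linear_combination hg
      rw [h1, map_div₀, map_neg, tau_fixF, tau_fixF]
    have ha : S.ca K e2 g = 0 := by
      rw [hc] at hg
      apply Subtype.ext
      simpa using hg
    exact S.mem_of_coords_zero K he ha hc
  have hnm : ∀ g, ((K.co (g * g) : fixF D) : Kf) = φ g * D.τ (φ g) := by
    intro g
    rw [hsq g, K.co_ev, hφ, map_add, map_mul, tau_fixF, tau_fixF]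
    push_cast
    have hτθ : D.τ θ = 1 - θ := by rw [← hθ1]; ring
    rw [hτθ] at hθ2 ⊢
    linear_combination (-((S.cc' K e1 g : fixF D) : Kf) * ((S.cc' K e1 g : fixF D) : Kf)) * hθ2
  have hcen : ∀ z ∈ Subgroup.center (TU D), z * z = 1 := by
    intro z hz
    rw [TU.mul_self_eq, TU.mem_center_iff.mp hz]
    have : nmK D (0 : Kf) = 0 := Subtype.ext (by simp)
    rw [this, TU.zU_zero]
  haveI : Finite (TU D) := Finite.of_equiv _ (Cfsg.Agent.Lib.H2.RT.tuEquiv D).symm
  apply nonempty_mulEquiv_of_sq (fixSub α) (Subgroup.center (TU D)) H.C_le_center le_rfl hcen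
    (f := fun g => TU.lift (D := D) (φ g))
    (γ := fun z => TU.zU ⟨((K.co z : fixF D) : Kf), (K.co z).2⟩)
  · intro x y
    rw [TU.mem_center_iff]
    simp only [TU.ca_mul, TU.ca_inv, TU.ca_lift, hφmul]
    ring
  · intro x hx
    rw [TU.mem_center_iff, TU.ca_lift] at hx
    exact hφ0 x hx
  · intro z hz
    rw [TU.mem_center_iff, TU.ca_lift, hφ, S.ca_of_mem K e2 hz, S.cc'_of_mem K e1 hz]
    simp
  · intro x hx y hy
    rw [← TU.zU_add]
    congr 1
    apply Subtype.ext
    rw [K.co_mul hx hy]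
    rfl
  · intro z _
    rw [TU.mem_center_iff]
    rfl
  · intro z hz h
    rw [← TU.zU_zero] at h
    have h1 := congrArg Subtype.val (TU.zU_injective h)
    have h2 : K.co z = 0 := Subtype.ext h1
    exact K.co_eq_zero hz h2
  · intro x
    refine ⟨S.sq x, ?_⟩
    rw [TU.mul_self_eq, TU.ca_lift]
    congr 1
    apply Subtype.ext
    exact hnm x
  · rw [S.card, Cfsg.Agent.Lib.H2.RT.card_TU D hKf]
    ring

end Struct

end Cfsg.Agent.Lib.H2.QN
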