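import Mathlib
import Cfsg.Agent.Lib.H2.QNJ
import Cfsg.Agent.Lib.H2.QNK

set_option autoImplicit false
set_option linter.unusedSectionVars false
set_option linter.style.haveILetI false
set_option linter.unnecessarySimpa false

/-!
# 2-groups with a commuting involution and Singer automorphism: the main theorem
-/

namespace Cfsg.Agent.Lib.H2.QN

open Subgroup Cfsg.Agent.Lib.H2.L34 Cfsg.Agent.Lib.H2.RT Cfsg.Agent.Lib.H2.SU3
  Cfsg.Agent.Lib.H13.AutPSU

universe u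

variable {Q : Type u} [Group Q] [Finite Q]

/-- the hypotheses of the statement give `Hyp` -/
theorem hyp_of (hQ : IsPGroup 2 Q) (n : ℕ) (hn : 2 ≤ n)
    (α ρ : MulAut Q) (hα : orderOf α = 2) (hρ : orderOf ρ = 2 ^ n - 1) (hc : Commute α ρ)
    (C : Subgroup Q) (hC : ∀ x : Q, x ∈ C ↔ α x = x) (hCcard : Nat.card ↥C = 2 ^ n)
    (htr : ∀ x y : Q, x ∈ C → y ∈ C → x ≠ 1 → y ≠ 1 → ∃ k : ℕ, (ρ ^ k) x = y) :
    Hyp (2 ^ n) α ρ := by
  classical
  have hq4 : 4 ≤ 2 ^ n := by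
    calc 4 = 2 ^ 2 := by norm_num
      _ ≤ 2 ^ n := Nat.pow_le_pow_right (by norm_num) hn
  have hCfix : fixSub α = C := by
    ext x
    rw [mem_fixSub, hC]
  have hinv : ∀ x, α (α x) = x := by
    intro x
    have h : α ^ 2 = 1 := by rw [← hα]; exact pow_orderOf_eq_one α
    have h2 : (α ^ 2) x = x := by rw [h]; rfl
    simpa [pow_succ, MulAut.mul_apply] using h2
  have hcomm : ∀ x, α (ρ x) = ρ (α x) := by
    intro x
    have := congrArg (fun f : MulAut Q => f x) hc.eq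
    simpa [MulAut.mul_apply] using this
  have hcommpow : ∀ (k : ℕ) x, α ((ρ ^ k) x) = (ρ ^ k) (α x) := by
    intro k x
    induction k with
    | zero => rw [pow_zero_apply, pow_zero_apply]
    | succ k ih => rw [pow_succ_apply, pow_succ_apply, hcomm, ih]
  have hper : ∀ x, (ρ ^ (2 ^ n - 1)) x = x := by
    intro x
    have h : ρ ^ (2 ^ n - 1) = 1 := by rw [← hρ]; exact pow_orderOf_eq_one ρ
    rw [h]; rfl
  have hpowmod : ∀ (k : ℕ) (x : Q), (ρ ^ k) x = (ρ ^ (k % (2 ^ n - 1))) x := by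
    intro k x
    conv_lhs => rw [← Nat.mod_add_div k (2 ^ n - 1)]
    rw [pow_add_apply, pow_mul_apply_fixed ρ (2 ^ n - 1) _ x hper]
  have hpos : 0 < 2 ^ n - 1 := by omega
  refine ⟨hQ, hq4, hinv, hcomm, hper, ?_, by rw [hCfix, hCcard]⟩
  intro k x hx hx1
  -- a fixed point in `C`
  have hFinv : ∀ y, y ∈ fixSub (ρ ^ k) ↔ α y ∈ fixSub (ρ ^ k) := by
    intro y
    rw [mem_fixSub, mem_fixSub, ← hcommpow]
    constructor
    · intro h; rw [h]
    · intro h; exact α.injective h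
  have hFne : fixSub (ρ ^ k) ≠ ⊥ := by
    intro h
    have : x ∈ fixSub (ρ ^ k) := hx
    rw [h, Subgroup.mem_bot] at this
    exact hx1 this
  obtain ⟨c, hcF, hc1, hαc⟩ := exists_fixed_ne_one hQ α hinv (fixSub (ρ ^ k)) hFinv hFne
  have hcC : c ∈ C := (hC c).mpr hαc
  rw [mem_fixSub] at hcF
  -- the orbit map
  let _ : Fintype C := Fintype.ofFinite _
  have hmemC : ∀ j : ℕ, (ρ ^ j) c ∈ C := by
    intro j
    rw [hC, hcommpow, hαc]
  let f : Fin (2 ^ n - 1) → {y : C // y ≠ 1} := fun i =>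
    ⟨⟨(ρ ^ (i : ℕ)) c, hmemC _⟩, fun e => by
      have h1 : (ρ ^ (i : ℕ)) c = 1 := congrArg Subtype.val e
      have h2 : (ρ ^ (i : ℕ)) c = (ρ ^ (i : ℕ)) 1 := by rw [h1, map_one]
      exact hc1 ((ρ ^ (i : ℕ)).injective h2)⟩
  have hfsurj : Function.Surjective f := by
    rintro ⟨⟨y, hy⟩, hy1⟩
    have hy1' : y ≠ 1 := fun e => hy1 (Subtype.ext e)
    obtain ⟨j, hj⟩ := htr c y hcC hy hc1 hy1'
    refine ⟨⟨j % (2 ^ n - 1), Nat.mod_lt _ hpos⟩, ?_⟩
    apply Subtype.ext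
    apply Subtype.ext
    change (ρ ^ (j % (2 ^ n - 1))) c = y
    rw [← hpowmod, hj]
  have hcard : Fintype.card (Fin (2 ^ n - 1)) = Fintype.card {y : C // y ≠ 1} := by
    rw [Fintype.card_fin, Fintype.card_subtype_compl, Fintype.card_subtype_eq,
      ← Nat.card_eq_fintype_card, hCcard]
  have hfinj : Function.Injective f :=
    ((Fintype.bijective_iff_surjective_and_card f).mpr ⟨hfsurj, hcard⟩).1
  have h0 : f ⟨k % (2 ^ n - 1), Nat.mod_lt _ hpos⟩ = f ⟨0, hpos⟩ := by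
    apply Subtype.ext
    apply Subtype.ext
    change (ρ ^ (k % (2 ^ n - 1))) c = (ρ ^ 0) c
    rw [← hpowmod, hcF, pow_zero_apply]
  have h1 := congrArg Fin.val (hfinj h0)
  exact Nat.dvd_of_mod_eq_zero h1

theorem struct_of (hQ : IsPGroup 2 Q) (hna : ¬ IsMulCommutative Q) (n : ℕ) (hn : 2 ≤ n)
    (α ρ : MulAut Q) (hα : orderOf α = 2) (hρ : orderOf ρ = 2 ^ n - 1) (hc : Commute α ρ)
    (C : Subgroup Q) (hC : ∀ x : Q, x ∈ C ↔ α x = x) (hCcard : Nat.card ↥C = 2 ^ n)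
    (htr : ∀ x y : Q, x ∈ C → y ∈ C → x ≠ 1 → y ≠ 1 → ∃ k : ℕ, (ρ ^ k) x = y) :
    Struct (2 ^ n) α ρ := by
  have H := hyp_of hQ n hn α ρ hα hρ hc C hC hCcard htr
  rcases H.main with hab | hst
  · exfalso
    exact hna ⟨⟨fun a b => hab a b⟩⟩
  · exact hst

/-- field coordinates on the fixed points -/
theorem Struct.exists_coord' {q : ℕ} {α ρ : MulAut Q} (S : Struct q α ρ) :
    ∃ (S0 : Type u) (_ : Field S0), Nonempty (Coord (fixSub α) (ρ ^ (q / 2)) S0) := by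
  have H := S.hyp
  obtain ⟨c1, hc1, hc11⟩ := H.exists_C_ne_one
  have hτC : ∀ c, c ∈ fixSub α ↔ (ρ ^ (q / 2)) c ∈ fixSub α := by
    intro c
    rw [mem_fixSub, mem_fixSub, H.comm_pow]
    constructor
    · intro h; rw [h]
    · intro h; exact (ρ ^ (q / 2)).injective h
  have htr : ∀ c ∈ fixSub α, c ≠ 1 → ∃ k : ℕ, ((ρ ^ (q / 2)) ^ k) c1 = c := by
    intro c hc hc1'
    obtain ⟨j, hj⟩ := H.trans hc1 hc11 hc hc1'
    exact ⟨j + j, by rw [pow_add_apply, S.tau_tau, hj]⟩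
  obtain ⟨S0, inst, K, -⟩ := exists_coord (fixSub α) (ρ ^ (q / 2)) hτC
    (fun c hc c' _ => by rw [H.C_comm hc c']) c1 hc1 hc11 htr
  exact ⟨S0, inst, ⟨K⟩⟩

/-- the main theorem -/
theorem main_iso (hQ : IsPGroup 2 Q) (hna : ¬ IsMulCommutative Q) (n : ℕ) (hn : 2 ≤ n)
    (α ρ : MulAut Q) (hα : orderOf α = 2) (hρ : orderOf ρ = 2 ^ n - 1) (hc : Commute α ρ)
    (C : Subgroup Q) (hC : ∀ x : Q, x ∈ C ↔ α x = x) (hCcard : Nat.card ↥C = 2 ^ n)
    (htr : ∀ x y : Q, x ∈ C → y ∈ C → x ≠ 1 → y ≠ 1 → ∃ k : ℕ, (ρ ^ k) x = y) :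
    (∃ (F : Type) (_ : Field F) (_ : Fintype F), Fintype.card F = 4 ^ n ∧
        ∃ S : Sylow 2 (Cfsg.PSU 3 F (2 ^ n)),
          Nonempty (Q ≃* ↥(S : Subgroup (Cfsg.PSU 3 F (2 ^ n))))) ∨
      (∃ (F : Type) (_ : Field F) (_ : Fintype F), Fintype.card F = 2 ^ n ∧
        ∃ S : Sylow 2 (Matrix.ProjectiveSpecialLinearGroup (Fin 3) F),
          Nonempty (Q ≃* ↥(S : Subgroup (Matrix.ProjectiveSpecialLinearGroup (Fin 3) F)))) := by
  classical
  haveI : Fact (Nat.Prime 2) := ⟨Nat.prime_two⟩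
  have S := struct_of hQ hna n hn α ρ hα hρ hc C hC hCcard htr
  have H := S.hyp
  obtain ⟨S0, instS0, ⟨K0⟩⟩ := S.exists_coord'
  have hS0card : Nat.card S0 = 2 ^ n := by rw [K0.card_eq, H.card]
  haveI : Finite S0 := Nat.finite_of_card_ne_zero (by rw [hS0card]; positivity)
  letI : Fintype S0 := Fintype.ofFinite S0
  have hn0 : n ≠ 0 := by omega
  by_cases hinv : ∃ u : Q, u * u = 1 ∧ u ∉ fixSub α
  · -- the linear case
    right
    obtain ⟨u, hu, huC⟩ := hinv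
    have hcard : Nat.card (GaloisField 2 n) = 2 ^ n := GaloisField.card 2 n hn0
    let inst : Fintype (GaloisField 2 n) := Fintype.ofFinite _
    have hF : Fintype.card (GaloisField 2 n) = 2 ^ n := by
      rw [← Nat.card_eq_fintype_card, hcard]
    refine ⟨GaloisField 2 n, inferInstance, inst, hF, ?_⟩
    have hcc : Fintype.card S0 = Fintype.card (GaloisField 2 n) := by
      rw [hF, ← Nat.card_eq_fintype_card, hS0card]
    let φ : S0 ≃+* GaloisField 2 n := FiniteField.ringEquivOfCardEq hcc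
    obtain ⟨e1⟩ := S.heis_of_inv (K0.map φ) hu huC
    haveI : CharP (GaloisField 2 n) 2 := inferInstance
    let P : Sylow 2 (Matrix.ProjectiveSpecialLinearGroup (Fin 3) (GaloisField 2 n)) :=
      Cfsg.Agent.Lib.H13.AutPSL.sylU 2
    obtain ⟨e2⟩ := HeisF.nonempty_equiv_sylow P
    exact ⟨P, ⟨e1.trans e2⟩⟩
  · -- the unitary case
    left
    push Not at hinv
    have h2n0 : 2 * n ≠ 0 := by omega
    have hcard : Nat.card (GaloisField 2 (2 * n)) = 2 ^ (2 * n) := GaloisField.card 2 (2 * n) h2n0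
    let inst : Fintype (GaloisField 2 (2 * n)) := Fintype.ofFinite _
    have hF : Fintype.card (GaloisField 2 (2 * n)) = 4 ^ n := by
      rw [← Nat.card_eq_fintype_card, hcard, pow_mul]; norm_num
    have hF' : Fintype.card (GaloisField 2 (2 * n)) = (2 ^ n) ^ 2 := by
      rw [hF, ← pow_mul, mul_comm, pow_mul]; norm_num
    refine ⟨GaloisField 2 (2 * n), inferInstance, inst, hF, ?_⟩
    haveI : CharP (GaloisField 2 (2 * n)) 2 := inferInstance
    let D : UF (GaloisField 2 (2 * n)) (2 ^ n) := UF.ofCard (p := 2) (f := n) rfl hF'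
    have hfix : Nat.card (fixF D) = 2 ^ n := card_fixF D (by rw [Nat.card_eq_fintype_card, hF'])
    haveI : Finite (fixF D) := Nat.finite_of_card_ne_zero (by rw [hfix]; positivity)
    letI : Fintype (fixF D) := Fintype.ofFinite _
    have hcc : Fintype.card S0 = Fintype.card (fixF D) := by
      rw [← Nat.card_eq_fintype_card, ← Nat.card_eq_fintype_card, hS0card, hfix]
    let φ : S0 ≃+* fixF D := FiniteField.ringEquivOfCardEq hcc
    obtain ⟨e1⟩ := S.tu_of_ell D hF' (K0.map φ) (fun g hg => by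
      by_contra hgC
      exact hgC (hinv g hg))
    let P : Sylow 2 (Cfsg.PSU 3 (GaloisField 2 (2 * n)) (2 ^ n)) := Sylow.nonempty.some
    obtain ⟨e2⟩ := nonempty_equiv_TU_PSU D P
    exact ⟨P, ⟨e1.trans e2.symm⟩⟩

end Cfsg.Agent.Lib.H2.QN
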