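import Mathlib
import Cfsg.Agent.Lib.H2.CTSol

/-!
# Solvable subgroups of groups in which commuting is transitive outside the centre

Abstract group theory used for the solubilisers in `SL₂(q)`, `q` odd.
-/

set_option autoImplicit false

namespace Cfsg.Agent.Lib.H2.QSol

open scoped commutatorElement

open Cfsg.Agent.Lib.H2.CTSol

variable {G : Type*} [Group G]

/-- commuting is transitive on the non-central elements -/
def IsCTZ (G : Type*) [Group G] : Prop :=
  ∀ a b c : G, b ∉ Subgroup.center G → Commute a b → Commute b c → Commute a c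

theorem Cn_eqZ (hCT : IsCTZ G) {a b : G} (ha : a ∉ Subgroup.center G) (hb : b ∉ Subgroup.center G)
    (hab : Commute a b) : Cn a = Cn b := by
  ext g
  rw [mem_Cn, mem_Cn]
  constructor
  · intro h
    exact hCT g a b ha h hab
  · intro h
    exact hCT g b a hb h hab.symm

theorem conj_not_mem_center {a : G} (ha : a ∉ Subgroup.center G) (g : G) :
    g * a * g⁻¹ ∉ Subgroup.center G := by
  intro h
  apply ha
  have : a = g⁻¹ * (g * a * g⁻¹) * g⁻¹⁻¹ := by group
  rw [this]
  exact (inferInstance : (Subgroup.center G).Normal).conj_mem _ h _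

theorem mem_NC_iffZ (hCT : IsCTZ G) {a g : G} (ha : a ∉ Subgroup.center G) :
    g ∈ NC a ↔ Commute (g * a * g⁻¹) a := by
  constructor
  · intro hg
    have := (Subgroup.mem_normalizer_iff.1 hg a).1 (self_mem_Cn a)
    exact mem_Cn.1 this
  · intro hc
    have he : Cn (g * a * g⁻¹) = Cn a := Cn_eqZ hCT (conj_not_mem_center ha g) ha hc
    rw [NC, Subgroup.mem_normalizer_iff]
    intro h
    show h ∈ Cn a ↔ g * h * g⁻¹ ∈ Cn a
    rw [← mem_Cn_conj (g := g) (a := a) (h := h), he]

theorem NC_eqZ (hCT : IsCTZ G) {a b : G} (ha : a ∉ Subgroup.center G) (hb : b ∉ Subgroup.center G)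
    (hab : Commute a b) : NC a = NC b := by
  unfold NC
  rw [Cn_eqZ hCT ha hb hab]

/-- a solvable non-central subgroup has a normal subgroup, not central, whose commutators are
central -/
theorem exists_normal_of_solvable (L : Subgroup G) (hs : Group.IsSolvable L)
    (hL : ¬ L ≤ Subgroup.center G) :
    ∃ D : Subgroup G, D ≤ L ∧ ¬ D ≤ Subgroup.center G ∧ (∀ g ∈ L, ∀ d ∈ D, g * d * g⁻¹ ∈ D) ∧
      (∀ a ∈ D, ∀ b ∈ D, ⁅a, b⁆ ∈ Subgroup.center G) := by
  classical
  obtain ⟨n, hn⟩ := (Group.isSolvable_def L).1 hs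
  have hex : ∃ n, (derivedSeries L n).map L.subtype ≤ Subgroup.center G := by
    refine ⟨n, ?_⟩
    rw [hn, Subgroup.map_bot]
    exact bot_le
  set k := Nat.find hex with hk
  have hk0 : k ≠ 0 := by
    intro h0
    have := Nat.find_spec hex
    rw [← hk, h0, derivedSeries_zero] at this
    apply hL
    intro x hx
    apply this
    exact ⟨⟨x, hx⟩, Subgroup.mem_top _, rfl⟩
  obtain ⟨j, hj⟩ : ∃ j, k = j + 1 := ⟨k - 1, by omega⟩
  have hjne : ¬ (derivedSeries L j).map L.subtype ≤ Subgroup.center G :=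
    Nat.find_min hex (by omega : j < k)
  have hjs : (derivedSeries L (j + 1)).map L.subtype ≤ Subgroup.center G := by
    rw [← hj]; exact Nat.find_spec hex
  have hDn : (derivedSeries L j).Normal := derivedSeries_normal L j
  refine ⟨(derivedSeries L j).map L.subtype, ?_, hjne, ?_, ?_⟩
  · rintro x ⟨y, -, rfl⟩
    exact y.2
  · rintro g hg d ⟨d', hd', rfl⟩
    refine ⟨⟨g, hg⟩ * d' * ⟨g, hg⟩⁻¹, hDn.conj_mem d' hd' _, ?_⟩
    simp
  · rintro a ⟨a', ha', rfl⟩ b ⟨b', hb', rfl⟩
    apply hjs
    refine ⟨⁅a', b'⁆, ?_, ?_⟩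
    · rw [derivedSeries_succ]
      exact Subgroup.commutator_mem_commutator ha' hb'
    · simp [commutatorElement_def]

/-- a group with central kernel onto a solvable group is solvable -/
theorem isSolvable_of_ker_le_center {H : Type*} [Group H] (f : G →* H)
    (hk : f.ker ≤ Subgroup.center G) (hH : Group.IsSolvable H) : Group.IsSolvable G := by
  have hker : Group.IsSolvable f.ker := by
    apply Group.isSolvable_of_comm
    intro a b
    apply Subtype.ext
    have := hk a.2
    rw [Subgroup.mem_center_iff] at this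
    exact (this b).symm
  exact Group.isSolvable_of_ker_le_range (f.ker.subtype) f (by rw [Subgroup.range_subtype])

/-- if `s`, `t` normalise the solvable subgroup `D` and commute modulo `D`, they generate a solvable
group -/
theorem isSolvable_closure_pair (D : Subgroup G) (hD : Group.IsSolvable D) {s t : G}
    (hs : s ∈ Subgroup.normalizer (D : Set G)) (ht : t ∈ Subgroup.normalizer (D : Set G))
    (hst : ⁅s, t⁆ ∈ D) : Group.IsSolvable (Subgroup.closure ({s, t} : Set G)) := by
  set N := Subgroup.normalizer (D : Set G) with hN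
  have hMN : Subgroup.closure ({s, t} : Set G) ≤ N := by
    rw [Subgroup.closure_le]
    rintro z (rfl | rfl)
    · exact hs
    · exact ht
  have : (D.subgroupOf N).Normal := Subgroup.normal_in_normalizer
  let π : N →* N ⧸ D.subgroupOf N := QuotientGroup.mk' _
  let φ : Subgroup.closure ({s, t} : Set G) →* N ⧸ D.subgroupOf N :=
    π.comp (Subgroup.inclusion hMN)
  have hsM : s ∈ Subgroup.closure ({s, t} : Set G) := Subgroup.subset_closure (by simp)
  have htM : t ∈ Subgroup.closure ({s, t} : Set G) := Subgroup.subset_closure (by simp)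
  -- the images of `s`, `t` commute
  have hcomm : φ ⟨s, hsM⟩ * φ ⟨t, htM⟩ = φ ⟨t, htM⟩ * φ ⟨s, hsM⟩ := by
    have hcN : ⁅s, t⁆ ∈ N := N.mul_mem (N.mul_mem (N.mul_mem hs ht) (N.inv_mem hs)) (N.inv_mem ht)
    have h1 : π ⟨⁅s, t⁆, hcN⟩ = 1 := by
      rw [QuotientGroup.mk'_apply, QuotientGroup.eq_one_iff, Subgroup.mem_subgroupOf]
      exact hst
    have h2 : (⟨s, hs⟩ : N) * ⟨t, ht⟩ = ⟨⁅s, t⁆, hcN⟩ * (⟨t, ht⟩ * ⟨s, hs⟩) := by
      apply Subtype.ext
      show s * t = ⁅s, t⁆ * (t * s)
      rw [commutatorElement_def]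
      group
    show π (⟨s, hs⟩ : N) * π (⟨t, ht⟩ : N) = π (⟨t, ht⟩ : N) * π (⟨s, hs⟩ : N)
    rw [← map_mul, ← map_mul, h2, map_mul, h1, one_mul]
  have hrange : φ.range ≤ Subgroup.closure ({φ ⟨s, hsM⟩, φ ⟨t, htM⟩} : Set (N ⧸ D.subgroupOf N)) := by
    rw [MonoidHom.range_eq_map, ← Subgroup.closure_closure_coe_preimage, MonoidHom.map_closure,
      Subgroup.closure_le]
    rintro _ ⟨z, hz, rfl⟩
    apply Subgroup.subset_closure
    rcases hz with hz | hz
    · left
      congr 1
      exact Subtype.ext hz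
    · right
      congr 1
      exact Subtype.ext hz
  have hab : ∀ a b : φ.range, a * b = b * a := by
    have hk : ∀ x ∈ ({φ ⟨s, hsM⟩, φ ⟨t, htM⟩} : Set (N ⧸ D.subgroupOf N)),
        ∀ y ∈ ({φ ⟨s, hsM⟩, φ ⟨t, htM⟩} : Set (N ⧸ D.subgroupOf N)), x * y = y * x := by
      rintro x (rfl | rfl) y (rfl | rfl)
      · rfl
      · exact hcomm
      · exact hcomm.symm
      · rfl
    intro a b
    have := (Subgroup.isMulCommutative_closure hk).is_comm.comm ⟨a.1, hrange a.2⟩ ⟨b.1, hrange b.2⟩
    apply Subtype.ext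
    exact congrArg (fun z : Subgroup.closure ({φ ⟨s, hsM⟩, φ ⟨t, htM⟩} : Set (N ⧸ D.subgroupOf N)) =>
      (z : N ⧸ D.subgroupOf N)) this
  have hR : Group.IsSolvable φ.range := Group.isSolvable_of_comm hab
  -- the kernel embeds in `D`
  have hkerD : ∀ m : φ.ker, ((m : Subgroup.closure ({s, t} : Set G)) : G) ∈ D := by
    intro m
    have h1 : φ m.1 = 1 := m.2
    have h2 : π (Subgroup.inclusion hMN m.1) = 1 := h1
    rw [QuotientGroup.mk'_apply, QuotientGroup.eq_one_iff, Subgroup.mem_subgroupOf] at h2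
    exact h2
  let ψ : φ.ker →* D :=
    { toFun := fun m => ⟨((m : Subgroup.closure ({s, t} : Set G)) : G), hkerD m⟩
      map_one' := rfl
      map_mul' := fun _ _ => rfl }
  have hK : Group.IsSolvable φ.ker := by
    apply Group.isSolvable_of_isSolvable_injective (f := ψ)
    intro a b hab'
    apply Subtype.ext
    apply Subtype.ext
    exact congrArg (fun z : D => (z : G)) hab'
  exact Group.isSolvable_of_ker_le_range (φ.ker.subtype) φ.rangeRestrict
    (by rw [MonoidHom.ker_rangeRestrict, Subgroup.range_subtype])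

/-- preimages under a homomorphism onto a group: the size multiplies by the order of the kernel -/
theorem ncard_preimage {H : Type*} [Group H] [Finite G] (f : G →* H) (hf : Function.Surjective f)
    (S : Set H) : (f ⁻¹' S).ncard = Nat.card f.ker * S.ncard := by
  classical
  have hinv : ∀ h : H, ∃ g : G, f g = h := hf
  choose σ hσ using hinv
  let e : f.ker × S → G := fun p => σ p.2 * p.1
  have hinj : Function.Injective e := by
    rintro ⟨k, s⟩ ⟨k', s'⟩ h
    have h' : σ s * k = σ s' * k' := h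
    have h1 := congrArg f h'
    rw [map_mul, map_mul, hσ, hσ, k.2, k'.2, mul_one, mul_one] at h1
    have hs : s = s' := Subtype.ext h1
    subst hs
    have hk : (k : G) = k' := mul_left_cancel h'
    rw [Subtype.ext hk]
  have hrange : Set.range e = f ⁻¹' S := by
    ext g
    constructor
    · rintro ⟨⟨k, s⟩, rfl⟩
      show f (σ s * k) ∈ S
      rw [map_mul, hσ, k.2, mul_one]
      exact s.2
    · intro hg
      have hg' : f g ∈ S := hg
      refine ⟨(⟨(σ (f g))⁻¹ * g, ?_⟩, ⟨f g, hg'⟩), ?_⟩
      · rw [MonoidHom.mem_ker, map_mul, map_inv, hσ, inv_mul_cancel]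
      · show σ (f g) * ((σ (f g))⁻¹ * g) = g
        group
  rw [← hrange, Set.ncard_range_of_injective hinj, Nat.card_prod, Nat.card_coe_set_eq]

end Cfsg.Agent.Lib.H2.QSol
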