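import Mathlib
import Cfsg.Agent.Lib.H5.PSL2Klein
import Cfsg.Agent.Lib.H2.PSol4
import Cfsg.Agent.Lib.H2.QSol1

/-!
# `SL₂` in odd characteristic: anticommuting elements and quaternion subgroups
-/

set_option autoImplicit false

namespace Cfsg.Agent.Lib.H2.QSol

open scoped commutatorElement

open Matrix Cfsg.Agent.Lib.H4.Dickson Cfsg.Agent.Lib.H12 Cfsg.Agent.Lib.H2.CTSol
  Cfsg.Agent.Lib.H2.PSol

variable {F : Type*} [Field F]

local notation "SL2" => Matrix.SpecialLinearGroup (Fin 2) F
local notation "M2" => Matrix (Fin 2) (Fin 2) F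

theorem tr_eq_trace (g : SL2) : tr g = (g : M2).trace := (trace_eq g).symm

theorem tr_neg (g : SL2) : tr (-g) = -tr g := by
  unfold tr
  simp only [Matrix.SpecialLinearGroup.coe_neg, Matrix.neg_apply]
  ring

theorem mem_center_iff' (g : SL2) : g ∈ Subgroup.center SL2 ↔ g = 1 ∨ g = -1 := by
  constructor
  · exact sl2_center_cases g
  · rintro (rfl | rfl)
    · exact Subgroup.one_mem _
    · exact sl2_neg_one_mem_center

theorem nonScalar_of_not_mem_center {g : SL2} (h : g ∉ Subgroup.center SL2) :
    NonScalar (g : M2) := by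
  by_contra hn
  exact h (sl2_mem_center_of_not_nonScalar g hn)

theorem isCTZ : IsCTZ SL2 := by
  intro a b c hb hab hbc
  have hd := nonScalar_of_not_mem_center hb
  exact centralizer_comm hd (mem_Cn.2 hab) (mem_Cn.2 hbc.symm)

theorem mem_center_of_commute {z u v : SL2} (hu : Commute z u) (hv : Commute z v)
    (huv : ¬ Commute u v) : z ∈ Subgroup.center SL2 := by
  by_contra hz
  exact huv (isCTZ u z v hz hu.symm hv)

/-- conjugation -/
def cj (a x : SL2) : SL2 := a * x * a⁻¹

theorem cj_def (a x : SL2) : cj a x = a * x * a⁻¹ := rfl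

theorem cj_mul (a b x : SL2) : cj (a * b) x = cj a (cj b x) := by
  unfold cj; group

theorem cj_neg (a x : SL2) : cj a (-x) = -cj a x := by
  unfold cj; rw [mul_neg, neg_mul]

theorem cj_mul_right (a x y : SL2) : cj a (x * y) = cj a x * cj a y := by
  unfold cj; group

theorem tr_cj (a x : SL2) : tr (cj a x) = tr x := tr_conj a x

/-- anticommuting elements -/
def AC (x y : SL2) : Prop := x * y = -(y * x)

theorem AC.eq {x y : SL2} (h : AC x y) : x * y = -(y * x) := h

theorem AC.symm {x y : SL2} (h : AC x y) : AC y x := by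
  show y * x = -(x * y)
  rw [h.eq, neg_neg]

theorem ne_neg_self (h2 : (2 : F) ≠ 0) (x : SL2) : x ≠ -x := by
  intro h
  have h1 : x⁻¹ * x = x⁻¹ * (-x) := congrArg (fun z => x⁻¹ * z) h
  rw [inv_mul_cancel, mul_neg, inv_mul_cancel] at h1
  exact sl2_neg_one_ne_one h2 h1.symm

theorem AC.not_commute (h2 : (2 : F) ≠ 0) {x y : SL2} (h : AC x y) : ¬ Commute x y := by
  intro hc
  have h1 : x * y = y * x := hc
  rw [h.eq] at h1
  exact ne_neg_self h2 (y * x) h1.symm

theorem AC.cj_eq {a x : SL2} (h : AC a x) : cj a x = -x := by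
  unfold cj
  rw [h.eq, neg_mul, mul_inv_cancel_right]

theorem AC.of_cj_eq {a x : SL2} (h : cj a x = -x) : AC a x := by
  show a * x = -(x * a)
  have : a * x = cj a x * a := by unfold cj; group
  rw [this, h, neg_mul]

theorem cj_eq_of_commute {a x : SL2} (h : Commute a x) : cj a x = x := by
  unfold cj
  rw [h.eq, mul_inv_cancel_right]

theorem commute_of_cj_eq {a x : SL2} (h : cj a x = x) : Commute a x := by
  show a * x = x * a
  have : a * x = cj a x * a := by unfold cj; group
  rw [this, h]

theorem AC.tr_left (h2 : (2 : F) ≠ 0) {x y : SL2} (h : AC x y) : tr x = 0 := by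
  have e := h.symm.cj_eq
  have h1 := congrArg tr e
  rw [tr_cj, tr_neg] at h1
  have : 2 * tr x = 0 := by linear_combination h1
  exact (mul_eq_zero.1 this).resolve_left h2

theorem AC.tr_right (h2 : (2 : F) ≠ 0) {x y : SL2} (h : AC x y) : tr y = 0 :=
  h.symm.tr_left h2

theorem mul_self_of_tr {x : SL2} (h : tr x = 0) : x * x = -1 := by
  apply Subtype.ext
  rw [Matrix.SpecialLinearGroup.coe_mul, m2_cayley _ x.det_coe, ← tr_eq_trace, h]
  simp

theorem inv_of_tr {x : SL2} (h : tr x = 0) : x⁻¹ = -x :=
  inv_eq_neg_of_mul_self x (mul_self_of_tr h)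

theorem AC.mul_left {x y : SL2} (h : AC x y) : AC (x * y) x := by
  show x * y * x = -(x * (x * y))
  rw [mul_assoc, h.symm.eq, mul_neg]

theorem AC.mul_right {x y : SL2} (h : AC x y) : AC (x * y) y := by
  show x * y * y = -(y * (x * y))
  rw [← mul_assoc y x y, h.symm.eq, neg_mul, neg_neg]

theorem AC.tr_mul (h2 : (2 : F) ≠ 0) {x y : SL2} (h : AC x y) : tr (x * y) = 0 :=
  h.mul_left.tr_left h2

theorem AC.conj {x y : SL2} (h : AC x y) (g : SL2) : AC (cj g x) (cj g y) := by
  show cj g x * cj g y = -(cj g y * cj g x)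
  rw [← cj_mul_right, ← cj_mul_right, h.eq, cj_neg]

theorem comm_or_AC {x y : SL2} (h : ⁅x, y⁆ ∈ Subgroup.center SL2) : Commute x y ∨ AC x y := by
  have e : x * y = (x * y * x⁻¹ * y⁻¹) * (y * x) := by group
  rcases sl2_center_cases _ h with h1 | h1
  · left
    rw [commutatorElement_def] at h1
    show x * y = y * x
    rw [e, h1, one_mul]
  · right
    rw [commutatorElement_def] at h1
    show x * y = -(y * x)
    rw [e, h1, neg_mul, one_mul]

theorem AC.neg_left {x y : SL2} (h : AC x y) : AC (-x) y := by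
  show -x * y = -(y * -x)
  rw [neg_mul, mul_neg, h.eq]

theorem AC.neg_right {x y : SL2} (h : AC x y) : AC x (-y) := h.symm.neg_left.symm

/-- elements commuting with `u` and anticommuting with `v` are `± u` -/
theorem pm_of_comm_AC (h2 : (2 : F) ≠ 0) {z u v : SL2} (huv : AC u v) (hzu : Commute z u)
    (hzv : AC z v) : z = u ∨ z = -u := by
  have h1 : Commute (z * u) u := by
    apply commute_of_cj_eq
    rw [cj_mul, cj_eq_of_commute (Commute.refl u), cj_eq_of_commute hzu]
  have h2' : Commute (z * u) v := by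
    apply commute_of_cj_eq
    rw [cj_mul, huv.cj_eq, cj_neg, hzv.cj_eq, neg_neg]
  have hc := mem_center_of_commute h1 h2' (huv.not_commute h2)
  have hui := inv_of_tr (huv.tr_left h2)
  rcases sl2_center_cases _ hc with h | h
  · right
    rw [← hui]
    exact eq_inv_of_mul_eq_one_left h
  · left
    have : z = -1 * u⁻¹ := by rw [← h]; group
    rw [this, hui, neg_mul_neg, one_mul]

theorem pm_of_AC_comm (h2 : (2 : F) ≠ 0) {z u v : SL2} (huv : AC u v) (hzu : AC z u)
    (hzv : Commute z v) : z = v ∨ z = -v :=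
  pm_of_comm_AC h2 huv.symm hzv hzu

theorem pm_of_AC_AC (h2 : (2 : F) ≠ 0) {z u v : SL2} (huv : AC u v) (hzu : AC z u)
    (hzv : AC z v) : z = u * v ∨ z = -(u * v) := by
  have h1 : Commute (z * (u * v)) u := by
    apply commute_of_cj_eq
    rw [cj_mul, huv.mul_left.cj_eq, cj_neg, hzu.cj_eq, neg_neg]
  have h2' : Commute (z * (u * v)) v := by
    apply commute_of_cj_eq
    rw [cj_mul, huv.mul_right.cj_eq, cj_neg, hzv.cj_eq, neg_neg]
  have hc := mem_center_of_commute h1 h2' (huv.not_commute h2)
  have hui := inv_of_tr (huv.tr_mul h2)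
  rcases sl2_center_cases _ hc with h | h
  · right
    rw [← hui]
    exact eq_inv_of_mul_eq_one_left h
  · left
    have : z = -1 * (u * v)⁻¹ := by rw [← h]; group
    rw [this, hui, neg_mul_neg, one_mul]

/-- commuting trace zero elements agree up to sign -/
theorem pm_of_commute_tr0 (h2 : (2 : F) ≠ 0) {z z' : SL2} (hz : tr z = 0) (hz' : tr z' = 0)
    (hzc : z ∉ Subgroup.center SL2) (hc : Commute z' z) : z' = z ∨ z' = -z := by
  have hd := nonScalar_of_not_mem_center hzc
  obtain ⟨α, β, hy⟩ := (mem_centralizer_iff_span hd z').1 (mem_Cn.2 hc)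
  have hT : 2 * α + β * (z : M2).trace = (z' : M2).trace := by rw [← trace_span, ← hy]
  have hD : α ^ 2 + α * β * (z : M2).trace + β ^ 2 = 1 := by
    rw [← det_span _ z.det_coe, ← hy]
    exact z'.det_coe
  rw [← tr_eq_trace, hz] at hT hD
  rw [← tr_eq_trace, hz'] at hT
  have hα : α = 0 := by
    have : 2 * α = 0 := by linear_combination hT
    exact (mul_eq_zero.1 this).resolve_left h2
  rw [hα] at hD hy
  have hβ : (β - 1) * (β + 1) = 0 := by linear_combination hD
  rcases mul_eq_zero.1 hβ with h | h
  · left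
    apply Subtype.ext
    rw [hy, sub_eq_zero.1 h]
    simp
  · right
    apply Subtype.ext
    rw [hy, eq_neg_of_add_eq_zero_left h]
    simp

theorem tr_mul_self (g : SL2) : tr (g * g) = tr g ^ 2 - 2 := by
  have hd := det_eq g
  unfold tr
  rw [mul_apply_00, mul_apply_11]
  linear_combination (-2 : F) * hd

/-- no element acts as a transposition on a quaternion group (when `2` is a non-square) -/
theorem no_transposition (h2 : (2 : F) ≠ 0) (hsq2 : ∀ t : F, t ^ 2 ≠ 2) {a b g : SL2} (hab : AC a b)
    (hga : cj g a = a ∨ cj g a = -a) (hgb : cj g b = a * b) : False := by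
  have hta := hab.tr_left h2
  have htb := hab.tr_right h2
  have hbb := mul_self_of_tr htb
  rcases hga with hga | hga
  · -- `g` commutes with `a`, so `b` inverts `g`
    have hac : a ∉ Subgroup.center SL2 := by
      intro hc
      apply hab.not_commute h2
      rw [Subgroup.mem_center_iff] at hc
      exact (hc b).symm
    have hd := nonScalar_of_not_mem_center hac
    have hinv : b * a * b⁻¹ = a⁻¹ := by
      rw [inv_of_tr hta]
      exact hab.symm.cj_eq
    have hgC : g ∈ Subgroup.centralizer ({a} : Set SL2) := mem_Cn.2 (commute_of_cj_eq hga)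
    have h1 : b * g * b⁻¹ = g⁻¹ := inverts_centralizer hd hinv hgC
    have h3 : cj g b = g * g * b := by
      unfold cj
      have : b * g⁻¹ = g * b := by
        have : g * b * g = b := by
          calc g * b * g = g * (b * g * b⁻¹) * b := by group
            _ = g * g⁻¹ * b := by rw [h1]
            _ = b := by group
        calc b * g⁻¹ = (g * b * g) * g⁻¹ := by rw [this]
          _ = g * b := by group
      rw [mul_assoc g b, this, mul_assoc]
    rw [h3] at hgb
    have h4 : g * g = a := mul_right_cancel hgb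
    have h5 := tr_mul_self g
    rw [h4, hta] at h5
    exact hsq2 (tr g) (by linear_combination -h5)
  · have hAC : AC g a := AC.of_cj_eq hga
    have hgg := mul_self_of_tr (hAC.tr_left h2)
    have h3 : g * b * (g * b) = a := by
      have : g * b * (g * b) = cj g b * (g * g) * b := by unfold cj; group
      rw [this, hgb, hgg, mul_neg, mul_one, neg_mul, mul_assoc, hbb, mul_neg, mul_one, neg_neg]
    have h5 := tr_mul_self (g * b)
    rw [h3, hta] at h5
    exact hsq2 (tr (g * b)) (by linear_combination -h5)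

/-- a non-central element with central cube has trace `± 1` -/
theorem tr_of_cube {g : SL2} (hg : g ∉ Subgroup.center SL2)
    (h : g * g * g ∈ Subgroup.center SL2) : tr g = 1 ∨ tr g = -1 := by
  have hd := nonScalar_of_not_mem_center hg
  have hc := m2_cayley (g : M2) g.det_coe
  rw [← tr_eq_trace] at hc
  have h3 : (g : M2) * (g : M2) * (g : M2) = (tr g ^ 2 - 1) • (g : M2) - tr g • (1 : M2) := by
    rw [hc, sub_mul, smul_mul_assoc, hc, one_mul, smul_sub, smul_smul]
    module
  by_contra hne
  push Not at hne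
  have hne' : tr g ^ 2 - 1 ≠ 0 := by
    intro h0
    have : (tr g - 1) * (tr g + 1) = 0 := by linear_combination h0
    rcases mul_eq_zero.1 this with h | h
    · exact hne.1 (sub_eq_zero.1 h)
    · exact hne.2 (eq_neg_of_add_eq_zero_left h)
  apply hd
  have hcube : ∃ ε : F, (g : M2) * (g : M2) * (g : M2) = ε • (1 : M2) := by
    rcases sl2_center_cases _ h with h | h
    · refine ⟨1, ?_⟩
      rw [← Matrix.SpecialLinearGroup.coe_mul, ← Matrix.SpecialLinearGroup.coe_mul, h]
      simp
    · refine ⟨-1, ?_⟩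
      rw [← Matrix.SpecialLinearGroup.coe_mul, ← Matrix.SpecialLinearGroup.coe_mul, h]
      simp
  obtain ⟨ε, hε⟩ := hcube
  rw [h3] at hε
  have e01 := congrFun (congrFun hε 0) 1
  have e10 := congrFun (congrFun hε 1) 0
  have e00 := congrFun (congrFun hε 0) 0
  have e11 := congrFun (congrFun hε 1) 1
  simp at e01 e10 e00 e11
  refine ⟨?_, ?_, ?_⟩
  · exact e01.resolve_left hne'
  · exact e10.resolve_left hne'
  · have : (tr g ^ 2 - 1) * ((g : M2) 0 0 - (g : M2) 1 1) = 0 := by linear_combination e00 - e11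
    exact sub_eq_zero.1 ((mul_eq_zero.1 this).resolve_left hne')

end Cfsg.Agent.Lib.H2.QSol
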