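import Mathlib
import Cfsg.Agent.Lib.H2.QSol2

/-!
# Solvable subgroups of `SL₂(F)`, `2` a non-square: the structure theorem
-/

set_option autoImplicit false

namespace Cfsg.Agent.Lib.H2.QSol

open scoped commutatorElement

open Matrix Cfsg.Agent.Lib.H4.Dickson Cfsg.Agent.Lib.H12 Cfsg.Agent.Lib.H2.CTSol
  Cfsg.Agent.Lib.H2.PSol

variable {F : Type*} [Field F]

local notation "SL2" => Matrix.SpecialLinearGroup (Fin 2) F
local notation "M2" => Matrix (Fin 2) (Fin 2) F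

/-- the quaternion case -/
theorem qcase (h2 : (2 : F) ≠ 0) (hsq2 : ∀ t : F, t ^ 2 ≠ 2) (L D : Subgroup SL2)
    (hnorm : ∀ g ∈ L, ∀ d ∈ D, g * d * g⁻¹ ∈ D)
    (hcomm : ∀ a ∈ D, ∀ b ∈ D, ⁅a, b⁆ ∈ Subgroup.center SL2)
    (hnab : ∃ a ∈ D, ∃ b ∈ D, ¬ Commute a b) :
    ∃ Q : Set SL2, Q.Nonempty ∧ (∀ z ∈ Q, tr z = 0) ∧ (∀ g ∈ L, ∀ z ∈ Q, g * z * g⁻¹ ∈ Q) ∧
      ∀ g ∈ L, (g = 1 ∨ g = -1 ∨ g ∈ Q) ∨
        ((tr g = 1 ∨ tr g = -1) ∧ ∀ z ∈ Q, tr (z * (g * z * g⁻¹)) = 0) := by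
  obtain ⟨u, hu, v, hv, huv⟩ := hnab
  have hACuv : AC u v := (comm_or_AC (hcomm u hu v hv)).resolve_left huv
  have hneg1 : (-1 : SL2) ∈ D := by
    have h1 : ⁅u, v⁆ ∈ D := D.mul_mem (D.mul_mem (D.mul_mem hu hv) (D.inv_mem hu)) (D.inv_mem hv)
    have h2' : ⁅u, v⁆ = -1 := by
      rw [commutatorElement_def, hACuv.eq, neg_mul, neg_mul]
      have : v * u * u⁻¹ * v⁻¹ = 1 := by group
      rw [this]
    rwa [h2'] at h1
  have hnegD : ∀ d ∈ D, -d ∈ D := by
    intro d hd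
    have : -d = -1 * d := by rw [neg_mul, one_mul]
    rw [this]
    exact D.mul_mem hneg1 hd
  set Q : Set SL2 := {z | z ∈ D ∧ z ∉ Subgroup.center SL2} with hQ
  have hcenter_comm : ∀ {z : SL2}, z ∈ Subgroup.center SL2 → ∀ w : SL2, Commute z w := by
    intro z hz w
    rw [Subgroup.mem_center_iff] at hz
    exact (hz w).symm
  have hQtr : ∀ z ∈ Q, tr z = 0 := by
    rintro z ⟨hzD, hzc⟩
    by_cases h1 : Commute z u
    · by_cases h2' : Commute z v
      · exact absurd (mem_center_of_commute h1 h2' huv) hzc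
      · exact ((comm_or_AC (hcomm z hzD v hv)).resolve_left h2').tr_left h2
    · exact ((comm_or_AC (hcomm z hzD u hu)).resolve_left h1).tr_left h2
  have hQconj : ∀ g ∈ L, ∀ z ∈ Q, g * z * g⁻¹ ∈ Q := fun g hg z hz =>
    ⟨hnorm g hg z hz.1, conj_not_mem_center hz.2 g⟩
  have hQpair : ∀ z ∈ Q, ∀ z' ∈ Q, (z' = z ∨ z' = -z) ∨ AC z' z := by
    intro z hz z' hz'
    rcases comm_or_AC (hcomm z' hz'.1 z hz.1) with h | h
    · left
      exact pm_of_commute_tr0 h2 (hQtr z hz) (hQtr z' hz') hz.2 h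
    · right
      exact h
  have huQ : u ∈ Q := ⟨hu, fun hc => huv (hcenter_comm hc v)⟩
  have hvQ : v ∈ Q := ⟨hv, fun hc => huv (hcenter_comm hc u).symm⟩
  refine ⟨Q, ⟨u, huQ⟩, hQtr, hQconj, ?_⟩
  intro g hg
  by_cases hall : ∀ z ∈ Q, (g * z * g⁻¹ = z ∨ g * z * g⁻¹ = -z)
  · left
    have hgu : Commute g u ∨ AC g u := by
      rcases hall u huQ with h | h
      · exact Or.inl (commute_of_cj_eq h)
      · exact Or.inr (AC.of_cj_eq h)
    have hgv : Commute g v ∨ AC g v := by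
      rcases hall v hvQ with h | h
      · exact Or.inl (commute_of_cj_eq h)
      · exact Or.inr (AC.of_cj_eq h)
    rcases hgu with hgu | hgu <;> rcases hgv with hgv | hgv
    · rcases sl2_center_cases _ (mem_center_of_commute hgu hgv huv) with h | h
      · exact Or.inl h
      · exact Or.inr (Or.inl h)
    · right; right
      refine ⟨?_, fun hc => hgv.not_commute h2 (hcenter_comm hc v)⟩
      rcases pm_of_comm_AC h2 hACuv hgu hgv with h | h
      · rw [h]; exact hu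
      · rw [h]; exact hnegD u hu
    · right; right
      refine ⟨?_, fun hc => hgu.not_commute h2 (hcenter_comm hc u)⟩
      rcases pm_of_AC_comm h2 hACuv hgu hgv with h | h
      · rw [h]; exact hv
      · rw [h]; exact hnegD v hv
    · right; right
      refine ⟨?_, fun hc => hgu.not_commute h2 (hcenter_comm hc u)⟩
      rcases pm_of_AC_AC h2 hACuv hgu hgv with h | h
      · rw [h]; exact D.mul_mem hu hv
      · rw [h]; exact hnegD _ (D.mul_mem hu hv)
  · right
    push Not at hall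
    obtain ⟨z0, hz0, hne1, hne2⟩ := hall
    have hz1 : cj g z0 ∈ Q := hQconj g hg z0 hz0
    set z1 := cj g z0 with hz1def
    have hAC10 : AC z1 z0 := by
      rcases hQpair z0 hz0 z1 hz1 with (h | h) | h
      · exact absurd h hne1
      · exact absurd h hne2
      · exact h
    have hAC01 : AC z0 z1 := hAC10.symm
    have hz2 : cj g z1 ∈ Q := hQconj g hg z1 hz1
    set z2 := cj g z1 with hz2def
    have hAC21 : AC z2 z1 := hAC10.conj g
    have hz0z0 := mul_self_of_tr (hQtr z0 hz0)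
    have hz1z1 := mul_self_of_tr (hQtr z1 hz1)
    have hAC20 : AC z2 z0 := by
      rcases hQpair z0 hz0 z2 hz2 with h | h
      · exfalso
        apply no_transposition h2 hsq2 (a := z0 * z1) (b := z0) (g := g) hAC01.mul_left
        · rw [cj_mul_right, ← hz1def, ← hz2def]
          rcases h with h | h
          · right
            rw [h, hAC10.eq]
          · left
            rw [h, mul_neg, hAC10.eq, neg_neg]
        · rw [← hz1def, mul_assoc, hAC10.eq, mul_neg, ← mul_assoc, hz0z0, neg_mul, one_mul, neg_neg]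
      · exact h
    -- `z2 = ± z0 z1`
    have hz2pm : z2 = z0 * z1 ∨ z2 = -(z0 * z1) := pm_of_AC_AC h2 hAC01 hAC20 hAC21
    -- the action on `z0 z1`
    have hz3 : cj g z2 = z0 := by
      have e1 : z1 * z0 * z1 = z0 := by
        rw [hAC10.eq, neg_mul, mul_assoc, hz1z1, mul_neg, mul_one, neg_neg]
      rcases hz2pm with h | h
      · rw [h, cj_mul_right, ← hz1def, ← hz2def, h, ← mul_assoc, e1]
      · rw [h, cj_neg, cj_mul_right, ← hz1def, ← hz2def, h, mul_neg, neg_neg, ← mul_assoc, e1]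
    have hgc : g ∉ Subgroup.center SL2 := by
      intro hc
      apply hne1
      have := cj_eq_of_commute (hcenter_comm hc z0)
      exact this
    have hcube : g * g * g ∈ Subgroup.center SL2 := by
      apply mem_center_of_commute (u := z0) (v := z1) _ _ (hAC01.not_commute h2)
      · apply commute_of_cj_eq
        rw [cj_mul, cj_mul, ← hz1def, ← hz2def, hz3]
      · apply commute_of_cj_eq
        rw [cj_mul, cj_mul, ← hz2def, hz3, ← hz1def]
    refine ⟨tr_of_cube hgc hcube, ?_⟩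
    intro z hz
    have hneg : ∀ y : SL2, tr (-y * (g * -y * g⁻¹)) = tr (y * (g * y * g⁻¹)) := by
      intro y
      simp only [mul_neg, neg_mul, neg_neg]
    have hzz0 : Commute z z0 ∨ AC z z0 := comm_or_AC (hcomm z hz.1 z0 hz0.1)
    have hzz1 : Commute z z1 ∨ AC z z1 := comm_or_AC (hcomm z hz.1 z1 hz1.1)
    have c0 : tr (z0 * (g * z0 * g⁻¹)) = 0 := hAC01.tr_mul h2
    have c1 : tr (z1 * (g * z1 * g⁻¹)) = 0 := hAC21.symm.tr_mul h2
    have c2 : tr (z0 * z1 * (g * (z0 * z1) * g⁻¹)) = 0 := by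
      have e : z0 * z1 * (g * (z0 * z1) * g⁻¹) = -(z0 * z2) := by
        show z0 * z1 * cj g (z0 * z1) = -(z0 * z2)
        rw [cj_mul_right, ← hz1def, ← hz2def, mul_assoc, ← mul_assoc z1 z1 z2, hz1z1, neg_mul,
          one_mul, mul_neg]
      rw [e, tr_neg, hAC20.symm.tr_mul h2, neg_zero]
    rcases hzz0 with hzz0 | hzz0 <;> rcases hzz1 with hzz1 | hzz1
    · exact absurd (mem_center_of_commute hzz0 hzz1 (hAC01.not_commute h2)) hz.2
    · rcases pm_of_comm_AC h2 hAC01 hzz0 hzz1 with h | h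
      · rw [h]; exact c0
      · rw [h, hneg]; exact c0
    · rcases pm_of_AC_comm h2 hAC01 hzz0 hzz1 with h | h
      · rw [h]; exact c1
      · rw [h, hneg]; exact c1
    · rcases pm_of_AC_AC h2 hAC01 hzz0 hzz1 with h | h
      · rw [h]; exact c2
      · rw [h, hneg]; exact c2

/-- the structure of the solvable non-central subgroups -/
theorem solvable_cases (h2 : (2 : F) ≠ 0) (hsq2 : ∀ t : F, t ^ 2 ≠ 2) (L : Subgroup SL2)
    (hs : Group.IsSolvable L) (hL : ¬ L ≤ Subgroup.center SL2) :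
    (∃ a ∈ L, a ∉ Subgroup.center SL2 ∧ L ≤ NC a) ∨
    ∃ Q : Set SL2, Q.Nonempty ∧ (∀ z ∈ Q, tr z = 0) ∧ (∀ g ∈ L, ∀ z ∈ Q, g * z * g⁻¹ ∈ Q) ∧
      ∀ g ∈ L, (g = 1 ∨ g = -1 ∨ g ∈ Q) ∨
        ((tr g = 1 ∨ tr g = -1) ∧ ∀ z ∈ Q, tr (z * (g * z * g⁻¹)) = 0) := by
  obtain ⟨D, hDL, hDc, hnorm, hcomm⟩ := exists_normal_of_solvable L hs hL
  by_cases hab : ∀ a ∈ D, ∀ b ∈ D, Commute a b
  · left
    obtain ⟨a, haD, hac⟩ : ∃ a ∈ D, a ∉ Subgroup.center SL2 := by
      by_contra hcon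
      push Not at hcon
      exact hDc hcon
    refine ⟨a, hDL haD, hac, ?_⟩
    intro g hg
    rw [mem_NC_iffZ isCTZ hac]
    exact hab _ (hnorm g hg a haD) a haD
  · right
    push Not at hab
    obtain ⟨a, ha, b, hb, hab⟩ := hab
    exact qcase h2 hsq2 L D hnorm hcomm ⟨a, ha, b, hb, hab⟩

end Cfsg.Agent.Lib.H2.QSol
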