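import Mathlib
import Cfsg.Agent.Lib.H2.QSol3

/-!
# `SL₂` in odd characteristic: normalisers of centralisers and solvable pairs
-/

set_option autoImplicit false

namespace Cfsg.Agent.Lib.H2.QSol

open scoped commutatorElement

open Matrix Cfsg.Agent.Lib.H4.Dickson Cfsg.Agent.Lib.H12 Cfsg.Agent.Lib.H2.CTSol
  Cfsg.Agent.Lib.H2.PSol

variable {F : Type*} [Field F]

local notation "SL2" => Matrix.SpecialLinearGroup (Fin 2) F
local notation "M2" => Matrix (Fin 2) (Fin 2) F

/-! ### Regular semisimple `a` -/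

/-- elements of `N(C(a))` centralise `a` or invert it and have trace zero -/
theorem mem_NC_cases (h2 : (2 : F) ≠ 0) {a g : SL2} (ht : tr a ^ 2 ≠ 4) (hg : g ∈ NC a) :
    g ∈ Cn a ∨ (g * a * g⁻¹ = a⁻¹ ∧ tr g = 0) := by
  rw [tr_eq_trace] at ht
  have hd : NonScalar (a : M2) := nonScalar_of_trace_sq_ne a ht
  rcases conj_cases h2 ht hg with h | h
  · left
    rw [mem_Cn]
    exact commute_of_cj_eq h
  · right
    refine ⟨h, ?_⟩
    rw [tr_eq_trace]
    exact trace_eq_zero_of_mul_self g (mul_self_of_inverts hd h)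

theorem not_mem_center_of_tr (h2 : (2 : F) ≠ 0) {a : SL2} (ht : tr a ^ 2 ≠ 4) :
    a ∉ Subgroup.center SL2 := by
  intro hc
  apply ht
  rcases sl2_center_cases _ hc with h | h
  · rw [h, tr_one]; norm_num
  · rw [h, tr_neg, tr_one]; norm_num

/-! ### Unipotent `a` -/

theorem uu_not_mem_center {β : F} (hβ : β ≠ 0) : (uu β : SL2) ∉ Subgroup.center SL2 := by
  intro hc
  apply hβ
  rcases sl2_center_cases _ hc with h | h
  · have := congrArg (fun g : SL2 => (g : M2) 0 1) h
    simpa using this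
  · have := congrArg (fun g : SL2 => (g : M2) 0 1) h
    simpa using this

theorem mem_NC_uu' {β : F} (hβ : β ≠ 0) (g : SL2) : g ∈ NC (uu β) ↔ (g : M2) 1 0 = 0 := by
  rw [mem_NC_iffZ isCTZ (uu_not_mem_center hβ)]
  constructor
  · intro hc
    have h1 := ((commute_uu_iff hβ _).1 hc.eq).1
    rw [conj_uu_10] at h1
    have : (g : M2) 1 0 ^ 2 = 0 := by
      rcases mul_eq_zero.1 h1 with h | h
      · exact absurd (neg_eq_zero.1 h) hβ
      · exact h
    exact pow_eq_zero_iff (two_ne_zero) |>.1 this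
  · intro h10
    rw [conj_uu_of_upper h10]
    show uu _ * uu β = uu β * uu _
    rw [← uu_add, ← uu_add, add_comm]

theorem Cn_neg (a : SL2) : Cn (-a) = Cn a := by
  ext g
  rw [mem_Cn, mem_Cn]
  exact Commute.neg_right_iff

theorem NC_neg (a : SL2) : NC (-a) = NC a := by
  unfold NC
  rw [Cn_neg]

theorem neg_not_mem_center {a : SL2} (h : a ∉ Subgroup.center SL2) : -a ∉ Subgroup.center SL2 := by
  intro hc
  apply h
  rcases sl2_center_cases _ hc with h1 | h1
  · have : a = -1 := by rw [← h1, neg_neg]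
    rw [this]; exact sl2_neg_one_mem_center
  · have : a = 1 := neg_injective h1
    rw [this]; exact Subgroup.one_mem _

/-- a non-central element of trace two is conjugate to some `uu β` -/
theorem exists_conj_uu_of_tr {x : SL2} (hx : x ∉ Subgroup.center SL2) (ht : tr x = 2) :
    ∃ s : SL2, ∃ β : F, β ≠ 0 ∧ s * x * s⁻¹ = uu β := by
  have hd := nonScalar_of_not_mem_center hx
  obtain ⟨x0, y0, hxy⟩ := exists_cycMat_det_ne_zero _ hd
  set Dt := (cycMat (x : M2) x0 y0).det with hDt
  have hconj : IsConj x (uu (-Dt)) := by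
    apply sl2_isConj_of_cyc x (uu (-Dt)) _ x0 y0 0 1 _ hxy
    · rw [← tr_eq_trace, ← tr_eq_trace, ht]
      unfold tr
      simp
      norm_num
    · rw [← hDt, det_cycMat]
      simp
  obtain ⟨c, hc⟩ := isConj_iff.1 hconj
  exact ⟨c, -Dt, neg_ne_zero.2 hxy, hc⟩

/-- for a non-central `a` with `tr a = ± 2`, the group `N(C(a))` is conjugate to the upper
triangular group -/
theorem exists_conj_upper (h2 : (2 : F) ≠ 0) {a : SL2} (ha : a ∉ Subgroup.center SL2)
    (ht : tr a ^ 2 = 4) : ∃ s : SL2, ∀ g ∈ NC a, ((s * g * s⁻¹ : SL2) : M2) 1 0 = 0 := by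
  have ht' : (tr a - 2) * (tr a + 2) = 0 := by linear_combination ht
  rcases mul_eq_zero.1 ht' with h | h
  · obtain ⟨s, β, hβ, hs⟩ := exists_conj_uu_of_tr ha (sub_eq_zero.1 h)
    refine ⟨s, fun g hg => ?_⟩
    rw [← mem_NC_uu' hβ, ← hs, mem_NC_conj]
    exact hg
  · have ht2 : tr (-a) = 2 := by
      rw [tr_neg]
      linear_combination -h
    obtain ⟨s, β, hβ, hs⟩ := exists_conj_uu_of_tr (neg_not_mem_center ha) ht2
    refine ⟨s, fun g hg => ?_⟩
    rw [← mem_NC_uu' hβ, ← hs, mem_NC_conj, NC_neg]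
    exact hg

/-- an upper triangular matrix has an eigenvalue -/
theorem root_of_upper {g : SL2} (h : (g : M2) 1 0 = 0) :
    (g : M2) 0 0 ^ 2 - tr g * (g : M2) 0 0 + 1 = 0 := by
  have hd := det_eq g
  unfold tr
  rw [h] at hd
  linear_combination -hd

theorem conj_apply_10 (s y : SL2) : ((s * y * s⁻¹ : SL2) : M2) 1 0 =
    (s : M2) 1 0 * (s : M2) 1 1 * ((y : M2) 0 0 - (y : M2) 1 1) + (s : M2) 1 1 ^ 2 * (y : M2) 1 0 -
      (s : M2) 1 0 ^ 2 * (y : M2) 0 1 := by
  simp only [mul_apply_10, mul_apply_11, inv_apply_00, inv_apply_10]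
  ring

/-! ### Solvable pairs -/

theorem mem_Sol_of_mem_closure {x y g : SL2} (hy : y ∈ Sol x)
    (hg : g ∈ Subgroup.closure ({x, y} : Set SL2)) : g ∈ Sol x :=
  mem_Sol_of_mem (Subgroup.closure ({x, y} : Set SL2)) hy (Subgroup.subset_closure (by simp)) hg

theorem mem_Sol_symm {x y : SL2} (h : y ∈ Sol x) : x ∈ Sol y := by
  rw [mem_Sol] at h ⊢
  rwa [Set.pair_comm]

theorem isSolvable_Cn {a : SL2} (ha : a ∉ Subgroup.center SL2) : Group.IsSolvable (Cn a) := by
  apply Group.isSolvable_of_comm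
  intro s t
  apply Subtype.ext
  exact centralizer_comm (nonScalar_of_not_mem_center ha) s.2 t.2

/-- `x` and any element of `N(C(x))` generate a solvable group -/
theorem mem_Sol_of_mem_NC {x y : SL2} (hx : x ∉ Subgroup.center SL2) (hy : y ∈ NC x) :
    y ∈ Sol x := by
  rw [mem_Sol]
  apply isSolvable_closure_pair (Cn x) (isSolvable_Cn hx) (self_mem_NC x) hy
  have h1 : y * x⁻¹ * y⁻¹ ∈ Cn x :=
    (Subgroup.mem_normalizer_iff.1 hy x⁻¹).1 ((Cn x).inv_mem (self_mem_Cn x))
  have : ⁅x, y⁆ = x * (y * x⁻¹ * y⁻¹) := by rw [commutatorElement_def]; group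
  rw [this]
  exact (Cn x).mul_mem (self_mem_Cn x) h1

theorem mem_Sol_of_mem_Cn {x y : SL2} (hy : y ∈ Cn x) : y ∈ Sol x := by
  rw [mem_Sol]
  have hc : Commute y x := mem_Cn.1 hy
  apply Group.isSolvable_of_comm
  have hk : ∀ a ∈ ({x, y} : Set SL2), ∀ b ∈ ({x, y} : Set SL2), a * b = b * a := by
    rintro a (rfl | rfl) b (rfl | rfl)
    · rfl
    · exact hc.eq.symm
    · exact hc.eq
    · rfl
  intro a b
  exact (Subgroup.isMulCommutative_closure hk).is_comm.comm a b

/-- upper triangular matrices generate solvable groups -/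
theorem mem_Sol_of_Bu {x y : SL2} (hx : x ∈ (Bu : Set SL2)) (hy : y ∈ (Bu : Set SL2)) :
    y ∈ Sol x := by
  have h1 : (uu (1 : F) : SL2) ∉ Subgroup.center SL2 := uu_not_mem_center one_ne_zero
  rw [mem_Sol]
  have hx' : (x : M2) 1 0 = 0 := hx
  have hy' : (y : M2) 1 0 = 0 := hy
  apply isSolvable_closure_pair (Cn (uu (1 : F))) (isSolvable_Cn h1)
    ((mem_NC_uu' one_ne_zero x).2 hx') ((mem_NC_uu' one_ne_zero y).2 hy')
  rw [mem_Cn]
  show ⁅x, y⁆ * uu 1 = uu 1 * ⁅x, y⁆
  rw [commute_uu_iff one_ne_zero]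
  have hdx := det_eq x
  have hdy := det_eq y
  rw [hx', mul_zero, sub_zero] at hdx
  rw [hy', mul_zero, sub_zero] at hdy
  rw [commutatorElement_def]
  constructor
  · simp only [mul_apply_10, mul_apply_11, mul_apply_00, mul_apply_01, inv_apply_00, inv_apply_10,
      inv_apply_01, inv_apply_11, hx', hy']
    ring
  · simp only [mul_apply_10, mul_apply_11, mul_apply_00, mul_apply_01, inv_apply_00, inv_apply_10,
      inv_apply_01, inv_apply_11, hx', hy']
    ring

/-- the quaternion configuration: `g` with central cube cycling `z`, `g z g⁻¹` -/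
theorem mem_Sol_of_cube (h2 : (2 : F) ≠ 0) {g z : SL2} (hg : g * g * g ∈ Subgroup.center SL2)
    (hAC : AC (cj g z) z) : z ∈ Sol g := by
  set z' := cj g z with hz'
  set z'' := cj g z' with hz''
  have hAC1 : AC z'' z' := hAC.conj g
  have hgz : cj g z'' = z := by
    rw [hz'', hz', ← cj_mul, ← cj_mul]
    apply cj_eq_of_commute
    rw [Subgroup.mem_center_iff] at hg
    exact (hg z).symm
  have hAC2 : AC z z'' := by
    have := hAC1.conj g
    rwa [hgz, ← hz''] at this
  have hpm : z'' = z * z' ∨ z'' = -(z * z') := pm_of_AC_AC h2 hAC.symm hAC2.symm hAC1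
  have htz : tr z = 0 := hAC.tr_right h2
  have hzc : z ∉ Subgroup.center SL2 := by
    intro hc
    apply hAC.not_commute h2
    rw [Subgroup.mem_center_iff] at hc
    exact hc z'
  -- the quaternion group
  set D := Subgroup.closure ({z, z'} : Set SL2) with hD
  have hzD : z ∈ D := Subgroup.subset_closure (by simp)
  have hz'D : z' ∈ D := Subgroup.subset_closure (by simp)
  have hneg1 : (-1 : SL2) ∈ D := by
    rw [← mul_self_of_tr htz]
    exact D.mul_mem hzD hzD
  have hz''D : z'' ∈ D := by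
    rcases hpm with h | h
    · rw [h]; exact D.mul_mem hzD hz'D
    · rw [h]
      have : -(z * z') = -1 * (z * z') := by rw [neg_mul, one_mul]
      rw [this]
      exact D.mul_mem hneg1 (D.mul_mem hzD hz'D)
  have hDsolv : Group.IsSolvable D := by
    apply isSolvable_closure_pair (Cn z) (isSolvable_Cn hzc) (self_mem_NC z)
    · show z' ∈ NC z
      rw [mem_NC_iffZ isCTZ hzc]
      show Commute (cj z' z) z
      rw [hAC.cj_eq]
      exact (Commute.refl z).neg_left
    · rw [mem_Cn]
      have : ⁅z, z'⁆ = -1 := by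
        rw [commutatorElement_def, hAC.symm.eq, neg_mul, neg_mul]
        have : z' * z * z⁻¹ * z'⁻¹ = 1 := by group
        rw [this]
      rw [this]
      exact (Commute.one_left z).neg_left
  -- `g` normalises `D`
  have hmap : ∀ d ∈ D, cj g d ∈ D := by
    intro d hd
    have hle : D ≤ D.comap (MulAut.conj g).toMonoidHom := by
      rw [hD, Subgroup.closure_le]
      rintro w (rfl | rfl)
      · exact hz'D
      · exact hz''D
    exact hle hd
  have hginv : ∀ d : SL2, cj g⁻¹ d = cj g (cj g d) := by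
    intro d
    have hc : Commute (g * g * g) d := by
      rw [Subgroup.mem_center_iff] at hg
      exact (hg d).symm
    have : cj g⁻¹ d = cj g⁻¹ (cj (g * g * g) d) := by rw [cj_eq_of_commute hc]
    rw [this, ← cj_mul, ← cj_mul]
    congr 1
    group
  have hgN : g ∈ Subgroup.normalizer (D : Set SL2) := by
    rw [Subgroup.mem_normalizer_iff]
    intro d
    constructor
    · exact hmap d
    · intro hd
      have : d = cj g⁻¹ (cj g d) := by unfold cj; group
      rw [this, hginv]
      exact hmap _ (hmap _ hd)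
  rw [mem_Sol]
  apply isSolvable_closure_pair D hDsolv hgN (Subgroup.le_normalizer hzD)
  have : ⁅g, z⁆ = z' * z⁻¹ := by rw [commutatorElement_def, hz']; rfl
  rw [this]
  exact D.mul_mem hz'D (D.inv_mem hzD)

/-- two trace zero matrices anticommute iff their product has trace zero -/
theorem AC_of_tr {x y : SL2} (hx : tr x = 0) (hy : tr y = 0) (hxy : tr (x * y) = 0) : AC x y := by
  show x * y = -(y * x)
  apply Subtype.ext
  have := m2_anticomm (x : M2) (y : M2)
  rw [← Matrix.SpecialLinearGroup.coe_mul, ← Matrix.SpecialLinearGroup.coe_mul, ← tr_eq_trace,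
    ← tr_eq_trace, ← tr_eq_trace, hx, hy, hxy] at this
  simp only [zero_smul, zero_mul, sub_self, add_zero] at this
  rw [Matrix.SpecialLinearGroup.coe_neg]
  exact eq_neg_of_add_eq_zero_left this

/-- an element of trace `± 1` has central cube -/
theorem cube_of_tr {g : SL2} (h : tr g = 1 ∨ tr g = -1) : g * g * g ∈ Subgroup.center SL2 := by
  have hc := m2_cayley (g : M2) g.det_coe
  rw [← tr_eq_trace] at hc
  have h3 : (g : M2) * (g : M2) * (g : M2) = (tr g ^ 2 - 1) • (g : M2) - tr g • (1 : M2) := by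
    rw [hc, sub_mul, smul_mul_assoc, hc, one_mul, smul_sub, smul_smul]
    module
  rw [mem_center_iff']
  rcases h with h | h
  · right
    apply Subtype.ext
    rw [Matrix.SpecialLinearGroup.coe_mul, Matrix.SpecialLinearGroup.coe_mul, h3, h]
    simp
  · left
    apply Subtype.ext
    rw [Matrix.SpecialLinearGroup.coe_mul, Matrix.SpecialLinearGroup.coe_mul, h3, h]
    simp

end Cfsg.Agent.Lib.H2.QSol
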