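import Mathlib
import Cfsg.Agent.Lib.H2.QSol4

/-!
# Solubilisers of semisimple elements of `SL₂(F)`, `2` a non-square
-/

set_option autoImplicit false

namespace Cfsg.Agent.Lib.H2.QSol

open scoped commutatorElement

open Matrix Cfsg.Agent.Lib.H4.Dickson Cfsg.Agent.Lib.H12 Cfsg.Agent.Lib.H2.CTSol
  Cfsg.Agent.Lib.H2.PSol
open Cfsg.Agent.Lib.H5.PSL2Klein (j0 j0_mul_self)

variable {F : Type*} [Field F]

local notation "SL2" => Matrix.SpecialLinearGroup (Fin 2) F
local notation "M2" => Matrix (Fin 2) (Fin 2) F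

@[simp] theorem hh_00 (l : Fˣ) : ((hh l : SL2) : M2) 0 0 = l := rfl
@[simp] theorem hh_01 (l : Fˣ) : ((hh l : SL2) : M2) 0 1 = 0 := rfl
@[simp] theorem hh_10 (l : Fˣ) : ((hh l : SL2) : M2) 1 0 = 0 := rfl
@[simp] theorem hh_11 (l : Fˣ) : ((hh l : SL2) : M2) 1 1 = ((l⁻¹ : Fˣ) : F) := rfl

@[simp] theorem j0_00 : ((j0 : SL2) : M2) 0 0 = 0 := rfl
@[simp] theorem j0_01 : ((j0 : SL2) : M2) 0 1 = 1 := rfl
@[simp] theorem j0_10 : ((j0 : SL2) : M2) 1 0 = -1 := rfl
@[simp] theorem j0_11 : ((j0 : SL2) : M2) 1 1 = 0 := rfl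

theorem one_not_Q_cases {x : SL2} (hxc : x ∉ Subgroup.center SL2) {Q : Set SL2}
    (hQtr : ∀ z ∈ Q, tr z = 0)
    (h : (x = 1 ∨ x = -1 ∨ x ∈ Q) ∨ ((tr x = 1 ∨ tr x = -1) ∧
      ∀ z ∈ Q, tr (z * (x * z * x⁻¹)) = 0)) :
    tr x = 0 ∨ tr x = 1 ∨ tr x = -1 := by
  rcases h with (h | h | h) | ⟨h, -⟩
  · exact absurd ((mem_center_iff' x).2 (Or.inl h)) hxc
  · exact absurd ((mem_center_iff' x).2 (Or.inr h)) hxc
  · exact Or.inl (hQtr x h)
  · exact Or.inr h

/-- the solubiliser of a non-split semisimple element -/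
theorem Sol_nonsplit (h2 : (2 : F) ≠ 0) (hsq2 : ∀ t : F, t ^ 2 ≠ 2) {x : SL2}
    (hno : ∀ l : F, l ^ 2 - tr x * l + 1 ≠ 0) (ht0 : tr x ≠ 0) (ht1 : tr x ≠ 1)
    (htm1 : tr x ≠ -1) : Sol x = (NC x : Set SL2) := by
  have ht4 : tr x ^ 2 ≠ 4 := by
    intro h
    have h' : (tr x - 2) * (tr x + 2) = 0 := by linear_combination h
    rcases mul_eq_zero.1 h' with h | h
    · apply hno 1
      linear_combination -h
    · apply hno (-1)
      linear_combination h
  have hxc := not_mem_center_of_tr h2 ht4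
  ext y
  constructor
  · intro hy
    have hy' : Group.IsSolvable (Subgroup.closure ({x, y} : Set SL2)) := hy
    set L := Subgroup.closure ({x, y} : Set SL2) with hLdef
    have hxL : x ∈ L := Subgroup.subset_closure (by simp)
    have hyL : y ∈ L := Subgroup.subset_closure (by simp)
    have hL : ¬ L ≤ Subgroup.center SL2 := fun h => hxc (h hxL)
    rcases solvable_cases h2 hsq2 L hy' hL with ⟨a, -, hac, hLa⟩ | ⟨Q, -, hQtr, -, hQ⟩
    · by_cases hta : tr a ^ 2 = 4
      · obtain ⟨s, hs⟩ := exists_conj_upper h2 hac hta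
        have := root_of_upper (hs x (hLa hxL))
        rw [tr_conj] at this
        exact absurd this (hno _)
      · rcases mem_NC_cases h2 hta (hLa hxL) with h | ⟨-, h⟩
        · have : NC a = NC x := NC_eqZ isCTZ hac hxc (mem_Cn.1 h).symm
          show y ∈ NC x
          rw [← this]
          exact hLa hyL
        · exact absurd h ht0
    · rcases one_not_Q_cases hxc hQtr (hQ x hxL) with h | h | h
      · exact absurd h ht0
      · exact absurd h ht1
      · exact absurd h htm1
  · intro hy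
    exact mem_Sol_of_mem_NC hxc hy

theorem hh_sub_ne' {l : Fˣ} (hl : (l : F) ^ 2 ≠ 1) : (l : F) - ((l⁻¹ : Fˣ) : F) ≠ 0 := by
  intro h
  apply hl
  have h1 : (l : F) * ((l⁻¹ : Fˣ) : F) = 1 := Units.mul_inv l
  linear_combination (l : F) * h + h1

theorem mem_NC_hh' (h2 : (2 : F) ≠ 0) {l : Fˣ} (hl : (l : F) ^ 2 ≠ 1) (g : SL2) :
    g ∈ NC (hh l) ↔ ((g : M2) 0 1 = 0 ∧ (g : M2) 1 0 = 0) ∨ g ∈ (Tn : Set SL2) := by
  have hne := hh_sub_ne' hl
  have h1 : (l : F) * ((l⁻¹ : Fˣ) : F) = 1 := Units.mul_inv l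
  have ht4 : tr (hh l : SL2) ^ 2 ≠ 4 := by
    rw [tr_hh]
    intro h
    apply hne
    have : ((l : F) - ((l⁻¹ : Fˣ) : F)) ^ 2 = 0 := by linear_combination h - 4 * h1
    exact pow_eq_zero_iff (two_ne_zero) |>.1 this
  have hc := not_mem_center_of_tr h2 ht4
  rw [mem_NC_iffZ isCTZ hc]
  have hd := det_eq g
  have key : Commute (g * hh l * g⁻¹) (hh l) ↔
      ((g : M2) 0 0 * (g : M2) 0 1 = 0 ∧ (g : M2) 1 0 * (g : M2) 1 1 = 0) := by
    constructor
    · intro hcm
      have e := hcm.eq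
      have e01 := congrArg (fun z : SL2 => (z : M2) 0 1) e
      have e10 := congrArg (fun z : SL2 => (z : M2) 1 0) e
      simp only [mul_apply_00, mul_apply_01, mul_apply_10, mul_apply_11, inv_apply_00,
        inv_apply_01, inv_apply_10, inv_apply_11, hh_00, hh_01, hh_10, hh_11] at e01 e10
      constructor
      · have : ((l : F) - ((l⁻¹ : Fˣ) : F)) ^ 2 * ((g : M2) 0 0 * (g : M2) 0 1) = 0 := by
          linear_combination e01
        exact (mul_eq_zero.1 this).resolve_left (pow_ne_zero 2 hne)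
      · have : ((l : F) - ((l⁻¹ : Fˣ) : F)) ^ 2 * ((g : M2) 1 0 * (g : M2) 1 1) = 0 := by
          linear_combination e10
        exact (mul_eq_zero.1 this).resolve_left (pow_ne_zero 2 hne)
    · rintro ⟨e1, e2⟩
      apply Subtype.ext
      ext i j
      fin_cases i <;> fin_cases j <;>
        simp only [Matrix.SpecialLinearGroup.coe_mul] <;>
        simp only [← Matrix.SpecialLinearGroup.coe_mul, Fin.zero_eta, Fin.mk_one, Fin.isValue,
          mul_apply_00, mul_apply_01, mul_apply_10, mul_apply_11, inv_apply_00,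
          inv_apply_01, inv_apply_10, inv_apply_11, hh_00, hh_01, hh_10, hh_11]
      · ring
      · linear_combination (((l : F) - ((l⁻¹ : Fˣ) : F)) ^ 2) * e1
      · linear_combination (((l : F) - ((l⁻¹ : Fˣ) : F)) ^ 2) * e2
      · ring
  rw [key]
  constructor
  · rintro ⟨e1, e2⟩
    rcases mul_eq_zero.1 e1 with h00 | h01
    · right
      refine ⟨h00, ?_⟩
      rcases mul_eq_zero.1 e2 with h10 | h11
      · exfalso
        rw [h00, h10] at hd
        simp at hd
      · exact h11
    · left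
      refine ⟨h01, ?_⟩
      rcases mul_eq_zero.1 e2 with h10 | h11
      · exact h10
      · exfalso
        rw [h01, h11] at hd
        simp at hd
  · rintro (⟨h01, h10⟩ | ⟨h00, h11⟩)
    · rw [h01, h10]; simp
    · rw [h00, h11]; simp

/-- lower triangular matrices generate solvable groups -/
theorem mem_Sol_of_Bl {x y : SL2} (hx : x ∈ (Bl : Set SL2)) (hy : y ∈ (Bl : Set SL2)) :
    y ∈ Sol x := by
  have hx' : (x : M2) 0 1 = 0 := hx
  have hy' : (y : M2) 0 1 = 0 := hy
  rw [mem_Sol, ← isSolvable_closure_conj (j0 : SL2)]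
  apply mem_Sol_of_Bu
  · show ((j0 * x * j0⁻¹ : SL2) : M2) 1 0 = 0
    rw [conj_apply_10, hx']
    simp
  · show ((j0 * y * j0⁻¹ : SL2) : M2) 1 0 = 0
    rw [conj_apply_10, hy']
    simp

/-- the solubiliser of a split semisimple element -/
theorem Sol_hh' (h2 : (2 : F) ≠ 0) (hsq2 : ∀ t : F, t ^ 2 ≠ 2) {l : Fˣ} (hl : (l : F) ^ 2 ≠ 1)
    (ht0 : tr (hh l : SL2) ≠ 0) (ht1 : tr (hh l : SL2) ≠ 1) (htm1 : tr (hh l : SL2) ≠ -1) :
    Sol (hh l : SL2) = Bu ∪ Bl ∪ Tn := by
  have hne := hh_sub_ne' hl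
  have h1 : (l : F) * ((l⁻¹ : Fˣ) : F) = 1 := Units.mul_inv l
  have ht4 : tr (hh l : SL2) ^ 2 ≠ 4 := by
    rw [tr_hh]
    intro h
    apply hne
    have : ((l : F) - ((l⁻¹ : Fˣ) : F)) ^ 2 = 0 := by linear_combination h - 4 * h1
    exact pow_eq_zero_iff (two_ne_zero) |>.1 this
  have hxc := not_mem_center_of_tr h2 ht4
  ext y
  constructor
  · intro hy
    have hy' : Group.IsSolvable (Subgroup.closure ({hh l, y} : Set SL2)) := hy
    set L := Subgroup.closure ({hh l, y} : Set SL2) with hLdef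
    have hxL : hh l ∈ L := Subgroup.subset_closure (by simp)
    have hyL : y ∈ L := Subgroup.subset_closure (by simp)
    have hL : ¬ L ≤ Subgroup.center SL2 := fun h => hxc (h hxL)
    rcases solvable_cases h2 hsq2 L hy' hL with ⟨a, -, hac, hLa⟩ | ⟨Q, -, hQtr, -, hQ⟩
    · by_cases hta : tr a ^ 2 = 4
      · obtain ⟨s, hs⟩ := exists_conj_upper h2 hac hta
        have e1 := hs _ (hLa hxL)
        have e2 := hs _ (hLa hyL)
        rw [conj_apply_10] at e1 e2
        simp only [hh_00, hh_01, hh_10, hh_11, mul_zero, add_zero, sub_zero] at e1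
        have hds := det_eq s
        rcases mul_eq_zero.1 e1 with h | h
        · rcases mul_eq_zero.1 h with h | h
          · -- `s` upper triangular
            rw [h] at e2 hds
            left; left
            show (y : M2) 1 0 = 0
            have h11 : (s : M2) 1 1 ≠ 0 := by
              intro h0
              rw [h0] at hds
              simp at hds
            have : (s : M2) 1 1 ^ 2 * (y : M2) 1 0 = 0 := by linear_combination e2
            exact (mul_eq_zero.1 this).resolve_left (pow_ne_zero 2 h11)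
          · rw [h] at e2 hds
            left; right
            show (y : M2) 0 1 = 0
            have h10 : (s : M2) 1 0 ≠ 0 := by
              intro h0
              rw [h0] at hds
              simp at hds
            have : (s : M2) 1 0 ^ 2 * (y : M2) 0 1 = 0 := by linear_combination -e2
            exact (mul_eq_zero.1 this).resolve_left (pow_ne_zero 2 h10)
        · exact absurd h hne
      · rcases mem_NC_cases h2 hta (hLa hxL) with h | ⟨-, h⟩
        · have : NC a = NC (hh l) := NC_eqZ isCTZ hac hxc (mem_Cn.1 h).symm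
          have hyN : y ∈ NC (hh l) := by
            rw [← this]
            exact hLa hyL
          rcases (mem_NC_hh' h2 hl y).1 hyN with ⟨-, h10⟩ | h
          · exact Or.inl (Or.inl h10)
          · exact Or.inr h
        · exact absurd h ht0
    · rcases one_not_Q_cases hxc hQtr (hQ _ hxL) with h | h | h
      · exact absurd h ht0
      · exact absurd h ht1
      · exact absurd h htm1
  · rintro ((hy | hy) | hy)
    · exact mem_Sol_of_Bu (by show ((hh l : SL2) : M2) 1 0 = 0; rfl) hy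
    · exact mem_Sol_of_Bl (by show ((hh l : SL2) : M2) 0 1 = 0; rfl) hy
    · exact mem_Sol_of_mem_NC hxc ((mem_NC_hh' h2 hl y).2 (Or.inr hy))

end Cfsg.Agent.Lib.H2.QSol
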