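import Mathlib
import Cfsg.Agent.Lib.H2.QSol5

/-!
# Solubilisers of involutions and of elements of order three in `SL₂(F)`, characteristic three,
`-1` a non-square
-/

set_option autoImplicit false

namespace Cfsg.Agent.Lib.H2.QSol

open scoped commutatorElement

open Matrix Cfsg.Agent.Lib.H4.Dickson Cfsg.Agent.Lib.H12 Cfsg.Agent.Lib.H2.CTSol
  Cfsg.Agent.Lib.H2.PSol
open Cfsg.Agent.Lib.H5.PSL2Klein (j0 j0_mul_self)

variable {F : Type*} [Field F]

local notation "SL2" => Matrix.SpecialLinearGroup (Fin 2) F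
local notation "M2" => Matrix (Fin 2) (Fin 2) F

/-! ### General matrix identities -/

theorem tr_mul_conj_uu (β : F) (z : SL2) :
    tr (z * (uu β * z * (uu β)⁻¹)) = tr z ^ 2 - 2 - β ^ 2 * (z : M2) 1 0 ^ 2 := by
  have hd := det_eq z
  unfold tr
  simp only [mul_apply_00, mul_apply_01, mul_apply_10, mul_apply_11, inv_apply_00, inv_apply_01,
    inv_apply_10, inv_apply_11, uu_00, uu_01, uu_10, uu_11]
  linear_combination (-2 : F) * hd

theorem conj_uu_apply_00 (β : F) (z : SL2) :
    ((uu β * z * (uu β)⁻¹ : SL2) : M2) 0 0 = (z : M2) 0 0 + β * (z : M2) 1 0 := by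
  simp only [mul_apply_00, mul_apply_01, mul_apply_10, mul_apply_11, inv_apply_00, inv_apply_01,
    inv_apply_10, inv_apply_11, uu_00, uu_01, uu_10, uu_11]
  ring

theorem conj_uu_apply_10 (β : F) (z : SL2) :
    ((uu β * z * (uu β)⁻¹ : SL2) : M2) 1 0 = (z : M2) 1 0 := by
  simp only [mul_apply_00, mul_apply_01, mul_apply_10, mul_apply_11, inv_apply_00, inv_apply_01,
    inv_apply_10, inv_apply_11, uu_00, uu_01, uu_10, uu_11]
  ring

/-- the `(1,0)` entry of a conjugate of a trace zero matrix -/
theorem key_conj (β : F) {z : SL2} (hz : tr z = 0) (y : SL2) :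
    (β * (z : M2) 1 0) * (β * ((y * z * y⁻¹ : SL2) : M2) 1 0) =
      ((β * (z : M2) 1 0) * (y : M2) 1 1 + (z : M2) 0 0 * (β * (y : M2) 1 0)) ^ 2 +
        (β * (y : M2) 1 0) ^ 2 := by
  have hd := det_eq z
  have h11 : (z : M2) 1 1 = -(z : M2) 0 0 := by
    unfold tr at hz
    linear_combination hz
  rw [conj_apply_10, h11]
  rw [h11] at hd
  linear_combination (β ^ 2 * (y : M2) 1 0 ^ 2) * hd

theorem tr_j0 : tr (j0 : SL2) = 0 := by
  unfold tr; simp

theorem tr_j0_mul_conj (y : SL2) : tr (j0 * (y * j0 * y⁻¹)) =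
    -((y : M2) 0 0 ^ 2 + (y : M2) 0 1 ^ 2 + (y : M2) 1 0 ^ 2 + (y : M2) 1 1 ^ 2) := by
  unfold tr
  simp only [mul_apply_00, mul_apply_01, mul_apply_10, mul_apply_11, inv_apply_00, inv_apply_01,
    inv_apply_10, inv_apply_11, j0_00, j0_01, j0_10, j0_11]
  ring

theorem sum_sq_of_tr {y : SL2} (h : tr y = 1 ∨ tr y = -1) :
    (y : M2) 0 0 ^ 2 + (y : M2) 0 1 ^ 2 + (y : M2) 1 0 ^ 2 + (y : M2) 1 1 ^ 2 =
      ((y : M2) 0 1 - (y : M2) 1 0) ^ 2 - 1 := by
  have hd := det_eq y
  have ht : tr y ^ 2 = 1 := by
    rcases h with h | h <;> rw [h] <;> ring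
  unfold tr at ht
  linear_combination ht - 2 * hd

/-- the centraliser of `j0` -/
def T0 : Set SL2 := {g | (g : M2) 0 0 = (g : M2) 1 1 ∧ (g : M2) 0 1 = -(g : M2) 1 0}

/-- symmetric matrices: the elements inverted by `j0` -/
def Rs : Set SL2 := {g | (g : M2) 0 1 = (g : M2) 1 0}

/-- the elements of order three or six cycling a quaternion group containing `j0` -/
def Es : Set SL2 := {g | (tr g = 1 ∨ tr g = -1) ∧
  ((g : M2) 0 1 - (g : M2) 1 0 = 1 ∨ (g : M2) 0 1 - (g : M2) 1 0 = -1)}

theorem mem_Cn_j0 (g : SL2) : g ∈ Cn (j0 : SL2) ↔ g ∈ (T0 : Set SL2) := by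
  rw [mem_Cn]
  constructor
  · intro h
    have e := h.eq
    have e00 := congrArg (fun z : SL2 => (z : M2) 0 0) e
    have e01 := congrArg (fun z : SL2 => (z : M2) 0 1) e
    simp only [mul_apply_00, mul_apply_01, j0_00, j0_01, j0_10, j0_11] at e00 e01
    constructor
    · linear_combination e01
    · linear_combination -e00
  · rintro ⟨h1, h2⟩
    show g * j0 = j0 * g
    apply sl2_ext <;>
      simp only [mul_apply_00, mul_apply_01, mul_apply_10, mul_apply_11, j0_00, j0_01, j0_10,
        j0_11]
    · linear_combination -h2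
    · linear_combination h1
    · linear_combination h1
    · linear_combination h2

theorem conj_j0_eq_inv_iff (g : SL2) : j0 * g * j0⁻¹ = g⁻¹ ↔ g ∈ (Rs : Set SL2) := by
  constructor
  · intro h
    have e01 := congrArg (fun z : SL2 => (z : M2) 0 1) h
    simp only [mul_apply_00, mul_apply_01, mul_apply_10, mul_apply_11, inv_apply_00, inv_apply_01,
      inv_apply_10, inv_apply_11, j0_00, j0_01, j0_10, j0_11] at e01
    show (g : M2) 0 1 = (g : M2) 1 0
    linear_combination e01
  · intro h
    have h' : (g : M2) 0 1 = (g : M2) 1 0 := h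
    apply sl2_ext <;>
      simp only [mul_apply_00, mul_apply_01, mul_apply_10, mul_apply_11, inv_apply_00,
        inv_apply_01, inv_apply_10, inv_apply_11, j0_00, j0_01, j0_10, j0_11]
    · ring
    · linear_combination h'
    · linear_combination -h'
    · ring

section char3

variable (h3 : (3 : F) = 0) (hm1 : ∀ t : F, t ^ 2 ≠ -1)

include h3

theorem two_eq : (2 : F) = -1 := by linear_combination h3

theorem two_ne : (2 : F) ≠ 0 := by
  rw [two_eq h3]
  exact neg_ne_zero.2 one_ne_zero

include hm1

theorem sq_ne_two (t : F) : t ^ 2 ≠ 2 := by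
  rw [two_eq h3]
  exact hm1 t

/-- the final algebra for the `(1,0)` entries -/
theorem key_alg {S R e d0 d1 d2 : F} (he : e ^ 2 = 1) (h0 : d0 ^ 2 = 1) (h1 : d1 ^ 2 = 1)
    (h2 : d2 ^ 2 = 1) (e0 : d0 = S ^ 2 + R ^ 2) (e1 : d1 = (S + e * R) ^ 2 + R ^ 2)
    (e2 : d2 = (S + 2 * e * R) ^ 2 + R ^ 2) : R = 0 ∨ R = 1 ∨ R = -1 := by
  have hR : 2 * R ^ 2 = d2 + d0 - 2 * d1 := by
    rw [e0, e1, e2]
    linear_combination (-2 * R ^ 2) * he
  have hR' : -R ^ 2 = d0 + d1 + d2 := by linear_combination hR - (R ^ 2 + d1) * h3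
  have c0 : d0 = 1 ∨ d0 = -1 := by
    have : (d0 - 1) * (d0 + 1) = 0 := by linear_combination h0
    rcases mul_eq_zero.1 this with h | h
    · exact Or.inl (sub_eq_zero.1 h)
    · exact Or.inr (eq_neg_of_add_eq_zero_left h)
  have c1 : d1 = 1 ∨ d1 = -1 := by
    have : (d1 - 1) * (d1 + 1) = 0 := by linear_combination h1
    rcases mul_eq_zero.1 this with h | h
    · exact Or.inl (sub_eq_zero.1 h)
    · exact Or.inr (eq_neg_of_add_eq_zero_left h)
  have c2 : d2 = 1 ∨ d2 = -1 := by
    have : (d2 - 1) * (d2 + 1) = 0 := by linear_combination h2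
    rcases mul_eq_zero.1 this with h | h
    · exact Or.inl (sub_eq_zero.1 h)
    · exact Or.inr (eq_neg_of_add_eq_zero_left h)
  have zero_case : R ^ 2 = 0 → R = 0 ∨ R = 1 ∨ R = -1 := fun h =>
    Or.inl (pow_eq_zero_iff (two_ne_zero) |>.1 h)
  have one_case : R ^ 2 = 1 → R = 0 ∨ R = 1 ∨ R = -1 := by
    intro h
    have : (R - 1) * (R + 1) = 0 := by linear_combination h
    rcases mul_eq_zero.1 this with h | h
    · exact Or.inr (Or.inl (sub_eq_zero.1 h))
    · exact Or.inr (Or.inr (eq_neg_of_add_eq_zero_left h))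
  have neg_case : R ^ 2 = -1 → R = 0 ∨ R = 1 ∨ R = -1 := fun h => absurd h (hm1 R)
  rcases c0 with c0 | c0 <;> rcases c1 with c1 | c1 <;> rcases c2 with c2 | c2 <;>
    rw [c0, c1, c2] at hR'
  · exact zero_case (by linear_combination -hR' - h3)
  · exact neg_case (by linear_combination -hR')
  · exact neg_case (by linear_combination -hR')
  · exact one_case (by linear_combination -hR')
  · exact neg_case (by linear_combination -hR')
  · exact one_case (by linear_combination -hR')
  · exact one_case (by linear_combination -hR')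
  · exact zero_case (by linear_combination -hR' + h3)

/-- the elements outside the Borel subgroup generating a solvable group with `uu β` -/
def Zu (β : F) : Set SL2 := {g | (β * (g : M2) 1 0 = 1 ∨ β * (g : M2) 1 0 = -1) ∧
  (tr g = 0 ∨ tr g = 1 ∨ tr g = -1)}

omit hm1 in
theorem uu_cube (β : F) : (uu β : SL2) * uu β * uu β = 1 := by
  rw [← uu_add, ← uu_add]
  have : β + β + β = 0 := by linear_combination β * h3
  rw [this, uu_zero]

omit hm1 in
theorem tr_uu' (β : F) : tr (uu β : SL2) = -1 := by
  rw [tr_uu, two_eq h3]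

omit hm1 in
theorem mem_Sol_uu_of_tr {β : F} {z : SL2} (hz : tr z = 0)
    (he : (β * (z : M2) 1 0) ^ 2 = 1) : z ∈ Sol (uu β : SL2) := by
  have h2 := two_ne h3
  apply mem_Sol_of_cube h2
  · rw [uu_cube h3]
    exact Subgroup.one_mem _
  · apply AC.symm
    apply AC_of_tr hz
    · rw [tr_cj]; exact hz
    · show tr (z * (uu β * z * (uu β)⁻¹)) = 0
      rw [tr_mul_conj_uu, hz]
      linear_combination -he - h3

/-- the solubiliser of `uu β` -/
theorem Sol_uu' {β : F} (hβ : β ≠ 0) : Sol (uu β : SL2) = Bu ∪ Zu β := by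
  have h2 := two_ne h3
  have hsq2 := sq_ne_two h3 hm1
  have hxc := uu_not_mem_center (F := F) hβ
  have hxBu : (uu β : SL2) ∈ (Bu : Set SL2) := by
    show ((uu β : SL2) : M2) 1 0 = 0
    simp
  ext y
  constructor
  · intro hy
    have hy' : Group.IsSolvable (Subgroup.closure ({uu β, y} : Set SL2)) := hy
    set L := Subgroup.closure ({uu β, y} : Set SL2) with hLdef
    have hxL : uu β ∈ L := Subgroup.subset_closure (by simp)
    have hyL : y ∈ L := Subgroup.subset_closure (by simp)
    have hL : ¬ L ≤ Subgroup.center SL2 := fun h => hxc (h hxL)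
    rcases solvable_cases h2 hsq2 L hy' hL with ⟨a, -, hac, hLa⟩ | ⟨Q, hQne, hQtr, hQconj, hQ⟩
    · by_cases hta : tr a ^ 2 = 4
      · obtain ⟨s, hs⟩ := exists_conj_upper h2 hac hta
        have e1 := hs _ (hLa hxL)
        have e2 := hs _ (hLa hyL)
        rw [conj_uu_10] at e1
        have hs10 : (s : M2) 1 0 = 0 := by
          rcases mul_eq_zero.1 e1 with h | h
          · exact absurd (neg_eq_zero.1 h) hβ
          · exact pow_eq_zero_iff (two_ne_zero) |>.1 h
        rw [conj_apply_10, hs10] at e2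
        have hds := det_eq s
        rw [hs10] at hds
        left
        show (y : M2) 1 0 = 0
        have h11 : (s : M2) 1 1 ≠ 0 := by
          intro h0
          rw [h0] at hds
          simp at hds
        have : (s : M2) 1 1 ^ 2 * (y : M2) 1 0 = 0 := by linear_combination e2
        exact (mul_eq_zero.1 this).resolve_left (pow_ne_zero 2 h11)
      · exfalso
        rcases mem_NC_cases h2 hta (hLa hxL) with h | ⟨-, h⟩
        · have hc : Commute a (uu β) := (mem_Cn.1 h).symm
          have := (commute_uu_iff hβ a).1 hc.eq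
          apply hta
          have hda := det_eq a
          rw [this.1, this.2] at hda
          unfold tr
          rw [this.2]
          linear_combination 4 * hda
        · rw [tr_uu' h3] at h
          exact one_ne_zero (neg_eq_zero.1 h)
    · -- the quaternion case
      have hxQ : ∀ z ∈ Q, tr (z * (uu β * z * (uu β)⁻¹)) = 0 := by
        rcases hQ _ hxL with (h | h | h) | ⟨-, h⟩
        · exact absurd ((mem_center_iff' _).2 (Or.inl h)) hxc
        · exact absurd ((mem_center_iff' _).2 (Or.inr h)) hxc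
        · have := hQtr _ h
          rw [tr_uu' h3] at this
          exact absurd (neg_eq_zero.1 this) one_ne_zero
        · exact h
      have hP : ∀ z ∈ Q, (β * (z : M2) 1 0) ^ 2 = 1 := by
        intro z hz
        have := hxQ z hz
        rw [tr_mul_conj_uu, hQtr z hz] at this
        linear_combination -this - h3
      rcases hQ y hyL with (h | h | h) | ⟨htr, -⟩
      · left
        rw [h]
        show ((1 : SL2) : M2) 1 0 = 0
        simp
      · left
        rw [h]
        show ((-1 : SL2) : M2) 1 0 = 0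
        simp
      · right
        refine ⟨?_, Or.inl (hQtr y h)⟩
        have := hP y h
        have : (β * (y : M2) 1 0 - 1) * (β * (y : M2) 1 0 + 1) = 0 := by linear_combination this
        rcases mul_eq_zero.1 this with h | h
        · exact Or.inl (sub_eq_zero.1 h)
        · exact Or.inr (eq_neg_of_add_eq_zero_left h)
      · obtain ⟨z0, hz0⟩ := hQne
        have hz1 := hQconj _ hxL z0 hz0
        have hz2 := hQconj _ hxL _ hz1
        set z1 := uu β * z0 * (uu β)⁻¹ with hz1def
        set z2 := uu β * z1 * (uu β)⁻¹ with hz2def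
        have k0 := key_conj β (hQtr z0 hz0) y
        have k1 := key_conj β (hQtr z1 hz1) y
        have k2 := key_conj β (hQtr z2 hz2) y
        have a1 : (z1 : M2) 0 0 = (z0 : M2) 0 0 + β * (z0 : M2) 1 0 := conj_uu_apply_00 β z0
        have c1 : (z1 : M2) 1 0 = (z0 : M2) 1 0 := conj_uu_apply_10 β z0
        have a2 : (z2 : M2) 0 0 = (z1 : M2) 0 0 + β * (z1 : M2) 1 0 := conj_uu_apply_00 β z1
        have c2 : (z2 : M2) 1 0 = (z1 : M2) 1 0 := conj_uu_apply_10 β z1
        rw [a2, c2, a1, c1] at k2
        rw [a1, c1] at k1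
        have he := hP z0 hz0
        have p0 := hP _ (hQconj y hyL z0 hz0)
        have p1 := hP _ (hQconj y hyL z1 hz1)
        have p2 := hP _ (hQconj y hyL z2 hz2)
        have hR := key_alg h3 hm1 (S := (β * (z0 : M2) 1 0) * (y : M2) 1 1 +
            (z0 : M2) 0 0 * (β * (y : M2) 1 0)) (R := β * (y : M2) 1 0) (e := β * (z0 : M2) 1 0)
          (d0 := (β * (z0 : M2) 1 0) * (β * ((y * z0 * y⁻¹ : SL2) : M2) 1 0))
          (d1 := (β * (z0 : M2) 1 0) * (β * ((y * z1 * y⁻¹ : SL2) : M2) 1 0))
          (d2 := (β * (z0 : M2) 1 0) * (β * ((y * z2 * y⁻¹ : SL2) : M2) 1 0)) he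
          (by rw [mul_pow, he, p0, one_mul]) (by rw [mul_pow, he, p1, one_mul])
          (by rw [mul_pow, he, p2, one_mul]) k0 (by rw [k1]; ring) (by rw [k2]; ring)
        rcases hR with h | h | h
        · left
          show (y : M2) 1 0 = 0
          exact (mul_eq_zero.1 h).resolve_left hβ
        · right
          exact ⟨Or.inl h, Or.inr htr⟩
        · right
          exact ⟨Or.inr h, Or.inr htr⟩
  · rintro (hy | ⟨he, ht⟩)
    · exact mem_Sol_of_Bu hxBu hy
    · have he2 : (β * (y : M2) 1 0) ^ 2 = 1 := by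
        rcases he with h | h <;> rw [h] <;> ring
      have hmul : ∀ γ : F, tr (y * uu γ) = tr y + γ * (y : M2) 1 0 := by
        intro γ
        unfold tr
        simp only [mul_apply_00, mul_apply_11, uu_00, uu_01, uu_10, uu_11]
        ring
      have hmul10 : ∀ γ : F, ((y * uu γ : SL2) : M2) 1 0 = (y : M2) 1 0 := by
        intro γ
        simp only [mul_apply_10, uu_00, uu_10]
        ring
      have hxS : (uu β : SL2) ∈ Subgroup.closure ({uu β, y * uu β} : Set SL2) :=
        Subgroup.subset_closure (by simp)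
      have hxS' : (uu β : SL2) ∈ Subgroup.closure ({uu β, y * uu (-β)} : Set SL2) :=
        Subgroup.subset_closure (by simp)
      -- `y * uu β` or `y * uu (-β)` or `y` has trace zero
      have plus : tr y + β * (y : M2) 1 0 = 0 → y ∈ Sol (uu β : SL2) := by
        intro h0
        have hz : y * uu β ∈ Sol (uu β : SL2) := by
          apply mem_Sol_uu_of_tr h3
          · rw [hmul]; exact h0
          · rw [hmul10]; exact he2
        apply mem_Sol_of_mem_closure hz
        have hmem : (y * uu β) * (uu β)⁻¹ ∈ Subgroup.closure ({uu β, y * uu β} : Set SL2) :=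
          Subgroup.mul_mem _ (Subgroup.subset_closure (by simp)) (Subgroup.inv_mem _ hxS)
        have e : (y * uu β) * (uu β)⁻¹ = y := by group
        rwa [e] at hmem
      have minus : tr y - β * (y : M2) 1 0 = 0 → y ∈ Sol (uu β : SL2) := by
        intro h0
        have hz : y * uu (-β) ∈ Sol (uu β : SL2) := by
          apply mem_Sol_uu_of_tr h3
          · rw [hmul]; linear_combination h0
          · rw [hmul10]; exact he2
        apply mem_Sol_of_mem_closure hz
        have hmem : (y * uu (-β)) * uu β ∈ Subgroup.closure ({uu β, y * uu (-β)} : Set SL2) :=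
          Subgroup.mul_mem _ (Subgroup.subset_closure (by simp)) hxS'
        have e : (y * uu (-β)) * uu β = y := by rw [uu_neg]; group
        rwa [e] at hmem
      rcases ht with ht | ht | ht
      · exact mem_Sol_uu_of_tr h3 ht he2
      · rcases he with he | he
        · apply minus; rw [ht, he]; ring
        · apply plus; rw [ht, he]; ring
      · rcases he with he | he
        · apply plus; rw [ht, he]; ring
        · apply minus; rw [ht, he]; ring

end char3

end Cfsg.Agent.Lib.H2.QSol
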