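import Mathlib
import Cfsg.Agent.Lib.H2.QSol6

/-!
# The solubiliser of an element of square `-1` in `SL₂(F)`, characteristic three, `-1` a non-square
-/

set_option autoImplicit false

namespace Cfsg.Agent.Lib.H2.QSol

open scoped commutatorElement

open Matrix Cfsg.Agent.Lib.H4.Dickson Cfsg.Agent.Lib.H12 Cfsg.Agent.Lib.H2.CTSol
  Cfsg.Agent.Lib.H2.PSol
open Cfsg.Agent.Lib.H5.PSL2Klein (j0 j0_mul_self)

variable {F : Type*} [Field F]

local notation "SL2" => Matrix.SpecialLinearGroup (Fin 2) F
local notation "M2" => Matrix (Fin 2) (Fin 2) F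

section char3

variable (h3 : (3 : F) = 0) (hm1 : ∀ t : F, t ^ 2 ≠ -1)

include h3 hm1

/-- the solubiliser of `j0` -/
theorem Sol_j0 : Sol (j0 : SL2) = T0 ∪ Rs ∪ I0 ∪ Es := by
  have h2 := two_ne h3
  have hsq2 := sq_ne_two h3 hm1
  have htj : tr (j0 : SL2) = 0 := tr_j0
  have ht4 : tr (j0 : SL2) ^ 2 ≠ 4 := by
    rw [htj]
    intro h
    have : (2 : F) ^ 2 = 0 := by linear_combination -h
    exact h2 (pow_eq_zero_iff (two_ne_zero) |>.1 this)
  have hxc := not_mem_center_of_tr h2 ht4
  ext y
  constructor
  · intro hy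
    have hy' : Group.IsSolvable (Subgroup.closure ({j0, y} : Set SL2)) := hy
    set L := Subgroup.closure ({j0, y} : Set SL2) with hLdef
    have hxL : j0 ∈ L := Subgroup.subset_closure (by simp)
    have hyL : y ∈ L := Subgroup.subset_closure (by simp)
    have hL : ¬ L ≤ Subgroup.center SL2 := fun h => hxc (h hxL)
    rcases solvable_cases h2 hsq2 L hy' hL with ⟨a, -, hac, hLa⟩ | ⟨Q, -, hQtr, -, hQ⟩
    · by_cases hta : tr a ^ 2 = 4
      · exfalso
        obtain ⟨s, hs⟩ := exists_conj_upper h2 hac hta
        have := root_of_upper (hs _ (hLa hxL))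
        rw [tr_conj, htj] at this
        exact hm1 _ (by linear_combination this)
      · have hd : NonScalar (a : M2) := nonScalar_of_not_mem_center hac
        rcases mem_NC_cases h2 hta (hLa hxL) with h | ⟨hinv, -⟩
        · have : NC a = NC (j0 : SL2) := NC_eqZ isCTZ hac hxc (mem_Cn.1 h).symm
          have hyN : y ∈ NC (j0 : SL2) := by
            rw [← this]
            exact hLa hyL
          rcases mem_NC_cases h2 ht4 hyN with h | ⟨-, h⟩
          · exact Or.inl (Or.inl (Or.inl ((mem_Cn_j0 y).1 h)))
          · exact Or.inl (Or.inr h)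
        · rcases mem_NC_cases h2 hta (hLa hyL) with h | ⟨-, h⟩
          · have := inverts_centralizer hd hinv h
            exact Or.inl (Or.inl (Or.inr ((conj_j0_eq_inv_iff y).1 this)))
          · exact Or.inl (Or.inr h)
    · have hjQ : (j0 : SL2) ∈ Q := by
        rcases hQ _ hxL with (h | h | h) | ⟨h, -⟩
        · exact absurd ((mem_center_iff' _).2 (Or.inl h)) hxc
        · exact absurd ((mem_center_iff' _).2 (Or.inr h)) hxc
        · exact h
        · exfalso
          rw [htj] at h
          rcases h with h | h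
          · exact zero_ne_one h
          · exact one_ne_zero (neg_eq_zero.1 h.symm)
      rcases hQ y hyL with (h | h | h) | ⟨htr, hz⟩
      · left; left; left
        rw [h]
        constructor <;> simp
      · left; left; left
        rw [h]
        constructor <;> simp
      · exact Or.inl (Or.inr (hQtr y h))
      · right
        refine ⟨htr, ?_⟩
        have := hz _ hjQ
        rw [tr_j0_mul_conj, sum_sq_of_tr htr] at this
        have : ((y : M2) 0 1 - (y : M2) 1 0 - 1) * ((y : M2) 0 1 - (y : M2) 1 0 + 1) = 0 := by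
          linear_combination -this
        rcases mul_eq_zero.1 this with h | h
        · exact Or.inl (sub_eq_zero.1 h)
        · exact Or.inr (eq_neg_of_add_eq_zero_left h)
  · have hR : ∀ y : SL2, y ∈ (Rs : Set SL2) → y ∈ Sol (j0 : SL2) := by
      intro y hy
      by_cases hyc : y ∈ Subgroup.center SL2
      · apply mem_Sol_of_mem_Cn
        rw [mem_Cn]
        rw [Subgroup.mem_center_iff] at hyc
        exact (hyc j0).symm
      · apply mem_Sol_symm
        apply mem_Sol_of_mem_NC hyc
        rw [mem_NC_iffZ isCTZ hyc, (conj_j0_eq_inv_iff y).2 hy]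
        exact (Commute.refl y).inv_left
    rintro (((hy | hy) | hy) | ⟨htr, hy⟩)
    · exact mem_Sol_of_mem_Cn ((mem_Cn_j0 y).2 hy)
    · exact hR y hy
    · have hy' : tr y = 0 := hy
      have h1 : j0 * y ∈ (Rs : Set SL2) := by
        show ((j0 * y : SL2) : M2) 0 1 = ((j0 * y : SL2) : M2) 1 0
        simp only [mul_apply_01, mul_apply_10, j0_00, j0_01, j0_10, j0_11]
        unfold tr at hy'
        linear_combination hy'
      have h2' := hR _ h1
      apply mem_Sol_of_mem_closure h2'
      have hmem : (j0 : SL2)⁻¹ * (j0 * y) ∈ Subgroup.closure ({j0, j0 * y} : Set SL2) :=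
        Subgroup.mul_mem _ (Subgroup.inv_mem _ (Subgroup.subset_closure (by simp)))
          (Subgroup.subset_closure (by simp))
      rwa [inv_mul_cancel_left] at hmem
    · apply mem_Sol_symm
      apply mem_Sol_of_cube h2 (cube_of_tr htr)
      apply AC.symm
      apply AC_of_tr htj
      · rw [tr_cj]; exact htj
      · show tr (j0 * (y * j0 * y⁻¹)) = 0
        rw [tr_j0_mul_conj, sum_sq_of_tr htr]
        rcases hy with h | h <;> rw [h] <;> ring

end char3

end Cfsg.Agent.Lib.H2.QSol
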