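import Mathlib
import Cfsg.Agent.Lib.H2.QSol7

/-!
# Counting the solubilisers in `SL₂(q)`, `q` a power of three with `-1` a non-square
-/

set_option autoImplicit false
set_option linter.unusedSimpArgs false

namespace Cfsg.Agent.Lib.H2.QSol

open scoped commutatorElement

open Matrix Cfsg.Agent.Lib.H4.Dickson Cfsg.Agent.Lib.H12 Cfsg.Agent.Lib.H2.CTSol
  Cfsg.Agent.Lib.H2.PSol
open Cfsg.Agent.Lib.H5.PSL2Klein (j0 j0_mul_self)

variable {F : Type*} [Field F]

local notation "SL2" => Matrix.SpecialLinearGroup (Fin 2) F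
local notation "M2" => Matrix (Fin 2) (Fin 2) F

/-! ### The non-split torus normaliser -/

theorem not_isSquare_of_noroot (h2 : (2 : F) ≠ 0) {t : F} (hno : ∀ l : F, l ^ 2 - t * l + 1 ≠ 0) :
    ¬ IsSquare (t ^ 2 - 4) := by
  rintro ⟨s, hs⟩
  apply hno ((t + s) / 2)
  field_simp
  linear_combination -hs

theorem ncard_NC_nonsplit [Fintype F] (hodd : Odd (Fintype.card F)) {x : SL2}
    (hno : ∀ l : F, l ^ 2 - tr x * l + 1 ≠ 0) :
    (NC x : Set SL2).ncard = 2 * (Fintype.card F + 1) := by
  have h2 : (2 : F) ≠ 0 := two_ne_zero_of_odd hodd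
  have ht4 : (x : M2).trace ^ 2 ≠ 4 := by
    rw [← tr_eq_trace]
    intro h
    have h' : (tr x - 2) * (tr x + 2) = 0 := by linear_combination h
    rcases mul_eq_zero.1 h' with h | h
    · apply hno 1
      linear_combination -h
    · apply hno (-1)
      linear_combination h
  have hns : ¬ IsSquare ((x : M2).trace ^ 2 - 4) := by
    rw [← tr_eq_trace]
    exact not_isSquare_of_noroot h2 hno
  have hC := (regular_centralizer hodd x ht4).2.2 hns
  obtain ⟨w, hw⟩ := exists_inverting hodd ht4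
  have hdic := dicData_of_inverting h2 ht4 hw
  have := hdic.card
  rw [hC] at this
  rw [← this]
  exact (Nat.card_coe_set_eq _).symm

/-! ### Parametrisations -/

/-- symmetric matrices -/
noncomputable def mkR (p : F × Fˣ) : SL2 :=
  ⟨!![(p.2 : F), p.1; p.1, (1 + p.1 ^ 2) * ((p.2⁻¹ : Fˣ) : F)], by
    rw [Matrix.det_fin_two_of]
    have : (p.2 : F) * ((p.2⁻¹ : Fˣ) : F) = 1 := Units.mul_inv p.2
    linear_combination (1 + p.1 ^ 2) * this⟩

theorem mkR_injective : Function.Injective (mkR : F × Fˣ → SL2) := by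
  intro p p' h
  have h00 := congrArg (fun g : SL2 => (g : M2) 0 0) h
  have h01 := congrArg (fun g : SL2 => (g : M2) 0 1) h
  simp [mkR] at h00 h01
  exact Prod.ext h01 (Units.ext h00)

theorem range_mkR (hm1 : ∀ t : F, t ^ 2 ≠ -1) : Set.range (mkR : F × Fˣ → SL2) = Rs := by
  ext g
  constructor
  · rintro ⟨p, rfl⟩
    show ((mkR p : SL2) : M2) 0 1 = ((mkR p : SL2) : M2) 1 0
    simp [mkR]
  · intro hg
    have h' : (g : M2) 0 1 = (g : M2) 1 0 := hg
    have hd := det_eq g
    have h00 : (g : M2) 0 0 ≠ 0 := by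
      intro h0
      rw [h0, h'] at hd
      apply hm1 ((g : M2) 1 0)
      linear_combination -hd
    refine ⟨((g : M2) 0 1, Units.mk0 _ h00), ?_⟩
    apply sl2_ext
    · simp [mkR]
    · simp [mkR]
    · simp [mkR, h']
    · simp [mkR]
      field_simp
      rw [h'] at hd ⊢
      linear_combination -hd

/-- trace zero matrices -/
noncomputable def mkI0 (p : F × Fˣ) : SL2 :=
  ⟨!![p.1, (p.2 : F); -(1 + p.1 ^ 2) * ((p.2⁻¹ : Fˣ) : F), -p.1], by
    rw [Matrix.det_fin_two_of]
    have : (p.2 : F) * ((p.2⁻¹ : Fˣ) : F) = 1 := Units.mul_inv p.2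
    linear_combination (1 + p.1 ^ 2) * this⟩

theorem mkI0_injective : Function.Injective (mkI0 : F × Fˣ → SL2) := by
  intro p p' h
  have h00 := congrArg (fun g : SL2 => (g : M2) 0 0) h
  have h01 := congrArg (fun g : SL2 => (g : M2) 0 1) h
  simp [mkI0] at h00 h01
  exact Prod.ext h00 (Units.ext h01)

theorem range_mkI0 (hm1 : ∀ t : F, t ^ 2 ≠ -1) : Set.range (mkI0 : F × Fˣ → SL2) = I0 := by
  ext g
  constructor
  · rintro ⟨p, rfl⟩
    show tr (mkI0 p) = 0
    unfold tr
    simp [mkI0]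
  · intro hg
    have h' : (g : M2) 0 0 + (g : M2) 1 1 = 0 := hg
    have h11 : (g : M2) 1 1 = -(g : M2) 0 0 := by linear_combination h'
    have hd := det_eq g
    rw [h11] at hd
    have h01 : (g : M2) 0 1 ≠ 0 := by
      intro h0
      rw [h0] at hd
      apply hm1 ((g : M2) 0 0)
      linear_combination -hd
    refine ⟨((g : M2) 0 0, Units.mk0 _ h01), ?_⟩
    apply sl2_ext
    · simp [mkI0]
    · simp [mkI0]
    · simp [mkI0]
      field_simp
      linear_combination hd
    · simp [mkI0, h11]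

section fin

variable [Fintype F]

theorem ncard_Rs (hm1 : ∀ t : F, t ^ 2 ≠ -1) :
    (Rs : Set SL2).ncard = Fintype.card F * (Fintype.card F - 1) := by
  rw [← range_mkR hm1, Set.ncard_range_of_injective mkR_injective, Nat.card_prod, card_units',
    Nat.card_eq_fintype_card]

theorem ncard_I0' (hm1 : ∀ t : F, t ^ 2 ≠ -1) :
    (I0 : Set SL2).ncard = Fintype.card F * (Fintype.card F - 1) := by
  rw [← range_mkI0 hm1, Set.ncard_range_of_injective mkI0_injective, Nat.card_prod, card_units',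
    Nat.card_eq_fintype_card]

end fin

end Cfsg.Agent.Lib.H2.QSol
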