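import Mathlib
import Cfsg.Agent.Lib.H2.QSol8

/-!
# Counting the solubilisers of `j0` and `uu β` in `SL₂(q)`, `q` a power of three, `-1` a non-square
-/

set_option autoImplicit false
set_option linter.unusedSimpArgs false

namespace Cfsg.Agent.Lib.H2.QSol

open scoped commutatorElement

open Matrix Cfsg.Agent.Lib.H4.Dickson Cfsg.Agent.Lib.H12 Cfsg.Agent.Lib.H2.CTSol
  Cfsg.Agent.Lib.H2.PSol
open Cfsg.Agent.Lib.H5.PSL2Klein (j0 j0_mul_self)

variable {F : Type*} [Field F]

local notation "SL2" => Matrix.SpecialLinearGroup (Fin 2) F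
local notation "M2" => Matrix (Fin 2) (Fin 2) F

/-- signs -/
def sg (b : Bool) : F := if b then 1 else -1

theorem sg_sq (b : Bool) : (sg b : F) ^ 2 = 1 := by
  cases b <;> simp [sg]

theorem sg_cases (b : Bool) : (sg b : F) = 1 ∨ (sg b : F) = -1 := by
  cases b <;> simp [sg]

theorem sg_injective (h2 : (2 : F) ≠ 0) : Function.Injective (sg : Bool → F) := by
  have hne : (1 : F) ≠ -1 := by
    intro h
    apply h2
    linear_combination h
  intro b b' h
  cases b <;> cases b' <;> simp [sg] at h ⊢
  · exact hne h.symm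
  · exact hne h

theorem exists_sg {x : F} (h : x = 1 ∨ x = -1) : ∃ b : Bool, (sg b : F) = x := by
  rcases h with h | h
  · exact ⟨true, by simp [sg, h]⟩
  · exact ⟨false, by simp [sg, h]⟩

/-- `0`, `1`, `-1` -/
def tau : Option Bool → F
  | none => 0
  | some b => sg b

theorem tau_injective (h2 : (2 : F) ≠ 0) : Function.Injective (tau : Option Bool → F) := by
  intro o o' h
  cases o with
  | none =>
    cases o' with
    | none => rfl
    | some b =>
      exfalso
      have := sg_sq (F := F) b
      simp only [tau] at h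
      rw [← h] at this
      simp at this
  | some b =>
    cases o' with
    | none =>
      exfalso
      have := sg_sq (F := F) b
      simp only [tau] at h
      rw [h] at this
      simp at this
    | some b' =>
      simp only [tau] at h
      rw [sg_injective h2 h]

theorem exists_tau {x : F} (h : x = 0 ∨ x = 1 ∨ x = -1) : ∃ o : Option Bool, (tau o : F) = x := by
  rcases h with h | h
  · exact ⟨none, by simp [tau, h]⟩
  · obtain ⟨b, hb⟩ := exists_sg h
    exact ⟨some b, hb⟩

theorem tau_cases (o : Option Bool) : (tau o : F) = 0 ∨ (tau o : F) = 1 ∨ (tau o : F) = -1 := by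
  cases o with
  | none => exact Or.inl rfl
  | some b => exact Or.inr (sg_cases b)

/-! ### The elements of `Zu β` -/

/-- the parametrisation of `Zu β` -/
noncomputable def mkZ {β : F} (hβ : β ≠ 0) (p : Bool × Option Bool × F) : SL2 :=
  ⟨!![p.2.2, (p.2.2 * (tau p.2.1 - p.2.2) - 1) * (sg p.1 * β); sg p.1 * β⁻¹, tau p.2.1 - p.2.2], by
    rw [Matrix.det_fin_two_of]
    have h1 : β * β⁻¹ = 1 := mul_inv_cancel₀ hβ
    have h2 := sg_sq (F := F) p.1
    linear_combination (-(p.2.2 * (tau p.2.1 - p.2.2) - 1)) * (sg p.1) ^ 2 * h1 -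
      (p.2.2 * (tau p.2.1 - p.2.2) - 1) * h2⟩

theorem mkZ_injective (h2 : (2 : F) ≠ 0) {β : F} (hβ : β ≠ 0) :
    Function.Injective (mkZ hβ : Bool × Option Bool × F → SL2) := by
  rintro ⟨b, o, a⟩ ⟨b', o', a'⟩ h
  have h00 := congrArg (fun g : SL2 => (g : M2) 0 0) h
  have h10 := congrArg (fun g : SL2 => (g : M2) 1 0) h
  have h11 := congrArg (fun g : SL2 => (g : M2) 1 1) h
  simp [mkZ] at h00 h10 h11
  have hb : b = b' := by
    apply sg_injective h2
    rcases h10 with h | h
    · exact h
    · exact absurd h hβ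
  have ho : o = o' := by
    apply tau_injective h2
    rw [h00] at h11
    linear_combination h11
  rw [hb, ho, h00]

theorem range_mkZ {β : F} (hβ : β ≠ 0) :
    Set.range (mkZ hβ : Bool × Option Bool × F → SL2) = Zu β := by
  have h1 : β * β⁻¹ = 1 := mul_inv_cancel₀ hβ
  ext g
  constructor
  · rintro ⟨⟨b, o, a⟩, rfl⟩
    constructor
    · have : β * ((mkZ hβ (b, o, a) : SL2) : M2) 1 0 = sg b := by
        simp [mkZ]
        linear_combination (sg b) * h1
      rw [this]
      exact sg_cases b
    · have : tr (mkZ hβ (b, o, a)) = tau o := by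
        unfold tr
        simp [mkZ]
      rw [this]
      exact tau_cases o
  · rintro ⟨he, ht⟩
    obtain ⟨b, hb⟩ := exists_sg he
    obtain ⟨o, ho⟩ := exists_tau ht
    refine ⟨(b, o, (g : M2) 0 0), ?_⟩
    have hd := det_eq g
    have h11 : (g : M2) 1 1 = tau o - (g : M2) 0 0 := by
      rw [ho]
      unfold tr
      ring
    have h10 : (g : M2) 1 0 = sg b * β⁻¹ := by
      rw [hb]
      field_simp
    apply sl2_ext
    · simp [mkZ]
    · simp only [mkZ, Matrix.of_apply, Matrix.cons_val', Matrix.cons_val_zero,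
        Matrix.cons_val_one, Matrix.cons_val_fin_one]
      have hs := sg_sq (F := F) b
      rw [← h11]
      rw [h10] at hd
      linear_combination ((g : M2) 0 1 * sg b ^ 2) * h1 + (g : M2) 0 1 * hs + (sg b * β) * hd
    · simp [mkZ, h10]
    · simp [mkZ, h11]

section fin

variable [Fintype F]

theorem ncard_Zu (h2 : (2 : F) ≠ 0) {β : F} (hβ : β ≠ 0) :
    (Zu β : Set SL2).ncard = 6 * Fintype.card F := by
  rw [← range_mkZ hβ, Set.ncard_range_of_injective (mkZ_injective h2 hβ), Nat.card_prod,
    Nat.card_prod, Nat.card_eq_fintype_card, Nat.card_eq_fintype_card, Nat.card_eq_fintype_card,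
    Fintype.card_bool, Fintype.card_option, Fintype.card_bool]
  ring

omit [Fintype F] in
theorem disjoint_Bu_Zu (β : F) : Disjoint (Bu : Set SL2) (Zu β) := by
  rw [Set.disjoint_left]
  rintro g hg ⟨he, -⟩
  have h10 : (g : M2) 1 0 = 0 := hg
  rw [h10, mul_zero] at he
  rcases he with h | h
  · exact zero_ne_one h
  · exact one_ne_zero (neg_eq_zero.1 h.symm)

/-- the size of the solubiliser of `uu β` -/
theorem ncard_Bu_union_Zu (h2 : (2 : F) ≠ 0) {β : F} (hβ : β ≠ 0) :
    (Bu ∪ Zu β : Set SL2).ncard = Fintype.card F * (Fintype.card F + 5) := by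
  have hfin : ∀ s : Set SL2, s.Finite := fun s => Set.toFinite s
  rw [Set.ncard_union_eq (disjoint_Bu_Zu β) (hfin _) (hfin _), ncard_Bu, ncard_Zu h2 hβ]
  have hq : 1 ≤ Fintype.card F := Fintype.card_pos
  obtain ⟨j, hj⟩ : ∃ j, Fintype.card F = j + 1 := ⟨Fintype.card F - 1, by omega⟩
  rw [hj]
  simp only [Nat.add_sub_cancel]
  ring

end fin

end Cfsg.Agent.Lib.H2.QSol
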