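import Mathlib
import Cfsg.Agent.Lib.H2.QSol9

/-!
# Counting the solubiliser of `j0` in `SL₂(q)`, `q` a power of three, `-1` a non-square
-/

set_option autoImplicit false
set_option linter.unusedSimpArgs false

namespace Cfsg.Agent.Lib.H2.QSol

open scoped commutatorElement

open Matrix Cfsg.Agent.Lib.H4.Dickson Cfsg.Agent.Lib.H12 Cfsg.Agent.Lib.H2.CTSol
  Cfsg.Agent.Lib.H2.PSol
open Cfsg.Agent.Lib.H5.PSL2Klein (j0 j0_mul_self)

variable {F : Type*} [Field F]

local notation "SL2" => Matrix.SpecialLinearGroup (Fin 2) F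
local notation "M2" => Matrix (Fin 2) (Fin 2) F

/-- the circle -/
abbrev CircT (F : Type*) [Field F] : Type _ := {p : F × F // p.1 ^ 2 + p.2 ^ 2 = 1}

/-- the parametrisation of the centraliser of `j0` -/
def mkT0 (p : CircT F) : SL2 :=
  ⟨!![p.1.1, p.1.2; -p.1.2, p.1.1], by
    rw [Matrix.det_fin_two_of]
    have : p.1.1 ^ 2 + p.1.2 ^ 2 = 1 := p.2
    linear_combination this⟩

theorem mkT0_injective : Function.Injective (mkT0 : CircT F → SL2) := by
  intro p p' h
  have h00 := congrArg (fun g : SL2 => (g : M2) 0 0) h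
  have h01 := congrArg (fun g : SL2 => (g : M2) 0 1) h
  simp [mkT0] at h00 h01
  exact Subtype.ext (Prod.ext h00 h01)

theorem range_mkT0 : Set.range (mkT0 : CircT F → SL2) = T0 := by
  ext g
  constructor
  · rintro ⟨p, rfl⟩
    constructor <;> simp [mkT0]
  · rintro ⟨h1, h2⟩
    have hd := det_eq g
    refine ⟨⟨((g : M2) 0 0, (g : M2) 0 1), ?_⟩, ?_⟩
    · show (g : M2) 0 0 ^ 2 + (g : M2) 0 1 ^ 2 = 1
      rw [← h1, h2] at hd
      rw [h2]
      linear_combination hd
    · apply sl2_ext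
      · simp [mkT0]
      · simp [mkT0]
      · simp [mkT0, h2]
      · simp [mkT0, h1]

/-- the parametrisation of `Es` -/
def mkE (p : (Bool × Bool) × CircT F) : SL2 :=
  ⟨!![p.2.1.1 - sg p.1.1, p.2.1.2 - sg p.1.2; p.2.1.2 + sg p.1.2, -p.2.1.1 - sg p.1.1], by
    rw [Matrix.det_fin_two_of]
    have : p.2.1.1 ^ 2 + p.2.1.2 ^ 2 = 1 := p.2.2
    have h1 := sg_sq (F := F) p.1.1
    have h2 := sg_sq (F := F) p.1.2
    linear_combination -this + h1 + h2⟩

theorem mkE_injective (h2 : (2 : F) ≠ 0) :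
    Function.Injective (mkE : (Bool × Bool) × CircT F → SL2) := by
  rintro ⟨⟨b1, b2⟩, ⟨⟨u, v⟩, hp⟩⟩ ⟨⟨b1', b2'⟩, ⟨⟨u', v'⟩, hp'⟩⟩ h
  have h00 := congrArg (fun g : SL2 => (g : M2) 0 0) h
  have h01 := congrArg (fun g : SL2 => (g : M2) 0 1) h
  have h10 := congrArg (fun g : SL2 => (g : M2) 1 0) h
  have h11 := congrArg (fun g : SL2 => (g : M2) 1 1) h
  simp [mkE] at h00 h01 h10 h11
  have e1 : (sg b1 : F) = sg b1' := by
    have : 2 * ((sg b1 : F) - sg b1') = 0 := by linear_combination -h00 - h11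
    exact sub_eq_zero.1 ((mul_eq_zero.1 this).resolve_left h2)
  have e2 : (sg b2 : F) = sg b2' := by
    have : 2 * ((sg b2 : F) - sg b2') = 0 := by linear_combination h10 - h01
    exact sub_eq_zero.1 ((mul_eq_zero.1 this).resolve_left h2)
  have hb1 := sg_injective h2 e1
  have hb2 := sg_injective h2 e2
  subst hb1 hb2
  have hu : u = u' := by linear_combination h00
  have hv : v = v' := by linear_combination h01
  subst hu hv
  rfl

section char3

variable (h3 : (3 : F) = 0)

include h3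

theorem range_mkE : Set.range (mkE : (Bool × Bool) × CircT F → SL2) = Es := by
  ext g
  constructor
  · rintro ⟨⟨⟨b1, b2⟩, ⟨⟨u, v⟩, hp⟩⟩, rfl⟩
    constructor
    · have : tr (mkE ((b1, b2), ⟨(u, v), hp⟩)) = sg b1 := by
        unfold tr
        simp [mkE]
        linear_combination (-(sg b1 : F)) * h3
      rw [this]
      exact sg_cases b1
    · have : ((mkE ((b1, b2), ⟨(u, v), hp⟩) : SL2) : M2) 0 1 -
          ((mkE ((b1, b2), ⟨(u, v), hp⟩) : SL2) : M2) 1 0 = sg b2 := by
        simp [mkE]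
        linear_combination (-(sg b2 : F)) * h3
      rw [this]
      exact sg_cases b2
  · rintro ⟨ht, he⟩
    obtain ⟨b1, hb1⟩ := exists_sg ht
    obtain ⟨b2, hb2⟩ := exists_sg he
    have hd := det_eq g
    have h11 : (g : M2) 1 1 = sg b1 - (g : M2) 0 0 := by
      rw [hb1]; unfold tr; ring
    have h10 : (g : M2) 1 0 = (g : M2) 0 1 - sg b2 := by
      rw [hb2]; ring
    have s1 := sg_sq (F := F) b1
    have s2 := sg_sq (F := F) b2
    refine ⟨((b1, b2), ⟨((g : M2) 0 0 + sg b1, (g : M2) 0 1 + sg b2), ?_⟩), ?_⟩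
    · show ((g : M2) 0 0 + sg b1) ^ 2 + ((g : M2) 0 1 + sg b2) ^ 2 = 1
      rw [h11, h10] at hd
      linear_combination -hd + s1 + s2 +
        ((g : M2) 0 0 * sg b1 + (g : M2) 0 1 * sg b2) * h3
    · apply sl2_ext
      · simp [mkE]
      · simp [mkE]
      · simp [mkE, h10]
        linear_combination (sg b2 : F) * h3
      · simp [mkE, h11]
        linear_combination (-(sg b1 : F)) * h3

/-- an element of `Rs ∩ I0` -/
def s0 : SL2 := ⟨!![1, 1; 1, -1], by
  rw [Matrix.det_fin_two_of]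
  linear_combination -h3⟩

theorem Rs_inter_I0 : (Rs ∩ I0 : Set SL2) = (fun t => t * s0 h3) '' T0 := by
  ext g
  constructor
  · rintro ⟨hR, hI⟩
    have h1 : (g : M2) 0 1 = (g : M2) 1 0 := hR
    have h2 : (g : M2) 0 0 + (g : M2) 1 1 = 0 := hI
    refine ⟨g * (s0 h3)⁻¹, ?_, by simp⟩
    constructor
    · simp only [mul_apply_00, mul_apply_11, inv_apply_00, inv_apply_10, inv_apply_01,
        inv_apply_11]
      simp [s0]
      linear_combination -h1 - h2
    · simp only [mul_apply_01, mul_apply_10, inv_apply_00, inv_apply_10, inv_apply_01,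
        inv_apply_11]
      simp [s0]
      linear_combination h1 - h2
  · rintro ⟨t, ⟨h1, h2⟩, rfl⟩
    constructor
    · show ((t * s0 h3 : SL2) : M2) 0 1 = ((t * s0 h3 : SL2) : M2) 1 0
      simp only [mul_apply_01, mul_apply_10]
      simp [s0]
      linear_combination h1 - h2
    · show tr (t * s0 h3) = 0
      unfold tr
      simp only [mul_apply_00, mul_apply_11]
      simp [s0]
      linear_combination h1 + h2

end char3

end Cfsg.Agent.Lib.H2.QSol
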