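import Mathlib
import Cfsg.Agent.Lib.H2.QSol10

/-!
# The size of the solubiliser of `j0` in `SL₂(q)`, `q` a power of three, `-1` a non-square
-/

set_option autoImplicit false
set_option linter.unusedSimpArgs false

namespace Cfsg.Agent.Lib.H2.QSol

open scoped commutatorElement

open Matrix Cfsg.Agent.Lib.H4.Dickson Cfsg.Agent.Lib.H12 Cfsg.Agent.Lib.H2.CTSol
  Cfsg.Agent.Lib.H2.PSol
open Cfsg.Agent.Lib.H5.PSL2Klein (j0 j0_mul_self)

variable {F : Type*} [Field F]

local notation "SL2" => Matrix.SpecialLinearGroup (Fin 2) F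
local notation "M2" => Matrix (Fin 2) (Fin 2) F

theorem T0_eq_Cn : (T0 : Set SL2) = ((Cn (j0 : SL2) : Subgroup SL2) : Set SL2) := by
  ext g
  exact (mem_Cn_j0 g).symm

theorem T0_inter (h2 : (2 : F) ≠ 0) :
    (T0 ∩ (Rs ∪ I0) : Set SL2) = {1, -1, j0, -j0} := by
  ext g
  simp only [Set.mem_inter_iff, Set.mem_union, Set.mem_insert_iff, Set.mem_singleton_iff]
  constructor
  · rintro ⟨⟨h1, h2'⟩, hR | hI⟩
    · have hR' : (g : M2) 0 1 = (g : M2) 1 0 := hR
      have h10 : (g : M2) 1 0 = 0 := by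
        have : 2 * (g : M2) 1 0 = 0 := by linear_combination h2' - hR'
        exact (mul_eq_zero.1 this).resolve_left h2
      have h01 : (g : M2) 0 1 = 0 := by rw [hR', h10]
      have hd := det_eq g
      rw [h01, zero_mul, sub_zero, ← h1] at hd
      have : ((g : M2) 0 0 - 1) * ((g : M2) 0 0 + 1) = 0 := by linear_combination hd
      rcases mul_eq_zero.1 this with h | h
      · left
        apply sl2_ext <;> simp [h01, h10, ← h1, sub_eq_zero.1 h]
      · right; left
        apply sl2_ext <;> simp [h01, h10, ← h1, eq_neg_of_add_eq_zero_left h]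
    · have hI' : (g : M2) 0 0 + (g : M2) 1 1 = 0 := hI
      have h00 : (g : M2) 0 0 = 0 := by
        have : 2 * (g : M2) 0 0 = 0 := by linear_combination hI' + h1
        exact (mul_eq_zero.1 this).resolve_left h2
      have h11 : (g : M2) 1 1 = 0 := by rw [← h1, h00]
      have hd := det_eq g
      rw [h00, h11, h2'] at hd
      have : ((g : M2) 1 0 - 1) * ((g : M2) 1 0 + 1) = 0 := by linear_combination hd
      rcases mul_eq_zero.1 this with h | h
      · right; right; right
        apply sl2_ext <;> simp [h00, h11, h2', sub_eq_zero.1 h]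
      · right; right; left
        apply sl2_ext <;> simp [h00, h11, h2', eq_neg_of_add_eq_zero_left h]
  · rintro (rfl | rfl | rfl | rfl)
    · refine ⟨⟨by simp, by simp⟩, Or.inl ?_⟩
      show ((1 : SL2) : M2) 0 1 = ((1 : SL2) : M2) 1 0
      simp
    · refine ⟨⟨by simp, by simp⟩, Or.inl ?_⟩
      show ((-1 : SL2) : M2) 0 1 = ((-1 : SL2) : M2) 1 0
      simp
    · refine ⟨⟨by simp, by simp⟩, Or.inr ?_⟩
      show tr (j0 : SL2) = 0
      exact tr_j0
    · refine ⟨⟨by simp, by simp⟩, Or.inr ?_⟩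
      show tr (-j0 : SL2) = 0
      rw [tr_neg, tr_j0, neg_zero]

theorem ncard_four (h2 : (2 : F) ≠ 0) : ({1, -1, j0, -j0} : Set SL2).ncard = 4 := by
  have hne : (1 : F) ≠ -1 := by
    intro h
    apply h2
    linear_combination h
  have e1 : (j0 : SL2) ∉ ({-j0} : Set SL2) := by
    rw [Set.mem_singleton_iff]
    intro h
    have := congrArg (fun g : SL2 => (g : M2) 0 1) h
    simp at this
    exact hne this
  have e2 : (-1 : SL2) ∉ ({j0, -j0} : Set SL2) := by
    simp only [Set.mem_insert_iff, Set.mem_singleton_iff]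
    rintro (h | h)
    · have := congrArg (fun g : SL2 => (g : M2) 0 0) h
      simp at this
    · have := congrArg (fun g : SL2 => (g : M2) 0 0) h
      simp at this
  have e3 : (1 : SL2) ∉ ({-1, j0, -j0} : Set SL2) := by
    simp only [Set.mem_insert_iff, Set.mem_singleton_iff]
    rintro (h | h | h)
    · have := congrArg (fun g : SL2 => (g : M2) 0 0) h
      simp at this
      exact hne this
    · have := congrArg (fun g : SL2 => (g : M2) 0 0) h
      simp at this
    · have := congrArg (fun g : SL2 => (g : M2) 0 0) h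
      simp at this
  rw [Set.ncard_insert_of_notMem e3, Set.ncard_insert_of_notMem e2, Set.ncard_insert_of_notMem e1,
    Set.ncard_singleton]

section fin

variable [Fintype F]

theorem ncard_T0 (hodd : Odd (Fintype.card F)) (hm1 : ∀ t : F, t ^ 2 ≠ -1) :
    (T0 : Set SL2).ncard = Fintype.card F + 1 := by
  have h2 : (2 : F) ≠ 0 := two_ne_zero_of_odd hodd
  have htj : ((j0 : SL2) : M2).trace = 0 := by
    rw [← tr_eq_trace]; exact tr_j0
  have ht4 : ((j0 : SL2) : M2).trace ^ 2 ≠ 4 := by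
    rw [htj]
    intro h
    have : (2 : F) ^ 2 = 0 := by linear_combination -h
    exact h2 (pow_eq_zero_iff (two_ne_zero) |>.1 this)
  have hns : ¬ IsSquare (((j0 : SL2) : M2).trace ^ 2 - 4) := by
    rw [htj]
    rintro ⟨s, hs⟩
    apply hm1 (s / 2)
    field_simp
    linear_combination -hs
  have hC := (regular_centralizer hodd (j0 : SL2) ht4).2.2 hns
  rw [T0_eq_Cn, ← hC]
  exact (Nat.card_coe_set_eq _).symm

theorem card_CircT (hodd : Odd (Fintype.card F)) (hm1 : ∀ t : F, t ^ 2 ≠ -1) :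
    Nat.card (CircT F) = Fintype.card F + 1 := by
  rw [← ncard_T0 hodd hm1, ← range_mkT0, Set.ncard_range_of_injective mkT0_injective]

variable (h3 : (3 : F) = 0)

include h3

theorem ncard_Es (hodd : Odd (Fintype.card F)) (hm1 : ∀ t : F, t ^ 2 ≠ -1) :
    (Es : Set SL2).ncard = 4 * (Fintype.card F + 1) := by
  have h2 : (2 : F) ≠ 0 := two_ne_zero_of_odd hodd
  rw [← range_mkE h3, Set.ncard_range_of_injective (mkE_injective h2), Nat.card_prod,
    Nat.card_prod, card_CircT hodd hm1, Nat.card_eq_fintype_card, Fintype.card_bool]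

theorem ncard_Rs_inter_I0 (hodd : Odd (Fintype.card F)) (hm1 : ∀ t : F, t ^ 2 ≠ -1) :
    (Rs ∩ I0 : Set SL2).ncard = Fintype.card F + 1 := by
  rw [Rs_inter_I0 h3, Set.ncard_image_of_injective _ (mul_left_injective (s0 h3)),
    ncard_T0 hodd hm1]

omit [Fintype F] h3 in
theorem disjoint_Es (h2 : (2 : F) ≠ 0) : Disjoint (T0 ∪ Rs ∪ I0 : Set SL2) Es := by
  rw [Set.disjoint_left]
  rintro g ((⟨h1, h2'⟩ | hR) | hI) ⟨ht, he⟩
  · -- `T0`
    have hd := det_eq g
    unfold tr at ht
    rw [← h1] at ht hd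
    rw [h2'] at he hd
    have hA : ((g : M2) 0 0 + (g : M2) 0 0) ^ 2 = 1 := by
      rcases ht with h | h <;> rw [h] <;> ring
    have hB : (-(g : M2) 1 0 - (g : M2) 1 0) ^ 2 = 1 := by
      rcases he with h | h <;> rw [h] <;> ring
    apply h2
    linear_combination hA + hB - 4 * hd
  · have hR' : (g : M2) 0 1 = (g : M2) 1 0 := hR
    rw [hR', sub_self] at he
    rcases he with h | h
    · exact zero_ne_one h
    · exact one_ne_zero (neg_eq_zero.1 h.symm)
  · have hI' : tr g = 0 := hI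
    rw [hI'] at ht
    rcases ht with h | h
    · exact zero_ne_one h
    · exact one_ne_zero (neg_eq_zero.1 h.symm)

/-- the size of the solubiliser of `j0` -/
theorem ncard_Sol_j0_set (hodd : Odd (Fintype.card F)) (hm1 : ∀ t : F, t ^ 2 ≠ -1)
    (hq : 3 ≤ Fintype.card F) :
    (T0 ∪ Rs ∪ I0 ∪ Es : Set SL2).ncard = 2 * Fintype.card F * (Fintype.card F + 1) := by
  have h2 : (2 : F) ≠ 0 := two_ne_zero_of_odd hodd
  have hfin : ∀ s : Set SL2, s.Finite := fun s => Set.toFinite s
  rw [Set.ncard_union_eq (disjoint_Es h2) (hfin _) (hfin _), ncard_Es h3 hodd hm1]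
  have hA := Set.ncard_union_add_ncard_inter (Rs : Set SL2) I0 (hfin _) (hfin _)
  rw [ncard_Rs hm1, ncard_I0' hm1, ncard_Rs_inter_I0 h3 hodd hm1] at hA
  have hB := Set.ncard_union_add_ncard_inter (T0 : Set SL2) (Rs ∪ I0) (hfin _) (hfin _)
  rw [T0_inter h2, ncard_four h2, ncard_T0 hodd hm1, ← Set.union_assoc] at hB
  obtain ⟨j, hj⟩ : ∃ j, Fintype.card F = j + 3 := ⟨Fintype.card F - 3, by omega⟩
  rw [hj] at hA hB ⊢
  have e1 : (j + 3) * (j + 3 - 1) = j * j + 5 * j + 6 := by
    have : j + 3 - 1 = j + 2 := by omega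
    rw [this]; ring
  have e2 : 2 * (j + 3) * (j + 3 + 1) = 2 * (j * j) + 14 * j + 24 := by ring
  rw [e1] at hA
  rw [e2]
  omega

end fin

end Cfsg.Agent.Lib.H2.QSol
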