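import Mathlib
import Cfsg.Agent.Lib.H2.QSol11

/-!
# The sizes of the solubilisers in `SL₂(q)`, `q` a power of three, `-1` a non-square
-/

set_option autoImplicit false
set_option linter.unusedSimpArgs false

namespace Cfsg.Agent.Lib.H2.QSol

open scoped commutatorElement

open Matrix Cfsg.Agent.Lib.H4.Dickson Cfsg.Agent.Lib.H12 Cfsg.Agent.Lib.H2.CTSol
  Cfsg.Agent.Lib.H2.PSol
open Cfsg.Agent.Lib.H5.PSL2Klein (j0 j0_mul_self)

variable {F : Type*} [Field F] [Fintype F]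

local notation "SL2" => Matrix.SpecialLinearGroup (Fin 2) F
local notation "M2" => Matrix (Fin 2) (Fin 2) F

variable (h3 : (3 : F) = 0) (hm1 : ∀ t : F, t ^ 2 ≠ -1) (hodd : Odd (Fintype.card F))

include h3 hm1 hodd

/-- elements of square `-1` -/
theorem ncard_Sol_invol (hq : 3 ≤ Fintype.card F) {x : SL2} (htr : tr x = 0) :
    (Sol x).ncard = 2 * Fintype.card F * (Fintype.card F + 1) := by
  have h2 : (2 : F) ≠ 0 := two_ne h3
  have ht4 : (x : M2).trace ^ 2 ≠ 4 := by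
    rw [← tr_eq_trace, htr]
    intro h
    have : (2 : F) ^ 2 = 0 := by linear_combination -h
    exact h2 (pow_eq_zero_iff (two_ne_zero) |>.1 this)
  have hj : NonScalar ((j0 : SL2) : M2) := by
    rintro ⟨h01, -, -⟩
    simp at h01
  have hconj : IsConj x (j0 : SL2) := by
    apply sl2_isConj_of_trace_regular hodd x j0 hj _ ht4
    rw [← tr_eq_trace, ← tr_eq_trace, htr, tr_j0]
  obtain ⟨c, hc⟩ := isConj_iff.1 hconj
  rw [← ncard_Sol_conj c x, hc, Sol_j0 h3 hm1, ncard_Sol_j0_set h3 hodd hm1 hq]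

omit hodd in
/-- unipotent elements -/
theorem ncard_Sol_unip {x : SL2} (hx : x ∉ Subgroup.center SL2) (htr : tr x = 2) :
    (Sol x).ncard = Fintype.card F * (Fintype.card F + 5) := by
  have h2 : (2 : F) ≠ 0 := two_ne h3
  obtain ⟨s, β, hβ, hs⟩ := exists_conj_uu_of_tr hx htr
  rw [← ncard_Sol_conj s x, hs, Sol_uu' h3 hm1 hβ, ncard_Bu_union_Zu h2 hβ]

/-- split semisimple elements -/
theorem ncard_Sol_split {x : SL2} {l : Fˣ} (hl : (l : F) ^ 2 ≠ 1)
    (htr : tr x = (l : F) + ((l⁻¹ : Fˣ) : F)) (ht0 : tr x ≠ 0) (ht1 : tr x ≠ 1)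
    (htm1 : tr x ≠ -1) : (Sol x).ncard = 2 * Fintype.card F * (Fintype.card F - 1) := by
  have h2 : (2 : F) ≠ 0 := two_ne h3
  have hsq2 := sq_ne_two h3 hm1
  have hne := hh_sub_ne' hl
  have h1 : (l : F) * ((l⁻¹ : Fˣ) : F) = 1 := Units.mul_inv l
  have ht4 : (x : M2).trace ^ 2 ≠ 4 := by
    rw [← tr_eq_trace, htr]
    intro h
    apply hne
    have : ((l : F) - ((l⁻¹ : Fˣ) : F)) ^ 2 = 0 := by linear_combination h - 4 * h1
    exact pow_eq_zero_iff (two_ne_zero) |>.1 this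
  have hh' : NonScalar ((hh l : SL2) : M2) := by
    rintro ⟨-, -, h00⟩
    apply hne
    rw [hh_00, hh_11] at h00
    rw [h00, sub_self]
  have hconj : IsConj x (hh l : SL2) := by
    apply sl2_isConj_of_trace_regular hodd x (hh l) hh' _ ht4
    rw [← tr_eq_trace, ← tr_eq_trace, htr, tr_hh]
  obtain ⟨c, hc⟩ := isConj_iff.1 hconj
  have e : tr (hh l : SL2) = tr x := by rw [tr_hh, htr]
  rw [← ncard_Sol_conj c x, hc, Sol_hh' h2 hsq2 hl (by rw [e]; exact ht0) (by rw [e]; exact ht1)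
    (by rw [e]; exact htm1), ncard_split]

/-- non-split semisimple elements -/
theorem ncard_Sol_nonsplit' {x : SL2} (hno : ∀ l : F, l ^ 2 - tr x * l + 1 ≠ 0)
    (ht0 : tr x ≠ 0) (ht1 : tr x ≠ 1) (htm1 : tr x ≠ -1) :
    (Sol x).ncard = 2 * (Fintype.card F + 1) := by
  have h2 : (2 : F) ≠ 0 := two_ne h3
  have hsq2 := sq_ne_two h3 hm1
  rw [Sol_nonsplit h2 hsq2 hno ht0 ht1 htm1, ncard_NC_nonsplit hodd hno]

end Cfsg.Agent.Lib.H2.QSol
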