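import Mathlib
import Cfsg.Agent.Lib.H2.QSol12

/-!
# From `SL₂(q)` to `PSL₂(q)`: solubilisers and element orders
-/

set_option autoImplicit false
set_option linter.unusedSimpArgs false

namespace Cfsg.Agent.Lib.H2.QSol

open scoped commutatorElement

open Matrix Cfsg.Agent.Lib.H4.Dickson Cfsg.Agent.Lib.H12 Cfsg.Agent.Lib.H2.CTSol
  Cfsg.Agent.Lib.H2.PSol

variable {F : Type*} [Field F]

local notation "SL2" => Matrix.SpecialLinearGroup (Fin 2) F
local notation "M2" => Matrix (Fin 2) (Fin 2) F
local notation "PSL2" => Matrix.ProjectiveSpecialLinearGroup (Fin 2) F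

/-- the quotient map -/
def prj : SL2 →* PSL2 := QuotientGroup.mk' (Subgroup.center SL2)

theorem prj_surjective : Function.Surjective (prj (F := F)) := QuotientGroup.mk'_surjective _

theorem ker_prj : (prj (F := F)).ker = Subgroup.center SL2 := QuotientGroup.ker_mk' _

theorem prj_eq_one_iff (a : SL2) : prj a = 1 ↔ a ∈ Subgroup.center SL2 :=
  QuotientGroup.eq_one_iff a

theorem prj_neg (a : SL2) : prj (-a) = prj a := by
  have : -a = -1 * a := by rw [neg_mul, one_mul]
  rw [this, map_mul, (prj_eq_one_iff _).2 sl2_neg_one_mem_center, one_mul]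

theorem isSolvable_closure_prj (x y : SL2) :
    Group.IsSolvable (Subgroup.closure ({prj x, prj y} : Set PSL2)) ↔
      Group.IsSolvable (Subgroup.closure ({x, y} : Set SL2)) := by
  have hmap : (Subgroup.closure ({x, y} : Set SL2)).map prj =
      Subgroup.closure ({prj x, prj y} : Set PSL2) := by
    rw [MonoidHom.map_closure, Set.image_pair]
  rw [← hmap]
  constructor
  · intro h
    apply isSolvable_of_ker_le_center (prj.subgroupMap (Subgroup.closure ({x, y} : Set SL2))) _ h
    intro m hm
    rw [MonoidHom.mem_ker] at hm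
    have h1 : prj (m : SL2) = 1 := congrArg Subtype.val hm
    rw [prj_eq_one_iff, Subgroup.mem_center_iff] at h1
    rw [Subgroup.mem_center_iff]
    intro g
    apply Subtype.ext
    exact h1 g
  · intro h
    exact Group.isSolvable_of_surjective
      (f := prj.subgroupMap (Subgroup.closure ({x, y} : Set SL2)))
      (MonoidHom.subgroupMap_surjective _ _)

theorem Sol_prj (x : SL2) : Sol x = prj ⁻¹' Sol (prj x) := by
  ext y
  show _ ↔ prj y ∈ Sol (prj x)
  rw [mem_Sol, mem_Sol, isSolvable_closure_prj]

theorem card_Sol_prj [Fintype F] (h2 : (2 : F) ≠ 0) (x : SL2) :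
    2 * Nat.card {y : PSL2 // Group.IsSolvable ↥(Subgroup.closure ({prj x, y} : Set PSL2))} =
      (Sol x).ncard := by
  have h1 : Nat.card {y : PSL2 // Group.IsSolvable ↥(Subgroup.closure ({prj x, y} : Set PSL2))} =
      (Sol (prj x)).ncard := by
    rw [← Nat.card_coe_set_eq]
    rfl
  rw [h1, Sol_prj, ncard_preimage prj prj_surjective, ker_prj,
    Cfsg.Agent.Lib.H5.PSL2Klein.card_center h2]

theorem prj_pow_of_mem_center {x : SL2} {n : ℕ} (h : x ^ n ∈ Subgroup.center SL2) :
    prj x ^ n = 1 := by
  rw [← map_pow, prj_eq_one_iff]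
  exact h

theorem prj_sq_of_tr {x : SL2} (h : tr x = 0) : prj x ^ 2 = 1 := by
  apply prj_pow_of_mem_center
  rw [pow_two, mul_self_of_tr h]
  exact sl2_neg_one_mem_center

theorem prj_cube_of_tr {x : SL2} (h : tr x = 1 ∨ tr x = -1) : prj x ^ 3 = 1 := by
  apply prj_pow_of_mem_center
  have : x ^ 3 = x * x * x := by rw [pow_succ, pow_two]
  rw [this]
  exact cube_of_tr h

/-- split, unipotent or non-split -/
theorem trichotomy [Fintype F] (h3 : (3 : F) = 0) (hodd : Odd (Fintype.card F)) (x : SL2) :
    (∃ l : Fˣ, (l : F) ^ 2 ≠ 1 ∧ tr x = (l : F) + ((l⁻¹ : Fˣ) : F) ∧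
      prj x ^ (Fintype.card F - 1) = 1) ∨ prj x ^ 3 = 1 ∨
    ((∀ l : F, l ^ 2 - tr x * l + 1 ≠ 0) ∧ prj x ^ (Fintype.card F + 1) = 1) := by
  have h2 : (2 : F) ≠ 0 := two_ne h3
  have hpow : ∀ n : ℕ, Nat.card (Cn x) = n → prj x ^ n = 1 := by
    intro n hn
    have : (⟨x, self_mem_Cn x⟩ : Cn x) ^ Nat.card (Cn x) = 1 := pow_card_eq_one'
    rw [hn] at this
    have h1 : x ^ n = 1 := by
      have := congrArg (fun z : Cn x => (z : SL2)) this
      simpa using this
    rw [← map_pow, h1, map_one]
  by_cases ht4 : tr x ^ 2 = 4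
  · right; left
    apply prj_cube_of_tr
    have h' : (tr x - 2) * (tr x + 2) = 0 := by linear_combination ht4
    rcases mul_eq_zero.1 h' with h | h
    · right
      linear_combination h + h3
    · left
      linear_combination h - h3
  · have ht4' : (x : M2).trace ^ 2 ≠ 4 := by rw [← tr_eq_trace]; exact ht4
    have hreg := regular_centralizer hodd x ht4'
    by_cases hsq : IsSquare ((x : M2).trace ^ 2 - 4)
    · left
      have hC := hreg.2.1 hsq
      rw [← tr_eq_trace] at hsq
      obtain ⟨s, hs⟩ := hsq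
      have hs0 : s ≠ 0 := by
        rintro rfl
        apply ht4
        linear_combination hs
      have hmul : (tr x + s) / 2 * ((tr x - s) / 2) = 1 := by
        field_simp
        linear_combination hs
      have hl0 : (tr x + s) / 2 ≠ 0 := left_ne_zero_of_mul_eq_one hmul
      refine ⟨Units.mk0 _ hl0, ?_, ?_, hpow _ hC⟩
      · rw [Units.val_mk0]
        intro h1
        apply hs0
        have h4 : (tr x + s) / 2 * ((tr x + s) / 2) = (tr x + s) / 2 * ((tr x - s) / 2) := by
          rw [hmul, ← sq, h1]
        have h5 := mul_left_cancel₀ hl0 h4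
        field_simp at h5
        have : 2 * s = 0 := by linear_combination h5
        exact (mul_eq_zero.1 this).resolve_left h2
      · have hinv : ((Units.mk0 _ hl0)⁻¹ : Fˣ) = Units.mk0 ((tr x - s) / 2)
            (right_ne_zero_of_mul_eq_one hmul) := by
          rw [inv_eq_iff_mul_eq_one]
          apply Units.ext
          simp only [Units.val_mul, Units.val_mk0, Units.val_one]
          exact hmul
        rw [hinv, Units.val_mk0, Units.val_mk0]
        field_simp
        ring
    · right; right
      have hC := hreg.2.2 hsq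
      refine ⟨?_, hpow _ hC⟩
      intro l hl
      apply hsq
      rw [← tr_eq_trace]
      refine ⟨2 * l - tr x, ?_⟩
      linear_combination (-4 : F) * hl

end Cfsg.Agent.Lib.H2.QSol
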