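import Mathlib
import Cfsg.Prelude.Def_Blocks
import Cfsg.Agent.Lib.L0.BlockSeparated
import Cfsg.Agent.Lib.L0.BlockMinMax
import Cfsg.Agent.Lib.L0.PRegCong
import Cfsg.Agent.Lib.H23.BlockHom
import Cfsg.Agent.Lib.H8.RBSIG
import Cfsg.Agent.Lib.H23.RBVANISH
import Cfsg.Agent.Lib.H4.RBDUAL
import Cfsg.Agent.Lib.H18.RBDIV
import Cfsg.Agent.Lib.H6.RBLINALGX

/-!
# S4443: the core (helper2)

`D ⊴ G` a `p`-subgroup, `x : ι → G` representatives of exactly the `p`-regular classes whose centralizers have Sylow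
`p`-subgroup `D`.  The number of blocks with defect group `D` is the rank over `ZMod p` of the matrix of the pair counts
`#{(y,z) : y ~ x_i, z ~ x_j, z y⁻¹ ∈ S}` divided by `p^(a-d)`.

Pieces (exact sigs of `tools/blueprints/S4443_sigs.lean`): helper8 (PAIR, ORTH), helper23 (VANISH), helper4 (DUAL),
helper18 (IDX, DIV), helper6 (LINALG, RANKMAP); twins: helper11 (RANKMAP), helper10 (PAIR).
-/

set_option autoImplicit false
set_option maxHeartbeats 1000000

open Cfsg Cfsg.Agent.Lib.H23 Cfsg.Agent.Lib.H24 Cfsg.Agent.Lib.L0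
open scoped ComplexConjugate

namespace Cfsg.Agent.Lib.H2.RB


variable {G : Type*} [Group G] [Fintype G] {p : ℕ} [Fact p.Prime] {M : Ideal AlgInt}

/-- `conj χ(g)` as an algebraic integer. -/
noncomputable def conjInt (χ : IrrCharacter G) (g : G) : AlgInt :=
  ⟨conj ((χ : G → ℂ) g), isIntegral_conj (irr_isIntegral χ g)⟩

@[simp] theorem coe_conjInt (χ : IrrCharacter G) (g : G) :
    (conjInt χ g : ℂ) = conj ((χ : G → ℂ) g) := rfl

/-- Blocks sharing a member are equal. -/
theorem blockOf_eq_of_mem_isPBlock [M.IsPrime] {B : Set (IrrCharacter G)} (hB : IsPBlock M B)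
    {χ : IrrCharacter G} (hχ : χ ∈ B) : B = blockOf M (χ : G → ℂ) := by
  obtain ⟨χ₁, rfl⟩ := hB
  exact (blockOf_eq_of_mem hχ).symm


open Classical in
/-- The integral form of (ORTH): the coercion of `∑_{χ ∈ B} m_χ conjInt χ y`. -/
theorem coe_sum_mc [Fintype (IrrCharacter G)] (hM : IsPModular p M) (S : Subgroup G)
    [Fintype S] (hS : IsPGroup p S) (m : IrrCharacter G → ℕ)
    (hm : ∀ χ : IrrCharacter G, ∑ u : S, conj ((χ : G → ℂ) u) = (Nat.card S : ℂ) * m χ)
    (χ₀ : IrrCharacter G) (y : G) (hy : ¬ p ∣ orderOf y) :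
    ((∑ χ : IrrCharacter G, if χ ∈ blockOf M (χ₀ : G → ℂ) then (m χ : AlgInt) * conjInt χ y
      else 0 : AlgInt) : ℂ) = (S.index : ℂ) * blockCoeff (blockOf M (χ₀ : G → ℂ)) y := by
  classical
  rw [← Cfsg.Agent.Lib.H8.RB.sum_mult_conj_eq hM S hS m hm χ₀ y hy, finsum_mem_eq_sum_ite]
  push_cast
  refine Finset.sum_congr rfl (fun χ _ => ?_)
  split_ifs <;> simp


open Classical in
/-- The integral form of (DUAL). -/
theorem dual_int [Fintype (IrrCharacter G)] [Fintype (ConjClasses G)] (hM : IsPModular p M)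
    (D : Subgroup G) [D.Normal] (hD : IsPGroup p D) (S : Subgroup G) [Fintype S]
    (hS : IsPGroup p S) (m : IrrCharacter G → ℕ)
    (hm : ∀ χ : IrrCharacter G, ∑ u : S, conj ((χ : G → ℂ) u) = (Nat.card S : ℂ) * m χ)
    {ι : Type*} [Fintype ι] (x : ι → G)
    (hreg : ∀ i, ¬ p ∣ orderOf (x i))
    (hsyl : ∀ i, ∃ Q : Sylow p (Subgroup.centralizer ({x i} : Set G)),
      (Q : Subgroup (Subgroup.centralizer ({x i} : Set G))).map
        (Subgroup.centralizer ({x i} : Set G)).subtype = D)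
    (hinj : ∀ i j, IsConj (x i) (x j) → i = j)
    (hall : ∀ g : G, ¬ p ∣ orderOf g →
      (∃ Q : Sylow p (Subgroup.centralizer ({g} : Set G)),
        (Q : Subgroup (Subgroup.centralizer ({g} : Set G))).map
          (Subgroup.centralizer ({g} : Set G)).subtype = D) → ∃ i, IsConj (x i) g)
    (χ₀ ψ₀ : IrrCharacter G) (hχ₀ : IsDefectGroup p M (blockOf M (χ₀ : G → ℂ)) D)
    (hψ₀ : IsDefectGroup p M (blockOf M (ψ₀ : G → ℂ)) D) :
    (∑ i, (∑ χ : IrrCharacter G, if χ ∈ blockOf M (χ₀ : G → ℂ) then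
        (m χ : AlgInt) * conjInt χ (x i) else 0) * omegaInt ψ₀ (x i)) -
      (if ψ₀ ∈ blockOf M (χ₀ : G → ℂ) then ((S.index : ℕ) : AlgInt) else 0) ∈ M := by
  have hPr : M.IsPrime := isPrime_of_isPModular hM
  rw [← memLocalIdeal_coe_iff]
  have h1 : ∀ i, (((∑ χ : IrrCharacter G, if χ ∈ blockOf M (χ₀ : G → ℂ) then
        (m χ : AlgInt) * conjInt χ (x i) else 0) * omegaInt ψ₀ (x i) : AlgInt) : ℂ) =
      (S.index : ℂ) * (blockCoeff (blockOf M (χ₀ : G → ℂ)) (x i) *
        centralChar (ψ₀ : G → ℂ) (x i)) := by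
    intro i
    rw [MulMemClass.coe_mul, coe_sum_mc hM S hS m hm χ₀ (x i) (hreg i), coe_omegaInt, mul_assoc]
  rw [AddSubgroupClass.coe_sub, AddSubmonoidClass.coe_finsetSum]
  simp only [h1]
  rw [← Finset.mul_sum]
  have hidx : MemLocalRing M (S.index : ℂ) := natCast_mem_localRing _
  obtain ⟨hd1, hd2⟩ := Cfsg.Agent.Lib.H4.RB.dual_blockCoeff hM D hD x hreg hsyl hinj hall χ₀ ψ₀ hχ₀ hψ₀
  by_cases hmem : ψ₀ ∈ blockOf M (χ₀ : G → ℂ)
  · rw [if_pos hmem]
    have h2 := memLocalIdeal_neg (memLocalIdeal_mul_left hidx (hd1 hmem))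
    convert h2 using 1
    push_cast
    ring
  · rw [if_neg hmem]
    have h2 := memLocalIdeal_mul_left hidx (hd2 hmem)
    convert h2 using 1
    push_cast
    ring


open Classical in
/-- **S4443, core form.** -/
theorem card_blocks_eq_rank [Fintype (IrrCharacter G)] [Fintype (ConjClasses G)]
    (hM : IsPModular p M) (D : Subgroup G) [D.Normal] (hD : IsPGroup p D) (S : Sylow p G)
    {ι : Type*} [Fintype ι] [DecidableEq ι] (x : ι → G)
    (hreg : ∀ i, ¬ p ∣ orderOf (x i))
    (hsyl : ∀ i, ∃ Q : Sylow p (Subgroup.centralizer ({x i} : Set G)),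
      (Q : Subgroup (Subgroup.centralizer ({x i} : Set G))).map
        (Subgroup.centralizer ({x i} : Set G)).subtype = D)
    (hinj : ∀ i j, IsConj (x i) (x j) → i = j)
    (hall : ∀ g : G, ¬ p ∣ orderOf g →
      (∃ Q : Sylow p (Subgroup.centralizer ({g} : Set G)),
        (Q : Subgroup (Subgroup.centralizer ({g} : Set G))).map
          (Subgroup.centralizer ({g} : Set G)).subtype = D) → ∃ i, IsConj (x i) g) :
    Nat.card {B : Set (IrrCharacter G) // IsPBlock M B ∧ IsDefectGroup p M B D} =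
      (Matrix.of fun i j : ι => ((Nat.card {yz : G × G // IsConj (x i) yz.1 ∧ IsConj (x j) yz.2 ∧
        yz.2 * yz.1⁻¹ ∈ (S : Subgroup G)} /
          p ^ ((Nat.card G).factorization p - (Nat.card D).factorization p) : ℕ) : ZMod p)).rank := by
  have hPr : M.IsPrime := isPrime_of_isPModular hM
  have hmax : M.IsMaximal := hM.2.1
  have hp : p.Prime := Fact.out
  letI : Field (AlgInt ⧸ M) := Ideal.Quotient.field M
  haveI hchar : CharP (AlgInt ⧸ M) p := PReg.charP_quot hM
  haveI : Fintype (S : Subgroup G) := Fintype.ofFinite _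
  have hS : IsPGroup p (S : Subgroup G) := S.isPGroup'
  -- multiplicities
  choose m hm using fun χ : IrrCharacter G => BlockSeparated.exists_mult (S : Subgroup G) χ
  -- the blocks with defect group `D`
  set 𝔅 := {B : Set (IrrCharacter G) // IsPBlock M B ∧ IsDefectGroup p M B D} with h𝔅
  haveI : Fintype 𝔅 := Fintype.ofFinite _
  rw [Nat.card_eq_fintype_card]
  choose r hr using fun B : 𝔅 => B.2.1
  have hrmem : ∀ B : 𝔅, r B ∈ B.1 := fun B => by
    have := mem_blockOf_self (M := M) (r B)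
    rw [← hr B] at this
    exact this
  set q := p ^ ((Nat.card G).factorization p - (Nat.card D).factorization p) with hq
  have hq0 : q ≠ 0 := pow_ne_zero _ hp.ne_zero
  set N : ι → ι → ℕ := fun i j => Nat.card {yz : G × G // IsConj (x i) yz.1 ∧ IsConj (x j) yz.2 ∧
        yz.2 * yz.1⁻¹ ∈ (S : Subgroup G)} with hN
  choose u hu hidx using fun i => Cfsg.Agent.Lib.H18.RB.index_centralizer_eq (p := p) D (x i) (hsyl i)
  let mk : AlgInt →+* (AlgInt ⧸ M) := Ideal.Quotient.mk M
  let W : Matrix 𝔅 ι (AlgInt ⧸ M) := fun B j => mk (omegaInt (r B) (x j))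
  let C : Matrix 𝔅 ι (AlgInt ⧸ M) := fun B i =>
    ∑ χ : IrrCharacter G, if χ ∈ B.1 then mk ((m χ : AlgInt) * conjInt χ (x i)) else 0
  let γ : AlgInt ⧸ M := ((S : Subgroup G).index : AlgInt ⧸ M)
  have hγ : γ ≠ 0 := by
    intro h0
    have h1 : (p : ℕ) ∣ (S : Subgroup G).index := (CharP.cast_eq_zero_iff (AlgInt ⧸ M) p _).1 h0
    exact S.not_dvd_index h1
  -- equality of blocks through representatives
  have hBeq : ∀ B B' : 𝔅, r B' ∈ blockOf M (r B : G → ℂ) ↔ B = B' := by
    intro B B'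
    constructor
    · intro h
      apply Subtype.ext
      rw [hr B, hr B', blockOf_eq_of_mem h]
    · rintro rfl
      exact mem_blockOf_self _
  -- Step A: duality
  have hdual : C * W.transpose = γ • (1 : Matrix 𝔅 𝔅 (AlgInt ⧸ M)) := by
    ext B B'
    have h1 := dual_int hM D hD (S : Subgroup G) hS m hm x hreg hsyl hinj hall (r B) (r B')
      (hr B ▸ B.2.2) (hr B' ▸ B'.2.2)
    have h2 := (Ideal.Quotient.eq_zero_iff_mem).2 h1
    rw [map_sub, sub_eq_zero] at h2
    rw [Matrix.mul_apply, Matrix.smul_apply, Matrix.one_apply, smul_eq_mul]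
    have h3 : ∀ i, C B i * W.transpose i B' =
        mk ((∑ χ : IrrCharacter G, if χ ∈ blockOf M (r B : G → ℂ) then
          (m χ : AlgInt) * conjInt χ (x i) else 0) * omegaInt (r B') (x i)) := by
      intro i
      rw [map_mul, map_sum]
      congr 1
      refine Finset.sum_congr rfl (fun χ _ => ?_)
      rw [← hr B]
      split_ifs <;> simp
    rw [Finset.sum_congr rfl (fun i _ => h3 i), ← map_sum]
    change Ideal.Quotient.mk M _ = _
    rw [h2]
    by_cases hBB : B = B'
    · rw [if_pos hBB, if_pos ((hBeq B B').2 hBB), mul_one]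
      simp [γ]
    · rw [if_neg hBB, if_neg (fun h => hBB ((hBeq B B').1 h)), mul_zero, map_zero]
  -- Step B: the congruence
  have hre : ∀ i j, ∑ χ : IrrCharacter G, mk (omegaInt χ (x j)) *
      mk ((m χ : AlgInt) * conjInt χ (x i)) = (C.transpose * W) i j := by
    intro i j
    rw [Matrix.mul_apply]
    simp only [Matrix.transpose_apply]
    have h1 : ∀ B : 𝔅, C B i * W B j = ∑ χ : IrrCharacter G, if χ ∈ B.1 then
        mk (omegaInt χ (x j)) * mk ((m χ : AlgInt) * conjInt χ (x i)) else 0 := by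
      intro B
      change (∑ χ : IrrCharacter G, if χ ∈ B.1 then mk ((m χ : AlgInt) * conjInt χ (x i)) else 0) *
        mk (omegaInt (r B) (x j)) = _
      rw [Finset.sum_mul]
      refine Finset.sum_congr rfl (fun χ _ => ?_)
      split_ifs with hχ
      · have hsb : SameBlock M (r B : G → ℂ) (χ : G → ℂ) := by
          rw [hr B] at hχ
          exact hχ
        have h2 := (sameBlock_iff_omegaInt (M := M) (r B) χ).1 hsb (x j)
        have h3 : mk (omegaInt (r B) (x j)) = mk (omegaInt χ (x j)) := by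
          rw [← sub_eq_zero, ← map_sub]
          exact Ideal.Quotient.eq_zero_iff_mem.2 h2
        rw [h3, mul_comm]
      · rw [zero_mul]
    rw [Finset.sum_congr rfl (fun B _ => h1 B), Finset.sum_comm]
    refine Finset.sum_congr rfl (fun χ _ => ?_)
    by_cases hχD : IsDefectGroup p M (blockOf M (χ : G → ℂ)) D
    · let B₀ : 𝔅 := ⟨blockOf M (χ : G → ℂ), ⟨χ, rfl⟩, hχD⟩
      rw [Finset.sum_eq_single B₀]
      · rw [if_pos (show χ ∈ B₀.1 from mem_blockOf_self χ)]
      · intro B _ hne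
        rw [if_neg]
        intro hχB
        apply hne
        apply Subtype.ext
        exact blockOf_eq_of_mem_isPBlock B.2.1 hχB
      · intro h
        exact absurd (Finset.mem_univ _) h
    · have hz : mk (omegaInt χ (x j)) = 0 := by
        change Ideal.Quotient.mk M (omegaInt χ (x j)) = 0
        rw [Ideal.Quotient.eq_zero_iff_mem]
        by_contra hne
        apply hχD
        apply Cfsg.Agent.Lib.H23.RB.isDefectGroup_of_centralChar hM D hD χ (x j) (hsyl j)
        rw [← coe_omegaInt, memLocalIdeal_coe_iff]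
        exact hne
      rw [hz, zero_mul]
      symm
      apply Finset.sum_eq_zero
      intro B _
      rw [if_neg]
      intro hχB
      apply hχD
      rw [← blockOf_eq_of_mem_isPBlock B.2.1 hχB]
      exact B.2.2
  have hcore : ∀ i j, ((N i j / q : ℕ) : AlgInt ⧸ M) * γ =
      (u i : AlgInt ⧸ M) * (C.transpose * W) i j := by
    intro i j
    have hpair := Cfsg.Agent.Lib.H8.RB.pair_count (S : Subgroup G) m hm (x i) (x j)
    have hdiv : q ∣ N i j := Cfsg.Agent.Lib.H18.RB.pow_dvd_pair_count D hD S (x i) (x j) (hsyl i)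
    have hNq : N i j = q * (N i j / q) := (Nat.mul_div_cancel' hdiv).symm
    have hC : ((N i j / q : ℕ) : ℂ) * ((S : Subgroup G).index : ℂ) = (u i : ℂ) *
        ∑ χ : IrrCharacter G, centralChar (χ : G → ℂ) (x j) * (m χ : ℂ) *
          conj ((χ : G → ℂ) (x i)) := by
      have hq0' : (q : ℂ) ≠ 0 := by exact_mod_cast hq0
      apply mul_left_cancel₀ hq0'
      have h1 : (N i j : ℂ) = (q : ℂ) * ((N i j / q : ℕ) : ℂ) := by
        conv_lhs => rw [hNq]
        push_cast
        ring
      rw [← mul_assoc, ← h1, hpair, hidx i, ← hq]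
      push_cast
      ring
    have hA : ((N i j / q : ℕ) : AlgInt) * (((S : Subgroup G).index : ℕ) : AlgInt) =
        (u i : AlgInt) * ∑ χ : IrrCharacter G, omegaInt χ (x j) *
          ((m χ : AlgInt) * conjInt χ (x i)) := by
      apply Subtype.ext
      push_cast
      rw [hC]
      congr 1
      refine Finset.sum_congr rfl (fun χ _ => ?_)
      rw [coe_conjInt, coe_omegaInt]
      ring
    have hk := congrArg mk hA
    simp only [map_mul, map_natCast, map_sum] at hk
    rw [← hre i j]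
    simp only [map_mul, map_natCast]
    exact hk
  -- Step C: ranks
  let φ : ZMod p →+* (AlgInt ⧸ M) := ZMod.castHom (dvd_refl p) (AlgInt ⧸ M)
  set Ω : Matrix ι ι (ZMod p) := Matrix.of fun i j => ((N i j / q : ℕ) : ZMod p) with hΩ
  have hmap : Ω.map φ =
      Matrix.diagonal (fun i => γ⁻¹ * (u i : AlgInt ⧸ M)) * (C.transpose * W) := by
    ext i j
    rw [Matrix.map_apply, Matrix.diagonal_mul]
    simp only [hΩ, Matrix.of_apply, map_natCast]
    have h1 := hcore i j
    rw [mul_assoc, ← h1, mul_comm _ γ, ← mul_assoc, inv_mul_cancel₀ hγ, one_mul]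
  have hdet : IsUnit (Matrix.diagonal (fun i => γ⁻¹ * (u i : AlgInt ⧸ M))).det := by
    rw [Matrix.det_diagonal, isUnit_iff_ne_zero, Finset.prod_ne_zero_iff]
    intro i _
    apply mul_ne_zero (inv_ne_zero hγ)
    intro h0
    exact hu i ((CharP.cast_eq_zero_iff (AlgInt ⧸ M) p _).1 h0)
  rw [← Cfsg.Agent.Lib.H6.RB.rank_map_field φ Ω, hmap, Matrix.rank_mul_eq_right_of_isUnit_det _ _ hdet]
  exact (Cfsg.Agent.Lib.H6.RB.rank_transpose_mul_of_dual W C γ hγ hdual).symm

end Cfsg.Agent.Lib.H2.RB
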