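import Mathlib
import Cfsg.Prelude.Def_Characters
import Cfsg.Prelude.Def_Solvable
import Cfsg.Agent.Lib.H26.RODefs
import Cfsg.Agent.Lib.H22.ROKREAL
import Cfsg.Agent.Lib.H1.PQ2TRICK
import Cfsg.Agent.Lib.H24.GlaubSolv5
import Cfsg.Agent.Lib.H24.CharDefl
import Cfsg.Agent.Lib.H10.PSolvable2
import Cfsg.Agent.Lib.H1.PSolvOfSolv
import Cfsg.Agent.Lib.H1.PCore
import Cfsg.Agent.Lib.L0.RealPDegA

/-!
# S4581 piece I2 (helper2): if all odd-degree irreducible characters of a solvable group are real-valued then a Sylow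
2-subgroup is self-normalizing.
-/

set_option autoImplicit false

universe u

namespace Cfsg.Agent.Lib.H2.RO

open Cfsg Cfsg.Agent.Lib.L0 Cfsg.Agent.Lib.H24 Cfsg.Agent.Lib.H24.Glaub

/-- a normal `p`-subgroup lies in every Sylow `p`-subgroup -/
theorem ro_normal_le_sylow {G : Type*} [Group G] {p : ℕ} [Fact p.Prime] (M : Subgroup G) [hM : M.Normal]
    (hp : IsPGroup p M) (P : Sylow p G) : M ≤ (P : Subgroup G) :=
  (Cfsg.Agent.Lib.H1.le_pCore hM hp).trans (Cfsg.Agent.Lib.H1.pCore_le_sylow P)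

/-- a subgroup with a nontrivial element has at least two conjugacy classes -/
theorem ro_two_le_card_conjClasses {H : Type*} [Group H] [Finite H] {c : H} (hc : c ≠ 1) :
    2 ≤ Nat.card (ConjClasses H) := by
  have hne : ConjClasses.mk c ≠ ConjClasses.mk (1 : H) := by
    intro h
    rw [ConjClasses.mk_eq_mk_iff_isConj, isConj_one_left] at h
    exact hc h
  have : Fintype (ConjClasses H) := Fintype.ofFinite _
  rw [Nat.card_eq_fintype_card]
  exact Fintype.one_lt_card_iff.mpr ⟨_, _, hne⟩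

/-- the restriction of `χ` to `M`, when `χ` is trivial on `M`, pairs with `θ` as `χ 1 * ⟨1, θ⟩` -/
theorem ro_classInner_of_trivial {G : Type*} [Group G] (M : Subgroup G) [Fintype M] (χ : G → ℂ)
    (θ : M → ℂ) (h : ∀ m ∈ M, χ m = χ 1) :
    classInner (fun k : M => χ k) θ = χ 1 * classInner (fun _ : M => (1 : ℂ)) θ := by
  unfold classInner
  have h1 : ∑ k : M, (fun k : M => χ k) k * (starRingEnd ℂ) (θ k) =
      χ 1 * ∑ g : M, (fun _ : M => (1 : ℂ)) g * (starRingEnd ℂ) (θ g) := by
    rw [Finset.mul_sum]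
    apply Finset.sum_congr rfl
    intro k _
    simp only [one_mul]
    rw [h k k.2]
  rw [h1]
  ring

theorem normalizer_eq_of_all_real_aux (n : ℕ) :
    ∀ (G : Type u) [Group G] [Finite G] [Group.IsSolvable G], Nat.card G = n →
      (∀ χ : IrrCharacter G, Odd (charDegree (χ : G → ℂ)) → ∀ g : G, ((χ : G → ℂ) g).im = 0) →
      ∀ P : Sylow 2 G, Subgroup.normalizer ((P : Subgroup G) : Set G) = (P : Subgroup G) := by
  induction n using Nat.strong_induction_on with
  | _ n ih =>
  intro G _ _ _ hn hall P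
  classical
  have : Fact (Nat.Prime 2) := ⟨Nat.prime_two⟩
  rcases subsingleton_or_nontrivial G with hsub | hnt
  · apply le_antisymm
    · intro x _
      rw [Subsingleton.elim x 1]
      exact Subgroup.one_mem _
    · exact Subgroup.le_normalizer
  -- a nontrivial normal subgroup which is a 2-group or of odd order
  obtain ⟨M, hMn, hMne, hM⟩ := Cfsg.Agent.Lib.H10.exists_normal_of_isPSolvable
    (Cfsg.Agent.Lib.H1.PSolvOfSolv.isPSolvable_of_isSolvable 2 G)
  -- the quotient
  have hcardQ : Nat.card (G ⧸ M) < n := by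
    rw [← hn, ← Subgroup.index_eq_card, ← Subgroup.index_mul_card M]
    have h1 : 1 < Nat.card M := by
      rw [Nat.one_lt_iff_ne_zero_and_ne_one]
      refine ⟨Nat.card_pos.ne', ?_⟩
      intro h
      exact hMne (Subgroup.card_eq_one.mp h)
    have h2 : 0 < M.index := Nat.pos_of_ne_zero Subgroup.index_ne_zero_of_finite
    nlinarith
  have hallQ : ∀ ψ : IrrCharacter (G ⧸ M), Odd (charDegree (ψ : G ⧸ M → ℂ)) →
      ∀ q : G ⧸ M, ((ψ : G ⧸ M → ℂ) q).im = 0 := by
    intro ψ hψ q
    obtain ⟨g, rfl⟩ := QuotientGroup.mk_surjective q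
    have := hall (inflIrr M ψ) (by rw [charDegree_inflIrr]; exact hψ) g
    rwa [inflIrr_apply] at this
  have hf : Function.Surjective (QuotientGroup.mk' M) := QuotientGroup.mk'_surjective M
  have hIH := ih _ hcardQ (G ⧸ M) rfl hallQ (P.mapSurjective hf)
  rw [Sylow.coe_mapSurjective] at hIH
  -- `N_G(P) ≤ P M`, in the form: every `x ∈ N_G(P)` is `y * m`
  have hdecomp : ∀ x ∈ Subgroup.normalizer ((P : Subgroup G) : Set G),
      ∃ y ∈ (P : Subgroup G), y⁻¹ * x ∈ M := by
    intro x hx
    have h1 : (QuotientGroup.mk' M) x ∈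
        Subgroup.normalizer ((((P : Subgroup G).map (QuotientGroup.mk' M) : Subgroup (G ⧸ M))) : Set (G ⧸ M)) :=
      Subgroup.le_normalizer_map _ ⟨x, hx, rfl⟩
    rw [hIH] at h1
    obtain ⟨y, hy, hyx⟩ := h1
    refine ⟨y, hy, ?_⟩
    rw [← QuotientGroup.eq_one_iff, QuotientGroup.mk_mul, QuotientGroup.mk_inv]
    change ((QuotientGroup.mk' M) y)⁻¹ * (QuotientGroup.mk' M) x = 1
    rw [hyx, inv_mul_cancel]
  apply le_antisymm _ Subgroup.le_normalizer
  rcases hM with hM2 | hModd
  · -- `M` is a 2-group: `M ≤ P`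
    have hMP : M ≤ (P : Subgroup G) := ro_normal_le_sylow M hM2 P
    intro x hx
    obtain ⟨y, hy, hyx⟩ := hdecomp x hx
    have : x = y * (y⁻¹ * x) := by group
    rw [this]
    exact Subgroup.mul_mem _ hy (hMP hyx)
  · -- `M` has odd order
    have hMP : M ⊓ (P : Subgroup G) = ⊥ := by
      have hcop : (Nat.card M).Coprime (Nat.card (P : Subgroup G)) := by
        obtain ⟨k, hk⟩ := IsPGroup.iff_card.mp P.isPGroup'
        rw [hk]
        exact Nat.Coprime.pow_right k hModd
      exact (Subgroup.disjoint_of_coprime_natCard hcop).eq_bot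
    -- it suffices that `C_M(P) = 1`
    have hsuff : M ⊓ Subgroup.centralizer ((P : Subgroup G) : Set G) = ⊥ →
        Subgroup.normalizer ((P : Subgroup G) : Set G) ≤ (P : Subgroup G) := by
      intro hC x hx
      obtain ⟨y, hy, hyx⟩ := hdecomp x hx
      have hmN : y⁻¹ * x ∈ Subgroup.normalizer ((P : Subgroup G) : Set G) :=
        Subgroup.mul_mem _ (Subgroup.inv_mem _ (Subgroup.le_normalizer hy)) hx
      set m := y⁻¹ * x with hm
      have hmC : m ∈ Subgroup.centralizer ((P : Subgroup G) : Set G) := by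
        rw [Subgroup.mem_centralizer_iff]
        intro s hs
        have h1 : m * s * m⁻¹ * s⁻¹ ∈ (P : Subgroup G) :=
          Subgroup.mul_mem _ ((Subgroup.mem_normalizer_iff.mp hmN s).mp hs) (Subgroup.inv_mem _ hs)
        have h2 : m * s * m⁻¹ * s⁻¹ ∈ M := by
          have : m * s * m⁻¹ * s⁻¹ = m * (s * m⁻¹ * s⁻¹) := by group
          rw [this]
          exact M.mul_mem hyx (hMn.conj_mem _ (M.inv_mem hyx) s)
        have h3 : m * s * m⁻¹ * s⁻¹ ∈ M ⊓ (P : Subgroup G) := ⟨h2, h1⟩
        rw [hMP, Subgroup.mem_bot] at h3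
        have : s * m = (m * s * m⁻¹ * s⁻¹)⁻¹ * (m * s) := by group
        rw [this, h3, inv_one, one_mul]
      have hm1 : m ∈ M ⊓ Subgroup.centralizer ((P : Subgroup G) : Set G) := ⟨hyx, hmC⟩
      rw [hC, Subgroup.mem_bot] at hm1
      have : x = y * m := by rw [hm]; group
      rw [this, hm1, mul_one]
      exact hy
    apply hsuff
    by_contra hC
    obtain ⟨c, hc1⟩ := (Subgroup.ne_bot_iff_exists_ne_one).mp hC
    -- Glauberman count: at least two `P`-invariant irreducible characters of `M`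
    have : Fintype G := Fintype.ofFinite G
    have hPsolv : Group.IsSolvable (P : Subgroup G) := by
      have : Group.IsNilpotent (P : Subgroup G) := P.isPGroup'.isNilpotent
      infer_instance
    have hcopMP : (Nat.card M).Coprime (Nat.card (P : Subgroup G)) := by
      obtain ⟨k, hk⟩ := IsPGroup.iff_card.mp P.isPGroup'
      rw [hk]
      exact Nat.Coprime.pow_right k hModd
    have hcount := solv_count_cent M (P : Subgroup G) (fun s _ g hg => hMn.conj_mem g hg s) hcopMP hPsolv
    have htwo : 2 ≤ Nat.card {θ : IrrCharacter M // ∀ s ∈ (P : Subgroup G), InvUnder M s (θ : M → ℂ)} := by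
      rw [hcount]
      exact ro_two_le_card_conjClasses (c := c) hc1
    have : Finite {θ : IrrCharacter M // ∀ s ∈ (P : Subgroup G), InvUnder M s (θ : M → ℂ)} := by
      by_contra hinf
      rw [not_finite_iff_infinite] at hinf
      rw [Nat.card_eq_zero_of_infinite] at htwo
      omega
    have : Fintype {θ : IrrCharacter M // ∀ s ∈ (P : Subgroup G), InvUnder M s (θ : M → ℂ)} :=
      Fintype.ofFinite _
    rw [Nat.card_eq_fintype_card] at htwo
    obtain ⟨θ₁, θ₂, hne⟩ := Fintype.one_lt_card_iff.mp htwo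
    -- one of them is not the trivial character
    obtain ⟨θ, hθinv, hθne⟩ : ∃ θ : IrrCharacter M, (∀ s ∈ (P : Subgroup G), InvUnder M s (θ : M → ℂ)) ∧
        (θ : M → ℂ) ≠ fun _ => (1 : ℂ) := by
      by_cases h1 : ((θ₁ : IrrCharacter M) : M → ℂ) = fun _ => (1 : ℂ)
      · refine ⟨θ₂, θ₂.2, ?_⟩
        intro h2
        apply hne
        apply Subtype.ext
        apply Subtype.ext
        rw [h1, h2]
      · exact ⟨θ₁, θ₁.2, h1⟩
    -- an odd-degree character over `θ`
    have : Fintype M := Fintype.ofFinite M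
    have hidx : ¬ 2 ∣ (M ⊔ (P : Subgroup G)).index := by
      intro h
      exact P.not_dvd_index (h.trans (Subgroup.index_dvd_of_le le_sup_right))
    have hdeg : ¬ 2 ∣ charDegree (θ : M → ℂ) := by
      intro h
      have h1 : 2 ∣ Nat.card M := h.trans (Cfsg.Agent.Lib.H23.charDegree_dvd_card _ θ.2)
      have h2 := Nat.Coprime.eq_one_of_dvd hModd.symm h1
      omega
    obtain ⟨χ, hχθ, hχdeg⟩ := Cfsg.Agent.Lib.H1.PQ2.exists_pPrime_degree_over 2 M (P : Subgroup G)
      P.isPGroup' hMP hidx θ hdeg (fun s hs g g' h => hθinv s hs g g' h)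
    have hχodd : Odd (charDegree (χ : G → ℂ)) := by
      rcases Nat.even_or_odd (charDegree (χ : G → ℂ)) with h | h
      · exact absurd (even_iff_two_dvd.mp h) hχdeg
      · exact h
    have hModdc : Odd (Nat.card M) := by
      rcases Nat.even_or_odd (Nat.card M) with h | h
      · have h2 := Nat.Coprime.eq_one_of_dvd hModd.symm (even_iff_two_dvd.mp h)
        omega
      · exact h
    have htriv := Cfsg.Agent.Lib.H22.RO.trivial_on_of_real_odd M hModdc χ hχodd (hall χ hχodd)
    rw [ro_classInner_of_trivial M (χ : G → ℂ) (θ : M → ℂ) htriv] at hχθ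
    have h5 : classInner (fun _ : M => (1 : ℂ)) (θ : M → ℂ) ≠ 0 := right_ne_zero_of_mul hχθ
    apply hθne
    by_contra h6
    exact h5 (irr_classInner_ne (Cfsg.Agent.Lib.L0.RealPDeg.isIrrCharacter_const_one M) θ.2 (fun h => h6 h.symm))

/-- I2. -/
theorem normalizer_eq_of_all_real {G : Type u} [Group G] [Finite G] [Group.IsSolvable G]
    (hall : ∀ χ : IrrCharacter G, Odd (charDegree (χ : G → ℂ)) →
      ∀ g : G, ((χ : G → ℂ) g).im = 0) (P : Sylow 2 G) :
    Subgroup.normalizer ((P : Subgroup G) : Set G) = (P : Subgroup G) :=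
  normalizer_eq_of_all_real_aux _ G rfl hall P

end Cfsg.Agent.Lib.H2.RO
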