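import Mathlib
import Cfsg.Agent.Lib.H4.ReeSpecDefs

set_option autoImplicit false

namespace Cfsg.Agent.Lib.H2.RS

open Matrix Cfsg.Agent.Lib.H4.ReeSpec

section field

variable {K : Type*} [Field K] [CharP K 3]

theorem finite_Y [Finite K] : Finite (Y K) := by
  have h1 : Finite (W K) := inferInstanceAs (Finite (Multiplicative (Matrix (Fin 2) (Fin 2) K)))
  have h2 : Finite (G0 K) := inferInstanceAs (Finite (ℤˣ × Matrix.SpecialLinearGroup (Fin 2) K))
  have h3 : Finite (Mq K) := by
    have : Function.Surjective (rhoM K) := (rho K).rangeRestrict_surjective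
    exact Finite.of_surjective _ this
  exact Finite.of_equiv _ (SemidirectProduct.equivProd (φ := (Mq K).subtype)).symm

theorem rsv_cube_eq_one (a : W K) : a ^ 3 = 1 := by
  have h : (3 : ℕ) • (Multiplicative.toAdd a) = 0 := by
    ext i j
    rw [Matrix.smul_apply, nsmul_eq_mul]
    have : ((3 : ℕ) : K) = 0 := CharP.cast_eq_zero K 3
    rw [this, zero_mul]; rfl
  have h2 : a ^ 3 = Multiplicative.ofAdd ((3 : ℕ) • Multiplicative.toAdd a) := rfl
  rw [h2, h]; rfl

/-- V: `W` is a nontrivial normal elementary abelian `3`-subgroup of `Y`. -/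
theorem inl_range_props :
    ((SemidirectProduct.inl : W K →* Y K).range).Normal ∧
      (SemidirectProduct.inl : W K →* Y K).range ≠ ⊥ ∧
      (∀ x y : (SemidirectProduct.inl : W K →* Y K).range, x * y = y * x) ∧
      (∀ x : (SemidirectProduct.inl : W K →* Y K).range, x ^ 3 = 1) := by
  refine ⟨?_, ?_, ?_, ?_⟩
  · rw [SemidirectProduct.range_inl_eq_ker_rightHom]
    exact MonoidHom.normal_ker _
  · intro h
    have hmem : (SemidirectProduct.inl (Multiplicative.ofAdd (1 : M2 K)) : Y K) ∈
        (SemidirectProduct.inl : W K →* Y K).range := ⟨_, rfl⟩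
    rw [h, Subgroup.mem_bot] at hmem
    have h1 : (Multiplicative.ofAdd (1 : M2 K) : W K) = 1 :=
      SemidirectProduct.inl_injective (by rw [hmem, map_one])
    have h2 : (1 : M2 K) = 0 := h1
    exact one_ne_zero h2
  · rintro ⟨x, a, rfl⟩ ⟨y, b, rfl⟩
    apply Subtype.ext
    show SemidirectProduct.inl a * SemidirectProduct.inl b
      = SemidirectProduct.inl b * SemidirectProduct.inl a
    rw [← map_mul, ← map_mul]
    congr 1
    show Multiplicative.ofAdd (Multiplicative.toAdd a + Multiplicative.toAdd b)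
      = Multiplicative.ofAdd (Multiplicative.toAdd b + Multiplicative.toAdd a)
    rw [add_comm]
  · rintro ⟨x, a, rfl⟩
    apply Subtype.ext
    show (SemidirectProduct.inl a : Y K) ^ 3 = 1
    rw [← map_pow, rsv_cube_eq_one, map_one]

end field

end Cfsg.Agent.Lib.H2.RS
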