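import Mathlib
import Cfsg.Agent.Lib.H4.ReeSpecDefs
import Cfsg.Agent.Lib.H3.RSSDP
import Cfsg.Agent.Lib.H8.RSORD
import Cfsg.Agent.Lib.H4.RSFIX
import Cfsg.Agent.Lib.H2.RSV

set_option autoImplicit false

namespace Cfsg.Agent.Lib.H2.RS

open Matrix Cfsg.Agent.Lib.H4.ReeSpec

section field

variable {K : Type*} [Field K] [CharP K 3]

/-- Y1, parametric in the pieces SDP-a, SDP-b, ORD, FIX (stated for this `K`). -/
theorem Y_orders_of [Fintype K] {m : ℕ}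
    (h_sdp_a : ∀ (g : Mq K), (∀ n : W K, (Mq K).subtype g n = n → n = 1) → ∀ n : W K,
      orderOf (⟨n, g⟩ : Y K) = orderOf g)
    (h_sdp_b : ∀ (k : ℕ) (n : W K) (g : Mq K), g ^ k = 1 → (⟨n, g⟩ : Y K) ^ (k * 3) = 1)
    (h_ord : ∀ x : Mq K,
      x ^ (3 ^ (2 * m + 1) - 1) = 1 ∨ x ^ ((3 ^ (2 * m + 1) + 1) / 2) = 1 ∨ x ^ 6 = 1)
    (h_fix : ∀ (x : Mq K) (w : W K), w ≠ 1 → (x : MulAut (W K)) w = w → x ^ 2 = 1 ∨ x ^ 3 = 1)
    (y : Y K) :
    orderOf y ∣ 6 ∨ orderOf y ∣ 9 ∨ orderOf y ∣ 3 ^ (2 * m + 1) - 1 ∨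
      orderOf y ∣ (3 ^ (2 * m + 1) + 1) / 2 := by
  obtain ⟨w, x⟩ := y
  by_cases hfree : ∀ n : W K, (x : MulAut (W K)) n = n → n = 1
  · have ho := h_sdp_a x hfree w
    rw [ho]
    rcases h_ord x with h | h | h
    · right; right; left; exact orderOf_dvd_of_pow_eq_one h
    · right; right; right; exact orderOf_dvd_of_pow_eq_one h
    · left; exact orderOf_dvd_of_pow_eq_one h
  · push Not at hfree
    obtain ⟨n, hn, hn1⟩ := hfree
    rcases h_fix x n hn1 hn with h | h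
    · left
      exact orderOf_dvd_of_pow_eq_one (h_sdp_b 2 w x h)
    · right; left
      exact orderOf_dvd_of_pow_eq_one (h_sdp_b 3 w x h)

theorem Y_orders [Fintype K] {m : ℕ} (hK : Fintype.card K = 3 ^ (2 * m + 1)) (y : Y K) :
    orderOf y ∣ 6 ∨ orderOf y ∣ 9 ∨ orderOf y ∣ 3 ^ (2 * m + 1) - 1 ∨
      orderOf y ∣ (3 ^ (2 * m + 1) + 1) / 2 := by
  refine Y_orders_of ?_ ?_ (fun x => Cfsg.Agent.Lib.H8.RS.Mq_pow_cases hK x)
    (fun x w hw hfix => Cfsg.Agent.Lib.H4.RS.fixed_cases hK x w hw hfix) y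
  · intro g hg n
    refine Cfsg.Agent.Lib.H3.RS.sdp_orderOf_of_fixedfree (Mq K).subtype ?_ g hg n
    intro a b
    show Multiplicative.ofAdd (Multiplicative.toAdd a + Multiplicative.toAdd b)
      = Multiplicative.ofAdd (Multiplicative.toAdd b + Multiplicative.toAdd a)
    rw [add_comm]
  · intro k n g hg
    exact Cfsg.Agent.Lib.H3.RS.sdp_pow_eq_one (Mq K).subtype 3 k rsv_cube_eq_one n g hg

end field

end Cfsg.Agent.Lib.H2.RS
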