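import Mathlib
import Cfsg.Agent.Lib.H23.RVDefs
import Cfsg.Agent.Lib.H20.WeilFull
import Cfsg.Agent.Lib.H13.SpDerange
import Cfsg.Agent.Lib.H23.CharGalois
import Cfsg.Agent.Lib.H24.RVOINT
import Cfsg.Agent.Lib.H11.AltForm
import Cfsg.Agent.Lib.L0.CharOps
import Cfsg.Agent.Lib.H5.RVWEILA
import Cfsg.Agent.Lib.H5.RVWEILB

/-!
# S4959 piece WEIL-C (helper2): the k(GV)-datum of a module with a non-degenerate alternating invariant form (`p` odd),
from the Weil representation (WEIL-A, WEIL-B of helper5).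
-/

set_option autoImplicit false

universe u



namespace Cfsg.Agent.Lib.H2.RV

open Cfsg Cfsg.Agent.Lib.H23 Cfsg.Agent.Lib.H23.RV
open scoped ComplexConjugate
open Matrix Cfsg.Agent.Lib.H20.Weil

/-- fixed points of `h ^ k` and of `h` agree when `k` is prime to the exponent -/
theorem fix_pow_iff {k₀ : Type*} [CommSemiring k₀] {H : Type*} [Group H] {W : Type*} [AddCommMonoid W]
    [Module k₀ W] (ρ : Representation k₀ H W) {m : ℕ} (h : H) (hh : h ^ m = 1) (k : ℕ)
    (hk : Nat.Coprime k m) (w : W) : ρ (h ^ k) w = w ↔ ρ h w = w := by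
  have hfix : ∀ (g : H) (j : ℕ), ρ g w = w → ρ (g ^ j) w = w := by
    intro g j hg
    induction j with
    | zero => simp
    | succ j ih => rw [pow_succ, map_mul, Module.End.mul_apply, hg, ih]
  constructor
  · intro h1
    have hord : orderOf h ∣ m := orderOf_dvd_of_pow_eq_one hh
    have hc : Nat.Coprime k (orderOf h) := Nat.Coprime.coprime_dvd_right hord hk
    obtain ⟨j, hj⟩ := exists_pow_eq_self_of_coprime hc
    have := hfix (h ^ k) j h1
    rwa [hj] at this
  · intro h1
    exact hfix h k h1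

theorem cycPow_one (m : ℕ) [NeZero m] : cycPow m (1 : Gal(CyclotomicField m ℚ/ℚ)) = 1 := by
  unfold cycPow
  rw [map_one, Units.val_one]

theorem cycPow_coprime (m : ℕ) [NeZero m] (σ : Gal(CyclotomicField m ℚ/ℚ)) :
    Nat.Coprime (cycPow m σ).val m := by
  unfold cycPow
  exact ZMod.val_coe_unit_coprime _

section main

variable {p : ℕ} [Fact p.Prime] {H : Type u} [Group H] {W : Type*} [AddCommGroup W] [Module (ZMod p) W]
  {n : ℕ} (ρ : Representation (ZMod p) H W) (Θ : W ≃ₗ[ZMod p] (Fin n ⊕ Fin n → ZMod p))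
  (φ : H →* ↥(Matrix.symplecticGroup (Fin n) (ZMod p)))
  (hΘφ : ∀ g v, (φ g).1.mulVec (Θ v) = Θ (ρ g v))

include hΘφ in
theorem fixCard_eq (h : H) :
    fixCard ρ h = Nat.card {v : Fin n ⊕ Fin n → ZMod p // (φ h).1 *ᵥ v = v} := by
  unfold fixCard
  apply Nat.card_congr
  refine Equiv.subtypeEquiv Θ.toEquiv ?_
  intro w
  show ρ h w = w ↔ (φ h).1 *ᵥ (Θ w) = Θ w
  rw [hΘφ]
  exact ⟨fun e => by rw [e], fun e => Θ.injective e⟩

include hΘφ in
theorem fixCardK_eq (K : Subgroup H) :
    fixCardK ρ K = Nat.card {v : Fin n ⊕ Fin n → ZMod p // ∀ g ∈ K.map φ, g.1 *ᵥ v = v} := by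
  unfold fixCardK
  apply Nat.card_congr
  refine Equiv.subtypeEquiv Θ.toEquiv ?_
  intro w
  show (∀ g ∈ K, ρ g w = w) ↔ ∀ g ∈ K.map φ, g.1 *ᵥ (Θ w) = Θ w
  constructor
  · rintro hw g ⟨k, hk, rfl⟩
    rw [hΘφ, hw k hk]
  · intro hw g hg
    have := hw (φ g) ⟨g, hg, rfl⟩
    rw [hΘφ] at this
    exact Θ.injective this

end main

theorem card_W_eq {p : ℕ} {W : Type*} [AddCommGroup W] [Module (ZMod p) W] {n : ℕ}
    (Θ : W ≃ₗ[ZMod p] (Fin n ⊕ Fin n → ZMod p)) : Nat.card W = p ^ (2 * n) := by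
  rw [Nat.card_congr Θ.toEquiv, Nat.card_fun, Nat.card_zmod, Nat.card_sum, Nat.card_fin]
  congr 1
  ring

theorem exists_kdata_alt {p : ℕ} [Fact p.Prime] (hp2 : p ≠ 2) (m : ℕ) [NeZero m] (hpm : p ∣ m)
    {H : Type u} [Group H] [Finite H] (hHm : ∀ h : H, h ^ m = 1) (hcop : ¬ p ∣ Nat.card H)
    {W : Type*} [AddCommGroup W] [Module (ZMod p) W] [Finite W]
    (ρ : Representation (ZMod p) H W) (B : LinearMap.BilinForm (ZMod p) W)
    (halt : ∀ x, B x x = 0) (hinv : ∀ g x y, B (ρ g x) (ρ g y) = B x y)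
    (hnd : ∀ x, (∀ y, B x y = 0) → x = 0) :
    ∃ Y : H → CyclotomicField m ℚ, IsKData p m ρ Y := by
  classical
  have hp : p.Prime := Fact.out
  have : Module.Finite (ZMod p) W := Module.Finite.of_finite
  -- the dimension is even
  have hskew : ∀ x y, B x y = - B y x := by
    intro x y
    have h1 := halt (x + y)
    rw [map_add, map_add, LinearMap.add_apply, LinearMap.add_apply, halt, halt] at h1
    linear_combination h1
  have hnd' : B.Nondegenerate := by
    refine ⟨hnd, ?_⟩
    intro y hy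
    apply hnd
    intro x
    rw [hskew, hy x, neg_zero]
  obtain ⟨n, hn⟩ := Cfsg.Agent.Lib.H11.even_finrank_of_nondegenerate_isAlt _ B halt hnd' rfl
  have hV : Module.finrank (ZMod p) W = 2 * n := by omega
  obtain ⟨Θ, φ, -, hΘφ⟩ := Cfsg.Agent.Lib.H13.SpDerange.exists_hom_symplectic hV B halt hnd ρ hinv
  -- the Weil representation
  set ψ : AddChar (ZMod p) ℂ := ZMod.stdAddChar with hψdef
  have hψ : ψ ≠ 1 := by
    intro h1
    have hprim := ZMod.isPrimitive_stdAddChar p
    have := hprim (a := (1 : ZMod p)) one_ne_zero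
    apply this
    rw [AddChar.mulShift_one]  -- mulShift ψ 1 = ψ
    exact h1
  have h2 : (2 : ZMod p) ≠ 0 := by
    intro h
    have : ((2 : ℕ) : ZMod p) = 0 := by exact_mod_cast h
    rw [ZMod.natCast_eq_zero_iff] at this
    have := (Nat.prime_dvd_prime_iff_eq hp Nat.prime_two).1 this
    exact hp2 this
  obtain ⟨ω, hω⟩ := exists_weil_full (n := n) h2 ψ hψ
  let R : Representation ℂ H ((Fin n → ZMod p) → ℂ) := ω.comp φ
  have hxex := fun h : H => Cfsg.Agent.Lib.H23.exists_cyc_char m R h (hHm h)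
  choose x hx using hxex
  refine ⟨fun h => (p : CyclotomicField m ℚ) ^ n * x h, ?_⟩
  -- the common formula
  have hRtr : ∀ g : H, R.character g = LinearMap.trace ℂ ((Fin n → ZMod p) → ℂ) (ω (φ g)) := fun g => rfl
  have hval : ∀ (σ : Gal(CyclotomicField m ℚ/ℚ)) (h : H),
      cycEmb m (σ ((p : CyclotomicField m ℚ) ^ n * x h)) =
        (p : ℂ) ^ n * LinearMap.trace ℂ ((Fin n → ZMod p) → ℂ) (ω (φ (h ^ (cycPow m σ).val))) := by
    intro σ h
    rw [map_mul, map_mul, map_pow, map_pow, map_natCast, map_natCast, hx h σ, hRtr]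
  have hval1 : ∀ h : H, cycEmb m ((p : CyclotomicField m ℚ) ^ n * x h) =
        (p : ℂ) ^ n * LinearMap.trace ℂ ((Fin n → ZMod p) → ℂ) (ω (φ h)) := by
    intro h
    have := hval 1 h
    rw [cycPow_one, Cfsg.Agent.Lib.H23.pow_val_one_eq m h (hHm h)] at this
    exact this
  have hcardW : Nat.card W = p ^ (2 * n) := card_W_eq Θ
  have hpi : IsIntegral ℤ (p : ℂ) := by
    simpa using (isIntegral_algebraMap (R := ℤ) (A := ℂ) (x := (p : ℤ)))
  -- a subgroup datum
  have hsub : ∀ K : Subgroup H, ∃ (c : ℕ) (θ : ↥(K.map φ) → ℂ), IsCharacter ↥(K.map φ) θ ∧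
      fixCardK ρ K = p ^ (2 * c) ∧ c ≤ n ∧
      ∀ (g : H) (hg : g ∈ K), LinearMap.trace ℂ ((Fin n → ZMod p) → ℂ) (ω (φ g)) =
        (p : ℂ) ^ c * θ ⟨φ g, Subgroup.mem_map_of_mem φ hg⟩ := by
    intro K
    have hc𝒦 : ¬ p ∣ Nat.card ↥(K.map φ) := by
      intro hd
      exact hcop (dvd_trans hd (dvd_trans (Subgroup.card_map_dvd (H := K) φ) (Subgroup.card_subgroup_dvd_card K)))
    obtain ⟨c, θ, hθ, hfix, htr⟩ := Cfsg.Agent.Lib.H5.RV.weil_restrict hp2 ψ hψ ω hω (K.map φ) hc𝒦
    refine ⟨c, θ, hθ, ?_, ?_, ?_⟩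
    · rw [fixCardK_eq ρ Θ φ hΘφ K, hfix]
    · have h1 : fixCardK ρ K ≤ Nat.card W := by
        unfold fixCardK
        exact Nat.card_le_card_of_injective (fun w => w.1) Subtype.val_injective
      rw [fixCardK_eq ρ Θ φ hΘφ K, hfix, hcardW] at h1
      have := (Nat.pow_le_pow_iff_right hp.one_lt).1 h1
      omega
    · intro g hg
      exact htr ⟨φ g, Subgroup.mem_map_of_mem φ hg⟩
  constructor
  · -- conj_inv
    intro h g
    apply cycEmb_injective m
    rw [hval1, hval1]
    congr 1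
    have e2 : ω (φ (g * h * g⁻¹)) = ω (φ g) * ω (φ h) * ω (φ g⁻¹) := by
      rw [map_mul, map_mul, map_mul, map_mul]
    have e3 : ω (φ g⁻¹) * ω (φ g) = 1 := by
      rw [← map_mul, ← map_mul, inv_mul_cancel, map_one, map_one]
    rw [e2, LinearMap.trace_mul_comm, ← mul_assoc, e3, one_mul]
  · -- norm_sq
    intro σ h
    rw [hval σ h, norm_mul, mul_pow, Cfsg.Agent.Lib.H5.RV.weil_normSq h2 ψ hψ ω hω,
      ← fixCard_eq ρ Θ φ hΘφ, hcardW]
    have e1 : fixCard ρ (h ^ (cycPow m σ).val) = fixCard ρ h := by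
      unfold fixCard
      apply Nat.card_congr
      exact Equiv.subtypeEquivRight (fun w => fix_pow_iff ρ h (hHm h) _ (cycPow_coprime m σ) w)
    rw [e1]
    congr 1
    rw [norm_pow, Complex.norm_natCast, ← pow_mul, mul_comm n 2]
    push_cast
    rfl
  · -- triv
    intro h hh
    rw [hval1 h]
    have hφ1 : φ h = 1 := by
      apply Subtype.ext
      apply Matrix.mulVec_injective
      funext v
      obtain ⟨w, rfl⟩ := Θ.surjective v
      rw [hΘφ, hh]
      simp
    rw [hφ1, map_one, LinearMap.trace_one, Module.finrank_fintype_fun_eq_card, Fintype.card_fun, ZMod.card,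
      Fintype.card_fin, hcardW]
    push_cast
    rw [← pow_add]
    congr 1
    ring
  · -- div
    intro h hh
    obtain ⟨c, θ, hθ, hfix, hcn, htr⟩ := hsub (Subgroup.zpowers h)
    have hfc : fixCard ρ h = fixCardK ρ (Subgroup.zpowers h) := by
      unfold fixCard fixCardK
      apply Nat.card_congr
      refine Equiv.subtypeEquivRight (fun w => ?_)
      constructor
      · intro hw g hg
        obtain ⟨j, rfl⟩ := Subgroup.mem_zpowers_iff.1 hg
        have hwinv : ρ h⁻¹ w = w := by
          conv_lhs => rw [← hw]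
          rw [← Module.End.mul_apply, ← map_mul, inv_mul_cancel, map_one, Module.End.one_apply]
        have hfixn : ∀ (g : H) (j : ℕ), ρ g w = w → ρ (g ^ j) w = w := by
          intro g j hg
          induction j with
          | zero => simp
          | succ j ih => rw [pow_succ, map_mul, Module.End.mul_apply, hg, ih]
        rcases Int.eq_nat_or_neg j with ⟨k, rfl | rfl⟩
        · rw [zpow_natCast]
          exact hfixn h k hw
        · rw [_root_.zpow_neg, zpow_natCast, ← inv_pow]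
          exact hfixn h⁻¹ k hwinv
      · intro hw
        exact hw h (Subgroup.mem_zpowers h)
    have hcn' : c < n := by
      rcases Nat.lt_or_ge c n with h1 | h1
      · exact h1
      · exfalso
        have hcn2 : c = n := le_antisymm hcn h1
        apply hh
        -- all of `W` is fixed
        have hall : ∀ w : W, ρ h w = w := by
          have hcard : Nat.card {w : W // ρ h w = w} = Nat.card W := by
            have := hfc
            unfold fixCard at this
            rw [this, hfix, hcardW, hcn2]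
          intro w
          by_contra hne
          have hfin : Fintype W := Fintype.ofFinite W
          have hlt : Fintype.card {w : W // ρ h w = w} < Fintype.card W :=
            Fintype.card_subtype_lt hne
          rw [← Nat.card_eq_fintype_card, ← Nat.card_eq_fintype_card, hcard] at hlt
          exact lt_irrefl _ hlt
        apply LinearMap.ext
        intro w
        rw [hall w, Module.End.one_apply]
    refine ⟨1, 0, (p : ℂ) ^ (n - c - 1) * θ ⟨φ h, Subgroup.mem_map_of_mem φ (Subgroup.mem_zpowers h)⟩,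
      one_pow p, isIntegral_zero, ?_, ?_⟩
    · exact IsIntegral.mul (IsIntegral.pow hpi _)
        (Cfsg.Agent.Lib.L0.isCharacter_isIntegral hθ _)
    · rw [hval1 h, htr h (Subgroup.mem_zpowers h), hfc, hfix]
      have e' : (p : ℂ) ^ n = (p : ℂ) ^ c * (p : ℂ) ^ (n - c - 1) * p := by
        rw [← pow_add, ← pow_succ]
        congr 1
        omega
      rw [e']
      push_cast
      ring
  · -- oint
    intro K
    obtain ⟨c, θ, hθ, hfix, hcn, htr⟩ := hsub K
    have hchar : IsCharacter ↥K (θ ∘ (φ.subgroupMap K)) := Cfsg.Agent.Lib.L0.isCharacter_comp _ hθ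
    have h1 := Cfsg.Agent.Lib.H24.RV.oInt_smul
      (IsIntegral.pow hpi (n - c))
      (Cfsg.Agent.Lib.H24.RV.oInt_of_isCharacter hchar)
    convert h1 using 1
    funext g
    rw [hval1 (g : H), htr (g : H) g.2, hfix]
    have hp0 : (p : ℂ) ≠ 0 := by exact_mod_cast hp.ne_zero
    have e' : (p : ℂ) ^ n = (p : ℂ) ^ c * (p : ℂ) ^ (n - c) := by
      rw [← pow_add]
      congr 1
      omega
    show _ = (p : ℂ) ^ (n - c) • (θ ∘ (φ.subgroupMap K)) g
    rw [smul_eq_mul]
    have e2 : (θ ∘ (φ.subgroupMap K)) g = θ ⟨φ (g : H), Subgroup.mem_map_of_mem φ g.2⟩ := rfl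
    rw [e2, e']
    push_cast
    field_simp
    ring

end Cfsg.Agent.Lib.H2.RV
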