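import Mathlib

set_option autoImplicit false

namespace Cfsg.Agent.Lib.H2

variable {G : Type*} [Group G]

/-- if `g` inverts `x` then `g^2` commutes with `x` -/
theorem commute_sq_of_inverts {g x : G} (h : g * x * g⁻¹ = x⁻¹) : Commute (g ^ 2) x := by
  have h' : g * x⁻¹ * g⁻¹ = x := by
    have := congrArg Inv.inv h
    simpa [mul_assoc] using this
  unfold Commute SemiconjBy
  have : g ^ 2 * x * (g ^ 2)⁻¹ = x := by
    rw [pow_two, mul_inv_rev]
    calc g * g * x * (g⁻¹ * g⁻¹) = g * (g * x * g⁻¹) * g⁻¹ := by simp only [mul_assoc]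
      _ = x := by rw [h, h']
  calc g ^ 2 * x = g ^ 2 * x * (g ^ 2)⁻¹ * g ^ 2 := by simp
    _ = x * g ^ 2 := by rw [this]

theorem commute_even_pow_of_inverts {g x : G} (h : g * x * g⁻¹ = x⁻¹) (j : ℕ) :
    Commute (g ^ (2 * j)) x := by
  rw [pow_mul]
  exact (commute_sq_of_inverts h).pow_left j

theorem inverts_odd_pow_of_inverts {g x : G} (h : g * x * g⁻¹ = x⁻¹) (j : ℕ) :
    g ^ (2 * j + 1) * x * (g ^ (2 * j + 1))⁻¹ = x⁻¹ := by
  have hc := commute_even_pow_of_inverts h j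
  rw [pow_succ, mul_inv_rev]
  calc g ^ (2 * j) * g * x * (g⁻¹ * (g ^ (2 * j))⁻¹)
      = g ^ (2 * j) * (g * x * g⁻¹) * (g ^ (2 * j))⁻¹ := by simp only [mul_assoc]
    _ = g ^ (2 * j) * x⁻¹ * (g ^ (2 * j))⁻¹ := by rw [h]
    _ = x⁻¹ := by
        have := hc.inv_right
        rw [this.eq]; simp

end Cfsg.Agent.Lib.H2
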