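import Cfsg.Statements.S2772
import Cfsg.Agent.S2800
import Cfsg.Agent.Lib.H14.NPCG2
import Cfsg.Agent.Lib.H14.Amalgam2

set_option autoImplicit false
open Cfsg

/-!
# S2772 (Sims' theorem in local form), piece (Q5): `q ≥ 5` is impossible (helper2)
-/

namespace Cfsg.Agent.Lib.H2.S2772

open Cfsg.Agent.Lib.L0 Cfsg.Agent.Lib.H14 Cfsg.Agent.Lib.H14.NPCG

/-- a `p`-group has a normal `p`-complement -/
theorem hasNormalPComplement_of_isPGroup {p : ℕ} {A : Type*} [Group A] (hA : IsPGroup p A) :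
    Cfsg.HasNormalPComplement p A := by
  refine ⟨⟨⊤, hA.to_subgroup ⊤, fun _ hle => top_le_iff.1 hle⟩, ⊥, inferInstance, ?_⟩
  exact Subgroup.isComplement'_bot_top

section main

variable {H : Type*} [Group H] [IsSimpleGroup H] (G : Subgroup H) (hG : IsCoatom G)
  (S : Sylow 2 ↥G)
  (hN : ¬ Subgroup.normalizer (((S : Subgroup ↥G).map G.subtype : Subgroup H) : Set H) ≤ G)

include hG hN in
/-- a nontrivial normal subgroup `X` of `G` whose image is normalized by `N_H(S)`: impossible -/
theorem char_kill (X : Subgroup ↥G) (hX : X ≠ ⊥) (hXn : X.Normal)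
    (hchar : Subgroup.normalizer (((S : Subgroup ↥G).map G.subtype : Subgroup H) : Set H) ≤
      Subgroup.normalizer ((X.map G.subtype : Subgroup H) : Set H)) : False := by
  apply hN
  refine hchar.trans ?_
  set Y : Subgroup H := X.map G.subtype with hY
  have hYG : Y ≤ G := Subgroup.map_subtype_le X
  have hGN : G ≤ Subgroup.normalizer (Y : Set H) := by
    intro g hg
    rw [Subgroup.mem_normalizer_iff]
    intro y
    constructor
    · rintro ⟨x, hx, rfl⟩
      refine ⟨⟨g, hg⟩ * x * ⟨g, hg⟩⁻¹, hXn.conj_mem x hx ⟨g, hg⟩, ?_⟩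
      simp
    · rintro ⟨x, hx, hxy⟩
      refine ⟨⟨g, hg⟩⁻¹ * x * ⟨g, hg⟩, ?_, ?_⟩
      · have := hXn.conj_mem x hx (⟨g, hg⟩⁻¹)
        simpa using this
      · have h1 : (G.subtype x : H) = g * y * g⁻¹ := hxy
        simp only [map_mul, map_inv, Subgroup.subtype_apply] at h1 ⊢
        rw [h1]
        group
  by_contra hcon
  have hlt : G < Subgroup.normalizer (Y : Set H) := lt_of_le_of_ne hGN (fun h => hcon h.ge)
  have htop := hG.2 _ hlt
  have hYn : Y.Normal := Subgroup.normalizer_eq_top_iff.1 htop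
  rcases hYn.eq_bot_or_eq_top with h | h
  · apply hX
    rw [hY] at h
    exact (Subgroup.map_eq_bot_iff_of_injective X G.subtype_injective).1 h
  · apply hG.1
    rw [eq_top_iff, ← h]
    exact hYG

end main

/-- (Q5) `q ≥ 5` is impossible -/
theorem q_ge_five {H : Type*} [Group H] [Finite H] [IsSimpleGroup H] (hna : ¬ IsMulCommutative H) (G : Subgroup H) (hG : IsCoatom G) (hchar : Subgroup.centralizer (Cfsg.pCore 2 ↥G : Set ↥G) ≤ Cfsg.pCore 2 ↥G) (S : Sylow 2 ↥G) (hN : ¬ Subgroup.normalizer (((S : Subgroup ↥G).map G.subtype : Subgroup H) : Set H) ≤ G) (q : ℕ) (hq : q.Prime) (hD : Nonempty (↥G ⧸ Cfsg.pCore 2 ↥G ≃* DihedralGroup q)) (hq5 : 5 ≤ q) : False := by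
  obtain ⟨e⟩ := hD
  have hOn : (Cfsg.pCore 2 ↥G).Normal := Cfsg.Agent.Lib.H14.pCore_normal
  have hOp : IsPGroup 2 (Cfsg.pCore 2 ↥G) := Cfsg.Agent.Lib.H14.pCore_isPGroup
  obtain ⟨a, ha⟩ := hOp.exists_card_eq
  -- the order of `G`
  have hcardG : Nat.card ↥G = 2 ^ (a + 1) * q := by
    have h1 := Subgroup.card_eq_card_quotient_mul_card_subgroup (Cfsg.pCore 2 ↥G)
    rw [Nat.card_congr e.toEquiv, DihedralGroup.nat_card, ha] at h1
    rw [h1]
    ring
  have hq2 : q ≠ 2 := by omega
  have hq3 : q ≠ 3 := by omega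
  have hqodd : ¬ 2 ∣ q := fun h => hq2 ((Nat.prime_dvd_prime_iff_eq Nat.prime_two hq).1 h).symm
  -- the index of `S`
  have hSidx : (S : Subgroup ↥G).index = q := by
    have h1 := Subgroup.card_mul_index (S : Subgroup ↥G)
    have h2 : ¬ 2 ∣ (S : Subgroup ↥G).index := S.not_dvd_index
    have hcop : Nat.Coprime (S : Subgroup ↥G).index (2 ^ (a + 1)) :=
      Nat.Coprime.pow_right _ ((Nat.Prime.coprime_iff_not_dvd Nat.prime_two).2 h2).symm
    have hdvd : (S : Subgroup ↥G).index ∣ 2 ^ (a + 1) * q := by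
      rw [← hcardG, ← h1]
      exact Dvd.intro_left _ rfl
    have hdq : (S : Subgroup ↥G).index ∣ q := hcop.dvd_of_dvd_mul_left hdvd
    rcases hq.eq_one_or_self_of_dvd _ hdq with h | h
    · exfalso
      rw [h, mul_one, hcardG] at h1
      obtain ⟨k, hk⟩ := S.isPGroup'.exists_card_eq
      rw [hk] at h1
      have : q ∣ 2 ^ k := by
        rw [h1]
        exact Dvd.intro_left _ rfl
      exact hqodd ((Nat.prime_dvd_prime_iff_eq hq Nat.prime_two).1 (hq.dvd_of_dvd_pow this) ▸ dvd_refl _)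
    · exact h
  -- subgroups between `S` and `G`
  have hbetween : ∀ M : Subgroup ↥G, (S : Subgroup ↥G) ≤ M → M ≠ ⊤ → M ≤ S := by
    intro M hSM hM
    have h1 := Subgroup.relIndex_mul_index hSM
    rw [hSidx] at h1
    have hdvd : M.index ∣ q := Dvd.intro_left _ h1
    rcases hq.eq_one_or_self_of_dvd _ hdvd with h | h
    · exact absurd (Subgroup.index_eq_one.1 h) hM
    · rw [h] at h1
      have : (S : Subgroup ↥G).relIndex M = 1 := by
        have hpos : 0 < q := hq.pos
        exact Nat.eq_of_mul_eq_mul_right hpos (by rw [h1, one_mul])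
      exact Subgroup.relIndex_eq_one.1 this
  -- `S ≠ ⊥`
  have hSne : (S : Subgroup ↥G) ≠ ⊥ := by
    intro h
    have h1 := Subgroup.card_mul_index (S : Subgroup ↥G)
    rw [hSidx, hcardG] at h1
    rw [h, Subgroup.card_bot, one_mul] at h1
    have : 2 ^ (a + 1) = 1 := by
      have hpos : 0 < q := hq.pos
      exact Nat.eq_of_mul_eq_mul_right hpos (by rw [one_mul]; exact h1.symm)
    have h2 : 2 ≤ 2 ^ (a + 1) := by
      calc 2 = 2 ^ 1 := rfl
        _ ≤ 2 ^ (a + 1) := Nat.pow_le_pow_right (by norm_num) (by omega)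
    omega
  set SH : Subgroup H := (S : Subgroup ↥G).map G.subtype with hSH
  have hinj : Set.InjOn G.subtype ((S : Subgroup ↥G) : Set ↥G) :=
    fun x _ y _ hxy => G.subtype_injective hxy
  -- `S₄` is not involved in `G`
  have hfree : ¬ Cfsg.Involves (Equiv.Perm (Fin 4)) ↥G := by
    rintro ⟨K₁, R, hRn, ⟨f⟩⟩
    have h1 := Subgroup.card_eq_card_quotient_mul_card_subgroup (R.subgroupOf K₁)
    have h4 : (4 : ℕ).factorial = 24 := rfl
    rw [Nat.card_congr f.toEquiv, Nat.card_perm, Nat.card_fin, h4] at h1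
    have h24 : (24 : ℕ) ∣ Nat.card K₁ := by
      rw [h1]
      exact Dvd.intro _ rfl
    have h3 : 3 ∣ Nat.card ↥G := (Dvd.intro_left 8 rfl : (3 : ℕ) ∣ 24).trans
      (h24.trans (Subgroup.card_subgroup_dvd_card K₁))
    rw [hcardG] at h3
    rcases (Nat.Prime.dvd_mul Nat.prime_three).1 h3 with h | h
    · have := Nat.Prime.dvd_of_dvd_pow Nat.prime_three h
      omega
    · exact hq3 ((Nat.prime_dvd_prime_iff_eq Nat.prime_three hq).1 h).symm
  -- `C_G(Z(S)) ≤ S`
  have hC : Subgroup.centralizer (((S : Subgroup ↥G) ⊓ Subgroup.centralizer ((S : Subgroup ↥G) : Set ↥G) :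
      Subgroup ↥G) : Set ↥G) ≤ S := by
    apply hbetween
    · intro x hx
      rw [Subgroup.mem_centralizer_iff]
      intro z hz
      have hz' := Subgroup.mem_centralizer_iff.1 (Subgroup.mem_inf.1 hz).2 x hx
      exact hz'.symm
    · intro htop
      have hzn : (zOf (S : Subgroup ↥G)).Normal := by
        constructor
        intro z hz g
        have hg : g ∈ Subgroup.centralizer ((zOf (S : Subgroup ↥G) : Subgroup ↥G) : Set ↥G) := by
          show g ∈ Subgroup.centralizer (((S : Subgroup ↥G) ⊓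
            Subgroup.centralizer ((S : Subgroup ↥G) : Set ↥G) : Subgroup ↥G) : Set ↥G)
          rw [htop]
          exact Subgroup.mem_top g
        have := Subgroup.mem_centralizer_iff.1 hg z hz
        have e1 : g * z * g⁻¹ = z := by
          rw [← this, mul_assoc, mul_inv_cancel, mul_one]
        rw [e1]
        exact hz
      refine char_kill G hG S hN (zOf (S : Subgroup ↥G)) ?_ hzn ?_
      · exact zOf_ne_bot (p := 2) _ S.isPGroup' hSne
      · rw [← zOf_map G.subtype _ hinj]
        exact normalizer_le_normalizer_zOf SH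
  -- `N_G(J(S)) ≤ S`
  have hNJ : Subgroup.normalizer ((Cfsg.thompsonSubgroupAOf (S : Subgroup ↥G)) : Set ↥G) ≤ S := by
    apply hbetween
    · exact Subgroup.le_normalizer.trans (normalizer_le_normalizer_thompsonSubgroupAOf _)
    · intro htop
      have hJn : (Cfsg.thompsonSubgroupAOf (S : Subgroup ↥G)).Normal :=
        Subgroup.normalizer_eq_top_iff.1 htop
      refine char_kill G hG S hN (Cfsg.thompsonSubgroupAOf (S : Subgroup ↥G)) ?_ hJn ?_
      · exact thompsonSubgroupAOf_ne_bot (p := 2) _ S.isPGroup' hSne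
      · rw [← thompsonSubgroupAOf_map G.subtype _ hinj]
        exact normalizer_le_normalizer_thompsonSubgroupAOf SH
  -- Thompson's normal complement theorem
  have hnpc : Cfsg.HasNormalPComplement 2 ↥G :=
    Cfsg.Agent.S2800.result S (Or.inr hfree)
      (hasNormalPComplement_of_isPGroup (S.isPGroup'.to_le hC))
      (hasNormalPComplement_of_isPGroup (S.isPGroup'.to_le hNJ))
  obtain ⟨P, N, hNn, hcomp⟩ := hnpc
  have hcardN : Nat.card N = q := by
    have h1 := hcomp.card_mul_card
    have h2 := Subgroup.card_mul_index (S : Subgroup ↥G)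
    have h3 : Nat.card (P : Subgroup ↥G) = Nat.card (S : Subgroup ↥G) := by
      rw [Sylow.card_eq_multiplicity, Sylow.card_eq_multiplicity]
    rw [h3] at h1
    rw [hSidx, ← h1] at h2
    have hpos : 0 < Nat.card (S : Subgroup ↥G) := Nat.card_pos
    have : Nat.card (S : Subgroup ↥G) * q = Nat.card (S : Subgroup ↥G) * Nat.card N := by
      rw [h2, mul_comm]
    exact (Nat.eq_of_mul_eq_mul_left hpos this).symm
  have hdisj : Disjoint N (Cfsg.pCore 2 ↥G) := by
    apply Subgroup.disjoint_of_coprime_natCard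
    rw [hcardN, ha]
    exact Nat.Coprime.pow_right _ ((Nat.Prime.coprime_iff_not_dvd hq).2 (fun h =>
      hq2 ((Nat.prime_dvd_prime_iff_eq hq Nat.prime_two).1 h)))
  have hNO : N ≤ Cfsg.pCore 2 ↥G := by
    refine le_trans ?_ hchar
    intro x hx
    rw [Subgroup.mem_centralizer_iff]
    intro y hy
    exact (Subgroup.commute_of_normal_of_disjoint N _ hNn hOn hdisj x y hx hy).eq.symm
  have hNbot : N = ⊥ := by
    rw [eq_bot_iff]
    intro x hx
    exact (Subgroup.disjoint_def.1 hdisj) hx (hNO hx) ▸ Subgroup.mem_bot.2 rfl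
  rw [hNbot, Subgroup.card_bot] at hcardN
  omega

end Cfsg.Agent.Lib.H2.S2772
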