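import Mathlib
import Cfsg.Agent.Lib.H9.S28Defs

set_option autoImplicit false

namespace Cfsg.Agent.Lib.H2.S28

open Equiv Cfsg.Agent.Lib.H9.S28 Cfsg.Agent.Lib.H15.SymF

variable {β : Type*} [Fintype β] [DecidableEq β] {G L : Subgroup (Perm β)}

theorem s28_inj7 {β : Type*} (a b c d e f g : β) (hnd : [a, b, c, d, e, f, g].Nodup) :
    Function.Injective (![a, b, c, d, e, f, g] : Fin 7 → β) := by
  rw [← List.nodup_ofFn]
  simpa [List.ofFn_succ] using hnd

theorem s28_inj5 {β : Type*} (a b c d e : β) (hnd : [a, b, c, d, e].Nodup) :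
    Function.Injective (![a, b, c, d, e] : Fin 5 → β) := by
  rw [← List.nodup_ofFn]
  simpa [List.ofFn_succ] using hnd

omit [Fintype β] in
/-- `viaEmbeddingHom` sends a swap to the swap of the images -/
theorem s28_via_swap {n : ℕ} (ι : Fin n ↪ β) (i j : Fin n) :
    Perm.viaEmbeddingHom ι (swap i j) = swap (ι i) (ι j) := by
  ext x
  show Perm.viaEmbedding (swap i j) ι x = swap (ι i) (ι j) x
  by_cases hx : x ∈ Set.range ι
  · obtain ⟨k, rfl⟩ := hx
    rw [Perm.viaEmbedding_apply, ι.injective.swap_apply]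
  · rw [Perm.viaEmbedding_apply_of_notMem _ _ _ hx]
    have h1 : x ≠ ι i := fun h => hx ⟨i, h.symm⟩
    have h2 : x ≠ ι j := fun h => hx ⟨j, h.symm⟩
    rw [swap_apply_of_ne_of_ne h1 h2]

theorem IsKlein_image {S : Finset β} (hS : IsKlein G S) {g : Perm β} (hg : g ∈ G) :
    IsKlein G (S.image g) := by
  refine ⟨?_, ?_⟩
  · rw [Finset.card_image_of_injective _ g.injective]; exact hS.1
  · intro a' b' c' d' ha hb hc hd hab hac had hbc hbd hcd
    obtain ⟨a, haS, rfl⟩ := Finset.mem_image.mp ha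
    obtain ⟨b, hbS, rfl⟩ := Finset.mem_image.mp hb
    obtain ⟨c, hcS, rfl⟩ := Finset.mem_image.mp hc
    obtain ⟨d, hdS, rfl⟩ := Finset.mem_image.mp hd
    have h := hS.2 a b c d haS hbS hcS hdS (fun h => hab (by rw [h])) (fun h => hac (by rw [h]))
      (fun h => had (by rw [h])) (fun h => hbc (by rw [h])) (fun h => hbd (by rw [h]))
      (fun h => hcd (by rw [h]))
    have heq : swap (g a) (g b) * swap (g c) (g d) = g * (swap a b * swap c d) * g⁻¹ := by
      rw [swap_apply_apply, swap_apply_apply]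
      group
    rw [heq]
    exact G.mul_mem (G.mul_mem hg h) (G.inv_mem hg)

theorem s28_fin7_identity :
    ((swap (0 : Fin 7) 1 * swap 2 3) * (swap 0 4 * swap 5 6)) *
      ((swap (0 : Fin 7) 1 * swap 2 3) * (swap 0 4 * swap 5 6)) = swap 0 4 * swap 0 1 := by
  decide

theorem s28_fin5_identity :
    (swap (0 : Fin 5) 1 * swap 2 3) * (swap 0 1 * swap 2 4) = swap 2 3 * swap 2 4 := by
  decide

theorem threeCycle_of_inter_one {S S' : Finset β} (hS : IsKlein G S) (hS' : IsKlein G S')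
    (hi : (S ∩ S').card = 1) : ∃ c ∈ G, c.IsThreeCycle := by
  obtain ⟨a, ha⟩ := Finset.card_eq_one.mp hi
  have haI : a ∈ S ∩ S' := by rw [ha]; exact Finset.mem_singleton_self a
  have haS : a ∈ S := (Finset.mem_inter.mp haI).1
  have haS' : a ∈ S' := (Finset.mem_inter.mp haI).2
  have h3 : (S.erase a).card = 3 := by rw [Finset.card_erase_of_mem haS, hS.1]
  have h3' : (S'.erase a).card = 3 := by rw [Finset.card_erase_of_mem haS', hS'.1]
  obtain ⟨b, c, d, hbc, hbd, hcd, hbcd⟩ := Finset.card_eq_three.mp h3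
  obtain ⟨e, f, g, hef, heg, hfg, hefg⟩ := Finset.card_eq_three.mp h3'
  have memS : ∀ x, x ∈ ({b, c, d} : Finset β) → x ∈ S ∧ x ≠ a := by
    intro x hx
    rw [← hbcd] at hx
    exact ⟨(Finset.mem_erase.mp hx).2, (Finset.mem_erase.mp hx).1⟩
  have memS' : ∀ x, x ∈ ({e, f, g} : Finset β) → x ∈ S' ∧ x ≠ a := by
    intro x hx
    rw [← hefg] at hx
    exact ⟨(Finset.mem_erase.mp hx).2, (Finset.mem_erase.mp hx).1⟩
  have hb := memS b (by simp)
  have hc := memS c (by simp)
  have hd := memS d (by simp)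
  have he := memS' e (by simp)
  have hf := memS' f (by simp)
  have hg := memS' g (by simp)
  have cross : ∀ x y, x ∈ S → x ≠ a → y ∈ S' → y ≠ a → x ≠ y := by
    intro x y hx hxa hy _ hxy
    have : x ∈ S ∩ S' := Finset.mem_inter.mpr ⟨hx, hxy ▸ hy⟩
    rw [ha, Finset.mem_singleton] at this
    exact hxa this
  have hu : swap a b * swap c d ∈ G :=
    hS.2 a b c d haS hb.1 hc.1 hd.1 hb.2.symm hc.2.symm hd.2.symm hbc hbd hcd
  have hu' : swap a e * swap f g ∈ G :=
    hS'.2 a e f g haS' he.1 hf.1 hg.1 he.2.symm hf.2.symm hg.2.symm hef heg hfg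
  -- the embedding Fin 7 ↪ β
  have hinj : Function.Injective (![a, b, c, d, e, f, g] : Fin 7 → β) := by
    have hbe := cross b e hb.1 hb.2 he.1 he.2
    have hbf := cross b f hb.1 hb.2 hf.1 hf.2
    have hbg := cross b g hb.1 hb.2 hg.1 hg.2
    have hce := cross c e hc.1 hc.2 he.1 he.2
    have hcf := cross c f hc.1 hc.2 hf.1 hf.2
    have hcg := cross c g hc.1 hc.2 hg.1 hg.2
    have hde := cross d e hd.1 hd.2 he.1 he.2
    have hdf := cross d f hd.1 hd.2 hf.1 hf.2
    have hdg := cross d g hd.1 hd.2 hg.1 hg.2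
    have hab := hb.2.symm
    have hac := hc.2.symm
    have had := hd.2.symm
    have hae := he.2.symm
    have haf := hf.2.symm
    have hag := hg.2.symm
    apply s28_inj7
    simp only [List.nodup_cons, List.mem_cons, List.not_mem_nil, or_false, not_or,
      List.nodup_nil, and_true]
    exact ⟨⟨hab, hac, had, hae, haf, hag⟩, ⟨hbc, hbd, hbe, hbf, hbg⟩, ⟨hcd, hce, hcf, hcg⟩,
      ⟨hde, hdf, hdg⟩, ⟨hef, heg⟩, hfg, not_false⟩
  let ι : Fin 7 ↪ β := ⟨![a, b, c, d, e, f, g], hinj⟩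
  let Φ := Perm.viaEmbeddingHom ι
  have e1 : swap a b * swap c d = Φ (swap 0 1 * swap 2 3) := by
    rw [map_mul]; show _ = Perm.viaEmbeddingHom ι _ * Perm.viaEmbeddingHom ι _
    rw [s28_via_swap, s28_via_swap]; rfl
  have e2 : swap a e * swap f g = Φ (swap 0 4 * swap 5 6) := by
    rw [map_mul]; show _ = Perm.viaEmbeddingHom ι _ * Perm.viaEmbeddingHom ι _
    rw [s28_via_swap, s28_via_swap]; rfl
  have e3 : swap a e * swap a b = Φ (swap 0 4 * swap 0 1) := by
    rw [map_mul]; show _ = Perm.viaEmbeddingHom ι _ * Perm.viaEmbeddingHom ι _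
    rw [s28_via_swap, s28_via_swap]; rfl
  refine ⟨((swap a b * swap c d) * (swap a e * swap f g)) *
    ((swap a b * swap c d) * (swap a e * swap f g)), ?_, ?_⟩
  · exact G.mul_mem (G.mul_mem hu hu') (G.mul_mem hu hu')
  · have : ((swap a b * swap c d) * (swap a e * swap f g)) *
        ((swap a b * swap c d) * (swap a e * swap f g)) = swap a e * swap a b := by
      rw [e1, e2, e3, ← map_mul, ← map_mul, s28_fin7_identity]
    rw [this]
    exact Perm.isThreeCycle_swap_mul_swap_same he.2.symm hb.2.symm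
      (cross b e hb.1 hb.2 he.1 he.2).symm

theorem threeCycle_of_inter_three {S S' : Finset β} (hS : IsKlein G S) (hS' : IsKlein G S')
    (hi : (S ∩ S').card = 3) : ∃ c ∈ G, c.IsThreeCycle := by
  obtain ⟨a, b, c, hab, hac, hbc, habc⟩ := Finset.card_eq_three.mp hi
  have memI : ∀ x, x ∈ ({a, b, c} : Finset β) → x ∈ S ∧ x ∈ S' := by
    intro x hx
    rw [← habc] at hx
    exact Finset.mem_inter.mp hx
  have ha := memI a (by simp)
  have hb := memI b (by simp)
  have hc := memI c (by simp)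
  -- the fourth points
  have hsub : S ∩ S' ⊆ S := Finset.inter_subset_left
  have hsub' : S ∩ S' ⊆ S' := Finset.inter_subset_right
  have hd1 : (S \ (S ∩ S')).card = 1 := by
    rw [Finset.card_sdiff_of_subset hsub, hS.1, hi]
  have he1 : (S' \ (S ∩ S')).card = 1 := by
    rw [Finset.card_sdiff_of_subset hsub', hS'.1, hi]
  obtain ⟨d, hd⟩ := Finset.card_eq_one.mp hd1
  obtain ⟨e, he⟩ := Finset.card_eq_one.mp he1
  have hdm : d ∈ S \ (S ∩ S') := by rw [hd]; exact Finset.mem_singleton_self d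
  have hem : e ∈ S' \ (S ∩ S') := by rw [he]; exact Finset.mem_singleton_self e
  have hdS : d ∈ S := (Finset.mem_sdiff.mp hdm).1
  have hdn : d ∉ S ∩ S' := (Finset.mem_sdiff.mp hdm).2
  have heS' : e ∈ S' := (Finset.mem_sdiff.mp hem).1
  have hen : e ∉ S ∩ S' := (Finset.mem_sdiff.mp hem).2
  have hdS' : d ∉ S' := fun h => hdn (Finset.mem_inter.mpr ⟨hdS, h⟩)
  have heS : e ∉ S := fun h => hen (Finset.mem_inter.mpr ⟨h, heS'⟩)
  have had : a ≠ d := fun h => hdS' (h ▸ ha.2)
  have hbd : b ≠ d := fun h => hdS' (h ▸ hb.2)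
  have hcd : c ≠ d := fun h => hdS' (h ▸ hc.2)
  have hae : a ≠ e := fun h => heS (h ▸ ha.1)
  have hbe : b ≠ e := fun h => heS (h ▸ hb.1)
  have hce : c ≠ e := fun h => heS (h ▸ hc.1)
  have hde : d ≠ e := fun h => heS (h ▸ hdS)
  have hu : swap a b * swap c d ∈ G := hS.2 a b c d ha.1 hb.1 hc.1 hdS hab hac had hbc hbd hcd
  have hu' : swap a b * swap c e ∈ G := hS'.2 a b c e ha.2 hb.2 hc.2 heS' hab hac hae hbc hbe hce
  have hinj : Function.Injective (![a, b, c, d, e] : Fin 5 → β) := by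
    apply s28_inj5
    simp only [List.nodup_cons, List.mem_cons, List.not_mem_nil, or_false, not_or,
      List.nodup_nil, and_true]
    exact ⟨⟨hab, hac, had, hae⟩, ⟨hbc, hbd, hbe⟩, ⟨hcd, hce⟩, hde, not_false⟩
  let ι : Fin 5 ↪ β := ⟨![a, b, c, d, e], hinj⟩
  let Φ := Perm.viaEmbeddingHom ι
  have e1 : swap a b * swap c d = Φ (swap 0 1 * swap 2 3) := by
    rw [map_mul]; show _ = Perm.viaEmbeddingHom ι _ * Perm.viaEmbeddingHom ι _
    rw [s28_via_swap, s28_via_swap]; rfl
  have e2 : swap a b * swap c e = Φ (swap 0 1 * swap 2 4) := by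
    rw [map_mul]; show _ = Perm.viaEmbeddingHom ι _ * Perm.viaEmbeddingHom ι _
    rw [s28_via_swap, s28_via_swap]; rfl
  have e3 : swap c d * swap c e = Φ (swap 2 3 * swap 2 4) := by
    rw [map_mul]; show _ = Perm.viaEmbeddingHom ι _ * Perm.viaEmbeddingHom ι _
    rw [s28_via_swap, s28_via_swap]; rfl
  refine ⟨(swap a b * swap c d) * (swap a b * swap c e), G.mul_mem hu hu', ?_⟩
  have : (swap a b * swap c d) * (swap a b * swap c e) = swap c d * swap c e := by
    rw [e1, e2, e3, ← map_mul, s28_fin5_identity]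
  rw [this]
  exact Perm.isThreeCycle_swap_mul_swap_same hcd hce hde

end Cfsg.Agent.Lib.H2.S28
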