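import Mathlib

set_option autoImplicit false

namespace Cfsg.Agent.Lib.H2.S28

/-- double counting of incidences between a family `T` of subsets of `X` and the points of `X` -/
theorem s28_double_count {γ : Type*} [DecidableEq γ] (X : Finset γ) (T : Finset (Finset γ))
    (hsub : ∀ t ∈ T, t ⊆ X) :
    ∑ t ∈ T, t.card = ∑ x ∈ X, (T.filter (fun t => x ∈ t)).card := by
  have h1 : ∀ t ∈ T, t.card = ∑ x ∈ X, if x ∈ t then 1 else 0 := by
    intro t ht
    rw [← Finset.card_filter]
    congr 1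
    ext x
    simp only [Finset.mem_filter]
    exact ⟨fun h => ⟨hsub t ht h, h⟩, fun h => h.2⟩
  rw [Finset.sum_congr rfl h1, Finset.sum_comm]
  refine Finset.sum_congr rfl (fun x _ => ?_)
  rw [Finset.card_filter]

theorem design_cases {γ : Type*} [DecidableEq γ] (X : Finset γ) (T : Finset (Finset γ)) (lam : ℕ)
    (hne : T.Nonempty) (hsub : ∀ t ∈ T, t ⊆ X) (h3 : ∀ t ∈ T, t.card = 3)
    (hint : ∀ t ∈ T, ∀ t' ∈ T, t ≠ t' → (t ∩ t').card = 1)
    (hlam : ∀ x ∈ X, (T.filter (fun t => x ∈ t)).card = lam) :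
    (X.card = 3 ∧ lam = 1 ∧ T.card = 1) ∨ (X.card = 6 ∧ lam = 2 ∧ T.card = 4) ∨
      (X.card = 7 ∧ lam = 3 ∧ T.card = 7) := by
  obtain ⟨t₀, ht₀⟩ := hne
  -- Fact 1 : 3 * |T| = lam * |X|
  have hF1 : 3 * T.card = lam * X.card := by
    have h := s28_double_count X T hsub
    rw [Finset.sum_congr rfl h3, Finset.sum_congr rfl hlam] at h
    simp only [Finset.sum_const, smul_eq_mul] at h
    linarith
  -- a point of t₀
  have ht₀ne : t₀.Nonempty := by
    rw [← Finset.card_pos, h3 t₀ ht₀]; norm_num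
  obtain ⟨x₀, hx₀⟩ := ht₀ne
  have hx₀X : x₀ ∈ X := hsub t₀ ht₀ hx₀
  -- lam ≥ 1
  have hlam1 : 1 ≤ lam := by
    rw [← hlam x₀ hx₀X]
    exact Finset.card_pos.mpr ⟨t₀, Finset.mem_filter.mpr ⟨ht₀, hx₀⟩⟩
  -- Fact 2 : |T| - 1 = 3 (lam - 1), i.e. |T| + 2 = 3 * lam
  have hF2 : T.card + 2 = 3 * lam := by
    have hA : ∑ t ∈ T.erase t₀, (t ∩ t₀).card = T.card - 1 := by
      have : ∀ t ∈ T.erase t₀, (t ∩ t₀).card = 1 := by
        intro t ht
        have ht' := Finset.mem_erase.mp ht
        exact hint t ht'.2 t₀ ht₀ ht'.1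
      rw [Finset.sum_congr rfl this]
      simp [Finset.card_erase_of_mem ht₀]
    have hB : ∑ t ∈ T.erase t₀, (t ∩ t₀).card
        = ∑ x ∈ t₀, ((T.erase t₀).filter (fun t => x ∈ t)).card := by
      have h1 : ∀ t ∈ T.erase t₀, (t ∩ t₀).card = ∑ x ∈ t₀, if x ∈ t then 1 else 0 := by
        intro t _
        rw [← Finset.card_filter]
        congr 1
        ext x
        simp only [Finset.mem_inter, Finset.mem_filter]
        tauto
      rw [Finset.sum_congr rfl h1, Finset.sum_comm]
      refine Finset.sum_congr rfl (fun x _ => ?_)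
      rw [Finset.card_filter]
    have hC : ∀ x ∈ t₀, ((T.erase t₀).filter (fun t => x ∈ t)).card = lam - 1 := by
      intro x hx
      have : (T.erase t₀).filter (fun t => x ∈ t) = (T.filter (fun t => x ∈ t)).erase t₀ := by
        ext t
        simp only [Finset.mem_filter, Finset.mem_erase]
        tauto
      rw [this, Finset.card_erase_of_mem (Finset.mem_filter.mpr ⟨ht₀, hx⟩),
        hlam x (hsub t₀ ht₀ hx)]
    rw [hB, Finset.sum_congr rfl hC] at hA
    simp only [Finset.sum_const, smul_eq_mul, h3 t₀ ht₀] at hA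
    have hT1 : 1 ≤ T.card := Finset.card_pos.mpr ⟨t₀, ht₀⟩
    omega
  -- Fact 3 : 2 * lam + 1 ≤ |X|
  have hF3 : 2 * lam + 1 ≤ X.card := by
    let F := T.filter (fun t => x₀ ∈ t)
    have hFcard : F.card = lam := hlam x₀ hx₀X
    have hdisj : (F : Set (Finset γ)).PairwiseDisjoint (fun t => t.erase x₀) := by
      intro t ht t' ht' hne
      have htT := (Finset.mem_filter.mp ht)
      have htT' := (Finset.mem_filter.mp ht')
      have hcard := hint t htT.1 t' htT'.1 hne
      have hx : x₀ ∈ t ∩ t' := Finset.mem_inter.mpr ⟨htT.2, htT'.2⟩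
      have heq : t ∩ t' = {x₀} := by
        obtain ⟨y, hy⟩ := Finset.card_eq_one.mp hcard
        rw [hy] at hx ⊢
        rw [Finset.mem_singleton.mp hx]
      rw [Function.onFun, Finset.disjoint_left]
      intro y hy hy'
      have hyt := Finset.mem_erase.mp hy
      have hyt' := Finset.mem_erase.mp hy'
      have : y ∈ t ∩ t' := Finset.mem_inter.mpr ⟨hyt.2, hyt'.2⟩
      rw [heq, Finset.mem_singleton] at this
      exact hyt.1 this
    have hU : (F.biUnion (fun t => t.erase x₀)).card = ∑ t ∈ F, (t.erase x₀).card :=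
      Finset.card_biUnion hdisj
    have h2 : ∀ t ∈ F, (t.erase x₀).card = 2 := by
      intro t ht
      have htT := Finset.mem_filter.mp ht
      rw [Finset.card_erase_of_mem htT.2, h3 t htT.1]
    rw [Finset.sum_congr rfl h2] at hU
    simp only [Finset.sum_const, smul_eq_mul, hFcard] at hU
    have hsubX : F.biUnion (fun t => t.erase x₀) ⊆ X.erase x₀ := by
      intro y hy
      obtain ⟨t, ht, hyt⟩ := Finset.mem_biUnion.mp hy
      have htT := Finset.mem_filter.mp ht
      have hyt' := Finset.mem_erase.mp hyt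
      exact Finset.mem_erase.mpr ⟨hyt'.1, hsub t htT.1 hyt'.2⟩
    have hle := Finset.card_le_card hsubX
    rw [hU, Finset.card_erase_of_mem hx₀X] at hle
    have hXpos : 1 ≤ X.card := Finset.card_pos.mpr ⟨x₀, hx₀X⟩
    omega
  -- arithmetic
  have hkey : 9 * lam = lam * X.card + 6 := by
    have : 3 * (T.card + 2) = 3 * (3 * lam) := by rw [hF2]
    nlinarith
  have hv : X.card ≤ 8 := by
    by_contra hcon
    push Not at hcon
    have : lam * 9 ≤ lam * X.card := Nat.mul_le_mul_left lam hcon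
    omega
  generalize X.card = v at *
  generalize T.card = b at *
  interval_cases v <;> omega

end Cfsg.Agent.Lib.H2.S28
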