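import Mathlib
import Cfsg.Agent.Lib.H2.S28C6

set_option autoImplicit false

namespace Cfsg.Agent.Lib.H2.S28

variable {β : Type*} [Fintype β] [DecidableEq β]

/-- double counting the incidences between the points of `S` and the members of `K` other than `S` -/
theorem s28_inter_count {γ : Type*} [DecidableEq γ] (K : Finset (Finset γ)) (S : Finset γ) :
    ∑ S' ∈ K.erase S, (S' ∩ S).card = ∑ x ∈ S, ((K.erase S).filter (fun t => x ∈ t)).card := by
  have h1 : ∀ t ∈ K.erase S, (t ∩ S).card = ∑ x ∈ S, if x ∈ t then 1 else 0 := by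
    intro t _
    rw [← Finset.card_filter]
    congr 1
    ext x
    simp only [Finset.mem_inter, Finset.mem_filter]
    tauto
  rw [Finset.sum_congr rfl h1, Finset.sum_comm]
  refine Finset.sum_congr rfl (fun x _ => ?_)
  rw [Finset.card_filter]

/-- C8a (pure finset counting). -/
theorem compl_mem_of_sqs (hc8 : Fintype.card β = 8) (K : Finset (Finset β))
    (h4 : ∀ S ∈ K, S.card = 4)
    (hint : ∀ S ∈ K, ∀ S' ∈ K, S ≠ S' → (S ∩ S').card = 0 ∨ (S ∩ S').card = 2)
    (h7 : ∀ a : β, (K.filter (fun S => a ∈ S)).card = 7) :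
    K.card = 14 ∧ ∀ S ∈ K, Sᶜ ∈ K := by
  have hK : K.card = 14 := by
    have h := s28_double_count (Finset.univ : Finset β) K (fun t _ => Finset.subset_univ t)
    rw [Finset.sum_congr rfl h4, Finset.sum_congr rfl (fun a _ => h7 a)] at h
    simp only [Finset.sum_const, smul_eq_mul, Finset.card_univ, hc8] at h
    omega
  refine ⟨hK, ?_⟩
  intro S hS
  -- count
  have hA := s28_inter_count K S
  have hC : ∀ x ∈ S, ((K.erase S).filter (fun t => x ∈ t)).card = 6 := by
    intro x hx
    have : (K.erase S).filter (fun t => x ∈ t) = (K.filter (fun t => x ∈ t)).erase S := by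
      ext t
      simp only [Finset.mem_filter, Finset.mem_erase]
      tauto
    rw [this, Finset.card_erase_of_mem (Finset.mem_filter.mpr ⟨hS, hx⟩), h7 x]
  rw [Finset.sum_congr rfl hC] at hA
  simp only [Finset.sum_const, smul_eq_mul, h4 S hS] at hA
  -- split K.erase S according to the intersection
  let D := (K.erase S).filter (fun S' => (S' ∩ S).card = 0)
  have hsplit : ∑ S' ∈ K.erase S, (S' ∩ S).card
      = ∑ S' ∈ K.erase S, if (S' ∩ S).card = 0 then 0 else 2 := by
    refine Finset.sum_congr rfl (fun S' hS' => ?_)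
    have h' := Finset.mem_erase.mp hS'
    rcases hint S' h'.2 S hS h'.1 with h0 | h2
    · rw [if_pos h0, h0]
    · rw [if_neg (by omega), h2]
  have hsplit2 : ∑ S' ∈ K.erase S, (if (S' ∩ S).card = 0 then 0 else 2)
      = 2 * ((K.erase S).card - D.card) := by
    have h1 : ∀ S' ∈ K.erase S, (if (S' ∩ S).card = 0 then 0 else 2)
        = 2 - 2 * (if (S' ∩ S).card = 0 then 1 else 0) := by
      intro S' _
      split_ifs <;> rfl
    have hDle : D.card ≤ (K.erase S).card := Finset.card_filter_le _ _
    have h2 : ∑ S' ∈ K.erase S, (if (S' ∩ S).card = 0 then 0 else 2)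
        + 2 * D.card = 2 * (K.erase S).card := by
      rw [Finset.card_filter, Finset.mul_sum, ← Finset.sum_add_distrib]
      rw [Finset.card_eq_sum_ones, Finset.mul_sum]
      refine Finset.sum_congr rfl (fun S' _ => ?_)
      split_ifs <;> rfl
    omega
  rw [hsplit, hsplit2, Finset.card_erase_of_mem hS, hK] at hA
  have hD1 : D.card = 1 := by
    have hDle : D.card ≤ (K.erase S).card := Finset.card_filter_le _ _
    rw [Finset.card_erase_of_mem hS, hK] at hDle
    omega
  obtain ⟨S', hS'⟩ := Finset.card_eq_one.mp hD1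
  have hS'D : S' ∈ D := by rw [hS']; exact Finset.mem_singleton_self S'
  have hS'1 := Finset.mem_filter.mp hS'D
  have hS'K := (Finset.mem_erase.mp hS'1.1).2
  have hdisj : S' ∩ S = ∅ := Finset.card_eq_zero.mp hS'1.2
  have hsub : S' ⊆ Sᶜ := by
    intro x hx
    rw [Finset.mem_compl]
    intro hxS
    have : x ∈ S' ∩ S := Finset.mem_inter.mpr ⟨hx, hxS⟩
    rw [hdisj] at this
    exact absurd this (Finset.notMem_empty x)
  have hcard : Sᶜ.card ≤ S'.card := by
    rw [Finset.card_compl, hc8, h4 S hS, h4 S' hS'K]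
  have heq : S' = Sᶜ := Finset.eq_of_subset_of_card_le hsub hcard
  rw [← heq]; exact hS'K

end Cfsg.Agent.Lib.H2.S28
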