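import Mathlib
import Cfsg.Agent.Lib.H9.S3776Defs
import Cfsg.Agent.Lib.H16.S3776LEJ
import Cfsg.Agent.Lib.H19.S3776R1
import Cfsg.Agent.Lib.H18.S3776LemEFinal
import Cfsg.Agent.Lib.H7.S3776LemEM

/-!
# S3776, piece (R2) `J = K`, by the route that shows the residual configuration is impossible

`r23`: `Resid φ V K`, `JData φ K J` and the irreducibility of `G ⧸ J` (R1) are contradictory, given LEMMA E
(through the landed brick `lej`: for `g ∉ J` the centraliser of `g` in `K` is `V`).  Steps: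
* `Ω₂(J) = K`: for `x ∈ J` with `x² ∈ V` pick `k ∈ K` with `k² = x²`; `(x k⁻¹)² = 1`, so `x k⁻¹ ∈ V ≤ K`;
* `g ∉ J ⇒ g² ∈ V` (induction on the exponent of `g² ∈ J`, with `lej`);
* `g ∉ J` inverts `J` modulo `V`; if `g, h, g h ∉ J` then `j² ∈ V` on `J`, all squares lie in `V`, `G = K`;
* index 2: `x ↦ x²` maps `G ∖ J` to `V ∖ 1` with fibres of equal size, so `(|V| - 1) ∣ |J|`, a power of 2.
`r2 : R2Stmt` follows (vacuously) with the landed `leme`, `lemem`, `r1`.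
-/

set_option autoImplicit false
set_option linter.style.haveILetI false
set_option linter.unusedSectionVars false

namespace Cfsg.Agent.Lib.H2.S3776R2

open Cfsg.Agent.Lib.H9.S3776

universe u

section core

variable {G : Type u} [Group G] {V K J : Subgroup G}

/-- the elementwise facts used below -/
structure Cx (V K J : Subgroup G) : Prop where
  Vmem : ∀ x : G, x ∈ V ↔ x ^ 2 = 1
  Vcen : ∀ v ∈ V, ∀ g : G, g * v = v * g
  VK : V ≤ K
  KJ : K ≤ J
  Kmem : ∀ x : G, x ∈ K ↔ (x ^ 2 ∈ V ∧ ∀ g : G, x * g * x⁻¹ * g⁻¹ ∈ V)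
  sq : ∀ v ∈ V, ∃ k ∈ K, k ^ 2 = v
  Jab : ∀ a ∈ J, ∀ b ∈ J, a * b = b * a
  Jnor : J.Normal
  sqJ : ∀ g : G, g * g ∈ J
  lej : ∀ g : G, g ∉ J → ∀ k ∈ K, k * g = g * k → k ∈ V
  pG : ∀ g : G, ∃ n : ℕ, g ^ 2 ^ n = 1

namespace Cx

variable (c : Cx V K J)
include c

/-- `Ω₂(J) ≤ K` -/
theorem om2 {x : G} (hx : x ∈ J) (hx2 : x ^ 2 ∈ V) : x ∈ K := by
  obtain ⟨k, hk, hk2⟩ := c.sq _ hx2
  have hkJ : k ∈ J := c.KJ hk
  have hcomm : x * k⁻¹ = k⁻¹ * x := c.Jab x hx k⁻¹ (J.inv_mem hkJ)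
  have h1 : (x * k⁻¹) ^ 2 = 1 := by
    calc (x * k⁻¹) ^ 2 = x * (k⁻¹ * x) * k⁻¹ := by rw [pow_two]; group
      _ = x * (x * k⁻¹) * k⁻¹ := by rw [hcomm]
      _ = x ^ 2 * (k ^ 2)⁻¹ := by rw [pow_two, pow_two]; group
      _ = 1 := by rw [hk2, mul_inv_cancel]
  have h2 : x * k⁻¹ ∈ K := c.VK ((c.Vmem _).2 h1)
  have : x = x * k⁻¹ * k := by group
  rw [this]
  exact K.mul_mem h2 hk

/-- auxiliary induction for `sqV` -/
theorem aux {g : G} (hg : g ∉ J) :
    ∀ n : ℕ, ∀ x ∈ J, x * g = g * x → x ^ 2 ^ n = 1 → x ^ 2 = 1 := by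
  intro n
  induction n with
  | zero =>
    intro x _ _ hx
    have : x = 1 := by simpa using hx
    rw [this, one_pow]
  | succ n ih =>
    intro x hx hxg hxn
    have hx2J : x ^ 2 ∈ J := J.pow_mem hx 2
    have hx2g : x ^ 2 * g = g * x ^ 2 := by
      calc x ^ 2 * g = x * (x * g) := by rw [pow_two]; group
        _ = x * (g * x) := by rw [hxg]
        _ = (x * g) * x := by group
        _ = (g * x) * x := by rw [hxg]
        _ = g * x ^ 2 := by rw [pow_two]; group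
    have hx2n : (x ^ 2) ^ 2 ^ n = 1 := by
      rw [← pow_mul, ← pow_succ']
      exact hxn
    have h4 : (x ^ 2) ^ 2 = 1 := ih (x ^ 2) hx2J hx2g hx2n
    have hxV2 : x ^ 2 ∈ V := (c.Vmem _).2 h4
    have hxK : x ∈ K := c.om2 hx hxV2
    exact (c.Vmem x).1 (c.lej g hg x hxK hxg)

/-- outside `J` all squares lie in `V` -/
theorem sqV {g : G} (hg : g ∉ J) : g * g ∈ V := by
  obtain ⟨n, hn⟩ := c.pG (g * g)
  have h := c.aux hg n (g * g) (c.sqJ g) (by group) hn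
  exact (c.Vmem _).2 h

theorem mul_not_mem {g j : G} (hg : g ∉ J) (hj : j ∈ J) : g * j ∉ J := by
  intro h
  apply hg
  have : g = g * j * j⁻¹ := by group
  rw [this]
  exact J.mul_mem h (J.inv_mem hj)

/-- an element outside `J` inverts `J` modulo `V` -/
theorem inverts {g j : G} (hg : g ∉ J) (hj : j ∈ J) : g⁻¹ * j * g * j ∈ V := by
  have h1 : g * g ∈ V := c.sqV hg
  have h2 : (g * j) * (g * j) ∈ V := c.sqV (c.mul_not_mem hg hj)
  have : g⁻¹ * j * g * j = (g * g)⁻¹ * ((g * j) * (g * j)) := by group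
  rw [this]
  exact V.mul_mem (V.inv_mem h1) h2

/-- if `g, h, g h ∉ J` then `J` has exponent 4 -/
theorem sqJV {g h j : G} (hg : g ∉ J) (hh : h ∉ J) (hgh : g * h ∉ J) (hj : j ∈ J) :
    j * j ∈ V := by
  have ha : g⁻¹ * j * g * j ∈ V := c.inverts hg hj
  have hb : h⁻¹ * j⁻¹ * h * j⁻¹ ∈ V := c.inverts hh (J.inv_mem hj)
  have hc : (g * h)⁻¹ * j * (g * h) * j ∈ V := c.inverts hgh hj
  have hz := c.Vcen _ ha h⁻¹
  have key : (g * h)⁻¹ * j * (g * h) * j =
      (g⁻¹ * j * g * j) * ((h⁻¹ * j⁻¹ * h * j⁻¹) * (j * j)) := by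
    calc (g * h)⁻¹ * j * (g * h) * j
        = h⁻¹ * (g⁻¹ * j * g * j) * (j⁻¹ * h * j) := by group
      _ = (g⁻¹ * j * g * j) * h⁻¹ * (j⁻¹ * h * j) := by rw [hz]
      _ = (g⁻¹ * j * g * j) * ((h⁻¹ * j⁻¹ * h * j⁻¹) * (j * j)) := by group
  have : j * j = (h⁻¹ * j⁻¹ * h * j⁻¹)⁻¹ * ((g⁻¹ * j * g * j)⁻¹ *
      ((g * h)⁻¹ * j * (g * h) * j)) := by
    rw [key]; group
  rw [this]
  exact V.mul_mem (V.inv_mem hb) (V.mul_mem (V.inv_mem ha) hc)

/-- if all squares lie in `V` then `K = ⊤` -/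
theorem all_mem_K (hall : ∀ x : G, x * x ∈ V) (x : G) : x ∈ K := by
  rw [c.Kmem]
  refine ⟨by rw [pow_two]; exact hall x, fun g => ?_⟩
  have hz := c.Vcen _ (hall x) g
  have h1 : (x * g) * (x * g) = (x * g * x⁻¹ * g⁻¹) * (g * g) * (x * x) := by
    calc (x * g) * (x * g) = x * g * x⁻¹ * ((x * x) * g) := by group
      _ = x * g * x⁻¹ * (g * (x * x)) := by rw [hz]
      _ = (x * g * x⁻¹ * g⁻¹) * (g * g) * (x * x) := by group
  have : x * g * x⁻¹ * g⁻¹ = (x * g) * (x * g) * (x * x)⁻¹ * (g * g)⁻¹ := by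
    rw [h1]; group
  rw [this]
  exact V.mul_mem (V.mul_mem (hall _) (V.inv_mem (hall x))) (V.inv_mem (hall g))

/-- the first case: `G ⧸ J` has more than two elements -/
theorem big_case {g h : G} (hg : g ∉ J) (hh : h ∉ J) (hgh : g * h ∉ J) : ∀ x : G, x ∈ K := by
  apply c.all_mem_K
  intro x
  by_cases hx : x ∈ J
  · exact c.sqJV hg hh hgh hx
  · exact c.sqV hx

end Cx

end core

/-- the counting step: index 2 is impossible -/
theorem index_two {G E : Type u} [Group G] [Finite G] [Group E] (φ : E →* MulAut G)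
    {V K J : Subgroup G} (c : Cx V K J) (hG : IsPGroup 2 G) (hJinv : Inv φ J)
    (htr : ∀ v w : G, v ∈ V → w ∈ V → v ≠ 1 → w ≠ 1 → ∃ e : E, φ e v = w)
    (htwo : ∃ x y : G, x ∈ V ∧ y ∈ V ∧ x ≠ y ∧ x ≠ 1 ∧ y ≠ 1)
    (g₀ : G) (hg₀ : g₀ ∉ J) (h2 : ∀ g h : G, g ∉ J → h ∉ J → g * h ∈ J) : False := by
  classical
  haveI : Fintype G := Fintype.ofFinite G
  let C : Finset G := Finset.univ.filter (fun x => x ∉ J)
  let W : Finset G := Finset.univ.filter (fun v => v ∈ V ∧ v ≠ 1)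
  let JF : Finset G := Finset.univ.filter (fun x => x ∈ J)
  let VF : Finset G := Finset.univ.filter (fun x => x ∈ V)
  have hCmem : ∀ x, x ∈ C ↔ x ∉ J := fun x => by simp [C]
  have hWmem : ∀ x, x ∈ W ↔ (x ∈ V ∧ x ≠ 1) := fun x => by simp [W]
  have hJFmem : ∀ x, x ∈ JF ↔ x ∈ J := fun x => by simp [JF]
  have hVFmem : ∀ x, x ∈ VF ↔ x ∈ V := fun x => by simp [VF]
  -- squares of `C` lie in `W`
  have hmaps : ∀ x ∈ C, x * x ∈ W := by
    intro x hx
    rw [hCmem] at hx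
    rw [hWmem]
    refine ⟨c.sqV hx, fun h1 => hx ?_⟩
    have : x ^ 2 = 1 := by rw [pow_two]; exact h1
    exact c.KJ (c.VK ((c.Vmem x).2 this))
  -- the fibres
  let fib : G → Finset G := fun w => C.filter (fun x => x * x = w)
  have hsum : C.card = ∑ w ∈ W, (fib w).card :=
    Finset.card_eq_sum_card_fiberwise (f := fun x => x * x) (fun x hx => hmaps x hx)
  have hnot : ∀ (e : E) (x : G), x ∉ J → φ e x ∉ J := by
    intro e x hx h
    apply hx
    have h1 := hJinv e⁻¹ _ h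
    have h3 : φ e⁻¹ (φ e x) = x := by
      rw [map_inv]
      exact MulAut.inv_apply_self _ _ _
    rwa [h3] at h1
  have hle : ∀ v ∈ W, ∀ w ∈ W, (fib v).card ≤ (fib w).card := by
    intro v hv w hw
    rw [hWmem] at hv hw
    obtain ⟨e, he⟩ := htr v w hv.1 hw.1 hv.2 hw.2
    refine Finset.card_le_card_of_injOn (fun x => φ e x) ?_ ?_
    · intro x hx
      have hx' : x ∈ C ∧ x * x = v := by simpa [fib] using hx
      have : φ e x ∈ C ∧ φ e x * φ e x = w := by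
        refine ⟨(hCmem _).2 (hnot e x ((hCmem x).1 hx'.1)), ?_⟩
        rw [← map_mul, hx'.2, he]
      simpa [fib] using this
    · intro x _ y _ hxy
      exact (φ e).injective hxy
  obtain ⟨x0, y0, hx0V, hy0V, hxy0, hx01, hy01⟩ := htwo
  have hx0W : x0 ∈ W := (hWmem x0).2 ⟨hx0V, hx01⟩
  have hy0W : y0 ∈ W := (hWmem y0).2 ⟨hy0V, hy01⟩
  have hconst : ∀ w ∈ W, (fib w).card = (fib x0).card :=
    fun w hw => le_antisymm (hle w hw x0 hx0W) (hle x0 hx0W w hw)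
  have hCcard : C.card = W.card * (fib x0).card := by
    rw [hsum]
    exact Finset.sum_const_nat hconst
  -- `|C| = |J|`
  have hCJ : C.card = JF.card := by
    have himg : C = JF.image (fun j => g₀ * j) := by
      ext x
      rw [hCmem, Finset.mem_image]
      constructor
      · intro hx
        refine ⟨g₀⁻¹ * x, (hJFmem _).2 ?_, by group⟩
        have hg₀' : g₀⁻¹ ∉ J := fun h => hg₀ (by simpa using J.inv_mem h)
        exact h2 g₀⁻¹ x hg₀' hx
      · rintro ⟨j, hj, rfl⟩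
        exact c.mul_not_mem hg₀ ((hJFmem j).1 hj)
    rw [himg]
    exact Finset.card_image_of_injective _ (mul_right_injective g₀)
  -- cardinalities of `J` and `V`
  have hJcard : ∃ b : ℕ, JF.card = 2 ^ b := by
    haveI : Fact (Nat.Prime 2) := ⟨Nat.prime_two⟩
    obtain ⟨b, hb⟩ := (IsPGroup.iff_card (p := 2) (G := ↥J)).1 (hG.to_subgroup J)
    refine ⟨b, ?_⟩
    rw [← hb, Nat.card_eq_fintype_card, Fintype.card_subtype]
  have hVcard : ∃ b : ℕ, VF.card = 2 ^ b := by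
    haveI : Fact (Nat.Prime 2) := ⟨Nat.prime_two⟩
    obtain ⟨b, hb⟩ := (IsPGroup.iff_card (p := 2) (G := ↥V)).1 (hG.to_subgroup V)
    refine ⟨b, ?_⟩
    rw [← hb, Nat.card_eq_fintype_card, Fintype.card_subtype]
  have hWV : W.card + 1 = VF.card := by
    have h1 : W = VF.erase 1 := by
      ext x
      rw [hWmem, Finset.mem_erase, hVFmem]
      tauto
    have h1mem : (1 : G) ∈ VF := (hVFmem 1).2 V.one_mem
    rw [h1, Finset.card_erase_of_mem h1mem]
    have : 0 < VF.card := Finset.card_pos.2 ⟨1, h1mem⟩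
    omega
  have hW2 : 1 < W.card := Finset.one_lt_card.2 ⟨x0, hx0W, y0, hy0W, hxy0⟩
  obtain ⟨b, hb⟩ := hJcard
  obtain ⟨d, hd⟩ := hVcard
  have hdvd : W.card ∣ 2 ^ b := ⟨(fib x0).card, by rw [← hb, ← hCJ, hCcard]⟩
  obtain ⟨i, _, hi⟩ := (Nat.dvd_prime_pow Nat.prime_two).1 hdvd
  -- parity
  have hi0 : i ≠ 0 := by
    rintro rfl
    rw [hi] at hW2
    simp at hW2
  have hd0 : d ≠ 0 := by
    rintro rfl
    rw [hd, pow_zero] at hWV
    omega
  obtain ⟨i', rfl⟩ := Nat.exists_eq_succ_of_ne_zero hi0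
  obtain ⟨d', rfl⟩ := Nat.exists_eq_succ_of_ne_zero hd0
  rw [hi, hd, pow_succ, pow_succ] at hWV
  omega

/-- **(R23)** the residual configuration is impossible. -/
theorem r23 (G E : Type u) [Group G] [Finite G] [Group E] [Finite E] (φ : E →* MulAut G)
    (V K J : Subgroup G) (hLE : LemEMulStmt.{u}) (r : Resid φ V K) (j : JData φ K J)
    (hirr : ∀ G1 : Subgroup G, J ≤ G1 → Inv φ G1 → G1 = J ∨ G1 = ⊤) : False := by
  have c16 : Cfsg.Agent.Lib.H16.S3776LEJ.Ctx V K J :=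
    ⟨r.fr.mem, r.fr.cen, r.kd.mem, r.ab, r.sq, j.mem⟩
  have c : Cx V K J :=
    { Vmem := r.fr.mem
      Vcen := r.fr.cen
      VK := r.kd.VK
      KJ := j.KJ
      Kmem := r.kd.mem
      sq := r.sq
      Jab := j.ab
      Jnor := j.nor
      sqJ := c16.sq_in_J
      lej := Cfsg.Agent.Lib.H16.S3776LEJ.lej G E φ V K J hLE r j hirr
      pG := r.hyp.pG }
  have hex : ∃ g : G, g ∉ J := by
    by_contra hcon
    push Not at hcon
    exact j.ne (eq_top_iff.2 (fun x _ => hcon x))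
  obtain ⟨g₀, hg₀⟩ := hex
  by_cases hcase : ∃ g h : G, g ∉ J ∧ h ∉ J ∧ g * h ∉ J
  · obtain ⟨g, h, hg, hh, hgh⟩ := hcase
    obtain ⟨x, hx⟩ := r.big
    exact hx (c.big_case hg hh hgh x)
  · push Not at hcase
    exact index_two φ c r.hyp.pG j.inv r.fr.trans r.fr.two g₀ hg₀ hcase

/-- **(R2)** `J = K` -/
theorem r2 : R2Stmt.{u} := by
  intro G E _ _ _ _ φ V K J r j
  exact (r23 G E φ V K J
    (Cfsg.Agent.H7.S3776LemEM.lemem Cfsg.Agent.Lib.H18.S3776LemEFinal.leme) r j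
    (Cfsg.Agent.Lib.H19.S3776R1.r1 G E φ V K J r j)).elim

example : R2Stmt.{0} := r2

end Cfsg.Agent.Lib.H2.S3776R2
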