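import Cfsg.Agent.Lib.H9.S3776Defs
import Cfsg.Agent.Lib.H1.PGroupBasic

/-!
# S3776, piece (SUBIH) (helper2): the induction hypothesis for proper `E`-invariant subgroups

`IH G` applied to the type `↥H` with the restricted action, translated back into `G`.
-/

set_option autoImplicit false
set_option linter.style.haveILetI false

namespace Cfsg.Agent.Lib.H2.S3776SubIH

open Cfsg.Agent.Lib.H9.S3776
open scoped commutatorElement

universe u

section
variable {G E : Type u} [Group G] [Group E]

/-- the restriction of `φ e` to an invariant subgroup -/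
def resEquiv (φ : E →* MulAut G) (H : Subgroup G) (hH : Inv φ H) (e : E) : ↥H ≃* ↥H where
  toFun h := ⟨φ e h, hH e h h.2⟩
  invFun h := ⟨φ e⁻¹ h, hH e⁻¹ h h.2⟩
  left_inv h := by
    apply Subtype.ext
    show φ e⁻¹ (φ e h) = h
    rw [← MulAut.mul_apply, ← map_mul, inv_mul_cancel, map_one, MulAut.one_apply]
  right_inv h := by
    apply Subtype.ext
    show φ e (φ e⁻¹ h) = h
    rw [← MulAut.mul_apply, ← map_mul, mul_inv_cancel, map_one, MulAut.one_apply]
  map_mul' a b := by
    apply Subtype.ext
    show φ e ((a * b : ↥H) : G) = φ e a * φ e b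
    rw [Subgroup.coe_mul, map_mul]

/-- the restricted action -/
def resAct (φ : E →* MulAut G) (H : Subgroup G) (hH : Inv φ H) : E →* MulAut ↥H where
  toFun e := resEquiv φ H hH e
  map_one' := by
    apply MulEquiv.ext
    intro h
    apply Subtype.ext
    show φ 1 h = h
    rw [map_one, MulAut.one_apply]
  map_mul' e f := by
    apply MulEquiv.ext
    intro h
    apply Subtype.ext
    show φ (e * f) h = φ e (φ f h)
    rw [map_mul, MulAut.mul_apply]

theorem resAct_apply (φ : E →* MulAut G) (H : Subgroup G) (hH : Inv φ H) (e : E) (h : ↥H) :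
    ((resAct φ H hH e) h : G) = φ e h := rfl

end

theorem subih : SubIHStmt.{u} := by
  intro G E _ _ _ _ φ V hyp hIH hF H hHtop hHinv hVH
  classical
  haveI : Fact (Nat.Prime 2) := ⟨Nat.prime_two⟩
  have hpH : IsPGroup 2 ↥H := hyp.pG.to_subgroup H
  -- the hypotheses for `↥H`
  have hHyp : Hyp ↥H E (resAct φ H hHinv) := by
    refine ⟨hpH, hyp.solv, hyp.odd, ?_, ?_⟩
    · obtain ⟨x, y, hx, hy, hxy, hx1, hy1⟩ := hF.two
      refine ⟨⟨x, hVH hx⟩, ⟨y, hVH hy⟩, ?_, ?_, ?_, ?_, ?_⟩
      · intro h; exact hxy (congrArg Subtype.val h)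
      · intro h; exact hx1 (congrArg Subtype.val h)
      · apply Subtype.ext
        show x ^ 2 = 1
        exact (hF.mem x).mp hx
      · intro h; exact hy1 (congrArg Subtype.val h)
      · apply Subtype.ext
        show y ^ 2 = 1
        exact (hF.mem y).mp hy
    · intro x y hx1 hx2 hy1 hy2
      have hx1' : (x : G) ≠ 1 := fun h => hx1 (Subtype.ext h)
      have hy1' : (y : G) ≠ 1 := fun h => hy1 (Subtype.ext h)
      have hx2' : (x : G) ^ 2 = 1 := by
        have := congrArg Subtype.val hx2
        simpa using this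
      have hy2' : (y : G) ^ 2 = 1 := by
        have := congrArg Subtype.val hy2
        simpa using this
      obtain ⟨e, he⟩ := hyp.trans (x : G) (y : G) hx1' hx2' hy1' hy2'
      exact ⟨e, Subtype.ext he⟩
  have hcard : Nat.card ↥H < Nat.card G := by
    apply lt_of_le_of_ne (Subgroup.card_le_card_group H)
    intro h
    exact hHtop (Subgroup.eq_top_of_card_eq H h)
  rcases hIH ↥H E (resAct φ H hHinv) hcard hHyp with hcomm | ⟨hcf, hfc, hcen⟩
  · left
    intro a ha b hb
    exact congrArg Subtype.val (hcomm ⟨a, ha⟩ ⟨b, hb⟩)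
  · right
    have hV_of_center : ∀ z : ↥H, z ∈ Subgroup.center ↥H → (z : G) ∈ V := by
      intro z hz
      have h1 := (hcen z).mp hz
      have h2 : (z : G) ^ 2 = 1 := by
        have := congrArg Subtype.val h1
        simpa using this
      exact (hF.mem _).mpr h2
    refine ⟨?_, ?_, ?_⟩
    · intro x hx
      have h1 : (⟨x, hx⟩ : ↥H) ^ 2 ∈ frattini ↥H :=
        Cfsg.Agent.Lib.H1.isPGroup_pow_mem_frattini hpH ⟨x, hx⟩
      rw [hfc] at h1
      have := hV_of_center _ h1
      simpa using this
    · intro a ha b hb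
      have h1 : ⁅(⟨a, ha⟩ : ↥H), (⟨b, hb⟩ : ↥H)⁆ ∈ commutator ↥H := by
        rw [commutator_def]
        exact Subgroup.commutator_mem_commutator (Subgroup.mem_top _) (Subgroup.mem_top _)
      rw [hcf, hfc] at h1
      have := hV_of_center _ h1
      rw [commutatorElement_def] at this
      simpa using this
    · intro z hz hzc
      apply hV_of_center ⟨z, hz⟩
      rw [Subgroup.mem_center_iff]
      intro g
      apply Subtype.ext
      show (g : G) * z = z * (g : G)
      exact (hzc g g.2).symm

end Cfsg.Agent.Lib.H2.S3776SubIH
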