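import Mathlib

/-!
helper2: S3777 (Vaughan-Lee), generic cores for the `P1` step:
* arithmetic of triangular numbers `n (n+1) / 2`;
* WIEGOLD-FROM-P3: a finite `p`-group with a central subgroup of index dividing `p ^ lam` has all
  centraliser indices `≤ p ^ (lam - 1)`, hence (given the theorem for it) `|H'| ≤ p ^ tri (lam - 1)`.
-/

set_option autoImplicit false

namespace Cfsg.Agent.Lib.H2.S3777W

universe u

theorem two_mul_tri (n : ℕ) : 2 * (n * (n + 1) / 2) = n * (n + 1) :=
  Nat.mul_div_cancel' (Nat.even_mul_succ_self n).two_dvd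

/-- `tri (l-1) + l = tri l` for `l ≥ 1`. -/
theorem tri_pred_add (l : ℕ) (hl : 1 ≤ l) :
    (l - 1) * (l - 1 + 1) / 2 + l = l * (l + 1) / 2 := by
  obtain ⟨k, rfl⟩ : ∃ k, l = k + 1 := ⟨l - 1, by omega⟩
  have h1 := two_mul_tri k
  have h2 := two_mul_tri (k + 1)
  simp only [Nat.add_sub_cancel]
  nlinarith [h1, h2]

/-- `tri l + l * d + tri d = tri (l + d)`. -/
theorem tri_add (l d : ℕ) :
    l * (l + 1) / 2 + l * d + d * (d + 1) / 2 = (l + d) * (l + d + 1) / 2 := by
  have h1 := two_mul_tri l
  have h2 := two_mul_tri d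
  have h3 := two_mul_tri (l + d)
  nlinarith [h1, h2, h3]

/-- `tri d + d ≤ tri d + l * d` for `l ≥ 1`. -/
theorem tri_add_le (l d : ℕ) (hl : 1 ≤ l) :
    d * (d + 1) / 2 + d ≤ d * (d + 1) / 2 + l * d := by
  have : d ≤ l * d := Nat.le_mul_of_pos_left d hl
  omega

/-- every centraliser contains a given central subgroup and the element -/
theorem sup_zpowers_le_centralizer {H : Type u} [Group H] (Z : Subgroup H)
    (hZ : Z ≤ Subgroup.center H) (x : H) :
    Z ⊔ Subgroup.zpowers x ≤ Subgroup.centralizer ({x} : Set H) := by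
  refine sup_le ?_ ?_
  · intro z hz
    rw [Subgroup.mem_centralizer_iff]
    intro y hy
    rw [Set.mem_singleton_iff] at hy
    subst hy
    exact ((Subgroup.mem_center_iff.mp (hZ hz)) y)
  · rw [Subgroup.zpowers_le]
    rw [Subgroup.mem_centralizer_iff]
    intro y hy
    rw [Set.mem_singleton_iff] at hy
    subst hy
    rfl

/-- centraliser indices in a `p`-group with a central subgroup of index dividing `p ^ lam`,
`lam ≥ 1`. -/
theorem centralizer_index_le {H : Type u} [Group H] [Finite H] {p : ℕ} [hp : Fact p.Prime]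
    (Z : Subgroup H) (hZ : Z ≤ Subgroup.center H) (lam : ℕ) (hlam : 1 ≤ lam)
    (hidx : Z.index ∣ p ^ lam) (x : H) :
    (Subgroup.centralizer ({x} : Set H)).index ≤ p ^ (lam - 1) := by
  have hpp : 0 < p ^ (lam - 1) := pow_pos hp.out.pos _
  by_cases hx : x ∈ Z
  · have : Subgroup.centralizer ({x} : Set H) = ⊤ := by
      rw [eq_top_iff]
      intro g _
      rw [Subgroup.mem_centralizer_iff]
      intro y hy
      rw [Set.mem_singleton_iff] at hy
      subst hy
      exact ((Subgroup.mem_center_iff.mp (hZ hx)) g).symm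
    rw [this, Subgroup.index_top]
    exact hpp
  · set S := Z ⊔ Subgroup.zpowers x with hS
    have hle : Z ≤ S := le_sup_left
    have hxS : x ∈ S := (le_sup_right : Subgroup.zpowers x ≤ S) (Subgroup.mem_zpowers x)
    have hmul : Z.relIndex S * S.index = Z.index := Subgroup.relIndex_mul_index hle
    have hrel_ne : Z.relIndex S ≠ 1 := by
      intro h1
      have := Subgroup.relIndex_eq_one.mp h1
      exact hx (this hxS)
    have hrel_dvd : Z.relIndex S ∣ p ^ lam := Dvd.dvd.trans (Dvd.intro _ hmul) hidx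
    obtain ⟨k, hk, hkrel⟩ := (Nat.dvd_prime_pow hp.out).mp hrel_dvd
    have hk1 : 1 ≤ k := by
      rcases Nat.eq_zero_or_pos k with h0 | h0
      · rw [h0, pow_zero] at hkrel; exact absurd hkrel hrel_ne
      · exact h0
    -- S.index * p ∣ p ^ lam
    have hSdvd : S.index * p ∣ p ^ lam := by
      have h2 : S.index * p ∣ S.index * Z.relIndex S := by
        apply Nat.mul_dvd_mul_left
        rw [hkrel]
        exact dvd_pow_self p (by omega)
      have h3 : S.index * Z.relIndex S = Z.index := by rw [mul_comm]; exact hmul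
      rw [h3] at h2
      exact h2.trans hidx
    have hSdvd' : S.index ∣ p ^ (lam - 1) := by
      have hlam' : lam = (lam - 1) + 1 := by omega
      rw [hlam', pow_succ] at hSdvd
      exact Nat.dvd_of_mul_dvd_mul_right hp.out.pos hSdvd
    have hcent : S ≤ Subgroup.centralizer ({x} : Set H) := sup_zpowers_le_centralizer Z hZ x
    have h4 : (Subgroup.centralizer ({x} : Set H)).index ∣ S.index :=
      Subgroup.index_dvd_of_le hcent
    exact Nat.le_of_dvd hpp (h4.trans hSdvd')

/-- WIEGOLD-FROM-P3. -/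
theorem card_commutator_le_of_central {H : Type u} [Group H] [Finite H] {p : ℕ}
    [hp : Fact p.Prime] (Z : Subgroup H) (hZ : Z ≤ Subgroup.center H) (lam : ℕ)
    (hidx : Z.index ∣ p ^ lam)
    (h3 : ∀ b : ℕ, (∀ x : H, (Subgroup.centralizer ({x} : Set H)).index ≤ p ^ b) →
      Nat.card ↥(commutator H) ≤ p ^ (b * (b + 1) / 2)) :
    Nat.card ↥(commutator H) ≤ p ^ ((lam - 1) * (lam - 1 + 1) / 2) := by
  rcases Nat.eq_zero_or_pos lam with h0 | hpos
  · -- `Z = ⊤`, so every centraliser is `⊤`
    subst h0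
    apply h3 (0 - 1)
    intro x
    rw [pow_zero, Nat.dvd_one] at hidx
    have hZtop : Z = ⊤ := Subgroup.index_eq_one.mp hidx
    have hx : x ∈ Subgroup.center H := hZ (hZtop ▸ Subgroup.mem_top x)
    have : Subgroup.centralizer ({x} : Set H) = ⊤ := by
      rw [eq_top_iff]
      intro g _
      rw [Subgroup.mem_centralizer_iff]
      intro y hy
      rw [Set.mem_singleton_iff] at hy
      subst hy
      exact ((Subgroup.mem_center_iff.mp hx) g).symm
    rw [this, Subgroup.index_top]
    exact Nat.one_le_pow _ _ hp.out.pos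
  · exact h3 (lam - 1) (fun x => centralizer_index_le Z hZ lam hpos hidx x)

end Cfsg.Agent.Lib.H2.S3777W
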