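import Cfsg.Agent.Lib.H5.S3777P1Defs
import Cfsg.Agent.Lib.H2.S3777W
import Cfsg.Agent.Lib.H23.S3777Gen

/-!
helper2: S3777, piece (S2) of the `P1` step in the exact shape of helper5's sub-cut:
Wiegold's bound for `M/[A,M]` from the induction hypothesis (`P3` for the smaller group).
-/

set_option autoImplicit false

namespace Cfsg.Agent.Lib.H2.S3777S2

open Cfsg.Agent.Lib.H5.S3777
open scoped commutatorElement

universe u

theorem s2 : S2Stmt.{u} := by
  intro p _ G _ _ hG hIH M A lam hMidx hAn hAM hrel hlam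
  have hp : p.Prime := Fact.out
  -- work inside `↥M`
  have hA'n : (A.subgroupOf M).Normal := Subgroup.normal_subgroupOf
  have hD'n : (⁅A.subgroupOf M, (⊤ : Subgroup ↥M)⁆).Normal := inferInstance
  -- `D' ≤ A'`
  have hD'A' : ⁅A.subgroupOf M, (⊤ : Subgroup ↥M)⁆ ≤ A.subgroupOf M :=
    Subgroup.commutator_le_left _ _
  -- the quotient is a smaller `p`-group
  have hH : IsPGroup p (↥M ⧸ ⁅A.subgroupOf M, (⊤ : Subgroup ↥M)⁆) :=
    (hG.to_subgroup M).to_quotient _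
  have hcardM : Nat.card ↥M < Nat.card G := by
    have h1 := Subgroup.card_mul_index M
    rw [hMidx] at h1
    have hpos : 0 < Nat.card ↥M := Nat.card_pos
    have h2 : 2 ≤ p := hp.two_le
    nlinarith
  have hcard : Nat.card (↥M ⧸ ⁅A.subgroupOf M, (⊤ : Subgroup ↥M)⁆) < Nat.card G := by
    refine lt_of_le_of_lt ?_ hcardM
    have : Nat.card (↥M ⧸ ⁅A.subgroupOf M, (⊤ : Subgroup ↥M)⁆) ∣ Nat.card ↥M :=
      Subgroup.card_quotient_dvd_card _
    exact Nat.le_of_dvd Nat.card_pos this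
  obtain ⟨_, _, p3⟩ := hIH (↥M ⧸ ⁅A.subgroupOf M, (⊤ : Subgroup ↥M)⁆) hH hcard
  -- the central subgroup `Z`
  have hZc : (A.subgroupOf M).map (QuotientGroup.mk' ⁅A.subgroupOf M, (⊤ : Subgroup ↥M)⁆) ≤
      Subgroup.center (↥M ⧸ ⁅A.subgroupOf M, (⊤ : Subgroup ↥M)⁆) := by
    rintro _ ⟨a, ha, rfl⟩
    rw [Subgroup.mem_center_iff]
    intro g
    obtain ⟨m, rfl⟩ := QuotientGroup.mk'_surjective _ g
    show (QuotientGroup.mk (m * a) : ↥M ⧸ _) = QuotientGroup.mk (a * m)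
    rw [QuotientGroup.eq]
    have hmem : ⁅a⁻¹, m⁻¹⁆ ∈ ⁅A.subgroupOf M, (⊤ : Subgroup ↥M)⁆ :=
      Subgroup.commutator_mem_commutator (inv_mem ha) (Subgroup.mem_top _)
    have heq : (m * a)⁻¹ * (a * m) = ⁅a⁻¹, m⁻¹⁆ := by
      rw [commutatorElement_def]
      group
    rw [heq]
    exact hmem
  have hZidx : ((A.subgroupOf M).map
      (QuotientGroup.mk' ⁅A.subgroupOf M, (⊤ : Subgroup ↥M)⁆)).index ∣ p ^ lam := by
    rw [Subgroup.index_map, QuotientGroup.ker_mk', sup_eq_left.mpr hD'A',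
      MonoidHom.range_eq_top.mpr (QuotientGroup.mk'_surjective _), Subgroup.index_top, mul_one]
    show A.relIndex M ∣ p ^ lam
    rw [hrel]
  have hW := Cfsg.Agent.Lib.H2.S3777W.card_commutator_le_of_central _ hZc lam hZidx p3
  -- `|(↥M)'| = |(↥M/D')'| * |D'|`
  have hD'le : ⁅A.subgroupOf M, (⊤ : Subgroup ↥M)⁆ ≤ commutator ↥M := by
    rw [commutator_def]
    exact Subgroup.commutator_mono le_top le_rfl
  have h4 := Cfsg.Agent.Lib.H23.S3777Gen.card_commutator_eq_quot_mul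
    ⁅A.subgroupOf M, (⊤ : Subgroup ↥M)⁆ hD'le
  have h1 := Cfsg.Agent.Lib.H23.S3777Gen.card_commutator_sub M
  -- `|D'| = |⁅A, M⁆|`
  have hmap : (⁅A.subgroupOf M, (⊤ : Subgroup ↥M)⁆).map M.subtype = ⁅A, M⁆ := by
    rw [Subgroup.map_commutator, Subgroup.subgroupOf_map_subtype, inf_eq_left.mpr hAM,
      ← MonoidHom.range_eq_map, Subgroup.range_subtype]
  have hD'card : Nat.card ↥(⁅A.subgroupOf M, (⊤ : Subgroup ↥M)⁆) = Nat.card ↥⁅A, M⁆ := by
    rw [← hmap]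
    exact Nat.card_congr
      ((⁅A.subgroupOf M, (⊤ : Subgroup ↥M)⁆).equivMapOfInjective M.subtype
        M.subtype_injective).toEquiv
  rw [← h1, h4, hD'card]
  exact Nat.mul_le_mul_right _ hW

end Cfsg.Agent.Lib.H2.S3777S2
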