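import Cfsg.Agent.Lib.H19.S3797Defs

/-!
# S3797, piece (E0) (helper2): Frattini + Schur-Zassenhaus

`S ≤ C_G(V)`: `G = N_G(S) C_G(V)` (Frattini), `N_G(S) = S E` with `E` of odd order (Schur-Zassenhaus);
`E` is transitive on `V ∖ 1` and has no fixed point on `S`.
-/

set_option autoImplicit false
set_option linter.style.haveILetI false

namespace Cfsg.Agent.Lib.H2.S3797E0

open Cfsg.Agent.Lib.H19.S3797

universe u

/-- an involution power of a nontrivial `2`-element -/
theorem exists_pow_involution {G : Type u} [Group G] {s : G} (hs : ∃ k : ℕ, s ^ 2 ^ k = 1)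
    (h1 : s ≠ 1) : ∃ j : ℕ, s ^ j ≠ 1 ∧ (s ^ j) ^ 2 = 1 := by
  obtain ⟨k0, hk0⟩ := hs
  obtain ⟨k, -, hk⟩ := (Nat.dvd_prime_pow Nat.prime_two).mp (orderOf_dvd_of_pow_eq_one hk0)
  have hk0 : k ≠ 0 := by
    intro h0
    rw [h0, pow_zero, orderOf_eq_one_iff] at hk
    exact h1 hk
  obtain ⟨m, rfl⟩ : ∃ m, k = m + 1 := ⟨k - 1, by omega⟩
  refine ⟨2 ^ m, ?_, ?_⟩
  · intro h
    have hdvd : orderOf s ∣ 2 ^ m := orderOf_dvd_of_pow_eq_one h
    rw [hk] at hdvd
    have := Nat.le_of_dvd (pow_pos (by norm_num) m) hdvd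
    have h2 : 2 ^ m < 2 ^ (m + 1) := Nat.pow_lt_pow_right (by norm_num) (by omega)
    omega
  · rw [← pow_mul, ← pow_succ, ← hk, pow_orderOf_eq_one]

theorem e0 : E0Stmt.{u} := by
  intro G _ _ Q V hF S hSC
  classical
  haveI : V.Normal := hF.Vn
  set C : Subgroup G := Subgroup.centralizer (V : Set G) with hC
  haveI hCn : C.Normal := Subgroup.normal_centralizer
  set N : Subgroup G := Subgroup.normalizer ((S : Subgroup G) : Set G) with hN
  -- Frattini
  have hfrat : N ⊔ C = ⊤ := Sylow.normalizer_sup_eq_top' S hSC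
  -- `S` as a normal subgroup of its normaliser
  have hSN : (S : Subgroup G) ≤ N := Subgroup.le_normalizer
  haveI hSnorm : ((S : Subgroup G).subgroupOf N).Normal := Subgroup.normal_in_normalizer
  have hodd2 : ¬ 2 ∣ ((S : Subgroup G).subgroupOf N).index := by
    intro h
    have h2 : ((S : Subgroup G).subgroupOf N).index ∣ (S : Subgroup G).index :=
      Dvd.intro _ (Subgroup.relIndex_mul_index hSN)
    exact S.not_dvd_index (dvd_trans h h2)
  -- coprimality
  have hcop : Nat.Coprime (Nat.card ((S : Subgroup G).subgroupOf N))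
      ((S : Subgroup G).subgroupOf N).index := by
    have h1 : Nat.card ((S : Subgroup G).subgroupOf N) = Nat.card (S : Subgroup G) :=
      Nat.card_congr (Subgroup.subgroupOfEquivOfLe hSN).toEquiv
    obtain ⟨k, hk⟩ := (IsPGroup.iff_card.mp S.isPGroup')
    rw [h1, hk]
    apply Nat.Coprime.pow_left
    exact (Nat.Prime.coprime_iff_not_dvd Nat.prime_two).mpr hodd2
  obtain ⟨H', hH'⟩ := Subgroup.exists_right_complement'_of_coprime hcop
  have hH'card : Nat.card H' = ((S : Subgroup G).subgroupOf N).index :=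
    (hH'.symm.index_eq_card).symm
  -- transitivity of `E`
  have htrans : ∀ v w : G, v ∈ V → w ∈ V → v ≠ 1 → w ≠ 1 →
      ∃ e ∈ H'.map N.subtype, e * v * e⁻¹ = w := by
    intro v w hv hw hv1 hw1
    obtain ⟨g, hg⟩ := hF.trans v w hv hw hv1 hw1
    have hgtop : g ∈ ((N ⊔ C : Subgroup G) : Set G) := by
      rw [hfrat]; exact Subgroup.mem_top g
    rw [Subgroup.mul_normal N C] at hgtop
    obtain ⟨n, hn, c, hc, hnc⟩ := Set.mem_mul.mp hgtop
    obtain ⟨x, hx, -⟩ := (Subgroup.isComplement'_def.mp hH').existsUnique (⟨n, hn⟩ : ↥N)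
    have hs : ((x.1.1 : ↥N) : G) ∈ (S : Subgroup G) := Subgroup.mem_subgroupOf.mp x.1.2
    have he : ((x.2.1 : ↥N) : G) ∈ H'.map N.subtype :=
      Subgroup.mem_map.mpr ⟨x.2.1, x.2.2, rfl⟩
    have hn' : ((x.1.1 : ↥N) : G) * ((x.2.1 : ↥N) : G) = n := by
      have := congrArg (Subtype.val) hx
      simpa using this
    set s : G := ((x.1.1 : ↥N) : G) with hs_def
    set e : G := ((x.2.1 : ↥N) : G) with he_def
    refine ⟨e, he, ?_⟩
    have hcv : c * v * c⁻¹ = v := by
      have := (Subgroup.mem_centralizer_iff.mp hc) v hv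
      rw [← this, mul_inv_cancel_right]
    have hev : e * v * e⁻¹ ∈ V := hF.Vn.conj_mem v hv e
    have hsC : s ∈ C := hSC hs
    have hsv : s * (e * v * e⁻¹) * s⁻¹ = e * v * e⁻¹ := by
      have := (Subgroup.mem_centralizer_iff.mp hsC) _ hev
      rw [← this, mul_inv_cancel_right]
    have hg' : g = s * e * c := by rw [← hnc, ← hn']
    calc e * v * e⁻¹ = s * (e * v * e⁻¹) * s⁻¹ := hsv.symm
      _ = s * (e * (c * v * c⁻¹) * e⁻¹) * s⁻¹ := by rw [hcv]
      _ = g * v * g⁻¹ := by rw [hg']; group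
      _ = w := hg
  refine ⟨H'.map N.subtype, ?_, ?_, htrans, ?_⟩
  · -- odd order
    have hcard : Nat.card (H'.map N.subtype) = Nat.card H' :=
      (Nat.card_congr (H'.equivMapOfInjective N.subtype N.subtype_injective).toEquiv).symm
    rw [hcard, hH'card]
    exact Nat.odd_iff.mpr (by
      have := hodd2
      omega)
  · -- normalises `S`
    intro e he s hs
    obtain ⟨h, -, rfl⟩ := Subgroup.mem_map.mp he
    have hmem : (N.subtype h) ∈ N := h.2
    exact (Subgroup.mem_normalizer_iff.mp hmem s).mp hs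
  · -- no fixed points
    intro s hs hfix
    by_contra hs1
    have hpow : ∃ k : ℕ, s ^ 2 ^ k = 1 := by
      obtain ⟨k, hk⟩ := S.isPGroup' ⟨s, hs⟩
      refine ⟨k, ?_⟩
      have := congrArg Subtype.val hk
      simpa using this
    obtain ⟨j, hj1, hj2⟩ := exists_pow_involution hpow hs1
    set t : G := s ^ j with ht
    have htV : t ∈ V := (hF.Vmem t).mpr hj2
    have htfix : ∀ e ∈ H'.map N.subtype, e * t * e⁻¹ = t := by
      intro e he
      rw [ht, ← conj_pow, hfix e he]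
    obtain ⟨x, y, hxy, hx1, hx2, hy1, hy2⟩ := hF.four
    obtain ⟨w, hw1, hw2, hwt⟩ : ∃ w : G, w ≠ 1 ∧ w ^ 2 = 1 ∧ w ≠ t := by
      by_cases hxt : x = t
      · exact ⟨y, hy1, hy2, fun h => hxy (hxt.trans h.symm)⟩
      · exact ⟨x, hx1, hx2, hxt⟩
    have hwV : w ∈ V := (hF.Vmem w).mpr hw2
    obtain ⟨e, he, hew⟩ := htrans t w htV hwV hj1 hw1
    rw [htfix e he] at hew
    exact hwt hew.symm

end Cfsg.Agent.Lib.H2.S3797E0
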