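import Cfsg.Agent.Lib.H25.S3797MLDefs
import Cfsg.Agent.Lib.H1.CoprimeAction

/-!
# S3797, main lemma, piece (M0B) (helper2, twin): `GCoreStmt → MLStmt`

`D = {x | TrivOn V K x}` is a normal subgroup.  If `S ≰ D`, the non-trivial 2-group `S / (S ∩ D)` has a
central involution; lift it to `z ∈ S ∖ D` with `z² ∈ D`, `[z, S] ⊆ D`.  With
`T = {s ∈ S | s² ∈ D, [s, S] ⊆ D}` the core gives `z⁻¹ (e z e⁻¹) ∈ D` for `e ∈ E`; coprime action gives
`c ∈ C_S(E) = 1` with `z⁻¹ c ∈ D`: contradiction.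
-/

set_option autoImplicit false
set_option linter.style.haveILetI false

namespace Cfsg.Agent.Lib.H2.S3797M0B

open Cfsg.Agent.Lib.H25.S3797ML Cfsg.Agent.Lib.H19.S3797

universe u

section
variable {G : Type u} [Group G]

/-- the subgroup of the elements acting trivially on `K/V` -/
def trivSub (V K : Subgroup G) (hV : V.Normal) (hK : K.Normal) : Subgroup G where
  carrier := {x | TrivOn V K x}
  one_mem' := by
    intro k _
    have e : (1 : G) * k * 1⁻¹ * k⁻¹ = 1 := by group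
    rw [e]; exact V.one_mem
  mul_mem' := by
    intro x y hx hy k hk
    have e : (x * y) * k * (x * y)⁻¹ * k⁻¹ =
        (x * (y * k * y⁻¹ * k⁻¹) * x⁻¹) * (x * k * x⁻¹ * k⁻¹) := by group
    rw [e]
    exact V.mul_mem (hV.conj_mem _ (hy k hk) x) (hx k hk)
  inv_mem' := by
    intro x hx k hk
    have h := V.inv_mem (hx (x⁻¹ * k * x⁻¹⁻¹) (hK.conj_mem k hk x⁻¹))
    have e : (x * (x⁻¹ * k * x⁻¹⁻¹) * x⁻¹ * (x⁻¹ * k * x⁻¹⁻¹)⁻¹)⁻¹ = x⁻¹ * k * x⁻¹⁻¹ * k⁻¹ := by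
      group
    rw [e] at h
    exact h

theorem mem_trivSub (V K : Subgroup G) (hV : V.Normal) (hK : K.Normal) (x : G) :
    x ∈ trivSub V K hV hK ↔ TrivOn V K x := Iff.rfl

theorem trivSub_normal (V K : Subgroup G) (hV : V.Normal) (hK : K.Normal) :
    (trivSub V K hV hK).Normal := by
  constructor
  intro x hx g k hk
  have h := hV.conj_mem _ (hx (g⁻¹ * k * g⁻¹⁻¹) (hK.conj_mem k hk g⁻¹)) g
  have e : g * (x * (g⁻¹ * k * g⁻¹⁻¹) * x⁻¹ * (g⁻¹ * k * g⁻¹⁻¹)⁻¹) * g⁻¹ =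
      (g * x * g⁻¹) * k * (g * x * g⁻¹)⁻¹ * k⁻¹ := by group
  rw [e] at h
  exact h

/-- an involution power of a nontrivial `2`-element -/
theorem exists_pow_inv {H : Type u} [Group H] {s : H} (hs : ∃ k : ℕ, s ^ 2 ^ k = 1)
    (h1 : s ≠ 1) : ∃ j : ℕ, s ^ j ≠ 1 ∧ (s ^ j) ^ 2 = 1 := by
  obtain ⟨k0, hk0⟩ := hs
  obtain ⟨k, -, hk⟩ := (Nat.dvd_prime_pow Nat.prime_two).mp (orderOf_dvd_of_pow_eq_one hk0)
  have hk0 : k ≠ 0 := by
    intro h0
    rw [h0, pow_zero, orderOf_eq_one_iff] at hk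
    exact h1 hk
  obtain ⟨m, rfl⟩ : ∃ m, k = m + 1 := ⟨k - 1, by omega⟩
  refine ⟨2 ^ m, ?_, ?_⟩
  · intro h
    have hdvd : orderOf s ∣ 2 ^ m := orderOf_dvd_of_pow_eq_one h
    rw [hk] at hdvd
    have := Nat.le_of_dvd (pow_pos (by norm_num) m) hdvd
    have h2 : 2 ^ m < 2 ^ (m + 1) := Nat.pow_lt_pow_right (by norm_num) (by omega)
    omega
  · rw [← pow_mul, ← pow_succ, ← hk, pow_orderOf_eq_one]

theorem le_normalizer_inf {A S D : Subgroup G} (hD : D.Normal)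
    (hAS : ∀ a ∈ A, ∀ s ∈ S, a * s * a⁻¹ ∈ S) :
    A ≤ Subgroup.normalizer ((S ⊓ D : Subgroup G) : Set G) := by
  intro a ha
  rw [Subgroup.mem_normalizer_iff]
  intro x
  constructor
  · rintro ⟨hxS, hxD⟩
    exact ⟨hAS a ha x hxS, hD.conj_mem x hxD a⟩
  · rintro ⟨h1, h2⟩
    have e : x = a⁻¹ * (a * x * a⁻¹) * a⁻¹⁻¹ := by group
    rw [e]
    exact ⟨hAS a⁻¹ (A.inv_mem ha) _ h1, hD.conj_mem _ h2 a⁻¹⟩

end

theorem m0b : M0BStmt.{u} := by
  intro hcore G _ _ V K S E hVn hKn hVK hVmem hVcen hKsq hS hSV hEodd hES htrans hfix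
  classical
  haveI : Fact (Nat.Prime 2) := ⟨Nat.prime_two⟩
  set D : Subgroup G := trivSub V K hVn hKn with hD
  have hDn : D.Normal := trivSub_normal V K hVn hKn
  by_contra hcon
  have hSD : ¬ (S ≤ D) := by
    intro h
    apply hcon
    intro s hs k hk
    exact h hs k hk
  obtain ⟨s0, hs0, hs0D⟩ := SetLike.not_le_iff_exists.mp hSD
  -- the quotient of `S`
  let N : Subgroup ↥S := D.subgroupOf S
  haveI hNn : N.Normal := Subgroup.normal_subgroupOf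
  have hQp : IsPGroup 2 (↥S ⧸ N) := hS.to_quotient N
  haveI : Nontrivial (↥S ⧸ N) := by
    refine ⟨⟨(QuotientGroup.mk ⟨s0, hs0⟩ : ↥S ⧸ N), 1, ?_⟩⟩
    intro h
    rw [QuotientGroup.eq_one_iff] at h
    exact hs0D (Subgroup.mem_subgroupOf.mp h)
  haveI : Nontrivial (Subgroup.center (↥S ⧸ N)) := hQp.center_nontrivial
  obtain ⟨⟨c, hc⟩, hc1⟩ := exists_ne (1 : Subgroup.center (↥S ⧸ N))
  have hc1' : c ≠ 1 := by
    intro h
    apply hc1
    exact Subtype.ext h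
  obtain ⟨j, hj1, hj2⟩ := exists_pow_inv (hQp c) hc1'
  have hzc : c ^ j ∈ Subgroup.center (↥S ⧸ N) := Subgroup.pow_mem _ hc j
  obtain ⟨z, hz⟩ := QuotientGroup.mk_surjective (c ^ j)
  -- properties of `z`
  have hzS : (z : G) ∈ S := z.2
  have hzD : (z : G) ∉ D := by
    intro h
    apply hj1
    rw [← hz, QuotientGroup.eq_one_iff]
    exact Subgroup.mem_subgroupOf.mpr h
  have hz2 : (z : G) ^ 2 ∈ D := by
    have h1 : ((z ^ 2 : ↥S) : ↥S ⧸ N) = 1 := by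
      rw [QuotientGroup.mk_pow, hz, hj2]
    rw [QuotientGroup.eq_one_iff] at h1
    have := Subgroup.mem_subgroupOf.mp h1
    simpa using this
  have hzcomm : ∀ t : G, t ∈ S → (z : G) * t * (z : G)⁻¹ * t⁻¹ ∈ D := by
    intro t ht
    have h0 := (Subgroup.mem_center_iff.mp hzc) (QuotientGroup.mk (⟨t, ht⟩ : ↥S))
    rw [← hz] at h0
    have h1 : ((z * ⟨t, ht⟩ * z⁻¹ * (⟨t, ht⟩ : ↥S)⁻¹ : ↥S) : ↥S ⧸ N) = 1 := by
      rw [QuotientGroup.mk_mul, QuotientGroup.mk_mul, QuotientGroup.mk_mul, QuotientGroup.mk_inv,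
        QuotientGroup.mk_inv, ← h0, mul_inv_cancel_right, mul_inv_cancel]
    rw [QuotientGroup.eq_one_iff] at h1
    have := Subgroup.mem_subgroupOf.mp h1
    simpa using this
  -- the set `T`
  let T : Set G := {s | s ∈ S ∧ s ^ 2 ∈ D ∧ ∀ t ∈ S, s * t * s⁻¹ * t⁻¹ ∈ D}
  have hzT : (z : G) ∈ T := ⟨hzS, hz2, hzcomm⟩
  have hTE : ∀ e ∈ E, ∀ t ∈ T, e * t * e⁻¹ ∈ T := by
    intro e he t ht
    refine ⟨hES e he t ht.1, ?_, ?_⟩
    · rw [conj_pow]
      exact hDn.conj_mem _ ht.2.1 e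
    · intro t' ht'
      have h1 := ht.2.2 (e⁻¹ * t' * e⁻¹⁻¹) (hES e⁻¹ (E.inv_mem he) t' ht')
      have h2 := hDn.conj_mem _ h1 e
      have e1 : e * (t * (e⁻¹ * t' * e⁻¹⁻¹) * t⁻¹ * (e⁻¹ * t' * e⁻¹⁻¹)⁻¹) * e⁻¹ =
          (e * t * e⁻¹) * t' * (e * t * e⁻¹)⁻¹ * t'⁻¹ := by group
      rw [e1] at h2
      exact h2
  have hcoreT := hcore G V K E T hVn hKn hVK hVmem hVcen hKsq
    (fun t ht v hv => hSV t ht.1 v hv) hTE htrans
    (fun t ht => ht.2.1) (fun t ht t' ht' => ht.2.2 t' ht'.1)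
  -- `[E, z] ⊆ S ⊓ D`
  have hfixz : ∀ e ∈ E, e * (z : G) * e⁻¹ * (z : G)⁻¹ ∈ S ⊓ D := by
    intro e he
    have hezT : e * (z : G) * e⁻¹ ∈ T := hTE e he _ hzT
    have hezD : ¬ TrivOn V K (e * (z : G) * e⁻¹) := by
      intro h
      have h' : e * (z : G) * e⁻¹ ∈ D := h
      have h2 := hDn.conj_mem _ h' e⁻¹
      have e1 : e⁻¹ * (e * (z : G) * e⁻¹) * e⁻¹⁻¹ = (z : G) := by group
      rw [e1] at h2
      exact hzD h2
    have h3 : (z : G)⁻¹ * (e * (z : G) * e⁻¹) ∈ D := hcoreT _ hzT _ hezT hzD hezD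
    have h4 := hDn.conj_mem _ h3 (z : G)
    have e2 : (z : G) * ((z : G)⁻¹ * (e * (z : G) * e⁻¹)) * (z : G)⁻¹ =
        e * (z : G) * e⁻¹ * (z : G)⁻¹ := by group
    rw [e2] at h4
    exact ⟨S.mul_mem (hES e he _ hzS) (S.inv_mem hzS), h4⟩
  -- the coprime action of `E` on `S`
  have hcop : Cfsg.Agent.Lib.H1.CoprimeAction E S := by
    refine ⟨?_, ?_, ?_⟩
    · intro e he
      rw [Subgroup.mem_normalizer_iff]
      intro s
      constructor
      · exact hES e he s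
      · intro h
        have h2 := hES e⁻¹ (E.inv_mem he) _ h
        have e1 : e⁻¹ * (e * s * e⁻¹) * e⁻¹⁻¹ = s := by group
        rw [e1] at h2
        exact h2
    · obtain ⟨k, hk⟩ := IsPGroup.iff_card.mp hS
      rw [hk]
      apply Nat.Coprime.pow_right
      exact Nat.coprime_two_right.mpr hEodd
    · right
      haveI := hS.isNilpotent
      infer_instance
  obtain ⟨c', hc', hzc'⟩ := Cfsg.Agent.Lib.H1.coprime_centralizer_quotient hcop
    (N := S ⊓ D) inf_le_left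
    (le_normalizer_inf hDn (fun a ha s hs => S.mul_mem (S.mul_mem ha hs) (S.inv_mem ha)))
    (le_normalizer_inf hDn hES) hzS hfixz
  have hc'S : c' ∈ S := hc'.1
  have hc'1 : c' = 1 := by
    apply hfix c' hc'S
    intro e he
    have := (Subgroup.mem_centralizer_iff.mp hc'.2) e he
    rw [this, mul_inv_cancel_right]
  rw [hc'1, mul_one] at hzc'
  have h5 := D.inv_mem hzc'.2
  rw [inv_inv] at h5
  exact hzD h5

end Cfsg.Agent.Lib.H2.S3797M0B
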