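import Cfsg.Agent.Lib.H15.S3797M1Defs

/-!
# S3797, main lemma (M1), sub-piece GAUSS (helper2)

`S = ∑ sgn (f x)`; `S² = ∑_t sgn (f t) ∑_u sgn (B u t) = |U| ∑_{t ∈ Rad} sgn (f t)`, and `f` is additive
on the subgroup `Rad`, so the last sum is `0` or `|Rad|`.
-/

set_option autoImplicit false

namespace Cfsg.Agent.Lib.H2.S3797M1Gauss

open Cfsg.Agent.H15.S3797M1

universe u

theorem sgn_add (a b : ZMod 2) : sgn (a + b) = sgn a * sgn b := by
  revert a b; decide

theorem sgn_mul_self (a : ZMod 2) : sgn a * sgn a = 1 := by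
  revert a; decide

theorem sgn_zero : sgn 0 = 1 := by decide

theorem sgn_one : sgn 1 = -1 := by decide

theorem eq_one_of_ne_zero (a : ZMod 2) (h : a ≠ 0) : a = 1 := by
  revert a; decide

theorem add_self_zmod2 (a : ZMod 2) : a + a = 0 := by
  revert a; decide

/-- a non-zero additive character sums to zero -/
theorem char_sum {A : Type u} [AddCommGroup A] [Fintype A] (φ : A → ZMod 2)
    (hadd : ∀ x y : A, φ (x + y) = φ x + φ y) (hne : ∃ x : A, φ x ≠ 0) :
    ∑ x : A, sgn (φ x) = 0 := by
  obtain ⟨x0, hx0⟩ := hne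
  have h1 : φ x0 = 1 := eq_one_of_ne_zero _ hx0
  have h0 : ∑ x : A, sgn (φ (x + x0)) = ∑ x : A, sgn (φ x) :=
    Equiv.sum_comp (Equiv.addRight x0) (fun x => sgn (φ x))
  have h2 : ∑ x : A, sgn (φ (x + x0)) = - ∑ x : A, sgn (φ x) := by
    rw [← Finset.sum_neg_distrib]
    apply Finset.sum_congr rfl
    intro x _
    rw [hadd, sgn_add, h1, sgn_one]
    ring
  rw [h2] at h0
  linarith

/-- the trivial character sums to the order -/
theorem char_sum_zero {A : Type u} [Fintype A] (φ : A → ZMod 2) (h : ∀ x : A, φ x = 0) :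
    ∑ x : A, sgn (φ x) = (Fintype.card A : ℤ) := by
  have : ∀ x ∈ (Finset.univ : Finset A), sgn (φ x) = 1 := by
    intro x _; rw [h x, sgn_zero]
  rw [Finset.sum_congr rfl this]
  simp

theorem gauss : GaussStmt.{u} := by
  intro U _ _ f B hpol hleft
  classical
  have hsymm : ∀ x y : U, B x y = B y x := by
    intro x y
    have h1 := hpol x y
    have h2 := hpol y x
    rw [add_comm y x, h1] at h2
    have h3 : f x + f y + B x y = f x + f y + B y x := by rw [h2, add_comm (f y)]
    exact add_left_cancel h3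
  have hright : ∀ x y z : U, B x (y + z) = B x y + B x z := by
    intro x y z
    rw [hsymm x (y + z), hleft, hsymm y x, hsymm z x]
  have hB0 : ∀ x : U, B x 0 = 0 := by
    intro x
    have h := hright x 0 0
    rw [add_zero] at h
    have h2 := add_self_zmod2 (B x 0)
    rw [← h] at h2
    exact h2
  -- the radical as a subgroup
  let Rad : AddSubgroup U :=
    { carrier := {t | ∀ x : U, B x t = 0}
      zero_mem' := hB0
      add_mem' := by
        intro a b ha hb x
        rw [hright, ha x, hb x, add_zero]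
      neg_mem' := by
        intro a ha x
        have h := hright x a (-a)
        rw [add_neg_cancel, hB0, ha x, zero_add] at h
        exact h.symm }
  have hRad : ∀ t : U, t ∈ Rad ↔ ∀ x : U, B x t = 0 := fun t => Iff.rfl
  -- the inner sums
  have hinner : ∀ t : U, ∑ u : U, sgn (B u t) = if t ∈ Rad then (Fintype.card U : ℤ) else 0 := by
    intro t
    by_cases ht : t ∈ Rad
    · rw [if_pos ht]
      exact char_sum_zero (fun u => B u t) ((hRad t).mp ht)
    · rw [if_neg ht]
      have hne : ∃ x : U, B x t ≠ 0 := by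
        by_contra hcon
        push_neg at hcon
        exact ht ((hRad t).mpr hcon)
      exact char_sum (fun u => B u t) (fun x y => hleft x y t) hne
  -- the square of the sum
  have hsq : (∑ x : U, sgn (f x)) ^ 2 = (Fintype.card U : ℤ) * ∑ t : ↥Rad, sgn (f (t : U)) := by
    rw [pow_two, Finset.sum_mul_sum]
    have h1 : ∀ u : U, ∑ w : U, sgn (f u) * sgn (f w) = ∑ t : U, sgn (f t) * sgn (B u t) := by
      intro u
      rw [← Equiv.sum_comp (Equiv.addLeft u) (fun w => sgn (f u) * sgn (f w))]
      apply Finset.sum_congr rfl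
      intro t _
      show sgn (f u) * sgn (f (u + t)) = sgn (f t) * sgn (B u t)
      rw [hpol u t, sgn_add, sgn_add]
      have h := sgn_mul_self (f u)
      linear_combination (sgn (f t) * sgn (B u t)) * h
    rw [Finset.sum_congr rfl (fun u _ => h1 u), Finset.sum_comm]
    have h2 : ∀ t : U, ∑ u : U, sgn (f t) * sgn (B u t) =
        if t ∈ Rad then (Fintype.card U : ℤ) * sgn (f t) else 0 := by
      intro t
      rw [← Finset.mul_sum, hinner t]
      split_ifs
      · ring
      · ring
    rw [Finset.sum_congr rfl (fun t _ => h2 t), ← Finset.sum_filter, ← Finset.mul_sum]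
    congr 1
    exact Finset.sum_subtype (Finset.univ.filter (fun t => t ∈ Rad))
      (fun t => by simp) (fun t => sgn (f t))
  have hcardU : (Nat.card U : ℤ) = (Fintype.card U : ℤ) := by
    rw [Nat.card_eq_fintype_card]
  have hcardR : Nat.card {t : U // ∀ x : U, B x t = 0} = Fintype.card ↥Rad := by
    rw [← Nat.card_eq_fintype_card]
    exact Nat.card_congr (Equiv.subtypeEquivRight (fun t => (hRad t).symm))
  by_cases hne : ∃ t : ↥Rad, f (t : U) ≠ 0
  · left
    rw [hsq]
    have hadd : ∀ x y : ↥Rad, f ((x + y : ↥Rad) : U) = f (x : U) + f (y : U) := by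
      intro x y
      rw [AddSubgroup.coe_add, hpol, (hRad (y : U)).mp y.2 (x : U), add_zero]
    rw [char_sum (fun t : ↥Rad => f (t : U)) hadd hne, mul_zero]
  · right
    push_neg at hne
    rw [hsq, char_sum_zero (fun t : ↥Rad => f (t : U)) hne, hcardU, hcardR]

end Cfsg.Agent.Lib.H2.S3797M1Gauss
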