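import Cfsg.Agent.Lib.H5.S3797MLDefs

/-!
# S3797, main lemma, piece (M4) (helper2): the end game

For `g ∈ W` put `Θ_g x = x + g x ∈ M`.  Then `β (Θ_g x) x = κ (Θ_g x)`, and an element `m ∈ M ∖ 0`
satisfies `β m x = κ m` for `x` in at most one coset of `M` (`ker β m ⊆ M`).  Hence `ker Θ_g = M` for
`g ≠ 1`, so `Θ_g` maps `U` onto `M` (`|U| = |M|²`), and for `x ∉ M` the element `Θ_h x ≠ 0` is
`Θ_g y` for some `y`, which forces `y ∈ x + M` and `Θ_g x = Θ_h x`.
(Neither `E` nor the surjectivity of `β c` nor the isotropy of `M` is needed.)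
-/

set_option autoImplicit false

namespace Cfsg.Agent.Lib.H2.S3797M4

open Cfsg.Agent.Lib.H5.S3797ML

universe u

section
variable {U V : Type u} [AddCommGroup U] [AddCommGroup V] {κ : U → V} {β : U → U → V}

theorem beta_symm (hQ : Quad κ β) (x y : U) : β x y = β y x := by
  have h1 := hQ.polar x y
  have h2 := hQ.polar y x
  rw [add_comm y x] at h2
  rw [h1] at h2
  have h3 : κ x + κ y + β x y = κ x + κ y + β y x := by rw [h2, add_comm (κ y)]
  exact add_left_cancel h3

theorem beta_zero_left (hQ : Quad κ β) (z : U) : β 0 z = 0 := by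
  have h := hQ.add_left 0 0 z
  rw [add_zero, hQ.two_V] at h
  exact h

theorem kappa_zero (hQ : Quad κ β) : κ 0 = 0 := by
  have h := hQ.polar 0 0
  rw [add_zero, hQ.two_V, beta_zero_left hQ, add_zero] at h
  exact h

theorem beta_self (hQ : Quad κ β) (x : U) : β x x = 0 := by
  have h := hQ.polar x x
  rw [hQ.two_U, kappa_zero hQ, hQ.two_V, zero_add] at h
  exact h.symm

theorem beta_add_right (hQ : Quad κ β) (x y z : U) : β x (y + z) = β x y + β x z := by
  rw [beta_symm hQ x (y + z), hQ.add_left, beta_symm hQ y x, beta_symm hQ z x]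

/-- `β (x + g x) x = κ (x + g x)` -/
theorem beta_theta (hQ : Quad κ β) {W : Set (U → U)} (hI : Invs κ W) {g : U → U} (hg : g ∈ W)
    (x : U) : β (x + g x) x = κ (x + g x) := by
  rw [hQ.polar, hI.pres g hg, hQ.two_V, zero_add, hQ.add_left, beta_self hQ, zero_add,
    beta_symm hQ]

theorem eq_of_add_eq_zero (hQ : Quad κ β) {x y : U} (h : x + y = 0) : x = y := by
  have h2 : x + y = y + y := by rw [h, hQ.two_U]
  exact add_right_cancel h2

end

theorem m4 : M4Stmt.{u} := by
  intro U V _ _ _ _ κ β W I a b hQ hI _ hfix _ hU hM _ hker g hg h hh hgne hhne x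
  classical
  -- uniqueness of the coset
  have huniq : ∀ m ∈ Mof W, m ≠ 0 → ∀ x y : U, β m x = κ m → β m y = κ m → x + y ∈ Mof W := by
    intro m hm hm0 x y hx hy
    apply hker m hm hm0
    rw [beta_add_right hQ, hx, hy, hQ.two_V]
  have hgen : ∀ f ∈ W, ∀ x : U, x + f x ∈ Mof W := by
    intro f hf x
    exact AddSubgroup.subset_closure ⟨f, hf, x, rfl⟩
  have hadd : ∀ f ∈ W, ∀ x y : U, (x + y) + f (x + y) = (x + f x) + (y + f y) := by
    intro f hf x y
    rw [hI.add f hf]; abel
  -- a non-identity element of `W` has `ker Θ = M`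
  have hkerΘ : ∀ f ∈ W, (∃ x : U, f x ≠ x) → ∀ x' : U, x' + f x' = 0 → x' ∈ Mof W := by
    intro f hf ⟨x1, hx1⟩ x' hx'
    have hm0 : x1 + f x1 ≠ 0 := by
      intro h0
      exact hx1 (eq_of_add_eq_zero hQ h0).symm
    have hsum : (x1 + x') + f (x1 + x') = x1 + f x1 := by
      rw [hadd f hf, hx', add_zero]
    have h1 : β (x1 + f x1) (x1 + x') = κ (x1 + f x1) := by
      have := beta_theta hQ hI hf (x1 + x')
      rw [hsum] at this
      exact this
    have h2 : β (x1 + f x1) x1 = κ (x1 + f x1) := beta_theta hQ hI hf x1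
    have h3 := huniq (x1 + f x1) (hgen f hf x1) hm0 (x1 + x') x1 h1 h2
    have h4 : x1 + x' + x1 = x' := by
      rw [add_comm x1 x', add_assoc, hQ.two_U, add_zero]
    rw [h4] at h3
    exact h3
  -- `Θ_g` is onto `M`
  have hsurj : ∀ m ∈ Mof W, ∃ y : U, y + g y = m := by
    let φ : U →+ U := AddMonoidHom.mk' (fun x => x + g x) (fun x y => hadd g hg x y)
    have hφ : ∀ x, φ x = x + g x := fun x => rfl
    have hkerφ : φ.ker = Mof W := by
      ext y
      rw [AddMonoidHom.mem_ker, hφ]
      constructor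
      · intro hy
        exact hkerΘ g hg hgne y hy
      · intro hy
        rw [hfix y hy g hg, hQ.two_U]
    have hrange : φ.range ≤ Mof W := by
      rintro _ ⟨y, rfl⟩
      rw [hφ]
      exact hgen g hg y
    have hcard1 : Nat.card φ.range = φ.ker.index := (AddSubgroup.index_ker φ).symm
    have hcard2 : φ.ker.index * Nat.card φ.ker = Nat.card U := AddSubgroup.index_mul_card _
    rw [hkerφ] at hcard1 hcard2
    have hpos : 0 < Nat.card (Mof W) := Nat.card_pos
    have hcard3 : Nat.card φ.range = Nat.card (Mof W) := by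
      rw [hU, ← hM, ← hcard1, pow_two] at hcard2
      exact Nat.eq_of_mul_eq_mul_right hpos hcard2
    have heq : φ.range = Mof W := AddSubgroup.eq_of_le_of_card_ge hrange (le_of_eq hcard3.symm)
    intro m hm
    rw [← heq] at hm
    obtain ⟨y, hy⟩ := hm
    exact ⟨y, hy⟩
  -- conclusion
  by_cases hxM : x ∈ Mof W
  · rw [hfix x hxM g hg, hfix x hxM h hh]
  · have hm0 : x + h x ≠ 0 := fun h0 => hxM (hkerΘ h hh hhne x h0)
    obtain ⟨y, hy⟩ := hsurj (x + h x) (hgen h hh x)
    have h1 : β (x + h x) y = κ (x + h x) := by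
      have := beta_theta hQ hI hg y
      rw [hy] at this
      exact this
    have h2 : β (x + h x) x = κ (x + h x) := beta_theta hQ hI hh x
    have h3 : x + y ∈ Mof W := huniq (x + h x) (hgen h hh x) hm0 x y h2 h1
    have h4 : (x + y) + g (x + y) = 0 := by
      rw [hfix _ h3 g hg, hQ.two_U]
    rw [hadd g hg] at h4
    have h5 : x + g x = y + g y := eq_of_add_eq_zero hQ h4
    rw [hy] at h5
    exact add_left_cancel h5

end Cfsg.Agent.Lib.H2.S3797M4
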