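import Mathlib
import Cfsg.Agent.Lib.H27.S3814C1Defs
import Cfsg.Agent.Lib.H12.S3814MPLine
import Cfsg.Agent.Lib.H16.S3814AutCyc

/-!
# S3814, Case 1, piece (A11): `O_{t'}(X1) = 1`

`Y ≠ ⊥` a normal `t'`-subgroup of `X1 = C_X(u0)`: its elements of order `t'` commute with `u0`, so are
fixed-point-free on `M` (`Ctx2.mix`); hence `Y` has only one subgroup `⟨e₇⟩` of order `t'` (a central element of order
`t'` and a second subgroup would give a `C_{t'} × C_{t'}` acting on `M`, coprime generation = helper12's `line_core`);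
`⟨e₇⟩` is normal in `X1`.  The `C_t × C_t` of `X` centralises `u0` (it normalises `⟨u0⟩` by (A7), and `t` is prime to
`t - 1`: helper16's `commute_of_coprime_pred`), so lies in `X1`, normalises `⟨e₇⟩`, centralises `e₇` (`t` is prime to
`t' - 1` as `t' < t`).  So `e₇` is bad by (F4), against `Ctx2.tpgood`.
-/

set_option autoImplicit false
set_option linter.style.haveILetI false

namespace Cfsg.Agent.Lib.H2.S3814C1A11

open Cfsg.Agent.H7.S3814Defs Cfsg.Agent.H27.S3814C1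

universe u

/-- two elements of the same prime order: `y ∈ ⟨x⟩` gives `x ∈ ⟨y⟩` -/
theorem mem_zpowers_symm {G : Type u} [Group G] [Finite G] {q : ℕ} {x y : G}
    (hx : orderOf x = q) (hy : orderOf y = q) (h : y ∈ Subgroup.zpowers x) :
    x ∈ Subgroup.zpowers y := by
  have hle : Subgroup.zpowers y ≤ Subgroup.zpowers x := by
    rw [Subgroup.zpowers_le]; exact h
  have heq : Subgroup.zpowers y = Subgroup.zpowers x :=
    Subgroup.eq_of_le_of_card_ge hle (by rw [Nat.card_zpowers, Nat.card_zpowers, hx, hy])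
  rw [heq]; exact Subgroup.mem_zpowers x

theorem orderOf_conj' {G : Type u} [Group G] (g x : G) : orderOf (g * x * g⁻¹) = orderOf x := by
  rw [← MulAut.conj_apply, MulEquiv.orderOf_eq]

/-- **(A11)** -/
theorem a11 : A11Stmt.{u} := by
  intro G _ σ p V K c M X t t' u0 h a7 a8 Y hYX1 hnY hYp
  haveI : Finite G := h.c1.c0.cex.fin
  have ht : t.Prime := h.c1.c0.cex.prime t h.c1.oth.ht
  have ht' : t'.Prime := h.c1.c0.cex.prime t' h.c1.oth.ht'
  have hc : c.Prime := h.c1.c0.hc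
  by_contra hYbot
  have hXK : X ≤ K := h.c1.compl.le
  have hY_X : ∀ y ∈ Y, y ∈ X := fun y hy => (Subgroup.mem_inf.1 (hYX1 hy)).1
  have hY_u0 : ∀ y ∈ Y, u0 * y = y * u0 := fun y hy =>
    Subgroup.mem_centralizer_iff.1 (Subgroup.mem_inf.1 (hYX1 hy)).2 u0 (Set.mem_singleton u0)
  have hY_fpf : ∀ y ∈ Y, orderOf y = t' → Fpf y M := fun y hy ho =>
    (h.mix u0 h.hu0 y (hY_X y hy) (hY_u0 y hy) h.ou0 ho).2
  -- `K` normalises `M`
  have hnM : ∀ k ∈ K, ∀ m ∈ M, k * m * k⁻¹ ∈ M := fun k hk m hm =>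
    ((Subgroup.mem_normalizer_iff.1 (h.c1.c0.hMn hk)) m).1 hm
  -- `M ≠ ⊥`
  have hMbot : M ≠ ⊥ := by
    intro hM
    have h1 : c ^ 2 ∣ Nat.card ↥M := h.c1.c0.hM2
    rw [hM, Subgroup.card_bot] at h1
    have : c ^ 2 = 1 := Nat.dvd_one.1 h1
    have h2 : 2 ≤ c := hc.two_le
    nlinarith
  -- cardinalities
  haveI : Fact t'.Prime := ⟨ht'⟩
  haveI hYnt : Nontrivial ↥Y := (Subgroup.nontrivial_iff_ne_bot Y).2 hYbot
  obtain ⟨k, hk⟩ := (IsPGroup.iff_card (p := t') (G := ↥Y)).1 hYp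
  have hMp : IsPGroup c ↥M := by
    intro m
    refine ⟨1, ?_⟩
    apply Subtype.ext
    have := h.c1.c0.hMe.2 (m : G) m.2
    simpa using this
  haveI : Fact c.Prime := ⟨hc⟩
  obtain ⟨j, hj⟩ := (IsPGroup.iff_card (p := c) (G := ↥M)).1 hMp
  have hcopYM : (Nat.card ↥Y).Coprime (Nat.card ↥M) := by
    rw [hk, hj]
    exact Nat.Coprime.pow _ _ ((Nat.coprime_primes ht' hc).2 h.c1.oth.t'c)
  -- Step 1: an element of order `t'`
  have hk0 : k ≠ 0 := by
    rintro rfl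
    rw [pow_zero] at hk
    have hlt : 1 < Nat.card ↥Y := Finite.one_lt_card_iff_nontrivial.2 hYnt
    omega
  have hdvd : t' ∣ Nat.card ↥Y := by rw [hk]; exact dvd_pow_self t' hk0
  obtain ⟨e₇', he₇'⟩ := exists_prime_orderOf_dvd_card' t' hdvd
  have he₇Y : (e₇' : G) ∈ Y := e₇'.2
  have oe₇ : orderOf (e₇' : G) = t' := by rw [Subgroup.orderOf_coe]; exact he₇'
  -- a central element of order `t'`
  haveI : Nontrivial (Subgroup.center ↥Y) := hYp.center_nontrivial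
  have hZp : IsPGroup t' (Subgroup.center ↥Y) := hYp.to_subgroup _
  obtain ⟨kz, hkz⟩ := (IsPGroup.iff_card (p := t') (G := ↥(Subgroup.center ↥Y))).1 hZp
  have hkz0 : kz ≠ 0 := by
    rintro rfl
    rw [pow_zero] at hkz
    have hlt : 1 < Nat.card ↥(Subgroup.center ↥Y) := Finite.one_lt_card_iff_nontrivial.2 inferInstance
    omega
  have hdvdz : t' ∣ Nat.card ↥(Subgroup.center ↥Y) := by rw [hkz]; exact dvd_pow_self t' hkz0
  obtain ⟨z', hz'⟩ := exists_prime_orderOf_dvd_card' t' hdvdz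
  have hzY : (((z' : ↥Y)) : G) ∈ Y := (z' : ↥Y).2
  have oz : orderOf (((z' : ↥Y)) : G) = t' := by
    rw [Subgroup.orderOf_coe, Subgroup.orderOf_coe]; exact hz'
  have hzc : ∀ y ∈ Y, ((z' : ↥Y) : G) * y = y * ((z' : ↥Y) : G) := by
    intro y hy
    have := (Subgroup.mem_center_iff.1 z'.2) ⟨y, hy⟩
    exact (congrArg Subtype.val this).symm
  -- Step 2: uniqueness of the subgroup of order `t'`
  have hpair_false : ∀ w ∈ Y, orderOf w = t' → w ∉ Subgroup.zpowers ((z' : ↥Y) : G) → False := by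
    intro w hw how hwz
    have hpair : Cfsg.Agent.Lib.H8.S3814MP.IsRank2Pair t' ((z' : ↥Y) : G) w :=
      ⟨oz, how, hzc w hw, hwz⟩
    have hcl : Subgroup.closure ({((z' : ↥Y) : G), w} : Set G) ≤ Y := by
      rw [Subgroup.closure_le]
      rintro x (rfl | hx)
      · exact hzY
      · rw [Set.mem_singleton_iff] at hx; rw [hx]; exact hw
    have hcop : (Nat.card ↥(Subgroup.closure ({((z' : ↥Y) : G), w} : Set G))).Coprime
        (Nat.card ↥M) :=
      Nat.Coprime.coprime_dvd_left (Subgroup.card_dvd_of_le hcl) hcopYM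
    obtain ⟨e, heA, he1, hcol⟩ := Cfsg.Agent.Lib.H12.S3814MPLine.line_core ht' hpair M hMbot hcop
      (hnM _ (hXK (hY_X _ hzY))) (hnM _ (hXK (hY_X _ hw)))
    have het : e ^ t' = 1 :=
      Cfsg.Agent.Lib.H12.S3814MPLine.pow_eq_one_of_mem_closure_pair (hzc w hw)
        (oz ▸ pow_orderOf_eq_one _) (how ▸ pow_orderOf_eq_one w) heA
    have hoe : orderOf e = t' := by
      rcases (Nat.dvd_prime ht').1 (orderOf_dvd_of_pow_eq_one het) with h1 | h1
      · exact absurd (orderOf_eq_one_iff.1 h1) he1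
      · exact h1
    exact ((Cfsg.Agent.Lib.H8.S3814MP.col_iff_not_fpf e M).1 hcol) (hY_fpf e (hcl heA) hoe)
  have huniq : ∀ y ∈ Y, orderOf y = t' → y ∈ Subgroup.zpowers (e₇' : G) := by
    intro y hy hoy
    by_contra hnot
    by_cases hyz : y ∈ Subgroup.zpowers ((z' : ↥Y) : G)
    · -- then `e₇ ∉ ⟨z⟩`
      apply hpair_false (e₇' : G) he₇Y oe₇
      intro he₇z
      -- `⟨e₇⟩ = ⟨z⟩ = ⟨y⟩`
      have h1 : ((z' : ↥Y) : G) ∈ Subgroup.zpowers (e₇' : G) := mem_zpowers_symm oz oe₇ he₇z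
      have h2 : Subgroup.zpowers ((z' : ↥Y) : G) ≤ Subgroup.zpowers (e₇' : G) := by
        rw [Subgroup.zpowers_le]; exact h1
      exact hnot (h2 hyz)
    · exact hpair_false y hy hoy hyz
  -- Step 3: `⟨e₇⟩` is normal in `X1`
  have hnorm7 : ∀ x ∈ X1 X u0, x * (e₇' : G) * x⁻¹ ∈ Subgroup.zpowers (e₇' : G) := by
    intro x hx
    have hmem : x * (e₇' : G) * x⁻¹ ∈ Y := ((Subgroup.mem_normalizer_iff.1 (hnY hx)) _).1 he₇Y
    exact huniq _ hmem ((orderOf_conj' x _).trans oe₇)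
  -- Step 4: the `C_t × C_t` of `X` lies in `X1`
  obtain ⟨e₁, he₁X, e₂, he₂X, o1, o2, hcomm, hindep⟩ := h.c1.xr2
  have ht2 : 2 ≤ t := ht.two_le
  have ht'2 : 2 ≤ t' := ht'.two_le
  have hcop_t : Nat.Coprime t (t - 1) :=
    (Nat.Prime.coprime_iff_not_dvd ht).2 (Nat.not_dvd_of_pos_of_lt (by omega) (by omega))
  have ht'le : t' ≤ t - 1 := Nat.le_of_dvd (by omega) a8
  have hcop_t' : Nat.Coprime t (t' - 1) :=
    (Nat.Prime.coprime_iff_not_dvd ht).2 (Nat.not_dvd_of_pos_of_lt (by omega) (by omega))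
  have hcu : ∀ e ∈ X, orderOf e = t → e * u0 = u0 * e := by
    intro e he hoe
    exact (Cfsg.Agent.Lib.H16.S3814AutCyc.commute_of_coprime_pred ht u0 e h.ou0
      (a7 e (hXK he)) (isOfFinOrder_of_finite e) (hoe ▸ hcop_t)).eq
  have hX1 : ∀ e ∈ X, orderOf e = t → e ∈ X1 X u0 := by
    intro e he hoe
    refine Subgroup.mem_inf.2 ⟨he, Subgroup.mem_centralizer_iff.2 ?_⟩
    intro x hx
    rw [Set.mem_singleton_iff.1 hx]
    exact (hcu e he hoe).symm
  -- Step 5: it centralises `e₇`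
  have hc7 : ∀ e ∈ X, orderOf e = t → (e₇' : G) * e = e * (e₇' : G) := by
    intro e he hoe
    exact ((Cfsg.Agent.Lib.H16.S3814AutCyc.commute_of_coprime_pred ht' (e₇' : G) e oe₇
      (hnorm7 e (hX1 e he hoe)) (isOfFinOrder_of_finite e) (hoe ▸ hcop_t')).eq).symm
  -- Step 6: (F4) against `tpgood`
  have hbad : Fpf (e₇' : G) V :=
    h.f4 (e₇' : G) (hXK (hY_X _ he₇Y)) e₁ (hXK he₁X) e₂ (hXK he₂X) (oe₇ ▸ ht') (o1 ▸ ht)
      (o2.trans o1.symm) (by rw [oe₇, o1]; exact h.c1.oth.tt'.symm) hcomm hindep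
      (hc7 e₁ he₁X o1) (hc7 e₂ he₂X o2)
  exact h.tpgood (e₇' : G) (hY_X _ he₇Y) oe₇ hbad

example : A11Stmt.{0} := a11

end Cfsg.Agent.Lib.H2.S3814C1A11
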