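import Mathlib
import Cfsg.Agent.Lib.H27.S3814C1Defs
import Cfsg.Agent.Lib.H1.PGroupBasic

/-!
# S3814, Case 1, piece (LCYC): a cyclic invariant subgroup that is not centralised

`P` a `t`-group, `α` of prime order `t' ∣ t - 1` normalising and not centralising `P`.  Take `L ≤ P` of least order
among the `α`-invariant subgroups not centralised by `α`; in `H := ↥L` with `ψ :=` conjugation by `α` every proper
`ψ`-invariant subgroup is fixed pointwise, in particular `Φ(H)`; `ψ` is not the identity on the elementary abelian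
`H / Φ(H)` (else `ψ x = x f`, `f ∈ Φ(H)`, `ψ^[t'] x = x f^t'`, `f = 1`); `ψ^[t] = ψ` there, so `X^t - X = ∏ (X - a)`
over `ZMod t` gives an eigenvector `ū` with eigenvalue `≠ 1` (`chain`, `eig`, `eig_mul`); `⟨u⟩ Φ(H)` is `ψ`-invariant
and not fixed, so it is `H`, hence `H = ⟨u⟩` (`frattini_nongenerating`).
-/

set_option autoImplicit false
set_option linter.style.haveILetI false
open scoped commutatorElement

namespace Cfsg.Agent.Lib.H2.S3814C1LCyc

open Polynomial

/-- chain lemma -/
theorem chain {F M : Type*} [Field F] [AddCommGroup M] [Module F M] (f : Module.End F M) :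
    ∀ (S : Finset F) (w : M), w ≠ 0 → (aeval f (∏ a ∈ S, (X - C a))) w = 0 →
      ∃ a ∈ S, ∃ u : M, u ≠ 0 ∧ f u = a • u := by
  classical
  intro S
  induction S using Finset.induction_on with
  | empty =>
    intro w hw h0
    simp at h0
    exact absurd h0 hw
  | insert b S hb ih =>
    intro w hw h0
    rw [Finset.prod_insert hb, map_mul, Module.End.mul_apply] at h0
    by_cases hw' : (aeval f (∏ a ∈ S, (X - C a))) w = 0
    · obtain ⟨a, ha, u, hu, hfu⟩ := ih w hw hw'
      exact ⟨a, Finset.mem_insert_of_mem ha, u, hu, hfu⟩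
    · refine ⟨b, Finset.mem_insert_self b S, _, hw', ?_⟩
      have : (aeval f (X - C b)) ((aeval f (∏ a ∈ S, (X - C a))) w) =
          f ((aeval f (∏ a ∈ S, (X - C a))) w) - b • ((aeval f (∏ a ∈ S, (X - C a))) w) := by
        simp [map_sub, aeval_X, aeval_C, Module.algebraMap_end_apply]
      rw [this] at h0
      exact sub_eq_zero.1 h0

/-- eigenvector with eigenvalue `≠ 1` -/
theorem eig {F M : Type*} [Field F] [Fintype F] [AddCommGroup M] [Module F M]
    (f : Module.End F M) (hf : f ^ Fintype.card F = f) (v : M) (hv : f v ≠ v) :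
    ∃ a : F, a ≠ 1 ∧ ∃ u : M, u ≠ 0 ∧ f u = a • u := by
  classical
  have hw : f v - v ≠ 0 := sub_ne_zero.2 hv
  have hprod : (∏ a ∈ (Finset.univ.erase (1 : F)), (X - C a)) * (X - C (1 : F)) =
      X ^ Fintype.card F - X := by
    have hq : 1 < Fintype.card F := Fintype.one_lt_card
    have hmonic : (X ^ Fintype.card F - X : F[X]).Monic :=
      monic_X_pow_sub (by rw [degree_X]; exact_mod_cast hq)
    have hroots : (X ^ Fintype.card F - X : F[X]).roots = Finset.univ.val :=
      FiniteField.roots_X_pow_card_sub_X F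
    have hcard : Multiset.card (X ^ Fintype.card F - X : F[X]).roots =
        (X ^ Fintype.card F - X : F[X]).natDegree := by
      rw [hroots, FiniteField.X_pow_card_sub_X_natDegree_eq F hq]
      rfl
    have hall : ∏ a : F, (X - C a) = X ^ Fintype.card F - X := by
      have := prod_multiset_X_sub_C_of_monic_of_roots_card_eq hmonic hcard
      rw [hroots] at this
      exact this
    rw [← hall, mul_comm,
      Finset.mul_prod_erase Finset.univ (fun a => (X - C a : F[X])) (Finset.mem_univ 1)]
  have h0 : (aeval f (∏ a ∈ (Finset.univ.erase (1 : F)), (X - C a))) (f v - v) = 0 := by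
    have h1 : f v - v = (aeval f (X - C (1 : F))) v := by
      simp [map_sub, aeval_X]
    rw [h1, ← Module.End.mul_apply, ← map_mul, hprod]
    simp [map_sub, aeval_X, hf]
  obtain ⟨a, ha, u, hu, hfu⟩ := chain f _ _ hw h0
  exact ⟨a, (Finset.mem_erase.1 ha).1, u, hu, hfu⟩

/-- commutative-group form of `eig`: `A` of exponent `t`, `φ : A →* A` with `φ^[t] = φ` pointwise and `φ v ≠ v` -/
theorem eig_mul {A : Type*} [CommGroup A] {t : ℕ} [Fact t.Prime] (hexp : ∀ a : A, a ^ t = 1)
    (φ : A →* A) (hφ : ∀ x, φ^[t] x = φ x) (v : A) (hv : φ v ≠ v) :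
    ∃ (k : ℕ) (u : A), u ≠ 1 ∧ φ u = u ^ k ∧ u ^ k ≠ u := by
  have hz : ∀ x : Additive A, t • x = 0 := fun x => by
    show Additive.ofMul (Additive.toMul x ^ t) = 0
    rw [hexp]; rfl
  have inst : Module (ZMod t) (Additive A) := AddCommGroup.zmodModule hz
  let f : Additive A →ₗ[ZMod t] Additive A := (MonoidHom.toAdditive φ).toZModLinearMap t
  have hfapp : ∀ x : Additive A, f x = Additive.ofMul (φ (Additive.toMul x)) := fun x => rfl
  have hiter : ∀ (n : ℕ) (x : Additive A), (f ^ n) x = Additive.ofMul (φ^[n] (Additive.toMul x)) := by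
    intro n
    induction n with
    | zero => intro x; rfl
    | succ n ih =>
      intro x
      rw [pow_succ, Module.End.mul_apply, ih, hfapp, Function.iterate_succ_apply]
      rfl
  have hf : f ^ Fintype.card (ZMod t) = f := by
    rw [ZMod.card]
    apply LinearMap.ext
    intro x
    rw [hiter, hφ, hfapp]
  obtain ⟨a, ha1, u, hu0, hfu⟩ := eig f hf (Additive.ofMul v) (fun h => hv (by
    have : Additive.ofMul (φ v) = Additive.ofMul v := h
    exact Additive.ofMul.injective this))
  refine ⟨a.val, Additive.toMul u, ?_, ?_, ?_⟩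
  · intro h
    apply hu0
    show u = Additive.ofMul 1
    rw [← h]; rfl
  · have h1 : a • u = a.val • u := by
      conv_lhs => rw [← ZMod.natCast_zmod_val a]
      exact Nat.cast_smul_eq_nsmul (ZMod t) a.val u
    have h2 : f u = a.val • u := by rw [hfu, h1]
    have h3 : Additive.ofMul (φ (Additive.toMul u)) = Additive.ofMul ((Additive.toMul u) ^ a.val) := h2
    exact Additive.ofMul.injective h3
  · intro h
    -- `(a - 1) • u = 0`
    have h1 : a • u = u := by
      have h1' : a • u = a.val • u := by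
        conv_lhs => rw [← ZMod.natCast_zmod_val a]
        exact Nat.cast_smul_eq_nsmul (ZMod t) a.val u
      rw [h1']
      show Additive.ofMul ((Additive.toMul u) ^ a.val) = u
      rw [h]; rfl
    have h2 : (a - 1) • u = 0 := by rw [sub_smul, h1, one_smul, sub_self]
    have h3 : a - 1 ≠ 0 := sub_ne_zero.2 ha1
    have := (smul_eq_zero.1 h2).resolve_left h3
    exact hu0 this

/-- the minimal case: a finite `t`-group `H` with an automorphism `ψ`, `ψ^[t'] = id`, `t' ∣ t - 1`, not the
identity, fixing pointwise every proper `ψ`-invariant subgroup: `H = ⟨u⟩` with `ψ u ≠ u`. -/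
theorem abs_cyclic {H : Type*} [Group H] [Finite H] {t t' : ℕ} (ht : t.Prime) (ht' : t'.Prime)
    (hdvd : t' ∣ t - 1) (hH : IsPGroup t H) (ψ : H ≃* H) (hψ : ∀ x, ψ^[t'] x = x)
    (hne : ∃ x, ψ x ≠ x)
    (hmin : ∀ S : Subgroup H, S ≠ ⊤ → (∀ x ∈ S, ψ x ∈ S) → ∀ x ∈ S, ψ x = x) :
    ∃ u : H, ψ u ≠ u ∧ ∀ x : H, x ∈ Subgroup.zpowers u := by
  haveI : Fact t.Prime := ⟨ht⟩
  obtain ⟨x0, hx0⟩ := hne
  haveI : Nontrivial H := ⟨⟨ψ x0, x0, hx0⟩⟩
  -- the Frattini subgroup
  have hΦinv : ∀ x ∈ frattini H, ψ x ∈ frattini H := by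
    intro x hx
    have h1 : (frattini H).map ψ.toMonoidHom = frattini H :=
      Subgroup.characteristic_iff_map_eq.1 inferInstance ψ
    rw [← h1]
    exact Subgroup.mem_map_of_mem _ hx
  have hΦtop : frattini H ≠ ⊤ := by
    intro h
    have h1 : (⊥ : Subgroup H) ⊔ frattini H = ⊤ := by rw [h]; simp
    have h2 : (⊥ : Subgroup H) = ⊤ := frattini_nongenerating h1
    exact bot_ne_top h2
  have hΦfix : ∀ x ∈ frattini H, ψ x = x := hmin _ hΦtop hΦinv
  -- iterates
  have hiter_mul : ∀ (n : ℕ) (x f : H), f ∈ frattini H → ψ x = x * f → ψ^[n] x = x * f ^ n := by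
    intro n
    induction n with
    | zero => intro x f _ _; simp
    | succ n ih =>
      intro x f hf hx
      rw [Function.iterate_succ_apply', ih x f hf hx, map_mul, map_pow, hx, hΦfix f hf, pow_succ]
      group
  -- the quotient
  let A := H ⧸ frattini H
  have hcomm : ∀ a b : A, a * b = b * a := by
    intro a b
    refine QuotientGroup.induction_on a (fun x => ?_)
    refine QuotientGroup.induction_on b (fun y => ?_)
    rw [← QuotientGroup.mk_mul, ← QuotientGroup.mk_mul, QuotientGroup.eq]
    have h1 : (x * y)⁻¹ * (y * x) = ⁅y⁻¹, x⁻¹⁆ := by rw [commutatorElement_def]; group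
    rw [h1]
    exact Cfsg.Agent.Lib.H1.isPGroup_commutator_le_frattini hH
      (Subgroup.commutator_mem_commutator (Subgroup.mem_top _) (Subgroup.mem_top _))
  letI : CommGroup A := { (inferInstance : Group A) with mul_comm := hcomm }
  have hexp : ∀ a : A, a ^ t = 1 := by
    intro a
    refine QuotientGroup.induction_on a (fun x => ?_)
    rw [← QuotientGroup.mk_pow, QuotientGroup.eq_one_iff]
    exact Cfsg.Agent.Lib.H1.isPGroup_pow_mem_frattini hH x
  let φ : A →* A := QuotientGroup.map (frattini H) (frattini H) ψ.toMonoidHom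
    (fun x hx => hΦinv x hx)
  have hφmk : ∀ x : H, φ (QuotientGroup.mk x) = QuotientGroup.mk (ψ x) := fun x => rfl
  have hφiter : ∀ (n : ℕ) (x : H), φ^[n] (QuotientGroup.mk x) = QuotientGroup.mk (ψ^[n] x) := by
    intro n
    induction n with
    | zero => intro x; rfl
    | succ n ih => intro x; rw [Function.iterate_succ_apply', ih, hφmk, Function.iterate_succ_apply']
  -- `φ^[t] = φ`
  have hψt : ∀ x, ψ^[t] x = ψ x := by
    obtain ⟨m, hm⟩ := hdvd
    have h1 : ∀ (j : ℕ) (x : H), ψ^[t' * j] x = x := by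
      intro j
      induction j with
      | zero => intro x; simp
      | succ j ih =>
        intro x
        rw [Nat.mul_succ, Function.iterate_add_apply, hψ, ih]
    intro x
    have h2 : t = t' * m + 1 := by
      have := ht.one_lt
      omega
    rw [h2, Function.iterate_succ_apply', h1]
  have hφt : ∀ a : A, φ^[t] a = φ a := by
    intro a
    refine QuotientGroup.induction_on a (fun x => ?_)
    rw [hφiter, hψt, hφmk]
  -- `φ ≠ id`
  have hφne : φ (QuotientGroup.mk x0) ≠ QuotientGroup.mk x0 := by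
    intro h
    rw [hφmk, QuotientGroup.eq] at h
    -- `f := (ψ x0)⁻¹ * x0 ∈ Φ`
    have hf : x0⁻¹ * ψ x0 ∈ frattini H := by
      have := (frattini H).inv_mem h
      have e : ((ψ x0)⁻¹ * x0)⁻¹ = x0⁻¹ * ψ x0 := by group
      rwa [e] at this
    have hx : ψ x0 = x0 * (x0⁻¹ * ψ x0) := by group
    have h1 := hiter_mul t' x0 _ hf hx
    rw [hψ] at h1
    have h2 : (x0⁻¹ * ψ x0) ^ t' = 1 := by
      have : x0 * (x0⁻¹ * ψ x0) ^ t' = x0 * 1 := by rw [← h1, mul_one]
      exact mul_left_cancel this
    obtain ⟨k, hk⟩ := hH (x0⁻¹ * ψ x0)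
    have hcop : Nat.Coprime t' (t ^ k) := by
      apply Nat.Coprime.pow_right
      rw [Nat.coprime_primes ht' ht]
      intro h
      rw [h] at hdvd
      have := Nat.le_of_dvd (by have := ht.one_lt; omega) hdvd
      have := ht.one_lt
      omega
    have h3 : orderOf (x0⁻¹ * ψ x0) ∣ 1 := by
      rw [← hcop]
      exact Nat.dvd_gcd (orderOf_dvd_of_pow_eq_one h2) (orderOf_dvd_of_pow_eq_one hk)
    have h4 : x0⁻¹ * ψ x0 = 1 := orderOf_eq_one_iff.1 (Nat.dvd_one.1 h3)
    apply hx0
    calc ψ x0 = x0 * (x0⁻¹ * ψ x0) := hx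
      _ = x0 := by rw [h4, mul_one]
  -- the eigenvector
  obtain ⟨k, ubar, hu1, hφu, hune⟩ := eig_mul hexp φ hφt _ hφne
  obtain ⟨u, rfl⟩ := QuotientGroup.mk_surjective ubar
  -- `ψ u ≠ u`
  have hψu : ψ u ≠ u := by
    intro h
    apply hune
    rw [← hφu, hφmk, h]
  -- `S = ⟨u⟩ ⊔ Φ` is `ψ`-invariant
  let S : Subgroup H := Subgroup.zpowers u ⊔ frattini H
  have huS : u ∈ S := (le_sup_left : Subgroup.zpowers u ≤ S) (Subgroup.mem_zpowers u)
  have hΦS : frattini H ≤ S := le_sup_right
  have hψuS : ψ u ∈ S := by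
    have h1 : (QuotientGroup.mk (ψ u) : A) = QuotientGroup.mk (u ^ k) := by
      rw [← hφmk, hφu, QuotientGroup.mk_pow]
    rw [QuotientGroup.eq] at h1
    have h2 : ψ u = u ^ k * ((u ^ k)⁻¹ * ψ u) := by group
    have h3 : (u ^ k)⁻¹ * ψ u ∈ frattini H := by
      have := (frattini H).inv_mem h1
      have e : ((ψ u)⁻¹ * u ^ k)⁻¹ = (u ^ k)⁻¹ * ψ u := by group
      rwa [e] at this
    rw [h2]
    exact S.mul_mem (S.pow_mem huS k) (hΦS h3)
  have hSinv : ∀ x ∈ S, ψ x ∈ S := by
    have hle : S ≤ S.comap ψ.toMonoidHom := by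
      apply sup_le
      · rw [Subgroup.zpowers_le]
        exact hψuS
      · intro x hx
        exact hΦS (hΦinv x hx)
    intro x hx
    exact hle hx
  have hStop : S = ⊤ := by
    by_contra hS
    exact hψu (hmin S hS hSinv u huS)
  have hztop : Subgroup.zpowers u = ⊤ := frattini_nongenerating hStop
  refine ⟨u, hψu, fun x => ?_⟩
  rw [hztop]
  exact Subgroup.mem_top x


universe u

open Cfsg.Agent.H27.S3814C1

/-- **(LCYC)** -/
theorem lcyc : LCycStmt.{u} := by
  intro G _ _ P t t' ht ht' hdvd hP α hα hαP hnc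
  have hαt : α ^ t' = 1 := hα ▸ pow_orderOf_eq_one α
  have key : ∀ n : ℕ, ∀ L : Subgroup G, Nat.card L = n → L ≤ P → (∀ a ∈ L, α * a * α⁻¹ ∈ L) →
      (∃ a ∈ L, α * a ≠ a * α) →
      ∃ g ∈ P, α * g * α⁻¹ ∈ Subgroup.zpowers g ∧ α * g ≠ g * α := by
    intro n
    induction n using Nat.strong_induction_on with
    | _ n ih =>
      intro L hn hLP hLinv hLnc
      by_cases hex : ∃ L' : Subgroup G, L' ≤ L ∧ L' ≠ L ∧ (∀ a ∈ L', α * a * α⁻¹ ∈ L') ∧
          ∃ a ∈ L', α * a ≠ a * α
      · obtain ⟨L', hle, hne, hinv, hnc'⟩ := hex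
        have hcard : Nat.card L' < n := by
          rw [← hn]
          apply lt_of_le_of_ne (Subgroup.card_le_of_le hle)
          intro h
          exact hne (Subgroup.eq_of_le_of_card_ge hle h.ge)
        exact ih _ hcard L' rfl (hle.trans hLP) hinv hnc'
      · push Not at hex
        -- `α⁻¹` also normalises `L`
        have hαN : α ∈ Subgroup.normalizer (L : Set G) :=
          Subgroup.mem_normalizer_fintype (fun a ha => hLinv a ha)
        have hLinv' : ∀ a ∈ L, α⁻¹ * a * α ∈ L := fun a ha =>
          ((Subgroup.mem_normalizer_iff''.1 hαN) a).1 ha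
        let ψ : ↥L ≃* ↥L :=
          { toFun := fun x => ⟨α * x * α⁻¹, hLinv x x.2⟩
            invFun := fun x => ⟨α⁻¹ * x * α, hLinv' x x.2⟩
            left_inv := fun x => Subtype.ext (by
              show α⁻¹ * (α * (x : G) * α⁻¹) * α = x
              group)
            right_inv := fun x => Subtype.ext (by
              show α * (α⁻¹ * (x : G) * α) * α⁻¹ = x
              group)
            map_mul' := fun x y => Subtype.ext (by
              show α * ((x : G) * y) * α⁻¹ = (α * x * α⁻¹) * (α * y * α⁻¹)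
              group) }
        have hψval : ∀ x : ↥L, ((ψ x : ↥L) : G) = α * x * α⁻¹ := fun x => rfl
        have hψiter : ∀ (m : ℕ) (x : ↥L), ((ψ^[m] x : ↥L) : G) = α ^ m * x * (α ^ m)⁻¹ := by
          intro m
          induction m with
          | zero => intro x; simp
          | succ m ihm =>
            intro x
            rw [Function.iterate_succ_apply', hψval, ihm, pow_succ']
            group
        have hψt : ∀ x : ↥L, ψ^[t'] x = x := by
          intro x
          apply Subtype.ext
          rw [hψiter, hαt]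
          group
        have hne : ∃ x : ↥L, ψ x ≠ x := by
          obtain ⟨a, ha, hne⟩ := hLnc
          refine ⟨⟨a, ha⟩, fun h => hne ?_⟩
          have h1 : α * a * α⁻¹ = a := congrArg Subtype.val h
          calc α * a = (α * a * α⁻¹) * α := by group
            _ = a * α := by rw [h1]
        have hmin : ∀ S : Subgroup ↥L, S ≠ ⊤ → (∀ x ∈ S, ψ x ∈ S) → ∀ x ∈ S, ψ x = x := by
          intro S hS hSinv x hx
          have hle : S.map L.subtype ≤ L := by
            rintro _ ⟨y, _, rfl⟩
            exact y.2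
          have hne' : S.map L.subtype ≠ L := by
            intro h
            apply hS
            rw [eq_top_iff]
            intro y _
            have hy : (y : G) ∈ S.map L.subtype := by rw [h]; exact y.2
            obtain ⟨z, hz, hzy⟩ := hy
            have : z = y := Subtype.ext hzy
            rw [← this]; exact hz
          have hinv' : ∀ a ∈ S.map L.subtype, α * a * α⁻¹ ∈ S.map L.subtype := by
            rintro _ ⟨y, hy, rfl⟩
            exact ⟨ψ y, hSinv y hy, rfl⟩
          have hcen := hex (S.map L.subtype) hle hne' hinv' (x : G) ⟨x, hx, rfl⟩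
          apply Subtype.ext
          rw [hψval, hcen]
          group
        obtain ⟨u, hu, hgen⟩ := abs_cyclic ht ht' hdvd (hP.to_le hLP) ψ hψt hne hmin
        refine ⟨(u : G), hLP u.2, ?_, ?_⟩
        · obtain ⟨i, hi⟩ := Subgroup.mem_zpowers_iff.1 (hgen (ψ u))
          rw [Subgroup.mem_zpowers_iff]
          refine ⟨i, ?_⟩
          have := congrArg Subtype.val hi
          rw [hψval] at this
          rw [← this]
          simp
        · intro h
          apply hu
          apply Subtype.ext
          rw [hψval, h]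
          group
  exact key _ P rfl le_rfl hαP hnc

example : LCycStmt.{0} := lcyc

end Cfsg.Agent.Lib.H2.S3814C1LCyc
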