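import Mathlib
import Cfsg.Agent.Lib.H1.Hall

/-!
# S3814: the reduction to a solvable `σ`-group with `|σ| = 4` (Hall subgroup)

`fin`: the frozen S3814 from the core statement `CoreStmt` for a finite solvable group `H` all of whose prime
divisors lie in a set `σ` of exactly four primes.  Route: a 4-subset `τ ⊆ σ`; `|G| = m n` with `m` the `τ`-part;
`H0` a Hall subgroup of order `m`; an element of order `p q` (`p, q ∈ τ`) generates a subgroup of order prime to `n`,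
so lies in a Hall subgroup (`hall_contain`), which is conjugate to `H0` (`hall_conj`).
-/

set_option autoImplicit false
set_option linter.style.haveILetI false

namespace Cfsg.Agent.Lib.H2.S3814Fin

open Cfsg.Agent.Lib.H1

universe u

/-- the core of S3814: a solvable `σ`-group, `|σ| = 4` -/
def CoreStmt : Prop :=
  ∀ (H : Type u) [Group H] [Finite H], Group.IsSolvable H →
    ∀ σ : Finset ℕ, σ.card = 4 → (∀ p ∈ σ, p.Prime) →
    (∀ p : ℕ, p.Prime → p ∣ Nat.card H → p ∈ σ) →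
    (∀ p ∈ σ, ∀ q ∈ σ, p ≠ q → ∃ g : H, orderOf g = p * q) →
    (∀ p ∈ σ, ∀ q ∈ σ, ∀ r ∈ σ, p ≠ q → q ≠ r → p ≠ r → ∀ g : H, orderOf g ≠ p * q * r) → False

/-- `N = m n` with `m` a `τ`-number and `n` a `τ'`-number -/
theorem exists_decomp (τ : Finset ℕ) (N : ℕ) (hN : N ≠ 0) :
    ∃ m n : ℕ, N = m * n ∧ (∀ p : ℕ, p.Prime → p ∣ m → p ∈ τ) ∧
      (∀ p : ℕ, p.Prime → p ∣ n → p ∉ τ) := by
  refine Nat.recOnMul (motive := fun N => N ≠ 0 → ∃ m n : ℕ, N = m * n ∧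
    (∀ p : ℕ, p.Prime → p ∣ m → p ∈ τ) ∧ (∀ p : ℕ, p.Prime → p ∣ n → p ∉ τ)) ?_ ?_ ?_ ?_ N hN
  · intro h; exact absurd rfl h
  · intro _
    exact ⟨1, 1, rfl, fun p hp h => absurd (Nat.dvd_one.1 h) hp.ne_one,
      fun p hp h => absurd (Nat.dvd_one.1 h) hp.ne_one⟩
  · intro p hp _
    by_cases hpτ : p ∈ τ
    · refine ⟨p, 1, (mul_one p).symm, ?_, fun q hq h => absurd (Nat.dvd_one.1 h) hq.ne_one⟩
      intro q hq hd
      rw [(Nat.prime_dvd_prime_iff_eq hq hp).1 hd]; exact hpτ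
    · refine ⟨1, p, (one_mul p).symm, fun q hq h => absurd (Nat.dvd_one.1 h) hq.ne_one, ?_⟩
      intro q hq hd
      rw [(Nat.prime_dvd_prime_iff_eq hq hp).1 hd]; exact hpτ
  · intro a b iha ihb hab
    have ha : a ≠ 0 := fun h => hab (by rw [h, zero_mul])
    have hb : b ≠ 0 := fun h => hab (by rw [h, mul_zero])
    obtain ⟨ma, na, rfl, h1, h2⟩ := iha ha
    obtain ⟨mb, nb, rfl, h3, h4⟩ := ihb hb
    refine ⟨ma * mb, na * nb, by ring, ?_, ?_⟩
    · intro p hp hd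
      rcases (Nat.Prime.dvd_mul hp).1 hd with h | h
      · exact h1 p hp h
      · exact h3 p hp h
    · intro p hp hd
      rcases (Nat.Prime.dvd_mul hp).1 hd with h | h
      · exact h2 p hp h
      · exact h4 p hp h

/-- **(FIN)** the frozen S3814 from the core statement -/
theorem fin (hcore : CoreStmt.{u}) {G : Type u} [Group G] [Finite G]
    (σ : Finset ℕ) (hσ : 4 ≤ σ.card) (hprime : ∀ p ∈ σ, p.Prime)
    (h2 : ∀ p ∈ σ, ∀ q ∈ σ, p ≠ q → ∃ g : G, orderOf g = p * q)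
    (h3 : ∀ p ∈ σ, ∀ q ∈ σ, ∀ r ∈ σ, p ≠ q → q ≠ r → p ≠ r → ∀ g : G, orderOf g ≠ p * q * r) :
    ¬ Group.IsSolvable G := by
  intro hsolv
  haveI := hsolv
  obtain ⟨τ, hτσ, hτ4⟩ := Finset.exists_subset_card_eq hσ
  have hN : Nat.card G ≠ 0 := Nat.card_pos.ne'
  obtain ⟨m, n, hmn, hm, hn⟩ := exists_decomp τ (Nat.card G) hN
  have hcop : m.Coprime n :=
    Nat.coprime_of_dvd fun k hk hkm hkn => hn k hk hkn (hm k hk hkm)
  have hpn : ∀ p ∈ τ, Nat.Coprime p n := by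
    intro p hp
    have hpp : p.Prime := hprime p (hτσ hp)
    exact (Nat.Prime.coprime_iff_not_dvd hpp).2 (fun hd => hn p hpp hd hp)
  obtain ⟨H0, hH0⟩ := hall_exists hmn hcop
  refine hcore ↥H0 inferInstance τ hτ4 (fun p hp => hprime p (hτσ hp)) ?_ ?_ ?_
  · intro p hp hd
    rw [hH0] at hd
    exact hm p hp hd
  · intro p hp q hq hpq
    obtain ⟨g, hg⟩ := h2 p (hτσ hp) q (hτσ hq) hpq
    have hK : (Nat.card (Subgroup.zpowers g)).Coprime n := by
      rw [Nat.card_zpowers, hg]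
      exact Nat.Coprime.mul_left (hpn p hp) (hpn q hq)
    obtain ⟨H', hH', hgH'⟩ := hall_contain hmn hcop (Subgroup.zpowers g) hK
    obtain ⟨x, hx⟩ := hall_conj hmn hcop H' H0 hH' hH0
    have hgmem : g ∈ H' := hgH' (Subgroup.mem_zpowers g)
    have hmem : MulAut.conj x • g ∈ H0 := by
      rw [← hx]
      exact Subgroup.smul_mem_pointwise_smul _ _ _ hgmem
    refine ⟨⟨MulAut.conj x • g, hmem⟩, ?_⟩
    rw [Subgroup.orderOf_mk, MulAut.smul_def, MulEquiv.orderOf_eq, hg]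
  · intro p hp q hq r hr hpq hqr hpr g
    rw [← Subgroup.orderOf_coe]
    exact h3 p (hτσ hp) q (hτσ hq) r (hτσ hr) hpq hqr hpr (g : G)

end Cfsg.Agent.Lib.H2.S3814Fin
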