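import Mathlib
import Cfsg.Agent.Lib.H8.S3814MPDefs

/-!
# S3814, block (MP), piece (K3d): the norm argument

`cp x u n = ∏_{i<n} x^i u x^{-i}`.  For `e ∈ A = ⟨a,b⟩`, `e ≠ 1`, `V`-coloured with `v ≠ 1` in `C_V(e)`:
`w := cp t₁ v s` is fixed by `t₁`, and the norm `N u := cp e u r` has `N w = v ^ r ≠ 1`, because
`N (t₁^i v t₁^{-i})` is fixed by `e` and by `t₁^i e t₁^{-i}`, a rank-2 pair for `0 < i < s` by (K2): (NCF).
So `t₁` is `V`-coloured, by symmetry `W`-coloured: (h1).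
-/

set_option autoImplicit false
set_option linter.style.haveILetI false
set_option linter.unusedSectionVars false

namespace Cfsg.Agent.Lib.H2.S3814MPK3d

open Cfsg.Agent.H7.S3814Defs Cfsg.Agent.Lib.H8.S3814MP

universe u

section cp

variable {G : Type u} [Group G]

/-- `∏_{i<n} x^i u x^{-i}` -/
def cp (x u : G) : ℕ → G
  | 0 => 1
  | n + 1 => cp x u n * (x ^ n * u * (x ^ n)⁻¹)

theorem cp_zero (x u : G) : cp x u 0 = 1 := rfl

theorem cp_succ (x u : G) (n : ℕ) : cp x u (n + 1) = cp x u n * (x ^ n * u * (x ^ n)⁻¹) := rfl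

theorem cp_one (x u : G) : cp x u 1 = u := by
  rw [cp_succ, cp_zero, pow_zero]; group

theorem conj_pow_mem {V : Subgroup G} {x : G} (hx : ∀ u ∈ V, x * u * x⁻¹ ∈ V) (n : ℕ) :
    ∀ u ∈ V, x ^ n * u * (x ^ n)⁻¹ ∈ V := by
  induction n with
  | zero => intro u hu; simpa using hu
  | succ n ih =>
    intro u hu
    have h1 := hx _ (ih u hu)
    have : x ^ (n + 1) * u * (x ^ (n + 1))⁻¹ = x * (x ^ n * u * (x ^ n)⁻¹) * x⁻¹ := by
      rw [pow_succ']; group
    rw [this]; exact h1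

theorem cp_mem {V : Subgroup G} {x u : G} (hx : ∀ u ∈ V, x * u * x⁻¹ ∈ V) (hu : u ∈ V) (n : ℕ) :
    cp x u n ∈ V := by
  induction n with
  | zero => exact V.one_mem
  | succ n ih => rw [cp_succ]; exact V.mul_mem ih (conj_pow_mem hx n u hu)

theorem conj_cp (x u : G) (n : ℕ) : x * cp x u n * x⁻¹ = u⁻¹ * cp x u (n + 1) := by
  induction n with
  | zero => rw [cp_one, cp_zero]; group
  | succ n ih =>
    have h1 : x * cp x u (n + 1) * x⁻¹ =
        (x * cp x u n * x⁻¹) * (x ^ (n + 1) * u * (x ^ (n + 1))⁻¹) := by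
      rw [cp_succ, pow_succ']; group
    rw [h1, ih, cp_succ x u (n + 1), mul_assoc]

theorem cp_fixed {V : Subgroup G} (hcomm : ∀ a ∈ V, ∀ b ∈ V, a * b = b * a) {x u : G}
    (hx : ∀ u ∈ V, x * u * x⁻¹ ∈ V) (hu : u ∈ V) {s : ℕ} (hxs : x ^ s = 1) :
    x * cp x u s = cp x u s * x := by
  have h1 := conj_cp x u s
  rw [cp_succ, hxs] at h1
  have h2 : cp x u s * u = u * cp x u s := hcomm _ (cp_mem hx hu s) _ hu
  have h3 : x * cp x u s * x⁻¹ = cp x u s := by
    rw [h1]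
    have : cp x u s * (1 * u * (1 : G)⁻¹) = cp x u s * u := by group
    rw [this, h2]; group
  calc x * cp x u s = (x * cp x u s * x⁻¹) * x := by group
    _ = cp x u s * x := by rw [h3]

theorem cp_mul {V : Subgroup G} (hcomm : ∀ a ∈ V, ∀ b ∈ V, a * b = b * a) {x u u' : G}
    (hx : ∀ u ∈ V, x * u * x⁻¹ ∈ V) (hu : u ∈ V) (hu' : u' ∈ V) (n : ℕ) :
    cp x (u * u') n = cp x u n * cp x u' n := by
  induction n with
  | zero => simp [cp_zero]
  | succ n ih =>
    rw [cp_succ, cp_succ, cp_succ, ih]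
    have hA := cp_mem hx hu n
    have hB := cp_mem hx hu' n
    have hC := conj_pow_mem hx n u hu
    have hD := conj_pow_mem hx n u' hu'
    have hBC : cp x u' n * (x ^ n * u * (x ^ n)⁻¹) = (x ^ n * u * (x ^ n)⁻¹) * cp x u' n :=
      hcomm _ hB _ hC
    have hsplit : x ^ n * (u * u') * (x ^ n)⁻¹ =
        (x ^ n * u * (x ^ n)⁻¹) * (x ^ n * u' * (x ^ n)⁻¹) := by group
    rw [hsplit]
    calc cp x u n * cp x u' n * ((x ^ n * u * (x ^ n)⁻¹) * (x ^ n * u' * (x ^ n)⁻¹))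
        = cp x u n * (cp x u' n * (x ^ n * u * (x ^ n)⁻¹)) * (x ^ n * u' * (x ^ n)⁻¹) := by
          simp only [mul_assoc]
      _ = cp x u n * ((x ^ n * u * (x ^ n)⁻¹) * cp x u' n) * (x ^ n * u' * (x ^ n)⁻¹) := by
          rw [hBC]
      _ = cp x u n * (x ^ n * u * (x ^ n)⁻¹) * (cp x u' n * (x ^ n * u' * (x ^ n)⁻¹)) := by
          simp only [mul_assoc]

theorem cp_of_comm {x u : G} (h : x * u = u * x) (n : ℕ) : cp x u n = u ^ n := by
  induction n with
  | zero => simp [cp_zero]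
  | succ n ih =>
    have hc : Commute (x ^ n) u := (Commute.pow_left (show Commute x u from h) n)
    have : x ^ n * u * (x ^ n)⁻¹ = u := by
      rw [hc.eq]; group
    rw [cp_succ, ih, this, pow_succ]

theorem cp_comm {f x u : G} (hfx : f * x = x * f) (hfu : f * u = u * f) (n : ℕ) :
    f * cp x u n = cp x u n * f := by
  have c1 : Commute f x := hfx
  have c2 : Commute f u := hfu
  suffices h : Commute f (cp x u n) from h
  induction n with
  | zero => rw [cp_zero]; exact Commute.one_right f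
  | succ n ih =>
    rw [cp_succ]
    have c3 : Commute f (x ^ n) := c1.pow_right n
    exact ih.mul_right ((c3.mul_right c2).mul_right c3.inv_right)

end cp

section aux

variable {G : Type u} [Group G]

/-- in `closure {a, b}` with `a b = b a` everything commutes -/
theorem closure_pair_comm {a b : G} (hab : a * b = b * a) :
    ∀ x ∈ Subgroup.closure ({a, b} : Set G), ∀ y ∈ Subgroup.closure ({a, b} : Set G),
      x * y = y * x := by
  have hk : ∀ x ∈ ({a, b} : Set G), ∀ y ∈ ({a, b} : Set G), x * y = y * x := by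
    intro x hx y hy
    rcases hx with rfl | hx <;> rcases hy with rfl | hy
    · rfl
    · rw [Set.mem_singleton_iff] at hy; rw [hy]; exact hab
    · rw [Set.mem_singleton_iff] at hx; rw [hx]; exact hab.symm
    · rw [Set.mem_singleton_iff] at hx hy; rw [hx, hy]
  intro x hx y hy
  have := (Subgroup.closureCommGroupOfComm hk).mul_comm ⟨x, hx⟩ ⟨y, hy⟩
  exact congrArg Subtype.val this

/-- exponent of `closure {a, b}` for commuting `a, b` of order `t` -/
theorem closure_pair_pow {a b : G} {t : ℕ} (hab : a * b = b * a) (ha : a ^ t = 1) (hb : b ^ t = 1) :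
    ∀ x ∈ Subgroup.closure ({a, b} : Set G), x ^ t = 1 := by
  intro x hx
  induction hx using Subgroup.closure_induction with
  | mem y hy =>
    rcases hy with rfl | hy
    · exact ha
    · rw [Set.mem_singleton_iff] at hy; rw [hy]; exact hb
  | one => exact one_pow t
  | mul y z hy hz ihy ihz =>
    have hc : Commute y z := closure_pair_comm hab y hy z hz
    rw [hc.mul_pow, ihy, ihz, one_mul]
  | inv y _ ih => rw [inv_pow, ih, inv_one]

theorem orderOf_eq_of_pow {x : G} {t : ℕ} (ht : t.Prime) (hx : x ^ t = 1) (h1 : x ≠ 1) :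
    orderOf x = t := by
  have hd : orderOf x ∣ t := orderOf_dvd_of_pow_eq_one hx
  rcases (Nat.dvd_prime ht).1 hd with h | h
  · exact absurd (orderOf_eq_one_iff.1 h) h1
  · exact h

theorem orderOf_conj' (g x : G) : orderOf (g * x * g⁻¹) = orderOf x := by
  rw [← MulAut.conj_apply, MulEquiv.orderOf_eq]

/-- if `g` conjugates `e` into `⟨e⟩` then so does every power of `g` -/
theorem conj_pow_zpowers {g e : G} (h : g * e * g⁻¹ ∈ Subgroup.zpowers e) (n : ℕ) :
    g ^ n * e * (g ^ n)⁻¹ ∈ Subgroup.zpowers e := by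
  obtain ⟨m, hm⟩ := Subgroup.mem_zpowers_iff.1 h
  induction n with
  | zero => simpa using Subgroup.mem_zpowers e
  | succ n ih =>
    obtain ⟨k, hk⟩ := Subgroup.mem_zpowers_iff.1 ih
    have : g ^ (n + 1) * e * (g ^ (n + 1))⁻¹ = g * (g ^ n * e * (g ^ n)⁻¹) * g⁻¹ := by
      rw [pow_succ']; group
    rw [this, ← hk]
    have h2 : g * e ^ k * g⁻¹ = (g * e * g⁻¹) ^ k := by
      rw [conj_zpow]
    rw [h2, ← hm, ← zpow_mul]
    exact Subgroup.zpow_mem_zpowers e _

end aux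

/-- the core: `t₁` is `V`-coloured -/
theorem col_t1 (hL : LineProp.{u}) (hN : NcfProp.{u}) (hK2 : K2Prop.{u})
    {G : Type u} [Group G] [Finite G] {r s : ℕ} {V W X : Subgroup G} (h : Hyp r s V W X)
    {a b c d : G} (ctx : K3Ctx r s X a b c d)
    (y₀ : G) (hy₀ : y₀ ∈ Subgroup.closure ({c, d} : Set G)) (hy₀1 : y₀ ≠ 1)
    (hy₀c : ∀ e ∈ Subgroup.closure ({a, b} : Set G), y₀ * e = e * y₀)
    (t₁ : G) (ht₁ : t₁ ∈ Subgroup.closure ({c, d} : Set G))
    (ht₁n : ¬ ∀ e ∈ Subgroup.closure ({a, b} : Set G), t₁ * e = e * t₁) : Col t₁ V := by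
  obtain ⟨hoa, hob, hab, hbna⟩ := ctx.pab
  obtain ⟨hoc, hod, hcd, hdnc⟩ := ctx.pcd
  have hr := h.hr
  have hs := h.hs
  have hA_X : Subgroup.closure ({a, b} : Set G) ≤ X := by
    rw [Subgroup.closure_le]
    rintro x (rfl | hx)
    · exact ctx.ha
    · rw [Set.mem_singleton_iff] at hx; rw [hx]; exact ctx.hb
  have hT_X : Subgroup.closure ({c, d} : Set G) ≤ X := by
    rw [Subgroup.closure_le]
    rintro x (rfl | hx)
    · exact ctx.hc
    · rw [Set.mem_singleton_iff] at hx; rw [hx]; exact ctx.hd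
  have hAcomm := closure_pair_comm hab
  have hTcomm := closure_pair_comm hcd
  have hApow := closure_pair_pow hab (hoa ▸ pow_orderOf_eq_one a) (hob ▸ pow_orderOf_eq_one b)
  have hTpow := closure_pair_pow hcd (hoc ▸ pow_orderOf_eq_one c) (hod ▸ pow_orderOf_eq_one d)
  -- `X` normalises `V`
  have hnV : ∀ x ∈ X, ∀ u ∈ V, x * u * x⁻¹ ∈ V := by
    intro x hx u hu
    exact ((Subgroup.mem_normalizer_iff.1 (h.normV hx)) u).1 hu
  -- `T` normalises `A`
  have hnA : ∀ t ∈ Subgroup.closure ({c, d} : Set G), ∀ e ∈ Subgroup.closure ({a, b} : Set G),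
      t * e * t⁻¹ ∈ Subgroup.closure ({a, b} : Set G) := by
    have gen : ∀ g : G, g * a * g⁻¹ ∈ Subgroup.closure ({a, b} : Set G) →
        g * b * g⁻¹ ∈ Subgroup.closure ({a, b} : Set G) →
        ∀ e ∈ Subgroup.closure ({a, b} : Set G), g * e * g⁻¹ ∈ Subgroup.closure ({a, b} : Set G) := by
      intro g hga hgb e he
      induction he using Subgroup.closure_induction with
      | mem y hy =>
        rcases hy with rfl | hy
        · exact hga
        · rw [Set.mem_singleton_iff] at hy; rw [hy]; exact hgb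
      | one => simpa using Subgroup.one_mem _
      | mul y z _ _ ihy ihz =>
        have : g * (y * z) * g⁻¹ = (g * y * g⁻¹) * (g * z * g⁻¹) := by group
        rw [this]; exact Subgroup.mul_mem _ ihy ihz
      | inv y _ ih =>
        have : g * y⁻¹ * g⁻¹ = (g * y * g⁻¹)⁻¹ := by group
        rw [this]; exact Subgroup.inv_mem _ ih
    have hle : Subgroup.closure ({c, d} : Set G) ≤
        Subgroup.normalizer ((Subgroup.closure ({a, b} : Set G) : Subgroup G) : Set G) := by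
      rw [Subgroup.closure_le]
      rintro x (rfl | hx)
      · exact Subgroup.mem_normalizer_fintype (gen x ctx.nca ctx.ncb)
      · rw [Set.mem_singleton_iff] at hx; rw [hx]
        exact Subgroup.mem_normalizer_fintype (gen d ctx.nda ctx.ndb)
    intro t ht e he
    exact ((Subgroup.mem_normalizer_iff.1 (hle ht)) e).1 he
  have ht₁X : t₁ ∈ X := hT_X ht₁
  have hy₀X : y₀ ∈ X := hT_X hy₀
  have ht₁1 : t₁ ≠ 1 := by
    rintro rfl
    exact ht₁n (fun e _ => by rw [one_mul, mul_one])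
  have hot₁ : orderOf t₁ = s := orderOf_eq_of_pow hs (hTpow t₁ ht₁) ht₁1
  have hoy₀ : orderOf y₀ = s := orderOf_eq_of_pow hs (hTpow y₀ hy₀) hy₀1
  -- `(t₁, y₀)` is a rank-2 pair
  have hpair : IsRank2Pair s t₁ y₀ := by
    refine ⟨hot₁, hoy₀, hTcomm t₁ ht₁ y₀ hy₀, ?_⟩
    intro hmem
    have hle : Subgroup.zpowers y₀ ≤ Subgroup.zpowers t₁ := by
      rw [Subgroup.zpowers_le]; exact hmem
    haveI : Finite ↥(Subgroup.zpowers t₁) := inferInstance
    have heq : Subgroup.zpowers y₀ = Subgroup.zpowers t₁ :=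
      Subgroup.eq_of_le_of_card_ge hle (by rw [Nat.card_zpowers, Nat.card_zpowers, hot₁, hoy₀])
    have ht₁y : t₁ ∈ Subgroup.zpowers y₀ := by rw [heq]; exact Subgroup.mem_zpowers t₁
    obtain ⟨m, hm⟩ := Subgroup.mem_zpowers_iff.1 ht₁y
    apply ht₁n
    intro e he
    have hc : Commute y₀ e := hy₀c e he
    rw [← hm]
    exact (hc.zpow_left m).eq
  -- a `V`-coloured `e`
  obtain ⟨e, heA, he1, v, hvV, hv1, hev⟩ :=
    hL h hr ctx.ha ctx.hb ctx.pab V le_rfl h.neV (hnV a ctx.ha) (hnV b ctx.hb)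
  have heX : e ∈ X := hA_X heA
  have her : e ^ r = 1 := hApow e heA
  have hoe : orderOf e = r := orderOf_eq_of_pow hr her he1
  have hcolE : Col e V := ⟨v, hvV, hv1, hev⟩
  have hts : t₁ ^ s = 1 := hTpow t₁ ht₁
  -- conjugates of `e` by powers of `t₁`
  have hei_mem : ∀ i : ℕ, t₁ ^ i * e * (t₁ ^ i)⁻¹ ∈ Subgroup.closure ({a, b} : Set G) :=
    fun i => hnA _ (Subgroup.pow_mem _ ht₁ i) e heA
  have hei_nz : ∀ i : ℕ, 0 < i → i < s → t₁ ^ i * e * (t₁ ^ i)⁻¹ ∉ Subgroup.zpowers e := by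
    intro i hi0 his hmem
    have hnd : ¬ s ∣ i := Nat.not_dvd_of_pos_of_lt hi0 his
    have hcop : Nat.Coprime i s := ((Nat.Prime.coprime_iff_not_dvd hs).2 hnd).symm
    obtain ⟨j, -, hj⟩ := Nat.exists_mul_mod_eq_one_of_coprime hcop hs.one_lt
    have hpow : (t₁ ^ i) ^ j = t₁ := by
      rw [← pow_mul, ← pow_mod_orderOf, hot₁, hj, pow_one]
    have h1 := conj_pow_zpowers hmem j
    rw [hpow] at h1
    have h2 : y₀ * e * y₀⁻¹ ∈ Subgroup.zpowers e := by
      have : y₀ * e * y₀⁻¹ = e := by rw [hy₀c e heA]; group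
      rw [this]; exact Subgroup.mem_zpowers e
    exact hK2 h heX hoe hcolE ht₁X hy₀X hpair h1 h2
  -- the averaged vector
  have hnVt : ∀ u ∈ V, t₁ * u * t₁⁻¹ ∈ V := hnV t₁ ht₁X
  have hnVe : ∀ u ∈ V, e * u * e⁻¹ ∈ V := hnV e heX
  have hwV : cp t₁ v s ∈ V := cp_mem hnVt hvV s
  have hwfix : t₁ * cp t₁ v s = cp t₁ v s * t₁ := cp_fixed h.commV hnVt hvV hts
  -- the norm of the conjugates
  have hNci : ∀ i : ℕ, 0 < i → i < s → cp e (t₁ ^ i * v * (t₁ ^ i)⁻¹) r = 1 := by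
    intro i hi0 his
    have hci : t₁ ^ i * v * (t₁ ^ i)⁻¹ ∈ V := conj_pow_mem hnVt i v hvV
    have hoei : orderOf (t₁ ^ i * e * (t₁ ^ i)⁻¹) = r := (orderOf_conj' _ e).trans hoe
    have hcomm1 : e * (t₁ ^ i * e * (t₁ ^ i)⁻¹) = (t₁ ^ i * e * (t₁ ^ i)⁻¹) * e :=
      hAcomm e heA _ (hei_mem i)
    have hfu : (t₁ ^ i * e * (t₁ ^ i)⁻¹) * (t₁ ^ i * v * (t₁ ^ i)⁻¹) =
        (t₁ ^ i * v * (t₁ ^ i)⁻¹) * (t₁ ^ i * e * (t₁ ^ i)⁻¹) := by
      have e1 : (t₁ ^ i * e * (t₁ ^ i)⁻¹) * (t₁ ^ i * v * (t₁ ^ i)⁻¹) =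
          t₁ ^ i * (e * v) * (t₁ ^ i)⁻¹ := by group
      have e2 : (t₁ ^ i * v * (t₁ ^ i)⁻¹) * (t₁ ^ i * e * (t₁ ^ i)⁻¹) =
          t₁ ^ i * (v * e) * (t₁ ^ i)⁻¹ := by group
      rw [e1, e2, hev]
    exact hN h hr heX (hA_X (hei_mem i)) ⟨hoe, hoei, hcomm1, hei_nz i hi0 his⟩
      (cp e (t₁ ^ i * v * (t₁ ^ i)⁻¹) r) (cp_mem hnVe hci r)
      (cp_fixed h.commV hnVe hci her) (cp_comm hcomm1.symm hfu r)
  have hNw : ∀ n : ℕ, 1 ≤ n → n ≤ s → cp e (cp t₁ v n) r = v ^ r := by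
    intro n hn
    induction n, hn using Nat.le_induction with
    | base =>
      intro _
      rw [cp_one]
      exact cp_of_comm hev r
    | succ n hn ih =>
      intro hns
      rw [cp_succ, cp_mul h.commV hnVe (cp_mem hnVt hvV n) (conj_pow_mem hnVt n v hvV) r,
        ih (by omega), hNci n (by omega) (by omega), mul_one]
  -- `v ^ r ≠ 1`
  have hvr : v ^ r ≠ 1 := by
    intro hvr
    have hov : orderOf v = r := orderOf_eq_of_pow hr hvr hv1
    have hd1 : r ∣ Nat.card ↥V := hov ▸ Subgroup.orderOf_dvd_natCard V hvV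
    have hd2 : r ∣ Nat.card ↥X := hoa ▸ Subgroup.orderOf_dvd_natCard X ctx.ha
    have := Nat.dvd_gcd hd1 hd2
    rw [h.copV] at this
    exact hr.one_lt.ne' (Nat.dvd_one.1 this)
  refine ⟨cp t₁ v s, hwV, ?_, hwfix⟩
  intro hw1
  have h1 := hNw s hs.one_lt.le le_rfl
  rw [hw1, cp_of_comm (show e * 1 = 1 * e by rw [mul_one, one_mul]) r, one_pow] at h1
  exact hvr h1.symm

/-- **(K3d)** -/
theorem k3d : K3dStmt.{u} := by
  intro hL hN hK2 G _ _ r s V W X h a b c d ctx y₀ hy₀ hy₀1 hy₀c t₁ ht₁ ht₁n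
  have hT_X : Subgroup.closure ({c, d} : Set G) ≤ X := by
    rw [Subgroup.closure_le]
    rintro x (rfl | hx)
    · exact ctx.hc
    · rw [Set.mem_singleton_iff] at hx; rw [hx]; exact ctx.hd
  have ht₁1 : t₁ ≠ 1 := by
    rintro rfl
    exact ht₁n (fun e _ => by rw [one_mul, mul_one])
  exact h.h1 t₁ (hT_X ht₁) ht₁1
    (col_t1 hL hN hK2 h ctx y₀ hy₀ hy₀1 hy₀c t₁ ht₁ ht₁n)
    (col_t1 hL hN hK2 h.swapVW ctx y₀ hy₀ hy₀1 hy₀c t₁ ht₁ ht₁n)

example : K3dStmt.{0} := k3d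

end Cfsg.Agent.Lib.H2.S3814MPK3d
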