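import Mathlib
import Cfsg.Agent.Lib.H7.S3814Defs
import Cfsg.Agent.Lib.H2.S3814Fin

/-!
# S3814, piece (MIN): a counterexample without a proper subgroup with (J); and the bridge to FIN

* `isCex_subgroup`: (N), solvable, `σ`-group pass to a subgroup with (J);
* `existsMin : ExistsMinStmt` by induction on the order;
* `coreFin_of_core`: helper7's `CoreStmt` gives `S3814Fin.CoreStmt`, hence (`final_of_core`) the frozen S3814.
-/

set_option autoImplicit false
set_option linter.style.haveILetI false

namespace Cfsg.Agent.Lib.H2.S3814Min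

open Cfsg.Agent.H7.S3814Defs

universe u

/-- a subgroup with (J) of a counterexample is a counterexample -/
theorem isCex_subgroup {G : Type u} [Group G] {σ : Finset ℕ} (hG : IsCex G σ) (L : Subgroup G)
    (hL : Pairs ↥L σ) : IsCex ↥L σ := by
  haveI := hG.fin
  haveI := hG.sol
  refine ⟨inferInstance, inferInstance, hG.card4, hG.prime, ?_, hL, ?_⟩
  · intro p hp hd
    exact hG.sgrp p hp (hd.trans (Subgroup.card_subgroup_dvd_card L))
  · intro p hp q hq r hr hpq hqr hpr g
    rw [← Subgroup.orderOf_coe]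
    exact hG.notriple p hp q hq r hr hpq hqr hpr (g : G)

/-- **(MIN)** -/
theorem existsMin : ExistsMinStmt.{u} := by
  have key : ∀ n : ℕ, ∀ (H : Type u) [Group H] (τ : Finset ℕ), Nat.card H = n → IsCex H τ →
      ∃ (G : Type u) (_ : Group G) (σ : Finset ℕ), IsCex G σ ∧ MinSub G σ := by
    intro n
    induction n using Nat.strong_induction_on with
    | _ n ih =>
      intro H _ τ hn hH
      by_cases hmin : MinSub H τ
      · exact ⟨H, inferInstance, τ, hH, hmin⟩
      · unfold MinSub at hmin
        push Not at hmin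
        obtain ⟨L, hL, hLtop⟩ := hmin
        haveI := hH.fin
        have hcard : Nat.card ↥L < n := by
          rw [← hn]
          apply lt_of_le_of_ne (Subgroup.card_le_card_group L)
          intro h
          exact hLtop (Subgroup.eq_top_of_card_eq L h)
        exact ih (Nat.card ↥L) hcard ↥L τ rfl (isCex_subgroup hH L hL)
  intro H _ τ hH
  exact key (Nat.card H) H τ rfl hH

/-- the bridge: helper7's `CoreStmt` is the `CoreStmt` of `S3814Fin` -/
theorem coreFin_of_core (hcore : CoreStmt.{u}) : Cfsg.Agent.Lib.H2.S3814Fin.CoreStmt.{u} := by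
  intro H _ hfin hsol σ h4 hprime hsgrp hpairs hno
  exact hcore H σ ⟨hfin, hsol, h4, hprime, hsgrp, hpairs, hno⟩

/-- the frozen S3814 from helper7's `CoreStmt` -/
theorem final_of_core (hcore : CoreStmt.{u}) {G : Type u} [Group G] [Finite G]
    (σ : Finset ℕ) (hσ : 4 ≤ σ.card) (hprime : ∀ p ∈ σ, p.Prime)
    (h2 : ∀ p ∈ σ, ∀ q ∈ σ, p ≠ q → ∃ g : G, orderOf g = p * q)
    (h3 : ∀ p ∈ σ, ∀ q ∈ σ, ∀ r ∈ σ, p ≠ q → q ≠ r → p ≠ r → ∀ g : G, orderOf g ≠ p * q * r) :
    ¬ Group.IsSolvable G :=
  Cfsg.Agent.Lib.H2.S3814Fin.fin (coreFin_of_core hcore) σ hσ hprime h2 h3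

example : ExistsMinStmt.{0} := existsMin

end Cfsg.Agent.Lib.H2.S3814Min
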