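import Mathlib
import Cfsg.Agent.Lib.H7.S3814Defs2

/-!
# S3814, piece (NSTRUCT): a nontrivial normal `a`-subgroup of a minimal counterexample is elementary abelian
and minimal normal

From (NSYL) (such subgroups have index prime to `a`): a normal `N' ≤ N`, `N' ≠ ⊥`, has `a ∤ |N : N'|`, a power
of `a`, so `N' = N`; applied to `N ⊓ C_G(N)` (nontrivial: the centre of an `a`-group) and to
`{v ∈ N | v ^ a = 1}` (nontrivial: Cauchy).
-/

set_option autoImplicit false
set_option linter.style.haveILetI false

namespace Cfsg.Agent.Lib.H2.S3814NStruct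

open Cfsg.Agent.H7.S3814Defs

universe u

/-- **(NSTRUCT)** -/
theorem nstruct : NormalStructStmt.{u} := by
  intro hNS G _ σ hG hmin a N ha hNn hNbot hNp
  haveI := hG.fin
  haveI : Fact a.Prime := ⟨ha⟩
  haveI := hNn
  -- (i) minimal normality
  have hmin' : ∀ N' : Subgroup G, N'.Normal → N' ≤ N → N' = ⊥ ∨ N' = N := by
    intro N' hN'n hle
    by_cases hbot : N' = ⊥
    · exact Or.inl hbot
    · right
      have hN'p : IsPGroup a N' := hNp.to_le hle
      have hidx : ¬ a ∣ N'.index := hNS G σ hG hmin a N' ha hN'n hbot hN'p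
      have hrel : ¬ a ∣ N'.relIndex N := fun h => hidx (by
        rw [← Subgroup.relIndex_mul_index hle]; exact dvd_mul_of_dvd_left h _)
      obtain ⟨k, hk⟩ := (IsPGroup.iff_card (p := a) (G := ↥N)).1 hNp
      have hdvd : N'.relIndex N ∣ a ^ k := by
        rw [← hk]; exact Subgroup.relIndex_dvd_card (H := N') (K := N)
      obtain ⟨j, _, hrj⟩ := (Nat.dvd_prime_pow ha).1 hdvd
      have hj0 : j = 0 := by
        by_contra h0
        apply hrel
        rw [hrj]
        exact dvd_pow_self a h0
      rw [hj0, pow_zero] at hrj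
      exact le_antisymm hle (Subgroup.relIndex_eq_one.1 hrj)
  haveI hNnt : Nontrivial ↥N := (Subgroup.nontrivial_iff_ne_bot N).2 hNbot
  -- (ii) abelian
  have hab : ∀ v ∈ N, ∀ w ∈ N, v * w = w * v := by
    let Z : Subgroup G := N ⊓ Subgroup.centralizer (N : Set G)
    have hZn : Z.Normal := inferInstance
    have hZle : Z ≤ N := inf_le_left
    have hZbot : Z ≠ ⊥ := by
      haveI : Nontrivial (Subgroup.center ↥N) := hNp.center_nontrivial
      obtain ⟨z, hz⟩ := exists_ne (1 : Subgroup.center ↥N)
      intro hZ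
      have hzmem : ((z : ↥N) : G) ∈ Z := by
        refine ⟨(z : ↥N).2, ?_⟩
        show ((z : ↥N) : G) ∈ Subgroup.centralizer (N : Set G)
        rw [Subgroup.mem_centralizer_iff]
        intro h hh
        have := (Subgroup.mem_center_iff.1 z.2) ⟨h, hh⟩
        exact congrArg Subtype.val this
      rw [hZ, Subgroup.mem_bot] at hzmem
      apply hz
      apply Subtype.ext
      apply Subtype.ext
      exact hzmem
    rcases hmin' Z hZn hZle with h | h
    · exact absurd h hZbot
    · intro v hv w hw
      have hvZ : v ∈ Z := by rw [h]; exact hv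
      have := (Subgroup.mem_centralizer_iff.1 hvZ.2) w hw
      exact this.symm
  -- (iii) exponent `a`
  have hexp : ∀ v ∈ N, v ^ a = 1 := by
    let Ω : Subgroup G :=
      { carrier := {v | v ∈ N ∧ v ^ a = 1}
        one_mem' := ⟨N.one_mem, one_pow a⟩
        mul_mem' := by
          rintro v w ⟨hv, hva⟩ ⟨hw, hwa⟩
          refine ⟨N.mul_mem hv hw, ?_⟩
          have hc : Commute v w := hab v hv w hw
          rw [hc.mul_pow, hva, hwa, one_mul]
        inv_mem' := by
          rintro v ⟨hv, hva⟩
          exact ⟨N.inv_mem hv, by rw [inv_pow, hva, inv_one]⟩ }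
    have hΩmem : ∀ v, v ∈ Ω ↔ (v ∈ N ∧ v ^ a = 1) := fun v => Iff.rfl
    have hΩn : Ω.Normal := by
      constructor
      intro v hv g
      rw [hΩmem] at hv ⊢
      refine ⟨hNn.conj_mem v hv.1 g, ?_⟩
      rw [conj_pow, hv.2, mul_one, mul_inv_cancel]
    have hΩle : Ω ≤ N := fun v hv => hv.1
    have hΩbot : Ω ≠ ⊥ := by
      obtain ⟨k, hk⟩ := (IsPGroup.iff_card (p := a) (G := ↥N)).1 hNp
      have hk0 : k ≠ 0 := by
        rintro rfl
        rw [pow_zero] at hk
        have hlt : 1 < Nat.card ↥N := Finite.one_lt_card_iff_nontrivial.2 hNnt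
        omega
      have hdvd : a ∣ Nat.card ↥N := by rw [hk]; exact dvd_pow_self a hk0
      obtain ⟨x, hx⟩ := exists_prime_orderOf_dvd_card' a hdvd
      intro hΩ
      have hxmem : (x : G) ∈ Ω := by
        refine ⟨x.2, ?_⟩
        have : x ^ a = 1 := by rw [← hx]; exact pow_orderOf_eq_one x
        have := congrArg Subtype.val this
        simpa using this
      rw [hΩ, Subgroup.mem_bot] at hxmem
      have hx1 : x = 1 := Subtype.ext hxmem
      rw [hx1, orderOf_one] at hx
      exact ha.one_lt.ne hx
    rcases hmin' Ω hΩn hΩle with h | h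
    · exact absurd h hΩbot
    · intro v hv
      have : v ∈ Ω := by rw [h]; exact hv
      exact this.2
  exact ⟨⟨hab, hexp⟩, hmin'⟩

example : NormalStructStmt.{0} := nstruct

end Cfsg.Agent.Lib.H2.S3814NStruct
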