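import Mathlib

/-!
# A 3-group of exponent 9 and class 3 with an action of the Frobenius group of order 20
-/

set_option autoImplicit false

namespace Cfsg.Agent.Lib.H2.S43

noncomputable section

/-- The field with 81 elements. -/
abbrev K81 : Type := GaloisField 3 4

theorem k81_three : (3 : K81) = 0 := by
  have := CharP.cast_eq_zero K81 3
  exact_mod_cast this

theorem k81_card : Nat.card K81 = 81 := by
  have := GaloisField.card 3 4 (by norm_num)
  rw [this]; norm_num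

theorem k81_pow (x : K81) : x ^ 81 = x := by
  have : Fintype K81 := Fintype.ofFinite _
  have h := FiniteField.pow_card x
  rwa [← Nat.card_eq_fintype_card, k81_card] at h

theorem k81_add3 (x y : K81) : (x + y) ^ 3 = x ^ 3 + y ^ 3 := by
  have := add_pow_char_pow (p := 3) (n := 1) x y
  simpa using this

theorem k81_add27 (x y : K81) : (x + y) ^ 27 = x ^ 27 + y ^ 27 := by
  have := add_pow_char_pow (p := 3) (n := 3) x y
  norm_num at this
  exact this

/-- The underlying set of the `3`-group: `K81^7`. -/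
@[ext] structure AG where
  u : K81
  v : K81
  p1 : K81
  p2 : K81
  q1 : K81
  q2 : K81
  z : K81

namespace AG

instance : Mul AG := ⟨fun X Y =>
  ⟨X.u + Y.u, X.v + Y.v, X.p1 + Y.p1 + X.u ^ 27 * Y.u, X.p2 + Y.p2 + X.v ^ 27 * Y.u,
    X.q1 + Y.q1 + X.u * Y.v ^ 3, X.q2 + Y.q2 - X.u * Y.u ^ 3,
    X.z + Y.z + X.u ^ 27 * Y.q1 + X.v ^ 27 * Y.q2 + X.p1 * Y.v ^ 3 - X.p2 * Y.u ^ 3⟩⟩

instance : One AG := ⟨⟨0, 0, 0, 0, 0, 0, 0⟩⟩

instance : Inv AG := ⟨fun X =>
  ⟨-X.u, -X.v, -X.p1 + X.u ^ 28, -X.p2 + X.v ^ 27 * X.u, -X.q1 + X.u * X.v ^ 3,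
    -X.q2 - X.u ^ 4,
    -X.z + (X.u ^ 27 * X.q1 + X.v ^ 27 * X.q2 + X.p1 * X.v ^ 3 - X.p2 * X.u ^ 3)
      - (X.u ^ 28 * X.v ^ 3 - X.u ^ 4 * X.v ^ 27)⟩⟩

@[simp] theorem mul_u (X Y : AG) : (X * Y).u = X.u + Y.u := rfl
@[simp] theorem mul_v (X Y : AG) : (X * Y).v = X.v + Y.v := rfl
@[simp] theorem mul_p1 (X Y : AG) : (X * Y).p1 = X.p1 + Y.p1 + X.u ^ 27 * Y.u := rfl
@[simp] theorem mul_p2 (X Y : AG) : (X * Y).p2 = X.p2 + Y.p2 + X.v ^ 27 * Y.u := rfl
@[simp] theorem mul_q1 (X Y : AG) : (X * Y).q1 = X.q1 + Y.q1 + X.u * Y.v ^ 3 := rfl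
@[simp] theorem mul_q2 (X Y : AG) : (X * Y).q2 = X.q2 + Y.q2 - X.u * Y.u ^ 3 := rfl
@[simp] theorem mul_z (X Y : AG) : (X * Y).z =
    X.z + Y.z + X.u ^ 27 * Y.q1 + X.v ^ 27 * Y.q2 + X.p1 * Y.v ^ 3 - X.p2 * Y.u ^ 3 := rfl

@[simp] theorem one_u : (1 : AG).u = 0 := rfl
@[simp] theorem one_v : (1 : AG).v = 0 := rfl
@[simp] theorem one_p1 : (1 : AG).p1 = 0 := rfl
@[simp] theorem one_p2 : (1 : AG).p2 = 0 := rfl
@[simp] theorem one_q1 : (1 : AG).q1 = 0 := rfl
@[simp] theorem one_q2 : (1 : AG).q2 = 0 := rfl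
@[simp] theorem one_z : (1 : AG).z = 0 := rfl

@[simp] theorem inv_u (X : AG) : (X⁻¹).u = -X.u := rfl
@[simp] theorem inv_v (X : AG) : (X⁻¹).v = -X.v := rfl
@[simp] theorem inv_p1 (X : AG) : (X⁻¹).p1 = -X.p1 + X.u ^ 28 := rfl
@[simp] theorem inv_p2 (X : AG) : (X⁻¹).p2 = -X.p2 + X.v ^ 27 * X.u := rfl
@[simp] theorem inv_q1 (X : AG) : (X⁻¹).q1 = -X.q1 + X.u * X.v ^ 3 := rfl
@[simp] theorem inv_q2 (X : AG) : (X⁻¹).q2 = -X.q2 - X.u ^ 4 := rfl
@[simp] theorem inv_z (X : AG) : (X⁻¹).z =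
    -X.z + (X.u ^ 27 * X.q1 + X.v ^ 27 * X.q2 + X.p1 * X.v ^ 3 - X.p2 * X.u ^ 3)
      - (X.u ^ 28 * X.v ^ 3 - X.u ^ 4 * X.v ^ 27) := rfl

instance : Group AG where
  mul_assoc X Y Z := by
    ext <;> simp only [mul_u, mul_v, mul_p1, mul_p2, mul_q1, mul_q2, mul_z, k81_add3, k81_add27]
      <;> ring
  one_mul X := by ext <;> simp
  mul_one X := by ext <;> simp
  inv_mul_cancel X := by
    ext <;> simp only [mul_u, mul_v, mul_p1, mul_p2, mul_q1, mul_q2, mul_z, inv_u, inv_v, inv_p1,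
      inv_p2, inv_q1, inv_q2, inv_z, one_u, one_v, one_p1, one_p2, one_q1, one_q2, one_z] <;> ring


theorem sq_eq (X : AG) : X ^ 2 = X * X := pow_two X

/-- The cube map. -/
theorem cube_eq (X : AG) :
    X ^ 3 = ⟨0, 0, 0, 0, 0, 0, X.u ^ 28 * X.v ^ 3 - X.u ^ 4 * X.v ^ 27⟩ := by
  have e : X ^ 3 = X * X * X := by rw [pow_succ, pow_two]
  rw [e]
  ext <;> simp only [mul_u, mul_v, mul_p1, mul_p2, mul_q1, mul_q2, mul_z, k81_add27]
  · linear_combination X.u * k81_three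
  · linear_combination X.v * k81_three
  · linear_combination (X.p1 + X.u ^ 28) * k81_three
  · linear_combination (X.p2 + X.v ^ 27 * X.u) * k81_three
  · linear_combination (X.q1 + X.u * X.v ^ 3) * k81_three
  · linear_combination (X.q2 - X.u ^ 4) * k81_three
  · linear_combination (X.z + X.u ^ 27 * X.q1 + X.v ^ 27 * X.q2 + X.p1 * X.v ^ 3
      - X.p2 * X.u ^ 3) * k81_three

theorem pow_nine (X : AG) : X ^ 9 = 1 := by
  have e : X ^ 9 = (X ^ 3) ^ 3 := by rw [← pow_mul]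
  rw [e, cube_eq (X ^ 3), cube_eq X]
  ext <;> simp

theorem isPGroup : IsPGroup 3 AG := fun X => ⟨2, by norm_num [pow_nine]⟩

/-- Coordinates. -/
def toTuple (X : AG) : K81 × K81 × K81 × K81 × K81 × K81 × K81 :=
  (X.u, X.v, X.p1, X.p2, X.q1, X.q2, X.z)

theorem toTuple_injective : Function.Injective toTuple := by
  intro X Y h
  simp only [toTuple, Prod.mk.injEq] at h
  obtain ⟨h1, h2, h3, h4, h5, h6, h7⟩ := h
  exact AG.ext h1 h2 h3 h4 h5 h6 h7

instance : Finite AG := Finite.of_injective toTuple toTuple_injective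

instance : Group.IsSolvable AG :=
  haveI : Group.IsNilpotent AG := isPGroup.isNilpotent
  inferInstance

/-- The group of fifth roots of unity. -/
abbrev S5 : Type := rootsOfUnity 5 K81

/-- The value of a root of unity. -/
def cv (c : S5) : K81 := ((c : K81ˣ) : K81)

theorem cv_pow5 (c : S5) : cv c ^ 5 = 1 := by
  have h := c.2
  rw [mem_rootsOfUnity] at h
  have := congrArg (fun x : K81ˣ => (x : K81)) h
  simpa [cv] using this

@[simp] theorem cv_one : cv 1 = 1 := rfl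
@[simp] theorem cv_mul (c d : S5) : cv (c * d) = cv c * cv d := rfl
@[simp] theorem cv_pow (c : S5) (n : ℕ) : cv (c ^ n) = cv c ^ n := by
  simp [cv]

theorem cv_ne_zero (c : S5) : cv c ≠ 0 := Units.ne_zero _

theorem cv_injective : Function.Injective cv := by
  intro c d h
  apply Subtype.ext
  apply Units.ext
  exact h

/-- Scaling by a fifth root of unity, as an endomorphism. -/
def scaleHom (c : S5) : AG →* AG where
  toFun X := ⟨cv c * X.u, cv c * X.v, cv c ^ 3 * X.p1, cv c ^ 3 * X.p2, cv c ^ 4 * X.q1,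
    cv c ^ 4 * X.q2, cv c * X.z⟩
  map_one' := by ext <;> simp
  map_mul' X Y := by
    have hc := cv_pow5 c
    have h28 : cv c ^ 28 = cv c ^ 3 := by
      calc cv c ^ 28 = (cv c ^ 5) ^ 5 * cv c ^ 3 := by ring
        _ = cv c ^ 3 := by rw [hc]; ring
    have h31 : cv c ^ 31 = cv c := by
      calc cv c ^ 31 = (cv c ^ 5) ^ 6 * cv c := by ring
        _ = cv c := by rw [hc]; ring
    have h6 : cv c ^ 6 = cv c := by
      calc cv c ^ 6 = (cv c ^ 5) * cv c := by ring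
        _ = cv c := by rw [hc]; ring
    ext <;> simp only [mul_u, mul_v, mul_p1, mul_p2, mul_q1, mul_q2, mul_z]
    · ring
    · ring
    · linear_combination (-(X.u ^ 27 * Y.u)) * h28
    · linear_combination (-(X.v ^ 27 * Y.u)) * h28
    · ring
    · ring
    · linear_combination (-(X.u ^ 27 * Y.q1 + X.v ^ 27 * Y.q2)) * h31
        + (-(X.p1 * Y.v ^ 3 - X.p2 * Y.u ^ 3)) * h6

theorem scaleHom_injective (c : S5) : Function.Injective (scaleHom c) := by
  intro X Y h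
  have hc := cv_ne_zero c
  have h3 : cv c ^ 3 ≠ 0 := pow_ne_zero _ hc
  have h4 : cv c ^ 4 ≠ 0 := pow_ne_zero _ hc
  have e := AG.ext_iff.1 h
  simp only [scaleHom, MonoidHom.coe_mk, OneHom.coe_mk] at e
  obtain ⟨e1, e2, e3, e4, e5, e6, e7⟩ := e
  exact AG.ext (mul_left_cancel₀ hc e1) (mul_left_cancel₀ hc e2) (mul_left_cancel₀ h3 e3)
    (mul_left_cancel₀ h3 e4) (mul_left_cancel₀ h4 e5) (mul_left_cancel₀ h4 e6)
    (mul_left_cancel₀ hc e7)

/-- The endomorphism induced by a ring endomorphism of the field. -/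
def mapHom (τ : K81 →+* K81) : AG →* AG where
  toFun X := ⟨τ X.u, τ X.v, τ X.p1, τ X.p2, τ X.q1, τ X.q2, τ X.z⟩
  map_one' := by ext <;> simp
  map_mul' X Y := by
    ext <;> simp only [mul_u, mul_v, mul_p1, mul_p2, mul_q1, mul_q2, mul_z, map_add, map_mul,
      map_pow, map_sub]

theorem mapHom_injective (τ : K81 →+* K81) : Function.Injective (mapHom τ) := by
  intro X Y h
  have e := AG.ext_iff.1 h
  simp only [mapHom, MonoidHom.coe_mk, OneHom.coe_mk] at e
  obtain ⟨e1, e2, e3, e4, e5, e6, e7⟩ := e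
  exact AG.ext (τ.injective e1) (τ.injective e2) (τ.injective e3) (τ.injective e4)
    (τ.injective e5) (τ.injective e6) (τ.injective e7)

/-- Scaling as an automorphism. -/
def scaleAut (c : S5) : MulAut AG :=
  MulEquiv.ofBijective (scaleHom c)
    ⟨scaleHom_injective c, Finite.injective_iff_surjective.1 (scaleHom_injective c)⟩

/-- Frobenius as an automorphism. -/
def frobAut : MulAut AG :=
  MulEquiv.ofBijective (mapHom (frobenius K81 3))
    ⟨mapHom_injective _, Finite.injective_iff_surjective.1 (mapHom_injective _)⟩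

@[simp] theorem scaleAut_u (c : S5) (X : AG) : (scaleAut c X).u = cv c * X.u := rfl
@[simp] theorem scaleAut_v (c : S5) (X : AG) : (scaleAut c X).v = cv c * X.v := rfl
@[simp] theorem scaleAut_p1 (c : S5) (X : AG) : (scaleAut c X).p1 = cv c ^ 3 * X.p1 := rfl
@[simp] theorem scaleAut_p2 (c : S5) (X : AG) : (scaleAut c X).p2 = cv c ^ 3 * X.p2 := rfl
@[simp] theorem scaleAut_q1 (c : S5) (X : AG) : (scaleAut c X).q1 = cv c ^ 4 * X.q1 := rfl
@[simp] theorem scaleAut_q2 (c : S5) (X : AG) : (scaleAut c X).q2 = cv c ^ 4 * X.q2 := rfl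
@[simp] theorem scaleAut_z (c : S5) (X : AG) : (scaleAut c X).z = cv c * X.z := rfl

@[simp] theorem frobAut_u (X : AG) : (frobAut X).u = X.u ^ 3 := rfl
@[simp] theorem frobAut_v (X : AG) : (frobAut X).v = X.v ^ 3 := rfl
@[simp] theorem frobAut_p1 (X : AG) : (frobAut X).p1 = X.p1 ^ 3 := rfl
@[simp] theorem frobAut_p2 (X : AG) : (frobAut X).p2 = X.p2 ^ 3 := rfl
@[simp] theorem frobAut_q1 (X : AG) : (frobAut X).q1 = X.q1 ^ 3 := rfl
@[simp] theorem frobAut_q2 (X : AG) : (frobAut X).q2 = X.q2 ^ 3 := rfl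
@[simp] theorem frobAut_z (X : AG) : (frobAut X).z = X.z ^ 3 := rfl

theorem scaleAut_one : scaleAut 1 = 1 := by
  ext X <;> simp

theorem scaleAut_mul (c d : S5) : scaleAut (c * d) = scaleAut c * scaleAut d := by
  ext X <;> simp only [MulAut.mul_apply, scaleAut_u, scaleAut_v, scaleAut_p1, scaleAut_p2,
    scaleAut_q1, scaleAut_q2, scaleAut_z, cv_mul] <;> ring

theorem frob_scale (c : S5) : frobAut * scaleAut c = scaleAut (c ^ 3) * frobAut := by
  ext X <;> simp only [MulAut.mul_apply, scaleAut_u, scaleAut_v, scaleAut_p1, scaleAut_p2,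
    scaleAut_q1, scaleAut_q2, scaleAut_z, frobAut_u, frobAut_v, frobAut_p1, frobAut_p2,
    frobAut_q1, frobAut_q2, frobAut_z, cv_pow] <;> ring

theorem frobAut_pow_four : frobAut ^ 4 = 1 := by
  have e : frobAut ^ 4 = frobAut * (frobAut * (frobAut * frobAut)) := by
    rw [pow_succ, pow_succ, pow_succ, pow_one, mul_assoc, mul_assoc]
  have h : ∀ x : K81, (((x ^ 3) ^ 3) ^ 3) ^ 3 = x := fun x => by
    have e2 : (((x ^ 3) ^ 3) ^ 3) ^ 3 = x ^ 81 := by ring
    rw [e2, k81_pow]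
  rw [e]
  ext X <;> simp only [MulAut.mul_apply, frobAut_u, frobAut_v, frobAut_p1, frobAut_p2,
    frobAut_q1, frobAut_q2, frobAut_z, MulAut.one_apply, h]

end AG

end

end Cfsg.Agent.Lib.H2.S43
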