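import Mathlib
import Cfsg.Agent.Lib.H2.S43A

/-!
# A solvable group with spectrum `{1,2,3,4,5,6,9,12}`
-/

set_option autoImplicit false

namespace Cfsg.Agent.Lib.H2.S43

noncomputable section

open SemidirectProduct
open scoped commutatorElement

section general
variable {N H : Type*} [Group N] [Group H] (φ : H →* MulAut N)

theorem sdp_sq (a : N) (h : H) : (⟨a, h⟩ : N ⋊[φ] H) ^ 2 = ⟨a * φ h a, h ^ 2⟩ := by
  rw [pow_two, pow_two]
  rfl

theorem sdp_inl_pow (a : N) (n : ℕ) : (⟨a, 1⟩ : N ⋊[φ] H) ^ n = ⟨a ^ n, 1⟩ := by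
  have e : (⟨a, 1⟩ : N ⋊[φ] H) = inl a := rfl
  rw [e, ← map_pow]
  rfl

theorem sdp_fpf [Finite N] (h : H) (hf : ∀ n, φ h n = n → n = 1) (a : N) (k : ℕ)
    (hk : h ^ k = 1) : (⟨a, h⟩ : N ⋊[φ] H) ^ k = 1 := by
  have hinj : Function.Injective (fun n : N => n⁻¹ * φ h n) := by
    intro m n hmn
    simp only at hmn
    have h1 : φ h (n * m⁻¹) = n * m⁻¹ := by
      rw [map_mul, map_inv]
      have h2 : φ h m = m * (n⁻¹ * φ h n) := by rw [← hmn]; group
      rw [h2]; group
    have h3 := hf _ h1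
    exact (mul_inv_eq_one.1 h3).symm
  obtain ⟨n, hn⟩ := (Finite.injective_iff_surjective.1 hinj) a
  simp only at hn
  have e : (⟨a, h⟩ : N ⋊[φ] H) = (inl n⁻¹) * inr h * (inl n⁻¹)⁻¹ := by
    rw [← map_inv, inv_inv]
    ext
    · simp [hn]
    · simp
  rw [e, conj_pow, ← map_pow, hk, map_one, mul_one, mul_inv_cancel]

end general

namespace AG

theorem k81_add9 (x y : K81) : (x + y) ^ 9 = x ^ 9 + y ^ 9 := by
  have := add_pow_char_pow (p := 3) (n := 2) x y
  norm_num at this
  exact this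

theorem scaleAut_fpf (c : S5) (hc : c ≠ 1) (X : AG) (h : scaleAut c X = X) : X = 1 := by
  have h5 := cv_pow5 c
  have h1 : cv c ≠ 1 := fun h => hc (cv_injective (by rw [h, cv_one]))
  have h3 : cv c ^ 3 ≠ 1 := by
    intro h3
    apply h1
    calc cv c = cv c ^ 5 * cv c := by rw [h5, one_mul]
      _ = (cv c ^ 3) ^ 2 := by ring
      _ = 1 := by rw [h3]; simp
  have h4 : cv c ^ 4 ≠ 1 := by
    intro h4
    apply h1
    calc cv c = cv c ^ 4 * cv c := by rw [h4, one_mul]
      _ = cv c ^ 5 := by ring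
      _ = 1 := h5
  have key : ∀ (d x : K81), d ≠ 1 → d * x = x → x = 0 := by
    intro d x hd hx
    have : (d - 1) * x = 0 := by rw [sub_mul, hx, one_mul, sub_self]
    rcases mul_eq_zero.1 this with h | h
    · exact absurd (sub_eq_zero.1 h) hd
    · exact h
  have e := AG.ext_iff.1 h
  simp only [scaleAut_u, scaleAut_v, scaleAut_p1, scaleAut_p2, scaleAut_q1, scaleAut_q2,
    scaleAut_z] at e
  obtain ⟨e1, e2, e3, e4, e5, e6, e7⟩ := e
  exact AG.ext (key _ _ h1 e1) (key _ _ h1 e2) (key _ _ h3 e3) (key _ _ h3 e4) (key _ _ h4 e5)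
    (key _ _ h4 e6) (key _ _ h1 e7)

/-- The involutions `x ↦ c x^9` have fixed points of exponent three only. -/
theorem cube_mul_inv (c : S5) (X : AG) : (X * (scaleAut c * frobAut ^ 2) X) ^ 3 = 1 := by
  have h5 := cv_pow5 c
  rw [cube_eq]
  have e : (scaleAut c * frobAut ^ 2) X = scaleAut c (frobAut (frobAut X)) := by
    rw [pow_two]; rfl
  rw [e]
  have hw : ∀ x : K81, (x + cv c * (x ^ 3) ^ 3) ^ 27 = cv c ^ 2 * (x + cv c * (x ^ 3) ^ 3) ^ 3 := by
    intro x
    have e9 : (x + cv c * (x ^ 3) ^ 3) ^ 9 = cv c ^ 4 * (x + cv c * (x ^ 3) ^ 3) := by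
      rw [k81_add9, mul_pow]
      have e1 : ((x ^ 3) ^ 3) ^ 9 = x ^ 81 := by ring
      rw [e1, k81_pow]
      have e2 : cv c ^ 9 = cv c ^ 4 := by
        calc cv c ^ 9 = cv c ^ 5 * cv c ^ 4 := by ring
          _ = cv c ^ 4 := by rw [h5, one_mul]
      rw [e2]
      have e3 : cv c ^ 4 * (cv c * (x ^ 3) ^ 3) = x ^ 9 := by
        calc cv c ^ 4 * (cv c * (x ^ 3) ^ 3) = cv c ^ 5 * x ^ 9 := by ring
          _ = x ^ 9 := by rw [h5, one_mul]
      rw [mul_add, e3]; ring
    have e27 : (x + cv c * (x ^ 3) ^ 3) ^ 27 = ((x + cv c * (x ^ 3) ^ 3) ^ 9) ^ 3 := by ring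
    rw [e27, e9, mul_pow]
    have e12 : (cv c ^ 4) ^ 3 = cv c ^ 2 := by
      calc (cv c ^ 4) ^ 3 = (cv c ^ 5) ^ 2 * cv c ^ 2 := by ring
        _ = cv c ^ 2 := by rw [h5]; ring
    rw [e12]
  ext <;> simp only [one_u, one_v, one_p1, one_p2, one_q1, one_q2, one_z]
  simp only [mul_u, mul_v, scaleAut_u, scaleAut_v, frobAut_u, frobAut_v]
  have e28 : ∀ w : K81, w ^ 28 = w * w ^ 27 := fun w => by ring
  rw [e28, hw, hw]
  ring

theorem frob_pow_scale (k : ℕ) (d : S5) :
    frobAut ^ k * scaleAut d = scaleAut (d ^ 3 ^ k) * frobAut ^ k := by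
  induction k generalizing d with
  | zero => simp
  | succ k ih =>
    rw [pow_succ, mul_assoc, frob_scale, ← mul_assoc, ih, mul_assoc, ← pow_mul, ← pow_succ']

/-- The Frobenius group of order `20` of automorphisms. -/
def Q : Subgroup (MulAut AG) where
  carrier := {h | ∃ (c : S5) (k : ℕ), h = scaleAut c * frobAut ^ k}
  one_mem' := ⟨1, 0, by simp [scaleAut_one]⟩
  mul_mem' := by
    rintro _ _ ⟨c, k, rfl⟩ ⟨d, l, rfl⟩
    refine ⟨c * d ^ 3 ^ k, k + l, ?_⟩
    rw [scaleAut_mul, pow_add, mul_assoc, mul_assoc]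
    congr 1
    rw [← mul_assoc, frob_pow_scale, mul_assoc]
  inv_mem' := by
    rintro _ ⟨c, k, rfl⟩
    refine ⟨(c⁻¹) ^ 3 ^ (3 * k), 3 * k, ?_⟩
    rw [← frob_pow_scale]
    apply inv_eq_of_mul_eq_one_right
    have e : frobAut ^ k * frobAut ^ (3 * k) = 1 := by
      rw [← pow_add]
      have : k + 3 * k = 4 * k := by ring
      rw [this, pow_mul, frobAut_pow_four, one_pow]
    calc scaleAut c * frobAut ^ k * (frobAut ^ (3 * k) * scaleAut c⁻¹)
        = scaleAut c * (frobAut ^ k * frobAut ^ (3 * k)) * scaleAut c⁻¹ := by group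
      _ = 1 := by rw [e, mul_one, ← scaleAut_mul, mul_inv_cancel, scaleAut_one]

theorem mem_Q {h : MulAut AG} : h ∈ Q ↔ ∃ (c : S5) (k : ℕ), h = scaleAut c * frobAut ^ k :=
  Iff.rfl

theorem mem_Q_lt {h : MulAut AG} (hh : h ∈ Q) :
    ∃ (c : S5) (k : ℕ), k < 4 ∧ h = scaleAut c * frobAut ^ k := by
  obtain ⟨c, k, rfl⟩ := hh
  exact ⟨c, k % 4, Nat.mod_lt _ (by norm_num), by rw [← pow_eq_pow_mod k frobAut_pow_four]⟩

theorem scaleAut_pow (c : S5) (n : ℕ) : scaleAut c ^ n = scaleAut (c ^ n) := by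
  induction n with
  | zero => simp [scaleAut_one]
  | succ n ih => rw [pow_succ, pow_succ, ih, scaleAut_mul]

theorem s5_pow5 (c : S5) : c ^ 5 = 1 := by
  apply cv_injective
  rw [cv_pow, cv_pow5, cv_one]

/-- The solvable group. -/
abbrev GS : Type := AG ⋊[Q.subtype] Q

theorem sq_form (c : S5) : (scaleAut c * frobAut ^ 2) ^ 2 = 1 := by
  rw [pow_two]
  calc scaleAut c * frobAut ^ 2 * (scaleAut c * frobAut ^ 2)
      = scaleAut c * (frobAut ^ 2 * scaleAut c) * frobAut ^ 2 := by group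
    _ = 1 := by
      rw [frob_pow_scale, ← mul_assoc, ← scaleAut_mul, mul_assoc, ← pow_add, frobAut_pow_four,
        mul_one]
      have : c * c ^ 3 ^ 2 = 1 := by
        calc c * c ^ 3 ^ 2 = (c ^ 5) ^ 2 := by norm_num; group
          _ = 1 := by rw [s5_pow5, one_pow]
      rw [this, scaleAut_one]

theorem pow_six_of_two (a : AG) (h : Q) (c : S5) (hc : (h : MulAut AG) = scaleAut c * frobAut ^ 2) :
    (⟨a, h⟩ : GS) ^ 6 = 1 := by
  have e6 : (⟨a, h⟩ : GS) ^ 6 = ((⟨a, h⟩ : GS) ^ 2) ^ 3 := by rw [← pow_mul]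
  have h2 : h ^ 2 = 1 := by
    apply Subtype.ext
    rw [Subgroup.coe_pow, hc, sq_form]
    rfl
  rw [e6, sdp_sq, h2, sdp_inl_pow]
  have : (Q.subtype h) a = (scaleAut c * frobAut ^ 2) a := by
    rw [← hc]; rfl
  rw [this, cube_mul_inv]
  rfl

theorem pow_cases (g : GS) : g ^ 9 = 1 ∨ g ^ 5 = 1 ∨ g ^ 12 = 1 := by
  obtain ⟨a, ⟨h, hh⟩⟩ := g
  obtain ⟨c, k, hk, rfl⟩ := mem_Q_lt hh
  interval_cases k
  · -- pure scaling
    by_cases hc : c = 1
    · left
      have e : (⟨scaleAut c * frobAut ^ 0, hh⟩ : Q) = 1 := by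
        apply Subtype.ext
        simp [hc, scaleAut_one]
      rw [e, sdp_inl_pow, pow_nine]
      rfl
    · right; left
      apply sdp_fpf
      · intro n hn
        have : scaleAut c n = n := by
          have e : (Q.subtype ⟨scaleAut c * frobAut ^ 0, hh⟩) n = scaleAut c n := by
            simp
          rw [← e]; exact hn
        exact scaleAut_fpf c hc n this
      · apply Subtype.ext
        rw [Subgroup.coe_pow]
        simp only [pow_zero, mul_one]
        rw [scaleAut_pow, s5_pow5, scaleAut_one]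
        rfl
  · right; right
    have e12 : ∀ x : GS, x ^ 12 = (x ^ 2) ^ 6 := fun x => by rw [← pow_mul]
    rw [e12, sdp_sq]
    apply pow_six_of_two _ _ (c * c ^ 3)
    rw [Subgroup.coe_pow]
    simp only [pow_one]
    rw [pow_two, pow_two]
    calc scaleAut c * frobAut * (scaleAut c * frobAut)
        = scaleAut c * (frobAut * scaleAut c) * frobAut := by group
      _ = scaleAut (c * c ^ 3) * (frobAut * frobAut) := by
        rw [frob_scale, scaleAut_mul]; group
  · right; right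
    have e12 : ∀ x : GS, x ^ 12 = (x ^ 6) ^ 2 := fun x => by rw [← pow_mul]
    rw [e12, pow_six_of_two _ _ c rfl, one_pow]
  · right; right
    have e12 : ∀ x : GS, x ^ 12 = (x ^ 2) ^ 6 := fun x => by rw [← pow_mul]
    rw [e12, sdp_sq]
    apply pow_six_of_two _ _ (c * c ^ 3 ^ 3)
    rw [Subgroup.coe_pow]
    rw [pow_two]
    calc scaleAut c * frobAut ^ 3 * (scaleAut c * frobAut ^ 3)
        = scaleAut c * (frobAut ^ 3 * scaleAut c) * frobAut ^ 3 := by group
      _ = scaleAut (c * c ^ 3 ^ 3) * frobAut ^ 2 := by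
        rw [frob_pow_scale, ← mul_assoc, ← scaleAut_mul, mul_assoc, ← pow_add]
        have : frobAut ^ (3 + 3) = frobAut ^ 2 := by
          rw [pow_eq_pow_mod (3 + 3) frobAut_pow_four]
        rw [this]

theorem GS_orderOf_mem (g : GS) : orderOf g ∈ ({1, 2, 3, 4, 5, 6, 9, 12} : Set ℕ) := by
  rcases pow_cases g with h | h | h
  · have h1 : orderOf g ∈ Nat.divisors 9 :=
      Nat.mem_divisors.2 ⟨orderOf_dvd_of_pow_eq_one h, by norm_num⟩
    have h2 : Nat.divisors 9 = {1, 3, 9} := by decide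
    rw [h2] at h1
    simp only [Finset.mem_insert, Finset.mem_singleton] at h1
    rcases h1 with h1 | h1 | h1 <;> simp [h1]
  · have h1 : orderOf g ∈ Nat.divisors 5 :=
      Nat.mem_divisors.2 ⟨orderOf_dvd_of_pow_eq_one h, by norm_num⟩
    have h2 : Nat.divisors 5 = {1, 5} := by decide
    rw [h2] at h1
    simp only [Finset.mem_insert, Finset.mem_singleton] at h1
    rcases h1 with h1 | h1 <;> simp [h1]
  · have h1 : orderOf g ∈ Nat.divisors 12 :=
      Nat.mem_divisors.2 ⟨orderOf_dvd_of_pow_eq_one h, by norm_num⟩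
    have h2 : Nat.divisors 12 = {1, 2, 3, 4, 6, 12} := by decide
    rw [h2] at h1
    simp only [Finset.mem_insert, Finset.mem_singleton] at h1
    rcases h1 with h1 | h1 | h1 | h1 | h1 | h1 <;> simp [h1]

/-- A primitive fifth root of unity. -/
theorem exists_zeta : ∃ c : S5, c ≠ 1 := by
  have : Fintype K81 := Fintype.ofFinite _
  have hcard : Nat.card K81ˣ = 80 := by
    rw [Nat.card_units, k81_card]
  have : Fintype K81ˣ := Fintype.ofFinite _
  have h5 : 5 ∣ Fintype.card K81ˣ := by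
    rw [← Nat.card_eq_fintype_card, hcard]; norm_num
  have : Fact (Nat.Prime 5) := ⟨by norm_num⟩
  obtain ⟨x, hx⟩ := exists_prime_orderOf_dvd_card 5 h5
  have hx5 : x ^ 5 = 1 := by rw [← hx]; exact pow_orderOf_eq_one x
  refine ⟨⟨x, (mem_rootsOfUnity _ _).2 hx5⟩, ?_⟩
  intro h
  have : x = 1 := congrArg Subtype.val h
  rw [this, orderOf_one] at hx
  norm_num at hx

/-- An element of order `9`. -/
theorem exists_orderOf_nine : ∃ g : GS, orderOf g = 9 := by
  obtain ⟨c, hc⟩ := exists_zeta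
  have h5 := cv_pow5 c
  have h1 : cv c ≠ 1 := fun h => hc (cv_injective (by rw [h, cv_one]))
  set X : AG := ⟨cv c, 1, 0, 0, 0, 0, 0⟩ with hX
  refine ⟨inl X, ?_⟩
  rw [orderOf_injective _ inl_injective]
  have h9 : orderOf X = 3 ^ 2 := by
    apply orderOf_eq_prime_pow
    · rw [pow_one, cube_eq]
      intro h
      have hz := congrArg AG.z h
      simp only [hX, one_z, one_pow, mul_one] at hz
      have e28 : cv c ^ 28 = cv c ^ 3 := by
        calc cv c ^ 28 = (cv c ^ 5) ^ 5 * cv c ^ 3 := by ring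
          _ = cv c ^ 3 := by rw [h5]; ring
      rw [e28] at hz
      have : cv c ^ 3 * (1 - cv c) = 0 := by linear_combination hz
      rcases mul_eq_zero.1 this with h | h
      · exact pow_ne_zero _ (cv_ne_zero c) h
      · exact h1 (sub_eq_zero.1 h).symm
    · norm_num [pow_nine]
  rw [h9]; norm_num

theorem exists_orderOf_five : ∃ g : GS, orderOf g = 5 := by
  obtain ⟨c, hc⟩ := exists_zeta
  have hq : scaleAut c ∈ Q := ⟨c, 0, by simp⟩
  refine ⟨inr ⟨scaleAut c, hq⟩, ?_⟩
  rw [orderOf_injective _ inr_injective]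
  have : Fact (Nat.Prime 5) := ⟨by norm_num⟩
  apply orderOf_eq_prime
  · apply Subtype.ext
    rw [Subgroup.coe_pow]
    show scaleAut c ^ 5 = 1
    rw [scaleAut_pow, s5_pow5, scaleAut_one]
  · intro h
    have h1 : scaleAut c = 1 := congrArg Subtype.val h
    apply hc
    apply cv_injective
    have h2 := congrArg (fun f : MulAut AG => (f ⟨1, 0, 0, 0, 0, 0, 0⟩).u) h1
    simpa using h2

theorem frobAut_sq_ne_one : frobAut ^ 2 ≠ 1 := by
  intro h
  -- then `x^9 = x` for all `x`, impossible in a field with 81 elements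
  have h9 : ∀ x : K81, x ^ 9 = x := by
    intro x
    have h2 := congrArg (fun f : MulAut AG => (f ⟨x, 0, 0, 0, 0, 0, 0⟩).u) h
    simp only [pow_two, MulAut.mul_apply, frobAut_u, MulAut.one_apply] at h2
    calc x ^ 9 = (x ^ 3) ^ 3 := by ring
      _ = x := h2
  have : Fintype K81 := Fintype.ofFinite _
  have hle : Fintype.card K81 ≤ 9 := by
    have hroots := Polynomial.card_roots' ((Polynomial.X : Polynomial K81) ^ 9 - Polynomial.X)
    have hne : ((Polynomial.X : Polynomial K81) ^ 9 - Polynomial.X) ≠ 0 :=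
      FiniteField.X_pow_card_sub_X_ne_zero K81 (by norm_num)
    have hdeg : ((Polynomial.X : Polynomial K81) ^ 9 - Polynomial.X).natDegree = 9 :=
      FiniteField.X_pow_card_sub_X_natDegree_eq K81 (by norm_num)
    have hsub : (Finset.univ : Finset K81).val ≤
        ((Polynomial.X : Polynomial K81) ^ 9 - Polynomial.X).roots := by
      rw [Multiset.le_iff_subset Finset.univ.nodup]
      intro x _
      rw [Polynomial.mem_roots hne]
      simp [h9 x]
    calc Fintype.card K81 = Multiset.card (Finset.univ : Finset K81).val := rfl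
      _ ≤ Multiset.card ((Polynomial.X : Polynomial K81) ^ 9 - Polynomial.X).roots :=
          Multiset.card_le_card hsub
      _ ≤ 9 := hroots.trans (le_of_eq hdeg)
  rw [← Nat.card_eq_fintype_card, k81_card] at hle
  norm_num at hle

theorem exists_orderOf_twelve : ∃ g : GS, orderOf g = 12 := by
  have hq : frobAut ∈ Q := ⟨1, 1, by simp [scaleAut_one]⟩
  set X : AG := ⟨1, 0, 0, 0, 0, 0, 0⟩ with hX
  have hXf : frobAut X = X := by
    ext <;> simp [hX]
  have hX3 : orderOf X = 3 := by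
    have : Fact (Nat.Prime 3) := ⟨by norm_num⟩
    apply orderOf_eq_prime
    · rw [cube_eq]; ext <;> simp [hX]
    · intro h
      have := congrArg AG.u h
      simp [hX] at this
  have hf4 : orderOf (⟨frobAut, hq⟩ : Q) = 2 ^ 2 := by
    apply orderOf_eq_prime_pow
    · intro h
      have : frobAut ^ 2 ^ 1 = 1 := by
        have := congrArg Subtype.val h
        simpa using this
      exact frobAut_sq_ne_one (by simpa using this)
    · apply Subtype.ext
      rw [Subgroup.coe_pow]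
      norm_num
      exact frobAut_pow_four
  have hcomm : Commute (inl X : GS) (inr ⟨frobAut, hq⟩) := by
    show (inl X : GS) * inr ⟨frobAut, hq⟩ = inr ⟨frobAut, hq⟩ * inl X
    apply SemidirectProduct.ext
    · rw [mul_left, mul_left, left_inl, left_inr, right_inl, right_inr, map_one, mul_one,
        one_mul]
      exact hXf.symm
    · simp
  refine ⟨(inl X : GS) * inr ⟨frobAut, hq⟩, ?_⟩
  rw [hcomm.orderOf_mul_eq_mul_orderOf_of_coprime]
  · rw [orderOf_injective _ inl_injective, orderOf_injective _ inr_injective, hX3, hf4]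
    norm_num
  · rw [orderOf_injective _ inl_injective, orderOf_injective _ inr_injective, hX3, hf4]
    norm_num

theorem GS_spectrum : Set.range (orderOf : GS → ℕ) = {1, 2, 3, 4, 5, 6, 9, 12} := by
  apply Set.Subset.antisymm
  · rintro _ ⟨g, rfl⟩
    exact GS_orderOf_mem g
  · obtain ⟨g9, h9⟩ := exists_orderOf_nine
    obtain ⟨g5, h5⟩ := exists_orderOf_five
    obtain ⟨g12, h12⟩ := exists_orderOf_twelve
    intro k hk
    simp only [Set.mem_insert_iff, Set.mem_singleton_iff] at hk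
    rcases hk with rfl | rfl | rfl | rfl | rfl | rfl | rfl | rfl
    · exact ⟨1, orderOf_one⟩
    · exact ⟨g12 ^ 6, by rw [orderOf_pow' _ (by norm_num), h12]; norm_num⟩
    · exact ⟨g12 ^ 4, by rw [orderOf_pow' _ (by norm_num), h12]; norm_num⟩
    · exact ⟨g12 ^ 3, by rw [orderOf_pow' _ (by norm_num), h12]; norm_num⟩
    · exact ⟨g5, h5⟩
    · exact ⟨g12 ^ 2, by rw [orderOf_pow' _ (by norm_num), h12]; norm_num⟩
    · exact ⟨g9, h9⟩
    · exact ⟨g12, h12⟩

theorem scaleAut_inv (c : S5) : (scaleAut c)⁻¹ = scaleAut c⁻¹ := by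
  apply inv_eq_of_mul_eq_one_right
  rw [← scaleAut_mul, mul_inv_cancel, scaleAut_one]

/-- The normal subgroup of scalings. -/
def SQ : Subgroup Q where
  carrier := {x | ∃ c : S5, (x : MulAut AG) = scaleAut c}
  one_mem' := ⟨1, scaleAut_one.symm⟩
  mul_mem' := by
    rintro x y ⟨c, hc⟩ ⟨d, hd⟩
    exact ⟨c * d, by rw [Subgroup.coe_mul, hc, hd, scaleAut_mul]⟩
  inv_mem' := by
    rintro x ⟨c, hc⟩
    exact ⟨c⁻¹, by rw [Subgroup.coe_inv, hc, scaleAut_inv]⟩

theorem commutator_mem_SQ (x y : Q) : ⁅x, y⁆ ∈ SQ := by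
  obtain ⟨c, k, hx⟩ := x.2
  obtain ⟨d, l, hy⟩ := y.2
  refine ⟨c * d ^ 3 ^ k * (d * c ^ 3 ^ l)⁻¹, ?_⟩
  have e1 : (x : MulAut AG) * y = scaleAut (c * d ^ 3 ^ k) * frobAut ^ (k + l) := by
    rw [hx, hy, scaleAut_mul, pow_add, mul_assoc, mul_assoc]
    congr 1
    rw [← mul_assoc, frob_pow_scale, mul_assoc]
  have e2 : (y : MulAut AG) * x = scaleAut (d * c ^ 3 ^ l) * frobAut ^ (k + l) := by
    rw [hx, hy, scaleAut_mul, add_comm k l, pow_add, mul_assoc, mul_assoc]
    congr 1
    rw [← mul_assoc, frob_pow_scale, mul_assoc]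
  have e3 : ((⁅x, y⁆ : Q) : MulAut AG) = ((x : MulAut AG) * y) * ((y : MulAut AG) * x)⁻¹ := by
    rw [commutatorElement_def]
    simp only [Subgroup.coe_mul, Subgroup.coe_inv]
    group
  rw [e3, e1, e2, scaleAut_mul (c * d ^ 3 ^ k), ← scaleAut_inv]
  group

instance : Group.IsSolvable Q := by
  rw [Group.isSolvable_def]
  refine ⟨2, ?_⟩
  have h1 : derivedSeries Q 1 ≤ SQ := by
    rw [derivedSeries_succ, derivedSeries_zero, Subgroup.commutator_le]
    intro x _ y _
    exact commutator_mem_SQ x y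
  have h2 : ⁅SQ, SQ⁆ = ⊥ := by
    rw [Subgroup.commutator_eq_bot_iff_le_centralizer]
    rintro x ⟨c, hc⟩
    rw [Subgroup.mem_centralizer_iff]
    rintro y ⟨d, hd⟩
    apply Subtype.ext
    rw [Subgroup.coe_mul, Subgroup.coe_mul, hc, hd, ← scaleAut_mul, ← scaleAut_mul, mul_comm]
  rw [derivedSeries_succ, eq_bot_iff, ← h2]
  exact Subgroup.commutator_mono h1 h1

instance : Group.IsSolvable GS :=
  Group.isSolvable_of_ker_le_range (SemidirectProduct.inl : AG →* GS)
    (SemidirectProduct.rightHom : GS →* Q)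
    (le_of_eq SemidirectProduct.range_inl_eq_ker_rightHom.symm)

instance : Finite GS := Finite.of_equiv _ (SemidirectProduct.equivProd).symm

end AG

end

end Cfsg.Agent.Lib.H2.S43
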