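import Mathlib
import Cfsg.Prelude.Def_Classical

/-!
# The spectrum of `PSp(4,3)`: `{1,2,3,4,5,6,9,12}`
-/

set_option autoImplicit false
set_option linter.unusedSectionVars false

namespace Cfsg.Agent.Lib.H2.S43

open Matrix Polynomial

section charpoly
variable {R : Type*} [CommRing R] [Nontrivial R]

/-- The characteristic polynomial of a symplectic `4 × 4` matrix is palindromic. -/
theorem sp_charpoly_reverse (M : Matrix (Fin 2 ⊕ Fin 2) (Fin 2 ⊕ Fin 2) R)
    (hM : M ∈ symplecticGroup (Fin 2) R) : M.charpoly.reverse = M.charpoly := by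
  have hdet : M.det = 1 := SymplecticGroup.det_eq_one hM
  have hunit : IsUnit M := by
    rw [Matrix.isUnit_iff_isUnit_det, hdet]; exact isUnit_one
  have h1 := Matrix.charpoly_inv M hunit
  rw [hdet, Ring.inverse_one] at h1
  have hcard : Fintype.card (Fin 2 ⊕ Fin 2) = 4 := by simp
  rw [hcard] at h1
  have h2 : M⁻¹.charpoly = M.charpolyRev := by
    have e : ((-1 : R[X]) ^ 4) = 1 := by norm_num
    rw [h1, e, map_one, one_mul, one_mul]
  rw [Matrix.reverse_charpoly, ← h2, SymplecticGroup.inv_eq_symplectic_inv M hM]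
  rw [Matrix.charpoly_mul_comm, ← Matrix.mul_assoc, Matrix.mul_neg, J_squared, neg_neg,
    Matrix.one_mul, Matrix.charpoly_transpose]

/-- Cayley–Hamilton for symplectic `4 × 4` matrices. -/
theorem sp_cayley (M : Matrix (Fin 2 ⊕ Fin 2) (Fin 2 ⊕ Fin 2) R)
    (hM : M ∈ symplecticGroup (Fin 2) R) :
    ∃ a b : R, M ^ 4 = a • M ^ 3 + b • M ^ 2 + a • M - 1 := by
  set p := M.charpoly with hp
  have hdeg : p.natDegree = 4 := by
    rw [hp, Matrix.charpoly_natDegree_eq_dim]; simp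
  have hmonic : p.Monic := Matrix.charpoly_monic M
  have hrev : p.reverse = p := sp_charpoly_reverse M hM
  have hc4 : p.coeff 4 = 1 := by
    have := hmonic.coeff_natDegree
    rwa [hdeg] at this
  have hc0 : p.coeff 0 = 1 := by
    rw [← hrev, Polynomial.coeff_reverse, hdeg, Polynomial.revAt_le (by norm_num)]
    exact hc4
  have hc1 : p.coeff 1 = p.coeff 3 := by
    conv_lhs => rw [← hrev]
    rw [Polynomial.coeff_reverse, hdeg, Polynomial.revAt_le (by norm_num)]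
  have hCH : Polynomial.aeval M p = 0 := Matrix.aeval_self_charpoly M
  rw [Polynomial.aeval_eq_sum_range' (n := 5) (by rw [hdeg]; norm_num)] at hCH
  simp only [Finset.sum_range_succ, Finset.sum_range_zero, zero_add, hc0, hc1, hc4, pow_zero,
    pow_one, one_smul] at hCH
  refine ⟨-p.coeff 3, -p.coeff 2, ?_⟩
  rw [neg_smul, neg_smul, neg_smul]
  have : M ^ 4 = -(1 + p.coeff 3 • M + p.coeff 2 • M ^ 2 + p.coeff 3 • M ^ 3) :=
    eq_neg_of_add_eq_zero_right hCH
  rw [this]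
  abel

/-- Coefficients of `X^n` modulo `X^4 - a X^3 - b X^2 - a X + 1`. -/
def cf4 (a b : R) : ℕ → R × R × R × R
  | 0 => (1, 0, 0, 0)
  | n + 1 => (-(cf4 a b n).2.2.2, (cf4 a b n).1 + a * (cf4 a b n).2.2.2,
      (cf4 a b n).2.1 + b * (cf4 a b n).2.2.2, (cf4 a b n).2.2.1 + a * (cf4 a b n).2.2.2)

theorem pow_eq_cf4 {n : Type*} [Fintype n] [DecidableEq n] (M : Matrix n n R) (a b : R)
    (h : M ^ 4 = a • M ^ 3 + b • M ^ 2 + a • M - 1) (k : ℕ) :
    M ^ k = (cf4 a b k).1 • (1 : Matrix n n R) + (cf4 a b k).2.1 • M + (cf4 a b k).2.2.1 • M ^ 2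
      + (cf4 a b k).2.2.2 • M ^ 3 := by
  induction k with
  | zero => simp [cf4]
  | succ k ih =>
    rw [pow_succ, ih]
    simp only [cf4]
    have e3 : M ^ 3 * M = M ^ 4 := by rw [← pow_succ]
    have e2 : M ^ 2 * M = M ^ 3 := by rw [← pow_succ]
    have e1 : M * M = M ^ 2 := (pow_two M).symm
    simp only [add_mul, Matrix.smul_mul, one_mul, e3, e2, e1, h]
    module

end charpoly

theorem cf4_zmod3 : ∀ a b : ZMod 3,
    (cf4 a b 9 = (1, 0, 0, 0) ∨ cf4 a b 9 = (-1, 0, 0, 0)) ∨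
    (cf4 a b 5 = (1, 0, 0, 0) ∨ cf4 a b 5 = (-1, 0, 0, 0)) ∨
    (cf4 a b 12 = (1, 0, 0, 0) ∨ cf4 a b 12 = (-1, 0, 0, 0)) := by
  decide

/-- `Sp(4,3)`. -/
abbrev Sp43 : Type := symplecticGroup (Fin 2) (ZMod 3)

abbrev M43 : Type := Matrix (Fin 2 ⊕ Fin 2) (Fin 2 ⊕ Fin 2) (ZMod 3)

theorem sp43_pow_cases (g : Sp43) :
    ∃ n ∈ ({9, 5, 12} : Finset ℕ), ((g ^ n : Sp43) : M43) = 1 ∨ ((g ^ n : Sp43) : M43) = -1 := by
  obtain ⟨a, b, hab⟩ := sp_cayley (g : M43) g.2
  have key : ∀ n, (cf4 a b n = (1, 0, 0, 0) ∨ cf4 a b n = (-1, 0, 0, 0)) →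
      ((g ^ n : Sp43) : M43) = 1 ∨ ((g ^ n : Sp43) : M43) = -1 := by
    intro n hn
    rw [SubmonoidClass.coe_pow, pow_eq_cf4 _ a b hab n]
    rcases hn with h | h
    · left; rw [h]; simp
    · right; rw [h]; simp
  rcases cf4_zmod3 a b with h | h | h
  · exact ⟨9, by simp, key 9 h⟩
  · exact ⟨5, by simp, key 5 h⟩
  · exact ⟨12, by simp, key 12 h⟩

theorem sp43_mem_center (g : Sp43) (h : (g : M43) = 1 ∨ (g : M43) = -1) :
    g ∈ Subgroup.center Sp43 := by
  rw [Subgroup.mem_center_iff]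
  intro x
  apply Subtype.ext
  rw [Submonoid.coe_mul, Submonoid.coe_mul]
  rcases h with h | h <;> rw [h] <;> simp

theorem mk_pow_eq_one_iff {G : Type*} [Group G] (g : G) (k : ℕ) :
    ((QuotientGroup.mk g : G ⧸ Subgroup.center G)) ^ k = 1 ↔ g ^ k ∈ Subgroup.center G := by
  rw [← QuotientGroup.mk_pow, QuotientGroup.eq_one_iff]

theorem psp43_orderOf_mem (x : Sp43 ⧸ Subgroup.center Sp43) :
    orderOf x ∈ ({1, 2, 3, 4, 5, 6, 9, 12} : Set ℕ) := by
  obtain ⟨g, rfl⟩ := QuotientGroup.mk_surjective x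
  obtain ⟨n, hn, hg⟩ := sp43_pow_cases g
  have hpow : (QuotientGroup.mk g : Sp43 ⧸ Subgroup.center Sp43) ^ n = 1 :=
    (mk_pow_eq_one_iff g n).2 (sp43_mem_center _ hg)
  have hdvd := orderOf_dvd_of_pow_eq_one hpow
  simp only [Finset.mem_insert, Finset.mem_singleton] at hn
  rcases hn with rfl | rfl | rfl
  · have h1 : orderOf (QuotientGroup.mk g : Sp43 ⧸ Subgroup.center Sp43) ∈ Nat.divisors 9 :=
      Nat.mem_divisors.2 ⟨hdvd, by norm_num⟩
    have h2 : Nat.divisors 9 = {1, 3, 9} := by decide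
    rw [h2] at h1
    simp only [Finset.mem_insert, Finset.mem_singleton] at h1
    rcases h1 with h1 | h1 | h1 <;> simp [h1]
  · have h1 : orderOf (QuotientGroup.mk g : Sp43 ⧸ Subgroup.center Sp43) ∈ Nat.divisors 5 :=
      Nat.mem_divisors.2 ⟨hdvd, by norm_num⟩
    have h2 : Nat.divisors 5 = {1, 5} := by decide
    rw [h2] at h1
    simp only [Finset.mem_insert, Finset.mem_singleton] at h1
    rcases h1 with h1 | h1 <;> simp [h1]
  · have h1 : orderOf (QuotientGroup.mk g : Sp43 ⧸ Subgroup.center Sp43) ∈ Nat.divisors 12 :=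
      Nat.mem_divisors.2 ⟨hdvd, by norm_num⟩
    have h2 : Nat.divisors 12 = {1, 2, 3, 4, 6, 12} := by decide
    rw [h2] at h1
    simp only [Finset.mem_insert, Finset.mem_singleton] at h1
    rcases h1 with h1 | h1 | h1 | h1 | h1 | h1 <;> simp [h1]

/-- Symplectic matrices from a decidable check. -/
def spOf (A : M43) (h : A * J (Fin 2) (ZMod 3) * Aᵀ = J (Fin 2) (ZMod 3)) : Sp43 :=
  ⟨A, SymplecticGroup.mem_iff.2 h⟩

def g5m : M43 := Matrix.fromBlocks !![2,2;2,0] !![2,0;0,2] !![1,0;0,1] !![0,0;0,0]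
def g9m : M43 := Matrix.fromBlocks !![0,1;0,0] !![2,0;2,0] !![0,0;1,0] !![0,1;0,2]
def g12m : M43 := Matrix.fromBlocks !![1,0;0,0] !![0,0;0,1] !![2,0;0,2] !![1,0;0,0]
def w1m : M43 := Matrix.fromBlocks !![1,0;0,1] !![0,0;0,0] !![0,0;0,2] !![1,0;0,1]
def w2m : M43 := Matrix.fromBlocks !![1,0;0,1] !![0,0;0,0] !![2,2;2,2] !![1,0;0,1]
def w3m : M43 := Matrix.fromBlocks !![1,0;0,1] !![1,0;0,0] !![0,0;0,0] !![1,0;0,1]

def g5 : Sp43 := spOf g5m (by decide +kernel)
def g9 : Sp43 := spOf g9m (by decide +kernel)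
def g12 : Sp43 := spOf g12m (by decide +kernel)
def w1 : Sp43 := spOf w1m (by decide +kernel)
def w2 : Sp43 := spOf w2m (by decide +kernel)
def w3 : Sp43 := spOf w3m (by decide +kernel)

theorem not_mem_center_of (g w : Sp43) (k : ℕ) (h : (w : M43) * (g : M43) ^ k ≠ (g : M43) ^ k * w) :
    g ^ k ∉ Subgroup.center Sp43 := by
  intro hc
  rw [Subgroup.mem_center_iff] at hc
  apply h
  have := congrArg (fun x : Sp43 => (x : M43)) (hc w)
  simpa [Submonoid.coe_mul, SubmonoidClass.coe_pow] using this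

theorem mem_center_of (g : Sp43) (k : ℕ) (h : (g : M43) ^ k = 1 ∨ (g : M43) ^ k = -1) :
    g ^ k ∈ Subgroup.center Sp43 := by
  apply sp43_mem_center
  rwa [SubmonoidClass.coe_pow]

theorem orderOf_g5 : orderOf (QuotientGroup.mk g5 : Sp43 ⧸ Subgroup.center Sp43) = 5 := by
  have : Fact (Nat.Prime 5) := ⟨by norm_num⟩
  apply orderOf_eq_prime
  · rw [mk_pow_eq_one_iff]
    apply mem_center_of
    show g5m ^ 5 = 1 ∨ g5m ^ 5 = -1
    decide +kernel
  · intro h
    have h1 : (QuotientGroup.mk g5 : Sp43 ⧸ Subgroup.center Sp43) ^ 1 = 1 := by rw [pow_one, h]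
    rw [mk_pow_eq_one_iff] at h1
    revert h1
    apply not_mem_center_of g5 w1 1
    show w1m * g5m ^ 1 ≠ g5m ^ 1 * w1m
    decide +kernel

theorem orderOf_g9 : orderOf (QuotientGroup.mk g9 : Sp43 ⧸ Subgroup.center Sp43) = 9 := by
  have e : (9 : ℕ) = 3 ^ 2 := by norm_num
  rw [e]
  apply orderOf_eq_prime_pow
  · rw [mk_pow_eq_one_iff]
    apply not_mem_center_of g9 w1
    show w1m * g9m ^ 3 ^ 1 ≠ g9m ^ 3 ^ 1 * w1m
    decide +kernel
  · rw [mk_pow_eq_one_iff]
    apply mem_center_of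
    show g9m ^ 3 ^ (1 + 1) = 1 ∨ g9m ^ 3 ^ (1 + 1) = -1
    decide +kernel

theorem orderOf_g12 : orderOf (QuotientGroup.mk g12 : Sp43 ⧸ Subgroup.center Sp43) = 12 := by
  apply orderOf_eq_of_pow_and_pow_div_prime (by norm_num)
  · rw [mk_pow_eq_one_iff]
    apply mem_center_of
    show g12m ^ 12 = 1 ∨ g12m ^ 12 = -1
    decide +kernel
  · intro p hp hd
    have hle : p ≤ 12 := Nat.le_of_dvd (by norm_num) hd
    rw [Ne, mk_pow_eq_one_iff]
    interval_cases p
    all_goals first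
      | (exfalso; revert hp; norm_num; done)
      | (exfalso; revert hd; norm_num; done)
      | skip
    · apply not_mem_center_of g12 w2
      show w2m * g12m ^ (12 / 2) ≠ g12m ^ (12 / 2) * w2m
      decide +kernel
    · apply not_mem_center_of g12 w3
      show w3m * g12m ^ (12 / 3) ≠ g12m ^ (12 / 3) * w3m
      decide +kernel

theorem psp43_spectrum :
    Set.range (orderOf : Sp43 ⧸ Subgroup.center Sp43 → ℕ) = {1, 2, 3, 4, 5, 6, 9, 12} := by
  apply Set.Subset.antisymm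
  · rintro _ ⟨x, rfl⟩
    exact psp43_orderOf_mem x
  · intro k hk
    simp only [Set.mem_insert_iff, Set.mem_singleton_iff] at hk
    rcases hk with rfl | rfl | rfl | rfl | rfl | rfl | rfl | rfl
    · exact ⟨1, orderOf_one⟩
    · exact ⟨_ ^ 6, by rw [orderOf_pow' _ (by norm_num), orderOf_g12]; norm_num⟩
    · exact ⟨_ ^ 4, by rw [orderOf_pow' _ (by norm_num), orderOf_g12]; norm_num⟩
    · exact ⟨_ ^ 3, by rw [orderOf_pow' _ (by norm_num), orderOf_g12]; norm_num⟩
    · exact ⟨_, orderOf_g5⟩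
    · exact ⟨_ ^ 2, by rw [orderOf_pow' _ (by norm_num), orderOf_g12]; norm_num⟩
    · exact ⟨_, orderOf_g9⟩
    · exact ⟨_, orderOf_g12⟩

/-- Ring isomorphisms induce isomorphisms of symplectic groups. -/
noncomputable def spEquiv {R S : Type*} [CommRing R] [CommRing S] (e : R ≃+* S) :
    symplecticGroup (Fin 2) R ≃* symplecticGroup (Fin 2) S where
  toFun g := ⟨(g : Matrix (Fin 2 ⊕ Fin 2) (Fin 2 ⊕ Fin 2) R).map e, SymplecticGroup.map_mem g.2 e⟩
  invFun g := ⟨(g : Matrix (Fin 2 ⊕ Fin 2) (Fin 2 ⊕ Fin 2) S).map e.symm,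
    SymplecticGroup.map_mem g.2 e.symm⟩
  left_inv g := by
    apply Subtype.ext
    ext i j
    simp
  right_inv g := by
    apply Subtype.ext
    ext i j
    simp
  map_mul' x y := by
    apply Subtype.ext
    simp only [Submonoid.coe_mul]
    exact Matrix.map_mul

theorem map_center_mulEquiv {G H : Type*} [Group G] [Group H] (e : G ≃* H) :
    (Subgroup.center G).map e.toMonoidHom = Subgroup.center H := by
  ext y
  rw [Subgroup.mem_map]
  constructor
  · rintro ⟨z, hz, rfl⟩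
    rw [Subgroup.mem_center_iff]
    intro y
    obtain ⟨x, rfl⟩ := e.surjective y
    show e x * e z = e z * e x
    rw [← map_mul, ← map_mul, (Subgroup.mem_center_iff.1 hz) x]
  · intro hy
    refine ⟨e.symm y, ?_, by simp⟩
    rw [Subgroup.mem_center_iff]
    intro x
    apply e.injective
    rw [map_mul, map_mul, e.apply_symm_apply]
    exact (Subgroup.mem_center_iff.1 hy) (e x)

theorem range_orderOf_quot_center_congr {G H : Type*} [Group G] [Group H] (e : G ≃* H) :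
    Set.range (orderOf : G ⧸ Subgroup.center G → ℕ)
      = Set.range (orderOf : H ⧸ Subgroup.center H → ℕ) := by
  have e' : G ⧸ Subgroup.center G ≃* H ⧸ Subgroup.center H :=
    QuotientGroup.congr _ _ e (map_center_mulEquiv e)
  ext k
  constructor
  · rintro ⟨g, rfl⟩
    exact ⟨e' g, (MulEquiv.orderOf_eq e' g)⟩
  · rintro ⟨h, rfl⟩
    exact ⟨e'.symm h, (MulEquiv.orderOf_eq e'.symm h)⟩

/-- The spectrum of `PSp(4,3)`. -/
theorem psp4_spectrum {F : Type*} [Field F] [Fintype F] (hF : Fintype.card F = 3) :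
    Set.range (orderOf : Cfsg.PSp 2 F → ℕ) = {1, 2, 3, 4, 5, 6, 9, 12} := by
  rw [← psp43_spectrum]
  exact range_orderOf_quot_center_congr
    (spEquiv (ZMod.ringEquivOfPrime F Nat.prime_three hF).symm)

end Cfsg.Agent.Lib.H2.S43
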