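import Mathlib
import Cfsg.Prelude.Def_Local
import Cfsg.Agent.Lib.H7.Quasisimple
import Cfsg.Agent.Lib.H7.Components
import Cfsg.Agent.Lib.H20.SFINV
import Cfsg.Agent.S1304

/-!
# S2924 piece KEYb (helper2)

`H` finite, `A ⊴ H` of odd order, `z ∈ H` with `z² = 1` and `C_A(z) = 1` (so `z` inverts `A`), and `C_H(z)` has no
component.  Then every component of `H / A` lies in the image of `C_H(A)`.

Proof: let `K̄` be a component of `H̄ = H/A` not in `C̄ = image of C_H(A)`; `[H̄, z̄] ≤ C̄` (`z` inverts `A`).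
(a) `z̄` normalizes `K̄`: else `K̄` and `K̄^z̄` commute and `[k⁻¹, l] = [k⁻¹ k^z̄, l] ∈ C̄`, so `K̄ = K̄' ≤ C̄`.
(b) `[K̄, z̄] ≤ K̄ ∩ C̄ ≤ Z(K̄)`, so `z̄` centralizes `K̄` (S1304).
(c) every `k̄ ∈ K̄` lifts to an element of `C_H(z)`: if `z l z⁻¹ = l b`, `b ∈ A`, take `l b^((|A|+1)/2)`.
(d) `R = C_L(z)` (`L` the preimage of `K̄`) maps isomorphically onto `K̄` and is subnormal in `C_H(z)`: a component.
-/

set_option autoImplicit false

namespace Cfsg.Agent.Lib.H2.SF

open Cfsg Cfsg.Agent.Lib.H7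
open scoped commutatorElement

variable {H : Type*} [Group H] [Finite H]

/-- Coprime lifting in the special case needed: if `z` inverts the normal subgroup `A` of odd order and
`l⁻¹ z l z⁻¹ ∈ A`, then some element of the coset `l A` commutes with `z`. -/
theorem exists_mem_coset_commute (A : Subgroup H) [A.Normal] (hAodd : Odd (Nat.card A)) {z : H}
    (hz : z * z = 1) (hfix : ∀ a ∈ A, z * a = a * z → a = 1) (l : H)
    (hl : l⁻¹ * (z * l * z⁻¹) ∈ A) : ∃ a ∈ A, z * (l * a) = (l * a) * z := by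
  obtain ⟨n, hn⟩ := hAodd
  set b := l⁻¹ * (z * l * z⁻¹) with hb
  have hbn : b ^ (2 * n + 1) = 1 := by
    have h1 : (⟨b, hl⟩ : A) ^ Nat.card A = 1 := pow_card_eq_one'
    have h2 := congrArg Subtype.val h1
    rw [hn] at h2
    simpa using h2
  set a₀ := b ^ (n + 1) with ha₀
  have ha₀A : a₀ ∈ A := A.pow_mem hl _
  have hinv : z * a₀ * z⁻¹ = a₀⁻¹ :=
    Cfsg.Agent.Lib.H20.SF.conj_eq_inv_of_fpf A hz hfix a₀ ha₀A
  have hsq : a₀ * a₀ = b := by
    rw [ha₀, ← pow_add]
    have : n + 1 + (n + 1) = (2 * n + 1) + 1 := by ring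
    rw [this, pow_succ, hbn, one_mul]
  refine ⟨a₀, ha₀A, ?_⟩
  -- `z l a₀ z⁻¹ = (z l z⁻¹)(z a₀ z⁻¹) = l b a₀⁻¹ = l a₀`
  have h1 : z * l * z⁻¹ = l * b := by rw [hb]; group
  have h2 : z * (l * a₀) * z⁻¹ = l * a₀ := by
    calc z * (l * a₀) * z⁻¹ = (z * l * z⁻¹) * (z * a₀ * z⁻¹) := by group
      _ = l * b * a₀⁻¹ := by rw [h1, hinv]
      _ = l * (a₀ * a₀) * a₀⁻¹ := by rw [hsq]
      _ = l * a₀ := by group
  calc z * (l * a₀) = (z * (l * a₀) * z⁻¹) * z := by group
    _ = (l * a₀) * z := by rw [h2]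

/-- KEYb: every component of `H / A` lies in the image of `C_H(A)`. -/
theorem component_le_map_centralizer (A : Subgroup H) [A.Normal] (hAodd : Odd (Nat.card A)) {z : H}
    (hz : z * z = 1) (hfix : ∀ a ∈ A, z * a = a * z → a = 1)
    (hEz : Cfsg.layer ↥(Subgroup.centralizer ({z} : Set H)) = ⊥)
    (K : Subgroup (H ⧸ A)) (hK : Cfsg.IsComponent K) :
    K ≤ (Subgroup.centralizer (A : Set H)).map (QuotientGroup.mk' A) := by
  classical
  by_contra hKC
  have hπs : Function.Surjective (QuotientGroup.mk' A) := QuotientGroup.mk'_surjective A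
  obtain ⟨Cb, hCb⟩ : ∃ Cb : Subgroup (H ⧸ A),
      Cb = (Subgroup.centralizer (A : Set H)).map (QuotientGroup.mk' A) := ⟨_, rfl⟩
  rw [← hCb] at hKC
  have hCbn : Cb.Normal := by
    rw [hCb]
    exact (inferInstance : (Subgroup.centralizer (A : Set H)).Normal).map _ hπs
  obtain ⟨zb, hzb⟩ : ∃ zb : H ⧸ A, zb = QuotientGroup.mk' A z := ⟨_, rfl⟩
  have hzb2 : zb * zb = 1 := by rw [hzb, ← map_mul, hz, map_one]
  have hzbinv : zb⁻¹ = zb := inv_eq_of_mul_eq_one_left hzb2
  -- `[x, z̄] ∈ C̄`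
  have hF1 : ∀ x : H ⧸ A, x * zb * x⁻¹ * zb⁻¹ ∈ Cb := by
    intro x
    obtain ⟨h, rfl⟩ := hπs x
    rw [hCb, hzb]
    refine ⟨h * z * h⁻¹ * z⁻¹, ?_, by simp⟩
    rw [SetLike.mem_coe, Subgroup.mem_centralizer_iff]
    intro a ha
    exact (Cfsg.Agent.Lib.H20.SF.commutator_centralizes_of_fpf A hz hfix h a ha).symm
  have hKperf : ⁅K, K⁆ = K := component_commutator_self hK
  -- (a) `z̄` normalizes `K̄`
  have hKz : K.map (MulAut.conj zb).toMonoidHom = K := by
    by_contra hne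
    have hcomp := isComponent_map_conj zb hK
    have hcomm : ⁅K, K.map (MulAut.conj zb).toMonoidHom⁆ = ⊥ :=
      components_commute hK hcomp (fun h => hne h.symm)
    apply hKC
    rw [← hKperf, Subgroup.commutator_le]
    intro k hk l hl
    -- `m = z̄ k⁻¹ z̄⁻¹` commutes with `K`
    have hm : zb * k⁻¹ * zb⁻¹ ∈ K.map (MulAut.conj zb).toMonoidHom :=
      ⟨k⁻¹, K.inv_mem hk, by simp [MulAut.conj_apply]⟩
    have hcm : ∀ x ∈ K, x * (zb * k⁻¹ * zb⁻¹) = (zb * k⁻¹ * zb⁻¹) * x := by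
      intro x hx
      have := Subgroup.commutator_mem_commutator hx hm
      rw [hcomm, Subgroup.mem_bot, commutatorElement_def] at this
      have h2 : x * (zb * k⁻¹ * zb⁻¹) = (x * (zb * k⁻¹ * zb⁻¹) * x⁻¹ * (zb * k⁻¹ * zb⁻¹)⁻¹) *
          ((zb * k⁻¹ * zb⁻¹) * x) := by group
      rw [h2, this, one_mul]
    -- `c = k z̄ k⁻¹ z̄⁻¹ ∈ C̄`
    have hc : k * zb * k⁻¹ * zb⁻¹ ∈ Cb := hF1 k
    have hcl : (k * zb * k⁻¹ * zb⁻¹) * l * (k * zb * k⁻¹ * zb⁻¹)⁻¹ * l⁻¹ ∈ Cb := by
      have h1 : l * (k * zb * k⁻¹ * zb⁻¹)⁻¹ * l⁻¹ ∈ Cb := hCbn.conj_mem _ (Cb.inv_mem hc) l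
      have := Cb.mul_mem hc h1
      convert this using 1
      group
    -- `c l c⁻¹ l⁻¹ = k l k⁻¹ l⁻¹`
    have hcalc : (k * zb * k⁻¹ * zb⁻¹) * l * (k * zb * k⁻¹ * zb⁻¹)⁻¹ * l⁻¹ = ⁅k, l⁆ := by
      rw [commutatorElement_def]
      have e1 : k * zb * k⁻¹ * zb⁻¹ = k * (zb * k⁻¹ * zb⁻¹) := by group
      rw [e1]
      have e2 := hcm l hl
      have e3 : k * (zb * k⁻¹ * zb⁻¹) * l * (k * (zb * k⁻¹ * zb⁻¹))⁻¹ * l⁻¹ =
          k * ((zb * k⁻¹ * zb⁻¹) * l) * (zb * k⁻¹ * zb⁻¹)⁻¹ * k⁻¹ * l⁻¹ := by group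
      rw [e3, ← e2]
      group
    rw [← hcalc]
    exact hcl
  have hKz' : ∀ k ∈ K, zb * k * zb⁻¹ ∈ K := by
    intro k hk
    have : zb * k * zb⁻¹ ∈ K.map (MulAut.conj zb).toMonoidHom := ⟨k, hk, by simp [MulAut.conj_apply]⟩
    rwa [hKz] at this
  -- (b) `z̄` centralizes `K̄`
  have hcent : ∀ k ∈ K, zb * k * zb⁻¹ = k := by
    -- the automorphism of `K`
    let α : ↥K ≃* ↥K :=
      { toFun := fun k => ⟨zb * k * zb⁻¹, hKz' k k.2⟩
        invFun := fun k => ⟨zb * k * zb⁻¹, hKz' k k.2⟩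
        left_inv := by
          intro k
          apply Subtype.ext
          show zb * (zb * (k : H ⧸ A) * zb⁻¹) * zb⁻¹ = k
          rw [hzbinv]
          calc zb * (zb * (k : H ⧸ A) * zb) * zb = (zb * zb) * k * (zb * zb) := by group
            _ = k := by rw [hzb2, one_mul, mul_one]
        right_inv := by
          intro k
          apply Subtype.ext
          show zb * (zb * (k : H ⧸ A) * zb⁻¹) * zb⁻¹ = k
          rw [hzbinv]
          calc zb * (zb * (k : H ⧸ A) * zb) * zb = (zb * zb) * k * (zb * zb) := by group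
            _ = k := by rw [hzb2, one_mul, mul_one]
        map_mul' := by
          intro a b
          apply Subtype.ext
          show zb * ((a : H ⧸ A) * b) * zb⁻¹ = zb * a * zb⁻¹ * (zb * b * zb⁻¹)
          group }
    have hperf : commutator ↥K = ⊤ := hK.2.1.commutator_eq_top
    -- `K ∩ C̄` is a proper normal subgroup of `K`, hence central
    have hsub : Cb.subgroupOf K ≤ Subgroup.center ↥K := by
      have : (Cb.subgroupOf K).Normal := hCbn.subgroupOf K
      rcases quasisimple_normal hK.2 (Cb.subgroupOf K) with h | h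
      · exfalso
        apply hKC
        exact Subgroup.subgroupOf_eq_top.1 h
      · exact h
    have hα : ∀ x : ↥K, α x * x⁻¹ ∈ Subgroup.center ↥K := by
      intro x
      apply hsub
      rw [Subgroup.mem_subgroupOf]
      show zb * (x : H ⧸ A) * zb⁻¹ * (x : H ⧸ A)⁻¹ ∈ Cb
      have := Cb.inv_mem (hF1 (x : H ⧸ A))
      convert this using 1
      group
    have hid := Cfsg.Agent.S1304.result hperf α hα
    intro k hk
    have := congrArg Subtype.val (hid ⟨k, hk⟩)
    exact this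
  -- (c), (d): the subgroup `R` of `C_H(z)`
  obtain ⟨Cz, hCz⟩ : ∃ Cz : Subgroup H, Cz = Subgroup.centralizer ({z} : Set H) := ⟨_, rfl⟩
  have hLsub : (K.comap (QuotientGroup.mk' A)).IsSubnormal := hK.1.comap _
  have hRsub : ((K.comap (QuotientGroup.mk' A)).subgroupOf
      (Subgroup.centralizer ({z} : Set H))).IsSubnormal := hLsub.subgroupOf
  -- the homomorphism `R → K̄`
  let f : ↥((K.comap (QuotientGroup.mk' A)).subgroupOf (Subgroup.centralizer ({z} : Set H))) →* ↥K :=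
    { toFun := fun r => ⟨QuotientGroup.mk' A ((r : ↥(Subgroup.centralizer ({z} : Set H))) : H), by
        have := r.2
        rw [Subgroup.mem_subgroupOf, Subgroup.mem_comap] at this
        exact this⟩
      map_one' := by
        apply Subtype.ext
        simp
      map_mul' := by
        intro a b
        apply Subtype.ext
        simp }
  have hfinj : Function.Injective f := by
    rw [injective_iff_map_eq_one]
    intro r hr
    have h1 : QuotientGroup.mk' A ((r : ↥(Subgroup.centralizer ({z} : Set H))) : H) = 1 :=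
      congrArg Subtype.val hr
    rw [QuotientGroup.mk'_apply, QuotientGroup.eq_one_iff] at h1
    have h2 : z * ((r : ↥(Subgroup.centralizer ({z} : Set H))) : H) =
        ((r : ↥(Subgroup.centralizer ({z} : Set H))) : H) * z := by
      have := Subgroup.mem_centralizer_singleton_iff.1 (r : ↥(Subgroup.centralizer ({z} : Set H))).2
      exact this.symm
    have h3 := hfix _ h1 h2
    apply Subtype.ext
    apply Subtype.ext
    exact h3
  have hfsurj : Function.Surjective f := by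
    rintro ⟨k, hk⟩
    obtain ⟨l, rfl⟩ := hπs k
    -- `l⁻¹ z l z⁻¹ ∈ A`
    have hl : l⁻¹ * (z * l * z⁻¹) ∈ A := by
      rw [← QuotientGroup.eq_one_iff, ← QuotientGroup.mk'_apply]
      have := hcent _ hk
      rw [hzb] at this
      simp only [map_mul, map_inv]
      rw [this]
      group
    obtain ⟨a, haA, hcomm⟩ := exists_mem_coset_commute A hAodd hz hfix l hl
    have hπa : QuotientGroup.mk' A (l * a) = QuotientGroup.mk' A l := by
      rw [map_mul]
      have : QuotientGroup.mk' A a = 1 := by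
        rw [QuotientGroup.mk'_apply, QuotientGroup.eq_one_iff]; exact haA
      rw [this, mul_one]
    have hmemC : l * a ∈ Subgroup.centralizer ({z} : Set H) := by
      rw [Subgroup.mem_centralizer_singleton_iff]
      exact hcomm.symm
    have hmemR : (⟨l * a, hmemC⟩ : ↥(Subgroup.centralizer ({z} : Set H))) ∈
        (K.comap (QuotientGroup.mk' A)).subgroupOf (Subgroup.centralizer ({z} : Set H)) := by
      rw [Subgroup.mem_subgroupOf, Subgroup.mem_comap]
      show QuotientGroup.mk' A (l * a) ∈ K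
      rw [hπa]; exact hk
    refine ⟨⟨⟨l * a, hmemC⟩, hmemR⟩, ?_⟩
    apply Subtype.ext
    exact hπa
  have e : ↥((K.comap (QuotientGroup.mk' A)).subgroupOf (Subgroup.centralizer ({z} : Set H))) ≃* ↥K :=
    MulEquiv.ofBijective f ⟨hfinj, hfsurj⟩
  have hRq : IsQuasisimple
      ↥((K.comap (QuotientGroup.mk' A)).subgroupOf (Subgroup.centralizer ({z} : Set H))) :=
    quasisimple_of_mulEquiv e.symm hK.2
  have hRcomp : IsComponent
      ((K.comap (QuotientGroup.mk' A)).subgroupOf (Subgroup.centralizer ({z} : Set H))) :=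
    ⟨hRsub, hRq⟩
  have hle : (K.comap (QuotientGroup.mk' A)).subgroupOf (Subgroup.centralizer ({z} : Set H)) ≤
      Cfsg.layer ↥(Subgroup.centralizer ({z} : Set H)) := le_sSup hRcomp
  rw [hEz, le_bot_iff] at hle
  exact component_ne_bot hRcomp hle

end Cfsg.Agent.Lib.H2.SF
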