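import Mathlib
import Cfsg.Prelude.Def_CaseTheorems
import Cfsg.Agent.Lib.H9.PPrimeCore

/-!
# S2924 piece NORM (helper2): `N_X(Y)` normalizes `W = ⟨O(C_X(y)) : y ∈ Y#⟩`

This is the second conjunct of the frozen statement S2924 verbatim; it needs no hypothesis on `Y`:
conjugation by `g ∈ N_X(Y)` permutes `Y#` and maps `O(C_X(y))` onto `O(C_X(g y g⁻¹))`.
-/

set_option autoImplicit false

namespace Cfsg.Agent.Lib.H2.SF

open Cfsg

variable {X : Type*} [Group X]

/-- Conjugation by `g` as an isomorphism `C_X(y) ≃* C_X(g y g⁻¹)`. -/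
def conjCentEquiv (g y : X) :
    ↥(Subgroup.centralizer ({y} : Set X)) ≃* ↥(Subgroup.centralizer ({g * y * g⁻¹} : Set X)) where
  toFun c := ⟨g * c * g⁻¹, by
    rw [Subgroup.mem_centralizer_singleton_iff]
    have hc : (c : X) * y = y * c := Subgroup.mem_centralizer_singleton_iff.1 c.2
    calc g * c * g⁻¹ * (g * y * g⁻¹) = g * (c * y) * g⁻¹ := by group
      _ = g * (y * c) * g⁻¹ := by rw [hc]
      _ = g * y * g⁻¹ * (g * c * g⁻¹) := by group⟩
  invFun c := ⟨g⁻¹ * c * g, by
    rw [Subgroup.mem_centralizer_singleton_iff]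
    have hc : (c : X) * (g * y * g⁻¹) = g * y * g⁻¹ * c :=
      Subgroup.mem_centralizer_singleton_iff.1 c.2
    calc g⁻¹ * c * g * y = g⁻¹ * (c * (g * y * g⁻¹)) * g := by group
      _ = g⁻¹ * (g * y * g⁻¹ * c) * g := by rw [hc]
      _ = y * (g⁻¹ * c * g) := by group⟩
  left_inv c := by
    apply Subtype.ext
    show g⁻¹ * (g * (c : X) * g⁻¹) * g = c
    group
  right_inv c := by
    apply Subtype.ext
    show g * (g⁻¹ * (c : X) * g) * g⁻¹ = c
    group
  map_mul' a b := by
    apply Subtype.ext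
    show g * ((a : X) * b) * g⁻¹ = g * a * g⁻¹ * (g * b * g⁻¹)
    group

@[simp] theorem conjCentEquiv_coe (g y : X) (c : ↥(Subgroup.centralizer ({y} : Set X))) :
    ((conjCentEquiv g y c : ↥(Subgroup.centralizer ({g * y * g⁻¹} : Set X))) : X) = g * c * g⁻¹ := rfl

/-- Conjugation by `g` maps `O(C_X(y))` onto `O(C_X(g y g⁻¹))` (as subgroups of `X`). -/
theorem oddCore_map_conj (g y : X) :
    ((Cfsg.oddCore ↥(Subgroup.centralizer ({y} : Set X))).map
        (Subgroup.centralizer ({y} : Set X)).subtype).map (MulAut.conj g).toMonoidHom =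
      (Cfsg.oddCore ↥(Subgroup.centralizer ({g * y * g⁻¹} : Set X))).map
        (Subgroup.centralizer ({g * y * g⁻¹} : Set X)).subtype := by
  have h := Cfsg.Agent.Lib.H9.pPrimeCore_map_equiv 2 (conjCentEquiv g y)
  show ((Cfsg.pPrimeCore 2 ↥(Subgroup.centralizer ({y} : Set X))).map
        (Subgroup.centralizer ({y} : Set X)).subtype).map (MulAut.conj g).toMonoidHom =
      (Cfsg.pPrimeCore 2 ↥(Subgroup.centralizer ({g * y * g⁻¹} : Set X))).map
        (Subgroup.centralizer ({g * y * g⁻¹} : Set X)).subtype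
  rw [← h, Subgroup.map_map, Subgroup.map_map]
  congr 1

/-- NORM: the second conjunct of S2924, verbatim. -/
theorem normalizer_le_normalizer_iSup_oddCore (Y : Subgroup X) :
    Subgroup.normalizer (Y : Set X) ≤
      Subgroup.normalizer ((⨆ y : {y : X // y ∈ Y ∧ y ≠ 1},
        (Cfsg.oddCore ↥(Subgroup.centralizer ({(y : X)} : Set X))).map
          (Subgroup.centralizer ({(y : X)} : Set X)).subtype : Subgroup X) : Set X) := by
  have key : ∀ g ∈ Subgroup.normalizer (Y : Set X), ∀ w ∈ (⨆ y : {y : X // y ∈ Y ∧ y ≠ 1},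
        (Cfsg.oddCore ↥(Subgroup.centralizer ({(y : X)} : Set X))).map
          (Subgroup.centralizer ({(y : X)} : Set X)).subtype : Subgroup X),
      g * w * g⁻¹ ∈ (⨆ y : {y : X // y ∈ Y ∧ y ≠ 1},
        (Cfsg.oddCore ↥(Subgroup.centralizer ({(y : X)} : Set X))).map
          (Subgroup.centralizer ({(y : X)} : Set X)).subtype : Subgroup X) := by
    intro g hg w hw
    have hle : (⨆ y : {y : X // y ∈ Y ∧ y ≠ 1},
        (Cfsg.oddCore ↥(Subgroup.centralizer ({(y : X)} : Set X))).map
          (Subgroup.centralizer ({(y : X)} : Set X)).subtype : Subgroup X).map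
          (MulAut.conj g).toMonoidHom ≤
        (⨆ y : {y : X // y ∈ Y ∧ y ≠ 1},
        (Cfsg.oddCore ↥(Subgroup.centralizer ({(y : X)} : Set X))).map
          (Subgroup.centralizer ({(y : X)} : Set X)).subtype : Subgroup X) := by
      rw [Subgroup.map_iSup]
      apply iSup_le
      rintro ⟨y, hyY, hy1⟩
      rw [oddCore_map_conj]
      have hy' : g * y * g⁻¹ ∈ Y ∧ g * y * g⁻¹ ≠ 1 := by
        refine ⟨(Subgroup.mem_normalizer_iff.1 hg y).1 hyY, ?_⟩
        intro h
        apply hy1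
        have : y = g⁻¹ * (g * y * g⁻¹) * g := by group
        rw [this, h]; group
      exact le_iSup (fun y : {y : X // y ∈ Y ∧ y ≠ 1} =>
        (Cfsg.oddCore ↥(Subgroup.centralizer ({(y : X)} : Set X))).map
          (Subgroup.centralizer ({(y : X)} : Set X)).subtype) ⟨g * y * g⁻¹, hy'⟩
    have := hle (Subgroup.mem_map_of_mem (MulAut.conj g).toMonoidHom hw)
    simpa [MulAut.conj_apply] using this
  intro g hg
  rw [Subgroup.mem_normalizer_iff]
  intro h
  constructor
  · exact key g hg h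
  · intro hh
    have := key g⁻¹ (inv_mem hg) _ hh
    have e : g⁻¹ * (g * h * g⁻¹) * g⁻¹⁻¹ = h := by group
    rwa [e] at this

end Cfsg.Agent.Lib.H2.SF
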