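import Mathlib
import Cfsg.Agent.Lib.H19.SGTDefs
import Cfsg.Agent.Lib.H19.FittingCrit
import Cfsg.Agent.Lib.H19.Fpf4Main
import Cfsg.Agent.Lib.H19.HallPi
import Cfsg.Agent.Lib.H1.CoprimeSylow

/-!
# S3795 piece GL1 (helper2): `exists_pgroup_of_sylow_cent`
-/

set_option autoImplicit false
set_option linter.unusedSectionVars false
set_option linter.unusedVariables false

namespace Cfsg.Agent.Lib.H2.SGT

open Module Cfsg Cfsg.Agent.Lib.H19.SG Cfsg.Agent.Lib.H19.SGT Cfsg.Agent.Lib.H19.ModRep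
  Cfsg.Agent.Lib.H1 Cfsg.Agent.Lib.H1.QuadMul

universe u uΓ

section groups

open scoped commutatorElement

/-- **GL1**: an involution `τ` normalizing a solvable subgroup `H` of odd order such that for
every prime `v ≠ t` some Sylow `v`-subgroup of `H` is centralized by `τ`: all commutators
`h⁻¹ τ h τ⁻¹` lie in one `t`-subgroup `S` of `H`. -/
theorem exists_pgroup_of_sylow_cent {Γ : Type u} [Group Γ] [Finite Γ] (H : Subgroup Γ)
    [Group.IsSolvable ↥H] (hodd : (Nat.card H).Coprime 2) (τ : Γ) (hτ2 : τ ^ 2 = 1)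
    (hτH : ∀ h ∈ H, τ * h * τ⁻¹ ∈ H) (t : ℕ) [Fact t.Prime]
    (hsyl : ∀ v : ℕ, v.Prime → v ≠ t → ∃ U : Subgroup Γ, IsSylowOf v H U ∧
      ∀ x ∈ U, τ * x = x * τ) :
    ∃ S : Subgroup Γ, S ≤ H ∧ IsPGroup t S ∧ ∀ h ∈ H, h⁻¹ * τ * h * τ⁻¹ ∈ S := by
  classical
  have ht : t.Prime := Fact.out
  have hτinv : τ⁻¹ = τ := by
    rw [inv_eq_iff_mul_eq_one, ← pow_two, hτ2]
  -- `τ` normalizes `H`
  have hτN : τ ∈ Subgroup.normalizer (H : Set Γ) := by
    rw [Subgroup.mem_normalizer_iff]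
    intro h
    refine ⟨hτH h, fun hh => ?_⟩
    have := hτH _ hh
    have e : τ * (τ * h * τ⁻¹) * τ⁻¹ = (τ * τ) * h * (τ⁻¹ * τ⁻¹) := by group
    rw [e, hτinv, ← pow_two, hτ2] at this
    simpa using this
  have hAH : Subgroup.zpowers τ ≤ Subgroup.normalizer (H : Set Γ) := by
    rw [Subgroup.zpowers_le]; exact hτN
  have hAcard : (Nat.card (Subgroup.zpowers τ)).Coprime (Nat.card H) := by
    rw [Nat.card_zpowers]
    exact Nat.Coprime.coprime_dvd_left (orderOf_dvd_of_pow_eq_one hτ2) hodd.symm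
  have hcop : CoprimeAction (Subgroup.zpowers τ) H := ⟨hAH, hAcard, Or.inr inferInstance⟩
  obtain ⟨S, hS, hAS⟩ := coprime_exists_invariant_sylow hcop t
  have hτS : τ ∈ Subgroup.normalizer (S : Set Γ) := hAS (Subgroup.mem_zpowers τ)
  -- the centralizer of `τ` in `H`
  set C : Subgroup Γ := H ⊓ Subgroup.centralizer {τ} with hC
  have hCsol : Group.IsSolvable ↥C :=
    Group.isSolvable_of_isSolvable_injective (f := Subgroup.inclusion (inf_le_left : C ≤ H))
      (Subgroup.inclusion_injective _)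
  obtain ⟨L, hL⟩ := Cfsg.Agent.Lib.H19.exists_isPiHallOf C ({t}ᶜ : Set ℕ)
  -- `L` is a Hall `t'`-subgroup of `H`
  have hLH : Cfsg.IsPiHallOf ({t}ᶜ : Set ℕ) L H := by
    refine Cfsg.Agent.Lib.H19.IsPiHallOf.trans hL inf_le_left (fun p hp hpπ hd => ?_)
    have hpt : p ≠ t := by simpa using hpπ
    obtain ⟨U, hU, hUτ⟩ := hsyl p hp hpt
    have hUC : U ≤ C := by
      intro x hx
      refine ⟨hU.1 hx, ?_⟩
      show x ∈ Subgroup.centralizer {τ}
      rw [Subgroup.mem_centralizer_iff]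
      intro y hy
      rw [Set.mem_singleton_iff] at hy
      subst hy
      exact hUτ x hx
    have h1 : C.relIndex H ∣ U.relIndex H := Subgroup.relIndex_dvd_of_le_left H hUC
    have h2 : p ∣ U.relIndex H := hd.trans h1
    have h3 : U.relIndex H * Nat.card U = Nat.card H := by
      have := Subgroup.relIndex_mul_relIndex ⊥ U H bot_le hU.1
      rw [Subgroup.relIndex_bot_left, Subgroup.relIndex_bot_left] at this
      rw [mul_comm]; exact this
    have h4 : p ^ ((Nat.card H).factorization p + 1) ∣ Nat.card H := by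
      obtain ⟨c, hc⟩ := h2
      refine ⟨c, ?_⟩
      rw [pow_succ, ← hU.2, ← h3, hc]
      ring
    exact Nat.pow_succ_factorization_not_dvd Nat.card_pos.ne' hp h4
  -- the orders
  obtain ⟨m, n, hmn, hm, hn⟩ :=
    Cfsg.Agent.Lib.H19.exists_pi_decomp ({t}ᶜ : Set ℕ) (Nat.card H) Nat.card_pos.ne'
  have hLcard : Nat.card L = m := ((Cfsg.Agent.Lib.H19.isPiHallOf_iff_card hmn hm hn).1 hLH).2
  have hLle : L ≤ H := hLH.1
  have hm0 : m ≠ 0 := by
    rintro rfl
    rw [zero_mul] at hmn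
    exact Nat.card_pos.ne' hmn
  have hn0 : n ≠ 0 := by
    rintro rfl
    rw [mul_zero] at hmn
    exact Nat.card_pos.ne' hmn
  have htm : ¬ t ∣ m := by
    intro h
    have := hm t ht h
    simp at this
  obtain ⟨k, hk⟩ : ∃ k, n = t ^ k := by
    refine ⟨_, Nat.eq_prime_pow_of_unique_prime_dvd hn0 (fun {d} hd hdn => ?_)⟩
    have := hn d hd hdn
    simpa using this
  have hScard : Nat.card S = n := by
    rw [hS.2, hmn, Nat.factorization_mul hm0 hn0, Finsupp.add_apply,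
      Nat.factorization_eq_zero_of_not_dvd htm, zero_add, hk, Nat.Prime.factorization_pow ht,
      Finsupp.single_eq_same]
  have hcop' : m.Coprime n := Cfsg.Agent.Lib.H19.coprime_of_isPiCard hm hn
  -- `H = L S`
  have hcompl : Subgroup.IsComplement' (L.subgroupOf H) (S.subgroupOf H) := by
    apply Subgroup.isComplement'_of_coprime
    · rw [Nat.card_congr (Subgroup.subgroupOfEquivOfLe hLle).toEquiv,
        Nat.card_congr (Subgroup.subgroupOfEquivOfLe hS.1).toEquiv, hLcard, hScard, ← hmn]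
    · rw [Nat.card_congr (Subgroup.subgroupOfEquivOfLe hLle).toEquiv,
        Nat.card_congr (Subgroup.subgroupOfEquivOfLe hS.1).toEquiv, hLcard, hScard]
      exact hcop'
  refine ⟨S, hS.1, hS.isPGroup, fun h hh => ?_⟩
  obtain ⟨⟨⟨l, hl⟩, ⟨x, hx⟩⟩, hlx⟩ := hcompl.2 ⟨h, hh⟩
  have hlx' : (l : Γ) * (x : Γ) = h := congrArg Subtype.val hlx
  have hlL : (l : Γ) ∈ L := Subgroup.mem_subgroupOf.1 hl
  have hxS : (x : Γ) ∈ S := Subgroup.mem_subgroupOf.1 hx
  have hlτ : τ * (l : Γ) = (l : Γ) * τ := by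
    have h1 : (l : Γ) ∈ C := hL.1 hlL
    have h2 := (Subgroup.mem_centralizer_iff.1 h1.2) τ rfl
    exact h2
  have hconj : τ * (x : Γ) * τ⁻¹ ∈ S := (Subgroup.mem_normalizer_iff.1 hτS _).1 hxS
  have e : h⁻¹ * τ * h * τ⁻¹ = (x : Γ)⁻¹ * (τ * (x : Γ) * τ⁻¹) := by
    rw [← hlx']
    have h3 : (l : Γ)⁻¹ * τ * (l : Γ) = τ := by
      rw [mul_assoc, hlτ]; group
    calc ((l : Γ) * (x : Γ))⁻¹ * τ * ((l : Γ) * (x : Γ)) * τ⁻¹
        = (x : Γ)⁻¹ * ((l : Γ)⁻¹ * τ * (l : Γ)) * (x : Γ) * τ⁻¹ := by group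
      _ = (x : Γ)⁻¹ * (τ * (x : Γ) * τ⁻¹) := by rw [h3]; group
  rw [e]
  exact S.mul_mem (S.inv_mem hxS) hconj

end groups

end Cfsg.Agent.Lib.H2.SGT
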