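import Mathlib
import Cfsg.Agent.Lib.H19.SGTDefs
import Cfsg.Agent.Lib.H19.FittingCrit
import Cfsg.Agent.Lib.H19.Fpf4Main

/-!
# S3795 pieces MIN1–MIN4 (helper2): the structure of a minimal configuration
-/

set_option autoImplicit false
set_option linter.unusedSectionVars false
set_option linter.unusedVariables false

namespace Cfsg.Agent.Lib.H2.SGT

open Module Cfsg Cfsg.Agent.Lib.H19.SG Cfsg.Agent.Lib.H19.SGT Cfsg.Agent.Lib.H19.ModRep
  Cfsg.Agent.Lib.H1 Cfsg.Agent.Lib.H1.QuadMul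

universe u uΓ

section aux

variable {Γ : Type*} [Group Γ]

/-- conjugation by `g` maps `closure L` into itself if it maps `L` into `closure L` -/
theorem min_conj_closure_mem (L : Set Γ) (g : Γ)
    (h : ∀ x ∈ L, g * x * g⁻¹ ∈ Subgroup.closure L) :
    ∀ x ∈ Subgroup.closure L, g * x * g⁻¹ ∈ Subgroup.closure L := by
  intro x hx
  induction hx using Subgroup.closure_induction with
  | mem x hx => exact h x hx
  | one => simp
  | mul x y _ _ hx hy =>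
    have e : g * (x * y) * g⁻¹ = (g * x * g⁻¹) * (g * y * g⁻¹) := by group
    rw [e]; exact mul_mem hx hy
  | inv x _ hx =>
    have e : g * x⁻¹ * g⁻¹ = (g * x * g⁻¹)⁻¹ := by group
    rw [e]; exact inv_mem hx

/-- in a finite group, if `g` conjugates `Q` into itself then so does `g⁻¹` -/
theorem min_conj_inv_mem [Finite Γ] (Q : Subgroup Γ) (g : Γ) (h : ∀ q ∈ Q, g * q * g⁻¹ ∈ Q) :
    ∀ q ∈ Q, g⁻¹ * q * g ∈ Q := by
  have hpow : ∀ i : ℕ, ∀ q ∈ Q, g ^ i * q * (g ^ i)⁻¹ ∈ Q := by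
    intro i
    induction i with
    | zero => intro q hq; simpa using hq
    | succ i ih =>
      intro q hq
      have e : g ^ (i + 1) * q * (g ^ (i + 1))⁻¹ = g * (g ^ i * q * (g ^ i)⁻¹) * g⁻¹ := by
        rw [pow_succ']; group
      rw [e]; exact h _ (ih q hq)
  have hpos : 0 < orderOf g := orderOf_pos g
  have hinv : g ^ (orderOf g - 1) = g⁻¹ := by
    rw [eq_inv_iff_mul_eq_one, ← pow_succ, Nat.sub_add_cancel hpos, pow_orderOf_eq_one]
  intro q hq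
  have := hpow (orderOf g - 1) q hq
  rw [hinv, inv_inv] at this
  exact this

end aux

section ambient

variable {k : Type*} [Field k] {Γ : Type uΓ} [Group Γ] {W : Type*} [AddCommGroup W] [Module k W]

variable {ρ : Representation k Γ W} {s : Γ} {n : ℕ} {Q R : Subgroup Γ} {t u : ℕ}

/-- **MIN1**: `[Q, R] = Q`. -/
theorem min_closure_eq [Finite Γ] [Fact t.Prime] [Fact u.Prime] (htu : t ≠ u)
    (h : Cfg ρ s n Q R t u) (hm : IsMin s Q R) :
    Subgroup.closure {y | ∃ q ∈ Q, ∃ x ∈ R, y = q⁻¹ * (x * q * x⁻¹)} = Q := by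
  have ht : t.Prime := Fact.out
  have hu : u.Prime := Fact.out
  set L : Set Γ := {y | ∃ q ∈ Q, ∃ x ∈ R, y = q⁻¹ * (x * q * x⁻¹)} with hL
  have hle : Subgroup.closure L ≤ Q := by
    rw [Subgroup.closure_le]
    rintro _ ⟨q, hq, x, hx, rfl⟩
    exact Q.mul_mem (Q.inv_mem hq) (h.hRQ x hx q hq)
  by_contra hne
  have hinv : ∀ g : Γ, (∀ q ∈ Q, g * q * g⁻¹ ∈ Q) → (∀ x ∈ R, g * x * g⁻¹ ∈ R) →
      ∀ y ∈ Subgroup.closure L, g * y * g⁻¹ ∈ Subgroup.closure L := by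
    intro g hgQ hgR
    apply min_conj_closure_mem
    rintro _ ⟨q, hq, x, hx, rfl⟩
    apply Subgroup.subset_closure
    exact ⟨g * q * g⁻¹, hgQ q hq, g * x * g⁻¹, hgR x hx, by group⟩
  have hcent : Cent R (Subgroup.closure L) :=
    hm.2 _ hle hne (hinv s h.hsQ h.hsR)
      (fun x hx => hinv x (h.hRQ x hx) (fun y hy => R.mul_mem (R.mul_mem hx hy) (R.inv_mem hx)))
  apply hm.1
  intro x hx q hq
  obtain ⟨c, hc⟩ : ∃ c, c = q⁻¹ * (x * q * x⁻¹) := ⟨_, rfl⟩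
  have hcL : c ∈ Subgroup.closure L := by
    rw [hc]; exact Subgroup.subset_closure ⟨q, hq, x, hx, rfl⟩
  have hcQ : c ∈ Q := hle hcL
  have hxq : x * q * x⁻¹ = q * c := by rw [hc]; group
  have hxc : Commute x c := hcent x hx _ hcL
  have hpow : ∀ i : ℕ, x ^ i * q * (x ^ i)⁻¹ = q * c ^ i := by
    intro i
    induction i with
    | zero => simp
    | succ i ih =>
      have hxci : x * c ^ i = c ^ i * x := (hxc.pow_right i).eq
      calc x ^ (i + 1) * q * (x ^ (i + 1))⁻¹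
          = x * (x ^ i * q * (x ^ i)⁻¹) * x⁻¹ := by rw [pow_succ']; group
        _ = x * (q * c ^ i) * x⁻¹ := by rw [ih]
        _ = (x * q * x⁻¹) * (x * c ^ i) * x⁻¹ := by group
        _ = (q * c) * (c ^ i * x) * x⁻¹ := by rw [hxci, hxq]
        _ = q * (c * c ^ i) := by group
        _ = q * c ^ (i + 1) := by rw [← pow_succ']
  have h1 : c ^ orderOf x = 1 := by
    have := hpow (orderOf x)
    rw [pow_orderOf_eq_one, inv_one, mul_one, one_mul] at this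
    exact (mul_eq_left.mp this.symm)
  have h2 : orderOf c ∣ orderOf x := orderOf_dvd_of_pow_eq_one h1
  obtain ⟨a, ha⟩ := h.hR ⟨x, hx⟩
  have ha' : x ^ u ^ a = 1 := by
    have := congrArg Subtype.val ha
    simpa using this
  obtain ⟨b, hb⟩ := h.hQ ⟨c, hcQ⟩
  have hb' : c ^ t ^ b = 1 := by
    have := congrArg Subtype.val hb
    simpa using this
  have h3 : orderOf c ∣ u ^ a := h2.trans (orderOf_dvd_of_pow_eq_one ha')
  have h4 : orderOf c ∣ t ^ b := orderOf_dvd_of_pow_eq_one hb'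
  have hcop : (t ^ b).Coprime (u ^ a) := Nat.Coprime.pow b a ((Nat.coprime_primes ht hu).2 htu)
  have h5 : orderOf c = 1 := Nat.eq_one_of_dvd_coprimes hcop h4 h3
  have h6 : c = 1 := orderOf_eq_one_iff.mp h5
  have h7 : x * q * x⁻¹ = q := by
    rw [hxq, h6, mul_one]
  calc x * q = (x * q * x⁻¹) * x := by group
    _ = q * x := by rw [h7]

/-- **MIN2**: proper invariant subgroups normalized by `Q` are central in `Q`. -/
theorem min_central [Finite Γ] [Fact t.Prime] [Fact u.Prime] (htu : t ≠ u)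
    (h : Cfg ρ s n Q R t u) (hm : IsMin s Q R) (N : Subgroup Γ) (hNQ : N ≤ Q) (hne : N ≠ Q)
    (hQN : ∀ q ∈ Q, ∀ z ∈ N, q * z * q⁻¹ ∈ N) (hsN : ∀ z ∈ N, s * z * s⁻¹ ∈ N)
    (hRN : ∀ x ∈ R, ∀ z ∈ N, x * z * x⁻¹ ∈ N) : ∀ z ∈ N, ∀ q ∈ Q, z * q = q * z := by
  have hcentN : Cent R N := hm.2 N hNQ hne hsN hRN
  have hgen := min_closure_eq htu h hm
  intro z hz
  have hle : Subgroup.closure {y | ∃ q ∈ Q, ∃ x ∈ R, y = q⁻¹ * (x * q * x⁻¹)} ≤
      Subgroup.centralizer {z} := by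
    rw [Subgroup.closure_le]
    rintro _ ⟨q, hq, x, hx, rfl⟩
    rw [SetLike.mem_coe, Subgroup.mem_centralizer_iff]
    intro y hy
    rw [Set.mem_singleton_iff] at hy
    subst hy
    have h1 : x⁻¹ * y * x = y := by
      have := hcentN x hx y hz
      calc x⁻¹ * y * x = x⁻¹ * (y * x) := by group
        _ = x⁻¹ * (x * y) := by rw [this]
        _ = y := by group
    have hz2 : q * y * q⁻¹ ∈ N := hQN q hq y hz
    have h2 : x * (q * y * q⁻¹) * x⁻¹ = q * y * q⁻¹ := by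
      have := hcentN x hx _ hz2
      rw [this]; group
    have h3 : (x * q * x⁻¹) * y * (x * q * x⁻¹)⁻¹ = q * y * q⁻¹ := by
      calc (x * q * x⁻¹) * y * (x * q * x⁻¹)⁻¹ = x * (q * (x⁻¹ * y * x) * q⁻¹) * x⁻¹ := by group
        _ = q * y * q⁻¹ := by rw [h1, h2]
    have h4 : (x * q * x⁻¹) * y = q * y * q⁻¹ * (x * q * x⁻¹) := by
      rw [← h3]; group
    calc y * (q⁻¹ * (x * q * x⁻¹)) = q⁻¹ * (q * y * q⁻¹ * (x * q * x⁻¹)) := by group
      _ = q⁻¹ * ((x * q * x⁻¹) * y) := by rw [h4]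
      _ = q⁻¹ * (x * q * x⁻¹) * y := by group
  intro q hq
  rw [← hgen] at hq
  have := hle hq
  rw [Subgroup.mem_centralizer_iff] at this
  exact this z rfl

/-- `[Q, Q]` is a proper subgroup of `Q`, invariant under everything normalizing `Q`. -/
theorem min_comm_lt [Finite Γ] [Fact t.Prime] (hQ : IsPGroup t Q) (hQne : Q ≠ ⊥) : ⁅Q, Q⁆ ≠ Q := by
  intro heq
  have hnil : Group.IsNilpotent ↥Q := hQ.isNilpotent
  have hsol : Group.IsSolvable ↥Q := inferInstance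
  have hnt : Nontrivial ↥Q := (Subgroup.nontrivial_iff_ne_bot Q).2 hQne
  have h1 := Group.IsSolvable.commutator_lt_top_of_nontrivial ↥Q
  apply h1.ne
  apply Subgroup.map_injective Q.subtype_injective
  rw [Subgroup.map_subtype_commutator, heq, ← MonoidHom.range_eq_map, Q.range_subtype]

theorem min_comm_conj {Q : Subgroup Γ} (g : Γ) (hg : ∀ q ∈ Q, g * q * g⁻¹ ∈ Q) :
    ∀ z ∈ ⁅Q, Q⁆, g * z * g⁻¹ ∈ ⁅Q, Q⁆ := by
  intro z hz
  have h1 : (⁅Q, Q⁆).map (MulAut.conj g).toMonoidHom ≤ ⁅Q, Q⁆ := by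
    rw [Subgroup.map_commutator]
    apply Subgroup.commutator_mono
    · rintro _ ⟨a, ha, rfl⟩
      exact hg a ha
    · rintro _ ⟨a, ha, rfl⟩
      exact hg a ha
  exact h1 ⟨z, hz, rfl⟩

theorem min_ne_bot (hm : IsMin s Q R) : Q ≠ ⊥ := by
  rintro rfl
  apply hm.1
  intro x _ q hq
  rw [Subgroup.mem_bot] at hq
  subst hq
  simp

/-- **MIN3**: commutators are central. -/
theorem min_comm_central [Finite Γ] [Fact t.Prime] [Fact u.Prime] (htu : t ≠ u)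
    (h : Cfg ρ s n Q R t u) (hm : IsMin s Q R) :
    ∀ a ∈ Q, ∀ b ∈ Q, ∀ q ∈ Q, (a * b * a⁻¹ * b⁻¹) * q = q * (a * b * a⁻¹ * b⁻¹) := by
  have hcen := min_central htu h hm ⁅Q, Q⁆ (Subgroup.commutator_le_self Q)
    (min_comm_lt h.hQ (min_ne_bot hm))
    (fun q hq => min_comm_conj q (fun a ha => Q.mul_mem (Q.mul_mem hq ha) (Q.inv_mem hq)))
    (min_comm_conj s h.hsQ) (fun x hx => min_comm_conj x (h.hRQ x hx))
  intro a ha b hb q hq
  have hab : a * b * a⁻¹ * b⁻¹ ∈ ⁅Q, Q⁆ := by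
    have := Subgroup.commutator_mem_commutator ha hb
    rwa [commutatorElement_def] at this
  exact hcen _ hab q hq

/-- **MIN4**: `t`-th powers are central (so `Q / Z(Q)` is elementary abelian). -/
theorem min_pow_central [Finite Γ] [Fact t.Prime] [Fact u.Prime] (htu : t ≠ u)
    (h : Cfg ρ s n Q R t u) (hm : IsMin s Q R) :
    ∀ a ∈ Q, ∀ q ∈ Q, a ^ t * q = q * a ^ t := by
  classical
  have ht : t.Prime := Fact.out
  have hcc := min_comm_central htu h hm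
  -- the centre of `Q`
  let Z : Set Γ := {z | z ∈ Q ∧ ∀ q ∈ Q, z * q = q * z}
  have hZone : (1 : Γ) ∈ Z := ⟨Q.one_mem, fun q _ => by simp⟩
  have hZmul : ∀ {a b : Γ}, a ∈ Z → b ∈ Z → a * b ∈ Z := by
    intro a b ha hb
    refine ⟨Q.mul_mem ha.1 hb.1, fun q hq => ?_⟩
    calc a * b * q = a * (b * q) := by group
      _ = a * (q * b) := by rw [hb.2 q hq]
      _ = (a * q) * b := by group
      _ = (q * a) * b := by rw [ha.2 q hq]
      _ = q * (a * b) := by group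
  have hZinv : ∀ {a : Γ}, a ∈ Z → a⁻¹ ∈ Z := by
    intro a ha
    refine ⟨Q.inv_mem ha.1, fun q hq => ?_⟩
    have := ha.2 q hq
    calc a⁻¹ * q = a⁻¹ * (q * a) * a⁻¹ := by group
      _ = a⁻¹ * (a * q) * a⁻¹ := by rw [this]
      _ = q * a⁻¹ := by group
  -- conjugation invariance of `Z`
  have hZconj : ∀ g : Γ, (∀ q ∈ Q, g * q * g⁻¹ ∈ Q) → ∀ z ∈ Z, g * z * g⁻¹ ∈ Z := by
    intro g hg z hz
    have hg' := min_conj_inv_mem Q g hg
    refine ⟨hg z hz.1, fun q hq => ?_⟩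
    have := hz.2 _ (hg' q hq)
    calc g * z * g⁻¹ * q = g * (z * (g⁻¹ * q * g)) * g⁻¹ := by group
      _ = g * ((g⁻¹ * q * g) * z) * g⁻¹ := by rw [this]
      _ = q * (g * z * g⁻¹) := by group
  -- `(ab)^n = a^n b^n z`
  have hpowmul : ∀ a ∈ Q, ∀ b ∈ Q, ∀ i : ℕ, ∃ z ∈ Z, (a * b) ^ i = a ^ i * b ^ i * z := by
    intro a ha b hb i
    induction i with
    | zero => exact ⟨1, hZone, by simp⟩
    | succ i ih =>
      obtain ⟨z, hz, hzi⟩ := ih
      -- `w = b^{-i} a⁻¹ b^i a`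
      have hbi : b ^ i ∈ Q := Q.pow_mem hb i
      have hw : (b ^ i)⁻¹ * a⁻¹ * ((b ^ i)⁻¹)⁻¹ * (a⁻¹)⁻¹ ∈ Z := by
        refine ⟨Q.mul_mem (Q.mul_mem (Q.mul_mem (Q.inv_mem hbi) (Q.inv_mem ha))
          (Q.inv_mem (Q.inv_mem hbi))) (Q.inv_mem (Q.inv_mem ha)), fun q hq => ?_⟩
        exact hcc _ (Q.inv_mem hbi) _ (Q.inv_mem ha) q hq
      refine ⟨((b ^ i)⁻¹ * a⁻¹ * ((b ^ i)⁻¹)⁻¹ * (a⁻¹)⁻¹) * z, hZmul hw hz, ?_⟩
      have hzb : z * (a * b) = (a * b) * z := hz.2 _ (Q.mul_mem ha hb)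
      have hwb : ((b ^ i)⁻¹ * a⁻¹ * ((b ^ i)⁻¹)⁻¹ * (a⁻¹)⁻¹) * b =
          b * ((b ^ i)⁻¹ * a⁻¹ * ((b ^ i)⁻¹)⁻¹ * (a⁻¹)⁻¹) := hw.2 b hb
      calc (a * b) ^ (i + 1) = (a * b) ^ i * (a * b) := pow_succ _ _
        _ = a ^ i * b ^ i * z * (a * b) := by rw [hzi]
        _ = a ^ i * b ^ i * (z * (a * b)) := by group
        _ = a ^ i * b ^ i * ((a * b) * z) := by rw [hzb]
        _ = a ^ i * a * b ^ i * (((b ^ i)⁻¹ * a⁻¹ * ((b ^ i)⁻¹)⁻¹ * (a⁻¹)⁻¹) * b) * z := by group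
        _ = a ^ i * a * b ^ i * (b * ((b ^ i)⁻¹ * a⁻¹ * ((b ^ i)⁻¹)⁻¹ * (a⁻¹)⁻¹)) * z := by
          rw [hwb]
        _ = a ^ (i + 1) * b ^ (i + 1) * (((b ^ i)⁻¹ * a⁻¹ * ((b ^ i)⁻¹)⁻¹ * (a⁻¹)⁻¹) * z) := by
          rw [pow_succ, pow_succ]; group
  -- the subgroup `M = {a ∈ Q : a^t ∈ Z}`
  let M : Subgroup Γ :=
    { carrier := {a | a ∈ Q ∧ a ^ t ∈ Z}
      one_mem' := ⟨Q.one_mem, by rw [one_pow]; exact hZone⟩
      mul_mem' := by
        intro a b ha hb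
        obtain ⟨z, hz, hzt⟩ := hpowmul a ha.1 b hb.1 t
        refine ⟨Q.mul_mem ha.1 hb.1, ?_⟩
        rw [hzt]
        exact hZmul (hZmul ha.2 hb.2) hz
      inv_mem' := by
        intro a ha
        refine ⟨Q.inv_mem ha.1, ?_⟩
        rw [inv_pow]
        exact hZinv ha.2 }
  have hMmem : ∀ a, a ∈ M ↔ a ∈ Q ∧ a ^ t ∈ Z := fun a => Iff.rfl
  have hMQ : M ≤ Q := fun a ha => ha.1
  have hMconj : ∀ g : Γ, (∀ q ∈ Q, g * q * g⁻¹ ∈ Q) → ∀ a ∈ M, g * a * g⁻¹ ∈ M := by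
    intro g hg a ha
    refine ⟨hg a ha.1, ?_⟩
    have e : (g * a * g⁻¹) ^ t = g * a ^ t * g⁻¹ := conj_pow
    rw [e]
    exact hZconj g hg _ ha.2
  by_cases hMeq : M = Q
  · intro a ha q hq
    have : a ∈ M := by rw [hMeq]; exact ha
    exact this.2.2 q hq
  · exfalso
    have hcenM := min_central htu h hm M hMQ hMeq
      (fun q hq => hMconj q (fun a ha => Q.mul_mem (Q.mul_mem hq ha) (Q.inv_mem hq)))
      (hMconj s h.hsQ) (fun x hx => hMconj x (h.hRQ x hx))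
    -- so `M ⊆ Z`; but `Q ≠ Z` gives an element of `M` outside `Z`
    have hQZ : ∃ a ∈ Q, a ∉ Z := by
      by_contra hcon
      push Not at hcon
      apply hMeq
      apply le_antisymm hMQ
      intro a ha
      exact ⟨ha, hcon _ (Q.pow_mem ha t)⟩
    obtain ⟨a, ha, haZ⟩ := hQZ
    obtain ⟨e, he⟩ := h.hQ ⟨a, ha⟩
    have he' : a ^ t ^ e = 1 := by
      have := congrArg Subtype.val he
      simpa using this
    have hex : ∃ j : ℕ, a ^ t ^ j ∈ Z := ⟨e, by rw [he']; exact hZone⟩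
    have hj0 : Nat.find hex ≠ 0 := by
      intro h0
      have := Nat.find_spec hex
      rw [h0, pow_zero, pow_one] at this
      exact haZ this
    obtain ⟨j, hj⟩ := Nat.exists_eq_succ_of_ne_zero hj0
    have hjmin : a ^ t ^ j ∉ Z := Nat.find_min hex (by omega)
    have hjZ : a ^ t ^ (j + 1) ∈ Z := by
      have := Nat.find_spec hex
      rwa [hj] at this
    have hbM : a ^ t ^ j ∈ M := by
      refine ⟨Q.pow_mem ha _, ?_⟩
      rw [← pow_mul, ← pow_succ]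
      exact hjZ
    exact hjmin ⟨hbM.1, fun q hq => hcenM _ hbM q hq⟩

end ambient

end Cfsg.Agent.Lib.H2.SGT
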