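import Mathlib
import Cfsg.Prelude.Def_Characters
import Cfsg.Agent.Lib.L0.FiniteOrderEnd

/-!
# S3017 piece INV2 (helper2): the eigenvalue bound for a product of two involutions

Linear algebra over `ℂ`: `A² = B² = 1`, `(AB)^m = 1` on a finite-dimensional space `V`.  Then
`tr A = 2 dim Fix(A) - dim V`, and `Re tr(AB) ≥ 2 dim Fix(AB) - dim V ≥ tr A + tr B - dim V`
(`AB` is the identity on `Fix(A) ∩ Fix(B)`, whose dimension is at least `dim Fix(A) + dim Fix(B) - dim V`; the remaining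
eigenvalues of `AB` are roots of unity, of real part `≥ -1`).

Character form: for a character `χ` of a finite group and `x² = y² = 1`:
`Re χ(xy) ≥ Re χ(x) + Re χ(y) - Re χ(1)`; and `χ(x)` is an integer for `x² = 1`.
-/

set_option autoImplicit false

namespace Cfsg.Agent.Lib.H2.SH

open Module

section LinAlg

variable {V : Type*} [AddCommGroup V] [Module ℂ V]

theorem apply_apply_of_sq_eq_one {A : End ℂ V} (hA : A * A = 1) (v : V) : A (A v) = v := by
  have h := congrArg (fun f : End ℂ V => f v) hA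
  simpa using h

/-- `(1 + A)/2` is the projection onto the fixed space of the involution `A`. -/
theorem isProj_of_sq_eq_one {A : End ℂ V} (hA : A * A = 1) :
    LinearMap.IsProj (End.eigenspace A 1) ((1 / 2 : ℂ) • ((1 : End ℂ V) + A)) := by
  constructor
  · intro v
    rw [End.mem_eigenspace_iff, one_smul]
    simp only [LinearMap.smul_apply, LinearMap.add_apply, End.one_apply, map_smul, map_add,
      apply_apply_of_sq_eq_one hA]
    rw [add_comm]
  · intro v hv
    rw [End.mem_eigenspace_iff, one_smul] at hv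
    simp only [LinearMap.smul_apply, LinearMap.add_apply, End.one_apply, hv]
    rw [← two_smul ℂ v, smul_smul]
    norm_num

variable [FiniteDimensional ℂ V]

/-- the trace of an involution: `tr A = 2 dim Fix(A) - dim V`. -/
theorem trace_of_sq_eq_one {A : End ℂ V} (hA : A * A = 1) :
    LinearMap.trace ℂ V A = 2 * (finrank ℂ (End.eigenspace A 1) : ℂ) - (finrank ℂ V : ℂ) := by
  have h := (isProj_of_sq_eq_one hA).trace
  rw [map_smul, map_add, LinearMap.trace_one, smul_eq_mul] at h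
  linear_combination 2 * h

/-- a finite-order endomorphism: `Re tr f ≥ 2 dim Fix(f) - dim V`. -/
theorem re_trace_ge {f : End ℂ V} {m : ℕ} (hm : 0 < m) (h : f ^ m = 1) :
    2 * (finrank ℂ (End.eigenspace f 1) : ℝ) - (finrank ℂ V : ℝ) ≤ (LinearMap.trace ℂ V f).re := by
  classical
  have hf := Cfsg.Agent.Lib.L0.isSemisimple_of_pow_eq_one hm h
  have ht := Cfsg.Agent.Lib.L0.trace_pow_eq_sum hf 1
  rw [pow_one] at ht
  have hs := Cfsg.Agent.Lib.L0.sum_finrank_eigenspace hf
  have hre : (LinearMap.trace ℂ V f).re =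
      ∑ μ : f.Eigenvalues, (finrank ℂ (f.eigenspace (μ : ℂ)) : ℝ) * ((μ : ℂ)).re := by
    rw [ht, Complex.re_sum]
    refine Finset.sum_congr rfl fun μ _ => ?_
    rw [pow_one, Complex.mul_re, Complex.natCast_re, Complex.natCast_im, zero_mul, sub_zero]
  have hnn : ∀ μ : f.Eigenvalues,
      0 ≤ (finrank ℂ (f.eigenspace (μ : ℂ)) : ℝ) * (((μ : ℂ)).re + 1) := by
    intro μ
    have h1 : ‖(μ : ℂ)‖ = 1 := Cfsg.Agent.Lib.L0.norm_eigenvalue_eq_one hm h μ
    have h2 : |((μ : ℂ)).re| ≤ 1 := by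
      rw [← h1]
      exact Complex.abs_re_le_norm _
    have h3 : -1 ≤ ((μ : ℂ)).re := (abs_le.1 h2).1
    have h4 : (0 : ℝ) ≤ (finrank ℂ (f.eigenspace (μ : ℂ)) : ℝ) := Nat.cast_nonneg _
    exact mul_nonneg h4 (by linarith)
  have hkey : 2 * (finrank ℂ (End.eigenspace f 1) : ℝ) ≤
      ∑ μ : f.Eigenvalues, (finrank ℂ (f.eigenspace (μ : ℂ)) : ℝ) * (((μ : ℂ)).re + 1) := by
    by_cases h1 : f.HasEigenvalue 1
    · let μ0 : f.Eigenvalues := ⟨1, h1⟩
      have h5 := Finset.single_le_sum (f := fun μ : f.Eigenvalues =>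
        (finrank ℂ (f.eigenspace (μ : ℂ)) : ℝ) * (((μ : ℂ)).re + 1)) (fun μ _ => hnn μ)
        (Finset.mem_univ μ0)
      have h7 : ((μ0 : ℂ)).re = 1 := Complex.one_re
      have h8 : (finrank ℂ (f.eigenspace (μ0 : ℂ)) : ℝ) = (finrank ℂ (End.eigenspace f 1) : ℝ) := rfl
      simp only [h7, h8] at h5
      linarith
    · have h6 : f.eigenspace 1 = ⊥ := by
        by_contra hne
        exact h1 hne
      rw [h6, finrank_bot]
      simp only [Nat.cast_zero, mul_zero]
      exact Finset.sum_nonneg fun μ _ => hnn μ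
  have hsplit : ∑ μ : f.Eigenvalues, (finrank ℂ (f.eigenspace (μ : ℂ)) : ℝ) * (((μ : ℂ)).re + 1) =
      (∑ μ : f.Eigenvalues, (finrank ℂ (f.eigenspace (μ : ℂ)) : ℝ) * ((μ : ℂ)).re) +
        (finrank ℂ V : ℝ) := by
    rw [← hs]
    push_cast
    rw [← Finset.sum_add_distrib]
    refine Finset.sum_congr rfl fun μ _ => ?_
    ring
  rw [hre]
  linarith

/-- **INV2**, linear algebra form. -/
theorem re_trace_mul_ge {A B : End ℂ V} (hA : A * A = 1) (hB : B * B = 1) {m : ℕ} (hm : 0 < m)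
    (hAB : (A * B) ^ m = 1) :
    (LinearMap.trace ℂ V A).re + (LinearMap.trace ℂ V B).re - (finrank ℂ V : ℝ) ≤
      (LinearMap.trace ℂ V (A * B)).re := by
  have h1 := re_trace_ge hm hAB
  have hle : End.eigenspace A 1 ⊓ End.eigenspace B 1 ≤ End.eigenspace (A * B) 1 := by
    intro v hv
    rw [Submodule.mem_inf, End.mem_eigenspace_iff, End.mem_eigenspace_iff, one_smul] at hv
    rw [End.mem_eigenspace_iff, one_smul, End.mul_apply, hv.2, hv.1]
  have h2 : finrank ℂ ↥(End.eigenspace A 1 ⊓ End.eigenspace B 1) ≤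
      finrank ℂ ↥(End.eigenspace (A * B) 1) := Submodule.finrank_mono hle
  have h3 := Submodule.finrank_sup_add_finrank_inf_eq (End.eigenspace A 1) (End.eigenspace B 1)
  have h4 : finrank ℂ ↥(End.eigenspace A 1 ⊔ End.eigenspace B 1) ≤ finrank ℂ V :=
    Submodule.finrank_le _
  have hA' := trace_of_sq_eq_one hA
  have hB' := trace_of_sq_eq_one hB
  have hAre : (LinearMap.trace ℂ V A).re =
      2 * (finrank ℂ (End.eigenspace A 1) : ℝ) - (finrank ℂ V : ℝ) := by
    rw [hA']
    simp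
  have hBre : (LinearMap.trace ℂ V B).re =
      2 * (finrank ℂ (End.eigenspace B 1) : ℝ) - (finrank ℂ V : ℝ) := by
    rw [hB']
    simp
  rw [hAre, hBre]
  have h5 : (finrank ℂ ↥(End.eigenspace A 1) : ℝ) + (finrank ℂ ↥(End.eigenspace B 1) : ℝ) ≤
      (finrank ℂ V : ℝ) + (finrank ℂ ↥(End.eigenspace (A * B) 1) : ℝ) := by
    have : finrank ℂ ↥(End.eigenspace A 1) + finrank ℂ ↥(End.eigenspace B 1) ≤
        finrank ℂ V + finrank ℂ ↥(End.eigenspace (A * B) 1) := by omega
    exact_mod_cast this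
  linarith

/-- the trace of an involution is an integer. -/
theorem trace_eq_intCast_of_sq_eq_one {A : End ℂ V} (hA : A * A = 1) :
    ∃ k : ℤ, LinearMap.trace ℂ V A = (k : ℂ) := by
  refine ⟨2 * (finrank ℂ (End.eigenspace A 1) : ℤ) - (finrank ℂ V : ℤ), ?_⟩
  rw [trace_of_sq_eq_one hA]
  push_cast
  ring

end LinAlg

section Char

variable {G : Type*} [Group G] [Finite G]

/-- **INV2**, character form: `Re χ(xy) ≥ Re χ(x) + Re χ(y) - Re χ(1)` for `x² = y² = 1`. -/
theorem isCharacter_re_mul_ge {χ : G → ℂ} (hχ : Cfsg.IsCharacter G χ) {x y : G}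
    (hx : x * x = 1) (hy : y * y = 1) :
    (χ x).re + (χ y).re - (χ 1).re ≤ (χ (x * y)).re := by
  obtain ⟨n, ρ, rfl⟩ := hχ
  have hA : ρ x * ρ x = 1 := by rw [← map_mul, hx, map_one]
  have hB : ρ y * ρ y = 1 := by rw [← map_mul, hy, map_one]
  have hAB : (ρ x * ρ y) ^ orderOf (x * y) = 1 := by
    rw [← map_mul, ← map_pow, pow_orderOf_eq_one, map_one]
  have h := re_trace_mul_ge hA hB (orderOf_pos (x * y)) hAB
  have h1 : (ρ.character 1).re = (finrank ℂ (Fin n → ℂ) : ℝ) := by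
    rw [Representation.char_one]
    simp
  rw [h1]
  have h2 : ρ.character (x * y) = LinearMap.trace ℂ (Fin n → ℂ) (ρ x * ρ y) := by
    rw [← map_mul]
    rfl
  rw [h2]
  exact h

/-- the value of a character at an element with `x² = 1` is an integer. -/
theorem isCharacter_apply_eq_intCast {χ : G → ℂ} (hχ : Cfsg.IsCharacter G χ) {x : G}
    (hx : x * x = 1) : ∃ k : ℤ, χ x = (k : ℂ) := by
  obtain ⟨n, ρ, rfl⟩ := hχ
  have hA : ρ x * ρ x = 1 := by rw [← map_mul, hx, map_one]
  exact trace_eq_intCast_of_sq_eq_one hA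

/-- for `x² = y² = 1` with `χ x = d`, `χ y = d'` integers and `χ 1 = f`: `Re χ(xy) ≥ d + d' - f`. -/
theorem isCharacter_re_mul_ge_of_eq {χ : G → ℂ} (hχ : Cfsg.IsCharacter G χ) {x y : G}
    (hx : x * x = 1) (hy : y * y = 1) {d d' f : ℝ} (hd : χ x = (d : ℂ)) (hd' : χ y = (d' : ℂ))
    (hf : χ 1 = (f : ℂ)) : d + d' - f ≤ (χ (x * y)).re := by
  have h := isCharacter_re_mul_ge hχ hx hy
  rw [hd, hd', hf, Complex.ofReal_re, Complex.ofReal_re, Complex.ofReal_re] at h
  exact h

end Char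

end Cfsg.Agent.Lib.H2.SH
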