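import Mathlib
import Cfsg.Agent.Lib.H2.SHRED
import Cfsg.Agent.Lib.H4.SHQUOT

/-!
# S3017: RED with helper4's QUOT plugged in (helper2)

`red'`: S3017 follows from the minimal configuration alone.
-/

set_option autoImplicit false

namespace Cfsg.Agent.Lib.H2.SH

open Cfsg

universe u

theorem qSub : QSub.{u} := fun _ _ _ _ _ hHM hcl => Cfsg.Agent.Lib.H4.SH.sub hHM hcl

theorem qOdd : QOdd.{u} := fun _ _ _ _ X _ hX hH2 hHab hcl =>
  haveI : Fact (Nat.Prime 2) := ⟨Nat.prime_two⟩
  Cfsg.Agent.Lib.H4.SH.quot_coprime hH2 hHab hcl X hX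

theorem qCen : QCen.{u} := fun _ _ _ _ _ _ hZH _ _ hcl => Cfsg.Agent.Lib.H4.SH.quot_le hZH hcl

/-- **RED** (S3017), QUOT discharged: it suffices to show `H ⊴ G` in the minimal configuration. -/
theorem red'
    (hmin : ∀ (G : Type u) [Group G] [Finite G] (H : Subgroup G), IsPGroup 2 H →
      IsMulCommutative H → IsExtremelyClosed H → SmallerOK G → oddCore G = ⊥ →
      Subgroup.normalClosure (H : Set G) = ⊤ → H ⊓ Subgroup.center G = ⊥ → H.Normal) :
    ∀ (G : Type u) [Group G] [Finite G] (H : Subgroup G), IsPGroup 2 H → IsMulCommutative H →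
      IsExtremelyClosed H → Subgroup.normalizer (H : Set G) ⊔ oddCore G = ⊤ :=
  red qSub qOdd qCen hmin

/-- the inductive hypothesis applied to a proper subgroup `C ≥ H`: `C = N_C(H) O(C)`, stated inside `G`. -/
theorem smallerOK_subgroup {G : Type u} [Group G] [Finite G] (IH : SmallerOK G) (H : Subgroup G)
    (hH2 : IsPGroup 2 H) (hHab : IsMulCommutative H) (hcl : IsExtremelyClosed H) (C : Subgroup G)
    (hHC : H ≤ C) (hC : C ≠ ⊤) :
    Subgroup.normalizer ((H.subgroupOf C : Subgroup ↥C) : Set ↥C) ⊔ oddCore ↥C = ⊤ := by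
  have hlt : Nat.card ↥C < Nat.card G := by
    rw [← Subgroup.card_mul_index C]
    have h1 : 0 < Nat.card C := Nat.card_pos
    have h2 : C.index ≠ 1 := fun h => hC (Subgroup.index_eq_one.1 h)
    have h3 : 0 < C.index := Nat.pos_of_ne_zero (Subgroup.index_ne_zero_of_finite)
    have h4 : 2 ≤ C.index := by omega
    nlinarith
  exact IH ↥C hlt (H.subgroupOf C) hH2.comap_subtype inferInstance
    (Cfsg.Agent.Lib.H4.SH.sub hHC hcl)

end Cfsg.Agent.Lib.H2.SH
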