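import Mathlib
import Cfsg.Agent.Lib.H4.SLKDefs

set_option autoImplicit false

/-!
# S2479, piece P03: `nd` is multiplicative in the modulus
-/

open Polynomial

namespace Cfsg.Agent.Lib.H2.SLK

open Cfsg.Agent.Lib.H12.Cls Cfsg.Agent.Lib.H4.SLK

universe u v
variable {F : Type u} [Field F]

/-- `nd` is invariant under `F[X]`-linear equivalences -/
theorem nd_congr' {M M' : Type*} [AddCommGroup M] [Module F M] [Module F[X] M]
    [IsScalarTower F F[X] M] [AddCommGroup M'] [Module F M'] [Module F[X] M']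
    [IsScalarTower F F[X] M'] (e : M ≃ₗ[F[X]] M') (p : F[X]) : nd M p = nd M' p := by
  unfold nd
  rw [← LinearMap.det_conj ((LinearMap.lsmul F[X] M p).restrictScalars F) (e.restrictScalars F)]
  congr 1
  ext x
  simp

/-- `nd` is multiplicative along a submodule and its quotient -/
theorem nd_eq_mul_quot {V : Type*} [AddCommGroup V] [Module F V] [Module F[X] V]
    [IsScalarTower F F[X] V] [Module.Finite F V] (W : Submodule F[X] V) (p : F[X]) :
    nd V p = nd W p * nd (V ⧸ W) p := by
  unfold nd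
  have he : W.restrictScalars F ≤
      (W.restrictScalars F).comap ((LinearMap.lsmul F[X] V p).restrictScalars F) := by
    intro w hw
    exact W.smul_mem p hw
  rw [LinearMap.det_eq_det_mul_det (W.restrictScalars F) _ he]
  congr 1

section main

variable (g h : F[X])

/-- the `F[X]`-linear map `F[X] → F[X]/(gh)`, `x ↦ x • [g]` -/
noncomputable def tauGH : F[X] →ₗ[F[X]] (F[X] ⧸ (F[X] ∙ (g * h))) :=
  LinearMap.toSpanSingleton F[X] _ (Submodule.Quotient.mk g)

theorem tauGH_apply (x : F[X]) :
    tauGH g h x = Submodule.Quotient.mk (x * g) := by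
  unfold tauGH
  rw [LinearMap.toSpanSingleton_apply, ← Submodule.Quotient.mk_smul, smul_eq_mul]

theorem ker_tauGH (hg : g ≠ 0) : LinearMap.ker (tauGH g h) = F[X] ∙ h := by
  ext x
  rw [LinearMap.mem_ker, tauGH_apply, Submodule.Quotient.mk_eq_zero,
    Submodule.mem_span_singleton, Submodule.mem_span_singleton]
  constructor
  · rintro ⟨a, ha⟩
    refine ⟨a, ?_⟩
    rw [smul_eq_mul] at ha ⊢
    have : g * (a * h) = g * x := by
      calc g * (a * h) = a * (g * h) := by ring
        _ = x * g := ha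
        _ = g * x := by ring
    exact mul_left_cancel₀ hg this
  · rintro ⟨a, ha⟩
    refine ⟨a, ?_⟩
    rw [smul_eq_mul] at ha ⊢
    rw [← ha]
    ring

theorem range_tauGH :
    LinearMap.range (tauGH g h) = (F[X] ∙ g).map (F[X] ∙ (g * h)).mkQ := by
  rw [Submodule.map_span, Set.image_singleton]
  unfold tauGH
  rw [← LinearMap.span_singleton_eq_range]
  rfl

end main

/-- ND5 : multiplicativity in the modulus (exact sequence `F[X]/(h) → F[X]/(gh) → F[X]/(g)`) -/
theorem nd_quot_mul (g h : F[X]) (hg : g.Monic) (hh : h.Monic) (p : F[X]) :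
    nd (F[X] ⧸ (F[X] ∙ (g * h))) p = nd (F[X] ⧸ (F[X] ∙ g)) p * nd (F[X] ⧸ (F[X] ∙ h)) p := by
  have : Module.Finite F (F[X] ⧸ (F[X] ∙ (g * h))) := (hg.mul hh).finite_adjoinRoot
  have hle : (F[X] ∙ (g * h)) ≤ (F[X] ∙ g) := by
    rw [Submodule.span_singleton_le_iff_mem, Submodule.mem_span_singleton]
    exact ⟨h, by rw [smul_eq_mul, mul_comm]⟩
  rw [nd_eq_mul_quot (LinearMap.range (tauGH g h)) p, mul_comm]
  congr 1
  · -- the quotient
    rw [nd_congr' (Submodule.quotEquivOfEq _ _ (range_tauGH g h)) p]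
    exact nd_congr' (Submodule.quotientQuotientEquivQuotient _ _ hle) p
  · -- the submodule
    rw [← nd_congr' (LinearMap.quotKerEquivRange (tauGH g h)) p]
    exact nd_congr' (Submodule.quotEquivOfEq _ _ (ker_tauGH g h hg.ne_zero)) p

end Cfsg.Agent.Lib.H2.SLK
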