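import Mathlib
import Cfsg.Agent.Lib.H4.SLKDefs
import Cfsg.Agent.Lib.H2.SLKP02

set_option autoImplicit false

/-!
# S2479, piece P10: an element of the centraliser with prescribed determinant
-/

open Polynomial

namespace Cfsg.Agent.Lib.H2.SLK

open Cfsg.Agent.Lib.H12.Cls Cfsg.Agent.Lib.H4.SLK

universe u v
variable {F : Type u} [Field F]

section generic

variable {ι : Type*} [Fintype ι] [DecidableEq ι] (M : ι → Type*) [∀ k, AddCommGroup (M k)]
  [∀ k, Module F (M k)] [∀ k, Module F[X] (M k)] [∀ k, IsScalarTower F F[X] (M k)]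

/-- multiplication by `p` on the `i`-th coordinate, identity on the others -/
noncomputable def epsF (i : ι) (p : F[X]) (k : ι) : M k →ₗ[F] M k :=
  if k = i then (LinearMap.lsmul F[X] (M k) p).restrictScalars F else LinearMap.id

/-- the diagonal endomorphism of the product: multiplication by `p` on the `i`-th coordinate -/
noncomputable def diagF (i : ι) (p : F[X]) : (∀ k, M k) →ₗ[F] (∀ k, M k) :=
  LinearMap.pi (fun k => (epsF M i p k).comp (LinearMap.proj k))

omit [Fintype ι] in
theorem epsF_smul (i : ι) (p : F[X]) (k : ι) (q : F[X]) (w : M k) :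
    epsF M i p k (q • w) = q • epsF M i p k w := by
  unfold epsF
  by_cases h : k = i
  · rw [if_pos h]
    show p • (q • w) = q • (p • w)
    exact smul_comm p q w
  · rw [if_neg h]
    rfl

omit [Fintype ι] in
theorem diagF_smul (i : ι) (p : F[X]) (q : F[X]) (z : ∀ k, M k) :
    diagF M i p (q • z) = q • diagF M i p z := by
  funext k
  show epsF M i p k ((q • z) k) = q • epsF M i p k (z k)
  rw [Pi.smul_apply, epsF_smul]

theorem det_diagF [∀ k, Module.Finite F (M k)] (i : ι) (p : F[X]) :
    LinearMap.det (diagF M i p) = nd (M i) p := by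
  unfold diagF
  rw [det_pi_dep, Finset.prod_eq_single i]
  · unfold nd epsF
    rw [if_pos rfl]
  · intro k _ hk
    unfold epsF
    rw [if_neg hk]
    exact LinearMap.det_id
  · intro h
    exact absurd (Finset.mem_univ i) h

end generic

/-- T2B -/
theorem exists_commuting_end {V : Type v} [AddCommGroup V] [Module F V] [FiniteDimensional F V]
    {f : Module.End F V} (D : TypeData f) (i : D.ι) (p : F[X]) :
    ∃ y : Module.End F V, y * f = f * y ∧ LinearMap.det y = nd (Cyc F (D.c i)) p := by
  classical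
  have : ∀ k, Module.Finite F (Cyc F (D.c k)) := fun k => finite_cyc _ (D.monic k)
  let e : V ≃ₗ[F] (∀ k, Cyc F (D.c k)) := (Module.AEval'.of f) ≪≫ₗ D.iso.restrictScalars F
  have heX : ∀ v : V, e (f v) = (X : F[X]) • e v := by
    intro v
    show D.iso (Module.AEval'.of f (f v)) = (X : F[X]) • D.iso (Module.AEval'.of f v)
    rw [← Module.AEval'.X_smul_of, map_smul]
  refine ⟨(e.symm : (∀ k, Cyc F (D.c k)) →ₗ[F] V) ∘ₗ
    (diagF (fun k => Cyc F (D.c k)) i p) ∘ₗ (e : V →ₗ[F] (∀ k, Cyc F (D.c k))), ?_, ?_⟩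
  · ext v
    show e.symm (diagF (fun k => Cyc F (D.c k)) i p (e (f v))) =
      f (e.symm (diagF (fun k => Cyc F (D.c k)) i p (e v)))
    rw [heX, diagF_smul]
    apply e.injective
    rw [LinearEquiv.apply_symm_apply, heX, LinearEquiv.apply_symm_apply]
  · have h1 := LinearMap.det_conj (diagF (fun k => Cyc F (D.c k)) i p) e.symm
    rw [LinearEquiv.symm_symm] at h1
    rw [h1]
    exact det_diagF (fun k => Cyc F (D.c k)) i p

end Cfsg.Agent.Lib.H2.SLK
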