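import Mathlib
import Cfsg.Agent.Lib.H12.SLMinDefs
import Cfsg.Agent.Lib.H2.SLGen

/-!
# S2332 piece GEN (helper2): a normal subgroup of `SL (Fin (m + 1)) F`, `m ≥ 2`, containing the row radical
`{uEl a}` is everything.
-/

set_option autoImplicit false

namespace Cfsg.Agent.Lib.H2.SLMin

open Matrix Cfsg.Agent.Lib.H12.SLMin
open scoped commutatorElement

/-- `uEl (c e_j)` is the elementary transvection `T_{0, j+1}(c)` -/
theorem uEl_single_eq_transvection {F : Type*} [Field F] {m : ℕ} (j : Fin m) (c : F) :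
    uEl (Pi.single j c) =
      SpecialLinearGroup.transvection (Fin.succ_ne_zero j).symm c := by
  apply Subtype.ext
  rw [uEl_coe, SpecialLinearGroup.transvection_coe]
  apply bm_ext
  · simp [Matrix.single_apply, (Fin.succ_ne_zero j)]
  · intro k
    by_cases hk : j = k
    · subst hk
      simp [Matrix.single_apply, (Fin.succ_ne_zero j).symm]
    · have : j.succ ≠ k.succ := fun h => hk (Fin.succ_injective _ h)
      simp [Matrix.single_apply, (Fin.succ_ne_zero k).symm, hk, this, Pi.single_apply, Ne.symm hk]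
  · intro i
    simp [Matrix.single_apply, Fin.succ_ne_zero]
  · intro i k
    simp [Matrix.single_apply, (Fin.succ_ne_zero i).symm, Matrix.one_apply]

theorem gen_SL {F : Type*} [Field F] {m : ℕ} (hm : 2 ≤ m)
    (N : Subgroup (Matrix.SpecialLinearGroup (Fin (m + 1)) F)) [N.Normal]
    (h : ∀ a : Fin m → F, uEl a ∈ N) : N = ⊤ := by
  -- `T_{0 j}(c) ∈ N`
  have h0 : ∀ (j : Fin (m + 1)) (hj : (0 : Fin (m + 1)) ≠ j) (c : F),
      SpecialLinearGroup.transvection hj c ∈ N := by
    intro j hj c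
    obtain ⟨j', rfl⟩ := Fin.exists_succ_eq.2 hj.symm
    have := h (Pi.single j' c)
    rwa [uEl_single_eq_transvection] at this
  -- `T_{i j}(c) ∈ N`, `i, j ≠ 0`
  have h1 : ∀ (i j : Fin (m + 1)) (hij : i ≠ j) (_ : i ≠ 0) (_ : j ≠ 0) (c : F),
      SpecialLinearGroup.transvection hij c ∈ N := by
    intro i j hij hi hj c
    rw [Cfsg.Agent.Lib.H2.transvection_eq_commutator hij hi (Ne.symm hj) c, commutatorElement_def]
    have hn := h0 j (Ne.symm hj) 1
    have hconj := ‹N.Normal›.conj_mem _ hn (SpecialLinearGroup.transvection hi c)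
    exact mul_mem hconj (inv_mem hn)
  -- `T_{i 0}(c) ∈ N`
  have h2 : ∀ (i : Fin (m + 1)) (hi : i ≠ 0) (c : F),
      SpecialLinearGroup.transvection hi c ∈ N := by
    intro i hi c
    obtain ⟨k, hk0, hki⟩ : ∃ k : Fin (m + 1), k ≠ 0 ∧ k ≠ i := by
      obtain ⟨i', rfl⟩ := Fin.exists_succ_eq.2 hi
      by_cases h0i : i' = ⟨0, by omega⟩
      · refine ⟨Fin.succ ⟨1, by omega⟩, Fin.succ_ne_zero _, fun hh => ?_⟩
        have := Fin.succ_injective _ hh
        rw [h0i] at this
        simp [Fin.ext_iff] at this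
      · exact ⟨Fin.succ ⟨0, by omega⟩, Fin.succ_ne_zero _, fun hh => h0i (Fin.succ_injective _ hh).symm⟩
    rw [Cfsg.Agent.Lib.H2.transvection_eq_commutator hi (Ne.symm hki) hk0 c, commutatorElement_def]
    have hn := h1 i k (Ne.symm hki) hi hk0 c
    have hconj := ‹N.Normal›.conj_mem _ (inv_mem hn) (SpecialLinearGroup.transvection hk0 (1 : F))
    have : SpecialLinearGroup.transvection (Ne.symm hki) c * SpecialLinearGroup.transvection hk0 (1 : F) *
        (SpecialLinearGroup.transvection (Ne.symm hki) c)⁻¹ * (SpecialLinearGroup.transvection hk0 (1 : F))⁻¹ =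
        SpecialLinearGroup.transvection (Ne.symm hki) c * (SpecialLinearGroup.transvection hk0 (1 : F) *
        (SpecialLinearGroup.transvection (Ne.symm hki) c)⁻¹ * (SpecialLinearGroup.transvection hk0 (1 : F))⁻¹) := by
      group
    rw [this]
    exact mul_mem hn hconj
  have : Nontrivial (Fin (m + 1)) := ⟨⟨0, Fin.last m, by simp [Fin.ext_iff]; omega⟩⟩
  rw [eq_top_iff, ← Cfsg.Agent.Lib.H2.SL_closure_transvection, Subgroup.closure_le]
  rintro A ⟨i, j, hij, c, rfl⟩
  by_cases hi : i = 0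
  · subst hi
    exact h0 j hij c
  · by_cases hj : j = 0
    · subst hj
      exact h2 i hi c
    · exact h1 i j hij hi hj c

end Cfsg.Agent.Lib.H2.SLMin
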