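import Mathlib
import Cfsg.Agent.S4074

set_option autoImplicit false

namespace Cfsg.Agent.Lib.H2.SNS

/-- transport of non-commutativity along an injective hom -/
theorem sns_not_comm_map {K L : Type*} [Group K] [Group L] (f : K →* L)
    (hf : Function.Injective f) (H : Subgroup K) (hH : ¬ IsMulCommutative H) :
    ¬ IsMulCommutative (H.map f) := by
  intro hc
  apply hH
  refine ⟨⟨fun a b => ?_⟩⟩
  apply Subtype.ext
  apply hf
  have h1 : (⟨f a, Subgroup.mem_map_of_mem f a.2⟩ : H.map f) * ⟨f b, Subgroup.mem_map_of_mem f b.2⟩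
      = ⟨f b, Subgroup.mem_map_of_mem f b.2⟩ * ⟨f a, Subgroup.mem_map_of_mem f a.2⟩ :=
    hc.is_comm.comm _ _
  have h2 := congrArg Subtype.val h1
  simpa [map_mul] using h2

/-- CONV-DIH. -/
theorem na_dihedral {K : Type*} [Group K] (k : ℕ) (hk : Odd k)
    (e : K ≃* DihedralGroup k) (H : Subgroup K) (hHn : H.Normal)
    (hH : ¬ IsMulCommutative H) : H = ⊤ := by
  have hinj : Function.Injective e.toMonoidHom := e.injective
  have hsurj : Function.Surjective e.toMonoidHom := e.surjective
  have hH' : ¬ IsMulCommutative (H.map e.toMonoidHom) := sns_not_comm_map _ hinj H hH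
  obtain ⟨i, hi⟩ := Cfsg.Agent.S4074.exists_sr_mem_of_not_comm _ hH'
  have hN := Cfsg.Agent.S4074.normalizer_eq_of_odd hk (H.map e.toMonoidHom) i hi
  have hnorm : (H.map e.toMonoidHom).Normal := hHn.map _ hsurj
  have htop : H.map e.toMonoidHom = ⊤ := by
    rw [← hN]
    exact Subgroup.normalizer_eq_top_iff.mpr hnorm
  rw [eq_top_iff]
  intro x _
  have hx : e.toMonoidHom x ∈ H.map e.toMonoidHom := by rw [htop]; trivial
  obtain ⟨y, hy, hxy⟩ := hx
  have : y = x := hinj hxy
  rw [← this]; exact hy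

end Cfsg.Agent.Lib.H2.SNS
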