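import Mathlib
import Cfsg.Agent.Lib.H2.SNSDIH

set_option autoImplicit false

namespace Cfsg.Agent.Lib.H2.SNS

/-- a finite group of order `≤ 5` is commutative -/
theorem sns_comm_of_card_le {H : Type*} [Group H] [Finite H] (h : Nat.card H ≤ 5) :
    IsMulCommutative H := by
  have hpos : 0 < Nat.card H := Nat.card_pos
  have hcyc : IsCyclic H ∨ Nat.card H = 4 := by
    rcases Nat.lt_or_ge (Nat.card H) 2 with h1 | h1
    · left
      have : Nat.card H = 1 := by omega
      have hs : Subsingleton H := (Nat.card_eq_one_iff_unique.mp this).1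
      exact isCyclic_of_subsingleton
    · have h5 : Nat.card H = 2 ∨ Nat.card H = 3 ∨ Nat.card H = 4 ∨ Nat.card H = 5 := by omega
      rcases h5 with h5 | h5 | h5 | h5
      · left
        have : Fact (Nat.Prime 2) := ⟨Nat.prime_two⟩
        exact isCyclic_of_prime_card h5
      · left
        have : Fact (Nat.Prime 3) := ⟨Nat.prime_three⟩
        exact isCyclic_of_prime_card h5
      · right; exact h5
      · left
        have : Fact (Nat.Prime 5) := ⟨Nat.prime_five⟩
        exact isCyclic_of_prime_card h5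
  rcases hcyc with hc | h4
  · exact ⟨⟨fun a b => (IsCyclic.commGroup (α := H)).mul_comm a b⟩⟩
  · have : Fact (Nat.Prime 2) := ⟨Nat.prime_two⟩
    have h4' : Nat.card H = 2 ^ 2 := by rw [h4]; norm_num
    exact IsPGroup.isMulCommutative_of_card_eq_prime_sq h4'

set_option linter.unusedVariables false in
theorem na_card_six {K : Type*} [Group K] [Finite K] (hK : Nat.card K = 6) (H : Subgroup K)
    (hHn : H.Normal) (hH : ¬ IsMulCommutative H) : H = ⊤ := by
  have hdvd : Nat.card H ∣ 6 := hK ▸ Subgroup.card_subgroup_dvd_card H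
  have hle : Nat.card H ≤ 6 := Nat.le_of_dvd (by norm_num) hdvd
  have h6 : Nat.card H = 6 := by
    by_contra hne
    have hlt : Nat.card H ≤ 5 := by omega
    exact hH (sns_comm_of_card_le hlt)
  exact Subgroup.eq_top_of_card_eq H (by rw [h6, hK])

theorem sns_a4_count : 9 ≤ (Finset.univ.filter
    (fun g : Equiv.Perm (Fin 4) => Equiv.Perm.sign g = 1 ∧ g ^ 3 = 1)).card := by
  decide

/-- a non-abelian normal subgroup of `A₄` is everything -/
theorem sns_na_A4_aux (H : Subgroup (alternatingGroup (Fin 4))) (_hHn : H.Normal)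
    (hH : ¬ IsMulCommutative H) : H = ⊤ := by
  have hA : Nat.card (alternatingGroup (Fin 4)) = 12 := by
    rw [nat_card_alternatingGroup]; simp [Nat.factorial]
  have hdvd : Nat.card H ∣ 12 := hA ▸ Subgroup.card_subgroup_dvd_card H
  have hle : Nat.card H ≤ 12 := Nat.le_of_dvd (by norm_num) hdvd
  have h6 : 6 ≤ Nat.card H := by
    by_contra hlt
    exact hH (sns_comm_of_card_le (by omega))
  have hcases : Nat.card H = 6 ∨ Nat.card H = 12 := by
    have : ∀ n : ℕ, n ≤ 12 → n ∣ 12 → 6 ≤ n → n = 6 ∨ n = 12 := by decide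
    exact this _ hle hdvd h6
  rcases hcases with h | h
  · exfalso
    have hidx : H.index = 2 := by
      have := H.card_mul_index
      rw [h, hA] at this
      omega
    have hmem : ∀ g : alternatingGroup (Fin 4), g ^ 3 = 1 → g ∈ H := by
      intro g hg
      have h1 : (g ^ 2) ^ 2 ∈ H := Subgroup.sq_mem_of_index_two hidx (g ^ 2)
      have h2 : (g ^ 2) ^ 2 = g := by
        rw [← pow_mul]
        calc g ^ (2 * 2) = g ^ 3 * g := by rw [pow_succ]
          _ = g := by rw [hg, one_mul]
      rwa [h2] at h1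
    let F := Finset.univ.filter
      (fun g : Equiv.Perm (Fin 4) => Equiv.Perm.sign g = 1 ∧ g ^ 3 = 1)
    have hF : ∀ x : F, Equiv.Perm.sign (x : Equiv.Perm (Fin 4)) = 1 ∧
        (x : Equiv.Perm (Fin 4)) ^ 3 = 1 := fun x => (Finset.mem_filter.mp x.2).2
    let f : F → H := fun x =>
      ⟨⟨x.1, Equiv.Perm.mem_alternatingGroup.mpr (hF x).1⟩, hmem _ (Subtype.ext (hF x).2)⟩
    have hf : Function.Injective f := by
      intro x y hxy
      apply Subtype.ext
      have := congrArg (fun z : H => ((z : alternatingGroup (Fin 4)) : Equiv.Perm (Fin 4))) hxy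
      exact this
    have hcard := Nat.card_le_card_of_injective f hf
    rw [Nat.card_eq_fintype_card, Fintype.card_coe, h] at hcard
    have h9 : 9 ≤ F.card := sns_a4_count
    omega
  · exact Subgroup.eq_top_of_card_eq H (by rw [h, hA])

theorem na_A4 {K : Type*} [Group K] (e : K ≃* alternatingGroup (Fin 4)) (H : Subgroup K)
    (hHn : H.Normal) (hH : ¬ IsMulCommutative H) : H = ⊤ := by
  have hinj : Function.Injective e.toMonoidHom := e.injective
  have hsurj : Function.Surjective e.toMonoidHom := e.surjective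
  have hH' : ¬ IsMulCommutative (H.map e.toMonoidHom) := sns_not_comm_map _ hinj H hH
  have hnorm : (H.map e.toMonoidHom).Normal := hHn.map _ hsurj
  have htop := sns_na_A4_aux _ hnorm hH'
  rw [eq_top_iff]
  intro x _
  have hx : e.toMonoidHom x ∈ H.map e.toMonoidHom := by rw [htop]; trivial
  obtain ⟨y, hy, hxy⟩ := hx
  have : y = x := hinj hxy
  rw [← this]; exact hy

theorem na_A5 {K : Type*} [Group K] (e : K ≃* alternatingGroup (Fin 5)) (H : Subgroup K)
    (hHn : H.Normal) (hH : ¬ IsMulCommutative H) : H = ⊤ := by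
  have hs : IsSimpleGroup (alternatingGroup (Fin 5)) := alternatingGroup.isSimpleGroup (by simp)
  have hK : IsSimpleGroup K := e.isSimpleGroup
  rcases hHn.eq_bot_or_eq_top with h | h
  · exfalso
    apply hH
    subst h
    refine ⟨⟨fun a b => ?_⟩⟩
    have ha : a = 1 := Subsingleton.elim _ _
    have hb : b = 1 := Subsingleton.elim _ _
    rw [ha, hb]
  · exact h

theorem no_S4 {G : Type*} [Group G]
    (hct : ∀ a b c : G, a ≠ 1 → b ≠ 1 → c ≠ 1 → Commute a b → Commute b c → Commute a c)
    (K : Subgroup G) (e : K ≃* Equiv.Perm (Fin 4)) : False := by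
  -- a = (0 1 2 3), b = (0 1)(2 3), c = a ^ 2 = (0 2)(1 3)
  obtain ⟨a, b, c, hac, hcb, hab, ha1, hb1, hc1⟩ : ∃ a b c : Equiv.Perm (Fin 4),
      a * c = c * a ∧ c * b = b * c ∧ a * b ≠ b * a ∧ a ≠ 1 ∧ b ≠ 1 ∧ c ≠ 1 :=
    ⟨finRotate 4, Equiv.swap 0 1 * Equiv.swap 2 3, Equiv.swap 0 2 * Equiv.swap 1 3,
      by decide, by decide, by decide, by decide, by decide, by decide⟩
  have hne : ∀ x : Equiv.Perm (Fin 4), x ≠ 1 → ((e.symm x : K) : G) ≠ 1 := by
    intro x hx h
    apply hx
    have : e.symm x = 1 := Subtype.ext h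
    simpa using congrArg e this
  have hcomm : ∀ x y : Equiv.Perm (Fin 4), x * y = y * x →
      Commute ((e.symm x : K) : G) ((e.symm y : K) : G) := by
    intro x y h
    show ((e.symm x : K) : G) * ((e.symm y : K) : G) = ((e.symm y : K) : G) * ((e.symm x : K) : G)
    rw [← Subgroup.coe_mul, ← Subgroup.coe_mul, ← map_mul, ← map_mul, h]
  have h1 := hct _ _ _ (hne a ha1) (hne c hc1) (hne b hb1) (hcomm a c hac) (hcomm c b hcb)
  apply hab
  have h2 : ((e.symm (a * b) : K) : G) = ((e.symm (b * a) : K) : G) := by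
    rw [map_mul, map_mul, Subgroup.coe_mul, Subgroup.coe_mul]
    exact h1
  exact e.symm.injective (Subtype.ext h2)

end Cfsg.Agent.Lib.H2.SNS
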