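/-
S5778 piece SU3-e6a1 (sub-architect helper10, architect helper27): from the hypotheses on `R` (`3^{1+2}` inside the
similarity group of the hermitian form over `F_25`) a pair of generators in normal position.
-/
import Cfsg.Agent.Lib.H10.SU3E6Defs
import Cfsg.Agent.Lib.H4.Herm

set_option autoImplicit false

namespace Cfsg.Agent.Lib.H2.SU3

open Cfsg Cfsg.Geo Cfsg.Agent.Lib.Lead.Asch Cfsg.Agent.Lib.H27.SU3 Cfsg.Agent.Lib.H10.SU3
open scoped MatrixGroups Matrix Kronecker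

variable {F : Type*} [Field F] [Fintype F]

/-- characteristic 5. -/
theorem e6a1_charP (hF : Fintype.card F = 5 ^ 2) : CharP F 5 := by
  obtain ⟨p, hp⟩ := CharP.exists F
  obtain ⟨n, hpp, hn⟩ := FiniteField.card F p
  have h5 : p ∣ 5 ^ 2 := by
    rw [← hF, hn]
    exact dvd_pow_self p n.ne_zero
  have : p = 5 := (Nat.prime_dvd_prime_iff_eq hpp (by norm_num)).1 (hpp.dvd_of_dvd_pow h5)
  subst this
  exact hp

theorem e6a1_w_ne_one (hF : Fintype.card F = 5 ^ 2) {w : F} (hw : w ^ 2 + w + 1 = 0) : w ≠ 1 := by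
  have := e6a1_charP hF
  rintro rfl
  have h3 : ((3 : ℕ) : F) = 0 := by
    have : (1 : F) ^ 2 + 1 + 1 = 0 := hw
    push_cast
    linear_combination this
  have := (CharP.cast_eq_zero_iff F 5 3).1 h3
  omega

theorem e6a1_w_cube {w : F} (hw : w ^ 2 + w + 1 = 0) : w ^ 3 = 1 := by
  linear_combination (w - 1) * hw

theorem e6a1_root_cases {w μ : F} (hw : w ^ 2 + w + 1 = 0) (h3 : μ ^ 3 = 1) (h1 : μ ≠ 1) :
    μ = w ∨ μ = w ^ 2 := by
  have hμ : μ ^ 2 + μ + 1 = 0 := by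
    have : (μ - 1) * (μ ^ 2 + μ + 1) = 0 := by linear_combination h3
    rcases mul_eq_zero.1 this with h | h
    · exact absurd (sub_eq_zero.1 h) h1
    · exact h
  have : (μ - w) * (μ - w ^ 2) = 0 := by
    linear_combination hμ + (-μ + w - 1) * hw
  rcases mul_eq_zero.1 this with h | h
  · left; exact sub_eq_zero.1 h
  · right; exact sub_eq_zero.1 h

/-- a similarity of order dividing 3 is an isometry. -/
theorem e6a1_mem_GU (hF : Fintype.card F = 5 ^ 2) {g : GL (Fin 3) F}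
    (hg : g ∈ similarityGroup (hermForm 3 F 5)) (h3 : g ^ 3 = 1) : g ∈ GU 3 F 5 := by
  obtain ⟨cc, hcc⟩ := hg
  have he : hermForm 3 F 5 (Pi.single 0 1) (Pi.single 0 1) = 1 := by
    simp [hermForm, Pi.single_apply]
  have hggg : ∀ u : Fin 3 → F, (g : Matrix (Fin 3) (Fin 3) F) *ᵥ ((g : Matrix (Fin 3) (Fin 3) F) *ᵥ
      ((g : Matrix (Fin 3) (Fin 3) F) *ᵥ u)) = u := by
    intro u
    have : (g : Matrix (Fin 3) (Fin 3) F) * (g : Matrix (Fin 3) (Fin 3) F) * (g : Matrix (Fin 3) (Fin 3) F) = 1 := by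
      have := congrArg (fun x : GL (Fin 3) F => (x : Matrix (Fin 3) (Fin 3) F)) h3
      simpa [pow_succ] using this
    rw [Matrix.mulVec_mulVec, Matrix.mulVec_mulVec, this, Matrix.one_mulVec]
  have hc3 : (cc : F) ^ 3 = 1 := by
    have h := hcc ((g : Matrix (Fin 3) (Fin 3) F) *ᵥ ((g : Matrix (Fin 3) (Fin 3) F) *ᵥ (Pi.single 0 1)))
      ((g : Matrix (Fin 3) (Fin 3) F) *ᵥ ((g : Matrix (Fin 3) (Fin 3) F) *ᵥ (Pi.single 0 1)))
    rw [hggg, hcc, hcc, he] at h
    linear_combination -h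
  have hc5 : (cc : F) ^ 5 = cc := by
    have h := Cfsg.Agent.Lib.H4.hermForm_conj (n := 3) hF ((g : Matrix (Fin 3) (Fin 3) F) *ᵥ (Pi.single 0 1))
      ((g : Matrix (Fin 3) (Fin 3) F) *ᵥ (Pi.single 0 1))
    rw [hcc, he] at h
    simpa using h
  have hc1 : (cc : F) = 1 := by
    have : (cc : F) * ((cc : F) - 1) = 0 := by
      linear_combination hc5 - (cc : F) ^ 2 * hc3
    rcases mul_eq_zero.1 this with h | h
    · exact absurd h cc.ne_zero
    · exact sub_eq_zero.1 h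
  intro u v
  have := hcc u v
  rw [hc1, one_mul] at this
  exact this

/-- an eigenvector of a matrix of order dividing 3. -/
theorem e6a1_eigen {w : F} (hw : w ^ 2 + w + 1 = 0) (x : Matrix (Fin 3) (Fin 3) F) (hx : x * x * x = 1) :
    ∃ v : Fin 3 → F, v ≠ 0 ∧ (x *ᵥ v = v ∨ x *ᵥ v = w • v ∨ x *ᵥ v = w ^ 2 • v) := by
  set u : Fin 3 → F := Pi.single 0 1 with hu
  have hu0 : u ≠ 0 := by
    intro h
    have := congrFun h 0
    simp [hu] at this
  have hxxx : x *ᵥ (x *ᵥ (x *ᵥ u)) = u := by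
    rw [Matrix.mulVec_mulVec, Matrix.mulVec_mulVec, hx, Matrix.one_mulVec]
  by_cases hp : x *ᵥ (x *ᵥ u) + x *ᵥ u + u = 0
  · by_cases h1 : x *ᵥ u - w ^ 2 • u = 0
    · exact ⟨u, hu0, Or.inr (Or.inr (sub_eq_zero.1 h1))⟩
    · refine ⟨x *ᵥ u - w ^ 2 • u, h1, Or.inr (Or.inl ?_)⟩
      rw [Matrix.mulVec_sub, Matrix.mulVec_smul, smul_sub, smul_smul]
      have hw3 := e6a1_w_cube hw
      have e1 : x *ᵥ (x *ᵥ u) = - (x *ᵥ u) - u := by
        rw [eq_sub_iff_add_eq, eq_neg_iff_add_eq_zero, add_right_comm]; exact hp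
      rw [e1]
      ext i
      simp only [Pi.sub_apply, Pi.neg_apply, Pi.smul_apply, smul_eq_mul]
      linear_combination (-(x *ᵥ u) i + (u i) * (w - 1)) * hw
  · refine ⟨x *ᵥ (x *ᵥ u) + x *ᵥ u + u, hp, Or.inl ?_⟩
    rw [Matrix.mulVec_add, Matrix.mulVec_add, hxxx]
    abel


/-- elements of `R` have order dividing 3. -/
theorem e6a1_pow_three {R : Subgroup (GL (Fin 3) F)} (hsym : IsSymplecticTypeGroup 3 R) {g : GL (Fin 3) F}
    (hg : g ∈ R) : g ^ 3 = 1 := by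
  have he : Monoid.exponent R = 3 := by rw [hsym.exponent_eq]; norm_num
  have := Monoid.pow_exponent_eq_one (⟨g, hg⟩ : R)
  rw [he] at this
  exact congrArg Subtype.val this

theorem e6a1_mat_cube {g : GL (Fin 3) F} (h : g ^ 3 = 1) :
    (g : Matrix (Fin 3) (Fin 3) F) * (g : Matrix (Fin 3) (Fin 3) F) * (g : Matrix (Fin 3) (Fin 3) F) = 1 := by
  have := congrArg (fun x : GL (Fin 3) F => (x : Matrix (Fin 3) (Fin 3) F)) h
  simpa [pow_succ] using this

theorem e6a1_noncomm {R : Subgroup (GL (Fin 3) F)} (hcard : Nat.card R = 27)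
    (hcen : Nat.card (Subgroup.center R) = 3) : ∃ x ∈ R, ∃ y ∈ R, x * y ≠ y * x := by
  by_contra hcon
  push Not at hcon
  have : Subgroup.center R = ⊤ := by
    rw [Subgroup.eq_top_iff']
    intro a
    rw [Subgroup.mem_center_iff]
    intro b
    exact Subtype.ext (hcon b b.2 a a.2)
  rw [this, Subgroup.card_top, hcard] at hcen
  omega

theorem e6a1_pair {w : F} (hw : w ^ 2 + w + 1 = 0) {R : Subgroup (GL (Fin 3) F)}
    (hsym : IsSymplecticTypeGroup 3 R) (hcard : Nat.card R = 27) (hcen : Nat.card (Subgroup.center R) = 3)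
    (hcomm : ∀ x ∈ R, ∀ y ∈ R, x * y * x⁻¹ * y⁻¹ ∈ scalars (Fin 3) F) :
    ∃ X ∈ R, ∃ Y ∈ R, ∃ z ∈ R,
      (X : Matrix (Fin 3) (Fin 3) F) * (Y : Matrix (Fin 3) (Fin 3) F) =
        w • ((Y : Matrix (Fin 3) (Fin 3) F) * (X : Matrix (Fin 3) (Fin 3) F)) ∧
      (z : Matrix (Fin 3) (Fin 3) F) = w • (1 : Matrix (Fin 3) (Fin 3) F) := by
  obtain ⟨x0, hx0, y0, hy0, hne⟩ := e6a1_noncomm hcard hcen
  set c : GL (Fin 3) F := x0 * y0 * x0⁻¹ * y0⁻¹ with hc
  have hcR : c ∈ R := R.mul_mem (R.mul_mem (R.mul_mem hx0 hy0) (R.inv_mem hx0)) (R.inv_mem hy0)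
  obtain ⟨μ, hμ⟩ := (mem_scalars_iff c).1 (hcomm x0 hx0 y0 hy0)
  have hxy : x0 * y0 = c * (y0 * x0) := by rw [hc]; group
  have hc1 : c ≠ 1 := by
    intro h
    apply hne
    rw [hxy, h, one_mul]
  have hc3 : c ^ 3 = 1 := e6a1_pow_three hsym hcR
  have hμ3 : (μ : F) ^ 3 = 1 := by
    have h := e6a1_mat_cube hc3
    rw [hμ] at h
    have h00 := congrFun (congrFun h 0) 0
    simp only [Matrix.mul_smul, Matrix.smul_apply, Matrix.one_apply_eq,
      smul_eq_mul, mul_one] at h00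
    linear_combination h00
  have hμ1 : (μ : F) ≠ 1 := by
    intro h
    apply hc1
    apply Units.ext
    rw [hμ, h, one_smul, Units.val_one]
  have rel : (x0 : Matrix (Fin 3) (Fin 3) F) * (y0 : Matrix (Fin 3) (Fin 3) F) =
      (μ : F) • ((y0 : Matrix (Fin 3) (Fin 3) F) * (x0 : Matrix (Fin 3) (Fin 3) F)) := by
    have := congrArg (fun x : GL (Fin 3) F => (x : Matrix (Fin 3) (Fin 3) F)) hxy
    simp only [Units.val_mul] at this
    rw [this, hμ, Matrix.smul_mul, Matrix.one_mul]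
  have hw3 := e6a1_w_cube hw
  rcases e6a1_root_cases hw hμ3 hμ1 with h | h
  · exact ⟨x0, hx0, y0, hy0, c, hcR, by rw [rel, h], by rw [hμ, h]⟩
  · refine ⟨y0, hy0, x0, hx0, c⁻¹, R.inv_mem hcR, ?_, ?_⟩
    · rw [rel, h, smul_smul, ← pow_succ', hw3, one_smul]
    · have h1 : ((c⁻¹ : GL (Fin 3) F) : Matrix (Fin 3) (Fin 3) F) * (c : Matrix (Fin 3) (Fin 3) F) = 1 := by
        rw [← Units.val_mul, inv_mul_cancel, Units.val_one]
      rw [hμ, h, Matrix.mul_smul, Matrix.mul_one] at h1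
      calc ((c⁻¹ : GL (Fin 3) F) : Matrix (Fin 3) (Fin 3) F)
          = (w * w ^ 2) • ((c⁻¹ : GL (Fin 3) F) : Matrix (Fin 3) (Fin 3) F) := by
            rw [← pow_succ', hw3, one_smul]
        _ = w • (w ^ 2 • ((c⁻¹ : GL (Fin 3) F) : Matrix (Fin 3) (Fin 3) F)) := by rw [smul_smul]
        _ = w • (1 : Matrix (Fin 3) (Fin 3) F) := by rw [h1]

/-- **SU3-e6a1**. -/
theorem e6a1 (hF : Fintype.card F = 5 ^ 2) : E6a1Stmt F := by
  intro w hw R hsym hsim hcard hcen hcomm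
  obtain ⟨X, hX, Y, hY, z, hz, hrel, hzw⟩ := e6a1_pair hw hsym hcard hcen hcomm
  have hX3 := e6a1_pow_three hsym hX
  have hY3 := e6a1_pow_three hsym hY
  have hw3 := e6a1_w_cube hw
  have hw1 := e6a1_w_ne_one hF hw
  obtain ⟨v, hv0, hv⟩ := e6a1_eigen hw (X : Matrix (Fin 3) (Fin 3) F) (e6a1_mat_cube hX3)
  have key : ∀ (s : GL (Fin 3) F) (a l : F), s ∈ R → (s : Matrix (Fin 3) (Fin 3) F) = a • (1 : Matrix (Fin 3) (Fin 3) F) →
      (X : Matrix (Fin 3) (Fin 3) F) *ᵥ v = l • v → a * l = 1 →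
      ∃ x y : GL (Fin 3) F, x ∈ R ∧ y ∈ R ∧ x ∈ GU 3 F 5 ∧ y ∈ GU 3 F 5 ∧ x ^ 3 = 1 ∧ y ^ 3 = 1 ∧
      (x : Matrix (Fin 3) (Fin 3) F) * (y : Matrix (Fin 3) (Fin 3) F) =
        w • ((y : Matrix (Fin 3) (Fin 3) F) * (x : Matrix (Fin 3) (Fin 3) F)) ∧
      (∃ v : Fin 3 → F, v ≠ 0 ∧ (x : Matrix (Fin 3) (Fin 3) F) *ᵥ v = v) ∧
      R = Subgroup.closure {x, y} := by
    intro s a l hs hsa hXv hal
    have hxR : s * X ∈ R := R.mul_mem hs hX
    have hx3 := e6a1_pow_three hsym hxR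
    have hxm : ((s * X : GL (Fin 3) F) : Matrix (Fin 3) (Fin 3) F) = a • (X : Matrix (Fin 3) (Fin 3) F) := by
      rw [Units.val_mul, hsa, Matrix.smul_mul, Matrix.one_mul]
    have hrel' : ((s * X : GL (Fin 3) F) : Matrix (Fin 3) (Fin 3) F) * (Y : Matrix (Fin 3) (Fin 3) F) =
        w • ((Y : Matrix (Fin 3) (Fin 3) F) * ((s * X : GL (Fin 3) F) : Matrix (Fin 3) (Fin 3) F)) := by
      rw [hxm, Matrix.smul_mul, hrel, Matrix.mul_smul, smul_smul, smul_smul, mul_comm]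
    have hncomm : (s * X) * Y ≠ Y * (s * X) := by
      intro h
      have hm : ((s * X * Y : GL (Fin 3) F) : Matrix (Fin 3) (Fin 3) F) =
          ((Y * (s * X) : GL (Fin 3) F) : Matrix (Fin 3) (Fin 3) F) := by rw [h]
      rw [Units.val_mul ((s * X)) Y, hrel', ← Units.val_mul] at hm
      have h2 := congrArg (fun M : Matrix (Fin 3) (Fin 3) F => M * ((Y * (s * X))⁻¹ : GL (Fin 3) F)) hm
      simp only [Matrix.smul_mul, Units.mul_inv] at h2
      have h00 := congrFun (congrFun h2 0) 0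
      simp at h00
      exact hw1 h00
    refine ⟨s * X, Y, hxR, hY, e6a1_mem_GU hF (hsim hxR) hx3, e6a1_mem_GU hF (hsim hY) hY3, hx3, hY3, hrel',
      ⟨v, hv0, ?_⟩, ?_⟩
    · rw [hxm, Matrix.smul_mulVec, hXv, smul_smul, hal, one_smul]
    · set H : Subgroup (GL (Fin 3) F) := Subgroup.closure {s * X, Y} with hH
      have hHR : H ≤ R := by
        rw [hH, Subgroup.closure_le]
        rintro _ (rfl | rfl)
        · exact hxR
        · exact hY
      have hxH : s * X ∈ H := Subgroup.subset_closure (by simp)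
      have hYH : Y ∈ H := Subgroup.subset_closure (by simp)
      have hdvd : Nat.card H ∣ 3 ^ 3 := by
        have := Subgroup.card_dvd_of_le hHR
        rw [hcard] at this
        exact this
      have hnc : ¬ ∀ a b : H, a * b = b * a := by
        intro h
        apply hncomm
        have := h ⟨s * X, hxH⟩ ⟨Y, hYH⟩
        exact congrArg Subtype.val this
      obtain ⟨k, hk, hk2⟩ := (Nat.dvd_prime_pow (by norm_num : Nat.Prime 3)).1 hdvd
      have : Fact (Nat.Prime 3) := ⟨by norm_num⟩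
      interval_cases k
      · exfalso
        apply hnc
        have hss : Subsingleton H := (Nat.card_eq_one_iff_unique.1 (by simpa using hk2)).1
        intro a b
        rw [Subsingleton.elim a b]
      · exfalso
        apply hnc
        have : IsCyclic H := isCyclic_of_prime_card (p := 3) (by simpa using hk2)
        exact fun a b => (IsCyclic.isMulCommutative (α := H)).is_comm.comm a b
      · exfalso
        apply hnc
        exact fun a b => (IsPGroup.isMulCommutative_of_card_eq_prime_sq (p := 3) hk2).is_comm.comm a b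
      · exact (Subgroup.eq_of_le_of_card_ge hHR (by rw [hcard, hk2]; norm_num)).symm
  rcases hv with h | h | h
  · exact key 1 1 1 R.one_mem (by simp) (by rw [h, one_smul]) (by ring)
  · refine key (z * z) (w ^ 2) w (R.mul_mem hz hz) ?_ h (by rw [← pow_succ, hw3])
    rw [Units.val_mul, hzw, Matrix.smul_mul, Matrix.one_mul, smul_smul, pow_two]
  · exact key z w (w ^ 2) hz hzw h (by rw [← pow_succ', hw3])

end Cfsg.Agent.Lib.H2.SU3
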