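import Cfsg.Agent.Lib.H5.Sims.Defs
import Cfsg.Agent.Lib.H5.Sims.L3A

set_option autoImplicit false
open scoped Pointwise commutatorElement
open Cfsg.Agent.Lib.H5.Sims

/-!
# S3685 / S3385, piece (L2A), sub-lemma (L2A-c): `|[V_0, T_0]| = 2` in the case `l = 2` (helper2)
-/

namespace Cfsg.Agent.Lib.H2.Sims

variable {G : Type*} [Group G] [Finite G]

/-- the non-commuting pair: `a ∈ Z_(-1) ≤ V_0`, `s ∈ Z_1 ≤ V_1` -/
theorem exists_nc (S : Setup G) (hL : S.Loc) (hC : S.Con) (hl : S.Ell 2) :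
    ∃ a ∈ S.Zj (-1), ∃ s ∈ S.Zj 1, a * s ≠ s * a ∧ a ∈ S.Vj 0 ∧ s ∈ S.Vj 1 ∧ s ∈ S.Tj 0 ∧ s ∉ S.Qj 0 ∧
      a ∈ S.Tj 0 ∧ a ∉ S.Qj 1 := by
  have hSylP : S.IsSyl 0 (S.Tj (-1)) := by
    have := S.isSyl_Tj_pred 0
    simpa using this
  have hZV0 : S.Zj (-1) ≤ S.Vj 0 := hC.Z_le_V 0 (S.Tj (-1)) hSylP
  have hZV1 : S.Zj 1 ≤ S.Vj 1 := hC.Z_le_V 1 (S.Tj 1) (S.isSyl_Tj 1)
  have hnc := hl.nc (-1)
  have h1 : ((-1 : ℤ) + ((2 : ℕ) : ℤ)) = 1 := by norm_num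
  rw [h1] at hnc
  have hex : ∃ a ∈ S.Zj (-1), ∃ s ∈ S.Zj 1, a * s ≠ s * a := by
    by_contra hcon
    apply hnc
    intro a ha s hs
    by_contra hne
    exact hcon ⟨a, ha, s, hs, hne⟩
  obtain ⟨a, ha, s, hs, hne⟩ := hex
  have haV : a ∈ S.Vj 0 := hZV0 ha
  have hsV : s ∈ S.Vj 1 := hZV1 hs
  have hQ1T0 : S.Qj 1 ≤ S.Tj 0 := by
    have := S.Qj_le_left 1
    simpa using this
  have hsT : s ∈ S.Tj 0 := hQ1T0 (hC.V_le_Q 1 hsV)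
  have haT : a ∈ S.Tj 0 := S.Qj_le_right 0 (hC.V_le_Q 0 haV)
  refine ⟨a, ha, s, hs, hne, haV, hsV, hsT, ?_, haT, ?_⟩
  · intro hsQ
    exact hne (hC.V_comm_Q 0 a haV s hsQ)
  · intro haQ
    exact hne (hC.V_comm_Q 1 s hsV a haQ).symm

/-- (L2A-c): `|[V_0, T_0]| = 2` -/
theorem card_comm_eq_two (S : Setup G) (hb : S.Bent) (hL : S.Loc) (hC : S.Con) (hM : S.Mod) (hl : S.Ell 2) :
    Nat.card ↥⁅S.Vj 0, S.Tj 0⁆ = 2 := by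
  obtain ⟨a, ha, s, hs, hne, haV, hsV, hsT, hsQ, haT, haQ⟩ := exists_nc S hL hC hl
  have hSylP : S.IsSyl 0 (S.Tj (-1)) := by
    have := S.isSyl_Tj_pred 0
    simpa using this
  have hbent : S.Tj 0 ≠ S.Tj (-1) := by
    have := hL.bent 0
    intro h
    apply this
    simpa using h.symm
  have hQ1T0 : S.Qj 1 ≤ S.Tj 0 := by
    have := S.Qj_le_left 1
    simpa using this
  have hcard : Nat.card (S.Tj 0) = 2 * Nat.card (S.Qj 1) := hL.cardQ 1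
  -- `s` commutes with `Q_1`
  have hsq : ∀ q ∈ S.Qj 1, s * q = q * s := fun q hq => hC.V_comm_Q 1 s hsV q hq
  set c0 : G := a * s * a⁻¹ * s⁻¹ with hc0
  have hc0mem : c0 ∈ ⁅S.Vj 0, S.Tj 0⁆ := Subgroup.commutator_mem_commutator haV hsT
  have hc0ne : c0 ≠ 1 := by
    intro h
    apply hne
    calc a * s = (a * s * a⁻¹ * s⁻¹) * (s * a) := by group
      _ = s * a := by rw [← hc0, h, one_mul]
  have hall : ∀ x ∈ ⁅S.Vj 0, S.Tj 0⁆, x = 1 ∨ x = c0 := by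
    intro x hx
    obtain ⟨z, hz, rfl⟩ := hM.comm_eq 0 (S.Tj 0) (S.Tj (-1)) (S.isSyl_Tj 0) hSylP hbent s hsT hsQ x hx
    have hzV : z ∈ S.Vj 0 := hC.Z_le_V 0 (S.Tj (-1)) hSylP hz
    have hzT : z ∈ S.Tj 0 := S.Qj_le_right 0 (hC.V_le_Q 0 hzV)
    by_cases hzQ : z ∈ S.Qj 1
    · left
      have := hsq z hzQ
      calc z * s * z⁻¹ * s⁻¹ = (s * z) * z⁻¹ * s⁻¹ := by rw [this]
        _ = 1 := by group
    · right
      have haiT : a⁻¹ ∈ S.Tj 0 := inv_mem haT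
      have haiQ : a⁻¹ ∉ S.Qj 1 := fun h => haQ (by simpa using inv_mem h)
      have hq : a⁻¹ * z ∈ S.Qj 1 := Setup.index_two_mul hQ1T0 hcard haiT hzT haiQ hzQ
      have hcomm := hsq _ hq
      have hz' : z = a * (a⁻¹ * z) := by group
      rw [hc0]
      calc z * s * z⁻¹ * s⁻¹ = a * ((a⁻¹ * z) * s) * z⁻¹ * s⁻¹ := by group
        _ = a * (s * (a⁻¹ * z)) * z⁻¹ * s⁻¹ := by rw [hcomm]
        _ = a * s * a⁻¹ * s⁻¹ := by group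
  rw [Nat.card_eq_two_iff' (1 : ↥⁅S.Vj 0, S.Tj 0⁆)]
  refine ⟨⟨c0, hc0mem⟩, fun h => hc0ne (congrArg Subtype.val h), ?_⟩
  rintro ⟨y, hy⟩ hy1
  rcases hall y hy with h | h
  · exact absurd (Subtype.ext h) hy1
  · exact Subtype.ext h

end Cfsg.Agent.Lib.H2.Sims
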