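import Cfsg.Agent.Lib.H5.Sims.Defs

set_option autoImplicit false
open scoped Pointwise
open Cfsg.Agent.Lib.H5.Sims

/-!
# S3685 / S3385, piece (L3B), glue: from the interface `S.Y3 y` to helper8's `Chain3` (helper2)
-/

namespace Cfsg.Agent.Lib.H2.Sims

variable {G : Type*} [Group G]

/-- LOCAL COPY of helper8's structure (#6926) -/
structure Chain3 (P : ℤ → Subgroup G) (y : ℤ → G) : Prop where
  selfnorm : ∀ j x, MulAut.conj x • P j = P j → x ∈ P j
  canon : ∀ i j x, MulAut.conj x • P i = P j → x * y i * x⁻¹ = y j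
  ysq : ∀ j, y j * y j = 1
  ycen : ∀ j, ∀ x ∈ P j, x * y j = y j * x
  ymem : ∀ i j : ℤ, |i - j| ≤ 3 → y j ∈ P i
  ynot : ∀ j, y j ∉ P (j + 4) ∧ y j ∉ P (j - 4)
  yrel : ∀ j, y j * y (j + 4) * (y j)⁻¹ * (y (j + 4))⁻¹ = y (j + 2)
  yne : ∀ j, y j ≠ y (j + 1)
  idxR : ∀ j, (P j ⊓ P (j + 1)).relIndex (P j) = 3
  idxL : ∀ j, (P j ⊓ P (j - 1)).relIndex (P j) = 3
  selfp : ∀ j, ∃ g ∈ P j, MulAut.conj g • P (j + 1) = P (j - 1)
  pne : ∀ j, P (j - 1) ≠ P (j + 1)
  qnorm : ∀ j, ∀ x ∈ P j, MulAut.conj x • (P (j - 1) ⊓ P j ⊓ P (j + 1)) = P (j - 1) ⊓ P j ⊓ P (j + 1)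
  t3 : ∀ j, ∃ t ∈ P j, orderOf t = 3
  no3 : ∀ j, ∀ t ∈ P j ⊓ P (j + 1), orderOf t ≠ 3

theorem mem_normalizer_of_conj_smul_eq {n : G} {X : Subgroup G} (h : MulAut.conj n • X = X) :
    n ∈ Subgroup.normalizer (X : Set G) := by
  rw [Subgroup.mem_normalizer_iff]
  intro p
  constructor
  · intro hp
    have := conj_mem_conj_smul (g := n) hp
    rwa [h] at this
  · intro hp
    rw [← h, mem_conj_smul] at hp
    have e : n⁻¹ * (n * p * n⁻¹) * n = p := by group
    rwa [e] at hp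

theorem conj_smul_eq_of_mem_normalizer {n : G} {X : Subgroup G}
    (h : n ∈ Subgroup.normalizer (X : Set G)) : MulAut.conj n • X = X := by
  ext p
  rw [mem_conj_smul]
  have hn : n⁻¹ ∈ Subgroup.normalizer (X : Set G) := inv_mem h
  rw [Subgroup.mem_normalizer_iff] at hn
  have := hn p
  rw [inv_inv] at this
  exact this.symm

theorem conj_smul_conj_smul (a b : G) (X : Subgroup G) :
    MulAut.conj a • MulAut.conj b • X = MulAut.conj (a * b) • X := by
  rw [smul_smul, ← map_mul]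

theorem mem_zpowers_of_sq {a z : G} (ha : a ^ 2 = 1) (hz : z ∈ Subgroup.zpowers a) : z = 1 ∨ z = a := by
  obtain ⟨k, rfl⟩ := Subgroup.mem_zpowers_iff.1 hz
  rcases Int.even_or_odd k with ⟨m, rfl⟩ | ⟨m, rfl⟩
  · left
    rw [← two_mul, zpow_mul, zpow_two, ← pow_two, ha, one_zpow]
  · right
    rw [zpow_add_one, zpow_mul, zpow_two, ← pow_two, ha, one_zpow, one_mul]

theorem P_ne_bot (S : Setup G) : S.P ≠ ⊥ := by
  intro h
  have h1 := S.idx
  have h2 : Nat.card S.P = 1 := by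
    rw [h]
    exact Subgroup.card_bot
  omega

/-- `(A1a)`: `P` is self-normalizing -/
theorem P_selfnorm (S : Setup G) : Subgroup.normalizer (S.P : Set G) ≤ S.P :=
  S.prim S.P le_rfl (P_ne_bot S) Subgroup.le_normalizer

theorem Pj_selfnorm (S : Setup G) (j : ℤ) (x : G) (hx : MulAut.conj x • S.Pj j = S.Pj j) : x ∈ S.Pj j := by
  unfold Setup.Pj at hx ⊢
  rw [mem_conj_smul]
  apply P_selfnorm S
  apply mem_normalizer_of_conj_smul_eq
  have := congrArg (fun X => MulAut.conj (S.h ^ j)⁻¹ • X) hx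
  simp only [conj_smul_conj_smul] at this
  rw [inv_mul_cancel, map_one, one_smul] at this
  rw [← this]
  congr 2
  group

variable [Finite G]

theorem chain3_of_Y3 (S : Setup G) (hb : S.Bent) (hL : S.Loc) (hC : S.Con) (y : ℤ → G) (h : S.Y3 y) :
    Chain3 S.Pj y := by
  have hyY : ∀ j, y j ∈ S.Yj j := by
    intro j
    rw [h.Y_eq j]
    exact Subgroup.mem_zpowers _
  have hcardT : ∀ j, 0 < Nat.card (S.Tj j) := fun j => Nat.card_pos
  refine ⟨?_, ?_, ?_, ?_, h.mem, fun j => ⟨h.not_mem_right j, h.not_mem_left j⟩, ?_, ?_, ?_, ?_, h.sp,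
    hL.P_ne2, ?_, hL.exists_three, ?_⟩
  · -- selfnorm
    exact fun j x hx => Pj_selfnorm S j x hx
  · -- canon
    intro i j x hx
    have h1 : MulAut.conj x • S.Yj i = S.Yj j := by
      unfold Setup.Yj
      rw [← zOf_conj_smul, hx]
    have h2 : x * y i * x⁻¹ ∈ S.Yj j := by
      rw [← h1]
      exact conj_mem_conj_smul (hyY i)
    rw [h.Y_eq j] at h2
    rcases mem_zpowers_of_sq (h.sq j) h2 with h3 | h3
    · exfalso
      apply h.ne_one i
      have : y i = x⁻¹ * (x * y i * x⁻¹) * x := by group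
      rw [this, h3]
      group
    · exact h3
  · -- ysq
    intro j
    rw [← pow_two]
    exact h.sq j
  · -- ycen
    intro j x hx
    exact (mem_zOf.1 (hyY j)).2.2 x hx
  · -- yrel
    intro j
    have hinv : ∀ k, (y k)⁻¹ = y k := by
      intro k
      rw [inv_eq_iff_mul_eq_one, ← pow_two]
      exact h.sq k
    rw [hinv, hinv]
    exact h.rel j
  · -- yne
    intro j hj
    apply h.ne_one j
    have : y j ∈ S.Yj j ⊓ S.Yj (j + 1) := ⟨hyY j, by rw [hj]; exact hyY (j + 1)⟩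
    rw [hC.Y_inf j (j + 1) (hL.P_ne j)] at this
    exact Subgroup.mem_bot.1 this
  · -- idxR
    intro j
    have h2 := Subgroup.relIndex_mul_relIndex (H := ⊥) (K := S.Tj j) (L := S.Pj j) bot_le (S.Tj_le_left j)
    rw [Subgroup.relIndex_bot_left, Subgroup.relIndex_bot_left, S.card_Pj_eq j, ← S.card_Tj j] at h2
    have h3 : (S.Tj j).relIndex (S.Pj j) = 3 := by
      have := hcardT j
      nlinarith
    exact h3
  · -- idxL
    intro j
    have hT : S.Pj j ⊓ S.Pj (j - 1) = S.Tj (j - 1) := by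
      unfold Setup.Tj
      rw [sub_add_cancel, inf_comm]
    rw [hT]
    have h2 := Subgroup.relIndex_mul_relIndex (H := ⊥) (K := S.Tj (j - 1)) (L := S.Pj j) bot_le
      (S.Tj_pred_le j)
    rw [Subgroup.relIndex_bot_left, Subgroup.relIndex_bot_left, S.card_Pj_eq j, ← S.card_Tj (j - 1)] at h2
    have := hcardT (j - 1)
    nlinarith
  · -- qnorm
    intro j x hx
    have hQ : S.Pj (j - 1) ⊓ S.Pj j ⊓ S.Pj (j + 1) = S.Qj j := by
      unfold Setup.Qj Setup.Tj
      rw [sub_add_cancel]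
      apply le_antisymm
      · exact le_inf (le_inf (inf_le_left.trans inf_le_left) (inf_le_left.trans inf_le_right))
          (le_inf (inf_le_left.trans inf_le_right) inf_le_right)
      · exact le_inf (le_inf (inf_le_left.trans inf_le_left) (inf_le_left.trans inf_le_right))
          (inf_le_right.trans inf_le_right)
    rw [hQ]
    exact conj_smul_eq_of_mem_normalizer (hL.Q_norm j hx)
  · -- no3
    intro j t ht h3
    obtain ⟨k, hk⟩ := hb.two.exists_card_eq
    have ht' : t ∈ S.Tj j := ht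
    have h1 : orderOf (⟨t, ht'⟩ : S.Tj j) ∣ Nat.card (S.Tj j) := orderOf_dvd_natCard _
    rw [Subgroup.orderOf_mk, h3, S.card_Tj j, hk] at h1
    have := Nat.Prime.dvd_of_dvd_pow Nat.prime_three h1
    omega

end Cfsg.Agent.Lib.H2.Sims
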