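import Cfsg.Agent.Lib.H5.Sims.Defs
import Cfsg.Agent.Lib.H24.SimsMODX

set_option autoImplicit false
open scoped Pointwise
open Cfsg.Agent.Lib.H5.Sims

/-!
# S3685 / S3385, piece (MOD): the fields `card_V` and `W_card` of `S.Mod` in hypothesis form (helper2)
-/

namespace Cfsg.Agent.Lib.H2.Sims

open Cfsg.Agent.Lib.H24.Sims

variable {G : Type*} [Group G] [Finite G]

/-- the field `card_V` of `S.Mod` from the non-`t` fields -/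
theorem mod_card_V (S : Setup G) (hL : S.Loc) (hC : S.Con)
    (comm_le : ∀ (j : ℤ) (X : Subgroup G), S.IsSyl j X → ⁅S.Vj j, X⁆ ≤ zOf X)
    (Z_eq : ∀ (j : ℤ) (X : Subgroup G), S.IsSyl j X → zOf X = S.Yj j ⊔ ⁅S.Vj j, X⁆)
    (Y_disj : ∀ (j : ℤ) (X : Subgroup G), S.IsSyl j X → S.Yj j ⊓ ⁅S.Vj j, X⁆ = ⊥)
    (Z_inf : ∀ (j : ℤ) (X X' : Subgroup G), S.IsSyl j X → S.IsSyl j X' → X ≠ X' →
      zOf X ⊓ zOf X' = S.Yj j)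
    (Z_sup : ∀ (j : ℤ) (X X' : Subgroup G), S.IsSyl j X → S.IsSyl j X' → X ≠ X' →
      zOf X ⊔ zOf X' = S.Vj j) :
    ∀ j : ℤ, Nat.card (S.Vj j) = Nat.card (S.Yj 0) * Nat.card ↥⁅S.Vj 0, S.Tj 0⁆ ^ 2 := by
  intro j
  have hX : S.IsSyl j (S.Tj (j - 1)) := S.isSyl_Tj_pred j
  have hX' : S.IsSyl j (S.Tj j) := S.isSyl_Tj j
  have hne : S.Tj (j - 1) ≠ S.Tj j := hL.bent j
  have hR'V : ⁅S.Vj j, S.Tj j⁆ ≤ S.Vj j := (comm_le j _ hX').trans (hC.Z_le_V j _ hX')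
  have hRV : ⁅S.Vj j, S.Tj (j - 1)⁆ ≤ S.Vj j := (comm_le j _ hX).trans (hC.Z_le_V j _ hX)
  have hVab : Comm (S.Vj j) (S.Vj j) := fun a ha b hb => hC.V_comm_Q j a ha b (hC.V_le_Q j hb)
  have hsup : zOf (S.Tj (j - 1)) ⊔ ⁅S.Vj j, S.Tj j⁆ = S.Vj j := by
    apply le_antisymm (sup_le (hC.Z_le_V j _ hX) hR'V)
    have h1 := Z_sup j _ _ hX hX' hne
    have h2 : zOf (S.Tj j) ≤ zOf (S.Tj (j - 1)) ⊔ ⁅S.Vj j, S.Tj j⁆ := by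
      have h3 := Z_eq j _ hX'
      exact h3.le.trans (sup_le ((hC.Y_le_Z j _ hX).trans le_sup_left) le_sup_right)
    exact h1.ge.trans (sup_le le_sup_left h2)
  have hdisj : zOf (S.Tj (j - 1)) ⊓ ⁅S.Vj j, S.Tj j⁆ = ⊥ := by
    have h1 : zOf (S.Tj (j - 1)) ⊓ ⁅S.Vj j, S.Tj j⁆ ≤ S.Yj j ⊓ ⁅S.Vj j, S.Tj j⁆ := by
      apply le_inf
      · rw [← Z_inf j _ _ hX hX' hne]
        exact le_inf inf_le_left (inf_le_right.trans (comm_le j _ hX'))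
      · exact inf_le_right
    rw [Y_disj j _ hX'] at h1
    exact le_bot_iff.1 h1
  have hcomm1 : Comm (zOf (S.Tj (j - 1))) ⁅S.Vj j, S.Tj j⁆ :=
    fun a ha b hb => hVab a (hC.Z_le_V j _ hX ha) b (hR'V hb)
  have hc1 := card_sup_eq_mul hcomm1 hdisj
  have hcomm2 : Comm (S.Yj j) ⁅S.Vj j, S.Tj (j - 1)⁆ :=
    fun a ha b hb => hVab a (hC.Z_le_V j _ hX (hC.Y_le_Z j _ hX ha)) b (hRV hb)
  have hc2 := card_sup_eq_mul hcomm2 (Y_disj j _ hX)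
  rw [← Z_eq j _ hX] at hc2
  rw [hsup] at hc1
  rw [hc1, hc2, card_comm_eq S hL hC j _ hX, card_comm_eq S hL hC j _ hX', card_Yj S j]
  ring

/-- the field `W_card` of `S.Mod` from `card_V`, `W_sup`, `W_disj` -/
theorem mod_W_card (S : Setup G) (hC : S.Con)
    (card_V : ∀ j : ℤ, Nat.card (S.Vj j) = Nat.card (S.Yj 0) * Nat.card ↥⁅S.Vj 0, S.Tj 0⁆ ^ 2)
    (W_sup : ∀ j : ℤ, ∀ t ∈ S.Pj j, orderOf t = 3 → S.Yj j ⊔ ⁅S.Vj j, Subgroup.zpowers t⁆ = S.Vj j)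
    (W_disj : ∀ j : ℤ, ∀ t ∈ S.Pj j, orderOf t = 3 → S.Yj j ⊓ ⁅S.Vj j, Subgroup.zpowers t⁆ = ⊥) :
    ∀ j : ℤ, ∀ t ∈ S.Pj j, orderOf t = 3 →
      Nat.card ↥⁅S.Vj j, Subgroup.zpowers t⁆ = Nat.card ↥⁅S.Vj 0, S.Tj 0⁆ ^ 2 := by
  intro j t ht h3
  have hWV : ⁅S.Vj j, Subgroup.zpowers t⁆ ≤ S.Vj j :=
    le_sup_right.trans (W_sup j t ht h3).le
  have hcomm : Comm (S.Yj j) ⁅S.Vj j, Subgroup.zpowers t⁆ := fun a ha b hb =>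
    ((mem_zOf.1 ha).2.2 b (S.Qj_le j (hC.V_le_Q j (hWV hb)))).symm
  have h1 := card_sup_eq_mul hcomm (W_disj j t ht h3)
  rw [W_sup j t ht h3, card_V j, card_Yj S j] at h1
  have hpos : 0 < Nat.card (S.Yj 0) := Nat.card_pos
  exact (Nat.eq_of_mul_eq_mul_left hpos h1).symm

end Cfsg.Agent.Lib.H2.Sims
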