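import Mathlib

/-!
# Schmidt groups, part A: the field `F_p(λ)` (helper2)

`FD p q a F lam`: `F` is a finite field with `p ^ a` elements, `a` is the order of `p` modulo `q`
and `lam ∈ F` has multiplicative order `q`.  Main fact (`FD.stable`): every additive subgroup of
`F` stable under multiplication by `lam` is stable under multiplication by all of `F`.
-/

set_option autoImplicit false

namespace Cfsg.Agent.Lib.H2.Sm

variable {F : Type*} [Field F] [Fintype F]

/-- the field data -/
structure FD (p q a : ℕ) (F : Type*) [Field F] [Fintype F] (lam : F) : Prop where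
  hp : p.Prime
  hq : q.Prime
  hpq : p ≠ q
  card : Fintype.card F = p ^ a
  ha : a = orderOf (p : ZMod q)
  ord : orderOf lam = q

variable {p q a : ℕ} {lam : F}

theorem FD.charP (h : FD p q a F lam) : CharP F p := by
  have : Fact p.Prime := ⟨h.hp⟩
  exact charP_of_card_eq_prime_pow h.card

theorem FD.lam_pow (h : FD p q a F lam) : lam ^ q = 1 := by
  rw [← h.ord]; exact pow_orderOf_eq_one lam

theorem FD.lam_ne_one (h : FD p q a F lam) : lam ≠ 1 := by
  intro h1
  have := h.ord
  rw [h1, orderOf_one] at this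
  exact h.hq.one_lt.ne this

theorem FD.lam_ne_zero (h : FD p q a F lam) : lam ≠ 0 := by
  intro h0
  have := h.lam_pow
  rw [h0, zero_pow h.hq.ne_zero] at this
  exact zero_ne_one this

theorem FD.q_ne_zero (h : FD p q a F lam) : (q : F) ≠ 0 := by
  have := h.charP
  intro h0
  rw [CharP.cast_eq_zero_iff F p] at h0
  exact h.hpq ((Nat.prime_dvd_prime_iff_eq h.hp h.hq).1 h0)

theorem FD.a_pos (h : FD p q a F lam) : 0 < a := by
  have : Fact q.Prime := ⟨h.hq⟩
  rw [h.ha, orderOf_pos_iff, isOfFinOrder_iff_pow_eq_one]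
  refine ⟨q - 1, Nat.sub_pos_of_lt h.hq.one_lt, ?_⟩
  apply ZMod.pow_card_sub_one_eq_one
  intro h0
  rw [ZMod.natCast_eq_zero_iff] at h0
  exact h.hpq.symm ((Nat.prime_dvd_prime_iff_eq h.hq h.hp).1 h0)

theorem FD.dvd_of_pow (h : FD p q a F lam) {d : ℕ} (hd : lam ^ (p ^ d - 1) = 1) : a ∣ d := by
  have : Fact q.Prime := ⟨h.hq⟩
  have h1 : q ∣ p ^ d - 1 := by
    rw [← h.ord]; exact orderOf_dvd_of_pow_eq_one hd
  rw [h.ha]
  apply orderOf_dvd_of_pow_eq_one
  have h2 : ((p ^ d - 1 : ℕ) : ZMod q) = 0 := (ZMod.natCast_eq_zero_iff _ _).2 h1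
  rw [Nat.cast_sub (Nat.one_le_pow _ _ h.hp.pos), Nat.cast_pow, Nat.cast_one, sub_eq_zero] at h2
  exact h2

/-- the subfield of multipliers of a `lam`-stable additive subgroup -/
theorem FD.stable (h : FD p q a F lam) (A : AddSubgroup F) (hA : ∀ x ∈ A, lam * x ∈ A) (w : F) :
    ∀ x ∈ A, w * x ∈ A := by
  classical
  have : Fact p.Prime := ⟨h.hp⟩
  have := h.charP
  let L₀ : Subring F :=
    { carrier := {w | ∀ x ∈ A, w * x ∈ A}
      mul_mem' := by
        intro u v hu hv x hx
        rw [mul_assoc]
        exact hu _ (hv _ hx)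
      one_mem' := by
        intro x hx
        rwa [one_mul]
      add_mem' := by
        intro u v hu hv x hx
        rw [add_mul]
        exact A.add_mem (hu _ hx) (hv _ hx)
      zero_mem' := by
        intro x _
        rw [zero_mul]
        exact A.zero_mem
      neg_mem' := by
        intro u hu x hx
        rw [neg_mul]
        exact A.neg_mem (hu _ hx) }
  let L : Subfield F :=
    { toSubring := L₀
      inv_mem' := by
        intro u hu
        by_cases hu0 : u = 0
        · rw [hu0, inv_zero]; exact L₀.zero_mem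
        · have h1 : u ^ (Fintype.card F - 1) = 1 := FiniteField.pow_card_sub_one_eq_one u hu0
          have h2 : 2 ≤ Fintype.card F := Fintype.one_lt_card
          have h3 : u⁻¹ = u ^ (Fintype.card F - 2) := by
            have h4 : u * u ^ (Fintype.card F - 2) = 1 := by
              rw [← pow_succ']
              have : Fintype.card F - 2 + 1 = Fintype.card F - 1 := by omega
              rw [this, h1]
            exact inv_eq_of_mul_eq_one_right h4
          rw [h3]
          exact L₀.pow_mem hu _ }
  have hlamL : lam ∈ L := hA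
  obtain ⟨n, -, hn⟩ := FiniteField.card (↥L) p
  have h1 : lam ^ (p ^ (n : ℕ) - 1) = 1 := by
    have h2 : (⟨lam, hlamL⟩ : L) ^ (Fintype.card L - 1) = 1 :=
      FiniteField.pow_card_sub_one_eq_one _ (by
        intro h0
        exact h.lam_ne_zero (congrArg Subtype.val h0))
    rw [hn] at h2
    exact congrArg Subtype.val h2
  have h2 : a ≤ n := Nat.le_of_dvd n.pos (h.dvd_of_pow h1)
  have h3 : Fintype.card F ≤ Fintype.card L := by
    rw [h.card, hn]
    exact Nat.pow_le_pow_right h.hp.pos h2
  have h4 : L.toSubring.toAddSubgroup = ⊤ := by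
    apply AddSubgroup.eq_top_of_le_card
    rw [Nat.card_eq_fintype_card, Nat.card_eq_fintype_card]
    exact h3
  have h5 : w ∈ L.toSubring.toAddSubgroup := by rw [h4]; trivial
  exact h5

theorem FD.eq_top_of_stable (h : FD p q a F lam) (A : AddSubgroup F)
    (hA : ∀ x ∈ A, lam * x ∈ A) {x : F} (hx : x ∈ A) (hx0 : x ≠ 0) : A = ⊤ := by
  rw [eq_top_iff]
  intro w _
  have := h.stable A hA (w * x⁻¹) x hx
  rwa [mul_assoc, inv_mul_cancel₀ hx0, mul_one] at this

end Cfsg.Agent.Lib.H2.Sm
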