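import Cfsg.Agent.Lib.H2.SmA

/-!
# Schmidt groups, part B: invariant alternating forms on `F_p(λ)` (helper2)

`IsForm lam c`: `c : F →+ F →+ C` is biadditive, alternating and `c (lam u) (lam v) = c u v`.

* `a = 2 b`: `c u v = c 1 (ū v)` with `ū = u ^ p ^ b`, and `c 1` kills the fixed field of the bar
  map, so the values of `c` form a group of order at most `p ^ b` (`form_even_card`).
* `a` odd: `c = 0` (`form_odd`).
-/

set_option autoImplicit false

namespace Cfsg.Agent.Lib.H2.Sm

open Polynomial

variable {F : Type*} [Field F] [Fintype F]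

/-- invariant alternating biadditive forms -/
structure IsForm (lam : F) {C : Type*} [AddCommGroup C] (c : F →+ F →+ C) : Prop where
  inv : ∀ u v, c (lam * u) (lam * v) = c u v
  alt : ∀ u, c u u = 0

section form

variable {lam : F} {C : Type*} [AddCommGroup C] {c : F →+ F →+ C}

theorem IsForm.antisymm (hc : IsForm lam c) (u v : F) : c u v = - c v u := by
  have h1 := hc.alt (u + v)
  simp only [map_add, AddMonoidHom.add_apply, hc.alt, zero_add, add_zero] at h1
  exact eq_neg_of_add_eq_zero_right h1

end form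

/-- number of solutions of `x ^ n = t x` -/
theorem card_pow_eq_mul_le (n : ℕ) (hn : 2 ≤ n) (t : F) :
    Nat.card {x : F // x ^ n = t * x} ≤ n := by
  classical
  set P : F[X] := X ^ n + (- (C t * X)) with hP
  have hdeg : (- (C t * X) : F[X]).degree < (n : WithBot ℕ) := by
    rw [degree_neg]
    calc (C t * X : F[X]).degree ≤ 1 := by
          refine (degree_C_mul_X_le t)
      _ < (n : WithBot ℕ) := by exact_mod_cast hn
  have hnat : P.natDegree = n := by
    rw [hP, natDegree_add_eq_left_of_degree_lt (by rwa [degree_X_pow]), natDegree_X_pow]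
  have hP0 : P ≠ 0 := by
    intro h0
    rw [h0, natDegree_zero] at hnat
    omega
  let Z : Finset F := Finset.univ.filter (fun x => x ^ n = t * x)
  have hZ : Z.val ⊆ P.roots := by
    intro x hx
    have hx' : x ^ n = t * x := by
      have : x ∈ Z := hx
      simpa [Z] using this
    rw [mem_roots hP0, IsRoot.def, hP]
    simp [hx']
  have h1 := card_le_degree_of_subset_roots hZ
  rw [hnat] at h1
  rw [Nat.card_eq_fintype_card, Fintype.card_subtype]
  exact h1

section even

variable (F) (p b : ℕ) [CharP F p] [Fact p.Prime]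

/-- the bar map `w ↦ w ^ p ^ b` -/
noncomputable abbrev bar : F →+* F := iterateFrobenius F p b

/-- `w ↦ w - w̄` -/
noncomputable def tauHom : F →+ F := AddMonoidHom.id F - (bar F p b).toAddMonoidHom

/-- `w ↦ w + w̄` -/
noncomputable def trHom : F →+ F := AddMonoidHom.id F + (bar F p b).toAddMonoidHom

variable {F p b}

theorem bar_apply (x : F) : bar F p b x = x ^ p ^ b := iterateFrobenius_def p b x

theorem tauHom_apply (x : F) : tauHom F p b x = x - bar F p b x := rfl

theorem trHom_apply (x : F) : trHom F p b x = x + bar F p b x := rfl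

theorem bar_bar (hcard : Fintype.card F = p ^ (2 * b)) (x : F) : bar F p b (bar F p b x) = x := by
  rw [bar_apply, bar_apply, ← pow_mul, ← pow_add, ← two_mul, ← hcard, FiniteField.pow_card]

theorem bar_tau (hcard : Fintype.card F = p ^ (2 * b)) (x : F) :
    bar F p b (tauHom F p b x) = - tauHom F p b x := by
  rw [tauHom_apply, map_sub, bar_bar hcard]; ring

theorem one_lt_pow_b (hb : 0 < b) : 2 ≤ p ^ b := by
  have hp : 2 ≤ p := (Fact.out : p.Prime).two_le
  calc 2 ≤ p := hp
    _ = p ^ 1 := (pow_one p).symm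
    _ ≤ p ^ b := Nat.pow_le_pow_right (by omega) hb

theorem card_ker_tau_le (hb : 0 < b) : Nat.card (tauHom F p b).ker ≤ p ^ b := by
  have h1 := card_pow_eq_mul_le (F := F) (p ^ b) (one_lt_pow_b hb) 1
  refine le_trans (Nat.card_le_card_of_injective
    (fun x : (tauHom F p b).ker => (⟨x.1, by
      have hx := x.2
      rw [AddMonoidHom.mem_ker, tauHom_apply, bar_apply, sub_eq_zero] at hx
      rw [one_mul]; exact hx.symm⟩ : {x : F // x ^ p ^ b = 1 * x})) ?_) h1
  intro x y hxy
  have hxy' := congrArg Subtype.val hxy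
  exact Subtype.ext hxy'

theorem card_range_tau_le (hcard : Fintype.card F = p ^ (2 * b)) (hb : 0 < b) :
    Nat.card (tauHom F p b).range ≤ p ^ b := by
  have h1 := card_pow_eq_mul_le (F := F) (p ^ b) (one_lt_pow_b hb) (-1)
  refine le_trans (Nat.card_le_card_of_injective
    (fun x : (tauHom F p b).range => (⟨x.1, by
      obtain ⟨w, hw⟩ := x.2
      rw [← hw, ← bar_apply, bar_tau hcard]; ring⟩ : {x : F // x ^ p ^ b = (-1) * x})) ?_) h1
  intro x y hxy
  have hxy' := congrArg Subtype.val hxy
  exact Subtype.ext hxy'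

theorem card_ker_tr_le (hb : 0 < b) : Nat.card (trHom F p b).ker ≤ p ^ b := by
  have h1 := card_pow_eq_mul_le (F := F) (p ^ b) (one_lt_pow_b hb) (-1)
  refine le_trans (Nat.card_le_card_of_injective
    (fun x : (trHom F p b).ker => (⟨x.1, by
      have hx := x.2
      rw [AddMonoidHom.mem_ker, trHom_apply, bar_apply] at hx
      rw [neg_one_mul]; exact eq_neg_of_add_eq_zero_right hx⟩ :
        {x : F // x ^ p ^ b = (-1) * x})) ?_) h1
  intro x y hxy
  have hxy' := congrArg Subtype.val hxy
  exact Subtype.ext hxy'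

theorem card_range_tau (hcard : Fintype.card F = p ^ (2 * b)) (hb : 0 < b) :
    Nat.card (tauHom F p b).range = p ^ b := by
  have h1 := card_ker_tau_le (F := F) (p := p) hb
  have h2 := card_range_tau_le hcard hb
  have h3 : Nat.card (tauHom F p b).ker * Nat.card (tauHom F p b).range = p ^ b * p ^ b := by
    rw [← AddSubgroup.index_ker, AddSubgroup.card_mul_index, Nat.card_eq_fintype_card, hcard,
      two_mul, pow_add]
  have hpos : 0 < p ^ b := pow_pos (Fact.out : p.Prime).pos b
  by_contra hne
  have h4 : Nat.card (tauHom F p b).range < p ^ b := lt_of_le_of_ne h2 hne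
  have h5 : Nat.card (tauHom F p b).ker * Nat.card (tauHom F p b).range < p ^ b * p ^ b :=
    calc _ ≤ p ^ b * Nat.card (tauHom F p b).range := Nat.mul_le_mul_right _ h1
      _ < p ^ b * p ^ b := Nat.mul_lt_mul_of_pos_left h4 hpos
  omega

theorem exists_eps (hcard : Fintype.card F = p ^ (2 * b)) (hb : 0 < b) :
    ∃ e : F, e + bar F p b e = 1 := by
  have h1 := card_ker_tr_le (F := F) (p := p) hb
  have h2 : ∃ e0 : F, trHom F p b e0 ≠ 0 := by
    by_contra hcon
    push Not at hcon
    have h3 : (trHom F p b).ker = ⊤ := by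
      rw [eq_top_iff]; intro x _; exact hcon x
    rw [h3, Nat.card_congr (AddSubgroup.topEquiv (G := F)).toEquiv, Nat.card_eq_fintype_card,
      hcard, two_mul, pow_add] at h1
    have hpos : 2 ≤ p ^ b := one_lt_pow_b hb
    nlinarith
  obtain ⟨e0, he0⟩ := h2
  set t := trHom F p b e0 with ht
  have hbt : bar F p b t = t := by
    rw [ht, trHom_apply, map_add, bar_bar hcard]; ring
  refine ⟨e0 / t, ?_⟩
  rw [map_div₀, hbt, ← add_div, ← trHom_apply, ← ht, div_self he0]

end even

section lam

variable {p q a : ℕ} {lam : F}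

theorem FD.bar_lam {b : ℕ} [CharP F p] [Fact p.Prime] (h : FD p q (2 * b) F lam) (hb : 0 < b) :
    bar F p b lam = lam⁻¹ := by
  have : Fact q.Prime := ⟨h.hq⟩
  have h1 : ((p : ZMod q) ^ b) ^ 2 = 1 := by
    rw [← pow_mul, mul_comm, h.ha]; exact pow_orderOf_eq_one _
  have h2 : (p : ZMod q) ^ b ≠ 1 := by
    apply pow_ne_one_of_lt_orderOf hb.ne'
    rw [← h.ha]; omega
  have h3 : (p : ZMod q) ^ b = -1 := by
    rcases sq_eq_one_iff.mp h1 with h | h
    · exact absurd h h2
    · exact h
  have h4 : q ∣ p ^ b + 1 := by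
    rw [← ZMod.natCast_eq_zero_iff, Nat.cast_add, Nat.cast_pow, h3, Nat.cast_one, neg_add_cancel]
  have h5 : lam ^ (p ^ b + 1) = 1 := by
    obtain ⟨k, hk⟩ := h4
    rw [hk, pow_mul, h.lam_pow, one_pow]
  rw [bar_apply]
  rw [pow_succ] at h5
  exact eq_inv_of_mul_eq_one_left h5

/-- adjointness: `c (w u) v = c u (w̄ v)` -/
theorem form_even_adj {b : ℕ} [CharP F p] [Fact p.Prime] (h : FD p q (2 * b) F lam) (hb : 0 < b)
    {C : Type*} [AddCommGroup C] {c : F →+ F →+ C} (hc : IsForm lam c) (w u v : F) :
    c (w * u) v = c u (bar F p b w * v) := by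
  let A : AddSubgroup F :=
    { carrier := {w | ∀ u v, c (w * u) v = c u (bar F p b w * v)}
      zero_mem' := by
        intro u v
        simp
      add_mem' := by
        intro x y hx hy u v
        rw [add_mul, map_add, AddMonoidHom.add_apply, hx, hy, map_add, add_mul, map_add]
      neg_mem' := by
        intro x hx u v
        rw [neg_mul, map_neg, AddMonoidHom.neg_apply, hx, map_neg, neg_mul, map_neg] }
  have h1 : (1 : F) ∈ A := by
    intro u v
    rw [one_mul, map_one, one_mul]
  have hst : ∀ x ∈ A, lam * x ∈ A := by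
    intro x hx u v
    have h2 : c (lam * x * u) v = c (x * u) (lam⁻¹ * v) := by
      have := hc.inv (x * u) (lam⁻¹ * v)
      rw [← mul_assoc, ← mul_assoc, mul_inv_cancel₀ h.lam_ne_zero, one_mul] at this
      exact this
    rw [h2, hx, map_mul (bar F p b) lam x, h.bar_lam hb]
    congr 1
    ring
  have h3 := h.eq_top_of_stable A hst h1 one_ne_zero
  have h4 : w ∈ A := by rw [h3]; trivial
  exact h4 u v

theorem form_even {b : ℕ} [CharP F p] [Fact p.Prime] (h : FD p q (2 * b) F lam) (hb : 0 < b)
    {C : Type*} [AddCommGroup C] {c : F →+ F →+ C} (hc : IsForm lam c) :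
    (∀ u v, c u v = c 1 (bar F p b u * v)) ∧ ∀ k, bar F p b k = k → c 1 k = 0 := by
  have hcard : Fintype.card F = p ^ (2 * b) := h.card
  constructor
  · intro u v
    have := form_even_adj h hb hc u 1 v
    rwa [mul_one] at this
  · intro k hk
    obtain ⟨e, he⟩ := exists_eps hcard hb
    have h1 : k = e * k + bar F p b (e * k) := by
      rw [map_mul, hk, ← add_mul, he, one_mul]
    have h2 : c 1 (bar F p b (e * k)) = - c 1 (e * k) := by
      have := form_even_adj h hb hc (e * k) 1 1
      rw [mul_one, mul_one] at this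
      rw [← this, hc.antisymm]
    rw [h1, map_add, h2, add_neg_cancel]

theorem form_even_card {b : ℕ} [CharP F p] [Fact p.Prime] (h : FD p q (2 * b) F lam) (hb : 0 < b)
    {C : Type*} [AddCommGroup C] {c : F →+ F →+ C} (hc : IsForm lam c) :
    Nat.card (c 1).range ≤ p ^ b := by
  have hcard : Fintype.card F = p ^ (2 * b) := h.card
  have h1 : (tauHom F p b).ker ≤ (c 1).ker := by
    intro k hk
    rw [AddMonoidHom.mem_ker, tauHom_apply, sub_eq_zero] at hk
    rw [AddMonoidHom.mem_ker]
    exact (form_even h hb hc).2 k hk.symm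
  have h2 := AddSubgroup.index_dvd_of_le h1
  rw [AddSubgroup.index_ker, AddSubgroup.index_ker, card_range_tau hcard hb] at h2
  exact Nat.le_of_dvd (pow_pos h.hp.pos b) h2

theorem even_of_involution {p a : ℕ} [CharP F p] [Fact p.Prime] (hcard : Fintype.card F = p ^ a)
    (i : F →+* F) (hii : ∀ x, i (i x) = x) (hne : ∃ x, i x ≠ x) : 2 ∣ a := by
  let _ : Algebra (ZMod p) F := ZMod.algebra F p
  let e : F ≃+* F := RingEquiv.ofRingHom i i (RingHom.ext hii) (RingHom.ext hii)
  let g : F ≃ₐ[ZMod p] F := AlgEquiv.ofRingEquiv (f := e) (fun x =>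
    RingHom.congr_fun (Subsingleton.elim (e.toRingHom.comp (algebraMap (ZMod p) F))
      (algebraMap (ZMod p) F)) x)
  have hgx : ∀ x, g x = i x := fun x => rfl
  have hg2 : g ^ 2 = 1 := by
    ext x
    rw [pow_two, AlgEquiv.mul_apply, AlgEquiv.one_apply, hgx, hgx, hii]
  have hg1 : g ≠ 1 := by
    intro h1
    obtain ⟨x, hx⟩ := hne
    apply hx
    rw [← hgx, h1, AlgEquiv.one_apply]
  have hord : orderOf g = 2 := orderOf_eq_prime hg2 hg1
  have hdvd : 2 ∣ Nat.card (F ≃ₐ[ZMod p] F) := hord ▸ orderOf_dvd_natCard g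
  rw [IsGalois.card_aut_eq_finrank] at hdvd
  have hfr : Module.finrank (ZMod p) F = a := by
    have h1 := Module.card_eq_pow_finrank (K := ZMod p) (V := F)
    rw [ZMod.card, hcard] at h1
    exact (Nat.pow_right_injective (Fact.out : p.Prime).two_le h1).symm
  rwa [hfr] at hdvd

/-- `q = 2`: invariant alternating forms vanish -/
theorem form_zero_of_two (h : FD p q a F lam) (hq2 : q = 2)
    {C : Type*} [AddCommGroup C] {c : F →+ F →+ C} (hc : IsForm lam c) (u v : F) :
    c u v = 0 := by
  have hl : lam = -1 := by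
    have h1 := h.lam_pow
    rw [hq2] at h1
    rcases sq_eq_one_iff.mp h1 with h2 | h2
    · exact absurd h2 h.lam_ne_one
    · exact h2
  have h1 : (c 1).ker = ⊤ := by
    apply h.eq_top_of_stable (c 1).ker _ (x := 1) _ one_ne_zero
    · intro x hx
      rw [AddMonoidHom.mem_ker] at hx ⊢
      rw [hl, neg_one_mul, map_neg, hx, neg_zero]
    · rw [AddMonoidHom.mem_ker]; exact hc.alt 1
  let A : AddSubgroup F :=
    { carrier := {u | ∀ v, c u v = 0}
      zero_mem' := by intro v; simp
      add_mem' := by
        intro x y hx hy v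
        rw [map_add, AddMonoidHom.add_apply, hx, hy, add_zero]
      neg_mem' := by
        intro x hx v
        rw [map_neg, AddMonoidHom.neg_apply, hx, neg_zero] }
  have h2 : (1 : F) ∈ A := by
    intro v
    have : v ∈ (c 1).ker := by rw [h1]; trivial
    exact this
  have h3 : A = ⊤ := by
    apply h.eq_top_of_stable A _ h2 one_ne_zero
    intro x hx v
    rw [hl, neg_one_mul, map_neg, AddMonoidHom.neg_apply, hx, neg_zero]
  have h4 : u ∈ A := by rw [h3]; trivial
  exact h4 v

/-- `a` odd, `q` odd: invariant alternating forms vanish -/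
theorem form_zero_of_odd [CharP F p] [Fact p.Prime] (h : FD p q a F lam) (hq2 : q ≠ 2)
    (hodd : ¬ 2 ∣ a)
    {C : Type*} [AddCommGroup C] {c : F →+ F →+ C} (hc : IsForm lam c) (u v : F) :
    c u v = 0 := by
  classical
  by_contra hne0
  have hl0 := h.lam_ne_zero
  -- moving `lam`
  have hmove : ∀ x y, c (lam * x) y = c x (lam⁻¹ * y) := by
    intro x y
    have := hc.inv x (lam⁻¹ * y)
    rw [← mul_assoc, mul_inv_cancel₀ hl0, one_mul] at this
    exact this
  have hmove' : ∀ x y, c x (lam * y) = c (lam⁻¹ * x) y := by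
    intro x y
    have := hc.inv (lam⁻¹ * x) y
    rw [← mul_assoc, mul_inv_cancel₀ hl0, one_mul] at this
    exact this
  -- the right kernel is trivial
  let N : AddSubgroup F :=
    { carrier := {w | ∀ x y, c x (w * y) = 0}
      zero_mem' := by intro x y; simp
      add_mem' := by
        intro w w' hw hw' x y
        rw [add_mul, map_add, hw, hw', add_zero]
      neg_mem' := by
        intro w hw x y
        rw [neg_mul, map_neg, hw, neg_zero] }
  have hNst : ∀ w ∈ N, lam * w ∈ N := by
    intro w hw x y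
    rw [mul_assoc, hmove']
    exact hw _ _
  have hN : ∀ w, (∀ x y, c x (w * y) = 0) → w = 0 := by
    intro w hw
    by_contra hw0
    have h1 := h.eq_top_of_stable N hNst (x := w) hw hw0
    have h2 : (1 : F) ∈ N := by rw [h1]; trivial
    apply hne0
    have := h2 u v
    rwa [one_mul] at this
  -- the domain of the adjoint
  let D : AddSubgroup F :=
    { carrier := {w | ∃ w', ∀ x y, c (w * x) y = c x (w' * y)}
      zero_mem' := ⟨0, by intro x y; simp⟩
      add_mem' := by
        rintro w₁ w₂ ⟨w₁', h1⟩ ⟨w₂', h2⟩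
        refine ⟨w₁' + w₂', ?_⟩
        intro x y
        rw [add_mul, map_add, AddMonoidHom.add_apply, h1, h2, add_mul, map_add]
      neg_mem' := by
        rintro w ⟨w', h1⟩
        refine ⟨-w', ?_⟩
        intro x y
        rw [neg_mul, map_neg, AddMonoidHom.neg_apply, h1, neg_mul, map_neg] }
  have hD1 : (1 : F) ∈ D := ⟨1, by intro x y; rw [one_mul, one_mul]⟩
  have hDst : ∀ w ∈ D, lam * w ∈ D := by
    rintro w ⟨w', h1⟩
    refine ⟨lam⁻¹ * w', ?_⟩
    intro x y
    rw [mul_assoc, hmove, h1]
    congr 1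
    ring
  have hDtop := h.eq_top_of_stable D hDst hD1 one_ne_zero
  have hex : ∀ w : F, ∃ w', ∀ x y, c (w * x) y = c x (w' * y) := by
    intro w
    have : w ∈ D := by rw [hDtop]; trivial
    exact this
  choose i hi using hex
  have huniq : ∀ w w', (∀ x y, c (w * x) y = c x (w' * y)) → w' = i w := by
    intro w w' hw
    have : w' - i w = 0 := by
      apply hN
      intro x y
      rw [sub_mul, map_sub, ← hw, ← hi, sub_self]
    exact sub_eq_zero.1 this
  have hi1 : i 1 = 1 := (huniq 1 1 (by intro x y; rw [one_mul, one_mul])).symm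
  have hi0 : i 0 = 0 := (huniq 0 0 (by intro x y; simp)).symm
  have hiadd : ∀ w₁ w₂, i (w₁ + w₂) = i w₁ + i w₂ := by
    intro w₁ w₂
    refine (huniq _ _ ?_).symm
    intro x y
    rw [add_mul, map_add, AddMonoidHom.add_apply, hi, hi, add_mul, map_add]
  have himul : ∀ w₁ w₂, i (w₁ * w₂) = i w₁ * i w₂ := by
    intro w₁ w₂
    refine (huniq _ _ ?_).symm
    intro x y
    rw [mul_assoc, hi, hi]
    congr 1
    ring
  have hilam : i lam = lam⁻¹ := by
    refine (huniq _ _ ?_).symm
    intro x y
    exact hmove x y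
  have hii : ∀ w, i (i w) = w := by
    intro w
    have : w - i (i w) = 0 := by
      apply hN
      intro x y
      -- c x (w y) = c x (i (i w) y)
      have e1 : c (w * y) x = c y (i w * x) := hi w y x
      have e2 : c (i w * x) y = c x (i (i w) * y) := hi (i w) x y
      have e3 : c x (w * y) = - c (w * y) x := hc.antisymm _ _
      have e4 : c y (i w * x) = - c (i w * x) y := hc.antisymm _ _
      rw [sub_mul, map_sub, e3, e1, e4, e2, neg_neg, sub_self]
    exact (sub_eq_zero.1 this).symm
  let iR : F →+* F :=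
    { toFun := i
      map_one' := hi1
      map_mul' := himul
      map_zero' := hi0
      map_add' := hiadd }
  have hne : ∃ x, iR x ≠ x := by
    refine ⟨lam, ?_⟩
    show i lam ≠ lam
    rw [hilam]
    intro h1
    have h2 : lam ^ 2 = 1 := by
      rw [pow_two]
      nth_rewrite 1 [← h1]
      exact inv_mul_cancel₀ hl0
    have h3 : q ∣ 2 := by
      rw [← h.ord]; exact orderOf_dvd_of_pow_eq_one h2
    exact hq2 ((Nat.prime_dvd_prime_iff_eq h.hq Nat.prime_two).1 h3)
  exact hodd (even_of_involution h.card iR hii hne)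

end lam

end Cfsg.Agent.Lib.H2.Sm
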