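import Cfsg.Agent.Lib.H2.SmB
import Cfsg.Agent.Lib.H22.SchAutA

/-!
# Schmidt groups, part C: configurations over `F_p(λ)` and the bound on the kernel (helper2)

`Conf lam S`: a group `S` with an automorphism `ψ` and a surjection `π : S → (F, +)` such that
`π (ψ s) = lam * π s`, whose kernel is central and fixed by `ψ`.
`Conf.card_ker_le`: if `S = [S, ψ]` then `|ker π| ≤ N₀` as soon as the values of every invariant
alternating form on `F` lie in a group of order at most `N₀` (`FormHyp`).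
-/

set_option autoImplicit false
open scoped commutatorElement IsMulCommutative

namespace Cfsg.Agent.Lib.H2.Sm

open Cfsg.Agent.Lib.H22.SchAut

universe u v

/-- a configuration -/
structure Conf {F : Type u} [Field F] (lam : F) (S : Type v) [Group S] where
  ψ : S ≃* S
  π : S →* Multiplicative F
  surj : Function.Surjective π
  equiv : ∀ s, (π (ψ s)).toAdd = lam * (π s).toAdd
  fixed : ∀ z, π z = 1 → ψ z = z
  central : ∀ z, π z = 1 → ∀ s, s * z = z * s

/-- `S = [S, ψ]` -/
def Conf.Gen {F : Type u} [Field F] {lam : F} {S : Type v} [Group S] (K : Conf lam S) : Prop :=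
  Subgroup.closure {y : S | ∃ x, y = x⁻¹ * K.ψ x} = ⊤

/-- the values of every invariant alternating form lie in a group of order at most `N₀` -/
def FormHyp {F : Type u} [Field F] [Fintype F] (lam : F) (N₀ : ℕ) : Prop :=
  ∀ (C : Type v) [AddCommGroup C] (c : F →+ F →+ C), IsForm lam c →
    ∃ h : F →+ C, (∀ x y, ∃ w, c x y = h w) ∧ Nat.card h.range ≤ N₀

section conf

variable {F : Type u} [Field F] {lam : F} {S : Type v} [Group S] (K : Conf lam S)

theorem Conf.pi_comm (s t : S) : K.π ⁅s, t⁆ = 1 := by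
  rw [commutatorElement_def, map_mul, map_mul, map_mul, map_inv, map_inv]
  rw [mul_comm (K.π s) (K.π t), mul_inv_cancel_right, mul_inv_cancel]

theorem Conf.hc (K : Conf lam S) : ∀ a b s : S, s * ⁅a, b⁆ = ⁅a, b⁆ * s :=
  fun a b s => K.central _ (K.pi_comm a b) s

theorem Conf.psi_comm (s t : S) : K.ψ ⁅s, t⁆ = ⁅s, t⁆ := K.fixed _ (K.pi_comm s t)

theorem Conf.pi_psi (s : S) : K.π (K.ψ s) = Multiplicative.ofAdd (lam * (K.π s).toAdd) := by
  rw [← K.equiv s]; rfl

theorem Conf.commutator_le_ker : commutator S ≤ K.π.ker := by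
  rw [commutator_def, Subgroup.commutator_le]
  intro a _ b _
  exact K.pi_comm a b

/-- commutators only depend on the images in `F` -/
theorem Conf.comm_congr {s s' t t' : S} (hs : K.π s = K.π s') (ht : K.π t = K.π t') :
    ⁅s, t⁆ = ⁅s', t'⁆ := by
  have hz : K.π (s⁻¹ * s') = 1 := by rw [map_mul, map_inv, hs, inv_mul_cancel]
  have hw : K.π (t⁻¹ * t') = 1 := by rw [map_mul, map_inv, ht, inv_mul_cancel]
  have h1 : s' = s * (s⁻¹ * s') := by group
  have h2 : t' = t * (t⁻¹ * t') := by group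
  set z := s⁻¹ * s' with hzdef
  set w := t⁻¹ * t' with hwdef
  have cz := K.central z hz
  have cw := K.central w hw
  rw [h1, h2, commutatorElement_def, commutatorElement_def]
  have e1 : (s * z)⁻¹ = s⁻¹ * z⁻¹ := by
    rw [mul_inv_rev]
    have := cz s⁻¹
    have h3 : z⁻¹ * s⁻¹ = s⁻¹ * z⁻¹ := by
      calc z⁻¹ * s⁻¹ = z⁻¹ * (s⁻¹ * z) * z⁻¹ := by group
        _ = z⁻¹ * (z * s⁻¹) * z⁻¹ := by rw [this]
        _ = s⁻¹ * z⁻¹ := by group
    exact h3
  have e2 : (t * w)⁻¹ = t⁻¹ * w⁻¹ := by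
    rw [mul_inv_rev]
    have := cw t⁻¹
    calc w⁻¹ * t⁻¹ = w⁻¹ * (t⁻¹ * w) * w⁻¹ := by group
      _ = w⁻¹ * (w * t⁻¹) * w⁻¹ := by rw [this]
      _ = t⁻¹ * w⁻¹ := by group
  rw [e1, e2]
  symm
  calc s * z * (t * w) * (s⁻¹ * z⁻¹) * (t⁻¹ * w⁻¹)
      = s * (z * t) * (w * s⁻¹) * (z⁻¹ * t⁻¹) * w⁻¹ := by group
    _ = s * (t * z) * (s⁻¹ * w) * (z⁻¹ * t⁻¹) * w⁻¹ := by rw [← cz t, ← cw s⁻¹]
    _ = s * t * (z * s⁻¹) * (w * z⁻¹) * t⁻¹ * w⁻¹ := by group
    _ = s * t * (s⁻¹ * z) * (z⁻¹ * w) * t⁻¹ * w⁻¹ := by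
        rw [← cz s⁻¹]
        have : w * z⁻¹ = z⁻¹ * w := (cw z⁻¹).symm ▸ rfl
        rw [this]
    _ = s * t * s⁻¹ * (w * t⁻¹) * w⁻¹ := by group
    _ = s * t * s⁻¹ * (t⁻¹ * w) * w⁻¹ := by rw [← cw t⁻¹]
    _ = s * t * s⁻¹ * t⁻¹ := by group

variable [Finite S]

/-- the kernel lies in the commutator subgroup when `S = [S, ψ]` -/
theorem Conf.ker_le_commutator (hgen : K.Gen) : K.π.ker ≤ commutator S := by
  intro z hz
  have hz' : K.ψ z = z := K.fixed z hz
  let ψb : Abelianization S →* Abelianization S := Abelianization.map K.ψ.toMonoidHom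
  let φ : Abelianization S →* Abelianization S := ψb / MonoidHom.id (Abelianization S)
  have hφ : ∀ x : S, φ (Abelianization.of x) = Abelianization.of (x⁻¹ * K.ψ x) := by
    intro x
    show ψb (Abelianization.of x) / Abelianization.of x = _
    rw [Abelianization.map_of, map_mul, map_inv, div_eq_mul_inv, mul_comm]
    rfl
  have hsurj : Function.Surjective φ := by
    rw [← MonoidHom.range_eq_top, eq_top_iff]
    have h1 : (⊤ : Subgroup (Abelianization S)) =
        (Subgroup.closure {y : S | ∃ x, y = x⁻¹ * K.ψ x}).map Abelianization.of := by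
      have hg : Subgroup.closure {y : S | ∃ x, y = x⁻¹ * K.ψ x} = ⊤ := hgen
      rw [hg, ← MonoidHom.range_eq_map]
      exact (MonoidHom.range_eq_top.2 (QuotientGroup.mk'_surjective _)).symm
    rw [h1, MonoidHom.map_closure, Subgroup.closure_le]
    rintro _ ⟨_, ⟨x, rfl⟩, rfl⟩
    exact ⟨Abelianization.of x, hφ x⟩
  have hinj : Function.Injective φ := Finite.injective_iff_surjective.2 hsurj
  have h2 : φ (Abelianization.of z) = 1 := by
    rw [hφ, hz', inv_mul_cancel, map_one]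
  have h3 : Abelianization.of z = 1 := hinj (h2.trans (map_one φ).symm)
  rwa [← MonoidHom.mem_ker, Abelianization.ker_of] at h3

end conf

section bound

variable {F : Type u} [Field F] [Fintype F] {lam : F} {S : Type v} [Group S]

/-- a section of `π` -/
noncomputable def Conf.sec (K : Conf lam S) (x : F) : S := Classical.choose (K.surj (Multiplicative.ofAdd x))

theorem Conf.pi_sec (K : Conf lam S) (x : F) : K.π (K.sec x) = Multiplicative.ofAdd x :=
  Classical.choose_spec (K.surj (Multiplicative.ofAdd x))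

theorem Conf.comm_mem_center (K : Conf lam S) (s t : S) : ⁅s, t⁆ ∈ Subgroup.center S := by
  rw [Subgroup.mem_center_iff]
  intro g
  exact K.hc s t g

/-- the commutator form -/
noncomputable def Conf.form (K : Conf lam S) : F →+ F →+ Additive (Subgroup.center S) :=
  AddMonoidHom.mk' (fun x => AddMonoidHom.mk'
    (fun y => Additive.ofMul (⟨⁅K.sec x, K.sec y⁆, K.comm_mem_center _ _⟩ : Subgroup.center S))
    (by
      intro y y'
      rw [← ofMul_mul]
      congr 1
      apply Subtype.ext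
      show ⁅K.sec x, K.sec (y + y')⁆ = ⁅K.sec x, K.sec y⁆ * ⁅K.sec x, K.sec y'⁆
      rw [← cl_apply K.hc, ← cl_apply K.hc, ← cl_apply K.hc, ← map_mul, cl_apply, cl_apply]
      apply K.comm_congr rfl
      rw [map_mul, K.pi_sec, K.pi_sec, K.pi_sec, ofAdd_add]))
    (by
      intro x x'
      apply AddMonoidHom.ext
      intro y
      show Additive.ofMul (⟨⁅K.sec (x + x'), K.sec y⁆, _⟩ : Subgroup.center S) =
        Additive.ofMul (⟨⁅K.sec x, K.sec y⁆, _⟩ : Subgroup.center S) +
          Additive.ofMul (⟨⁅K.sec x', K.sec y⁆, _⟩ : Subgroup.center S)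
      rw [← ofMul_mul]
      congr 1
      apply Subtype.ext
      show ⁅K.sec (x + x'), K.sec y⁆ = ⁅K.sec x, K.sec y⁆ * ⁅K.sec x', K.sec y⁆
      rw [← cr_apply K.hc, ← cr_apply K.hc, ← cr_apply K.hc, ← map_mul, cr_apply, cr_apply]
      apply K.comm_congr _ rfl
      rw [map_mul, K.pi_sec, K.pi_sec, K.pi_sec, ofAdd_add])

theorem Conf.form_apply (K : Conf lam S) (s t : S) :
    K.form (K.π s).toAdd (K.π t).toAdd =
      Additive.ofMul (⟨⁅s, t⁆, K.comm_mem_center _ _⟩ : Subgroup.center S) := by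
  show Additive.ofMul (⟨⁅K.sec (K.π s).toAdd, K.sec (K.π t).toAdd⁆, _⟩ : Subgroup.center S) = _
  congr 1
  apply Subtype.ext
  show ⁅K.sec (K.π s).toAdd, K.sec (K.π t).toAdd⁆ = ⁅s, t⁆
  apply K.comm_congr
  · rw [K.pi_sec]; rfl
  · rw [K.pi_sec]; rfl

theorem Conf.isForm (K : Conf lam S) : IsForm lam K.form where
  inv := by
    intro x y
    obtain ⟨s, hs⟩ := K.surj (Multiplicative.ofAdd x)
    obtain ⟨t, ht⟩ := K.surj (Multiplicative.ofAdd y)
    have h1 : lam * x = (K.π (K.ψ s)).toAdd := by rw [K.equiv, hs]; rfl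
    have h2 : lam * y = (K.π (K.ψ t)).toAdd := by rw [K.equiv, ht]; rfl
    have h3 : x = (K.π s).toAdd := by rw [hs]; rfl
    have h4 : y = (K.π t).toAdd := by rw [ht]; rfl
    rw [h1, h2, K.form_apply]
    conv_rhs => rw [h3, h4]
    rw [K.form_apply]
    congr 1
    apply Subtype.ext
    show ⁅K.ψ s, K.ψ t⁆ = ⁅s, t⁆
    rw [← map_commutatorElement, K.psi_comm]
  alt := by
    intro x
    obtain ⟨s, hs⟩ := K.surj (Multiplicative.ofAdd x)
    have h3 : x = (K.π s).toAdd := by rw [hs]; rfl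
    rw [h3, K.form_apply]
    have : (⟨⁅s, s⁆, K.comm_mem_center _ _⟩ : Subgroup.center S) = 1 := by
      apply Subtype.ext
      show ⁅s, s⁆ = 1
      exact commutatorElement_self s
    rw [this]
    rfl

variable [Finite S]

/-- **the bound on the kernel** -/
theorem Conf.card_ker_le (K : Conf lam S) (hgen : K.Gen) {N₀ : ℕ} (hF : FormHyp.{u, v} lam N₀) :
    Nat.card K.π.ker ≤ N₀ := by
  obtain ⟨h, hh, hcard⟩ := hF (Additive (Subgroup.center S)) K.form K.isForm
  let H : Subgroup S :=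
    { carrier := {x | ∃ w : F, x = ((Additive.toMul (h w) : Subgroup.center S) : S)}
      one_mem' := ⟨0, by rw [map_zero]; rfl⟩
      mul_mem' := by
        rintro _ _ ⟨w, rfl⟩ ⟨w', rfl⟩
        exact ⟨w + w', by rw [map_add]; rfl⟩
      inv_mem' := by
        rintro _ ⟨w, rfl⟩
        exact ⟨-w, by rw [map_neg]; rfl⟩ }
  have h1 : commutator S ≤ H := by
    rw [commutator_def, Subgroup.commutator_le]
    intro s _ t _
    obtain ⟨w, hw⟩ := hh (K.π s).toAdd (K.π t).toAdd
    rw [K.form_apply] at hw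
    refine ⟨w, ?_⟩
    rw [← hw]
    rfl
  have h2 : Nat.card H ≤ Nat.card h.range := by
    apply Nat.card_le_card_of_surjective
      (fun y : h.range => (⟨((Additive.toMul y.1 : Subgroup.center S) : S), by
        obtain ⟨w, hw⟩ := y.2
        exact ⟨w, by rw [hw]⟩⟩ : H))
    rintro ⟨x, w, rfl⟩
    exact ⟨⟨h w, ⟨w, rfl⟩⟩, rfl⟩
  calc Nat.card K.π.ker ≤ Nat.card (commutator S) :=
        Subgroup.card_le_of_le (K.ker_le_commutator hgen)
    _ ≤ Nat.card H := Subgroup.card_le_of_le h1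
    _ ≤ Nat.card h.range := h2
    _ ≤ N₀ := hcard

theorem Conf.card_eq (K : Conf lam S) : Nat.card S = Nat.card F * Nat.card K.π.ker := by
  rw [← Subgroup.card_mul_index K.π.ker, Subgroup.index_ker, mul_comm]
  congr 1
  rw [MonoidHom.range_eq_top.2 K.surj, Subgroup.card_top]
  exact Nat.card_congr Multiplicative.toAdd

end bound

end Cfsg.Agent.Lib.H2.Sm
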