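import Cfsg.Agent.Lib.H2.SmC

/-!
# Schmidt groups, part D: universality of a configuration with maximal kernel (helper2)

`exists_hom`: if `K₀` is a configuration on `P₀` with `P₀ = [P₀, ψ₀]` whose kernel has the
maximal possible order `N₀` (`FormHyp lam N₀`), then for every configuration `K` on `P` there is
an equivariant homomorphism `P₀ → P` over `F`.  Proof: the fibre product `E ≤ P₀ × P`, the
subgroup `E₁ = [E, ψ]`, and the bound `Conf.card_ker_le` applied to `E₁`.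
-/

set_option autoImplicit false
open scoped commutatorElement

namespace Cfsg.Agent.Lib.H2.Sm

universe u

variable {F : Type u} [Field F] [Fintype F] {lam : F}
variable {P₀ P : Type u} [Group P₀] [Group P] [Finite P₀] [Finite P]

theorem exists_hom (hl1 : lam ≠ 1) (K₀ : Conf lam P₀) (K : Conf lam P) (hgen₀ : K₀.Gen)
    {N₀ : ℕ} (hF : FormHyp.{u, u} lam N₀) (hcard₀ : Nat.card K₀.π.ker = N₀) :
    ∃ φ : P₀ →* P, (∀ s, φ (K₀.ψ s) = K.ψ (φ s)) ∧ (∀ s, K.π (φ s) = K₀.π s) := by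
  classical
  -- the fibre product
  let E : Subgroup (P₀ × P) :=
    { carrier := {e | K₀.π e.1 = K.π e.2}
      mul_mem' := by
        intro a b ha hb
        show K₀.π (a * b).1 = K.π (a * b).2
        rw [Prod.fst_mul, Prod.snd_mul, map_mul, map_mul, ha, hb]
      one_mem' := by
        show K₀.π (1 : P₀ × P).1 = K.π (1 : P₀ × P).2
        rw [Prod.fst_one, Prod.snd_one, map_one, map_one]
      inv_mem' := by
        intro a ha
        show K₀.π (a⁻¹).1 = K.π (a⁻¹).2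
        rw [Prod.fst_inv, Prod.snd_inv, map_inv, map_inv, ha] }
  let ψE : P₀ × P ≃* P₀ × P := MulEquiv.prodCongr K₀.ψ K.ψ
  have hψEa : ∀ e : P₀ × P, ψE e = (K₀.ψ e.1, K.ψ e.2) := fun e => rfl
  have hψE : ∀ e ∈ E, ψE e ∈ E := by
    intro e he
    have he' : K₀.π e.1 = K.π e.2 := he
    show K₀.π (ψE e).1 = K.π (ψE e).2
    rw [hψEa, K₀.pi_psi, K.pi_psi, he']
  let E₁ : Subgroup (P₀ × P) := Subgroup.closure {y | ∃ e ∈ E, y = e⁻¹ * ψE e}
  have hE₁E : E₁ ≤ E := by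
    rw [Subgroup.closure_le]
    rintro _ ⟨e, he, rfl⟩
    exact E.mul_mem (E.inv_mem he) (hψE e he)
  have hψE₁ : ∀ x ∈ E₁, ψE x ∈ E₁ := by
    have hle : E₁ ≤ E₁.comap ψE.toMonoidHom := by
      rw [Subgroup.closure_le]
      rintro _ ⟨e, he, rfl⟩
      show ψE (e⁻¹ * ψE e) ∈ E₁
      rw [map_mul, map_inv]
      exact Subgroup.subset_closure ⟨ψE e, hψE e he, rfl⟩
    exact fun x hx => hle hx
  -- the automorphism of `E₁`
  let f₁ : ↥E₁ →* ↥E₁ :=
    MonoidHom.codRestrict (ψE.toMonoidHom.comp E₁.subtype) E₁ (fun x => hψE₁ x.1 x.2)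
  have hf₁ : ∀ x : ↥E₁, ((f₁ x : ↥E₁) : P₀ × P) = ψE x.1 := fun x => rfl
  have hf₁inj : Function.Injective f₁ := by
    intro x y hxy
    apply Subtype.ext
    apply ψE.injective
    rw [← hf₁, ← hf₁, hxy]
  have hf₁bij : Function.Bijective f₁ := ⟨hf₁inj, Finite.injective_iff_surjective.1 hf₁inj⟩
  let ψ₁ : ↥E₁ ≃* ↥E₁ := MulEquiv.ofBijective f₁ hf₁bij
  have hψ₁ : ∀ x : ↥E₁, ((ψ₁ x : ↥E₁) : P₀ × P) = ψE x.1 := fun x => rfl
  let π₁ : ↥E₁ →* Multiplicative F := K₀.π.comp ((MonoidHom.fst P₀ P).comp E₁.subtype)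
  have hπ₁ : ∀ x : ↥E₁, π₁ x = K₀.π x.1.1 := fun x => rfl
  have hπ₁' : ∀ x : ↥E₁, π₁ x = K.π x.1.2 := fun x => (hπ₁ x).trans (hE₁E x.2)
  have hl1' : lam - 1 ≠ 0 := sub_ne_zero.2 hl1
  have hsurj₁ : Function.Surjective π₁ := by
    intro m
    set x : F := m.toAdd with hx
    obtain ⟨s₀, hs₀⟩ := K₀.surj (Multiplicative.ofAdd (x / (lam - 1)))
    obtain ⟨s, hs⟩ := K.surj (Multiplicative.ofAdd (x / (lam - 1)))
    have he : (s₀, s) ∈ E := by
      show K₀.π s₀ = K.π s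
      rw [hs₀, hs]
    refine ⟨⟨(s₀, s)⁻¹ * ψE (s₀, s), Subgroup.subset_closure ⟨(s₀, s), he, rfl⟩⟩, ?_⟩
    rw [hπ₁]
    show K₀.π (((s₀, s)⁻¹ * ψE (s₀, s)).1) = m
    rw [Prod.fst_mul, Prod.fst_inv, hψEa, map_mul, map_inv, K₀.pi_psi, hs₀]
    show Multiplicative.ofAdd (-(x / (lam - 1)) + lam * (x / (lam - 1))) = m
    have : -(x / (lam - 1)) + lam * (x / (lam - 1)) = x := by
      field_simp
      ring
    rw [this, hx]
    rfl
  let K₁ : Conf lam ↥E₁ :=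
    { ψ := ψ₁
      π := π₁
      surj := hsurj₁
      equiv := by
        intro x
        rw [hπ₁, hπ₁, hψ₁, hψEa]
        exact K₀.equiv _
      fixed := by
        intro z hz
        have h1 : K₀.π z.1.1 = 1 := (hπ₁ z).symm.trans hz
        have h2 : K.π z.1.2 = 1 := (hπ₁' z).symm.trans hz
        apply Subtype.ext
        rw [hψ₁, hψEa, K₀.fixed _ h1, K.fixed _ h2]
      central := by
        intro z hz s
        have h1 : K₀.π z.1.1 = 1 := (hπ₁ z).symm.trans hz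
        have h2 : K.π z.1.2 = 1 := (hπ₁' z).symm.trans hz
        apply Subtype.ext
        show s.1 * z.1 = z.1 * s.1
        apply Prod.ext
        · rw [Prod.fst_mul, Prod.fst_mul]; exact K₀.central _ h1 _
        · rw [Prod.snd_mul, Prod.snd_mul]; exact K.central _ h2 _ }
  -- `E₁ = [E₁, ψ₁]`
  have hgen₁ : K₁.Gen := by
    show Subgroup.closure {y : ↥E₁ | ∃ x, y = x⁻¹ * ψ₁ x} = ⊤
    apply Subgroup.map_injective E₁.subtype_injective
    rw [MonoidHom.map_closure, ← MonoidHom.range_eq_map, Subgroup.range_subtype]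
    apply le_antisymm
    · rw [Subgroup.closure_le]
      rintro _ ⟨y, _, rfl⟩
      exact y.2
    · show Subgroup.closure {y | ∃ e ∈ E, y = e⁻¹ * ψE e} ≤ _
      rw [Subgroup.closure_le]
      rintro _ ⟨e, he, rfl⟩
      apply Subgroup.subset_closure
      obtain ⟨e₁, he₁⟩ := hsurj₁ (K₀.π e.1)
      have he' : K₀.π e.1 = K.π e.2 := he
      have hz1 : K₀.π (e₁.1⁻¹ * e).1 = 1 := by
        rw [Prod.fst_mul, Prod.fst_inv, map_mul, map_inv, ← hπ₁, he₁, inv_mul_cancel]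
      have hz2 : K.π (e₁.1⁻¹ * e).2 = 1 := by
        rw [Prod.snd_mul, Prod.snd_inv, map_mul, map_inv, ← hπ₁', he₁, he', inv_mul_cancel]
      set z : P₀ × P := e₁.1⁻¹ * e with hz
      have hze : e = e₁.1 * z := by rw [hz]; group
      have hzfix : ψE z = z := by
        rw [hψEa]
        apply Prod.ext
        · exact K₀.fixed _ hz1
        · exact K.fixed _ hz2
      have hzc : ∀ g : P₀ × P, g * z = z * g := by
        intro g
        apply Prod.ext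
        · rw [Prod.fst_mul, Prod.fst_mul]; exact K₀.central _ hz1 _
        · rw [Prod.snd_mul, Prod.snd_mul]; exact K.central _ hz2 _
      refine ⟨e₁⁻¹ * ψ₁ e₁, ⟨e₁, rfl⟩, ?_⟩
      show e₁.1⁻¹ * ψE e₁.1 = e⁻¹ * ψE e
      rw [hze, map_mul, hzfix, mul_inv_rev]
      have := hzc (ψE e₁.1)
      calc e₁.1⁻¹ * ψE e₁.1 = z⁻¹ * (z * (e₁.1⁻¹ * ψE e₁.1)) := by group
        _ = z⁻¹ * ((e₁.1⁻¹ * ψE e₁.1) * z) := by rw [← hzc]
        _ = z⁻¹ * e₁.1⁻¹ * (ψE e₁.1 * z) := by group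
  -- the order of `E₁`
  have hcard₁ : Nat.card ↥E₁ ≤ Nat.card P₀ := by
    rw [K₁.card_eq, K₀.card_eq, hcard₀]
    exact Nat.mul_le_mul_left _ (K₁.card_ker_le hgen₁ hF)
  -- the first projection is bijective
  let pr₁ : ↥E₁ →* P₀ := (MonoidHom.fst P₀ P).comp E₁.subtype
  have hpr₁ : ∀ x : ↥E₁, pr₁ x = x.1.1 := fun x => rfl
  have hpr₁surj : Function.Surjective pr₁ := by
    rw [← MonoidHom.range_eq_top, eq_top_iff]
    have hg : Subgroup.closure {y : P₀ | ∃ x, y = x⁻¹ * K₀.ψ x} = ⊤ := hgen₀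
    rw [← hg, Subgroup.closure_le]
    rintro _ ⟨s₀, rfl⟩
    obtain ⟨s, hs⟩ := K.surj (K₀.π s₀)
    have he : (s₀, s) ∈ E := hs.symm
    exact ⟨⟨(s₀, s)⁻¹ * ψE (s₀, s), Subgroup.subset_closure ⟨(s₀, s), he, rfl⟩⟩, rfl⟩
  have hpr₁bij : Function.Bijective pr₁ := by
    rw [Nat.bijective_iff_surjective_and_card]
    exact ⟨hpr₁surj, le_antisymm hcard₁ (Nat.card_le_card_of_surjective pr₁ hpr₁surj)⟩
  let ε : ↥E₁ ≃* P₀ := MulEquiv.ofBijective pr₁ hpr₁bij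
  have hε : ∀ x : ↥E₁, ε x = x.1.1 := fun x => rfl
  let φ : P₀ →* P := ((MonoidHom.snd P₀ P).comp E₁.subtype).comp ε.symm.toMonoidHom
  have hφ : ∀ s₀ : P₀, φ s₀ = (ε.symm s₀).1.2 := fun s₀ => rfl
  have hfst : ∀ s₀ : P₀, (ε.symm s₀).1.1 = s₀ := by
    intro s₀
    rw [← hε, MulEquiv.apply_symm_apply]
  refine ⟨φ, ?_, ?_⟩
  · intro s₀
    have h1 : ε.symm (K₀.ψ s₀) = ψ₁ (ε.symm s₀) := by
      apply ε.injective
      rw [MulEquiv.apply_symm_apply, hε, hψ₁, hψEa, hfst]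
    rw [hφ, h1, hψ₁, hψEa, hφ]
  · intro s₀
    rw [hφ, ← hπ₁', hπ₁, hfst]

end Cfsg.Agent.Lib.H2.Sm
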