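import Cfsg.Agent.Lib.H2.SmC

/-!
# Schmidt groups, part E: the universal `p`-groups (helper2)

`CG β`: the group on `V × A` with multiplication `(u,s)(v,t) = (u+v, s+t+β u v)` for a biadditive
`β`.  For `a = 2b`: `P₀ = CG (betaF ..)` on `F × τ(F)` with `β u v = τ(ε ū v)`, `ε + ε̄ = 1`; it
carries a configuration with kernel of order `p ^ b` and `P₀ = [P₀, ψ₀]`.
For `a` odd: `P₀ = Multiplicative F`.
-/

set_option autoImplicit false
open scoped commutatorElement

namespace Cfsg.Agent.Lib.H2.Sm

universe u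

/-- the group on `V × A` defined by a biadditive cocycle -/
@[ext] structure CG {V A : Type u} [AddCommGroup V] [AddCommGroup A] (β : V →+ V →+ A) where
  fst : V
  snd : A

namespace CG

variable {V A : Type u} [AddCommGroup V] [AddCommGroup A] {β : V →+ V →+ A}

instance : Mul (CG β) := ⟨fun a b => ⟨a.fst + b.fst, a.snd + b.snd + β a.fst b.fst⟩⟩
instance : One (CG β) := ⟨⟨0, 0⟩⟩
instance : Inv (CG β) := ⟨fun a => ⟨-a.fst, -a.snd + β a.fst a.fst⟩⟩

@[simp] theorem mul_fst (a b : CG β) : (a * b).fst = a.fst + b.fst := rfl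
@[simp] theorem mul_snd (a b : CG β) : (a * b).snd = a.snd + b.snd + β a.fst b.fst := rfl
@[simp] theorem one_fst : (1 : CG β).fst = 0 := rfl
@[simp] theorem one_snd : (1 : CG β).snd = 0 := rfl
@[simp] theorem inv_fst (a : CG β) : (a⁻¹).fst = -a.fst := rfl
@[simp] theorem inv_snd (a : CG β) : (a⁻¹).snd = -a.snd + β a.fst a.fst := rfl

instance : Group (CG β) where
  mul_assoc a b c := by
    ext
    · simp [add_assoc]
    · simp only [mul_snd, mul_fst, map_add, AddMonoidHom.add_apply]
      abel
  one_mul a := by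
    ext
    · simp
    · simp
  mul_one a := by
    ext
    · simp
    · simp
  inv_mul_cancel a := by
    ext
    · simp
    · simp only [mul_snd, inv_snd, inv_fst, map_neg, AddMonoidHom.neg_apply, one_snd]
      abel

/-- the underlying product -/
def equivProd : CG β ≃ V × A where
  toFun a := (a.fst, a.snd)
  invFun x := ⟨x.1, x.2⟩
  left_inv _ := rfl
  right_inv _ := rfl

instance [Finite V] [Finite A] : Finite (CG β) := Finite.of_equiv _ equivProd.symm

theorem card_eq [Finite V] [Finite A] : Nat.card (CG β) = Nat.card V * Nat.card A := by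
  rw [Nat.card_congr equivProd, Nat.card_prod]

theorem commutator_eq (x y : CG β) :
    ⁅x, y⁆ = ⟨0, β x.fst y.fst - β y.fst x.fst⟩ := by
  rw [commutatorElement_def]
  ext
  · simp
  · simp only [mul_snd, mul_fst, inv_snd, inv_fst, map_add, map_neg, AddMonoidHom.add_apply,
      AddMonoidHom.neg_apply]
    abel

/-- the projection -/
def proj : CG β →* Multiplicative V where
  toFun a := Multiplicative.ofAdd a.fst
  map_one' := rfl
  map_mul' _ _ := rfl

/-- the automorphism induced by an additive automorphism of `V` preserving `β` -/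
def autOf (g : V ≃+ V) (hg : ∀ x y, β (g x) (g y) = β x y) : CG β ≃* CG β where
  toFun a := ⟨g a.fst, a.snd⟩
  invFun a := ⟨g.symm a.fst, a.snd⟩
  left_inv a := by ext <;> simp
  right_inv a := by ext <;> simp
  map_mul' a b := by
    ext
    · simp
    · simp [hg]

@[simp] theorem autOf_fst (g : V ≃+ V) (hg : ∀ x y, β (g x) (g y) = β x y) (a : CG β) :
    (autOf g hg a).fst = g a.fst := rfl

@[simp] theorem autOf_snd (g : V ≃+ V) (hg : ∀ x y, β (g x) (g y) = β x y) (a : CG β) :
    (autOf g hg a).snd = a.snd := rfl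

end CG

/-- multiplication by a nonzero element as an additive equivalence -/
def mulAddEquiv {F : Type u} [Field F] (c : F) (hc : c ≠ 0) : F ≃+ F where
  toFun x := c * x
  invFun x := c⁻¹ * x
  left_inv x := by
    show c⁻¹ * (c * x) = x
    rw [← mul_assoc, inv_mul_cancel₀ hc, one_mul]
  right_inv x := by
    show c * (c⁻¹ * x) = x
    rw [← mul_assoc, mul_inv_cancel₀ hc, one_mul]
  map_add' x y := mul_add c x y

@[simp] theorem mulAddEquiv_apply {F : Type u} [Field F] (c : F) (hc : c ≠ 0) (x : F) :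
    mulAddEquiv c hc x = c * x := rfl

section even

variable (F : Type u) [Field F] [Fintype F] (p b : ℕ) [CharP F p] [Fact p.Prime] (e : F)

/-- the cocycle `β u v = τ(ε ū v)` -/
noncomputable def betaF : F →+ F →+ ↥(tauHom F p b).range :=
  AddMonoidHom.mk'
    (fun x => (tauHom F p b).rangeRestrict.comp (AddMonoidHom.mulLeft (e * bar F p b x)))
    (by
      intro x x'
      apply AddMonoidHom.ext
      intro y
      apply Subtype.ext
      show tauHom F p b ((e * bar F p b (x + x')) * y) =
        tauHom F p b ((e * bar F p b x) * y) + tauHom F p b ((e * bar F p b x') * y)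
      rw [← map_add, map_add (bar F p b)]
      congr 1
      ring)

variable {F p b e}

theorem betaF_apply (x y : F) :
    ((betaF F p b e x y : ↥(tauHom F p b).range) : F) = tauHom F p b (e * bar F p b x * y) := rfl

variable {q : ℕ} {lam : F}

theorem betaF_inv (h : FD p q (2 * b) F lam) (hb : 0 < b) (x y : F) :
    betaF F p b e (lam * x) (lam * y) = betaF F p b e x y := by
  apply Subtype.ext
  rw [betaF_apply, betaF_apply, map_mul (bar F p b) lam x, h.bar_lam hb]
  congr 1
  have := h.lam_ne_zero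
  field_simp

/-- the configuration on `CG (betaF ..)` -/
noncomputable def confE (h : FD p q (2 * b) F lam) (hb : 0 < b) :
    Conf lam (CG (betaF F p b e)) where
  ψ := CG.autOf (mulAddEquiv lam h.lam_ne_zero) (fun x y => betaF_inv h hb x y)
  π := CG.proj
  surj := by
    intro m
    exact ⟨⟨m.toAdd, 0⟩, rfl⟩
  equiv := fun _ => rfl
  fixed := by
    intro z hz
    have hz0 : z.fst = 0 := hz
    ext
    · show lam * z.fst = z.fst
      rw [hz0, mul_zero]
    · rfl
  central := by
    intro z hz s
    have hz0 : z.fst = 0 := hz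
    ext
    · simp [add_comm]
    · simp only [CG.mul_snd, hz0, map_zero, AddMonoidHom.zero_apply, add_zero]
      abel

theorem confE_psi_fst (h : FD p q (2 * b) F lam) (hb : 0 < b) (x : CG (betaF F p b e)) :
    ((confE h hb).ψ x).fst = lam * x.fst := rfl

theorem confE_gen (h : FD p q (2 * b) F lam) (hb : 0 < b) (he : e + bar F p b e = 1) :
    (confE (e := e) h hb).Gen := by
  have hcard : Fintype.card F = p ^ (2 * b) := h.card
  set K := confE (e := e) h hb with hK
  show Subgroup.closure {y : CG (betaF F p b e) | ∃ x, y = x⁻¹ * K.ψ x} = ⊤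
  set T := Subgroup.closure {y : CG (betaF F p b e) | ∃ x, y = x⁻¹ * K.ψ x} with hT
  have hl1 : lam - 1 ≠ 0 := sub_ne_zero.2 h.lam_ne_one
  have h1 : ∀ x : F, ∃ t ∈ T, t.fst = x := by
    intro x
    refine ⟨(⟨x / (lam - 1), 0⟩ : CG (betaF F p b e))⁻¹ * K.ψ ⟨x / (lam - 1), 0⟩,
      Subgroup.subset_closure ⟨_, rfl⟩, ?_⟩
    rw [CG.mul_fst, CG.inv_fst, hK, confE_psi_fst]
    show -(x / (lam - 1)) + lam * (x / (lam - 1)) = x
    field_simp
    ring
  have h2 : ∀ (w : F) (hw : tauHom F p b w ∈ (tauHom F p b).range),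
      (⟨0, ⟨tauHom F p b w, hw⟩⟩ : CG (betaF F p b e)) ∈ T := by
    intro w hw
    obtain ⟨t₁, ht₁, h11⟩ := h1 1
    obtain ⟨t₂, ht₂, h12⟩ := h1 w
    have h3 : ⁅t₁, t₂⁆ ∈ T := by
      rw [commutatorElement_def]
      exact T.mul_mem (T.mul_mem (T.mul_mem ht₁ ht₂) (T.inv_mem ht₁)) (T.inv_mem ht₂)
    rw [CG.commutator_eq, h11, h12] at h3
    have h4 : betaF F p b e 1 w - betaF F p b e w 1 = ⟨tauHom F p b w, hw⟩ := by
      apply Subtype.ext
      show ((betaF F p b e 1 w - betaF F p b e w 1 : ↥(tauHom F p b).range) : F) = tauHom F p b w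
      rw [AddSubgroup.coe_sub, betaF_apply, betaF_apply, map_one, mul_one, mul_one]
      rw [tauHom_apply, tauHom_apply, tauHom_apply, map_mul, map_mul, bar_bar hcard]
      have he' : bar F p b e = 1 - e := by rw [← he]; ring
      rw [he']
      ring
    rwa [h4] at h3
  rw [eq_top_iff]
  intro x _
  obtain ⟨t, ht, htx⟩ := h1 x.fst
  have h5 : t⁻¹ * x ∈ T := by
    obtain ⟨w, hw⟩ := (t⁻¹ * x).snd.2
    have h6 : t⁻¹ * x = ⟨0, ⟨tauHom F p b w, ⟨w, rfl⟩⟩⟩ := by
      ext
      · rw [CG.mul_fst, CG.inv_fst, htx, neg_add_cancel]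
      · exact hw.symm
    rw [h6]
    exact h2 w _
  have : x = t * (t⁻¹ * x) := by group
  rw [this]
  exact T.mul_mem ht h5

theorem card_PE (hcard : Fintype.card F = p ^ (2 * b)) (hb : 0 < b) :
    Nat.card (CG (betaF F p b e)) = p ^ (3 * b) := by
  rw [CG.card_eq, card_range_tau hcard hb, Nat.card_eq_fintype_card, hcard, ← pow_add]
  congr 1
  ring

theorem card_ker_confE (h : FD p q (2 * b) F lam) (hb : 0 < b) :
    Nat.card (confE (e := e) h hb).π.ker = p ^ b := by
  have hcard : Fintype.card F = p ^ (2 * b) := h.card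
  have h1 := (confE (e := e) h hb).card_eq
  rw [card_PE hcard hb, Nat.card_eq_fintype_card, hcard] at h1
  have h2 : p ^ (3 * b) = p ^ (2 * b) * p ^ b := by rw [← pow_add]; congr 1; ring
  rw [h2] at h1
  exact (Nat.eq_of_mul_eq_mul_left (pow_pos h.hp.pos _) h1).symm

end even

section odd

variable {F : Type u} [Field F] [Fintype F] {p q a : ℕ} {lam : F}

/-- the configuration on `Multiplicative F` -/
noncomputable def confO (h : FD p q a F lam) : Conf lam (Multiplicative F) where
  ψ := AddEquiv.toMultiplicative (mulAddEquiv lam h.lam_ne_zero)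
  π := MonoidHom.id _
  surj := fun m => ⟨m, rfl⟩
  equiv := fun _ => rfl
  fixed := by
    intro z hz
    have hz1 : z = 1 := hz
    rw [hz1, map_one]
  central := fun z _ s => mul_comm s z

theorem confO_gen (h : FD p q a F lam) : (confO h).Gen := by
  show Subgroup.closure {y : Multiplicative F | ∃ x, y = x⁻¹ * (confO h).ψ x} = ⊤
  rw [eq_top_iff]
  intro m _
  apply Subgroup.subset_closure
  have hl1 : lam - 1 ≠ 0 := sub_ne_zero.2 h.lam_ne_one
  refine ⟨Multiplicative.ofAdd (m.toAdd / (lam - 1)), ?_⟩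
  show m = Multiplicative.ofAdd (-(m.toAdd / (lam - 1)) + lam * (m.toAdd / (lam - 1)))
  have : -(m.toAdd / (lam - 1)) + lam * (m.toAdd / (lam - 1)) = m.toAdd := by
    field_simp
    ring
  rw [this]
  rfl

theorem card_ker_confO (h : FD p q a F lam) : Nat.card (confO h).π.ker = 1 := by
  have : (confO h).π.ker = ⊥ := by
    rw [eq_bot_iff]
    intro z hz
    exact hz
  rw [this, Subgroup.card_bot]

end odd

end Cfsg.Agent.Lib.H2.Sm
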