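import Cfsg.Agent.Lib.H2.SmE
import Cfsg.Agent.Lib.L0.FrobeniusPC
import Cfsg.Agent.Lib.H16.NormalComplementDescent

set_option autoImplicit false
open scoped commutatorElement

namespace Cfsg.Agent.Lib.H2.Sm

universe u

section cyc

variable {M : Type*} [Group M]

/-- the homomorphism from `ZMod n` sending `1` to `x` -/
def cycHom (n : ℕ) (x : M) (hx : x ^ n = 1) : Multiplicative (ZMod n) →* M :=
  AddMonoidHom.toMultiplicativeLeft (ZMod.lift n ⟨zmultiplesHom (Additive M) (Additive.ofMul x), by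
    rw [zmultiplesHom_apply, natCast_zsmul, ← ofMul_pow, hx, ofMul_one]⟩)

theorem cycHom_apply_int (n : ℕ) (x : M) (hx : x ^ n = 1) (k : ℤ) :
    cycHom n x hx (Multiplicative.ofAdd (k : ZMod n)) = x ^ k := by
  show Additive.toMul (ZMod.lift n _ (k : ZMod n)) = x ^ k
  rw [ZMod.lift_coe]
  rfl

theorem cycHom_apply_nat (n : ℕ) (x : M) (hx : x ^ n = 1) (k : ℕ) :
    cycHom n x hx (Multiplicative.ofAdd (k : ZMod n)) = x ^ k := by
  have := cycHom_apply_int n x hx (k : ℤ)
  rwa [Int.cast_natCast, zpow_natCast] at this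

theorem cycHom_one (n : ℕ) (x : M) (hx : x ^ n = 1) :
    cycHom n x hx (Multiplicative.ofAdd (1 : ZMod n)) = x := by
  have := cycHom_apply_nat n x hx 1
  rwa [Nat.cast_one, pow_one] at this

theorem exists_nat_eq (n : ℕ) [NeZero n] (c : Multiplicative (ZMod n)) :
    ∃ k : ℕ, c = Multiplicative.ofAdd (k : ZMod n) := by
  refine ⟨(Multiplicative.toAdd c).val, ?_⟩
  rw [ZMod.natCast_zmod_val]
  rfl

end cyc

section G0

open SemidirectProduct

variable {F : Type u} [Field F] [Fintype F] {p q a : ℕ} {lam : F}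
variable {P₀ : Type u} [Group P₀] [Finite P₀]

/-- hypotheses on the universal normal Sylow subgroup -/
structure UData (p q : ℕ) (K₀ : Conf lam P₀) : Prop where
  gen : K₀.Gen
  pow : (K₀.ψ : MulAut P₀) ^ q = 1
  pgroup : IsPGroup p P₀

theorem UData.pow_r {K₀ : Conf lam P₀} (hU : UData p q K₀) (r : ℕ) (hr : 1 ≤ r) :
    (K₀.ψ : MulAut P₀) ^ (q ^ r) = 1 := by
  obtain ⟨r', rfl⟩ : ∃ r', r = r' + 1 := ⟨r - 1, by omega⟩
  rw [pow_succ', pow_mul, hU.pow, one_pow]

/-- the universal group -/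
abbrev G0 (K₀ : Conf lam P₀) (n : ℕ) (hn : (K₀.ψ : MulAut P₀) ^ n = 1) : Type u :=
  P₀ ⋊[cycHom n (K₀.ψ : MulAut P₀) hn] Multiplicative (ZMod n)

variable (K₀ : Conf lam P₀) (n : ℕ) (hn : (K₀.ψ : MulAut P₀) ^ n = 1)

instance finite_G0 [NeZero n] : Finite (G0 K₀ n hn) :=
  Finite.of_equiv _ SemidirectProduct.equivProd.symm

theorem card_G0 [NeZero n] : Nat.card (G0 K₀ n hn) = Nat.card P₀ * n := by
  rw [SemidirectProduct.card]
  congr 1
  exact Nat.card_zmod n

theorem inr_gen_conj (t : P₀) :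
    (inr (Multiplicative.ofAdd (1 : ZMod n)) : G0 K₀ n hn) * inl t *
      (inr (Multiplicative.ofAdd (1 : ZMod n)))⁻¹ = inl (K₀.ψ t) := by
  rw [← map_inv, ← inl_aut, cycHom_one]

theorem inr_pow_card [NeZero n] (c : Multiplicative (ZMod n)) : c ^ n = 1 := by
  have := pow_card_eq_one' (G := Multiplicative (ZMod n)) (x := c)
  rwa [show Nat.card (Multiplicative (ZMod n)) = n from Nat.card_zmod n] at this

theorem not_pnilp_G0 [Fact p.Prime] (h : FD p q a F lam) (hU : UData p q K₀) (r : ℕ)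
    (hnr : n = q ^ r) :
    ¬ Cfsg.HasNormalPComplement p (G0 K₀ n hn) := by
  intro hc
  have : NeZero n := ⟨by rw [hnr]; exact pow_ne_zero _ h.hq.ne_zero⟩
  obtain ⟨N, hNn, hNp, k, hk⟩ := Cfsg.Agent.Lib.L0.HasNormalPComplement.exists_normal hc
  set y₀ : G0 K₀ n hn := inr (Multiplicative.ofAdd (1 : ZMod n)) with hy₀
  have hy₀n : y₀ ^ n = 1 := by
    rw [hy₀, ← map_pow, inr_pow_card, map_one]
  have hcop : Nat.Coprime N.index (orderOf y₀) := by
    rw [hk]
    have h1 : orderOf y₀ ∣ q ^ r := hnr ▸ orderOf_dvd_of_pow_eq_one hy₀n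
    exact Nat.Coprime.coprime_dvd_right h1
      (Nat.Coprime.pow _ _ ((Nat.coprime_primes h.hp h.hq).2 h.hpq))
  have hy₀N : y₀ ∈ N := Cfsg.Agent.Lib.H16.mem_of_normal_of_coprime_orderOf N y₀ hcop
  have hfix : ∀ t : P₀, K₀.ψ t = t := by
    intro t
    have h1 : (inl (K₀.ψ t * t⁻¹) : G0 K₀ n hn) ∈ N := by
      have h2 : (inl (K₀.ψ t * t⁻¹) : G0 K₀ n hn) = y₀ * (inl t * y₀⁻¹ * (inl t)⁻¹) := by
        rw [map_mul, ← inr_gen_conj, map_inv, ← hy₀]
        group
      rw [h2]
      exact N.mul_mem hy₀N (hNn.conj_mem _ (N.inv_mem hy₀N) _)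
    obtain ⟨m, hm⟩ := hU.pgroup (K₀.ψ t * t⁻¹)
    have h3 : orderOf (inl (K₀.ψ t * t⁻¹) : G0 K₀ n hn) ∣ p ^ m := by
      apply orderOf_dvd_of_pow_eq_one
      rw [← map_pow, hm, map_one]
    have h4 : orderOf (inl (K₀.ψ t * t⁻¹) : G0 K₀ n hn) ∣ Nat.card N := by
      have := orderOf_dvd_natCard (⟨_, h1⟩ : N)
      rwa [← Subgroup.orderOf_coe] at this
    have h5 : Nat.Coprime (p ^ m) (Nat.card N) :=
      Nat.Coprime.pow_left _ ((Nat.Prime.coprime_iff_not_dvd h.hp).2 hNp)
    have h6 := Nat.eq_one_of_dvd_coprimes h5 h3 h4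
    have h7 : (inl (K₀.ψ t * t⁻¹) : G0 K₀ n hn) = 1 := orderOf_eq_one_iff.1 h6
    have h8 : K₀.ψ t * t⁻¹ = 1 := inl_injective (h7.trans (map_one _).symm)
    exact mul_inv_eq_one.1 h8
  obtain ⟨t, ht⟩ := K₀.surj (Multiplicative.ofAdd 1)
  have h1 := K₀.equiv t
  rw [hfix t, ht] at h1
  have h2 : (1 : F) = lam * 1 := h1
  rw [mul_one] at h2
  exact h.lam_ne_one h2.symm

theorem conj_inl (g : G0 K₀ n hn) (t : P₀) :
    g * inl t * g⁻¹ = inl (g.left * (cycHom n (K₀.ψ : MulAut P₀) hn g.right) t * g.left⁻¹) := by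
  conv_lhs => rw [← inl_left_mul_inr_right g]
  rw [map_mul, map_mul, inl_aut, map_inv, map_inv]
  group

theorem eq_inl_of_right (x : G0 K₀ n hn) (hx : x.right = 1) : x = inl x.left := by
  ext
  · rfl
  · rw [hx]; rfl

theorem cyc_apply_nat (k : ℕ) :
    cycHom n (K₀.ψ : MulAut P₀) hn (Multiplicative.ofAdd (k : ZMod n)) = (K₀.ψ : MulAut P₀) ^ k :=
  cycHom_apply_nat n _ hn k

theorem psi_pow_pi (k : ℕ) (t : P₀) :
    (K₀.π (((K₀.ψ : MulAut P₀) ^ k) t)).toAdd = lam ^ k * (K₀.π t).toAdd := by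
  induction k with
  | zero => simp
  | succ k ih =>
    rw [pow_succ', MulAut.mul_apply, K₀.equiv, ih, pow_succ']
    ring

theorem psi_pow_fixed (k : ℕ) (t : P₀) (ht : K₀.π t = 1) : ((K₀.ψ : MulAut P₀) ^ k) t = t := by
  induction k with
  | zero => simp
  | succ k ih =>
    rw [pow_succ', MulAut.mul_apply, ih, K₀.fixed t ht]

theorem right_eq_one_of_pgroup [Fact p.Prime] (h : FD p q a F lam) (r : ℕ) (hnr : n = q ^ r)
    (x : G0 K₀ n hn) (m : ℕ) (hx : x ^ p ^ m = 1) : x.right = 1 := by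
  have : NeZero n := ⟨by rw [hnr]; exact pow_ne_zero _ h.hq.ne_zero⟩
  have h1 : x.right ^ p ^ m = 1 := by
    have h0 := congrArg (rightHom : G0 K₀ n hn →* Multiplicative (ZMod n)) hx
    rw [map_pow, map_one] at h0
    exact h0
  have h2 : x.right ^ n = 1 := inr_pow_card n x.right
  have h3 : orderOf x.right ∣ p ^ m := orderOf_dvd_of_pow_eq_one h1
  have h4 : orderOf x.right ∣ q ^ r := hnr ▸ orderOf_dvd_of_pow_eq_one h2
  have h5 : Nat.Coprime (p ^ m) (q ^ r) :=
    Nat.Coprime.pow _ _ ((Nat.coprime_primes h.hp h.hq).2 h.hpq)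
  exact orderOf_eq_one_iff.1 (Nat.eq_one_of_dvd_coprimes h5 h3 h4)

theorem key [Fact p.Prime] (h : FD p q a F lam) (hU : UData p q K₀) (r : ℕ) (hr : 1 ≤ r)
    (hnr : n = q ^ r)
    (Q : Subgroup (G0 K₀ n hn)) (hQ : IsPGroup p Q) (g : G0 K₀ n hn)
    (hg : g ∈ Subgroup.normalizer (Q : Set (G0 K₀ n hn))) (hgo : Nat.Coprime (orderOf g) p)
    (K : Subgroup (G0 K₀ n hn)) (hK : K ≠ ⊤) (hQK : Q ≤ K) (hgK : g ∈ K) :
    g ∈ Subgroup.centralizer (Q : Set (G0 K₀ n hn)) := by
  have : NeZero n := ⟨by rw [hnr]; exact pow_ne_zero _ h.hq.ne_zero⟩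
  have hQinl : ∀ x ∈ Q, x = inl x.left := by
    intro x hx
    obtain ⟨m, hm⟩ := hQ ⟨x, hx⟩
    have hm' : x ^ p ^ m = 1 := by
      have := congrArg Subtype.val hm
      simpa using this
    exact eq_inl_of_right K₀ n hn x (right_eq_one_of_pgroup K₀ n hn h r hnr x m hm')
  obtain ⟨k, hk⟩ := exists_nat_eq n g.right
  have hα : cycHom n (K₀.ψ : MulAut P₀) hn g.right = (K₀.ψ : MulAut P₀) ^ k := by
    rw [hk]; exact cyc_apply_nat K₀ n hn k
  suffices hs : ∀ t : P₀, (inl t : G0 K₀ n hn) ∈ Q →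
      g.left * ((K₀.ψ : MulAut P₀) ^ k) t * g.left⁻¹ = t by
    rw [Subgroup.mem_centralizer_iff]
    intro x hx
    have hx' := hQinl x hx
    have h1 := conj_inl K₀ n hn g x.left
    rw [hα, hs x.left (hx' ▸ hx), ← hx'] at h1
    calc x * g = g * x * g⁻¹ * g := by rw [h1]
      _ = g * x := by group
  by_cases hqk : q ∣ k
  · have hψk : (K₀.ψ : MulAut P₀) ^ k = 1 := by
      obtain ⟨d, rfl⟩ := hqk
      rw [pow_mul, hU.pow, one_pow]
    have hcomm : Commute (inl g.left : G0 K₀ n hn) (inr g.right) := by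
      have h0 := inl_aut (φ := cycHom n (K₀.ψ : MulAut P₀) hn) g.right g.left
      rw [hα, hψk, MulAut.one_apply, map_inv] at h0
      show inl g.left * inr g.right = inr g.right * inl g.left
      calc (inl g.left : G0 K₀ n hn) * inr g.right
          = (inr g.right * inl g.left * (inr g.right)⁻¹) * inr g.right := by rw [← h0]
        _ = _ := by group
    have hleft : g.left ^ orderOf g = 1 := by
      generalize hN : orderOf g = N
      have hpow : g ^ N = 1 := hN ▸ pow_orderOf_eq_one g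
      rw [← inl_left_mul_inr_right g, hcomm.mul_pow, ← map_pow, ← map_pow] at hpow
      have h0 := congrArg SemidirectProduct.left hpow
      rw [mul_left, left_inl, right_inl, map_one, left_inr, MulAut.one_apply, mul_one,
        one_left] at h0
      exact h0
    have hs1 : g.left = 1 := by
      obtain ⟨m, hm⟩ := hU.pgroup g.left
      have h3 := orderOf_dvd_of_pow_eq_one hm
      have h4 := orderOf_dvd_of_pow_eq_one hleft
      have h5 : Nat.Coprime (p ^ m) (orderOf g) := Nat.Coprime.pow_left _ hgo.symm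
      exact orderOf_eq_one_iff.1 (Nat.eq_one_of_dvd_coprimes h5 h3 h4)
    intro t _
    rw [hψk, hs1, MulAut.one_apply, one_mul, inv_one, mul_one]
  · have hcop : Nat.Coprime k q := ((Nat.Prime.coprime_iff_not_dvd h.hq).2 hqk).symm
    set Q₁ : Subgroup P₀ := Q.comap (inl : P₀ →* G0 K₀ n hn) with hQ₁
    set A : AddSubgroup F := Subgroup.toAddSubgroup' (Q₁.map K₀.π) with hA
    have hAmem : ∀ x : F, x ∈ A ↔ ∃ t ∈ Q₁, (K₀.π t).toAdd = x := by
      intro x
      constructor
      · rintro ⟨t, ht, htx⟩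
        exact ⟨t, ht, by rw [htx]; rfl⟩
      · rintro ⟨t, ht, rfl⟩
        exact ⟨t, ht, rfl⟩
    have hstab_k : ∀ x ∈ A, lam ^ k * x ∈ A := by
      intro x hx
      obtain ⟨t, ht, rfl⟩ := (hAmem x).1 hx
      refine (hAmem _).2 ⟨g.left * ((K₀.ψ : MulAut P₀) ^ k) t * g.left⁻¹, ?_, ?_⟩
      · show inl _ ∈ Q
        rw [← hα, ← conj_inl]
        exact (Subgroup.mem_normalizer_iff.1 hg _).1 ht
      · have h0 : K₀.π (g.left * ((K₀.ψ : MulAut P₀) ^ k) t * g.left⁻¹) =
            K₀.π (((K₀.ψ : MulAut P₀) ^ k) t) := by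
          rw [map_mul, map_mul, map_inv, mul_comm (K₀.π g.left), mul_inv_cancel_right]
        rw [h0]
        exact psi_pow_pi K₀ k t
    obtain ⟨m, -, hm⟩ := Nat.exists_mul_mod_eq_one_of_coprime hcop h.hq.one_lt
    have hlam : (lam ^ k) ^ m = lam := by
      rw [← pow_mul, ← Nat.div_add_mod (k * m) q, hm, pow_add, pow_mul, h.lam_pow, one_pow,
        one_mul, pow_one]
    have hstab : ∀ x ∈ A, lam * x ∈ A := by
      intro x hx
      have h0 : ∀ j : ℕ, (lam ^ k) ^ j * x ∈ A := by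
        intro j
        induction j with
        | zero => simpa using hx
        | succ j ih => rw [pow_succ', mul_assoc]; exact hstab_k _ ih
      have h1 := h0 m
      rwa [hlam] at h1
    by_cases hne : ∃ x ∈ A, x ≠ 0
    · exfalso
      obtain ⟨x, hx, hx0⟩ := hne
      have hAtop := h.eq_top_of_stable A hstab hx hx0
      have hlift : ∀ s : P₀, ∃ s' ∈ Q₁, K₀.π s' = K₀.π s := by
        intro s
        obtain ⟨s', hs', hss⟩ := (hAmem (K₀.π s).toAdd).1 (hAtop ▸ AddSubgroup.mem_top _)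
        exact ⟨s', hs', Multiplicative.toAdd.injective hss⟩
      have hcommle : commutator P₀ ≤ Q₁ := by
        rw [commutator_def, Subgroup.commutator_le]
        intro s _ t _
        obtain ⟨s', hs', hss⟩ := hlift s
        obtain ⟨t', ht', htt⟩ := hlift t
        rw [K₀.comm_congr hss.symm htt.symm, commutatorElement_def]
        exact Q₁.mul_mem (Q₁.mul_mem (Q₁.mul_mem hs' ht') (Q₁.inv_mem hs')) (Q₁.inv_mem ht')
      have hQ₁top : ∀ u : P₀, u ∈ Q₁ := by
        intro u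
        obtain ⟨t, ht, htu⟩ := hlift u
        have hker : t⁻¹ * u ∈ K₀.π.ker := by
          rw [MonoidHom.mem_ker, map_mul, map_inv, htu, inv_mul_cancel]
        have h1 := hcommle (K₀.ker_le_commutator hU.gen hker)
        have h2 : u = t * (t⁻¹ * u) := by group
        rw [h2]
        exact Q₁.mul_mem ht h1
      apply hK
      rw [eq_top_iff]
      intro z _
      have hinl : ∀ u : P₀, (inl u : G0 K₀ n hn) ∈ K := fun u => hQK (hQ₁top u)
      have hinr : (inr g.right : G0 K₀ n hn) ∈ K := by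
        have h0 : (inr g.right : G0 K₀ n hn) = (inl g.left)⁻¹ * g := by
          rw [eq_inv_mul_iff_mul_eq, inl_left_mul_inr_right]
        rw [h0]
        exact K.mul_mem (K.inv_mem (hinl _)) hgK
      have hcop' : Nat.Coprime k n := by rw [hnr]; exact Nat.Coprime.pow_right _ hcop
      have hn1 : 1 < n := by rw [hnr]; exact Nat.one_lt_pow (by omega) h.hq.one_lt
      obtain ⟨m', -, hm'⟩ := Nat.exists_mul_mod_eq_one_of_coprime hcop' hn1
      have hgen1 : (inr (Multiplicative.ofAdd (1 : ZMod n)) : G0 K₀ n hn) ∈ K := by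
        have h0 : Multiplicative.ofAdd (1 : ZMod n) = g.right ^ m' := by
          rw [hk, ← ofAdd_nsmul, nsmul_eq_mul, ← Nat.cast_mul, mul_comm, ← ZMod.natCast_mod, hm',
            Nat.cast_one]
        rw [h0, map_pow]
        exact K.pow_mem hinr _
      rw [← inl_left_mul_inr_right z]
      obtain ⟨k', hk'⟩ := exists_nat_eq n z.right
      have h3 : (inr z.right : G0 K₀ n hn) ∈ K := by
        have h0 : Multiplicative.ofAdd (k' : ZMod n) = (Multiplicative.ofAdd (1 : ZMod n)) ^ k' := by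
          rw [← ofAdd_nsmul, nsmul_eq_mul, mul_one]
        rw [hk', h0, map_pow]
        exact K.pow_mem hgen1 _
      exact K.mul_mem (hinl _) h3
    · push Not at hne
      intro t ht
      have hπ : K₀.π t = 1 := by
        have h0 := hne (K₀.π t).toAdd ((hAmem _).2 ⟨t, ht, rfl⟩)
        exact Multiplicative.toAdd.injective h0
      rw [psi_pow_fixed K₀ k t hπ, K₀.central t hπ g.left, mul_inv_cancel_right]

theorem proper_pnilp_G0 [Fact p.Prime] (h : FD p q a F lam) (hU : UData p q K₀) (r : ℕ)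
    (hr : 1 ≤ r) (hnr : n = q ^ r) (K : Subgroup (G0 K₀ n hn)) (hK : K ≠ ⊤) :
    Cfsg.HasNormalPComplement p ↥K := by
  have : NeZero n := ⟨by rw [hnr]; exact pow_ne_zero _ h.hq.ne_zero⟩
  apply Cfsg.Agent.Lib.L0.hasNormalPComplement_of_frobHyp
  intro Q hQ g hg hgp
  have hQ' : IsPGroup p (Q.map K.subtype) := hQ.map _
  have hg' : (g : G0 K₀ n hn) ∈
      Subgroup.normalizer ((Q.map K.subtype : Subgroup (G0 K₀ n hn)) : Set (G0 K₀ n hn)) := by
    rw [Subgroup.mem_normalizer_iff]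
    intro y
    constructor
    · rintro ⟨q, hq, rfl⟩
      exact ⟨g * q * g⁻¹, (Subgroup.mem_normalizer_iff.mp hg q).mp hq, by simp⟩
    · rintro ⟨q, hq, hqy⟩
      have hyK : y ∈ K := by
        have h0 : y = (g : G0 K₀ n hn)⁻¹ * (q : G0 K₀ n hn) * (g : G0 K₀ n hn) := by
          have h1 := hqy
          simp only [Subgroup.coe_subtype] at h1
          rw [h1]; group
        rw [h0]
        exact K.mul_mem (K.mul_mem (K.inv_mem g.2) q.2) g.2
      refine ⟨⟨y, hyK⟩, ?_, rfl⟩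
      apply (Subgroup.mem_normalizer_iff.mp hg ⟨y, hyK⟩).mpr
      have h0 : g * ⟨y, hyK⟩ * g⁻¹ = q := by
        apply Subtype.ext
        simpa using hqy.symm
      rw [h0]
      exact hq
  have hord : Nat.Coprime (orderOf (g : G0 K₀ n hn)) p := by rwa [Subgroup.orderOf_coe]
  have hle : Q.map K.subtype ≤ K := by
    rintro _ ⟨x, -, rfl⟩
    exact x.2
  have h1 := key K₀ n hn h hU r hr hnr _ hQ' (g : G0 K₀ n hn) hg' hord K hK hle g.2
  rw [Subgroup.mem_centralizer_iff] at h1 ⊢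
  intro x hx
  apply Subtype.ext
  exact h1 (x : G0 K₀ n hn) ⟨x, hx, rfl⟩

end G0

section udata

variable {F : Type u} [Field F] [Fintype F] {p q b a : ℕ} {e lam : F}

theorem confE_psi_pow [CharP F p] [Fact p.Prime] (h : FD p q (2 * b) F lam) (hb : 0 < b) (k : ℕ)
    (x : CG (betaF F p b e)) :
    ((((confE (e := e) h hb).ψ : MulAut (CG (betaF F p b e))) ^ k) x).fst = lam ^ k * x.fst ∧
    ((((confE (e := e) h hb).ψ : MulAut (CG (betaF F p b e))) ^ k) x).snd = x.snd := by
  induction k with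
  | zero => simp
  | succ k ih =>
    rw [pow_succ', MulAut.mul_apply]
    constructor
    · rw [confE_psi_fst, ih.1, pow_succ', mul_assoc]
    · exact ih.2

theorem udata_confE [CharP F p] [Fact p.Prime] (h : FD p q (2 * b) F lam) (hb : 0 < b)
    (he : e + bar F p b e = 1) : UData p q (confE (e := e) h hb) where
  gen := confE_gen h hb he
  pow := by
    apply MulEquiv.ext
    intro x
    have h1 := confE_psi_pow (e := e) h hb q x
    rw [h.lam_pow, one_mul] at h1
    exact CG.ext h1.1 h1.2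
  pgroup := IsPGroup.of_card (card_PE h.card hb)

theorem confO_psi_pow (h : FD p q a F lam) (k : ℕ) (x : Multiplicative F) :
    (((confO h).ψ : MulAut (Multiplicative F)) ^ k) x =
      Multiplicative.ofAdd (lam ^ k * x.toAdd) := by
  induction k with
  | zero => simp
  | succ k ih =>
    rw [pow_succ', MulAut.mul_apply, ih]
    show Multiplicative.ofAdd (lam * (lam ^ k * x.toAdd)) = _
    rw [pow_succ', mul_assoc]

theorem udata_confO (h : FD p q a F lam) : UData p q (confO h) where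
  gen := confO_gen h
  pow := by
    apply MulEquiv.ext
    intro x
    rw [confO_psi_pow, h.lam_pow, one_mul]
    rfl
  pgroup := by
    have : Fact p.Prime := ⟨h.hp⟩
    apply IsPGroup.of_card (n := a)
    rw [← h.card, ← Nat.card_eq_fintype_card]
    rfl

end udata

end Cfsg.Agent.Lib.H2.Sm
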