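import Cfsg.Agent.Lib.H2.SmC
import Cfsg.Agent.S0132
import Cfsg.Agent.Lib.H22.SchAutD

set_option autoImplicit false
open scoped commutatorElement

namespace Cfsg.Agent.Lib.H2.Sm

universe u

open Cfsg.Agent.Lib.H22.SchAut

section hom

/-- a nontrivial finite `p`-group has a nontrivial homomorphism to the additive group of a field
of characteristic `p` -/
theorem exists_hom_ne_one {Q : Type*} [Group Q] [Finite Q] [Nontrivial Q] {p : ℕ} [hp : Fact p.Prime]
    (hQ : IsPGroup p Q) (F : Type*) [Field F] [hF : CharP F p] :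
    ∃ (ℓ : Q →* Multiplicative F) (s : Q), ℓ s ≠ 1 := by
  have : Group.IsNilpotent Q := hQ.isNilpotent
  obtain ⟨M, hMn, hMp⟩ := Cfsg.Agent.Lib.H3.exists_normal_prime_index (G := Q)
  have hMidx : M.index = p := by
    obtain ⟨k, hk⟩ := IsPGroup.iff_card.1 hQ
    have h1 : M.index ∣ p ^ k := hk ▸ M.index_dvd_card
    exact (Nat.prime_dvd_prime_iff_eq hMp hp.out).1 (hMp.dvd_of_dvd_pow h1)
  have hcard : Nat.card (Q ⧸ M) = p := by rw [← Subgroup.index_eq_card, hMidx]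
  have : IsCyclic (Q ⧸ M) := isCyclic_of_prime_card hcard
  obtain ⟨g₀, hg₀⟩ := IsCyclic.exists_generator (α := Q ⧸ M)
  have ho : orderOf g₀ = p := by rw [orderOf_eq_card_of_forall_mem_zpowers hg₀, hcard]
  have ho' : orderOf (Multiplicative.ofAdd (1 : F)) = p := by
    rw [orderOf_ofAdd_eq_addOrderOf]
    have := CharP.addOrderOf_one F
    exact CharP.eq F this hF
  let ℓ₁ : Q ⧸ M →* Multiplicative F :=
    monoidHomOfForallMemZpowers hg₀ (g' := Multiplicative.ofAdd (1 : F)) (by rw [ho, ho'])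
  obtain ⟨s, hs⟩ := QuotientGroup.mk'_surjective M g₀
  refine ⟨ℓ₁.comp (QuotientGroup.mk' M), s, ?_⟩
  rw [MonoidHom.comp_apply, hs]
  have h1 : ℓ₁ g₀ = Multiplicative.ofAdd (1 : F) := monoidHomOfForallMemZpowers_apply_gen _ _
  rw [h1]
  intro h2
  have h3 : (1 : F) = 0 := h2
  exact one_ne_zero h3

end hom

section fourier

variable {Q : Type*} [Group Q] (ψ : MulAut Q) {F : Type*} [Field F] (mu : F)
  (ℓ : Q →* Multiplicative F) (q : ℕ)

/-- Fourier component -/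
noncomputable def fou (j : ℕ) : Q →* Multiplicative F :=
  MonoidHom.mk' (fun s => Multiplicative.ofAdd
      (∑ i ∈ Finset.range q, mu ^ (i * j) * (ℓ ((ψ ^ i) s)).toAdd))
    (by
      intro s t
      show Multiplicative.ofAdd _ = Multiplicative.ofAdd _ * Multiplicative.ofAdd _
      rw [← ofAdd_add]
      congr 1
      rw [← Finset.sum_add_distrib]
      apply Finset.sum_congr rfl
      intro i _
      rw [map_mul, map_mul, toAdd_mul, mul_add])

theorem fou_apply (j : ℕ) (s : Q) : (fou ψ mu ℓ q j s).toAdd =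
    ∑ i ∈ Finset.range q, mu ^ (i * j) * (ℓ ((ψ ^ i) s)).toAdd := rfl

theorem fou_equiv (hψ : ψ ^ q = 1) (hmu : mu ^ q = 1) (j : ℕ) (s : Q) :
    mu ^ j * (fou ψ mu ℓ q j (ψ s)).toAdd = (fou ψ mu ℓ q j s).toAdd := by
  rw [fou_apply, fou_apply, Finset.mul_sum]
  set G : ℕ → F := fun i => mu ^ (i * j) * (ℓ ((ψ ^ i) s)).toAdd with hG
  have h1 : ∀ i ∈ Finset.range q, mu ^ j * (mu ^ (i * j) * (ℓ ((ψ ^ i) (ψ s))).toAdd) = G (i + 1) := by
    intro i _
    show _ = mu ^ ((i + 1) * j) * (ℓ ((ψ ^ (i + 1)) s)).toAdd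
    rw [pow_succ ψ, MulAut.mul_apply, ← mul_assoc, ← pow_add]
    congr 2
    ring
  rw [Finset.sum_congr rfl h1]
  have h2 := Finset.sum_range_succ' G q
  have h3 := Finset.sum_range_succ G q
  have h4 : G q = G 0 := by
    show mu ^ (q * j) * (ℓ ((ψ ^ q) s)).toAdd = mu ^ (0 * j) * (ℓ ((ψ ^ 0) s)).toAdd
    rw [pow_mul, hmu, one_pow, hψ, zero_mul, pow_zero, pow_zero]
  rw [h3, h4] at h2
  exact (add_right_cancel h2).symm

theorem fou_sum (hmuq : orderOf mu = q) (hq : 0 < q) (s : Q) :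
    ∑ j ∈ Finset.range q, (fou ψ mu ℓ q j s).toAdd = (q : F) * (ℓ s).toAdd := by
  have hmu : mu ^ q = 1 := by rw [← hmuq]; exact pow_orderOf_eq_one mu
  simp only [fou_apply]
  rw [Finset.sum_comm]
  have h1 : ∀ i ∈ Finset.range q, ∑ j ∈ Finset.range q, mu ^ (i * j) * (ℓ ((ψ ^ i) s)).toAdd =
      (∑ j ∈ Finset.range q, (mu ^ i) ^ j) * (ℓ ((ψ ^ i) s)).toAdd := by
    intro i _
    rw [Finset.sum_mul]
    apply Finset.sum_congr rfl
    intro j _
    rw [pow_mul]
  rw [Finset.sum_congr rfl h1, Finset.sum_eq_single 0]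
  · simp
  · intro i hi hi0
    have hiq : i < q := Finset.mem_range.1 hi
    have hne : mu ^ i ≠ 1 := by
      intro h
      have h2 : q ∣ i := hmuq ▸ orderOf_dvd_of_pow_eq_one h
      exact absurd (Nat.le_of_dvd (Nat.pos_of_ne_zero hi0) h2) (by omega)
    have h3 := geom_sum_mul (mu ^ i) q
    rw [← pow_mul, mul_comm i q, pow_mul, hmu, one_pow, sub_self] at h3
    rcases mul_eq_zero.1 h3 with h4 | h4
    · rw [h4, zero_mul]
    · exact absurd (sub_eq_zero.1 h4) hne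
  · intro h
    exact absurd (Finset.mem_range.2 hq) h

theorem exists_eigen (hq : q.Prime) (hψ : ψ ^ q = 1)
    (hgen : Subgroup.closure {y : Q | ∃ x, y = x⁻¹ * ψ x} = ⊤)
    (lam : F) (hord : orderOf lam = q) (hq0 : (q : F) ≠ 0) (s₀ : Q) (hℓ : ℓ s₀ ≠ 1) :
    ∃ j, 0 < j ∧ j < q ∧ ∃ π : Q →* Multiplicative F, (∃ s, π s ≠ 1) ∧
      ∀ s, (π (ψ s)).toAdd = lam ^ j * (π s).toAdd := by
  have hlam : lam ^ q = 1 := by rw [← hord]; exact pow_orderOf_eq_one lam
  have hlam0 : lam ≠ 0 := by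
    intro h0
    rw [h0, zero_pow hq.ne_zero] at hlam
    exact zero_ne_one hlam
  have hmu : lam⁻¹ ^ q = 1 := by rw [inv_pow, hlam, inv_one]
  have hmuq : orderOf lam⁻¹ = q := by
    have : Fact q.Prime := ⟨hq⟩
    apply orderOf_eq_prime hmu
    intro h1
    have h2 : lam = 1 := by rw [← inv_inv lam, h1, inv_one]
    rw [h2, orderOf_one] at hord
    exact hq.one_lt.ne hord
  have heq : ∀ j s, (fou ψ lam⁻¹ ℓ q j (ψ s)).toAdd = lam ^ j * (fou ψ lam⁻¹ ℓ q j s).toAdd := by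
    intro j s
    rw [← fou_equiv ψ lam⁻¹ ℓ q hψ hmu j s, ← mul_assoc, ← mul_pow, mul_inv_cancel₀ hlam0,
      one_pow, one_mul]
  by_contra hcon
  push Not at hcon
  have hz : ∀ j, j < q → ∀ s, (fou ψ lam⁻¹ ℓ q j s).toAdd = 0 := by
    intro j hj s
    rcases Nat.eq_zero_or_pos j with rfl | hj0
    · have hker : Subgroup.closure {y : Q | ∃ x, y = x⁻¹ * ψ x} ≤ (fou ψ lam⁻¹ ℓ q 0).ker := by
        rw [Subgroup.closure_le]
        rintro _ ⟨x, rfl⟩
        rw [SetLike.mem_coe, MonoidHom.mem_ker, map_mul, map_inv]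
        have h1 := heq 0 x
        rw [pow_zero, one_mul] at h1
        have h2 : fou ψ lam⁻¹ ℓ q 0 (ψ x) = fou ψ lam⁻¹ ℓ q 0 x := Multiplicative.toAdd.injective h1
        rw [h2, inv_mul_cancel]
      rw [hgen] at hker
      have h3 : fou ψ lam⁻¹ ℓ q 0 s = 1 := hker (Subgroup.mem_top s)
      rw [h3]
      rfl
    · by_contra hne
      obtain ⟨s', hs'⟩ := hcon j hj0 hj (fou ψ lam⁻¹ ℓ q j)
        ⟨s, fun h => hne (by rw [h]; rfl)⟩
      exact hs' (heq j s')
  have h1 := fou_sum ψ lam⁻¹ ℓ q hmuq hq.pos s₀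
  rw [Finset.sum_eq_zero (fun j hj => hz j (Finset.mem_range.1 hj) s₀)] at h1
  rcases mul_eq_zero.1 h1.symm with h2 | h2
  · exact hq0 h2
  · exact hℓ (Multiplicative.toAdd.injective h2)

end fourier

section struct

variable {X : Type u} [Group X] [Finite X] {p q : ℕ} [hp : Fact p.Prime] [hqF : Fact q.Prime]

theorem structure_X (hpq : p ≠ q) {t r : ℕ} (hr : 1 ≤ r)
    (h1 : ¬ Cfsg.HasNormalPComplement p X)
    (h2 : ∀ K : Subgroup X, K ≠ ⊤ → Cfsg.HasNormalPComplement p ↥K)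
    (hcard : Nat.card X = p ^ t * q ^ r) :
    ∃ (Q : Subgroup X) (_ : Q.Normal) (g : X), IsPGroup p Q ∧ orderOf g = q ^ r ∧
      Q ⊔ Subgroup.zpowers g = ⊤ ∧ Cfg p q (MulAut.conjNormal g : MulAut ↥Q) := by
  obtain ⟨Q, y, hQ, hQn, hgp, htop, hgC⟩ := Cfsg.Agent.S0132.structure_lemma h1 h2
  have hnil := (Cfsg.Agent.S0132.result h1 h2).1
  have hpp := hp.out
  have hq := hqF.out
  have ho1 : orderOf y ∣ q ^ r := by
    have h3 : orderOf y ∣ p ^ t * q ^ r := hcard ▸ orderOf_dvd_natCard y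
    exact (Nat.Coprime.pow_right t hgp).dvd_of_dvd_mul_left h3
  have ho2 : q ^ r ∣ orderOf y := by
    have h3 : Nat.card X ∣ Nat.card (Subgroup.zpowers y) * Nat.card Q := by
      have h4 : Nat.card (⊤ : Subgroup X) = Nat.card X := Subgroup.card_top
      rw [← h4, ← htop, sup_comm]
      have h5 := Subgroup.relIndex_mul_relIndex ⊥ Q (Subgroup.zpowers y ⊔ Q) bot_le le_sup_right
      rw [Subgroup.relIndex_bot_left, Subgroup.relIndex_bot_left,
        Subgroup.relIndex_sup_right] at h5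
      rw [← h5, mul_comm]
      exact Nat.mul_dvd_mul_right (Subgroup.relIndex_dvd_card _ _) _
    obtain ⟨s, hs⟩ := IsPGroup.iff_card.1 hQ
    rw [hcard, Nat.card_zpowers, hs] at h3
    have h6 : q ^ r ∣ orderOf y * p ^ s := (dvd_mul_left _ _).trans h3
    exact (Nat.Coprime.pow _ _ ((Nat.coprime_primes hq hpp).2 hpq.symm)).dvd_of_dvd_mul_right h6
  have ho : orderOf y = q ^ r := Nat.dvd_antisymm ho1 ho2
  set C : Subgroup X := Subgroup.zpowers y with hCdef
  have hC : IsPGroup q C := IsPGroup.of_card (n := r) (by rw [Nat.card_zpowers, ho])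
  have hyC : y ∈ C := Subgroup.mem_zpowers y
  have hPC : Q ⊓ C = ⊥ := (IsPGroup.disjoint_of_ne p q hpq _ _ hQ hC).eq_bot
  have hCy : ∀ c ∈ C, ∃ n : ℤ, y ^ n = c := fun c hc => Subgroup.mem_zpowers_iff.1 hc
  have hcomm : ∀ K : Subgroup X, K ≠ ⊤ → ∀ a ∈ Q, ∀ b ∈ C,
      a ∈ K → b ∈ K → a * b = b * a := by
    intro K hK a ha b hb haK hbK
    exact Cfsg.Agent.Lib.H3.commute_of_isNilpotent_subgroup K (hnil K hK) hpq
      Q C hQ hC ha hb haK hbK
  have hne : ∃ x : ↥Q, (MulAut.conjNormal y : MulAut ↥Q) x ≠ x := by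
    by_contra hcon
    push Not at hcon
    apply hgC
    rw [Subgroup.mem_centralizer_iff]
    intro a ha
    have h3 : y * a * y⁻¹ = a := by
      have := congrArg Subtype.val (hcon ⟨a, ha⟩)
      rwa [MulAut.conjNormal_apply] at this
    calc a * y = y * a * y⁻¹ * y := by rw [h3]
      _ = y * a := by group
  have hqy : q ∣ orderOf y := by
    rw [ho]
    exact dvd_pow_self q (by omega)
  have hyq : ∀ a ∈ Q, a * y ^ q = y ^ q * a := by
    intro a ha
    set K := Subgroup.zpowers (y ^ q) ⊔ Q with hK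
    have hKtop : K ≠ ⊤ := by
      intro htop'
      have hyK : y ∈ K := htop' ▸ Subgroup.mem_top y
      obtain ⟨b, hb, a', ha', hba⟩ := Subgroup.mem_sup_of_normal_right.1 hyK
      obtain ⟨j, rfl⟩ := Subgroup.mem_zpowers_iff.1 hb
      have hbC : (y ^ q) ^ j ∈ C :=
        Subgroup.zpow_mem _ (Subgroup.pow_mem _ hyC q) j
      have ha'C : a' ∈ C := by
        have : a' = ((y ^ q) ^ j)⁻¹ * y := by rw [eq_inv_mul_iff_mul_eq]; exact hba
        rw [this]
        exact Subgroup.mul_mem _ (Subgroup.inv_mem _ hbC) hyC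
      have ha'1 : a' = 1 := by
        have : a' ∈ Q ⊓ C := ⟨ha', ha'C⟩
        rw [hPC] at this
        exact Subgroup.mem_bot.1 this
      rw [ha'1, mul_one] at hba
      have h3 : y ^ ((q : ℤ) * j - 1) = 1 := by
        rw [zpow_sub, zpow_mul, zpow_natCast, hba, zpow_one, mul_inv_cancel]
      have h4 : (orderOf y : ℤ) ∣ (q : ℤ) * j - 1 := orderOf_dvd_iff_zpow_eq_one.2 h3
      have h5 : (q : ℤ) ∣ (q : ℤ) * j - 1 := (Int.natCast_dvd_natCast.2 hqy).trans h4
      have h6 : (q : ℤ) ∣ 1 := by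
        have := dvd_sub (dvd_mul_right (q : ℤ) j) h5
        simpa using this
      have h7 : (q : ℤ) = 1 := Int.eq_one_of_dvd_one (by positivity) h6
      have h8 : q = 1 := by exact_mod_cast h7
      exact hq.one_lt.ne' h8
    exact hcomm K hKtop a ha (y ^ q) (Subgroup.pow_mem _ hyC q)
      ((le_sup_right : Q ≤ K) ha)
      ((le_sup_left : Subgroup.zpowers (y ^ q) ≤ K) (Subgroup.mem_zpowers _))
  refine ⟨Q, hQn, y, hQ, ho, htop, ?_⟩
  refine ⟨hpp, hq, hpq, hQ, ?_, ?_, hne⟩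
  · intro x
    apply Subtype.ext
    rw [iterate_conjNormal]
    have := hyq x x.2
    calc y ^ q * (x : X) * (y ^ q)⁻¹ = (x : X) * y ^ q * (y ^ q)⁻¹ := by rw [this]
      _ = x := by group
  · intro K hK hinv x hxK
    set K' : Subgroup X := K.map Q.subtype with hK'
    have hK'P : K' ≤ Q := by
      rintro _ ⟨k, -, rfl⟩
      exact k.2
    have hyN : y ∈ Subgroup.normalizer (K' : Set X) := by
      apply Cfsg.Agent.Lib.H21.NormMax.mem_normalizer_of_forall_conj_mem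
      rintro _ ⟨k, hk, rfl⟩
      refine ⟨(MulAut.conjNormal y : MulAut ↥Q) k, hinv k hk, ?_⟩
      rw [Subgroup.subtype_apply, MulAut.conjNormal_apply]
      rfl
    have hCN : C ≤ Subgroup.normalizer (K' : Set X) := by
      intro c hc
      obtain ⟨n, rfl⟩ := hCy c hc
      exact Subgroup.zpow_mem _ hyN n
    have hNtop : K' ⊔ C ≠ ⊤ := by
      intro htop'
      apply hK
      rw [eq_top_iff]
      intro a _
      have haN : (a : X) ∈ K' ⊔ C := htop' ▸ Subgroup.mem_top _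
      obtain ⟨k, hk, c, hc, hkc⟩ := Cfsg.Agent.Lib.H1.mem_sup_of_le_normalizer hCN haN
      have hcP : c ∈ Q := by
        have : c = k⁻¹ * a := by rw [hkc]; group
        rw [this]
        exact Subgroup.mul_mem _ (Subgroup.inv_mem _ (hK'P hk)) a.2
      have hc1 : c = 1 := by
        have : c ∈ Q ⊓ C := ⟨hcP, hc⟩
        rw [hPC] at this
        exact Subgroup.mem_bot.1 this
      rw [hc1, mul_one] at hkc
      obtain ⟨k₀, hk₀, hk₀e⟩ := hk
      have : a = k₀ := Subtype.ext (hkc.trans hk₀e.symm)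
      rw [this]
      exact hk₀
    have hxK' : (x : X) ∈ K' := ⟨x, hxK, rfl⟩
    have h3 := hcomm _ hNtop (x : X) x.2 y hyC
      ((le_sup_left : K' ≤ K' ⊔ C) hxK')
      ((le_sup_right : C ≤ K' ⊔ C) hyC)
    apply Subtype.ext
    rw [MulAut.conjNormal_apply]
    calc y * (x : X) * y⁻¹ = (x : X) * y * y⁻¹ := by rw [h3]
      _ = x := by group

end struct

section conf

variable {X : Type u} [Group X] [Finite X] {p q a : ℕ} [hp : Fact p.Prime] [hqF : Fact q.Prime]
  {F : Type u} [Field F] [Fintype F] {lam : F}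

theorem mulAut_pow_apply {Q : Type*} [Group Q] (ψ : MulAut Q) (k : ℕ) (x : Q) :
    (ψ ^ k) x = (⇑ψ)^[k] x := by
  induction k with
  | zero => simp
  | succ k ih => rw [pow_succ', MulAut.mul_apply, ih, Function.iterate_succ_apply']

theorem exists_conf_X (h : FD p q a F lam) {t r : ℕ} (hr : 1 ≤ r)
    (h1 : ¬ Cfsg.HasNormalPComplement p X)
    (h2 : ∀ K : Subgroup X, K ≠ ⊤ → Cfsg.HasNormalPComplement p ↥K)
    (hcard : Nat.card X = p ^ t * q ^ r) :
    ∃ (Q : Subgroup X) (_ : Q.Normal) (y : X), IsPGroup p Q ∧ orderOf y = q ^ r ∧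
      Q ⊔ Subgroup.zpowers y = ⊤ ∧ ∃ K : Conf lam ↥Q,
        (∀ s, K.ψ s = (MulAut.conjNormal y : MulAut ↥Q) s) ∧ K.π.ker ≤ commutator ↥Q := by
  obtain ⟨Q, hQn, g, hQ, ho, htop, hcfg⟩ := structure_X h.hpq hr h1 h2 hcard
  have hch := h.charP
  set ψ : MulAut ↥Q := MulAut.conjNormal g with hψdef
  have hnt : Nontrivial ↥Q := by
    obtain ⟨x, hx⟩ := hcfg.ne
    exact ⟨⟨ψ x, x, hx⟩⟩
  obtain ⟨ℓ, s₀, hℓ⟩ := exists_hom_ne_one hQ F
  have hψq : ψ ^ q = 1 := by
    apply MulEquiv.ext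
    intro x
    rw [mulAut_pow_apply, hcfg.pow x]
    rfl
  obtain ⟨j, hj0, hjq, π, ⟨s₁, hs₁⟩, hπ⟩ :=
    exists_eigen ψ ℓ q h.hq hψq hcfg.closure_eq_top lam h.ord h.q_ne_zero s₀ hℓ
  have hqj : ¬ q ∣ j := fun hd => absurd (Nat.le_of_dvd hj0 hd) (by omega)
  have hcop : Nat.Coprime j q := ((Nat.Prime.coprime_iff_not_dvd h.hq).2 hqj).symm
  obtain ⟨m, -, hm⟩ := Nat.exists_mul_mod_eq_one_of_coprime hcop h.hq.one_lt
  have hψ' : (MulAut.conjNormal (g ^ m) : MulAut ↥Q) = ψ ^ m := map_pow _ g m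
  have hπk : ∀ (k : ℕ) (s : ↥Q), (π ((ψ ^ k) s)).toAdd = (lam ^ j) ^ k * (π s).toAdd := by
    intro k
    induction k with
    | zero => intro s; simp
    | succ k ih =>
      intro s
      rw [pow_succ', MulAut.mul_apply, hπ, ih, pow_succ', mul_assoc]
  have hlamm : (lam ^ j) ^ m = lam := by
    rw [← pow_mul, ← Nat.div_add_mod (j * m) q, hm, pow_add, pow_mul, h.lam_pow, one_pow,
      one_mul, pow_one]
  have hkerne : π.ker ≠ ⊤ := by
    intro htop'
    exact hs₁ (MonoidHom.mem_ker.1 (htop' ▸ Subgroup.mem_top s₁))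
  have hkerinv : ∀ x ∈ π.ker, ψ x ∈ π.ker := by
    intro x hx
    rw [MonoidHom.mem_ker] at hx ⊢
    apply Multiplicative.toAdd.injective
    rw [hπ, hx]
    show lam ^ j * 0 = 0
    rw [mul_zero]
  have hkerfix : ∀ z : ↥Q, π z = 1 → ψ z = z := fun z hz => hcfg.inv π.ker hkerne hkerinv z hz
  have hfixpow : ∀ (k : ℕ) (z : ↥Q), ψ z = z → (ψ ^ k) z = z := by
    intro k z hz
    induction k with
    | zero => simp
    | succ k ih => rw [pow_succ', MulAut.mul_apply, ih, hz]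
  have hequiv : ∀ s : ↥Q, (π ((MulAut.conjNormal (g ^ m) : MulAut ↥Q) s)).toAdd =
      lam * (π s).toAdd := by
    intro s
    rw [hψ', hπk, hlamm]
  have hsurj : Function.Surjective π := by
    set A : AddSubgroup F := Subgroup.toAddSubgroup' π.range with hA
    have hAmem : ∀ x : F, x ∈ A ↔ ∃ s, (π s).toAdd = x := by
      intro x
      constructor
      · rintro ⟨s, hs⟩
        exact ⟨s, by rw [hs]; rfl⟩
      · rintro ⟨s, rfl⟩
        exact ⟨s, rfl⟩
    have hstab : ∀ x ∈ A, lam * x ∈ A := by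
      intro x hx
      obtain ⟨s, rfl⟩ := (hAmem x).1 hx
      exact (hAmem _).2 ⟨_, hequiv s⟩
    have hx0 : (π s₁).toAdd ≠ 0 := fun h0 => hs₁ (Multiplicative.toAdd.injective h0)
    have hAtop := h.eq_top_of_stable A hstab ((hAmem _).2 ⟨s₁, rfl⟩) hx0
    intro x
    obtain ⟨s, hs⟩ := (hAmem x.toAdd).1 (hAtop ▸ AddSubgroup.mem_top _)
    exact ⟨s, Multiplicative.toAdd.injective hs⟩
  have hqm : ¬ q ∣ m := by
    intro hd
    have : j * m % q = 0 := Nat.mod_eq_zero_of_dvd (hd.mul_left j)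
    omega
  have hoy : orderOf (g ^ m) = q ^ r := by
    rw [Nat.Coprime.orderOf_pow, ho]
    rw [ho]
    exact Nat.Coprime.pow_left _ ((Nat.Prime.coprime_iff_not_dvd h.hq).2 hqm)
  have hzp : Subgroup.zpowers (g ^ m) = Subgroup.zpowers g := by
    apply Subgroup.eq_of_le_of_card_ge
    · rw [Subgroup.zpowers_le]
      exact Subgroup.pow_mem _ (Subgroup.mem_zpowers g) m
    · rw [Nat.card_zpowers, Nat.card_zpowers, hoy, ho]
  refine ⟨Q, hQn, g ^ m, hQ, hoy, by rw [hzp]; exact htop, ?_⟩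
  refine ⟨{ ψ := (MulAut.conjNormal (g ^ m) : MulAut ↥Q)
            π := π
            surj := hsurj
            equiv := hequiv
            fixed := ?_
            central := ?_ }, fun s => rfl, ?_⟩
  · intro z hz
    rw [hψ']
    exact hfixpow m z (hkerfix z hz)
  · intro z hz s
    exact hcfg.central z (hkerfix z hz) s
  · intro z hz
    exact hcfg.fix_le_commutator (hkerfix z (MonoidHom.mem_ker.1 hz))

end conf

end Cfsg.Agent.Lib.H2.Sm
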