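import Cfsg.Agent.Lib.H2.SmD
import Cfsg.Agent.Lib.H2.SmF
import Cfsg.Agent.Lib.H2.SmG

set_option autoImplicit false
open scoped commutatorElement

namespace Cfsg.Agent.Lib.H2.Sm

universe u

open SemidirectProduct

section main

variable {F : Type u} [Field F] [Fintype F] {lam : F} {p q a : ℕ} [hp : Fact p.Prime]
  [hqF : Fact q.Prime]
variable {P₀ : Type u} [Group P₀] [Finite P₀]

theorem hom_generic (h : FD p q a F lam) {r : ℕ} (hr : 1 ≤ r) (K₀ : Conf lam P₀)
    (hU : UData p q K₀) {N₀ : ℕ} (hF : FormHyp.{u, u} lam N₀) (hcard₀ : Nat.card K₀.π.ker = N₀)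
    (X : Type u) [Group X] [Finite X]
    (h1 : ¬ Cfsg.HasNormalPComplement p X)
    (h2 : ∀ K : Subgroup X, K ≠ ⊤ → Cfsg.HasNormalPComplement p ↥K)
    {t : ℕ} (hcard : Nat.card X = p ^ t * q ^ r) :
    ∃ φ : G0 K₀ (q ^ r) (hU.pow_r r hr) →* X, Function.Surjective φ ∧
      φ.ker ≤ Subgroup.center (G0 K₀ (q ^ r) (hU.pow_r r hr)) := by
  have : NeZero (q ^ r) := ⟨pow_ne_zero _ h.hq.ne_zero⟩
  obtain ⟨Q, hQn, y, hQ, hoy, htop, K, hKψ, hKker⟩ := exists_conf_X h hr h1 h2 hcard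
  obtain ⟨φ', hφψ, hφπ⟩ := exists_hom h.lam_ne_one K₀ K hU.gen hF hcard₀
  have hyn : y ^ (q ^ r) = 1 := by rw [← hoy]; exact pow_orderOf_eq_one y
  -- φ' is surjective
  have hlift : ∀ u : ↥Q, ∃ s, K.π (φ' s) = K.π u := by
    intro u
    obtain ⟨s, hs⟩ := K₀.surj (K.π u)
    exact ⟨s, by rw [hφπ, hs]⟩
  have hcommle : commutator ↥Q ≤ φ'.range := by
    rw [commutator_def, Subgroup.commutator_le]
    intro u _ v _
    obtain ⟨s, hs⟩ := hlift u
    obtain ⟨s', hs'⟩ := hlift v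
    rw [K.comm_congr hs.symm hs'.symm]
    exact ⟨⁅s, s'⁆, map_commutatorElement φ' s s'⟩
  have hφsurj : ∀ u : ↥Q, ∃ s, φ' s = u := by
    intro u
    obtain ⟨s, hs⟩ := hlift u
    have hker : (φ' s)⁻¹ * u ∈ K.π.ker := by
      rw [MonoidHom.mem_ker, map_mul, map_inv, hs, inv_mul_cancel]
    obtain ⟨s', hs'⟩ := hcommle (hKker hker)
    refine ⟨s * s', ?_⟩
    rw [map_mul, hs']
    group
  -- compatibility
  have hpowψ : ∀ (k : ℕ) (s : P₀), φ' (((K₀.ψ : MulAut P₀) ^ k) s) =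
      ((MulAut.conjNormal y : MulAut ↥Q) ^ k) (φ' s) := by
    intro k
    induction k with
    | zero => intro s; simp
    | succ k ih =>
      intro s
      rw [pow_succ', MulAut.mul_apply, hφψ, ih, hKψ, pow_succ', MulAut.mul_apply]
  let f₁ : P₀ →* X := Q.subtype.comp φ'
  let f₂ : Multiplicative (ZMod (q ^ r)) →* X := cycHom (q ^ r) y hyn
  have hcompat : ∀ c : Multiplicative (ZMod (q ^ r)),
      f₁.comp (MulEquiv.toMonoidHom (cycHom (q ^ r) (K₀.ψ : MulAut P₀) (hU.pow_r r hr) c)) =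
        (MulEquiv.toMonoidHom (MulAut.conj (f₂ c))).comp f₁ := by
    intro c
    obtain ⟨k, rfl⟩ := exists_nat_eq (q ^ r) c
    apply MonoidHom.ext
    intro s
    show ((φ' ((cycHom (q ^ r) (K₀.ψ : MulAut P₀) (hU.pow_r r hr)
      (Multiplicative.ofAdd (k : ZMod (q ^ r)))) s) : ↥Q) : X) =
      MulAut.conj (f₂ (Multiplicative.ofAdd (k : ZMod (q ^ r)))) ((φ' s : ↥Q) : X)
    rw [cyc_apply_nat, hpowψ, ← map_pow, MulAut.conjNormal_apply, MulAut.conj_apply]
    show _ = cycHom (q ^ r) y hyn (Multiplicative.ofAdd (k : ZMod (q ^ r))) * _ *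
      (cycHom (q ^ r) y hyn (Multiplicative.ofAdd (k : ZMod (q ^ r))))⁻¹
    rw [cycHom_apply_nat]
  refine ⟨SemidirectProduct.lift f₁ f₂ hcompat, ?_, ?_⟩
  · -- surjective
    rw [← MonoidHom.range_eq_top, eq_top_iff, ← htop, sup_le_iff]
    constructor
    · intro u hu
      obtain ⟨s, hs⟩ := hφsurj ⟨u, hu⟩
      refine ⟨inl s, ?_⟩
      rw [lift_inl]
      show ((φ' s : ↥Q) : X) = u
      rw [hs]
    · rw [Subgroup.zpowers_le]
      refine ⟨inr (Multiplicative.ofAdd (1 : ZMod (q ^ r))), ?_⟩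
      rw [lift_inr]
      exact cycHom_one _ _ _
  · -- kernel central
    intro x hx
    rw [MonoidHom.mem_ker] at hx
    have hC : IsPGroup q (Subgroup.zpowers y) :=
      IsPGroup.of_card (n := r) (by rw [Nat.card_zpowers, hoy])
    have hdisj : Q ⊓ Subgroup.zpowers y = ⊥ :=
      (IsPGroup.disjoint_of_ne p q h.hpq _ _ hQ hC).eq_bot
    obtain ⟨k, hk⟩ := exists_nat_eq (q ^ r) x.right
    have hx' : ((φ' x.left : ↥Q) : X) * y ^ k = 1 := by
      rw [← inl_left_mul_inr_right x, map_mul, lift_inl, lift_inr, hk] at hx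
      have h3 : f₂ (Multiplicative.ofAdd (k : ZMod (q ^ r))) = y ^ k := cycHom_apply_nat _ _ _ _
      rw [h3] at hx
      exact hx
    have hyk : y ^ k = 1 := by
      have h3 : y ^ k ∈ Q ⊓ Subgroup.zpowers y := by
        refine ⟨?_, Subgroup.pow_mem _ (Subgroup.mem_zpowers y) k⟩
        have h4 : y ^ k = ((φ' x.left : ↥Q) : X)⁻¹ := eq_inv_of_mul_eq_one_right hx'
        rw [h4]
        exact Q.inv_mem (φ' x.left).2
      rw [hdisj] at h3
      exact Subgroup.mem_bot.1 h3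
    have hright : x.right = 1 := by
      rw [hk]
      have h3 : q ^ r ∣ k := hoy ▸ orderOf_dvd_of_pow_eq_one hyk
      have h4 : (k : ZMod (q ^ r)) = 0 := (ZMod.natCast_eq_zero_iff _ _).2 h3
      rw [h4]
      rfl
    have hφ1 : φ' x.left = 1 := by
      rw [hyk, mul_one] at hx'
      exact Subtype.ext hx'
    have hπ1 : K₀.π x.left = 1 := by rw [← hφπ, hφ1, map_one]
    have hxl : x = inl x.left := eq_inl_of_right _ _ _ x hright
    rw [Subgroup.mem_center_iff]
    intro g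
    have h3 := conj_inl K₀ (q ^ r) (hU.pow_r r hr) g x.left
    obtain ⟨k', hk'⟩ := exists_nat_eq (q ^ r) g.right
    rw [hk', cyc_apply_nat, psi_pow_fixed K₀ k' x.left hπ1, K₀.central x.left hπ1 g.left,
      mul_inv_cancel_right, ← hxl] at h3
    calc g * x = g * x * g⁻¹ * g := by group
      _ = x * g := by rw [h3]

end main

section field

theorem exists_FD (p q a : ℕ) [hp : Fact p.Prime] [hq : Fact q.Prime] (hpq : p ≠ q)
    (ha : a = orderOf (p : ZMod q)) :
    ∃ (F : Type u) (_ : Field F) (_ : Fintype F) (lam : F), FD p q a F lam := by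
  classical
  have ha0 : 0 < a := by
    rw [ha, orderOf_pos_iff, isOfFinOrder_iff_pow_eq_one]
    refine ⟨q - 1, Nat.sub_pos_of_lt hq.out.one_lt, ?_⟩
    apply ZMod.pow_card_sub_one_eq_one
    intro h0
    rw [ZMod.natCast_eq_zero_iff] at h0
    exact hpq.symm ((Nat.prime_dvd_prime_iff_eq hq.out hp.out).1 h0)
  let F := ULift.{u} (GaloisField p a)
  let _ : Fintype F := Fintype.ofFinite F
  have hcard : Fintype.card F = p ^ a := by
    rw [← Nat.card_eq_fintype_card, Nat.card_congr Equiv.ulift, GaloisField.card p a ha0.ne']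
  have hdvd : q ∣ Fintype.card Fˣ := by
    rw [Fintype.card_units, hcard, ← ZMod.natCast_eq_zero_iff,
      Nat.cast_sub (Nat.one_le_pow _ _ hp.out.pos), Nat.cast_pow, Nat.cast_one, ha,
      pow_orderOf_eq_one, sub_self]
  obtain ⟨x, hx⟩ := exists_prime_orderOf_dvd_card q hdvd
  refine ⟨F, inferInstance, inferInstance, (x : F), ⟨hp.out, hq.out, hpq, hcard, ha, ?_⟩⟩
  rw [orderOf_units]
  exact hx

end field

section final

theorem main (p q r : ℕ) [Fact p.Prime] [Fact q.Prime] (hpq : p ≠ q) (hr : 1 ≤ r) (a a₀ : ℕ)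
    (ha : a = orderOf (p : ZMod q)) (ha₀ : a₀ = if a % 2 = 1 then a else 3 * a / 2) :
    ∃ (G₀ : Type u) (_ : Group G₀) (_ : Finite G₀),
      (¬ Cfsg.HasNormalPComplement p G₀ ∧
        ∀ K : Subgroup G₀, K ≠ ⊤ → Cfsg.HasNormalPComplement p ↥K) ∧
      Nat.card G₀ = p ^ a₀ * q ^ r ∧
      ∀ (X : Type u) [Group X] [Finite X], (¬ Cfsg.HasNormalPComplement p X ∧
        ∀ K : Subgroup X, K ≠ ⊤ → Cfsg.HasNormalPComplement p ↥K) →
        (∃ t : ℕ, Nat.card X = p ^ t * q ^ r) →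
        ∃ φ : G₀ →* X, Function.Surjective φ ∧ φ.ker ≤ Subgroup.center G₀ := by
  obtain ⟨F, _, _, lam, h⟩ := exists_FD.{u} p q a hpq ha
  have hch := h.charP
  have hne : NeZero (q ^ r) := ⟨pow_ne_zero _ h.hq.ne_zero⟩
  by_cases hodd : a % 2 = 1
  · rw [if_pos hodd] at ha₀
    subst ha₀
    have hF : FormHyp.{u, u} lam 1 := by
      intro C _ c hc
      refine ⟨0, fun x y => ⟨0, ?_⟩, ?_⟩
      · rw [AddMonoidHom.zero_apply]
        by_cases hq2 : q = 2
        · exact form_zero_of_two h hq2 hc x y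
        · exact form_zero_of_odd h hq2 (by omega) hc x y
      · rw [AddMonoidHom.range_zero, AddSubgroup.card_bot]
    have hU := udata_confO h
    refine ⟨G0 (confO h) (q ^ r) (hU.pow_r r hr), inferInstance, inferInstance,
      ⟨not_pnilp_G0 (confO h) _ _ h hU r rfl, proper_pnilp_G0 (confO h) _ _ h hU r hr rfl⟩, ?_, ?_⟩
    · rw [card_G0]
      congr 1
      rw [← h.card, ← Nat.card_eq_fintype_card]
      rfl
    · intro X _ _ hX ⟨t, ht⟩
      exact hom_generic h hr (confO h) hU hF (card_ker_confO h) X hX.1 hX.2 ht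
  · obtain ⟨b, rfl⟩ : ∃ b, a = 2 * b := ⟨a / 2, by omega⟩
    have hb : 0 < b := by have := h.a_pos; omega
    have ha₀' : a₀ = 3 * b := by rw [ha₀, if_neg hodd]; omega
    subst ha₀'
    obtain ⟨e, he⟩ := exists_eps (F := F) (p := p) h.card hb
    have hF : FormHyp.{u, u} lam (p ^ b) := by
      intro C _ c hc
      exact ⟨c 1, fun x y => ⟨bar F p b x * y, (form_even h hb hc).1 x y⟩, form_even_card h hb hc⟩
    have hU := udata_confE (e := e) h hb he
    refine ⟨G0 (confE (e := e) h hb) (q ^ r) (hU.pow_r r hr), inferInstance, inferInstance,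
      ⟨not_pnilp_G0 _ _ _ h hU r rfl, proper_pnilp_G0 _ _ _ h hU r hr rfl⟩, ?_, ?_⟩
    · rw [card_G0, card_PE h.card hb]
    · intro X _ _ hX ⟨t, ht⟩
      exact hom_generic h hr _ hU hF (card_ker_confE h hb) X hX.1 hX.2 ht

end final

end Cfsg.Agent.Lib.H2.Sm
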