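import Cfsg.Agent.Lib.H10.SoD
import Cfsg.Agent.Lib.H11.SuPar1

/-!
# S5659 piece C (helper2): an element mapping rational singular points to rational points lies in
the subfield subgroup.
-/

set_option autoImplicit false
set_option linter.unusedSectionVars false
set_option linter.unusedVariables false
set_option linter.unusedSimpArgs false

namespace Cfsg.Agent.Lib.H2.SoSub

open Matrix
open Cfsg.Agent.S0837 (Bs Bs_apply Bs_symm Bs_nondeg)
open Cfsg.Agent.S0781 (Em Em_mulVec)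
open Cfsg.Agent.Lib.H11.UGen (Um Um_mulVec)
open Cfsg.Agent.Lib.H10.Sf (IsRat)
open Cfsg.Agent.Lib.H10.Su
open Cfsg.Agent.Lib.H10.So

variable {F : Type*} [Field F] [Fintype F] {n q : ℕ}
variable {φ : F →+* F} {F₀ : Subfield F} {P : GL (Fin n) F} {H : Subgroup (GL (Fin n) F)}

/-- coefficients of a rational vector in terms of two independent rational vectors are rational -/
theorem coeff_mem (R : RS φ n q F₀ P) {r r' r'' : Fin n → F} (hr : RatV F₀ P r)
    (hr' : RatV F₀ P r') (hr'' : RatV F₀ P r'') (hli : LinearIndependent F ![r, r']) {a b : F}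
    (h : a • r + b • r' = r'') : a ∈ F₀ ∧ b ∈ F₀ := by
  obtain ⟨θ, hθ0, hθ, -⟩ := R.exists_theta
  obtain ⟨a₁, a₂, ha₁, ha₂, rfl⟩ := R.scalar_decomp hθ0 hθ a
  obtain ⟨b₁, b₂, hb₁, hb₂, rfl⟩ := R.scalar_decomp hθ0 hθ b
  have h1 : (a₁ • r + b₁ • r' - r'') + θ • (a₂ • r + b₂ • r') = 0 := by
    rw [← h]; module
  have h2 := (R.decomp_unique hθ0 hθ (((hr.smul ha₁).add (hr'.smul hb₁)).sub hr'')
    ((hr.smul ha₂).add (hr'.smul hb₂)) h1).2
  have h3 := LinearIndependent.pair_iff.1 hli a₂ b₂ h2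
  rw [h3.1, h3.2, mul_zero, add_zero, add_zero]
  exact ⟨ha₁, hb₁⟩

theorem gl_mulVec_eq_zero (g : GL (Fin n) F) {x : Fin n → F}
    (h : (g : Matrix (Fin n) (Fin n) F) *ᵥ x = 0) : x = 0 := by
  apply mulVec_injective g
  rw [h, Matrix.mulVec_zero]

/-- **neighbours**: rationality of `c • g y` propagates along orthogonal independent rational
singular vectors -/
theorem rat_neighbour (R : RS φ n q F₀ P) (g : GL (Fin n) F)
    (hg : ∀ y, RatV F₀ P y → Bs φ n y y = 0 → ∃ (l : F) (r : Fin n → F), RatV F₀ P r ∧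
      (g : Matrix (Fin n) (Fin n) F) *ᵥ y = l • r) {c : F} (hc : c ≠ 0) {y y' : Fin n → F}
    (hy : RatV F₀ P y) (hy' : RatV F₀ P y') (hyy : Bs φ n y y = 0) (hy'y' : Bs φ n y' y' = 0)
    (hyy' : Bs φ n y y' = 0) (hli : LinearIndependent F ![y, y'])
    (h : RatV F₀ P (c • ((g : Matrix (Fin n) (Fin n) F) *ᵥ y))) :
    RatV F₀ P (c • ((g : Matrix (Fin n) (Fin n) F) *ᵥ y')) := by
  have hy'y : Bs φ n y' y = 0 := B_zero_symm φ R.hφ2 hyy'
  have hss : Bs φ n (y + y') (y + y') = 0 := by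
    simp only [map_add, LinearMap.add_apply, hyy, hy'y', hyy', hy'y, add_zero]
  obtain ⟨l', r', hr', e'⟩ := hg y' hy' hy'y'
  obtain ⟨l'', r'', hr'', e''⟩ := hg (y + y') (hy.add hy') hss
  have hpair := LinearIndependent.pair_iff.1 hli
  have hl'' : l'' ≠ 0 := by
    rintro rfl
    rw [zero_smul] at e''
    have h0 := gl_mulVec_eq_zero g e''
    have h1 := hpair 1 1 (by rw [one_smul, one_smul]; exact h0)
    exact one_ne_zero h1.1
  have hl' : l' ≠ 0 := by
    rintro rfl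
    rw [zero_smul] at e'
    have h0 := gl_mulVec_eq_zero g e'
    have h1 := hpair 0 1 (by rw [one_smul, zero_smul, zero_add]; exact h0)
    exact one_ne_zero h1.2
  -- independence of the two rational representatives
  have hli' : LinearIndependent F ![c • ((g : Matrix (Fin n) (Fin n) F) *ᵥ y), r'] := by
    rw [LinearIndependent.pair_iff]
    intro s t hst
    have h1 : (g : Matrix (Fin n) (Fin n) F) *ᵥ ((s * c) • y + (t * l'⁻¹) • y') = 0 := by
      rw [Matrix.mulVec_add, Matrix.mulVec_smul, Matrix.mulVec_smul, e', smul_smul, mul_assoc,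
        inv_mul_cancel₀ hl', mul_one, ← smul_smul]
      exact hst
    have h2 := hpair _ _ (gl_mulVec_eq_zero g h1)
    refine ⟨?_, ?_⟩
    · exact (mul_eq_zero.1 h2.1).resolve_right hc
    · exact (mul_eq_zero.1 h2.2).resolve_right (inv_ne_zero hl')
  have hsum : (l''⁻¹ * c⁻¹) • (c • ((g : Matrix (Fin n) (Fin n) F) *ᵥ y)) + (l''⁻¹ * l') • r' =
      r'' := by
    have h1 : l'' • r'' = (g : Matrix (Fin n) (Fin n) F) *ᵥ y + l' • r' := by
      rw [← e'', Matrix.mulVec_add, e']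
    have h2 : r'' = l''⁻¹ • (l'' • r'') := by
      rw [smul_smul, inv_mul_cancel₀ hl'', one_smul]
    rw [h2, h1, smul_add, smul_smul, smul_smul, mul_assoc, inv_mul_cancel₀ hc, mul_one]
  obtain ⟨m1, m2⟩ := coeff_mem R h hr' hr'' hli' hsum
  have hcl : c * l' = (l''⁻¹ * l') * (l''⁻¹ * c⁻¹)⁻¹ := by
    field_simp
  rw [e', smul_smul, hcl]
  exact hr'.smul (F₀.mul_mem m2 (F₀.inv_mem m1))

/-- a common rational singular neighbour of two rational vectors -/
theorem exists_common_neighbour (R : RS φ n q F₀ P) {y y' : Fin n → F} (hy : RatV F₀ P y)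
    (hy' : RatV F₀ P y') (hy0 : y ≠ 0) (hy'0 : y' ≠ 0) :
    ∃ e, RatV F₀ P e ∧ Bs φ n e e = 0 ∧ Bs φ n y e = 0 ∧ Bs φ n y' e = 0 ∧
      LinearIndependent F ![y, e] ∧ LinearIndependent F ![y', e] := by
  have hn := R.hn
  obtain ⟨e, f, he, hf, hee, hff, hef, hve, hvf⟩ :=
    R.exists_hyp_perp ![y, y'] (by
      intro i; fin_cases i
      · exact hy
      · exact hy') (by omega)
  have hye : Bs φ n y e = 0 := hve 0
  have hy'e : Bs φ n y' e = 0 := hve 1
  have hyf : Bs φ n y f = 0 := hvf 0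
  have hy'f : Bs φ n y' f = 0 := hvf 1
  have hind : ∀ x : Fin n → F, x ≠ 0 → Bs φ n x f = 0 → LinearIndependent F ![x, e] := by
    intro x hx0 hxf
    rw [LinearIndependent.pair_iff]
    intro s t hst
    have h1 : Bs φ n (s • x + t • e) f = 0 := by rw [hst, map_zero, LinearMap.zero_apply]
    simp only [map_add, map_smulₛₗ, LinearMap.add_apply, LinearMap.smul_apply, smul_eq_mul,
      hxf, hef, mul_zero, mul_one, zero_add] at h1
    have ht : t = 0 := by
      have := congrArg φ h1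
      rwa [R.hφ2, map_zero] at this
    rw [ht, zero_smul, add_zero] at hst
    exact ⟨(smul_eq_zero.1 hst).resolve_right hx0, ht⟩
  exact ⟨e, he, hee, hye, hy'e, hind y hy0 hyf, hind y' hy'0 hy'f⟩

/-- every rational vector is a combination of three rational singular vectors -/
theorem rat_eq_sing_sum (R : RS φ n q F₀ P) {x : Fin n → F} (hx : RatV F₀ P x) :
    ∃ (s e f : Fin n → F) (t : F), t ∈ F₀ ∧ RatV F₀ P s ∧ RatV F₀ P e ∧ RatV F₀ P f ∧
      Bs φ n s s = 0 ∧ Bs φ n e e = 0 ∧ Bs φ n f f = 0 ∧ x = s - e + t • f := by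
  have hn := R.hn
  obtain ⟨e, f, he, hf, hee, hff, hef, hve, hvf⟩ :=
    R.exists_hyp_perp ![x] (by
      intro i; fin_cases i
      exact hx) (by omega)
  have hxe : Bs φ n x e = 0 := hve 0
  have hxf : Bs φ n x f = 0 := hvf 0
  have hex : Bs φ n e x = 0 := B_zero_symm φ R.hφ2 hxe
  have hfx : Bs φ n f x = 0 := B_zero_symm φ R.hφ2 hxf
  have hfe : Bs φ n f e = 1 := by rw [R.B_symm hf he]; exact hef
  have ht : Bs φ n x x / 2 ∈ F₀ := F₀.div_mem (R.hB x x hx hx) R.two_mem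
  refine ⟨x + e - (Bs φ n x x / 2) • f, e, f, Bs φ n x x / 2, ht,
    (hx.add he).sub (hf.smul ht), he, hf, ?_, hee, hff, by module⟩
  simp only [map_add, map_sub, map_smulₛₗ, map_smul, LinearMap.add_apply, LinearMap.sub_apply,
    LinearMap.smul_apply, smul_eq_mul, hee, hff, hef, hfe, hxe, hxf, hex, hfx, R.fix ht,
    RingHom.id_apply]
  have := R.h2
  field_simp
  ring

theorem mem_sub_of_sing_pts (R : RS φ n q F₀ P) (g : GL (Fin n) F)
    (hg : ∀ y, RatV F₀ P y → Bs φ n y y = 0 → ∃ (l : F) (r : Fin n → F), RatV F₀ P r ∧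
      (g : Matrix (Fin n) (Fin n) F) *ᵥ y = l • r) :
    g ∈ Cfsg.Geo.subfieldSubgroup F₀ P := by
  have hn := R.hn
  -- a base point
  obtain ⟨y₀, f₀, hy₀, hf₀, hy₀y₀, -, hy₀f₀, -, -⟩ :=
    R.exists_hyp_perp (k := 0) (fun i => Fin.elim0 i) (fun i => Fin.elim0 i) (by omega)
  have hy₀0 : y₀ ≠ 0 := by
    rintro rfl
    rw [map_zero, LinearMap.zero_apply] at hy₀f₀
    exact zero_ne_one hy₀f₀
  obtain ⟨l₀, r₀, hr₀, e₀⟩ := hg y₀ hy₀ hy₀y₀
  have hl₀ : l₀ ≠ 0 := by
    rintro rfl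
    rw [zero_smul] at e₀
    exact hy₀0 (gl_mulVec_eq_zero g e₀)
  have hc : l₀⁻¹ ≠ 0 := inv_ne_zero hl₀
  have hbase : RatV F₀ P (l₀⁻¹ • ((g : Matrix (Fin n) (Fin n) F) *ᵥ y₀)) := by
    rw [e₀, smul_smul, inv_mul_cancel₀ hl₀, one_smul]
    exact hr₀
  -- all rational singular vectors
  have hsing : ∀ y, RatV F₀ P y → Bs φ n y y = 0 →
      RatV F₀ P (l₀⁻¹ • ((g : Matrix (Fin n) (Fin n) F) *ᵥ y)) := by
    intro y hy hyy
    by_cases hy0 : y = 0
    · rw [hy0, Matrix.mulVec_zero, smul_zero]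
      exact RatV.zero
    obtain ⟨e, he, hee, hy₀e, hye, hli₀, hli⟩ := exists_common_neighbour R hy₀ hy hy₀0 hy0
    have h1 := rat_neighbour R g hg hc hy₀ he hy₀y₀ hee hy₀e hli₀ hbase
    have hli' : LinearIndependent F ![e, y] := by
      rw [LinearIndependent.pair_iff] at hli ⊢
      intro s t hst
      have := hli t s (by rw [add_comm]; exact hst)
      exact ⟨this.2, this.1⟩
    exact rat_neighbour R g hg hc he hy hee hyy (B_zero_symm φ R.hφ2 hye) hli' h1
  apply mem_sub_of_ratV hc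
  intro x hx
  obtain ⟨s, e, f, t, ht, hs, he, hf, hss, hee, hff, rfl⟩ := rat_eq_sing_sum R hx
  rw [Matrix.mulVec_add, Matrix.mulVec_sub, Matrix.mulVec_smul, smul_add, smul_sub,
    smul_comm l₀⁻¹ t]
  exact ((hsing s hs hss).sub (hsing e he hee)).add ((hsing f hf hff).smul ht)

end Cfsg.Agent.Lib.H2.SoSub
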