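import Cfsg.Agent.Lib.H10.SoD
import Cfsg.Agent.Lib.H11.SuPar1

/-!
# S5659 piece P (helper2): the orthogonal subfield subgroup is a proper subgroup of `SU_n(q)`.
-/

set_option autoImplicit false
set_option linter.unusedSectionVars false
set_option linter.unusedVariables false
set_option linter.unusedSimpArgs false

namespace Cfsg.Agent.Lib.H2.SoSub

open Matrix
open Cfsg.Agent.S0837 (Bs Bs_apply Bs_symm Bs_nondeg)
open Cfsg.Agent.S0781 (Em Em_mulVec Em_det Em_preserves)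
open Cfsg.Agent.Lib.H11.UGen (Um Um_mulVec)
open Cfsg.Agent.Lib.H10.Sf (IsRat)
open Cfsg.Agent.Lib.H10.Su
open Cfsg.Agent.Lib.H10.So

variable {F : Type*} [Field F] [Fintype F] {n q : ℕ}
variable {φ : F →+* F} {F₀ : Subfield F} {P : GL (Fin n) F} {H : Subgroup (GL (Fin n) F)}

theorem NP_lt (R : RS φ n q F₀ P) :
    NP n q F₀ P < Cfsg.GU n F q ⊓ Cfsg.Geo.specialLinear (Fin n) F := by
  have hn := R.hn
  have hφ2 := R.hφ2
  refine lt_of_le_of_ne inf_le_right ?_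
  intro heq
  obtain ⟨z, z₂, hz, hz₂, hzz, -, hzz₂, -, -⟩ :=
    R.exists_hyp_perp (k := 0) (fun i => Fin.elim0 i) (fun i => Fin.elim0 i) (by omega)
  have hz0 : z ≠ 0 := by
    rintro rfl
    rw [map_zero, LinearMap.zero_apply] at hzz₂
    exact zero_ne_one hzz₂
  obtain ⟨θ, hθ0, hθ, hθF⟩ := R.exists_theta
  have h00 : Bs φ n z 0 = 0 := map_zero _
  have h00' : Bs φ n (0 : Fin n → F) z = 0 := by rw [map_zero, LinearMap.zero_apply]
  have hdet : (Em φ z 0 θ).det = 1 := Em_det φ hφ2 z 0 θ hzz h00 h00'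
  have hpres := Em_preserves φ hφ2 z 0 θ hzz h00 h00'
    (by rw [hθ, map_zero]; simp)
  have hd : (Em φ z 0 θ).det ≠ 0 := by rw [hdet]; exact one_ne_zero
  have hmem : Matrix.GeneralLinearGroup.mkOfDetNeZero (Em φ z 0 θ) hd ∈
      Cfsg.GU n F q ⊓ Cfsg.Geo.specialLinear (Fin n) F := by
    refine Subgroup.mem_inf.2 ⟨?_, ?_⟩
    · rw [mem_GU_iff φ R.hφ]
      exact hpres
    · rw [Cfsg.Agent.Lib.H28.mem_specialLinear_iff]
      exact hdet
  rw [← heq] at hmem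
  obtain ⟨c, hc0, hc⟩ := ratV_of_mem_sub (Subgroup.mem_inf.1 hmem).1
  have hval : ((Matrix.GeneralLinearGroup.mkOfDetNeZero (Em φ z 0 θ) hd : GL (Fin n) F) :
      Matrix (Fin n) (Fin n) F) = Em φ z 0 θ := rfl
  rw [hval] at hc
  -- `z` is fixed
  have h1 := hc z hz
  rw [Em_mulVec φ hφ2 z 0 θ hzz, hzz] at h1
  simp only [zero_smul, mul_zero, map_zero, LinearMap.zero_apply, sub_zero, add_zero, smul_zero]
    at h1
  have hcF : c ∈ F₀ := R.mem_of_smul_ratV hz hz0 h1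
  -- the partner
  have h2 := hc z₂ hz₂
  rw [Em_mulVec φ hφ2 z 0 θ hzz, hzz₂] at h2
  simp only [smul_zero, mul_one, map_zero, LinearMap.zero_apply, sub_zero, add_zero] at h2
  have h3 : RatV F₀ P (c⁻¹ • (c • (z₂ + θ • z))) := h2.smul (F₀.inv_mem hcF)
  rw [smul_smul, inv_mul_cancel₀ hc0, one_smul] at h3
  have h4 : RatV F₀ P (θ • z) := by
    have := h3.sub hz₂
    rwa [add_sub_cancel_left] at this
  exact hθF (R.mem_of_smul_ratV hz hz0 h4)

end Cfsg.Agent.Lib.H2.SoSub
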