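import Cfsg.Agent.Lib.H8.SpBNA
import Cfsg.Agent.Lib.H2.SpUG2
import Cfsg.Agent.Lib.H12.DCosB

/-!
# S2545 piece I (helper2): `Bsp ⊔ Nsp = ⊤` for `Sp_{2(m+1)}(F)`.
-/

set_option autoImplicit false

namespace Cfsg.Agent.Lib.H2.SpBN

open Matrix Cfsg.Agent.Lib.H12.LS2 Cfsg.Agent.Lib.H5.LS2 Cfsg.Agent.Lib.H11.SpU Cfsg.Agent.Lib.H8.SpBN

variable {F : Type*} [Field F] {m : ℕ}

/-- the Siegel radical lies in the Borel subgroup -/
theorem tEl_mem_Bsp (X : Symm (m + 1) F) : (tEl X : Sp (m + 1) F) ∈ Bsp m F := by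
  rw [mem_Bsp_iff, isUp_iff]
  intro k l hkl
  rw [tEl_val]
  rcases k with i | i <;> rcases l with j | j
  · simp only [rk_inl] at hkl
    rw [Matrix.fromBlocks_apply₁₁, Matrix.one_apply_ne]
    intro h
    rw [h] at hkl
    exact lt_irrefl _ hkl
  · simp only [rk_inl, rk_inr] at hkl
    have := i.2
    have := j.2
    omega
  · rw [Matrix.fromBlocks_apply₂₁, Matrix.zero_apply]
  · simp only [rk_inr] at hkl
    rw [Matrix.fromBlocks_apply₂₂, Matrix.one_apply_ne]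
    intro h
    rw [h] at hkl
    exact lt_irrefl _ hkl

/-- the image of an upper triangular matrix under `l` lies in the Borel subgroup -/
theorem lEl_mem_Bsp (u : GL (Fin (m + 1)) F) (hu : u ∈ Cfsg.upperTriangularGL (m + 1) F) :
    (lEl u : Sp (m + 1) F) ∈ Bsp m F := by
  have hu' : u⁻¹ ∈ Cfsg.upperTriangularGL (m + 1) F := inv_mem hu
  rw [mem_Bsp_iff, isUp_iff]
  intro k l hkl
  rw [lEl_val]
  rcases k with i | i <;> rcases l with j | j
  · simp only [rk_inl] at hkl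
    rw [Matrix.fromBlocks_apply₁₁]
    exact hu (show id j < id i from Fin.lt_def.2 hkl)
  · rw [Matrix.fromBlocks_apply₁₂, Matrix.zero_apply]
  · rw [Matrix.fromBlocks_apply₂₁, Matrix.zero_apply]
  · simp only [rk_inr] at hkl
    rw [Matrix.fromBlocks_apply₂₂, Matrix.transpose_apply]
    have hij : i < j := by
      rw [Fin.lt_def]
      have := i.2
      have := j.2
      omega
    exact hu' hij

theorem wGL_swap_eq_glSwap (i j : Fin (m + 1)) :
    Cfsg.Agent.Lib.H12.DCos.wGL F (Equiv.swap i j) = glSwap i j := by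
  apply Units.ext
  rw [Cfsg.Agent.Lib.H12.DCos.wGL_val, glSwap_val]
  ext a b
  rw [Cfsg.Agent.Lib.H12.DCos.wmat_apply, PEquiv.toMatrix_apply, Equiv.toPEquiv_apply]
  by_cases h : a = Equiv.swap i j b
  · rw [if_pos h, if_pos]
    rw [Option.mem_def, h, Equiv.swap_apply_self]
  · rw [if_neg h, if_neg]
    intro h'
    rw [Option.mem_def, Option.some_inj] at h'
    apply h
    rw [← h', Equiv.swap_apply_self]

theorem lEl_wGL_mem (σ : Equiv.Perm (Fin (m + 1))) :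
    (lEl (Cfsg.Agent.Lib.H12.DCos.wGL F σ) : Sp (m + 1) F) ∈ Subgroup.closure (Ssp m F) := by
  have hσ : σ ∈ Submonoid.closure (Set.range fun i : Fin m ↦ Equiv.swap i.castSucc i.succ) := by
    rw [Equiv.Perm.mclosure_swap_castSucc_succ]
    exact Submonoid.mem_top σ
  induction hσ using Submonoid.closure_induction with
  | mem x hx =>
    obtain ⟨j, rfl⟩ := hx
    apply Subgroup.subset_closure
    refine ⟨j.castSucc, ?_⟩
    rw [sRef_castSucc, sShort, wGL_swap_eq_glSwap]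
  | one =>
    rw [map_one]
    have : (lEl (1 : GL (Fin (m + 1)) F) : Sp (m + 1) F) = 1 := (lHom (F := F) (m + 1)).map_one
    rw [this]
    exact one_mem _
  | mul x y _ _ hx hy =>
    rw [map_mul]
    have : (lEl (Cfsg.Agent.Lib.H12.DCos.wGL F x * Cfsg.Agent.Lib.H12.DCos.wGL F y) : Sp (m + 1) F) =
        lEl (Cfsg.Agent.Lib.H12.DCos.wGL F x) * lEl (Cfsg.Agent.Lib.H12.DCos.wGL F y) :=
      (lHom (F := F) (m + 1)).map_mul _ _
    rw [this]
    exact mul_mem hx hy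

theorem Bsp_sup_Nsp_eq_top : Bsp m F ⊔ Nsp m F = ⊤ := by
  have hQ : Qs (m + 1) F ≤ Bsp m F ⊔ Nsp m F := by
    intro g hg
    obtain ⟨X, rfl⟩ := mem_Qs.1 hg
    exact (le_sup_left : Bsp m F ≤ _) (tEl_mem_Bsp X)
  have hcl : Subgroup.closure (Ssp m F) ≤ Bsp m F ⊔ Nsp m F :=
    le_trans (le_sup_right : _ ≤ Nsp m F) le_sup_right
  have hL : Ls (m + 1) F ≤ Bsp m F ⊔ Nsp m F := by
    intro g hg
    obtain ⟨h, rfl⟩ := mem_Ls.1 hg
    obtain ⟨b, hb, σ, b', hb', rfl⟩ := Cfsg.Agent.Lib.H12.DCos.bruhat h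
    have e : (lEl (b * Cfsg.Agent.Lib.H12.DCos.wGL F σ * b') : Sp (m + 1) F) =
        lEl b * lEl (Cfsg.Agent.Lib.H12.DCos.wGL F σ) * lEl b' := by
      have h1 := (lHom (F := F) (m + 1)).map_mul (b * Cfsg.Agent.Lib.H12.DCos.wGL F σ) b'
      have h2 := (lHom (F := F) (m + 1)).map_mul b (Cfsg.Agent.Lib.H12.DCos.wGL F σ)
      rw [lHom_apply, lHom_apply, lHom_apply] at h1
      rw [lHom_apply, lHom_apply, lHom_apply] at h2
      rw [h1, h2]
    rw [e]
    exact mul_mem (mul_mem ((le_sup_left : Bsp m F ≤ _) (lEl_mem_Bsp b hb)) (hcl (lEl_wGL_mem σ)))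
      ((le_sup_left : Bsp m F ≤ _) (lEl_mem_Bsp b' hb'))
  have hU : U1m m F ≤ Bsp m F ⊔ Nsp m F := by
    intro g hg
    obtain ⟨c, rfl⟩ := mem_U1m.1 hg
    have h1 := Cfsg.Agent.Lib.H2.SpU.w1_conj_U1 (m := m) (F := F) (-c)
    rw [neg_neg] at h1
    rw [← h1]
    have hw : w1 m F ∈ Bsp m F ⊔ Nsp m F := by
      apply hcl
      apply Subgroup.subset_closure
      exact ⟨Fin.last m, by rw [sRef_last, sLong]⟩
    exact mul_mem (mul_mem hw ((le_sup_left : Bsp m F ≤ _) (tEl_mem_Bsp _))) (inv_mem hw)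
  rw [eq_top_iff, ← Cfsg.Agent.Lib.H2.SpU.Hs_sup_U1m_eq_top (m := m) (F := F)]
  apply sup_le
  · exact le_trans Cfsg.Agent.Lib.H2.SpU.Hs_le_Ps (sup_le hQ hL)
  · exact hU

end Cfsg.Agent.Lib.H2.SpBN
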