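import Cfsg.Agent.Lib.H8.SpBNA
import Cfsg.Agent.Lib.H2.SpCenter
import Cfsg.Agent.Lib.H2.SpOrder

/-!
# S2545 pieces L1, L2 (helper2): the centre of `Sp` lies in the torus; the `p`-part of `|Sp_{2n}(q)|`.
-/

set_option autoImplicit false

namespace Cfsg.Agent.Lib.H2.SpBN

open Matrix Cfsg.Agent.Lib.H12.LS2 Cfsg.Agent.Lib.H5.LS2 Cfsg.Agent.Lib.H11.SpU Cfsg.Agent.Lib.H8.SpBN

variable {F : Type*} [Field F] {m : ℕ}

theorem center_le_Tsp : Subgroup.center (Sp (m + 1) F) ≤ Tsp m F := by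
  intro z hz
  have h := Cfsg.Agent.Lib.H2.Sp.center_eq (F := F) (m + 1) (Nat.le_add_left 1 m)
  have hz' : z ∈ ({1, Cfsg.Agent.Lib.H2.Sp.negOne (m + 1)} : Set (Matrix.symplecticGroup (Fin (m + 1)) F)) := by
    rw [← h]
    exact hz
  rw [mem_Tsp_iff]
  rcases hz' with rfl | rfl
  · exact isDg_one
  · intro k l hkl
    show (-1 : Matrix _ _ F) k l = 0
    rw [Matrix.neg_apply, Matrix.one_apply_ne hkl, neg_zero]

theorem factorization_card_Sp [Fintype F] (p : ℕ) [Fact p.Prime] [CharP F p] :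
    p ^ (Nat.card (Sp (m + 1) F)).factorization p = Fintype.card F ^ ((m + 1) ^ 2) := by
  classical
  have hp : p.Prime := Fact.out
  obtain ⟨n, -, hq⟩ := FiniteField.card F p
  have hcard := Cfsg.Agent.Lib.H2.Sp.card_Sp (F := F) (m + 1)
  set R : ℕ := ∏ i ∈ Finset.range (m + 1), (Fintype.card F ^ (2 * (i + 1)) - 1) with hR
  have hq2 : 2 ≤ Fintype.card F := Fintype.one_lt_card
  have hfac : ∀ i : ℕ, 1 ≤ Fintype.card F ^ (2 * (i + 1)) - 1 := by
    intro i
    have : 2 ^ (2 * (i + 1)) ≤ Fintype.card F ^ (2 * (i + 1)) := Nat.pow_le_pow_left hq2 _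
    have h2 : 2 ≤ 2 ^ (2 * (i + 1)) := by
      calc 2 = 2 ^ 1 := by norm_num
        _ ≤ 2 ^ (2 * (i + 1)) := Nat.pow_le_pow_right (by norm_num) (by omega)
    omega
  have hR0 : R ≠ 0 := by
    rw [hR]
    apply Finset.prod_ne_zero_iff.2
    intro i _
    have := hfac i
    omega
  have hpR : ¬ p ∣ R := by
    intro hdiv
    rw [hR] at hdiv
    obtain ⟨i, -, hi⟩ := (Prime.dvd_finsetProd_iff (Nat.prime_iff.1 hp) _).1 hdiv
    have h1 : p ∣ Fintype.card F ^ (2 * (i + 1)) := by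
      rw [hq]
      exact dvd_pow (dvd_pow_self p n.ne_zero) (by omega)
    have h2 := (Nat.dvd_sub_iff_right (hfac i |> fun h => by omega) h1).1 hi
    exact hp.one_lt.ne' (Nat.dvd_one.1 h2)
  have hcard' : Nat.card (Sp (m + 1) F) = p ^ ((n : ℕ) * (m + 1) ^ 2) * R := by
    rw [hcard, hq, ← pow_mul]
  rw [hcard', Nat.factorization_mul (pow_ne_zero _ hp.ne_zero) hR0, Finsupp.add_apply,
    hp.factorization_pow, Finsupp.single_eq_same, Nat.factorization_eq_zero_of_not_dvd hpR, add_zero, hq,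
    ← pow_mul]

end Cfsg.Agent.Lib.H2.SpBN
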