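import Cfsg.Agent.Lib.H2.SpMinFIX

set_option autoImplicit false
set_option linter.unusedSectionVars false
set_option linter.unusedVariables false

/-!
# S2142-COV (architect helper7): a subspace `a ∈ U ⊊ a^⊥` of the symplectic space over the field
with two elements has at least `|U| / 2` images under the stabiliser of `a`.
-/

namespace Cfsg.Agent.Lib.H2.SpMin

open Matrix Module Cfsg.Agent.Lib.H4 Cfsg.Agent.Lib.H2.Sp Cfsg.Agent.Lib.H7.SpMin

variable {F : Type*} [Field F] [Fintype F] (m : ℕ)

set_option quotPrecheck false in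
local notation "Sp" => ↥(Matrix.symplecticGroup (Fin m) F)

set_option quotPrecheck false in
local notation "MM" => Matrix (Fin m ⊕ Fin m) (Fin m ⊕ Fin m) F

set_option quotPrecheck false in
local notation "VV" => (Fin m ⊕ Fin m → F)

set_option quotPrecheck false in
local notation "B" => Cfsg.sympForm m F

/-- the symplectic form as a Mathlib bilinear form -/
noncomputable def covBf : LinearMap.BilinForm F (Fin m ⊕ Fin m → F) :=
  Matrix.toBilin' (Matrix.J (Fin m) F)

omit [Fintype F] in
theorem covBf_apply (x y : Fin m ⊕ Fin m → F) : covBf m x y = B x y := by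
  unfold covBf Cfsg.sympForm
  rw [Matrix.toBilin'_apply']

omit [Fintype F] in
theorem covBf_nondeg : (covBf (F := F) m).Nondegenerate := by
  constructor
  · intro x hx
    by_contra hne
    obtain ⟨z, hz⟩ := exists_sympForm_ne_zero m x hne
    exact hz (by rw [← covBf_apply]; exact hx z)
  · intro y hy
    by_contra hne
    obtain ⟨z, hz⟩ := exists_sympForm_ne_zero m y hne
    apply hz
    rw [sympForm_swap, ← covBf_apply, hy z, neg_zero]

omit [Fintype F] in
theorem cov_mulVec_inv (p : Sp) (v : Fin m ⊕ Fin m → F) :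
    ((p⁻¹ : Sp) : MM) *ᵥ ((p : MM) *ᵥ v) = v := by
  rw [Matrix.mulVec_mulVec, ← Submonoid.coe_mul, inv_mul_cancel, Submonoid.coe_one,
    Matrix.one_mulVec]

omit [Fintype F] in
theorem cov_toLin_injective (p : Sp) : Function.Injective (Matrix.toLin' (p : MM)) := by
  intro u v huv
  rw [Matrix.toLin'_apply, Matrix.toLin'_apply] at huv
  have := congrArg (fun w => ((p⁻¹ : Sp) : MM) *ᵥ w) huv
  simpa only [cov_mulVec_inv] using this

/-- **S2142-COV** -/
theorem card_le_two_mul_images (hF : Fintype.card F = 2) (a : VV) (ha : a ≠ 0) (U : Submodule F VV) (haU : a ∈ U)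
    (hUa : ∀ y ∈ U, B a y = 0) (y₀ : VV) (hy₀ : B a y₀ = 0) (hy₀U : y₀ ∉ U) :
    Nat.card U ≤ 2 * Nat.card {U' : Submodule F VV // ∃ p ∈ Pa m a, U' = U.map (Matrix.toLin' (p : MM))} := by
  classical
  have hnd := covBf_nondeg (F := F) m
  have hcF : Nat.card F = 2 := by rw [Nat.card_eq_fintype_card, hF]
  have hVV : finrank F (Fin m ⊕ Fin m → F) = 2 * m := by
    rw [Module.finrank_fintype_fun_eq_card, Fintype.card_sum, Fintype.card_fin]; ring
  have hperp : ∀ W : Submodule F (Fin m ⊕ Fin m → F),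
      finrank F ((covBf (F := F) m).orthogonal W) = 2 * m - finrank F W := by
    intro W
    rw [LinearMap.BilinForm.finrank_orthogonal hnd, hVV]
  have hcard : ∀ W : Submodule F (Fin m ⊕ Fin m → F), Nat.card W = 2 ^ finrank F W := by
    intro W
    rw [Module.natCard_eq_pow_finrank (K := F), hcF]
  have hfilter : ∀ W : Submodule F (Fin m ⊕ Fin m → F),
      (Finset.univ.filter (fun x : Fin m ⊕ Fin m → F => x ∈ W)).card = 2 ^ finrank F W := by
    intro W
    rw [← hcard W, Nat.card_eq_fintype_card, Fintype.card_subtype]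
  have hmem_orth : ∀ (W : Submodule F (Fin m ⊕ Fin m → F)) (x : Fin m ⊕ Fin m → F),
      x ∈ (covBf (F := F) m).orthogonal W ↔ ∀ n ∈ W, B n x = 0 := by
    intro W x
    rw [LinearMap.BilinForm.mem_orthogonal_iff]
    constructor
    · intro h n hn
      rw [← covBf_apply]; exact h n hn
    · intro h n hn
      rw [covBf_apply]; exact h n hn
  -- `a^⊥`
  have hA_mem : ∀ x : Fin m ⊕ Fin m → F,
      x ∈ (covBf (F := F) m).orthogonal (Submodule.span F {a}) ↔ B a x = 0 := by
    intro x
    rw [hmem_orth]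
    constructor
    · intro h
      exact h a (Submodule.mem_span_singleton_self a)
    · intro h n hn
      obtain ⟨c, rfl⟩ := Submodule.mem_span_singleton.1 hn
      rw [sympForm_smul_left, h, mul_zero]
  have hA_rank : finrank F ((covBf (F := F) m).orthogonal (Submodule.span F {a})) = 2 * m - 1 := by
    rw [hperp, finrank_span_singleton ha]
  set k := finrank F U with hk
  -- `1 ≤ k`
  have hk1 : 1 ≤ k := by
    have : 0 < finrank F U := by
      rw [Module.finrank_pos_iff_exists_ne_zero]
      exact ⟨⟨a, haU⟩, fun h => ha (congrArg Subtype.val h)⟩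
    exact this
  -- `k < 2m - 1`
  have hk2 : k < 2 * m - 1 := by
    rw [← hA_rank]
    apply Submodule.finrank_lt_finrank_of_lt
    refine lt_of_le_of_ne ?_ ?_
    · intro y hy
      rw [hA_mem]; exact hUa y hy
    · intro h
      apply hy₀U
      rw [h, hA_mem]; exact hy₀
  -- the complement `U'` of `U`
  have hU'rank : finrank F ((covBf (F := F) m).orthogonal U) = 2 * m - k := hperp U
  have hU'card : Nat.card ((covBf (F := F) m).orthogonal U) = 2 ^ (2 * m - k) := by
    rw [hcard, hU'rank]
  -- an element `x₀` of `U'` outside `{0, a}`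
  obtain ⟨x₀, hx₀U', hx₀0, hx₀a⟩ : ∃ x₀ : Fin m ⊕ Fin m → F,
      x₀ ∈ (covBf (F := F) m).orthogonal U ∧ x₀ ≠ 0 ∧ x₀ ≠ a := by
    by_contra hcon
    push Not at hcon
    have hsub : (((covBf (F := F) m).orthogonal U : Submodule F (Fin m ⊕ Fin m → F)) :
        Set (Fin m ⊕ Fin m → F)) ⊆ {0, a} := by
      intro x hx
      by_cases hx0 : x = 0
      · left; exact hx0
      · right; exact hcon x hx hx0
    have h1 : Nat.card ((covBf (F := F) m).orthogonal U) ≤ 2 := by
      calc Nat.card ((covBf (F := F) m).orthogonal U) = Set.ncard (((covBf (F := F) m).orthogonal U : Submodule F (Fin m ⊕ Fin m → F)) :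
            Set (Fin m ⊕ Fin m → F)) := rfl
        _ ≤ Set.ncard ({0, a} : Set (Fin m ⊕ Fin m → F)) :=
            Set.ncard_le_ncard hsub (Set.toFinite _)
        _ ≤ 2 := le_of_eq (Set.ncard_pair (fun h => ha h.symm))
    rw [hU'card] at h1
    have h2 : 2 ^ 2 ≤ 2 ^ (2 * m - k) := Nat.pow_le_pow_right (by norm_num) (by omega)
    omega
  have hax₀ : B a x₀ = 0 := (hmem_orth U x₀).1 hx₀U' a haU
  -- the finite set of images
  let _inst : Fintype (Submodule F (Fin m ⊕ Fin m → F)) := Fintype.ofFinite _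
  set 𝒰 : Finset (Submodule F (Fin m ⊕ Fin m → F)) :=
    Finset.univ.filter (fun U'' => ∃ p ∈ Pa m a, U'' = U.map (Matrix.toLin' (p : MM))) with h𝒰
  have hν : Nat.card {U' : Submodule F VV // ∃ p ∈ Pa m a, U' = U.map (Matrix.toLin' (p : MM))} =
      𝒰.card := by
    rw [Nat.card_eq_fintype_card, Fintype.card_subtype]
  rw [hν, hcard U]
  set T : Submodule F (Fin m ⊕ Fin m → F) → Finset (Fin m ⊕ Fin m → F) := fun U'' =>
    Finset.univ.filter (fun x => x ∈ (covBf (F := F) m).orthogonal U'' ∧ x ≠ 0 ∧ x ≠ a) with hT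
  set A0 : Finset (Fin m ⊕ Fin m → F) :=
    Finset.univ.filter (fun x => B a x = 0 ∧ x ≠ 0 ∧ x ≠ a) with hA0
  -- Claim 1: covering
  have hcover : A0 ⊆ 𝒰.biUnion T := by
    intro x hx
    rw [hA0, Finset.mem_filter] at hx
    obtain ⟨-, hxa, hx0, hxne⟩ := hx
    obtain ⟨p, hpP, hpx⟩ := exists_fix_map m hF a x₀ x ha hax₀ hxa hx₀0 hx₀a hx0 hxne
    rw [Finset.mem_biUnion]
    refine ⟨U.map (Matrix.toLin' (p : MM)), ?_, ?_⟩
    · rw [h𝒰, Finset.mem_filter]
      exact ⟨Finset.mem_univ _, p, hpP, rfl⟩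
    · rw [hT, Finset.mem_filter]
      refine ⟨Finset.mem_univ _, ?_, hx0, hxne⟩
      rw [hmem_orth]
      rintro n ⟨w, hw, rfl⟩
      rw [Matrix.toLin'_apply, ← hpx, (mem_symplecticGroup_iff_sympForm m p.1).1 p.2 w x₀]
      exact (hmem_orth U x₀).1 hx₀U' w hw
  -- Claim 2: the size of each piece
  have hpiece : ∀ U'' ∈ 𝒰, (T U'').card + 2 ≤ 2 ^ (2 * m - k) := by
    intro U'' hU''
    rw [h𝒰, Finset.mem_filter] at hU''
    obtain ⟨-, p, hpP, rfl⟩ := hU''
    have hpa : (p : MM) *ᵥ a = a := (mem_Pa m a p).1 hpP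
    have hrank : finrank F (U.map (Matrix.toLin' (p : MM))) = k :=
      (Submodule.equivMapOfInjective _ (cov_toLin_injective m p) U).finrank_eq.symm
    have h0a : ({0, a} : Finset (Fin m ⊕ Fin m → F)) ⊆
        Finset.univ.filter (fun x => x ∈ (covBf (F := F) m).orthogonal
          (U.map (Matrix.toLin' (p : MM)))) := by
      intro x hx
      rw [Finset.mem_insert, Finset.mem_singleton] at hx
      rw [Finset.mem_filter]
      refine ⟨Finset.mem_univ _, ?_⟩
      rcases hx with rfl | rfl
      · exact Submodule.zero_mem _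
      · rw [hmem_orth]
        rintro n ⟨w, hw, rfl⟩
        rw [Matrix.toLin'_apply]
        have h1 := (mem_symplecticGroup_iff_sympForm m p.1).1 p.2 w x
        rw [hpa] at h1
        rw [h1, sympForm_swap, hUa w hw, neg_zero]
    have hTsub : T (U.map (Matrix.toLin' (p : MM))) ⊆
        Finset.univ.filter (fun x => x ∈ (covBf (F := F) m).orthogonal
          (U.map (Matrix.toLin' (p : MM)))) := by
      intro x hx
      rw [hT, Finset.mem_filter] at hx
      rw [Finset.mem_filter]
      exact ⟨Finset.mem_univ _, hx.2.1⟩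
    have hdisj : Disjoint (T (U.map (Matrix.toLin' (p : MM))))
        ({0, a} : Finset (Fin m ⊕ Fin m → F)) := by
      rw [Finset.disjoint_left]
      intro x hx hx'
      rw [hT, Finset.mem_filter] at hx
      rw [Finset.mem_insert, Finset.mem_singleton] at hx'
      rcases hx' with h | h
      · exact hx.2.2.1 h
      · exact hx.2.2.2 h
    have hpair : ({0, a} : Finset (Fin m ⊕ Fin m → F)).card = 2 :=
      Finset.card_pair (fun h => ha h.symm)
    have h3 := Finset.card_le_card (Finset.union_subset hTsub h0a)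
    rw [Finset.card_union_of_disjoint hdisj, hpair, hfilter, hperp, hrank] at h3
    exact h3
  -- Claim 3: the size of `a^⊥`
  have hA0card : 2 ^ (2 * m - 1) ≤ A0.card + 2 := by
    have hsub : Finset.univ.filter (fun x : Fin m ⊕ Fin m → F =>
        x ∈ (covBf (F := F) m).orthogonal (Submodule.span F {a})) ⊆
          A0 ∪ ({0, a} : Finset (Fin m ⊕ Fin m → F)) := by
      intro x hx
      rw [Finset.mem_filter, hA_mem] at hx
      rw [Finset.mem_union, Finset.mem_insert, Finset.mem_singleton]
      by_cases hx0 : x = 0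
      · right; left; exact hx0
      · by_cases hxa : x = a
        · right; right; exact hxa
        · left
          rw [hA0, Finset.mem_filter]
          exact ⟨Finset.mem_univ _, hx.2, hx0, hxa⟩
    have h1 := Finset.card_le_card hsub
    rw [hfilter, hA_rank] at h1
    have h2 := Finset.card_union_le A0 ({0, a} : Finset (Fin m ⊕ Fin m → F))
    have h3 : ({0, a} : Finset (Fin m ⊕ Fin m → F)).card ≤ 2 := Finset.card_le_two
    omega
  -- the count
  have hsum : A0.card + 2 * 𝒰.card ≤ 𝒰.card * 2 ^ (2 * m - k) := by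
    have h1 : A0.card ≤ ∑ U'' ∈ 𝒰, (T U'').card :=
      le_trans (Finset.card_le_card hcover) Finset.card_biUnion_le
    have h2 : ∑ U'' ∈ 𝒰, ((T U'').card + 2) ≤ ∑ _U'' ∈ 𝒰, 2 ^ (2 * m - k) :=
      Finset.sum_le_sum hpiece
    rw [Finset.sum_add_distrib, Finset.sum_const, Finset.sum_const, smul_eq_mul, smul_eq_mul] at h2
    linarith
  -- arithmetic
  set P := 2 ^ (k - 1) with hP
  set E := 2 ^ (2 * m - k) with hE
  have hE4 : 4 ≤ E := by
    have : 2 ^ 2 ≤ 2 ^ (2 * m - k) := Nat.pow_le_pow_right (by norm_num) (by omega)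
    simpa using this
  have h2k : 2 ^ k = 2 * P := by
    rw [hP, ← pow_succ']; congr 1; omega
  have hPE : 2 ^ (2 * m - 1) = P * E := by
    rw [hP, hE, ← pow_add]; congr 1; omega
  rw [h2k]
  by_contra hcon
  push Not at hcon
  have hν1 : 𝒰.card + 1 ≤ P := by omega
  have h5 := Nat.mul_le_mul_right E hν1
  rw [hPE] at hA0card
  nlinarith

end Cfsg.Agent.Lib.H2.SpMin
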