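import Cfsg.Agent.Lib.H7.SpMinDefs
import Cfsg.Prelude.Def_Classical

set_option autoImplicit false
set_option linter.unusedSectionVars false
set_option linter.unusedVariables false

/-!
# S2142-FIX (architect helper7): the stabiliser of a vector `a` in `Sp_{2m}(2)` is transitive on
`a^⊥ ∖ {0, a}`; `Sp` is transitive on perpendicular pairs of distinct non-zero vectors.
-/

namespace Cfsg.Agent.Lib.H2.SpMin

open Matrix Cfsg.Agent.Lib.H4 Cfsg.Agent.Lib.H2.Sp Cfsg.Agent.Lib.H7.SpMin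

variable {F : Type*} [Field F] [Fintype F] (m : ℕ)

set_option quotPrecheck false in
local notation "Sp" => ↥(Matrix.symplecticGroup (Fin m) F)

set_option quotPrecheck false in
local notation "MM" => Matrix (Fin m ⊕ Fin m) (Fin m ⊕ Fin m) F

set_option quotPrecheck false in
local notation "VV" => (Fin m ⊕ Fin m → F)

set_option quotPrecheck false in
local notation "B" => Cfsg.sympForm m F

omit [Fintype F] in
theorem fix_sympForm_zero_left (v : Fin m ⊕ Fin m → F) : B 0 v = 0 := by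
  have := sympForm_smul_left m (0 : F) (0 : Fin m ⊕ Fin m → F) v
  rwa [zero_smul, zero_mul] at this

omit [Fintype F] in
theorem fix_sympForm_sub_left (u v w : Fin m ⊕ Fin m → F) : B (u - v) w = B u w - B v w := by
  have : u - v = u + (-1 : F) • v := by rw [neg_smul, one_smul, sub_eq_add_neg]
  rw [this, sympForm_add_left, sympForm_smul_left]; ring

omit [Fintype F] in
/-- if `y` is orthogonal to everything orthogonal to `a ≠ 0`, then `y` is a multiple of `a` -/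
theorem fix_mem_span_of_perp (a y : Fin m ⊕ Fin m → F) (ha : a ≠ 0)
    (h : ∀ u, B a u = 0 → B y u = 0) : ∃ c : F, y = c • a := by
  obtain ⟨z, hz⟩ := exists_sympForm_ne_zero m a ha
  refine ⟨B y z * (B a z)⁻¹, ?_⟩
  by_contra hne
  have hne' : y - (B y z * (B a z)⁻¹) • a ≠ 0 := sub_ne_zero.2 hne
  obtain ⟨x, hx⟩ := exists_sympForm_ne_zero m _ hne'
  apply hx
  rw [fix_sympForm_sub_left, sympForm_smul_left]
  have hu : B a (x - (B a x * (B a z)⁻¹) • z) = 0 := by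
    rw [sympForm_sub_right, sympForm_smul_right]
    field_simp
    ring
  have h1 := h _ hu
  rw [sympForm_sub_right, sympForm_smul_right] at h1
  have h2 : B y x = B a x * (B a z)⁻¹ * B y z := by linear_combination h1
  rw [h2]
  ring

/-- some vector of `a^⊥` is not orthogonal to `y` -/
theorem fix_exists_perp_ne (hF : Fintype.card F = 2) (a y : Fin m ⊕ Fin m → F) (ha : a ≠ 0)
    (hy0 : y ≠ 0) (hya : y ≠ a) : ∃ u, B a u = 0 ∧ B y u ≠ 0 := by
  by_contra hcon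
  push Not at hcon
  obtain ⟨c, hc⟩ := fix_mem_span_of_perp m a y ha hcon
  rcases eq_zero_or_one hF c with rfl | rfl
  · rw [zero_smul] at hc; exact hy0 hc
  · rw [one_smul] at hc; exact hya hc

/-- **S2142-FIX**, first lemma -/
theorem exists_fix_map (hF : Fintype.card F = 2) (a y y' : VV) (ha : a ≠ 0)
    (hy : B a y = 0) (hy' : B a y' = 0) (hy0 : y ≠ 0) (hya : y ≠ a) (hy'0 : y' ≠ 0) (hy'a : y' ≠ a) :
    ∃ g ∈ Pa m a, (g : MM) *ᵥ y = y' := by
  by_cases h1 : B y y' = 0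
  · -- find `u ∈ a^⊥` orthogonal to neither `y` nor `y'`
    obtain ⟨u₁, hu₁a, hu₁⟩ := fix_exists_perp_ne m hF a y ha hy0 hya
    obtain ⟨u₂, hu₂a, hu₂⟩ := fix_exists_perp_ne m hF a y' ha hy'0 hy'a
    obtain ⟨u, hua, huy, huy'⟩ : ∃ u, B a u = 0 ∧ B y u ≠ 0 ∧ B y' u ≠ 0 := by
      by_cases h3 : B y' u₁ = 0
      · by_cases h4 : B y u₂ = 0
        · refine ⟨u₁ + u₂, ?_, ?_, ?_⟩
          · rw [sympForm_add_right, hu₁a, hu₂a, add_zero]
          · rw [sympForm_add_right, h4, add_zero]; exact hu₁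
          · rw [sympForm_add_right, h3, zero_add]; exact hu₂
        · exact ⟨u₂, hu₂a, h4, hu₂⟩
      · exact ⟨u₁, hu₁a, hu₁, h3⟩
    obtain ⟨g₁, -, hg₁, hg₁f⟩ := exists_tv_of_ne_zero m y u huy
    have huy'' : B u y' ≠ 0 := by
      rw [sympForm_swap, neg_ne_zero]; exact huy'
    obtain ⟨g₂, -, hg₂, hg₂f⟩ := exists_tv_of_ne_zero m u y' huy''
    refine ⟨g₂ * g₁, ?_, ?_⟩
    · rw [mem_Pa, Submonoid.coe_mul, ← Matrix.mulVec_mulVec, hg₁f a (by rw [hy, hua]),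
        hg₂f a (by rw [hua, hy'])]
    · rw [Submonoid.coe_mul, ← Matrix.mulVec_mulVec, hg₁, hg₂]
  · obtain ⟨g, -, hg, hgf⟩ := exists_tv_of_ne_zero m y y' h1
    exact ⟨g, (mem_Pa m a g).2 (hgf a (by rw [hy, hy'])), hg⟩

/-- **S2142-FIX**, second lemma: transitivity on perpendicular pairs -/
theorem exists_map_perp_pair (hF : Fintype.card F = 2) (x y x' y' : VV) (hx : x ≠ 0) (hy : y ≠ 0) (hxy : x ≠ y)
    (hx' : x' ≠ 0) (hy' : y' ≠ 0) (hxy' : x' ≠ y') (hB : B x y = 0) (hB' : B x' y' = 0) :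
    ∃ g : Sp, (g : MM) *ᵥ x = x' ∧ (g : MM) *ᵥ y = y' := by
  obtain ⟨g₁, -, hg₁⟩ := TS_transitive m x x' hx hx'
  have hS := (mem_symplecticGroup_iff_sympForm m g₁.1).1 g₁.2 x y
  rw [hg₁, hB] at hS
  have hinj : ∀ u v : VV, (g₁ : MM) *ᵥ u = (g₁ : MM) *ᵥ v → u = v := by
    intro u v huv
    have h1 : ((g₁⁻¹ : Sp) : MM) *ᵥ ((g₁ : MM) *ᵥ u) = ((g₁⁻¹ : Sp) : MM) *ᵥ ((g₁ : MM) *ᵥ v) := by
      rw [huv]
    rwa [Matrix.mulVec_mulVec, Matrix.mulVec_mulVec, ← Submonoid.coe_mul, inv_mul_cancel,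
      Submonoid.coe_one, Matrix.one_mulVec, Matrix.one_mulVec] at h1
  have h0 : (g₁ : MM) *ᵥ y ≠ 0 := by
    intro h
    apply hy
    apply hinj
    rw [h, Matrix.mulVec_zero]
  have hne : (g₁ : MM) *ᵥ y ≠ x' := by
    intro h
    apply hxy
    apply hinj
    rw [hg₁, h]
  obtain ⟨g₂, hg₂P, hg₂⟩ := exists_fix_map m hF x' ((g₁ : MM) *ᵥ y) y' hx' hS hB' h0 hne hy'
    (fun h => hxy' h.symm)
  refine ⟨g₂ * g₁, ?_, ?_⟩
  · rw [Submonoid.coe_mul, ← Matrix.mulVec_mulVec, hg₁]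
    exact (mem_Pa m x' g₂).1 hg₂P
  · rw [Submonoid.coe_mul, ← Matrix.mulVec_mulVec, hg₂]

end Cfsg.Agent.Lib.H2.SpMin
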