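import Mathlib

/-!
# Spectrum of a semidirect product with fixed-point-free action on an abelian kernel
-/

set_option autoImplicit false

namespace Cfsg.Agent.Lib.H2.Spec

open SemidirectProduct

section
variable {N C : Type*} [CommGroup N] [Group C] (φ : C →* MulAut N)

theorem orderOf_sdp_of_fpf (hfpf : ∀ c : C, c ≠ 1 → ∀ n : N, φ c n = n → n = 1)
    (n : N) (c : C) (hc : c ≠ 1) : orderOf (⟨n, c⟩ : N ⋊[φ] C) = orderOf c := by
  set x : N ⋊[φ] C := ⟨n, c⟩ with hx
  set m := orderOf c with hm
  have hr : ∀ k, (x ^ k).right = c ^ k := fun k => by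
    have : (rightHom : N ⋊[φ] C →* C) (x ^ k) = ((rightHom : N ⋊[φ] C →* C) x) ^ k := map_pow _ _ _
    simpa using this
  apply Nat.dvd_antisymm
  · apply orderOf_dvd_of_pow_eq_one
    have h1 : (x ^ m).right = 1 := by rw [hr]; exact pow_orderOf_eq_one c
    have h2 : φ c (x ^ m).left = (x ^ m).left := by
      have e1 : (x * x ^ m).left = n * φ c (x ^ m).left := by simp [mul_left, hx]
      have e2 : (x ^ m * x).left = (x ^ m).left * n := by
        rw [mul_left, h1, map_one]
        simp [hx]
      have e3 : x * x ^ m = x ^ m * x := (Commute.self_pow x m).eq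
      rw [e3, e2, mul_comm] at e1
      exact (mul_left_cancel e1).symm
    have h3 := hfpf c hc _ h2
    ext
    · simpa using h3
    · simpa using h1
  · have : (rightHom : N ⋊[φ] C →* C) x = c := rfl
    rw [hm, ← this]
    exact orderOf_map_dvd _ _

theorem range_orderOf_sdp (hfpf : ∀ c : C, c ≠ 1 → ∀ n : N, φ c n = n → n = 1) :
    Set.range (orderOf : N ⋊[φ] C → ℕ)
      = Set.range (orderOf : N → ℕ) ∪ Set.range (orderOf : C → ℕ) := by
  classical
  apply Set.Subset.antisymm
  · rintro _ ⟨⟨n, c⟩, rfl⟩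
    by_cases hc : c = 1
    · subst hc
      left
      refine ⟨n, ?_⟩
      have : (⟨n, 1⟩ : N ⋊[φ] C) = inl n := rfl
      rw [this]
      exact (orderOf_injective _ inl_injective n).symm
    · right
      exact ⟨c, (orderOf_sdp_of_fpf φ hfpf n c hc).symm⟩
  · rintro k (⟨n, rfl⟩ | ⟨c, rfl⟩)
    · exact ⟨inl n, orderOf_injective _ inl_injective n⟩
    · exact ⟨inr c, orderOf_injective _ inr_injective c⟩

theorem isSolvable_sdp' [Group.IsSolvable C] : Group.IsSolvable (N ⋊[φ] C) :=
  haveI : Group.IsSolvable N := Group.isSolvable_of_comm (fun a b => mul_comm a b)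
  Group.isSolvable_of_ker_le_range (SemidirectProduct.inl : N →* N ⋊[φ] C)
    (SemidirectProduct.rightHom : N ⋊[φ] C →* C)
    (le_of_eq SemidirectProduct.range_inl_eq_ker_rightHom.symm)

end

end Cfsg.Agent.Lib.H2.Spec
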