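import Mathlib

/-!
# The binary octahedral group inside the quaternions over `F₁₃(√2)`
-/

set_option autoImplicit false

namespace Cfsg.Agent.Lib.H2.Spec

/-- The field `F₁₃(√2)` (only its commutative ring structure is used). -/
abbrev K13 : Type := QuadraticAlgebra (ZMod 13) 2 0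

/-- Hamilton quaternions over `F₁₃(√2)`. -/
abbrev Q13 : Type := QuaternionAlgebra K13 (-1) 0 (-1)

instance instDecEqQ13 : DecidableEq Q13 := fun x y =>
  decidable_of_iff (x.re = y.re ∧ x.imI = y.imI ∧ x.imJ = y.imJ ∧ x.imK = y.imK)
    ⟨fun h => QuaternionAlgebra.ext h.1 h.2.1 h.2.2.1 h.2.2.2,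
     fun h => by subst h; exact ⟨rfl, rfl, rfl, rfl⟩⟩

/-- The 48 elements of the binary octahedral group. -/
def L2O : List Q13 :=
  [⟨⟨1,0⟩,⟨0,0⟩,⟨0,0⟩,⟨0,0⟩⟩,
  ⟨⟨12,0⟩,⟨0,0⟩,⟨0,0⟩,⟨0,0⟩⟩,
  ⟨⟨0,0⟩,⟨1,0⟩,⟨0,0⟩,⟨0,0⟩⟩,
  ⟨⟨0,0⟩,⟨12,0⟩,⟨0,0⟩,⟨0,0⟩⟩,
  ⟨⟨0,0⟩,⟨0,0⟩,⟨1,0⟩,⟨0,0⟩⟩,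
  ⟨⟨0,0⟩,⟨0,0⟩,⟨12,0⟩,⟨0,0⟩⟩,
  ⟨⟨0,0⟩,⟨0,0⟩,⟨0,0⟩,⟨1,0⟩⟩,
  ⟨⟨0,0⟩,⟨0,0⟩,⟨0,0⟩,⟨12,0⟩⟩,
  ⟨⟨7,0⟩,⟨7,0⟩,⟨7,0⟩,⟨7,0⟩⟩,
  ⟨⟨7,0⟩,⟨7,0⟩,⟨7,0⟩,⟨6,0⟩⟩,
  ⟨⟨7,0⟩,⟨7,0⟩,⟨6,0⟩,⟨7,0⟩⟩,
  ⟨⟨7,0⟩,⟨7,0⟩,⟨6,0⟩,⟨6,0⟩⟩,
  ⟨⟨7,0⟩,⟨6,0⟩,⟨7,0⟩,⟨7,0⟩⟩,
  ⟨⟨7,0⟩,⟨6,0⟩,⟨7,0⟩,⟨6,0⟩⟩,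
  ⟨⟨7,0⟩,⟨6,0⟩,⟨6,0⟩,⟨7,0⟩⟩,
  ⟨⟨7,0⟩,⟨6,0⟩,⟨6,0⟩,⟨6,0⟩⟩,
  ⟨⟨6,0⟩,⟨7,0⟩,⟨7,0⟩,⟨7,0⟩⟩,
  ⟨⟨6,0⟩,⟨7,0⟩,⟨7,0⟩,⟨6,0⟩⟩,
  ⟨⟨6,0⟩,⟨7,0⟩,⟨6,0⟩,⟨7,0⟩⟩,
  ⟨⟨6,0⟩,⟨7,0⟩,⟨6,0⟩,⟨6,0⟩⟩,
  ⟨⟨6,0⟩,⟨6,0⟩,⟨7,0⟩,⟨7,0⟩⟩,
  ⟨⟨6,0⟩,⟨6,0⟩,⟨7,0⟩,⟨6,0⟩⟩,
  ⟨⟨6,0⟩,⟨6,0⟩,⟨6,0⟩,⟨7,0⟩⟩,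
  ⟨⟨6,0⟩,⟨6,0⟩,⟨6,0⟩,⟨6,0⟩⟩,
  ⟨⟨0,7⟩,⟨0,7⟩,⟨0,0⟩,⟨0,0⟩⟩,
  ⟨⟨0,7⟩,⟨0,6⟩,⟨0,0⟩,⟨0,0⟩⟩,
  ⟨⟨0,6⟩,⟨0,7⟩,⟨0,0⟩,⟨0,0⟩⟩,
  ⟨⟨0,6⟩,⟨0,6⟩,⟨0,0⟩,⟨0,0⟩⟩,
  ⟨⟨0,7⟩,⟨0,0⟩,⟨0,7⟩,⟨0,0⟩⟩,
  ⟨⟨0,7⟩,⟨0,0⟩,⟨0,6⟩,⟨0,0⟩⟩,
  ⟨⟨0,6⟩,⟨0,0⟩,⟨0,7⟩,⟨0,0⟩⟩,
  ⟨⟨0,6⟩,⟨0,0⟩,⟨0,6⟩,⟨0,0⟩⟩,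
  ⟨⟨0,7⟩,⟨0,0⟩,⟨0,0⟩,⟨0,7⟩⟩,
  ⟨⟨0,7⟩,⟨0,0⟩,⟨0,0⟩,⟨0,6⟩⟩,
  ⟨⟨0,6⟩,⟨0,0⟩,⟨0,0⟩,⟨0,7⟩⟩,
  ⟨⟨0,6⟩,⟨0,0⟩,⟨0,0⟩,⟨0,6⟩⟩,
  ⟨⟨0,0⟩,⟨0,7⟩,⟨0,7⟩,⟨0,0⟩⟩,
  ⟨⟨0,0⟩,⟨0,7⟩,⟨0,6⟩,⟨0,0⟩⟩,
  ⟨⟨0,0⟩,⟨0,6⟩,⟨0,7⟩,⟨0,0⟩⟩,
  ⟨⟨0,0⟩,⟨0,6⟩,⟨0,6⟩,⟨0,0⟩⟩,
  ⟨⟨0,0⟩,⟨0,7⟩,⟨0,0⟩,⟨0,7⟩⟩,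
  ⟨⟨0,0⟩,⟨0,7⟩,⟨0,0⟩,⟨0,6⟩⟩,
  ⟨⟨0,0⟩,⟨0,6⟩,⟨0,0⟩,⟨0,7⟩⟩,
  ⟨⟨0,0⟩,⟨0,6⟩,⟨0,0⟩,⟨0,6⟩⟩,
  ⟨⟨0,0⟩,⟨0,0⟩,⟨0,7⟩,⟨0,7⟩⟩,
  ⟨⟨0,0⟩,⟨0,0⟩,⟨0,7⟩,⟨0,6⟩⟩,
  ⟨⟨0,0⟩,⟨0,0⟩,⟨0,6⟩,⟨0,7⟩⟩,
  ⟨⟨0,0⟩,⟨0,0⟩,⟨0,6⟩,⟨0,6⟩⟩]

theorem L2O_one : (1 : Q13) ∈ L2O := by decide +kernel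

theorem L2O_mul : ∀ x ∈ L2O, ∀ y ∈ L2O, x * y ∈ L2O := by decide +kernel

theorem L2O_star : ∀ x ∈ L2O, star x ∈ L2O ∧ x * star x = 1 ∧ star x * x = 1 := by
  decide +kernel

theorem L2O_pow : ∀ x ∈ L2O, x ^ 6 = 1 ∨ x ^ 8 = 1 := by decide +kernel

theorem L2O_fpf : ∀ x ∈ L2O, x ≠ 1 →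
    x = -1 ∨ x ^ 2 = -1 ∨ x ^ 3 = -1 ∨ x ^ 4 = -1 ∨ x ^ 2 + x + 1 = 0 := by decide +kernel

theorem L2O_nodup : L2O.Nodup := by decide +kernel

theorem L2O_length : L2O.length = 48 := by decide +kernel

end Cfsg.Agent.Lib.H2.Spec
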