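import Mathlib
import Cfsg.Agent.Lib.H2.Spec2
import Cfsg.Agent.Lib.H2.Spec3
import Cfsg.Agent.Lib.H23.BurnsidePQ

/-!
# A solvable Frobenius group `13^8 : 2.O` with spectrum `{1,2,3,4,6,8,13}`
-/

set_option autoImplicit false

namespace Cfsg.Agent.Lib.H2.Spec

/-- The binary octahedral group as a subgroup of the units of `Q13`. -/
def C2O : Subgroup Q13ˣ where
  carrier := {u | (u : Q13) ∈ L2O}
  mul_mem' := fun {a b} ha hb => by
    show ((a * b : Q13ˣ) : Q13) ∈ L2O
    rw [Units.val_mul]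
    exact L2O_mul _ ha _ hb
  one_mem' := L2O_one
  inv_mem' := fun {u} hu => by
    have h := L2O_star _ hu
    have e : ((u⁻¹ : Q13ˣ) : Q13) = star (u : Q13) := by
      calc ((u⁻¹ : Q13ˣ) : Q13) = ((u⁻¹ : Q13ˣ) : Q13) * ((u : Q13) * star (u : Q13)) := by
            rw [h.2.1, mul_one]
        _ = star (u : Q13) := by rw [← mul_assoc, Units.inv_mul, one_mul]
    show ((u⁻¹ : Q13ˣ) : Q13) ∈ L2O
    rw [e]
    exact h.1

theorem mem_C2O {u : Q13ˣ} : u ∈ C2O ↔ (u : Q13) ∈ L2O := Iff.rfl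

/-- Units from list elements. -/
def unitOf (x : Q13) (hx : x ∈ L2O) : Q13ˣ :=
  ⟨x, star x, (L2O_star x hx).2.1, (L2O_star x hx).2.2⟩

theorem unitOf_mem (x : Q13) (hx : x ∈ L2O) : unitOf x hx ∈ C2O := hx

theorem card_C2O : Nat.card C2O = 48 := by
  classical
  have e : C2O ≃ {x : Q13 // x ∈ L2O.toFinset} :=
    { toFun := fun u => ⟨(u.1 : Q13), List.mem_toFinset.2 u.2⟩
      invFun := fun x => ⟨unitOf x.1 (List.mem_toFinset.1 x.2), List.mem_toFinset.1 x.2⟩
      left_inv := fun u => by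
        apply Subtype.ext
        apply Units.ext
        rfl
      right_inv := fun x => rfl }
  rw [Nat.card_congr e, Nat.card_eq_fintype_card, Fintype.card_coe,
    List.toFinset_card_of_nodup L2O_nodup, L2O_length]

instance : Finite C2O := Nat.finite_of_card_ne_zero (by rw [card_C2O]; norm_num)

instance : Group.IsSolvable C2O :=
  Cfsg.Agent.Lib.H23.isSolvable_of_card_eq_prime_pow_mul_prime_pow 2 3 4 1
    Nat.prime_two Nat.prime_three (by rw [card_C2O]; norm_num)

theorem C2O_pow (u : C2O) : u ^ 6 = 1 ∨ u ^ 8 = 1 := by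
  rcases L2O_pow _ u.2 with h | h
  · left
    apply Subtype.ext
    apply Units.ext
    simpa using h
  · right
    apply Subtype.ext
    apply Units.ext
    simpa using h

theorem C2O_orderOf_mem (g : C2O) : orderOf g ∈ ({1, 2, 3, 4, 6, 8} : Set ℕ) := by
  rcases C2O_pow g with h | h
  · have h1 : orderOf g ∈ Nat.divisors 6 :=
      Nat.mem_divisors.2 ⟨orderOf_dvd_of_pow_eq_one h, by norm_num⟩
    have h2 : Nat.divisors 6 = {1, 2, 3, 6} := by decide
    rw [h2] at h1
    simp only [Finset.mem_insert, Finset.mem_singleton] at h1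
    rcases h1 with h1 | h1 | h1 | h1 <;> simp [h1]
  · have h1 : orderOf g ∈ Nat.divisors 8 :=
      Nat.mem_divisors.2 ⟨orderOf_dvd_of_pow_eq_one h, by norm_num⟩
    have h2 : Nat.divisors 8 = {1, 2, 4, 8} := by decide
    rw [h2] at h1
    simp only [Finset.mem_insert, Finset.mem_singleton] at h1
    rcases h1 with h1 | h1 | h1 | h1 <;> simp [h1]

/-- `(1+i)/√2`, of order 8. -/
def q8 : Q13 := ⟨⟨0,7⟩,⟨0,7⟩,⟨0,0⟩,⟨0,0⟩⟩
/-- `(1+i+j+k)/2`, of order 6. -/
def q6 : Q13 := ⟨⟨7,0⟩,⟨7,0⟩,⟨7,0⟩,⟨7,0⟩⟩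

theorem q8_mem : q8 ∈ L2O := by decide +kernel
theorem q6_mem : q6 ∈ L2O := by decide +kernel

def g8 : C2O := ⟨unitOf q8 q8_mem, q8_mem⟩
def g6 : C2O := ⟨unitOf q6 q6_mem, q6_mem⟩

theorem pow_eq_one_iff_C2O (u : C2O) (k : ℕ) : u ^ k = 1 ↔ ((u : Q13ˣ) : Q13) ^ k = 1 := by
  constructor
  · intro h
    have := congrArg (fun v : C2O => ((v : Q13ˣ) : Q13)) h
    simpa using this
  · intro h
    apply Subtype.ext
    apply Units.ext
    simpa using h

theorem orderOf_g8 : orderOf g8 = 8 := by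
  apply orderOf_eq_prime_pow (p := 2) (n := 2)
  · rw [pow_eq_one_iff_C2O]
    show ¬ q8 ^ 2 ^ 2 = 1
    decide +kernel
  · rw [pow_eq_one_iff_C2O]
    show q8 ^ 2 ^ (2 + 1) = 1
    decide +kernel

theorem orderOf_g6 : orderOf g6 = 6 := by
  apply orderOf_eq_of_pow_and_pow_div_prime (by norm_num)
  · rw [pow_eq_one_iff_C2O]
    show q6 ^ 6 = 1
    decide +kernel
  · intro p hp hd
    have hle : p ≤ 6 := Nat.le_of_dvd (by norm_num) hd
    rw [Ne, pow_eq_one_iff_C2O]
    show ¬ q6 ^ (6 / p) = 1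
    interval_cases p <;> first | (exfalso; revert hp; norm_num; done) | (exfalso; revert hd; norm_num; done) | decide +kernel

theorem C2O_spectrum : Set.range (orderOf : C2O → ℕ) = {1, 2, 3, 4, 6, 8} := by
  apply Set.Subset.antisymm
  · rintro _ ⟨g, rfl⟩
    exact C2O_orderOf_mem g
  · intro k hk
    simp only [Set.mem_insert_iff, Set.mem_singleton_iff] at hk
    rcases hk with rfl | rfl | rfl | rfl | rfl | rfl
    · exact ⟨1, orderOf_one⟩
    · exact ⟨g8 ^ 4, by rw [orderOf_pow' g8 (by norm_num), orderOf_g8]; norm_num⟩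
    · exact ⟨g6 ^ 2, by rw [orderOf_pow' g6 (by norm_num), orderOf_g6]; norm_num⟩
    · exact ⟨g8 ^ 2, by rw [orderOf_pow' g8 (by norm_num), orderOf_g8]; norm_num⟩
    · exact ⟨g6, orderOf_g6⟩
    · exact ⟨g8, orderOf_g8⟩

/-- The action of `C2O` on the additive group of `Q13` by left multiplication. -/
def act : C2O →* MulAut (Multiplicative Q13) :=
  (MulAutMultiplicative Q13).symm.toMonoidHom.comp (AddAut.mulLeft.comp C2O.subtype)

theorem act_apply (u : C2O) (n : Multiplicative Q13) :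
    act u n = Multiplicative.ofAdd (((u : Q13ˣ) : Q13) * Multiplicative.toAdd n) := rfl

theorem q13_thirteen (n : Q13) : (13 : ℕ) • n = 0 := by
  have h : ((13 : ℕ) : Q13) = 0 := by decide +kernel
  rw [nsmul_eq_mul, h, zero_mul]

theorem act_fpf : ∀ c : C2O, c ≠ 1 → ∀ n : Multiplicative Q13, act c n = n → n = 1 := by
  intro c hc n hn
  set x : Q13 := ((c : Q13ˣ) : Q13) with hx
  set m : Q13 := Multiplicative.toAdd n with hm
  have hxm : x * m = m := by
    have := congrArg Multiplicative.toAdd hn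
    rwa [act_apply] at this
  have hx1 : x ≠ 1 := by
    intro h
    apply hc
    apply Subtype.ext
    apply Units.ext
    exact h
  have hpow : ∀ k : ℕ, x ^ k * m = m := by
    intro k
    induction k with
    | zero => simp
    | succ k ih => rw [pow_succ, mul_assoc, hxm, ih]
  have h2 : (7 : Q13) * 2 = 1 := by decide +kernel
  have h3 : (9 : Q13) * 3 = 1 := by decide +kernel
  have hneg : ∀ k : ℕ, x ^ k = -1 → m = 0 := by
    intro k hk
    have := hpow k
    rw [hk, neg_mul, one_mul] at this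
    have h2m : (2 : Q13) * m = 0 := by
      rw [two_mul]
      nth_rewrite 1 [← this]
      exact neg_add_cancel m
    calc m = (7 * 2 : Q13) * m := by rw [h2, one_mul]
      _ = 7 * (2 * m) := by rw [mul_assoc]
      _ = 0 := by rw [h2m, mul_zero]
  have hm0 : m = 0 := by
    rcases L2O_fpf x c.2 hx1 with h | h | h | h | h
    · exact hneg 1 (by rw [pow_one]; exact h)
    · exact hneg 2 h
    · exact hneg 3 h
    · exact hneg 4 h
    · have e1 : (x ^ 2 + x + 1) * m = 3 * m := by
        have e3 : (3 : Q13) = 1 + 1 + 1 := by norm_num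
        rw [add_mul, add_mul, hpow 2, hxm, one_mul, e3, add_mul, add_mul, one_mul]
      rw [h, zero_mul] at e1
      calc m = (9 * 3 : Q13) * m := by rw [h3, one_mul]
        _ = 9 * (3 * m) := by rw [mul_assoc]
        _ = 0 := by rw [← e1, mul_zero]
  show n = Multiplicative.ofAdd 0
  rw [← hm0]
  rfl

theorem q13_one_ne_zero : (1 : Q13) ≠ 0 := by decide +kernel

theorem Q13_spectrum : Set.range (orderOf : Multiplicative Q13 → ℕ) = {1, 13} := by
  apply Set.Subset.antisymm
  · rintro _ ⟨n, rfl⟩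
    have h : n ^ 13 = 1 := by
      have := q13_thirteen (Multiplicative.toAdd n)
      exact congrArg Multiplicative.ofAdd this
    have h1 : orderOf n ∣ 13 := orderOf_dvd_of_pow_eq_one h
    rcases (Nat.dvd_prime (by norm_num : Nat.Prime 13)).1 h1 with h2 | h2 <;> simp [h2]
  · intro k hk
    simp only [Set.mem_insert_iff, Set.mem_singleton_iff] at hk
    rcases hk with rfl | rfl
    · exact ⟨1, orderOf_one⟩
    · refine ⟨Multiplicative.ofAdd (1 : Q13), ?_⟩
      have : Fact (Nat.Prime 13) := ⟨by norm_num⟩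
      have hne : (1 : Q13) ≠ 0 := q13_one_ne_zero
      apply orderOf_eq_prime
      · exact congrArg Multiplicative.ofAdd (q13_thirteen 1)
      · intro h
        exact hne (congrArg Multiplicative.toAdd h)

/-- The solvable group. -/
abbrev HSol : Type := Multiplicative Q13 ⋊[act] C2O

theorem HSol_spectrum : Set.range (orderOf : HSol → ℕ) = {1, 2, 3, 4, 6, 8, 13} := by
  rw [range_orderOf_sdp act act_fpf, Q13_spectrum, C2O_spectrum]
  ext k
  simp only [Set.mem_union, Set.mem_insert_iff, Set.mem_singleton_iff]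
  omega

instance : Group.IsSolvable HSol := isSolvable_sdp' act

instance : Finite Q13 :=
  Finite.of_injective (fun q : Q13 => (q.re.re, q.re.im, q.imI.re, q.imI.im,
      q.imJ.re, q.imJ.im, q.imK.re, q.imK.im)) (by
    intro a b h
    simp only [Prod.mk.injEq] at h
    obtain ⟨h1, h2, h3, h4, h5, h6, h7, h8⟩ := h
    exact QuaternionAlgebra.ext (QuadraticAlgebra.ext h1 h2) (QuadraticAlgebra.ext h3 h4)
      (QuadraticAlgebra.ext h5 h6) (QuadraticAlgebra.ext h7 h8))

instance : Finite HSol := Finite.of_equiv _ (SemidirectProduct.equivProd).symm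

end Cfsg.Agent.Lib.H2.Spec
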