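import Mathlib
import Cfsg.Prelude.Def_Classical
import Cfsg.Agent.Lib.H2.Spec1
import Cfsg.Agent.Lib.H2.Spec5

/-!
# Spectrum of `PSU(3,3)`: `{1,2,3,4,6,7,8,12}`
-/

set_option autoImplicit false

namespace Cfsg.Agent.Lib.H2.Spec

open Matrix hiding SpecialLinearGroup
open Matrix (SpecialLinearGroup)

/-- Second coefficient of the characteristic polynomial of a unitary matrix of determinant 1. -/
theorem unitary_second_coeff {R : Type*} [CommRing R] (σ : R →+* R)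
    (M : Matrix (Fin 3) (Fin 3) R) (hdet : M.det = 1) (hU : Mᵀ * M.map σ = 1) :
    M 0 0 * M 1 1 - M 0 1 * M 1 0 + M 0 0 * M 2 2 - M 0 2 * M 2 0
          + M 1 1 * M 2 2 - M 1 2 * M 2 1 = σ (M 0 0 + M 1 1 + M 2 2) := by
  have h1 : (M.map σ)ᵀ * M = 1 := by
    have := congrArg Matrix.transpose hU
    rwa [Matrix.transpose_mul, Matrix.transpose_transpose, Matrix.transpose_one] at this
  have h2 : M * M.adjugate = 1 := by rw [Matrix.mul_adjugate, hdet, one_smul]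
  have h3 : (M.map σ)ᵀ = M.adjugate := by
    calc (M.map σ)ᵀ = (M.map σ)ᵀ * (M * M.adjugate) := by rw [h2, mul_one]
      _ = M.adjugate := by rw [← mul_assoc, h1, one_mul]
  have h4 : Matrix.trace M.adjugate = M 0 0 * M 1 1 - M 0 1 * M 1 0 + M 0 0 * M 2 2
      - M 0 2 * M 2 0 + M 1 1 * M 2 2 - M 1 2 * M 2 1 := by
    rw [Matrix.adjugate_fin_three]
    simp [Matrix.trace, Fin.sum_univ_three]
    ring
  rw [← h4, ← h3]
  simp [Matrix.trace, Fin.sum_univ_three]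

/-- The field with 9 elements, `F₃(i)`. -/
abbrev K9 : Type := QuadraticAlgebra (ZMod 3) 2 0

instance instFactK9 : Fact (∀ r : ZMod 3, r ^ 2 ≠ (2 : ZMod 3) + (0 : ZMod 3) * r) := ⟨by decide⟩

noncomputable instance instFintypeK9 : Fintype K9 :=
  Fintype.ofEquiv _ (QuadraticAlgebra.equivProd (2 : ZMod 3) 0).symm

theorem card_K9 : Fintype.card K9 = 9 := by
  rw [Fintype.card_congr (QuadraticAlgebra.equivProd (2 : ZMod 3) 0), Fintype.card_prod, ZMod.card]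

theorem K9_star_eq_pow : ∀ x : K9, (starRingEnd K9) x = x ^ 3 := by
  have h : ∀ a b : ZMod 3, star (⟨a, b⟩ : K9) = (⟨a, b⟩ : K9) ^ 3 := by decide
  intro x
  exact h x.re x.im

theorem cf_K9 : ∀ a b : ZMod 3,
    cf (⟨a, b⟩ : K9) (star (⟨a, b⟩ : K9)) 7 = (1, 0, 0) ∨
    cf (⟨a, b⟩ : K9) (star (⟨a, b⟩ : K9)) 8 = (1, 0, 0) ∨
    cf (⟨a, b⟩ : K9) (star (⟨a, b⟩ : K9)) 12 = (1, 0, 0) := by
  decide +kernel

theorem su3_pow_cases (g : Cfsg.SU 3 K9 3) : g ^ 7 = 1 ∨ g ^ 8 = 1 ∨ g ^ 12 = 1 := by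
  have hU := (mem_SU_iff_mul (starRingEnd K9) K9_star_eq_pow g.1).1 g.2
  have hs := unitary_second_coeff (starRingEnd K9) (g.1 : Matrix (Fin 3) (Fin 3) K9) g.1.2 hU
  have key : ∀ n, cf ((g.1 : Matrix (Fin 3) (Fin 3) K9) 0 0 + g.1 1 1 + g.1 2 2)
        (star ((g.1 : Matrix (Fin 3) (Fin 3) K9) 0 0 + g.1 1 1 + g.1 2 2)) n = (1, 0, 0) →
        g ^ n = 1 := by
    intro n hn
    apply Subtype.ext
    apply Subtype.ext
    have := pow_eq_cf (g.1 : Matrix (Fin 3) (Fin 3) K9) g.1.2 n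
    rw [hs] at this
    change cf _ ((starRingEnd K9) _) n = _ at hn
    rw [hn] at this
    rw [Subgroup.coe_pow, Matrix.SpecialLinearGroup.coe_pow, this]
    simp
  set t := (g.1 : Matrix (Fin 3) (Fin 3) K9) 0 0 + g.1 1 1 + g.1 2 2 with ht
  have ht' : t = ⟨t.re, t.im⟩ := rfl
  rw [ht'] at key
  rcases cf_K9 t.re t.im with h | h | h
  · exact Or.inl (key _ h)
  · exact Or.inr (Or.inl (key _ h))
  · exact Or.inr (Or.inr (key _ h))

theorem su3_orderOf_mem (g : Cfsg.SU 3 K9 3) :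
    orderOf g ∈ ({1, 2, 3, 4, 6, 7, 8, 12} : Set ℕ) := by
  rcases su3_pow_cases g with h | h | h
  · have h1 : orderOf g ∈ Nat.divisors 7 :=
      Nat.mem_divisors.2 ⟨orderOf_dvd_of_pow_eq_one h, by norm_num⟩
    have h2 : Nat.divisors 7 = {1, 7} := by decide
    rw [h2] at h1
    simp only [Finset.mem_insert, Finset.mem_singleton] at h1
    rcases h1 with h1 | h1 <;> simp [h1]
  · have h1 : orderOf g ∈ Nat.divisors 8 :=
      Nat.mem_divisors.2 ⟨orderOf_dvd_of_pow_eq_one h, by norm_num⟩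
    have h2 : Nat.divisors 8 = {1, 2, 4, 8} := by decide
    rw [h2] at h1
    simp only [Finset.mem_insert, Finset.mem_singleton] at h1
    rcases h1 with h1 | h1 | h1 | h1 <;> simp [h1]
  · have h1 : orderOf g ∈ Nat.divisors 12 :=
      Nat.mem_divisors.2 ⟨orderOf_dvd_of_pow_eq_one h, by norm_num⟩
    have h2 : Nat.divisors 12 = {1, 2, 3, 4, 6, 12} := by decide
    rw [h2] at h1
    simp only [Finset.mem_insert, Finset.mem_singleton] at h1
    rcases h1 with h1 | h1 | h1 | h1 | h1 | h1 <;> simp [h1]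

/-- the square root of `-1` in `K9` -/
def ι9 : K9 := ⟨0, 1⟩

/-- explicit elements of `SL₃(K9)` -/
def u7 : SpecialLinearGroup (Fin 3) K9 :=
  ⟨!![⟨0,0⟩, ⟨1,1⟩, ⟨1,1⟩; ⟨0,0⟩, ⟨1,1⟩, ⟨2,2⟩; ⟨0,1⟩, ⟨0,0⟩, ⟨0,0⟩], by decide +kernel⟩
def u8 : SpecialLinearGroup (Fin 3) K9 :=
  ⟨!![⟨0,0⟩, ⟨0,0⟩, ⟨1,0⟩; ⟨0,0⟩, ⟨0,1⟩, ⟨0,0⟩; ⟨0,1⟩, ⟨0,0⟩, ⟨0,0⟩], by decide +kernel⟩
def u12 : SpecialLinearGroup (Fin 3) K9 :=
  ⟨!![⟨0,0⟩, ⟨1,1⟩, ⟨1,2⟩; ⟨0,0⟩, ⟨2,1⟩, ⟨2,2⟩; ⟨0,1⟩, ⟨0,0⟩, ⟨0,0⟩], by decide +kernel⟩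
/-- `diag(i, -i, 1)` -/
def uD : SpecialLinearGroup (Fin 3) K9 :=
  ⟨!![ι9, 0, 0; 0, -ι9, 0; 0, 0, 1], by decide +kernel⟩
/-- the permutation matrix of a 3-cycle -/
def uP : SpecialLinearGroup (Fin 3) K9 :=
  ⟨!![0, 1, 0; 0, 0, 1; 1, 0, 0], by decide +kernel⟩

theorem mem_SU_of_dec (g : SpecialLinearGroup (Fin 3) K9)
    (h : (g : Matrix (Fin 3) (Fin 3) K9)ᵀ * (g : Matrix (Fin 3) (Fin 3) K9).map star = 1) :
    g ∈ Cfsg.SU 3 K9 3 :=
  (mem_SU_iff_mul (starRingEnd K9) K9_star_eq_pow g).2 h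

theorem u7_mem : u7 ∈ Cfsg.SU 3 K9 3 := mem_SU_of_dec _ (by decide +kernel)
theorem u8_mem : u8 ∈ Cfsg.SU 3 K9 3 := mem_SU_of_dec _ (by decide +kernel)
theorem u12_mem : u12 ∈ Cfsg.SU 3 K9 3 := mem_SU_of_dec _ (by decide +kernel)
theorem uD_mem : uD ∈ Cfsg.SU 3 K9 3 := mem_SU_of_dec _ (by decide +kernel)
theorem uP_mem : uP ∈ Cfsg.SU 3 K9 3 := mem_SU_of_dec _ (by decide +kernel)

theorem orderOf_u7 : orderOf u7 = 7 :=
  haveI : Fact (Nat.Prime 7) := ⟨by norm_num⟩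
  orderOf_eq_prime (by decide +kernel) (by decide +kernel)
theorem orderOf_u8 : orderOf u8 = 8 :=
  orderOf_eq_prime_pow (p := 2) (n := 2) (by decide +kernel) (by decide +kernel)
theorem orderOf_u12 : orderOf u12 = 12 := by
  apply orderOf_eq_of_pow_and_pow_div_prime (by norm_num) (by decide +kernel)
  intro p hp hd
  have hle : p ≤ 12 := Nat.le_of_dvd (by norm_num) hd
  interval_cases p <;> first | (exfalso; revert hp; norm_num; done) | (exfalso; revert hd; norm_num; done) | decide +kernel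

theorem su3_spectrum :
    Set.range (orderOf : Cfsg.SU 3 K9 3 → ℕ) = {1, 2, 3, 4, 6, 7, 8, 12} := by
  have o7 : orderOf (⟨u7, u7_mem⟩ : Cfsg.SU 3 K9 3) = 7 := by
    rw [← Subgroup.orderOf_coe]; exact orderOf_u7
  have o8 : orderOf (⟨u8, u8_mem⟩ : Cfsg.SU 3 K9 3) = 8 := by
    rw [← Subgroup.orderOf_coe]; exact orderOf_u8
  have o12 : orderOf (⟨u12, u12_mem⟩ : Cfsg.SU 3 K9 3) = 12 := by
    rw [← Subgroup.orderOf_coe]; exact orderOf_u12
  apply Set.Subset.antisymm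
  · rintro _ ⟨g, rfl⟩
    exact su3_orderOf_mem g
  · intro k hk
    simp only [Set.mem_insert_iff, Set.mem_singleton_iff] at hk
    rcases hk with rfl | rfl | rfl | rfl | rfl | rfl | rfl | rfl
    · exact ⟨1, orderOf_one⟩
    · exact ⟨⟨u12, u12_mem⟩ ^ 6, by rw [orderOf_pow' _ (by norm_num), o12]; norm_num⟩
    · exact ⟨⟨u12, u12_mem⟩ ^ 4, by rw [orderOf_pow' _ (by norm_num), o12]; norm_num⟩
    · exact ⟨⟨u12, u12_mem⟩ ^ 3, by rw [orderOf_pow' _ (by norm_num), o12]; norm_num⟩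
    · exact ⟨⟨u12, u12_mem⟩ ^ 2, by rw [orderOf_pow' _ (by norm_num), o12]; norm_num⟩
    · exact ⟨_, o7⟩
    · exact ⟨_, o8⟩
    · exact ⟨_, o12⟩

theorem su3_center_eq_bot : Subgroup.center (Cfsg.SU 3 K9 3) = ⊥ := by
  rw [eq_bot_iff]
  intro z hz
  rw [Subgroup.mem_bot]
  rw [Subgroup.mem_center_iff] at hz
  have hD := hz ⟨uD, uD_mem⟩
  have hP := hz ⟨uP, uP_mem⟩
  have hD' : (uD : Matrix (Fin 3) (Fin 3) K9) * (z.1 : Matrix (Fin 3) (Fin 3) K9)
      = (z.1 : Matrix (Fin 3) (Fin 3) K9) * (uD : Matrix (Fin 3) (Fin 3) K9) := by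
    have := congrArg (fun w : Cfsg.SU 3 K9 3 => ((w.1 : SpecialLinearGroup (Fin 3) K9) :
      Matrix (Fin 3) (Fin 3) K9)) hD
    simpa using this
  have hP' : (uP : Matrix (Fin 3) (Fin 3) K9) * (z.1 : Matrix (Fin 3) (Fin 3) K9)
      = (z.1 : Matrix (Fin 3) (Fin 3) K9) * (uP : Matrix (Fin 3) (Fin 3) K9) := by
    have := congrArg (fun w : Cfsg.SU 3 K9 3 => ((w.1 : SpecialLinearGroup (Fin 3) K9) :
      Matrix (Fin 3) (Fin 3) K9)) hP
    simpa using this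
  set Z : Matrix (Fin 3) (Fin 3) K9 := (z.1 : Matrix (Fin 3) (Fin 3) K9) with hZ
  have hcancel : ∀ a b x : K9, a ≠ b → a * x = x * b → x = 0 := by
    intro a b x hab h
    have : (a - b) * x = 0 := by rw [sub_mul, h, mul_comm]; exact sub_self _
    rcases mul_eq_zero.1 this with h1 | h1
    · exact absurd (sub_eq_zero.1 h1) hab
    · exact h1
  have e01 : Z 0 1 = 0 := by
    have := congrFun (congrFun hD' 0) 1
    simp [Matrix.mul_apply, Fin.sum_univ_three, uD] at this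
    exact hcancel ι9 (-ι9) _ (by decide +kernel) (by rw [this]; ring)
  have e02 : Z 0 2 = 0 := by
    have := congrFun (congrFun hD' 0) 2
    simp [Matrix.mul_apply, Fin.sum_univ_three, uD] at this
    exact hcancel ι9 1 _ (by decide +kernel) (by rw [this]; ring)
  have e10 : Z 1 0 = 0 := by
    have := congrFun (congrFun hD' 1) 0
    simp [Matrix.mul_apply, Fin.sum_univ_three, uD] at this
    exact hcancel (-ι9) ι9 _ (by decide +kernel) (by rw [← this]; ring)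
  have e12 : Z 1 2 = 0 := by
    have := congrFun (congrFun hD' 1) 2
    simp [Matrix.mul_apply, Fin.sum_univ_three, uD] at this
    exact hcancel (-ι9) 1 _ (by decide +kernel) (by rw [mul_one, neg_mul]; exact this)
  have e20 : Z 2 0 = 0 := by
    have := congrFun (congrFun hD' 2) 0
    simp [Matrix.mul_apply, Fin.sum_univ_three, uD] at this
    exact hcancel 1 ι9 _ (by decide +kernel) (by rw [one_mul]; exact this)
  have e21 : Z 2 1 = 0 := by
    have := congrFun (congrFun hD' 2) 1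
    simp [Matrix.mul_apply, Fin.sum_univ_three, uD] at this
    exact hcancel 1 (-ι9) _ (by decide +kernel) (by rw [one_mul, mul_neg]; exact this)
  have e11 : Z 1 1 = Z 0 0 := by
    have := congrFun (congrFun hP' 0) 1
    simpa [Matrix.mul_apply, Fin.sum_univ_three, uP] using this
  have e22 : Z 2 2 = Z 1 1 := by
    have := congrFun (congrFun hP' 1) 2
    simpa [Matrix.mul_apply, Fin.sum_univ_three, uP] using this
  have hdet : Z.det = 1 := z.1.2
  rw [Matrix.det_fin_three, e01, e02, e10, e12, e20, e21, e22, e11] at hdet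
  have hc : Z 0 0 ^ 3 = 1 := by rw [← hdet]; ring
  have hc1 : Z 0 0 = 1 := by
    have h : star (Z 0 0) = 1 := by
      have := K9_star_eq_pow (Z 0 0)
      rw [hc] at this
      exact this
    have := congrArg star h
    rwa [star_star, star_one] at this
  apply Subtype.ext
  apply Subtype.ext
  show Z = 1
  apply Matrix.ext
  intro i j
  fin_cases i <;> fin_cases j <;> simp [e01, e02, e10, e12, e20, e21, e22, e11, hc1]

/-- The spectrum of `PSU(3,3)`. -/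
theorem psu3_spectrum {F : Type*} [Field F] [Fintype F] (hF : Fintype.card F = 9) :
    Set.range (orderOf : Cfsg.PSU 3 F 3 → ℕ) = {1, 2, 3, 4, 6, 7, 8, 12} := by
  have e : F ≃+* K9 := FiniteField.ringEquivOfCardEq (hF.trans card_K9.symm)
  have E : Cfsg.SU 3 F 3 ≃* Cfsg.SU 3 K9 3 := suEquiv e 3 3
  have hc : Subgroup.center (Cfsg.SU 3 F 3) = ⊥ := center_eq_bot_of_mulEquiv E su3_center_eq_bot
  have h1 := range_orderOf_quot_center hc
  have h2 := range_orderOf_mulEquiv E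
  rw [← su3_spectrum, ← h2]
  exact h1

end Cfsg.Agent.Lib.H2.Spec
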