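import Mathlib
import Cfsg.Agent.Lib.H2.Spec2

/-!
# Finite groups of units given by an explicit list, acting by left multiplication
-/

set_option autoImplicit false

namespace Cfsg.Agent.Lib.H2.Spec

/-- A finite list of ring elements closed under multiplication, with inverses. -/
structure ULData (R : Type*) [Ring R] where
  L : List R
  inv : R → R
  one_mem : (1 : R) ∈ L
  mul_mem : ∀ x ∈ L, ∀ y ∈ L, x * y ∈ L
  inv_spec : ∀ x ∈ L, inv x ∈ L ∧ x * inv x = 1 ∧ inv x * x = 1

namespace ULData

variable {R : Type*} [Ring R] (D : ULData R)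

/-- The subgroup of units whose values lie in the list. -/
def grp : Subgroup Rˣ where
  carrier := {u | (u : R) ∈ D.L}
  mul_mem' := fun {a b} ha hb => by
    show ((a * b : Rˣ) : R) ∈ D.L
    rw [Units.val_mul]
    exact D.mul_mem _ ha _ hb
  one_mem' := D.one_mem
  inv_mem' := fun {u} hu => by
    have h := D.inv_spec _ hu
    have e : ((u⁻¹ : Rˣ) : R) = D.inv (u : R) := by
      calc ((u⁻¹ : Rˣ) : R) = ((u⁻¹ : Rˣ) : R) * ((u : R) * D.inv (u : R)) := by
            rw [h.2.1, mul_one]
        _ = D.inv (u : R) := by rw [← mul_assoc, Units.inv_mul, one_mul]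
    show ((u⁻¹ : Rˣ) : R) ∈ D.L
    rw [e]
    exact h.1

theorem mem_grp {u : Rˣ} : u ∈ D.grp ↔ (u : R) ∈ D.L := Iff.rfl

/-- Units from list elements. -/
def unitOf (x : R) (hx : x ∈ D.L) : Rˣ :=
  ⟨x, D.inv x, (D.inv_spec x hx).2.1, (D.inv_spec x hx).2.2⟩

/-- Group elements from list elements. -/
def elt (x : R) (hx : x ∈ D.L) : D.grp := ⟨D.unitOf x hx, hx⟩

@[simp] theorem elt_val (x : R) (hx : x ∈ D.L) : (((D.elt x hx : D.grp) : Rˣ) : R) = x := rfl

theorem card_grp [DecidableEq R] (hnd : D.L.Nodup) : Nat.card D.grp = D.L.length := by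
  have e : D.grp ≃ {x : R // x ∈ D.L.toFinset} :=
    { toFun := fun u => ⟨(u.1 : R), List.mem_toFinset.2 u.2⟩
      invFun := fun x => D.elt x.1 (List.mem_toFinset.1 x.2)
      left_inv := fun u => by
        apply Subtype.ext
        apply Units.ext
        rfl
      right_inv := fun x => rfl }
  rw [Nat.card_congr e, Nat.card_eq_fintype_card, Fintype.card_coe,
    List.toFinset_card_of_nodup hnd]

theorem pow_eq_one_iff (u : D.grp) (k : ℕ) : u ^ k = 1 ↔ ((u : Rˣ) : R) ^ k = 1 := by
  constructor
  · intro h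
    have := congrArg (fun v : D.grp => ((v : Rˣ) : R)) h
    simpa using this
  · intro h
    apply Subtype.ext
    apply Units.ext
    simpa using h

theorem eq_one_iff (u : D.grp) : u = 1 ↔ ((u : Rˣ) : R) = 1 := by
  constructor
  · intro h
    rw [h]
    rfl
  · intro h
    apply Subtype.ext
    apply Units.ext
    exact h

/-- The action on the additive group of `R` by left multiplication. -/
def act : D.grp →* MulAut (Multiplicative R) :=
  (MulAutMultiplicative R).symm.toMonoidHom.comp (AddAut.mulLeft.comp D.grp.subtype)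

theorem act_apply (u : D.grp) (n : Multiplicative R) :
    D.act u n = Multiplicative.ofAdd (((u : Rˣ) : R) * Multiplicative.toAdd n) := rfl

/-- Fixed-point-freeness criterion: every nontrivial element has a power equal to `-1` or is a
primitive cube root of unity, and `2`, `3` are invertible. -/
theorem act_fpf (h2 : ∃ a : R, a * 2 = 1) (h3 : ∃ a : R, a * 3 = 1) (ks : List ℕ)
    (hf : ∀ x ∈ D.L, x ≠ 1 → (∃ k ∈ ks, x ^ k = -1) ∨ x ^ 2 + x + 1 = 0) :
    ∀ c : D.grp, c ≠ 1 → ∀ n : Multiplicative R, D.act c n = n → n = 1 := by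
  intro c hc n hn
  obtain ⟨a2, h2⟩ := h2
  obtain ⟨a3, h3⟩ := h3
  set x : R := ((c : Rˣ) : R) with hx
  set m : R := Multiplicative.toAdd n with hm
  have hxm : x * m = m := by
    have := congrArg Multiplicative.toAdd hn
    rwa [act_apply] at this
  have hx1 : x ≠ 1 := fun h => hc ((D.eq_one_iff c).2 h)
  have hpow : ∀ k : ℕ, x ^ k * m = m := by
    intro k
    induction k with
    | zero => simp
    | succ k ih => rw [pow_succ, mul_assoc, hxm, ih]
  have hm0 : m = 0 := by
    rcases hf x c.2 hx1 with ⟨k, _, hk⟩ | h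
    · have := hpow k
      rw [hk, neg_mul, one_mul] at this
      have h2m : (2 : R) * m = 0 := by
        rw [two_mul]
        nth_rewrite 1 [← this]
        exact neg_add_cancel m
      calc m = (a2 * 2 : R) * m := by rw [h2, one_mul]
        _ = a2 * (2 * m) := by rw [mul_assoc]
        _ = 0 := by rw [h2m, mul_zero]
    · have e1 : (x ^ 2 + x + 1) * m = 3 * m := by
        have e3 : (3 : R) = 1 + 1 + 1 := by norm_num
        rw [add_mul, add_mul, hpow 2, hxm, one_mul, e3, add_mul, add_mul, one_mul]
      rw [h, zero_mul] at e1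
      calc m = (a3 * 3 : R) * m := by rw [h3, one_mul]
        _ = a3 * (3 * m) := by rw [mul_assoc]
        _ = 0 := by rw [← e1, mul_zero]
  show n = Multiplicative.ofAdd 0
  rw [← hm0]
  rfl

end ULData

/-- The spectrum of the additive group of a nontrivial ring of prime characteristic. -/
theorem mult_spectrum {R : Type*} [Ring R] (p : ℕ) (hp : p.Prime) (hpR : ((p : ℕ) : R) = 0)
    (h1 : (1 : R) ≠ 0) : Set.range (orderOf : Multiplicative R → ℕ) = {1, p} := by
  have hp' : ∀ n : R, p • n = 0 := fun n => by rw [nsmul_eq_mul, hpR, zero_mul]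
  apply Set.Subset.antisymm
  · rintro _ ⟨n, rfl⟩
    have h : n ^ p = 1 := congrArg Multiplicative.ofAdd (hp' (Multiplicative.toAdd n))
    have h1 : orderOf n ∣ p := orderOf_dvd_of_pow_eq_one h
    rcases (Nat.dvd_prime hp).1 h1 with h2 | h2 <;> simp [h2]
  · intro k hk
    simp only [Set.mem_insert_iff, Set.mem_singleton_iff] at hk
    rcases hk with rfl | rfl
    · exact ⟨1, orderOf_one⟩
    · refine ⟨Multiplicative.ofAdd (1 : R), ?_⟩
      have : Fact (Nat.Prime k) := ⟨hp⟩
      apply orderOf_eq_prime
      · exact congrArg Multiplicative.ofAdd (hp' 1)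
      · intro h
        exact h1 (congrArg Multiplicative.toAdd h)

end Cfsg.Agent.Lib.H2.Spec
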