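import Mathlib
import Cfsg.Agent.Lib.H2.Spec2
import Cfsg.Agent.Lib.H2.SpecG
import Cfsg.Agent.Lib.H23.BurnsidePQ

/-!
# A solvable Frobenius group `7^8 : (C₃ ⋊ C₈)` with spectrum `{1,2,3,4,6,7,8,12}`
-/

set_option autoImplicit false

namespace Cfsg.Agent.Lib.H2.Spec

/-- The field `F₇(i)` (only its commutative ring structure is used). -/
abbrev K49 : Type := QuadraticAlgebra (ZMod 7) 6 0

/-- Hamilton quaternions over `F₇(i)` (isomorphic to `M₂(F₄₉)`). -/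
abbrev Q49 : Type := QuaternionAlgebra K49 (-1) 0 (-1)

instance instDecEqQ49 : DecidableEq Q49 := fun x y =>
  decidable_of_iff (x.re = y.re ∧ x.imI = y.imI ∧ x.imJ = y.imJ ∧ x.imK = y.imK)
    ⟨fun h => QuaternionAlgebra.ext h.1 h.2.1 h.2.2.1 h.2.2.2,
     fun h => by subst h; exact ⟨rfl, rfl, rfl, rfl⟩⟩

/-- The 24 elements of `C₃ ⋊ C₈`. -/
def L24 : List Q49 :=
  [⟨⟨1,0⟩,⟨0,0⟩,⟨0,0⟩,⟨0,0⟩⟩,
  ⟨⟨6,0⟩,⟨0,0⟩,⟨0,0⟩,⟨0,0⟩⟩,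
  ⟨⟨3,0⟩,⟨0,1⟩,⟨0,0⟩,⟨0,0⟩⟩,
  ⟨⟨3,0⟩,⟨0,6⟩,⟨0,0⟩,⟨0,0⟩⟩,
  ⟨⟨0,1⟩,⟨0,0⟩,⟨0,0⟩,⟨0,0⟩⟩,
  ⟨⟨0,6⟩,⟨0,0⟩,⟨0,0⟩,⟨0,0⟩⟩,
  ⟨⟨4,0⟩,⟨0,1⟩,⟨0,0⟩,⟨0,0⟩⟩,
  ⟨⟨4,0⟩,⟨0,6⟩,⟨0,0⟩,⟨0,0⟩⟩,
  ⟨⟨0,0⟩,⟨0,0⟩,⟨1,2⟩,⟨2,1⟩⟩,
  ⟨⟨0,0⟩,⟨0,0⟩,⟨1,5⟩,⟨2,6⟩⟩,
  ⟨⟨0,0⟩,⟨0,0⟩,⟨2,1⟩,⟨1,2⟩⟩,
  ⟨⟨0,0⟩,⟨0,0⟩,⟨2,6⟩,⟨1,5⟩⟩,
  ⟨⟨0,0⟩,⟨0,0⟩,⟨3,3⟩,⟨3,3⟩⟩,
  ⟨⟨0,0⟩,⟨0,0⟩,⟨3,4⟩,⟨3,4⟩⟩,
  ⟨⟨0,0⟩,⟨0,0⟩,⟨4,3⟩,⟨4,3⟩⟩,
  ⟨⟨0,0⟩,⟨0,0⟩,⟨4,4⟩,⟨4,4⟩⟩,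
  ⟨⟨0,0⟩,⟨0,0⟩,⟨5,1⟩,⟨6,2⟩⟩,
  ⟨⟨0,0⟩,⟨0,0⟩,⟨5,6⟩,⟨6,5⟩⟩,
  ⟨⟨0,0⟩,⟨0,0⟩,⟨6,2⟩,⟨5,1⟩⟩,
  ⟨⟨0,0⟩,⟨0,0⟩,⟨6,5⟩,⟨5,6⟩⟩,
  ⟨⟨0,3⟩,⟨1,0⟩,⟨0,0⟩,⟨0,0⟩⟩,
  ⟨⟨0,3⟩,⟨6,0⟩,⟨0,0⟩,⟨0,0⟩⟩,
  ⟨⟨0,4⟩,⟨1,0⟩,⟨0,0⟩,⟨0,0⟩⟩,
  ⟨⟨0,4⟩,⟨6,0⟩,⟨0,0⟩,⟨0,0⟩⟩]

theorem L24_one : (1 : Q49) ∈ L24 := by decide +kernel

theorem L24_mul : ∀ x ∈ L24, ∀ y ∈ L24, x * y ∈ L24 := by decide +kernel

theorem L24_inv : ∀ x ∈ L24, x ^ 23 ∈ L24 ∧ x * x ^ 23 = 1 ∧ x ^ 23 * x = 1 := by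
  decide +kernel

theorem L24_pow : ∀ x ∈ L24, x ^ 8 = 1 ∨ x ^ 12 = 1 := by decide +kernel

theorem L24_fpf : ∀ x ∈ L24, x ≠ 1 →
    (∃ k ∈ [1, 2, 3, 4, 6], x ^ k = -1) ∨ x ^ 2 + x + 1 = 0 := by decide +kernel

theorem L24_nodup : L24.Nodup := by decide +kernel

theorem L24_length : L24.length = 24 := by decide +kernel

/-- The list data. -/
def D24 : ULData Q49 where
  L := L24
  inv := fun x => x ^ 23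
  one_mem := L24_one
  mul_mem := L24_mul
  inv_spec := L24_inv

theorem card_D24 : Nat.card D24.grp = 24 := by
  rw [D24.card_grp L24_nodup]
  exact L24_length

instance : Finite D24.grp := Nat.finite_of_card_ne_zero (by rw [card_D24]; norm_num)

instance : Group.IsSolvable D24.grp :=
  Cfsg.Agent.Lib.H23.isSolvable_of_card_eq_prime_pow_mul_prime_pow 2 3 3 1
    Nat.prime_two Nat.prime_three (by rw [card_D24]; norm_num)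

theorem D24_orderOf_mem (g : D24.grp) : orderOf g ∈ ({1, 2, 3, 4, 6, 8, 12} : Set ℕ) := by
  rcases L24_pow _ g.2 with h | h
  · have h1 : orderOf g ∈ Nat.divisors 8 :=
      Nat.mem_divisors.2 ⟨orderOf_dvd_of_pow_eq_one ((D24.pow_eq_one_iff g 8).2 h), by norm_num⟩
    have h2 : Nat.divisors 8 = {1, 2, 4, 8} := by decide
    rw [h2] at h1
    simp only [Finset.mem_insert, Finset.mem_singleton] at h1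
    rcases h1 with h1 | h1 | h1 | h1 <;> simp [h1]
  · have h1 : orderOf g ∈ Nat.divisors 12 :=
      Nat.mem_divisors.2 ⟨orderOf_dvd_of_pow_eq_one ((D24.pow_eq_one_iff g 12).2 h), by norm_num⟩
    have h2 : Nat.divisors 12 = {1, 2, 3, 4, 6, 12} := by decide
    rw [h2] at h1
    simp only [Finset.mem_insert, Finset.mem_singleton] at h1
    rcases h1 with h1 | h1 | h1 | h1 | h1 | h1 <;> simp [h1]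

/-- an element of order 8 -/
def r8 : Q49 := ⟨⟨0,0⟩,⟨0,0⟩,⟨1,2⟩,⟨2,1⟩⟩
/-- an element of order 12 -/
def r12 : Q49 := ⟨⟨0,3⟩,⟨1,0⟩,⟨0,0⟩,⟨0,0⟩⟩

theorem r8_mem : r8 ∈ D24.L := by decide +kernel
theorem r12_mem : r12 ∈ D24.L := by decide +kernel

theorem orderOf_r8 : orderOf (D24.elt r8 r8_mem) = 8 := by
  apply orderOf_eq_prime_pow (p := 2) (n := 2)
  · rw [D24.pow_eq_one_iff]
    show ¬ r8 ^ 2 ^ 2 = 1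
    decide +kernel
  · rw [D24.pow_eq_one_iff]
    show r8 ^ 2 ^ (2 + 1) = 1
    decide +kernel

theorem orderOf_r12 : orderOf (D24.elt r12 r12_mem) = 12 := by
  apply orderOf_eq_of_pow_and_pow_div_prime (by norm_num)
  · rw [D24.pow_eq_one_iff]
    show r12 ^ 12 = 1
    decide +kernel
  · intro p hp hd
    have hle : p ≤ 12 := Nat.le_of_dvd (by norm_num) hd
    rw [Ne, D24.pow_eq_one_iff]
    show ¬ r12 ^ (12 / p) = 1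
    interval_cases p <;> first | (exfalso; revert hp; norm_num; done) | (exfalso; revert hd; norm_num; done) | decide +kernel

theorem D24_spectrum : Set.range (orderOf : D24.grp → ℕ) = {1, 2, 3, 4, 6, 8, 12} := by
  apply Set.Subset.antisymm
  · rintro _ ⟨g, rfl⟩
    exact D24_orderOf_mem g
  · intro k hk
    simp only [Set.mem_insert_iff, Set.mem_singleton_iff] at hk
    rcases hk with rfl | rfl | rfl | rfl | rfl | rfl | rfl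
    · exact ⟨1, orderOf_one⟩
    · exact ⟨_ ^ 6, by rw [orderOf_pow' _ (by norm_num), orderOf_r12]; norm_num⟩
    · exact ⟨_ ^ 4, by rw [orderOf_pow' _ (by norm_num), orderOf_r12]; norm_num⟩
    · exact ⟨_ ^ 3, by rw [orderOf_pow' _ (by norm_num), orderOf_r12]; norm_num⟩
    · exact ⟨_ ^ 2, by rw [orderOf_pow' _ (by norm_num), orderOf_r12]; norm_num⟩
    · exact ⟨_, orderOf_r8⟩
    · exact ⟨_, orderOf_r12⟩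

theorem q49_seven : ((7 : ℕ) : Q49) = 0 := by decide +kernel
theorem q49_one_ne_zero : (1 : Q49) ≠ 0 := by decide +kernel
theorem q49_two : (4 : Q49) * 2 = 1 := by decide +kernel
theorem q49_three : (5 : Q49) * 3 = 1 := by decide +kernel

theorem D24_fpf : ∀ c : D24.grp, c ≠ 1 → ∀ n : Multiplicative Q49, D24.act c n = n → n = 1 :=
  D24.act_fpf ⟨4, q49_two⟩ ⟨5, q49_three⟩ [1, 2, 3, 4, 6] L24_fpf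

/-- The solvable group. -/
abbrev HSol7 : Type := Multiplicative Q49 ⋊[D24.act] D24.grp

theorem HSol7_spectrum : Set.range (orderOf : HSol7 → ℕ) = {1, 2, 3, 4, 6, 7, 8, 12} := by
  rw [range_orderOf_sdp D24.act D24_fpf,
    mult_spectrum 7 (by norm_num) q49_seven q49_one_ne_zero, D24_spectrum]
  ext k
  simp only [Set.mem_union, Set.mem_insert_iff, Set.mem_singleton_iff]
  omega

instance : Group.IsSolvable HSol7 := isSolvable_sdp' D24.act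

instance : Finite Q49 :=
  Finite.of_injective (fun q : Q49 => (q.re.re, q.re.im, q.imI.re, q.imI.im,
      q.imJ.re, q.imJ.im, q.imK.re, q.imK.im)) (by
    intro a b h
    simp only [Prod.mk.injEq] at h
    obtain ⟨h1, h2, h3, h4, h5, h6, h7, h8⟩ := h
    exact QuaternionAlgebra.ext (QuadraticAlgebra.ext h1 h2) (QuadraticAlgebra.ext h3 h4)
      (QuadraticAlgebra.ext h5 h6) (QuadraticAlgebra.ext h7 h8))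

instance : Finite HSol7 := Finite.of_equiv _ (SemidirectProduct.equivProd).symm

end Cfsg.Agent.Lib.H2.Spec
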