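import Mathlib
import Cfsg.Prelude.Def_ParabolicCharacters

/-!
# S2314 farm-out (architect helper29), piece DCNT (helper2): double counting fixed points over a
conjugation-invariant set
-/

set_option autoImplicit false

namespace Cfsg.Agent.Lib.H2.StCnt

/-- **DCNT**. -/
theorem sum_fixedPointCharacter {H : Type*} [Group H] [Fintype H] (L : Subgroup H) (X : H → Prop)
    [DecidablePred X] (hX : ∀ g x, X x → X (g * x * g⁻¹)) :
    ∑ x : H with X x, Cfsg.fixedPointCharacter L x =
      (L.index : ℂ) * (Nat.card {x : H // x ∈ L ∧ X x} : ℂ) := by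
  classical
  let _inst : Fintype (H ⧸ L) := Fintype.ofFinite _
  -- the value of the permutation character as a sum of indicators
  have hfix : ∀ x : H, Cfsg.fixedPointCharacter L x =
      ∑ q : H ⧸ L, if x • q = q then (1 : ℂ) else 0 := by
    intro x
    unfold Cfsg.fixedPointCharacter
    rw [Finset.sum_boole, Nat.card_eq_fintype_card, Fintype.card_subtype]
    congr 2
  -- for a fixed coset, the number of `x ∈ X` fixing it
  have hcount : ∀ q : H ⧸ L, (∑ x : H with X x, if x • q = q then (1 : ℂ) else 0) =
      (Nat.card {x : H // x ∈ L ∧ X x} : ℂ) := by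
    intro q
    obtain ⟨g, rfl⟩ := QuotientGroup.mk_surjective q
    rw [Finset.sum_boole, Nat.card_eq_fintype_card, Fintype.card_subtype]
    congr 1
    apply Finset.card_bij' (fun x _ => g⁻¹ * x * g) (fun y _ => g * y * g⁻¹)
    · intro x hx
      rw [Finset.mem_filter, Finset.mem_filter] at hx
      rw [Finset.mem_filter]
      refine ⟨Finset.mem_univ _, ?_, ?_⟩
      · have h := hx.2
        rw [MulAction.Quotient.smul_mk, smul_eq_mul, eq_comm, QuotientGroup.eq] at h
        rw [← mul_assoc] at h
        exact h
      · have := hX g⁻¹ x hx.1.2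
        rwa [inv_inv] at this
    · intro y hy
      rw [Finset.mem_filter] at hy
      rw [Finset.mem_filter, Finset.mem_filter]
      refine ⟨⟨Finset.mem_univ _, hX g y hy.2.2⟩, ?_⟩
      rw [MulAction.Quotient.smul_mk, smul_eq_mul, eq_comm, QuotientGroup.eq]
      have : g⁻¹ * (g * y * g⁻¹ * g) = y := by group
      rw [this]
      exact hy.2.1
    · intro x _
      group
    · intro y _
      group
  calc ∑ x : H with X x, Cfsg.fixedPointCharacter L x
      = ∑ x : H with X x, ∑ q : H ⧸ L, if x • q = q then (1 : ℂ) else 0 :=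
        Finset.sum_congr rfl (fun x _ => hfix x)
    _ = ∑ q : H ⧸ L, ∑ x : H with X x, if x • q = q then (1 : ℂ) else 0 := Finset.sum_comm
    _ = ∑ _q : H ⧸ L, (Nat.card {x : H // x ∈ L ∧ X x} : ℂ) :=
        Finset.sum_congr rfl (fun q _ => hcount q)
    _ = (L.index : ℂ) * (Nat.card {x : H // x ∈ L ∧ X x} : ℂ) := by
        rw [Finset.sum_const, Finset.card_univ, nsmul_eq_mul, Subgroup.index]
        simp only [Nat.card_eq_fintype_card]

end Cfsg.Agent.Lib.H2.StCnt
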