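import Mathlib
import Cfsg.Prelude.Def_ParabolicCharacters

/-!
# S2314 farm-out (architect helper29), piece MOB (helper2): solving the triangular system by Möbius inversion
-/

set_option autoImplicit false

namespace Cfsg.Agent.Lib.H2.StCnt

/-- `∑_{J' ⊆ J ⊆ K} (-1)^|J| = (-1)^|K| [J' = K]` -/
theorem sum_superset_neg_one_pow {ι : Type*} [DecidableEq ι] (K J' : Finset ι) (hJ' : J' ⊆ K) :
    ∑ J ∈ K.powerset.filter (fun J => J' ⊆ J), (-1 : ℤ) ^ J.card =
      if J' = K then (-1) ^ K.card else 0 := by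
  have hbij : ∑ I ∈ (K \ J').powerset, (-1 : ℤ) ^ (J'.card + I.card) =
      ∑ J ∈ K.powerset.filter (fun J => J' ⊆ J), (-1 : ℤ) ^ J.card := by
    apply Finset.sum_nbij' (fun I => J' ∪ I) (fun J => J \ J')
    · intro I hI
      rw [Finset.mem_powerset] at hI
      rw [Finset.mem_filter, Finset.mem_powerset]
      exact ⟨Finset.union_subset hJ' (hI.trans Finset.sdiff_subset), Finset.subset_union_left⟩
    · intro J hJ
      rw [Finset.mem_filter, Finset.mem_powerset] at hJ
      rw [Finset.mem_powerset]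
      exact Finset.sdiff_subset_sdiff hJ.1 le_rfl
    · intro I hI
      rw [Finset.mem_powerset] at hI
      have hd : Disjoint J' I :=
        (Finset.disjoint_of_subset_left hI Finset.sdiff_disjoint).symm
      exact Finset.union_sdiff_cancel_left hd
    · intro J hJ
      rw [Finset.mem_filter] at hJ
      exact Finset.union_sdiff_of_subset hJ.2
    · intro I hI
      rw [Finset.mem_powerset] at hI
      have hd : Disjoint J' I :=
        (Finset.disjoint_of_subset_left hI Finset.sdiff_disjoint).symm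
      rw [Finset.card_union_of_disjoint hd]
  rw [← hbij]
  simp_rw [pow_add]
  rw [← Finset.mul_sum, Finset.sum_powerset_neg_one_pow_card]
  by_cases h : J' = K
  · subst h
    simp
  · have hne : K \ J' ≠ ∅ := by
      intro he
      rw [Finset.sdiff_eq_empty_iff_subset] at he
      exact h (Finset.Subset.antisymm hJ' he)
    rw [if_neg hne, if_neg h, mul_zero]

/-- the candidate solves the system -/
theorem mobius_key {ι : Type*} [DecidableEq ι] (s : Finset ι) (idx : Finset ι → Finset ι → ℤ)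
    (a : Finset ι → ℤ)
    (h1 : ∀ K, K ⊆ s → idx K K = 1)
    (h2 : ∀ K J J', K ⊆ s → J ⊆ K → J' ⊆ J → idx K J * idx J J' = idx K J')
    (h3 : ∀ K, K ⊆ s → a K = ∑ J ∈ K.powerset, (-1) ^ J.card * idx K J)
    (K : Finset ι) (hK : K ⊆ s) :
    ∑ J ∈ K.powerset, (-1 : ℤ) ^ J.card * idx K J * a J = 1 := by
  have e1 : ∀ J ∈ K.powerset, (-1 : ℤ) ^ J.card * idx K J * a J =
      ∑ J' ∈ K.powerset,
        if J' ⊆ J then (-1 : ℤ) ^ J.card * ((-1) ^ J'.card * idx K J') else 0 := by
    intro J hJ
    rw [Finset.mem_powerset] at hJ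
    rw [h3 J (hJ.trans hK), Finset.mul_sum, ← Finset.sum_filter]
    have hf : K.powerset.filter (fun J' => J' ⊆ J) = J.powerset := by
      ext Y
      rw [Finset.mem_filter, Finset.mem_powerset, Finset.mem_powerset]
      exact ⟨fun h => h.2, fun h => ⟨h.trans hJ, h⟩⟩
    rw [hf]
    apply Finset.sum_congr rfl
    intro J' hJ'
    rw [Finset.mem_powerset] at hJ'
    rw [← h2 K J J' hK hJ hJ']
    ring
  rw [Finset.sum_congr rfl e1, Finset.sum_comm]
  have e2 : ∀ J' ∈ K.powerset,
      (∑ J ∈ K.powerset,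
        if J' ⊆ J then (-1 : ℤ) ^ J.card * ((-1) ^ J'.card * idx K J') else 0) =
      if J' = K then idx K K else 0 := by
    intro J' hJ'
    rw [Finset.mem_powerset] at hJ'
    rw [← Finset.sum_filter, ← Finset.sum_mul, sum_superset_neg_one_pow K J' hJ']
    by_cases h : J' = K
    · subst h
      rw [if_pos rfl, if_pos rfl, ← mul_assoc, ← pow_add, ← two_mul, pow_mul]
      simp
    · rw [if_neg h, if_neg h, zero_mul]
  rw [Finset.sum_congr rfl e2, Finset.sum_ite_eq' K.powerset K (fun _ => idx K K),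
    if_pos (Finset.mem_powerset.2 le_rfl)]
  exact h1 K hK

/-- **MOB**. -/
theorem mobius_solve {ι : Type*} [DecidableEq ι] (s : Finset ι) (idx : Finset ι → Finset ι → ℤ)
    (u a : Finset ι → ℤ) (c : ℤ)
    (h1 : ∀ K, K ⊆ s → idx K K = 1)
    (h2 : ∀ K J J', K ⊆ s → J ⊆ K → J' ⊆ J → idx K J * idx J J' = idx K J')
    (h3 : ∀ K, K ⊆ s → a K = ∑ J ∈ K.powerset, (-1) ^ J.card * idx K J)
    (h4 : ∀ K, K ⊆ s → ∑ J ∈ K.powerset, (-1) ^ J.card * idx K J * u J = c) :
    ∀ K, K ⊆ s → u K = c * a K := by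
  have hd : ∀ K, K ⊆ s →
      ∑ J ∈ K.powerset, (-1 : ℤ) ^ J.card * idx K J * (u J - c * a J) = 0 := by
    intro K hK
    have e : ∀ J ∈ K.powerset, (-1 : ℤ) ^ J.card * idx K J * (u J - c * a J) =
        (-1 : ℤ) ^ J.card * idx K J * u J - c * ((-1 : ℤ) ^ J.card * idx K J * a J) := by
      intro J _
      ring
    rw [Finset.sum_congr rfl e, Finset.sum_sub_distrib, ← Finset.mul_sum, h4 K hK,
      mobius_key s idx a h1 h2 h3 K hK, mul_one, sub_self]
  intro K
  induction K using Finset.strongInduction with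
  | H K ih =>
    intro hK
    have h0 := hd K hK
    rw [Finset.sum_eq_single K] at h0
    · rw [h1 K hK, mul_one] at h0
      rcases mul_eq_zero.1 h0 with h | h
      · exact absurd h (pow_ne_zero _ (by norm_num))
      · linarith
    · intro J hJ hne
      rw [Finset.mem_powerset] at hJ
      have hss : J ⊂ K := Finset.ssubset_iff_subset_ne.2 ⟨hJ, hne⟩
      rw [ih J hss (hJ.trans hK), sub_self, mul_zero]
    · intro hn
      exact absurd (Finset.mem_powerset.2 le_rfl) hn

end Cfsg.Agent.Lib.H2.StCnt
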