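/-
helper2: task P5 of the S5658 farm-out (helper10, tools/blueprints/S5658_sigs.lean):
the standard subfield subgroup of `SU_n(q)` is proper.
-/
import Cfsg.Agent.Lib.H10.SuB
import Cfsg.Agent.Lib.H10.SfH
import Cfsg.Agent.Lib.H2.SuSubFF

set_option autoImplicit false

namespace Cfsg.Agent.Lib.H2.SuSub

open Matrix
open Cfsg.Agent.S0837 (Bs Bs_apply Bs_symm Bs_nondeg)
open Cfsg.Agent.S0781 (Em)
open Cfsg.Agent.Lib.H11.UGen (Um Um_mulVec Um_det Um_preserves)
open Cfsg.Agent.Lib.H10.Sf (IsRat)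
open Cfsg.Agent.Lib.H10.Su

variable {F : Type*} [Field F] [Fintype F] {n q : ℕ} (φ : F →+* F)

/-- a skew element outside the subfield -/
theorem p5_exists_skew (hF : Fintype.card F = q ^ 2) (hφ : ∀ x, φ x = x ^ q)
    (hφ2 : ∀ x, φ (φ x) = x) {F₀ : Subfield F} {r : ℕ} (hr : r.Prime) (hro : Odd r)
    (hcard : Fintype.card F = Nat.card F₀ ^ r) :
    ∃ c : F, c + φ c = 0 ∧ c ∉ F₀ := by
  classical
  obtain ⟨ω, hω, hω'⟩ := exists_not_fixed φ hF hφ hro hcard
  -- an element outside `F₀`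
  have hex : ∃ x : F, x ∉ F₀ := by
    by_contra hcon
    push Not at hcon
    have htop : F₀ = ⊤ := by
      ext x; simp [hcon x]
    have h1 : Nat.card ↥F₀ = Fintype.card F := by
      rw [htop, ← Nat.card_eq_fintype_card]
      exact Nat.card_congr (Subfield.topEquiv (K := F)).toEquiv
    rw [h1] at hcard
    have hc1 : 1 < Fintype.card F := Fintype.one_lt_card
    have hr2 : 2 ≤ r := hr.two_le
    have : Fintype.card F ^ 1 < Fintype.card F ^ r := Nat.pow_lt_pow_right hc1 (by omega)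
    rw [pow_one] at this
    omega
  obtain ⟨x, hx⟩ := hex
  -- a fixed element outside `F₀`
  have hfix : ∃ e : F, φ e = e ∧ e ∉ F₀ := by
    by_cases ht : x + φ x ∈ F₀
    · by_cases hd : x * φ x ∈ F₀
      · exfalso
        apply hx
        refine mem_of_quadratic hro hcard ht hd ?_
        ring
      · refine ⟨x * φ x, ?_, hd⟩
        rw [map_mul, hφ2]; ring
    · refine ⟨x + φ x, ?_, ht⟩
      rw [map_add, hφ2]; ring
  obtain ⟨e, he, he'⟩ := hfix
  have hθ : ω - φ ω ∈ F₀ := F₀.sub_mem hω (phi_mem φ hφ hω)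
  have hθ0 : ω - φ ω ≠ 0 := fun h => hω' (sub_eq_zero.1 h).symm
  refine ⟨(ω - φ ω) * e, ?_, ?_⟩
  · rw [map_mul, map_sub, hφ2, he]; ring
  · intro hmem
    apply he'
    have : e = (ω - φ ω)⁻¹ * ((ω - φ ω) * e) := by field_simp
    rw [this]
    exact F₀.mul_mem (F₀.inv_mem hθ) hmem

/-- **P5** the subfield subgroup is proper. -/
theorem N₁_lt (hF : Fintype.card F = q ^ 2) (hφ : ∀ x, φ x = x ^ q) (hφ2 : ∀ x, φ (φ x) = x)
    (hn : 3 ≤ n) {F₀ : Subfield F} {r : ℕ} (hr : r.Prime) (hro : Odd r)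
    (hcard : Fintype.card F = Nat.card F₀ ^ r) :
    N₁ n q F₀ < Cfsg.GU n F q ⊓ Cfsg.Geo.specialLinear (Fin n) F := by
  classical
  refine lt_of_le_of_ne inf_le_right ?_
  intro heq
  obtain ⟨c, hc, hcF⟩ := p5_exists_skew φ hF hφ hφ2 hr hro hcard
  obtain ⟨ω, hω, hω'⟩ := exists_not_fixed φ hF hφ hro hcard
  obtain ⟨ζ, -, -, hζ, -, -, hζ', -, -, -, -, -⟩ := exists_three_norm φ hφ2 hφ hω hω'
  -- indices
  set i : Fin n := ⟨0, by omega⟩ with hi
  set j : Fin n := ⟨1, by omega⟩ with hj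
  set k : Fin n := ⟨2, by omega⟩ with hk
  have hij : i ≠ j := by rw [hi, hj]; intro h; simp [Fin.ext_iff] at h
  have hki : k ≠ i := by rw [hi, hk]; intro h; simp [Fin.ext_iff] at h
  have hkj : k ≠ j := by rw [hj, hk]; intro h; simp [Fin.ext_iff] at h
  set y : Fin n → F := yv i j ζ with hy
  have hyy : Bs φ n y y = 0 := yv_iso φ hij hζ'
  set M : Matrix (Fin n) (Fin n) F := Um φ y c with hM
  have hdet : M.det = 1 := by rw [hM, Um_det, hyy, mul_zero, add_zero]
  have hd : M.det ≠ 0 := by rw [hdet]; exact one_ne_zero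
  have hpres : ∀ u v, Bs φ n (M *ᵥ u) (M *ᵥ v) = Bs φ n u v := by
    intro u v
    refine Um_preserves φ hφ2 y c ?_ u v
    rw [hyy, mul_zero, add_zero]; exact hc
  set g : GL (Fin n) F := Matrix.GeneralLinearGroup.mkOfDetNeZero M hd with hg
  have hgM : (g : Matrix (Fin n) (Fin n) F) = M := rfl
  have hgmem : g ∈ Cfsg.GU n F q ⊓ Cfsg.Geo.specialLinear (Fin n) F := by
    refine Subgroup.mem_inf.2 ⟨?_, ?_⟩
    · rw [mem_GU_iff φ hφ]
      exact hpres
    · rw [Cfsg.Agent.Lib.H28.mem_specialLinear_iff]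
      exact hdet
  rw [← heq] at hgmem
  have hsub := (Subgroup.mem_inf.1 hgmem).1
  rw [Cfsg.Agent.Lib.H11.Subf.mem_subfield_one_iff] at hsub
  obtain ⟨a, ha0, ha⟩ := hsub
  -- entries
  have hentry : ∀ s t : Fin n, M s t = (Pi.single t 1 : Fin n → F) s + (c * Bs φ n y (Pi.single t 1)) * y s := by
    intro s t
    have h1 := congrFun (Um_mulVec φ y c (Pi.single t 1)) s
    rw [Matrix.mulVec_single_one] at h1
    rw [hM]
    simpa using h1
  have hkk : M k k = 1 := by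
    rw [hentry, hy, yv_apply_ne hki hkj, mul_zero, add_zero, Pi.single_eq_same]
  have hii : M i i = 1 + c := by
    rw [hentry, hy, B_yv_left, yv_apply_left hij, Pi.single_eq_same,
      Pi.single_eq_of_ne hij.symm, mul_zero, add_zero, mul_one, mul_one]
  have ha1 : a ∈ F₀ := by
    have := ha k k
    rwa [hgM, hkk, mul_one] at this
  have ha2 : a * (1 + c) ∈ F₀ := by
    have := ha i i
    rwa [hgM, hii] at this
  apply hcF
  have h3 : 1 + c ∈ F₀ := by
    have : 1 + c = a⁻¹ * (a * (1 + c)) := by field_simp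
    rw [this]
    exact F₀.mul_mem (F₀.inv_mem ha1) ha2
  have : c = (1 + c) - 1 := by ring
  rw [this]
  exact F₀.sub_mem h3 F₀.one_mem

end Cfsg.Agent.Lib.H2.SuSub
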