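import Cfsg.Agent.Lib.H25.SuzM2.Cov2

set_option autoImplicit false
set_option maxRecDepth 100000

/-!
# S2048 piece P2 (helper2): facts on the presented double cover `PC2` of `Suz`
(after helper9's P3 for the triple cover)
-/

namespace Cfsg.Agent.Lib.H2.SuzM

open Cfsg.Agent.Lib.H14.SuzM
open Cfsg.Agent.Lib.H25.SuzM2
open Cfsg.Agent.Lib.H17.SuzGlue (gen idx rels relW)

/-! ### Words in the free group -/

theorem mk_word (w : List ℕ) :
    (FreeGroup.mk (w.map fun x => (gen x, true)) : FreeGroup Cfsg.Spor.Suz.Gen) =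
      (w.map fun x => FreeGroup.of (gen x)).prod := by
  induction w with
  | nil => rfl
  | cons x w ih =>
    rw [List.map_cons, List.map_cons, List.prod_cons, ← ih]
    rfl

/-- the words of `covW2` are trivial in `PC2` -/
theorem wv_pc2_eq_one : ∀ w ∈ covW2, wv pc2 w = 1 := by
  intro w hw
  have h : PresentedGroup.mk covRels2 (FreeGroup.mk (w.map fun x => (gen x, true))) = 1 :=
    PresentedGroup.one_of_mem ⟨w, hw, rfl⟩
  rw [mk_word, map_list_prod, List.map_map] at h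
  exact h

/-! ### Membership facts on the lists -/

theorem covW2_cases : ∀ w ∈ covW2, w ∈ relW ∨ (∃ w' ∈ relW, w = w' ++ [3, 3]) ∨
    (∃ x < 7, w = [3, 3, x, 3, 3, x]) ∨ w = [3, 3, 4, 3, 3, 4, 4, 4] := by decide

/-! ### Relations in `PC2` -/

theorem wv2 {Γ : Type*} [Group Γ] (g : ℕ → Γ) (x y : ℕ) : wv g [x, y] = g x * g y := by
  simp [wv]

theorem z2_eq : z2 = pc2 3 * pc2 3 := wv2 pc2 3 3

theorem pc2_sq_of (i : ℕ) (h : [i, i] ∈ covW2) : pc2 i * pc2 i = 1 := by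
  have := wv_pc2_eq_one _ h
  rwa [wv2] at this

theorem pc2_sq0 : pc2 0 * pc2 0 = 1 := pc2_sq_of 0 (by decide)
theorem pc2_sq1 : pc2 1 * pc2 1 = 1 := pc2_sq_of 1 (by decide)
theorem pc2_sq2 : pc2 2 * pc2 2 = 1 := pc2_sq_of 2 (by decide)
theorem pc2_sq5 : pc2 5 * pc2 5 = 1 := pc2_sq_of 5 (by decide)
theorem pc2_sq6 : pc2 6 * pc2 6 = 1 := pc2_sq_of 6 (by decide)

theorem z2_sq : z2 ^ 2 = 1 := by
  have h := wv_pc2_eq_one [3, 3, 3, 3] (by decide)
  have e : wv pc2 [3, 3, 3, 3] = z2 * z2 := by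
    rw [z2_eq]; simp [wv, mul_assoc]
  rw [e] at h
  rw [pow_two]; exact h

theorem z2_inv : z2⁻¹ = z2 := by
  rw [inv_eq_iff_mul_eq_one, ← pow_two]; exact z2_sq

/-- `e² = z⁻¹ = z` -/
theorem pc2_sq4 : pc2 4 * pc2 4 = z2 := by
  have h := wv_pc2_eq_one [4, 4, 3, 3] (by decide)
  have e : wv pc2 [4, 4, 3, 3] = (pc2 4 * pc2 4) * z2 := by
    rw [z2_eq]; simp [wv, mul_assoc]
  rw [e] at h
  rw [← z2_inv]
  exact eq_inv_of_mul_eq_one_left h

theorem z2_comm_invol (x : ℕ) (hx : pc2 x * pc2 x = 1) (hw : [3, 3, x, 3, 3, x] ∈ covW2) :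
    z2 * pc2 x = pc2 x * z2 := by
  have h := wv_pc2_eq_one _ hw
  have e : wv pc2 [3, 3, x, 3, 3, x] = z2 * pc2 x * z2 * pc2 x := by
    rw [z2_eq]; simp [wv, mul_assoc]
  rw [e] at h
  have hx' : (pc2 x)⁻¹ = pc2 x := by
    rw [inv_eq_iff_mul_eq_one]; exact hx
  have h2 : z2 * pc2 x * z2 = (pc2 x)⁻¹ := eq_inv_of_mul_eq_one_left h
  rw [hx'] at h2
  calc z2 * pc2 x = (z2 * pc2 x * z2) * z2⁻¹ := by group
    _ = pc2 x * z2 := by rw [h2, z2_inv]

theorem z2_comm : ∀ x < 7, z2 * pc2 x = pc2 x * z2 := by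
  intro x hx
  interval_cases x
  · exact z2_comm_invol 0 pc2_sq0 (by decide)
  · exact z2_comm_invol 1 pc2_sq1 (by decide)
  · exact z2_comm_invol 2 pc2_sq2 (by decide)
  · rw [z2_eq, mul_assoc]
  · rw [← pc2_sq4, mul_assoc]
  · exact z2_comm_invol 5 pc2_sq5 (by decide)
  · exact z2_comm_invol 6 pc2_sq6 (by decide)

theorem pc2_gen : Subgroup.closure {x : PC2 | ∃ i < 7, x = pc2 i} = ⊤ := by
  rw [eq_top_iff, ← PresentedGroup.closure_range_of]
  apply Subgroup.closure_mono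
  rintro _ ⟨u, rfl⟩
  exact ⟨idx u, Cfsg.Agent.Lib.H17.SuzGlue.idx_lt u, by
    unfold pc2
    rw [Cfsg.Agent.Lib.H17.SuzGlue.gen_idx]⟩

theorem z2_central : z2 ∈ Subgroup.center PC2 := by
  have hcen : Subgroup.centralizer {z2} = (⊤ : Subgroup PC2) := by
    rw [eq_top_iff, ← pc2_gen, Subgroup.closure_le]
    rintro _ ⟨i, hi, rfl⟩
    rw [SetLike.mem_coe, Subgroup.mem_centralizer_iff]
    intro h hh
    rw [Set.mem_singleton_iff] at hh
    subst hh
    exact z2_comm i hi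
  rw [Subgroup.mem_center_iff]
  intro g
  have hg : g ∈ Subgroup.centralizer {z2} := by rw [hcen]; trivial
  rw [Subgroup.mem_centralizer_iff] at hg
  exact (hg _ rfl).symm

/-! ### The covering map -/

theorem sg_sq (i : ℕ) : sg i * sg i = 1 :=
  Cfsg.Agent.Lib.H17.SuzGlue.of_mul_self (gen i)

theorem wv_sg_relW : ∀ w ∈ relW, wv sg w = 1 := by
  intro w hw
  have h := Cfsg.Agent.Lib.H17.SuzGlue.relW_trivial w hw
  rw [List.map_map] at h
  exact h

theorem wv_sg_covW2 : ∀ w ∈ covW2, wv sg w = 1 := by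
  intro w hw
  rcases covW2_cases w hw with h | ⟨w', hw', rfl⟩ | ⟨x, _, rfl⟩ | rfl
  · exact wv_sg_relW w h
  · rw [wv_append, wv_sg_relW w' hw', wv2, sg_sq, one_mul]
  · have e : wv sg [3, 3, x, 3, 3, x] = (sg 3 * sg 3) * (sg x * ((sg 3 * sg 3) * sg x)) := by
      simp [wv, mul_assoc]
    rw [e, sg_sq, one_mul, one_mul, sg_sq]
  · have e : wv sg [3, 3, 4, 3, 3, 4, 4, 4] =
        (sg 3 * sg 3) * (sg 4 * ((sg 3 * sg 3) * (sg 4 * (sg 4 * sg 4)))) := by
      simp [wv, mul_assoc]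
    rw [e, sg_sq, one_mul, one_mul, sg_sq, mul_one, sg_sq]

/-- the covering map -/
noncomputable def piC2 : PC2 →* G :=
  PresentedGroup.toGroup (f := fun u => (PresentedGroup.of u : G)) (by
    rintro r ⟨w, hw, rfl⟩
    rw [mk_word, map_list_prod, List.map_map]
    have h := wv_sg_covW2 w hw
    unfold wv at h
    rw [← h]
    rfl)

theorem piC2_pc2 (i : ℕ) : piC2 (pc2 i) = sg i :=
  PresentedGroup.toGroup.of _

theorem piC2_wv (w : List ℕ) : piC2 (wv pc2 w) = wv sg w :=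
  (map_wv pc2 piC2 w).trans rfl

/-! ### Perfectness -/

section perfect

variable {A : Type*} [CommGroup A] (a : ℕ → A)

/-- in a commutative group the value of a word is the product of the powers of the letters -/
theorem wv_comm_eq (w : List ℕ) (hw : ∀ x ∈ w, x < 7) :
    wv a w = ∏ i ∈ Finset.range 7, a i ^ (w.count i) := by
  induction w with
  | nil => simp [wv]
  | cons x w ih =>
    have hx : x < 7 := hw x List.mem_cons_self
    rw [wv_cons, ih (fun y hy => hw y (List.mem_cons_of_mem _ hy))]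
    have hstep : ∀ i ∈ Finset.range 7,
        a i ^ ((x :: w).count i) = a i ^ (w.count i) * (if i = x then a x else 1) := by
      intro i _
      rw [List.count_cons]
      by_cases h : i = x
      · subst h
        simp [pow_succ]
      · have h' : ¬ (x = i) := fun e => h e.symm
        simp [h, h']
    rw [Finset.prod_congr rfl hstep, Finset.prod_mul_distrib, Finset.prod_ite_eq' (Finset.range 7) x,
      if_pos (Finset.mem_range.2 hx), mul_comm]

/-- the abelian computation -/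
theorem ab_core (a0 a1 a2 a3 a4 a5 a6 : A)
    (_s0 : a0 ^ 2 = 1) (s1 : a1 ^ 2 = 1) (s2 : a2 ^ 2 = 1) (s5 : a5 ^ 2 = 1) (s6 : a6 ^ 2 = 1)
    (q3 : a3 ^ 4 = 1) (q4 : a4 ^ 2 * a3 ^ 2 = 1)
    (r01 : a0 ^ 5 * a1 ^ 5 = 1) (r12 : a1 ^ 3 * a2 ^ 3 = 1) (r15 : a1 ^ 3 * a5 ^ 3 = 1)
    (r16 : a1 ^ 3 * a6 ^ 3 = 1) (r032 : a0 * a2 ^ 4 * a3 ^ 4 = 1) (r34 : a3 ^ 5 * a4 ^ 3 = 1)
    (r25 : a1 ^ 15 * a2 ^ 30 * a3 ^ 30 * a4 ^ 3 = 1) :
    a0 = 1 ∧ a1 = 1 ∧ a2 = 1 ∧ a3 = 1 ∧ a4 = 1 ∧ a5 = 1 ∧ a6 = 1 := by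
  have h0 : a0 = 1 := by
    rw [pow_eq_pow_mod 4 s2, q3] at r032
    simpa using r032
  have h1 : a1 = 1 := by
    rw [h0, pow_eq_pow_mod 5 s1] at r01
    simpa using r01
  have h2 : a2 = 1 := by
    rw [h1, pow_eq_pow_mod 3 s2] at r12
    simpa using r12
  have h5 : a5 = 1 := by
    rw [h1, pow_eq_pow_mod 3 s5] at r15
    simpa using r15
  have h6 : a6 = 1 := by
    rw [h1, pow_eq_pow_mod 3 s6] at r16
    simpa using r16
  have h4 : a4 = 1 := by
    rw [h1, h2, pow_eq_pow_mod 30 q3] at r25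
    have r25' : a3 ^ 2 * a4 ^ 3 = 1 := by simpa using r25
    calc a4 = (a4 ^ 2 * a3 ^ 2) * a4 := by rw [q4, one_mul]
      _ = a3 ^ 2 * a4 ^ 3 := by
        rw [pow_succ a4 2, mul_comm (a4 ^ 2) (a3 ^ 2), mul_assoc]
      _ = 1 := r25'
  have h3sq : a3 ^ 2 = 1 := by
    rw [h4] at q4
    simpa using q4
  have h3 : a3 = 1 := by
    rw [h4, pow_eq_pow_mod 5 h3sq] at r34
    simpa using r34
  exact ⟨h0, h1, h2, h3, h4, h5, h6⟩

/-- in an abelian group satisfying the words of `covW2` all letters are trivial -/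
theorem ab_trivial (hrel : ∀ w ∈ covW2, wv a w = 1) : ∀ i < 7, a i = 1 := by
  have key : ∀ w ∈ covW2, (∀ x ∈ w, x < 7) → ∏ i ∈ Finset.range 7, a i ^ (w.count i) = 1 := by
    intro w hw hlt
    rw [← wv_comm_eq a w hlt]
    exact hrel w hw
  have s0 := key [0, 0] (by decide) (by decide)
  have s1 := key [1, 1] (by decide) (by decide)
  have s2 := key [2, 2] (by decide) (by decide)
  have s5 := key [5, 5] (by decide) (by decide)
  have s6 := key [6, 6] (by decide) (by decide)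
  have q3 := key [3, 3, 3, 3] (by decide) (by decide)
  have q4 := key [4, 4, 3, 3] (by decide) (by decide)
  have r01 := key [0, 1, 0, 1, 0, 1, 0, 1, 0, 1] (by decide) (by decide)
  have r12 := key [1, 2, 1, 2, 1, 2] (by decide) (by decide)
  have r15 := key [1, 5, 1, 5, 1, 5] (by decide) (by decide)
  have r16 := key [1, 6, 1, 6, 1, 6] (by decide) (by decide)
  have r032 := key [0, 3, 2, 3, 2, 3, 2, 3, 2] (by decide) (by decide)
  have r34 := key [3, 4, 3, 4, 3, 4, 3, 3] (by decide) (by decide)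
  have r25 := key [1, 2, 3, 2, 3, 1, 2, 3, 2, 3, 1, 2, 3, 2, 3, 1, 2, 3, 2, 3, 1, 2, 3, 2, 3, 4,
      1, 2, 3, 2, 3, 1, 2, 3, 2, 3, 1, 2, 3, 2, 3, 1, 2, 3, 2, 3, 1, 2, 3, 2, 3, 4,
      1, 2, 3, 2, 3, 1, 2, 3, 2, 3, 1, 2, 3, 2, 3, 1, 2, 3, 2, 3, 1, 2, 3, 2, 3, 4] (by decide)
      (by decide)
  simp only [Finset.prod_range_succ, Finset.prod_range_zero, List.count_cons, List.count_nil,
    one_mul] at s0 s1 s2 s5 s6 q3 q4 r01 r12 r15 r16 r032 r34 r25
  norm_num at s0 s1 s2 s5 s6 q3 q4 r01 r12 r15 r16 r032 r34 r25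
  obtain ⟨h0, h1, h2, h3, h4, h5, h6⟩ := ab_core (a 0) (a 1) (a 2) (a 3) (a 4) (a 5) (a 6)
    s0 s1 s2 s5 s6 q3 (by rw [mul_comm]; exact q4) r01 r12 r15 r16
    r032 r34 r25
  intro i hi
  interval_cases i
  · exact h0
  · exact h1
  · exact h2
  · exact h3
  · exact h4
  · exact h5
  · exact h6

end perfect

theorem pc2_perfect : commutator PC2 = ⊤ := by
  let φ : PC2 →* Abelianization PC2 := Abelianization.of
  have hall := ab_trivial (fun i => φ (pc2 i))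
    (fun w hw => by
      have h := wv_pc2_eq_one w hw
      have h2 := congrArg φ h
      rw [map_wv, map_one] at h2
      exact h2)
  rw [eq_top_iff, ← pc2_gen, Subgroup.closure_le]
  rintro _ ⟨i, hi, rfl⟩
  have h := hall i hi
  rw [SetLike.mem_coe, ← Abelianization.ker_of, MonoidHom.mem_ker]
  exact h

/-! ### The statement -/

/-- **P2** (the presented double cover `PC2`): everything `stem_of_cover` (p = 2) needs except
`z2 ≠ 1`. -/
theorem cover2_facts :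
    Subgroup.closure {x : PC2 | ∃ i < 7, x = pc2 i} = ⊤ ∧
    z2 ∈ Subgroup.center PC2 ∧ z2 ^ 2 = 1 ∧
    (∃ π : PC2 →* G, (∀ i < 7, π (pc2 i) = sg i) ∧ π z2 = 1) ∧
    (∀ i < 7, pc2 i * pc2 i ∈ Subgroup.zpowers z2) ∧
    (∀ w ∈ Cfsg.Agent.Lib.H17.SuzGlue.relW, wv pc2 w ∈ Subgroup.zpowers z2) ∧
    commutator PC2 = ⊤ := by
  refine ⟨pc2_gen, z2_central, z2_sq, ⟨piC2, fun i _ => piC2_pc2 i, ?_⟩, ?_, ?_, pc2_perfect⟩
  · rw [z2_eq, map_mul, piC2_pc2, sg_sq]
  · intro i hi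
    interval_cases i
    · rw [pc2_sq0]; exact one_mem _
    · rw [pc2_sq1]; exact one_mem _
    · rw [pc2_sq2]; exact one_mem _
    · rw [← z2_eq]; exact Subgroup.mem_zpowers _
    · rw [pc2_sq4]; exact Subgroup.mem_zpowers _
    · rw [pc2_sq5]; exact one_mem _
    · rw [pc2_sq6]; exact one_mem _
  · intro w hw
    rcases relW_cov w hw with h | h
    · rw [wv_pc2_eq_one w h]
      exact one_mem _
    · have h1 := wv_pc2_eq_one _ h
      rw [wv_append] at h1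
      have h2 : wv pc2 w = z2⁻¹ := eq_inv_of_mul_eq_one_left h1
      rw [h2]
      exact inv_mem (Subgroup.mem_zpowers _)

end Cfsg.Agent.Lib.H2.SuzM
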