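import Mathlib
import Cfsg.Prelude.Def_GeometricClasses

/-!
# The 2-group of symplectic type `4 ∘ 2^{1+4}` inside `GL_4(F)`: elementwise data (helper2)

`Sy R i` packages the elementwise facts about an absolutely irreducible subgroup `R` of `GL_4(F)`
of order `2^6`, of symplectic type with centre the scalars of order four (`i ^ 2 = -1`).
Used for S6000 / S6001.
-/

set_option autoImplicit false
open scoped MatrixGroups

namespace Cfsg.Agent.Lib.H2.Sy4

variable {F : Type*} [Field F]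

abbrev M4 (F : Type*) [Field F] := Matrix (Fin 4) (Fin 4) F

/-- the scalar matrices of `GL_4(F)` -/
noncomputable def scG : Fˣ →* GL (Fin 4) F := Units.map (Matrix.scalar (Fin 4)).toMonoidHom

theorem scG_val (c : Fˣ) : ((scG c : GL (Fin 4) F) : M4 F) = (c : F) • (1 : M4 F) := by
  show Matrix.scalar (Fin 4) (c : F) = _
  rw [Matrix.scalar_apply, Matrix.smul_one_eq_diagonal]

theorem scG_comm (c : Fˣ) (g : GL (Fin 4) F) : scG c * g = g * scG c := by
  apply Units.ext
  rw [Units.val_mul, Units.val_mul, scG_val, Matrix.smul_mul, Matrix.one_mul, Matrix.mul_smul,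
    Matrix.mul_one]

/-- `g` is a scalar matrix -/
def IsSc (g : GL (Fin 4) F) : Prop := ∃ c : F, (g : M4 F) = c • (1 : M4 F)

theorem isSc_scG (c : Fˣ) : IsSc (scG c) := ⟨c, scG_val c⟩

theorem isSc_one : IsSc (1 : GL (Fin 4) F) := ⟨1, by rw [one_smul, Units.val_one]⟩

theorem isSc_neg {g : GL (Fin 4) F} (h : IsSc g) : IsSc (-g) := by
  obtain ⟨c, hc⟩ := h
  exact ⟨-c, by rw [Units.val_neg, hc, neg_smul]⟩

theorem isSc_mul {g k : GL (Fin 4) F} (hg : IsSc g) (hk : IsSc k) : IsSc (g * k) := by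
  obtain ⟨c, hc⟩ := hg
  obtain ⟨d, hd⟩ := hk
  exact ⟨c * d, by rw [Units.val_mul, hc, hd, Matrix.smul_mul, Matrix.one_mul, smul_smul]⟩

theorem IsSc.comm {g : GL (Fin 4) F} (hg : IsSc g) (k : GL (Fin 4) F) : g * k = k * g := by
  obtain ⟨c, hc⟩ := hg
  apply Units.ext
  rw [Units.val_mul, Units.val_mul, hc, Matrix.smul_mul, Matrix.one_mul, Matrix.mul_smul,
    Matrix.mul_one]

theorem isSc_conj {g : GL (Fin 4) F} (hg : IsSc g) (k : GL (Fin 4) F) : k * g * k⁻¹ = g := by
  rw [← hg.comm k, mul_assoc, mul_inv_cancel, mul_one]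

theorem isSc_inv {g : GL (Fin 4) F} (hg : IsSc g) : IsSc g⁻¹ := by
  obtain ⟨c, hc⟩ := hg
  refine ⟨c⁻¹, ?_⟩
  have hc0 : c ≠ 0 := by
    rintro rfl
    rw [zero_smul] at hc
    have := g.isUnit
    rw [hc] at this
    exact not_isUnit_zero this
  have h1 : (g : M4 F) * ((g⁻¹ : GL (Fin 4) F) : M4 F) = 1 := by
    rw [← Units.val_mul, mul_inv_cancel, Units.val_one]
  rw [hc, Matrix.smul_mul, Matrix.one_mul] at h1
  calc ((g⁻¹ : GL (Fin 4) F) : M4 F) = c⁻¹ • (c • ((g⁻¹ : GL (Fin 4) F) : M4 F)) := by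
        rw [smul_smul, inv_mul_cancel₀ hc0, one_smul]
    _ = c⁻¹ • (1 : M4 F) := by rw [h1]

theorem neg_ne_self (h2 : (2 : F) ≠ 0) (a : GL (Fin 4) F) : -a ≠ a := by
  intro h
  have h1 : (-(a : M4 F)) = (a : M4 F) := by
    have := congrArg (fun u : GL (Fin 4) F => (u : M4 F)) h
    simpa using this
  have h3 : (2 : F) • (a : M4 F) = 0 := by
    rw [two_smul]
    nth_rewrite 1 [← h1]
    exact neg_add_cancel _
  have h4 : (a : M4 F) = 0 := by
    rcases smul_eq_zero.1 h3 with h | h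
    · exact absurd h h2
    · exact h
  have h5 := a.isUnit
  rw [h4] at h5
  exact not_isUnit_zero h5

theorem card_fin4 : (Fintype.card (Fin 4) : F) = 4 := by simp

/-- elementwise data of an absolutely irreducible `4 ∘ 2^{1+4}` in `GL_4(F)` -/
structure Sy (R : Subgroup (GL (Fin 4) F)) (i : Fˣ) : Prop where
  two_ne : (2 : F) ≠ 0
  isq : (i : F) * (i : F) = -1
  imem : scG i ∈ R
  card : Nat.card R = 64
  sq : ∀ a ∈ R, a * a = 1 ∨ a * a = -1
  comm : ∀ a ∈ R, ∀ b ∈ R, a * b = b * a ∨ a * b = -(b * a)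
  scal : ∀ M : M4 F,
    (∀ a ∈ R, M * (a : M4 F) = (a : M4 F) * M) → ∃ c : F, M = c • (1 : M4 F)

namespace Sy

variable {R : Subgroup (GL (Fin 4) F)} {i : Fˣ}

theorem four_ne (h : Sy R i) : (4 : F) ≠ 0 := by
  have : (4 : F) = 2 * 2 := by norm_num
  rw [this]
  exact mul_ne_zero h.two_ne h.two_ne

theorem scG_sq (h : Sy R i) : scG i * scG i = (-1 : GL (Fin 4) F) := by
  apply Units.ext
  rw [Units.val_mul, scG_val, Matrix.smul_mul, Matrix.one_mul, smul_smul, h.isq, Units.val_neg,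
    Units.val_one, neg_smul, one_smul]

theorem neg_one_ne_one (h : Sy R i) : (-1 : GL (Fin 4) F) ≠ 1 := neg_ne_self h.two_ne 1

theorem neg_mem (h : Sy R i) : (-1 : GL (Fin 4) F) ∈ R := by
  rw [← h.scG_sq]
  exact R.mul_mem h.imem h.imem

theorem neg_mem' (h : Sy R i) {a : GL (Fin 4) F} (ha : a ∈ R) : -a ∈ R := by
  have : -a = (-1 : GL (Fin 4) F) * a := by rw [neg_mul, one_mul]
  rw [this]
  exact R.mul_mem h.neg_mem ha

theorem neg_mem_iff (h : Sy R i) {a : GL (Fin 4) F} : -a ∈ R ↔ a ∈ R := by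
  constructor
  · intro ha
    have := h.neg_mem' ha
    rwa [neg_neg] at this
  · exact h.neg_mem'

theorem i_mul_mem (h : Sy R i) {a : GL (Fin 4) F} (ha : a ∈ R) : scG i * a ∈ R :=
  R.mul_mem h.imem ha

/-- a non-scalar element anticommutes with some element -/
theorem exists_anti (h : Sy R i) {a : GL (Fin 4) F} (ha : a ∈ R) (hs : ¬ IsSc a) :
    ∃ b ∈ R, b * a = -(a * b) := by
  by_contra hcon
  push Not at hcon
  have : ∀ b ∈ R, (a : M4 F) * (b : M4 F) = (b : M4 F) * (a : M4 F) := by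
    intro b hb
    rcases h.comm b hb a ha with h3 | h3
    · rw [← Units.val_mul, ← Units.val_mul, h3]
    · exact absurd h3 (hcon b hb)
  exact hs (h.scal _ this)

theorem inv_eq (h : Sy R i) {a : GL (Fin 4) F} (ha : a ∈ R) : a⁻¹ = a ∨ a⁻¹ = -a := by
  rcases h.sq a ha with h1 | h1
  · left
    exact inv_eq_of_mul_eq_one_right h1
  · right
    apply inv_eq_of_mul_eq_one_right
    rw [mul_neg, h1, neg_neg]

/-- non-scalar elements have trace zero -/
theorem trace_eq_zero (h : Sy R i) {a : GL (Fin 4) F} (ha : a ∈ R) (hs : ¬ IsSc a) :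
    Matrix.trace (a : M4 F) = 0 := by
  obtain ⟨b, hb, hba⟩ := h.exists_anti ha hs
  have e1 : (a : M4 F) = -((b⁻¹ : GL (Fin 4) F) : M4 F) * ((a : M4 F) * (b : M4 F)) := by
    have : a = -(b⁻¹ * (a * b)) := by
      have h3 : a * b = -(b * a) := by rw [hba, neg_neg]
      rw [h3, mul_neg, neg_neg, ← mul_assoc, inv_mul_cancel, one_mul]
    have := congrArg (fun u : GL (Fin 4) F => (u : M4 F)) this
    simpa using this
  have e2 : Matrix.trace (a : M4 F) = - Matrix.trace (a : M4 F) := by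
    nth_rewrite 1 [e1]
    rw [neg_mul, Matrix.trace_neg, Matrix.trace_mul_comm, Matrix.mul_assoc]
    congr 2
    have : (b : M4 F) * ((b⁻¹ : GL (Fin 4) F) : M4 F) = 1 := by
      rw [← Units.val_mul, mul_inv_cancel, Units.val_one]
    rw [this, Matrix.mul_one]
  have e3 : (2 : F) * Matrix.trace (a : M4 F) = 0 := by
    rw [two_mul]
    nth_rewrite 1 [e2]
    exact neg_add_cancel _
  rcases mul_eq_zero.1 e3 with h3 | h3
  · exact absurd h3 h.two_ne
  · exact h3

/-- the scalar elements of `R` -/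
theorem sc_cases (h : Sy R i) {a : GL (Fin 4) F} (ha : a ∈ R) (hs : IsSc a) :
    a = 1 ∨ a = -1 ∨ a = scG i ∨ a = -scG i := by
  obtain ⟨c, hc⟩ := hs
  have hcc : a * a = 1 ∨ a * a = -1 := h.sq a ha
  have key : ∀ d : F, c = d → (a : M4 F) = d • (1 : M4 F) := fun d hd => by rw [hc, hd]
  have hval : ((a * a : GL (Fin 4) F) : M4 F) = (c * c) • (1 : M4 F) := by
    rw [Units.val_mul, hc, Matrix.smul_mul, Matrix.one_mul, smul_smul]
  have h00 : ∀ x y : F, x • (1 : M4 F) = y • (1 : M4 F) → x = y := by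
    intro x y hxy
    have := congrFun (congrFun hxy 0) 0
    simpa using this
  rcases hcc with h1 | h1
  · rw [h1, Units.val_one] at hval
    have h2 : c * c = 1 := by
      apply h00
      rw [← hval, one_smul]
    have h3 : (c - 1) * (c + 1) = 0 := by linear_combination h2
    rcases mul_eq_zero.1 h3 with h4 | h4
    · left
      apply Units.ext
      rw [key 1 (sub_eq_zero.1 h4), one_smul, Units.val_one]
    · right; left
      apply Units.ext
      rw [key (-1) (eq_neg_of_add_eq_zero_left h4), neg_smul, one_smul, Units.val_neg,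
        Units.val_one]
  · rw [h1, Units.val_neg, Units.val_one] at hval
    have h2 : c * c = -1 := by
      apply h00
      rw [← hval, neg_smul, one_smul]
    have h3 : (c - (i : F)) * (c + (i : F)) = 0 := by linear_combination h2 - h.isq
    rcases mul_eq_zero.1 h3 with h4 | h4
    · right; right; left
      apply Units.ext
      rw [key (i : F) (sub_eq_zero.1 h4), scG_val]
    · right; right; right
      apply Units.ext
      rw [key (-(i : F)) (eq_neg_of_add_eq_zero_left h4), neg_smul, Units.val_neg, scG_val]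

theorem conj_mem (_h : Sy R i) {x : GL (Fin 4) F}
    (hx : x ∈ Subgroup.normalizer (R : Set (GL (Fin 4) F)))
    {g : GL (Fin 4) F} (hg : g ∈ R) : x * g * x⁻¹ ∈ R :=
  (Subgroup.mem_normalizer_iff.1 hx g).1 hg

theorem conj_mem' (_h : Sy R i) {x : GL (Fin 4) F}
    (hx : x ∈ Subgroup.normalizer (R : Set (GL (Fin 4) F)))
    {g : GL (Fin 4) F} (hg : g ∈ R) : x⁻¹ * g * x ∈ R := by
  have := (Subgroup.mem_normalizer_iff.1 (Subgroup.inv_mem _ hx) g).1 hg
  rwa [inv_inv] at this

/-- scalar matrices normalize `R` -/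
theorem sc_mem_normalizer (_h : Sy R i) {g : GL (Fin 4) F} (hg : IsSc g) :
    g ∈ Subgroup.normalizer (R : Set (GL (Fin 4) F)) := by
  rw [Subgroup.mem_normalizer_iff]
  intro k
  rw [hg.comm k, mul_assoc, mul_inv_cancel, mul_one]

end Sy

end Cfsg.Agent.Lib.H2.Sy4
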