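import Mathlib
import Cfsg.Agent.Lib.H2.Sy4A

/-!
# Counting in `4 ∘ 2^{1+4}` and symplectic frames (helper2)
-/

set_option autoImplicit false
set_option linter.unusedSectionVars false
open scoped MatrixGroups

namespace Cfsg.Agent.Lib.H2.Sy4

variable {F : Type*} [Field F] [Fintype F]

open Classical in
/-- the elements of `R` as a finset -/
noncomputable def Rf (R : Subgroup (GL (Fin 4) F)) : Finset (GL (Fin 4) F) :=
  Finset.univ.filter (· ∈ R)

open Classical in
theorem mem_Rf {R : Subgroup (GL (Fin 4) F)} {g : GL (Fin 4) F} : g ∈ Rf R ↔ g ∈ R := by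
  simp [Rf]

open Classical in
theorem card_Rf_eq (R : Subgroup (GL (Fin 4) F)) : (Rf R).card = Nat.card R := by
  rw [Nat.card_eq_fintype_card, Fintype.card_subtype]
  rfl

/-- four commuting / anticommuting data of a pair -/
theorem anti_inv {a b : GL (Fin 4) F} (hba : b * a = -(a * b)) : b⁻¹ * a = -(a * b⁻¹) := by
  have : a * b⁻¹ = -(b⁻¹ * a) := by
    calc a * b⁻¹ = b⁻¹ * (b * a) * b⁻¹ := by group
      _ = -(b⁻¹ * a) := by
        rw [hba, mul_neg, neg_mul, ← mul_assoc, mul_assoc, mul_inv_cancel, mul_one]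
  rw [this, neg_neg]

theorem anti_symm {a b : GL (Fin 4) F} (hba : b * a = -(a * b)) : a * b = -(b * a) := by
  rw [hba, neg_neg]

namespace Sy

variable {R : Subgroup (GL (Fin 4) F)} {i : Fˣ}

theorem card_Rf (h : Sy R i) : (Rf R).card = 64 := by
  rw [card_Rf_eq, h.card]

open Classical in
/-- left multiplication by an anticommuting element swaps commuting and anticommuting elements -/
theorem card_comm_eq_card_anti (h : Sy R i) {k : GL (Fin 4) F} (hk : k ∈ R) (hs : ¬ IsSc k) :
    ((Rf R).filter (fun g => g * k = k * g)).card =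
      ((Rf R).filter (fun g => g * k = -(k * g))).card := by
  obtain ⟨b, hb, hbk⟩ := h.exists_anti hk hs
  have hbk' : b⁻¹ * k = -(k * b⁻¹) := anti_inv hbk
  apply Finset.card_nbij' (fun g => b * g) (fun g => b⁻¹ * g)
  · intro g hg
    rw [Finset.mem_coe, Finset.mem_filter, mem_Rf] at hg ⊢
    refine ⟨R.mul_mem hb hg.1, ?_⟩
    rw [mul_assoc, hg.2, ← mul_assoc, hbk, neg_mul, mul_assoc]
  · intro g hg
    rw [Finset.mem_coe, Finset.mem_filter, mem_Rf] at hg ⊢
    refine ⟨R.mul_mem (R.inv_mem hb) hg.1, ?_⟩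
    rw [mul_assoc, hg.2, mul_neg, ← mul_assoc, hbk', neg_mul, neg_neg, mul_assoc]
  · intro g _
    simp
  · intro g _
    simp

open Classical in
theorem card_comm (h : Sy R i) {k : GL (Fin 4) F} (hk : k ∈ R) (hs : ¬ IsSc k) :
    ((Rf R).filter (fun g => g * k = k * g)).card = 32 := by
  have e1 := h.card_comm_eq_card_anti hk hs
  have e2 : (Rf R).filter (fun g => ¬ g * k = k * g) =
      (Rf R).filter (fun g => g * k = -(k * g)) := by
    apply Finset.filter_congr
    intro g hg
    rw [mem_Rf] at hg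
    constructor
    · intro hne
      rcases h.comm g hg k hk with h3 | h3
      · exact absurd h3 hne
      · exact h3
    · intro h3 h4
      rw [h3] at h4
      exact neg_ne_self h.two_ne _ h4
  have e3 := Finset.card_filter_add_card_filter_not (s := Rf R) (fun g => g * k = k * g)
  rw [e2, h.card_Rf] at e3
  omega

open Classical in
/-- the four scalars of `R` -/
noncomputable def Zs (i : Fˣ) : Finset (GL (Fin 4) F) := {1, -1, scG i, -scG i}

open Classical in
theorem card_Zs_le (i : Fˣ) : (Zs (F := F) i).card ≤ 4 := by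
  unfold Zs
  refine le_trans (Finset.card_insert_le _ _) ?_
  refine le_trans (Nat.succ_le_succ (Finset.card_insert_le _ _)) ?_
  refine le_trans (Nat.succ_le_succ (Nat.succ_le_succ (Finset.card_insert_le _ _))) ?_
  simp

open Classical in
theorem mem_Zs {i : Fˣ} {g : GL (Fin 4) F} :
    g ∈ Zs i ↔ g = 1 ∨ g = -1 ∨ g = scG i ∨ g = -scG i := by
  simp [Zs]

open Classical in
/-- a non-scalar element exists -/
theorem exists_nonscalar (h : Sy R i) : ∃ k ∈ R, ¬ IsSc k := by
  have hlt : (Zs (F := F) i).card < (Rf R).card := by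
    rw [h.card_Rf]
    exact lt_of_le_of_lt (card_Zs_le i) (by norm_num)
  obtain ⟨k, hk, hk'⟩ := Finset.exists_mem_notMem_of_card_lt_card hlt
  rw [mem_Rf] at hk
  refine ⟨k, hk, fun hs => hk' ?_⟩
  rw [mem_Zs]
  exact h.sc_cases hk hs

/-- replace an element by an involution in the same coset of the centre -/
theorem exists_invol_adj (h : Sy R i) {a : GL (Fin 4) F} (ha : a ∈ R) :
    ∃ a' ∈ R, a' * a' = 1 ∧ (a' = a ∨ a' = scG i * a) := by
  rcases h.sq a ha with h1 | h1
  · exact ⟨a, ha, h1, Or.inl rfl⟩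
  · refine ⟨scG i * a, h.i_mul_mem ha, ?_, Or.inr rfl⟩
    calc scG i * a * (scG i * a) = scG i * (a * scG i) * a := by group
      _ = scG i * (scG i * a) * a := by rw [← scG_comm i a]
      _ = (scG i * scG i) * (a * a) := by group
      _ = 1 := by rw [h.scG_sq, h1, neg_mul_neg, one_mul]

theorem isSc_of_i_mul {a : GL (Fin 4) F} (hs : IsSc (scG i * a)) : IsSc a := by
  have : a = (scG i)⁻¹ * (scG i * a) := by group
  rw [this]
  exact isSc_mul (isSc_inv (isSc_scG i)) hs

theorem comm_i_mul {a g : GL (Fin 4) F} (hg : g * a = a * g) :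
    g * (scG i * a) = (scG i * a) * g := by
  calc g * (scG i * a) = (g * scG i) * a := by group
    _ = (scG i * g) * a := by rw [scG_comm]
    _ = scG i * (g * a) := by group
    _ = scG i * a * g := by rw [hg]; group

theorem anti_i_mul {a g : GL (Fin 4) F} (hg : g * a = -(a * g)) :
    g * (scG i * a) = -((scG i * a) * g) := by
  calc g * (scG i * a) = (g * scG i) * a := by group
    _ = (scG i * g) * a := by rw [scG_comm]
    _ = scG i * (g * a) := by group
    _ = -(scG i * a * g) := by rw [hg, mul_neg, mul_assoc]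

/-- a non-scalar involution of `R` -/
theorem exists_invol (h : Sy R i) : ∃ a ∈ R, a * a = 1 ∧ ¬ IsSc a := by
  obtain ⟨k, hk, hks⟩ := h.exists_nonscalar
  obtain ⟨a, ha, haa, h1 | h1⟩ := h.exists_invol_adj hk
  · exact ⟨a, ha, haa, by rw [h1]; exact hks⟩
  · exact ⟨a, ha, haa, by rw [h1]; exact fun hs => hks (isSc_of_i_mul hs)⟩

/-- an involution of `R` anticommuting with a given non-scalar element -/
theorem exists_anti_invol (h : Sy R i) {a : GL (Fin 4) F} (ha : a ∈ R) (hs : ¬ IsSc a) :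
    ∃ b ∈ R, b * b = 1 ∧ b * a = -(a * b) := by
  obtain ⟨b₀, hb₀, hb₀a⟩ := h.exists_anti ha hs
  obtain ⟨b, hb, hbb, h1 | h1⟩ := h.exists_invol_adj hb₀
  · exact ⟨b, hb, hbb, by rw [h1]; exact hb₀a⟩
  · refine ⟨b, hb, hbb, ?_⟩
    rw [h1]
    calc scG i * b₀ * a = scG i * (b₀ * a) := by group
      _ = -(a * (scG i * b₀)) := by
        rw [hb₀a, mul_neg, ← mul_assoc, scG_comm, mul_assoc]

/-- modulo `⟨a, b⟩` every element of `R` centralizes the anticommuting pair `a, b` -/
theorem exists_adj_comm (h : Sy R i) {a b : GL (Fin 4) F} (ha : a ∈ R) (hb : b ∈ R)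
    (hab : a * b = -(b * a)) {g : GL (Fin 4) F} (hg : g ∈ R) :
    ∃ q, (q = 1 ∨ q = a ∨ q = b ∨ q = a * b) ∧ (g * q) * a = a * (g * q) ∧
      (g * q) * b = b * (g * q) := by
  have hba : b * a = -(a * b) := by rw [hab, neg_neg]
  rcases h.comm g hg a ha with h1 | h1 <;> rcases h.comm g hg b hb with h2 | h2
  · exact ⟨1, Or.inl rfl, by rw [mul_one, h1], by rw [mul_one, h2]⟩
  · refine ⟨a, Or.inr (Or.inl rfl), ?_, ?_⟩
    · rw [mul_assoc, ← mul_assoc a g a, ← h1, mul_assoc]
    · calc g * a * b = g * (a * b) := by group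
        _ = -(g * b * a) := by rw [hab, mul_neg, mul_assoc]
        _ = b * g * a := by rw [h2, neg_mul, neg_neg]
        _ = b * (g * a) := by group
  · refine ⟨b, Or.inr (Or.inr (Or.inl rfl)), ?_, ?_⟩
    · calc g * b * a = g * (b * a) := by group
        _ = -(g * a * b) := by rw [hba, mul_neg, mul_assoc]
        _ = a * g * b := by rw [h1, neg_mul, neg_neg]
        _ = a * (g * b) := by group
    · rw [mul_assoc, ← mul_assoc b g b, ← h2, mul_assoc]
  · refine ⟨a * b, Or.inr (Or.inr (Or.inr rfl)), ?_, ?_⟩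
    · calc g * (a * b) * a = g * a * (b * a) := by group
        _ = -(g * a * (a * b)) := by rw [hba, mul_neg]
        _ = a * g * (a * b) := by rw [h1, neg_mul, neg_neg]
        _ = a * (g * (a * b)) := by group
    · calc g * (a * b) * b = g * (a * b) * b := rfl
        _ = -(g * (b * a) * b) := by rw [hba, mul_neg, neg_mul, neg_neg]
        _ = -(g * b * (a * b)) := by group
        _ = b * g * (a * b) := by rw [h2, neg_mul, neg_neg]
        _ = b * (g * (a * b)) := by group

end Sy

/-- a symplectic frame of `R`: two commuting pairs of anticommuting involutions -/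
structure Frame (R : Subgroup (GL (Fin 4) F)) (a b c d : GL (Fin 4) F) : Prop where
  ha : a ∈ R
  hb : b ∈ R
  hc : c ∈ R
  hd : d ∈ R
  aa : a * a = 1
  bb : b * b = 1
  cc : c * c = 1
  dd : d * d = 1
  ab : a * b = -(b * a)
  cd : c * d = -(d * c)
  ac : a * c = c * a
  ad : a * d = d * a
  bc : b * c = c * b
  bd : b * d = d * b

namespace Sy

variable {R : Subgroup (GL (Fin 4) F)} {i : Fˣ}

open Classical in
/-- an element commuting with an anticommuting pair of involutions, non-scalar -/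
theorem exists_comm_pair (h : Sy R i) {a b : GL (Fin 4) F} (ha : a ∈ R) (hb : b ∈ R)
    (hab : a * b = -(b * a)) :
    ∃ c ∈ R, ¬ IsSc c ∧ c * a = a * c ∧ c * b = b * c := by
  set Qs : Finset (GL (Fin 4) F) := {1, a, b, a * b} with hQs
  have hQ4 : Qs.card ≤ 4 := by
    rw [hQs]
    refine le_trans (Finset.card_insert_le _ _) ?_
    refine le_trans (Nat.succ_le_succ (Finset.card_insert_le _ _)) ?_
    refine le_trans (Nat.succ_le_succ (Nat.succ_le_succ (Finset.card_insert_le _ _))) ?_
    simp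
  set T : Finset (GL (Fin 4) F) := Finset.image₂ (fun z q => z * q) (Zs i) Qs with hT
  have hT16 : T.card ≤ 16 := by
    refine le_trans (Finset.card_image₂_le _ _ _) ?_
    calc (Zs (F := F) i).card * Qs.card ≤ 4 * 4 := Nat.mul_le_mul (card_Zs_le i) hQ4
      _ = 16 := by norm_num
  have hlt : T.card < (Rf R).card := by
    rw [h.card_Rf]
    exact lt_of_le_of_lt hT16 (by norm_num)
  obtain ⟨g, hg, hgT⟩ := Finset.exists_mem_notMem_of_card_lt_card hlt
  rw [mem_Rf] at hg
  obtain ⟨q, hq, h1, h2⟩ := h.exists_adj_comm ha hb hab hg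
  have hqR : q ∈ R := by
    rcases hq with rfl | rfl | rfl | rfl
    · exact R.one_mem
    · exact ha
    · exact hb
    · exact R.mul_mem ha hb
  have hqQ : q ∈ Qs := by
    rw [hQs]
    rcases hq with rfl | rfl | rfl | rfl <;> simp
  refine ⟨g * q, R.mul_mem hg hqR, ?_, h1, h2⟩
  intro hs
  apply hgT
  rw [hT, Finset.mem_image₂]
  have hz := h.sc_cases (R.mul_mem hg hqR) hs
  rcases h.inv_eq hqR with hqi | hqi
  · refine ⟨g * q, ?_, q, hqQ, ?_⟩
    · rw [mem_Zs]; exact hz
    · nth_rewrite 2 [← hqi]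
      group
  · refine ⟨-(g * q), ?_, q, hqQ, ?_⟩
    · rw [mem_Zs]
      rcases hz with h3 | h3 | h3 | h3
      · right; left; rw [h3]
      · left; rw [h3, neg_neg]
      · right; right; right; rw [h3]
      · right; right; left; rw [h3, neg_neg]
    · have : g = g * q * q⁻¹ := by group
      nth_rewrite 2 [this]
      rw [hqi, mul_neg, neg_mul]

/-- a symplectic frame exists -/
theorem exists_frame (h : Sy R i) : ∃ a b c d, Frame R a b c d := by
  obtain ⟨a, ha, haa, has⟩ := h.exists_invol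
  obtain ⟨b, hb, hbb, hba⟩ := h.exists_anti_invol ha has
  have hab : a * b = -(b * a) := anti_symm hba
  obtain ⟨c₀, hc₀, hc₀s, hc₀a, hc₀b⟩ := h.exists_comm_pair ha hb hab
  obtain ⟨c, hc, hcc, hcs, hca, hcb⟩ : ∃ c ∈ R, c * c = 1 ∧ ¬ IsSc c ∧ c * a = a * c ∧
      c * b = b * c := by
    obtain ⟨c, hc, hcc, h1 | h1⟩ := h.exists_invol_adj hc₀
    · exact ⟨c, hc, hcc, by rw [h1]; exact hc₀s, by rw [h1]; exact hc₀a, by rw [h1]; exact hc₀b⟩
    · refine ⟨c, hc, hcc, by rw [h1]; exact fun hs => hc₀s (isSc_of_i_mul hs), ?_, ?_⟩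
      · rw [h1]; exact (comm_i_mul hc₀a.symm).symm
      · rw [h1]; exact (comm_i_mul hc₀b.symm).symm
  obtain ⟨d₀, hd₀, _, hd₀c⟩ := h.exists_anti_invol hc hcs
  obtain ⟨q, hq, h1, h2⟩ := h.exists_adj_comm ha hb hab hd₀
  have hqR : q ∈ R := by
    rcases hq with rfl | rfl | rfl | rfl
    · exact R.one_mem
    · exact ha
    · exact hb
    · exact R.mul_mem ha hb
  have hqc : q * c = c * q := by
    rcases hq with rfl | rfl | rfl | rfl
    · rw [one_mul, mul_one]
    · exact hca.symm
    · exact hcb.symm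
    · rw [mul_assoc, ← hcb, ← mul_assoc, ← hca, mul_assoc]
  have hd₁c : (d₀ * q) * c = -(c * (d₀ * q)) := by
    rw [mul_assoc, hqc, ← mul_assoc, hd₀c, neg_mul, mul_assoc]
  obtain ⟨d, hd, hdd, hdc, hda, hdb⟩ : ∃ d ∈ R, d * d = 1 ∧ d * c = -(c * d) ∧ d * a = a * d ∧
      d * b = b * d := by
    obtain ⟨d, hd, hdd, h3 | h3⟩ := h.exists_invol_adj (R.mul_mem hd₀ hqR)
    · exact ⟨d, hd, hdd, by rw [h3]; exact hd₁c, by rw [h3]; exact h1, by rw [h3]; exact h2⟩
    · refine ⟨d, hd, hdd, ?_, ?_, ?_⟩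
      · rw [h3]
        calc scG i * (d₀ * q) * c = scG i * ((d₀ * q) * c) := by group
          _ = -(c * (scG i * (d₀ * q))) := by
            rw [hd₁c, mul_neg, ← mul_assoc, scG_comm, mul_assoc]
      · rw [h3]; exact (comm_i_mul h1.symm).symm
      · rw [h3]; exact (comm_i_mul h2.symm).symm
  exact ⟨a, b, c, d, ⟨ha, hb, hc, hd, haa, hbb, hcc, hdd, hab, anti_symm hdc, hca.symm, hda.symm,
    hcb.symm, hdb.symm⟩⟩

end Sy

end Cfsg.Agent.Lib.H2.Sy4
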