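import Mathlib
import Cfsg.Agent.Lib.H2.Sy4B
import Cfsg.Agent.Lib.H25.Ex4C

/-!
# Averaging over `4 ∘ 2^{1+4}` and the trace formula for normalizing elements (helper2)
-/

set_option autoImplicit false
set_option linter.unusedSectionVars false
open scoped MatrixGroups

namespace Cfsg.Agent.Lib.H2.Sy4

open Cfsg.Agent.Lib.H25.Ex4 (card_fixed_modEq iter_conj)

variable {F : Type*} [Field F] [Fintype F]

open Classical in
/-- the centralizer of `x` in `R`, as a finset -/
noncomputable def CR (R : Subgroup (GL (Fin 4) F)) (x : GL (Fin 4) F) : Finset (GL (Fin 4) F) :=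
  (Rf R).filter (fun g => g * x = x * g)

open Classical in
/-- the elements of `R` anticommuting with `x` -/
noncomputable def AR (R : Subgroup (GL (Fin 4) F)) (x : GL (Fin 4) F) : Finset (GL (Fin 4) F) :=
  (Rf R).filter (fun g => g * x = -(x * g))

open Classical in
theorem mem_CR {R : Subgroup (GL (Fin 4) F)} {x g : GL (Fin 4) F} :
    g ∈ CR R x ↔ g ∈ R ∧ g * x = x * g := by
  rw [CR, Finset.mem_filter, mem_Rf]

open Classical in
theorem mem_AR {R : Subgroup (GL (Fin 4) F)} {x g : GL (Fin 4) F} :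
    g ∈ AR R x ↔ g ∈ R ∧ g * x = -(x * g) := by
  rw [AR, Finset.mem_filter, mem_Rf]

namespace Sy

variable {R : Subgroup (GL (Fin 4) F)} {i : Fˣ}

/-- averaging over `R` projects onto the scalars -/
theorem avg (h : Sy R i) (M : M4 F) :
    ∑ g ∈ Rf R, (g : M4 F) * M * ((g⁻¹ : GL (Fin 4) F) : M4 F) =
      (16 * Matrix.trace M) • (1 : M4 F) := by
  classical
  set E := ∑ g ∈ Rf R, (g : M4 F) * M * ((g⁻¹ : GL (Fin 4) F) : M4 F) with hE
  have hcomm : ∀ a ∈ R, E * (a : M4 F) = (a : M4 F) * E := by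
    intro a ha
    have e1 : (a : M4 F) * E * ((a⁻¹ : GL (Fin 4) F) : M4 F) = E := by
      rw [hE, Finset.mul_sum, Finset.sum_mul]
      apply Finset.sum_nbij' (fun g => a * g) (fun g => a⁻¹ * g)
      · intro g hg
        rw [mem_Rf] at hg ⊢
        exact R.mul_mem ha hg
      · intro g hg
        rw [mem_Rf] at hg ⊢
        exact R.mul_mem (R.inv_mem ha) hg
      · intro g _
        simp
      · intro g _
        simp
      · intro g _
        rw [mul_inv_rev, Units.val_mul, Units.val_mul]
        simp only [Matrix.mul_assoc]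
    calc E * (a : M4 F)
        = (a : M4 F) * E * ((a⁻¹ : GL (Fin 4) F) : M4 F) * (a : M4 F) := by
          rw [e1]
      _ = (a : M4 F) * E := by
          rw [Matrix.mul_assoc, ← Units.val_mul, inv_mul_cancel, Units.val_one, Matrix.mul_one]
  obtain ⟨c, hc⟩ := h.scal E hcomm
  have htr : Matrix.trace E = 64 * Matrix.trace M := by
    rw [hE, Matrix.trace_sum]
    have : ∀ g ∈ Rf R, Matrix.trace ((g : M4 F) * M *
        ((g⁻¹ : GL (Fin 4) F) : M4 F)) = Matrix.trace M := by
      intro g _
      rw [Matrix.trace_mul_comm, ← Matrix.mul_assoc, ← Units.val_mul, inv_mul_cancel,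
        Units.val_one, Matrix.one_mul]
    rw [Finset.sum_congr rfl this, Finset.sum_const, h.card_Rf]
    simp
  rw [hc, Matrix.trace_smul, Matrix.trace_one] at htr
  have hc8 : c = 16 * Matrix.trace M := by
    rw [card_fin4, smul_eq_mul] at htr
    apply mul_left_cancel₀ h.four_ne
    rw [← mul_assoc]
    norm_num
    linear_combination htr
  rw [hc, hc8]

/-- a scalar commutator with an element of `R` is `±1` -/
theorem comm_sc_pm (h : Sy R i) {g : GL (Fin 4) F} (hg : g ∈ R) (x : GL (Fin 4) F)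
    (hs : IsSc (g * (x * g⁻¹ * x⁻¹))) :
    g * (x * g⁻¹ * x⁻¹) = 1 ∨ g * (x * g⁻¹ * x⁻¹) = -1 := by
  set s := g * (x * g⁻¹ * x⁻¹) with hsdef
  have h1 : g * x * g⁻¹ = s * x := by rw [hsdef]; group
  have h2 : (g * g) * x * (g * g)⁻¹ = s * s * x := by
    calc (g * g) * x * (g * g)⁻¹ = g * (g * x * g⁻¹) * g⁻¹ := by group
      _ = g * (s * x) * g⁻¹ := by rw [h1]
      _ = s * (g * x * g⁻¹) := by rw [← mul_assoc, ← hs.comm g]; group
      _ = s * s * x := by rw [h1]; group
  have h3 : (g * g) * x * (g * g)⁻¹ = x := by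
    rcases h.sq g hg with h4 | h4
    · rw [h4]; group
    · rw [h4]
      have : (-1 : GL (Fin 4) F)⁻¹ = -1 := by
        apply inv_eq_of_mul_eq_one_right
        rw [neg_mul_neg, one_mul]
      rw [this, neg_mul, one_mul, neg_mul, mul_neg, mul_one, neg_neg]
  rw [h3] at h2
  have h5 : s * s = 1 := by
    have : x * x⁻¹ = s * s * x * x⁻¹ := by rw [← h2]
    rw [mul_inv_cancel, mul_assoc, mul_inv_cancel, mul_one] at this
    exact this.symm
  obtain ⟨c, hc⟩ := hs
  have hval : ((s * s : GL (Fin 4) F) : M4 F) = (c * c) • (1 : M4 F) := by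
    rw [Units.val_mul, hc, Matrix.smul_mul, Matrix.one_mul, smul_smul]
  rw [h5, Units.val_one] at hval
  have h6 : c * c = 1 := by
    have := congrFun (congrFun hval 0) 0
    simpa using this.symm
  have h7 : (c - 1) * (c + 1) = 0 := by linear_combination h6
  rcases mul_eq_zero.1 h7 with h8 | h8
  · left
    apply Units.ext
    rw [hc, sub_eq_zero.1 h8, one_smul, Units.val_one]
  · right
    apply Units.ext
    rw [hc, eq_neg_of_add_eq_zero_left h8, neg_smul, one_smul, Units.val_neg, Units.val_one]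

theorem comm_iff_one (g x : GL (Fin 4) F) : g * (x * g⁻¹ * x⁻¹) = 1 ↔ g * x = x * g := by
  constructor
  · intro h4
    have : g * x = g * (x * g⁻¹ * x⁻¹) * (x * g) := by group
    rw [this, h4, one_mul]
  · intro h4
    calc g * (x * g⁻¹ * x⁻¹) = g * x * g⁻¹ * x⁻¹ := by group
      _ = 1 := by rw [h4]; group

theorem anti_iff_neg_one (g x : GL (Fin 4) F) :
    g * (x * g⁻¹ * x⁻¹) = -1 ↔ g * x = -(x * g) := by
  constructor
  · intro h4
    have : g * x = g * (x * g⁻¹ * x⁻¹) * (x * g) := by group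
    rw [this, h4, neg_mul, one_mul]
  · intro h4
    calc g * (x * g⁻¹ * x⁻¹) = g * x * g⁻¹ * x⁻¹ := by group
      _ = -1 := by rw [h4, neg_mul, neg_mul]; group

open Classical in
/-- the trace formula -/
theorem trace_formula (h : Sy R i) {x : GL (Fin 4) F}
    (hx : x ∈ Subgroup.normalizer (R : Set (GL (Fin 4) F))) :
    4 * (Matrix.trace (x : M4 F) * Matrix.trace ((x⁻¹ : GL (Fin 4) F) : M4 F)) =
      ((CR R x).card : F) - ((AR R x).card : F) := by
  have h1 := h.avg (x : M4 F)
  have h2 := congrArg (fun M => Matrix.trace (M * ((x⁻¹ : GL (Fin 4) F) : M4 F))) h1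
  rw [Finset.sum_mul, Matrix.trace_sum, Matrix.smul_mul, Matrix.one_mul, Matrix.trace_smul,
    smul_eq_mul] at h2
  have h3 : ∀ g ∈ Rf R, Matrix.trace ((g : M4 F) * (x : M4 F) *
      ((g⁻¹ : GL (Fin 4) F) : M4 F) * ((x⁻¹ : GL (Fin 4) F) : M4 F)) =
      (if g * x = x * g then 4 else 0) + (if g * x = -(x * g) then -4 else 0) := by
    intro g hg
    rw [mem_Rf] at hg
    have hk : g * (x * g⁻¹ * x⁻¹) ∈ R := R.mul_mem hg (h.conj_mem hx (R.inv_mem hg))
    have e1 : (g : M4 F) * (x : M4 F) *
      ((g⁻¹ : GL (Fin 4) F) : M4 F) * ((x⁻¹ : GL (Fin 4) F) : M4 F) =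
        ((g * (x * g⁻¹ * x⁻¹) : GL (Fin 4) F) : M4 F) := by
      simp only [Units.val_mul, Matrix.mul_assoc]
    rw [e1]
    by_cases hs : IsSc (g * (x * g⁻¹ * x⁻¹))
    · rcases h.comm_sc_pm hg x hs with h4 | h4
      · have h5 : g * x = x * g := (comm_iff_one g x).1 h4
        have h6 : ¬ g * x = -(x * g) := by
          rw [h5]
          exact fun h7 => neg_ne_self h.two_ne _ h7.symm
        rw [if_pos h5, if_neg h6, add_zero, h4, Units.val_one, Matrix.trace_one, card_fin4]
      · have h5 : g * x = -(x * g) := (anti_iff_neg_one g x).1 h4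
        have h6 : ¬ g * x = x * g := by
          rw [h5]
          exact neg_ne_self h.two_ne _
        rw [if_neg h6, if_pos h5, zero_add, h4, Units.val_neg, Units.val_one, Matrix.trace_neg,
          Matrix.trace_one, card_fin4]
    · have h5 : ¬ g * x = x * g := by
        intro h6
        apply hs
        rw [(comm_iff_one g x).2 h6]
        exact isSc_one
      have h6 : ¬ g * x = -(x * g) := by
        intro h7
        apply hs
        rw [(anti_iff_neg_one g x).2 h7]
        exact isSc_neg isSc_one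
      rw [if_neg h5, if_neg h6, add_zero]
      exact h.trace_eq_zero hk hs
  rw [Finset.sum_congr rfl h3, Finset.sum_add_distrib, ← Finset.sum_filter, ← Finset.sum_filter,
    Finset.sum_const, Finset.sum_const, nsmul_eq_mul, nsmul_eq_mul] at h2
  apply mul_left_cancel₀ h.four_ne
  unfold CR AR
  linear_combination -h2

/-- no element of `R` anticommutes with `x` if an odd power of `x` is scalar -/
theorem AR_eq_empty (h : Sy R i) {x : GL (Fin 4) F} {r : ℕ} (hr : Odd r)
    (hxr : IsSc (x ^ r)) : AR R x = ∅ := by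
  classical
  rw [Finset.eq_empty_iff_forall_notMem]
  intro g hg
  rw [mem_AR] at hg
  have key : ∀ k : ℕ, g * x ^ k = (-1 : GL (Fin 4) F) ^ k * (x ^ k * g) := by
    intro k
    induction k with
    | zero => simp
    | succ k ih =>
      calc g * x ^ (k + 1) = (g * x ^ k) * x := by rw [pow_succ]; group
        _ = (-1) ^ k * (x ^ k * (g * x)) := by rw [ih]; group
        _ = (-1) ^ (k + 1) * (x ^ (k + 1) * g) := by
          rw [hg.2, pow_succ, pow_succ, mul_neg, mul_neg, mul_neg, mul_one, neg_mul]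
          group
  have h1 := key r
  rw [hr.neg_one_pow, neg_mul, one_mul, ← hxr.comm g] at h1
  exact neg_ne_self h.two_ne _ h1.symm

/-- the centralizer of a non-scalar normalizing element is not all of `R` -/
theorem isSc_of_CR_eq (h : Sy R i) {x : GL (Fin 4) F} (hc : (CR R x).card = 64) : IsSc x := by
  classical
  have h1 : CR R x = Rf R := by
    apply Finset.eq_of_subset_of_card_le (Finset.filter_subset _ _)
    show (Rf R).card ≤ (CR R x).card
    rw [hc, h.card_Rf]
  apply h.scal
  intro a ha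
  have h2 : a ∈ CR R x := by
    rw [h1, mem_Rf]
    exact ha
  rw [mem_CR] at h2
  rw [← Units.val_mul, ← Units.val_mul, h2.2]

open Classical in
theorem card_Zs (h : Sy R i) : (Zs (F := F) i).card = 4 := by
  have hi1 : scG i ≠ (1 : GL (Fin 4) F) := by
    intro h1
    have h2 := h.scG_sq
    rw [h1, one_mul] at h2
    exact h.neg_one_ne_one h2.symm
  have hi2 : scG i ≠ (-1 : GL (Fin 4) F) := by
    intro h1
    have h2 := h.scG_sq
    rw [h1, neg_mul_neg, one_mul] at h2
    exact h.neg_one_ne_one h2.symm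
  unfold Zs
  rw [Finset.card_insert_of_notMem, Finset.card_insert_of_notMem, Finset.card_insert_of_notMem,
    Finset.card_singleton]
  · rw [Finset.mem_singleton]
    exact fun h1 => neg_ne_self h.two_ne _ h1.symm
  · rw [Finset.mem_insert, Finset.mem_singleton, not_or]
    refine ⟨fun h1 => hi2 h1.symm, fun h1 => hi1 ?_⟩
    rw [← neg_neg (scG i), ← h1, neg_neg]
  · simp only [Finset.mem_insert, Finset.mem_singleton, not_or]
    refine ⟨fun h1 => h.neg_one_ne_one h1.symm, fun h1 => hi1 h1.symm, fun h1 => hi2 ?_⟩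
    rw [← neg_neg (scG i), ← h1]

open Classical in
theorem Zs_subset_CR (h : Sy R i) (x : GL (Fin 4) F) : Zs i ⊆ CR R x := by
  intro g hg
  rw [mem_Zs] at hg
  rw [mem_CR]
  rcases hg with rfl | rfl | rfl | rfl
  · exact ⟨R.one_mem, by rw [one_mul, mul_one]⟩
  · exact ⟨h.neg_mem, by rw [neg_mul, one_mul, mul_neg, mul_one]⟩
  · exact ⟨h.imem, scG_comm i x⟩
  · exact ⟨h.neg_mem' h.imem, by rw [neg_mul, mul_neg, scG_comm i x]⟩

open Classical in
/-- the order of a centralizer in `R` divides `64` -/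
theorem card_CR_dvd (h : Sy R i) (x : GL (Fin 4) F) : (CR R x).card ∣ 64 := by
  have h1 : (CR R x).card = Nat.card ((Subgroup.centralizer {x}).subgroupOf R) := by
    rw [Nat.card_eq_fintype_card, ← Fintype.card_coe]
    apply Fintype.card_congr
    refine ⟨fun g => ⟨⟨g.1, (mem_CR.1 g.2).1⟩, ?_⟩, fun g => ⟨g.1.1, ?_⟩, ?_, ?_⟩
    · rw [Subgroup.mem_subgroupOf, Subgroup.mem_centralizer_iff]
      intro y hy
      rw [Set.mem_singleton_iff] at hy
      rw [hy]
      exact (mem_CR.1 g.2).2.symm
    · rw [mem_CR]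
      refine ⟨g.1.2, ?_⟩
      have := g.2
      rw [Subgroup.mem_subgroupOf, Subgroup.mem_centralizer_iff] at this
      exact (this x rfl).symm
    · intro g; rfl
    · intro g; rfl
  rw [h1, ← h.card]
  exact Subgroup.card_subgroup_dvd_card _

open Classical in
theorem card_CR_cases (h : Sy R i) (x : GL (Fin 4) F) :
    (CR R x).card = 4 ∨ (CR R x).card = 8 ∨ (CR R x).card = 16 ∨ (CR R x).card = 32 ∨
      (CR R x).card = 64 := by
  have h1 := h.card_CR_dvd x
  have h2 : 4 ≤ (CR R x).card :=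
    calc 4 = (Zs (F := F) i).card := h.card_Zs.symm
      _ ≤ (CR R x).card := Finset.card_le_card (h.Zs_subset_CR x)
  have h3 : (64 : ℕ) = 2 ^ 6 := by norm_num
  rw [h3, Nat.dvd_prime_pow Nat.prime_two] at h1
  obtain ⟨k, hk, hk'⟩ := h1
  rw [hk'] at h2 ⊢
  interval_cases k <;> simp_all

open Classical in
theorem card_CR_modEq (h : Sy R i) {x : GL (Fin 4) F}
    (hx : x ∈ Subgroup.normalizer (R : Set (GL (Fin 4) F))) (r : ℕ) [Fact r.Prime]
    (hxr : IsSc (x ^ r)) : (CR R x).card ≡ 64 [MOD r] := by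
  have h1 := card_fixed_modEq (Rf R) (fun g => x * g * x⁻¹) r
    (fun g hg => by
      rw [mem_Rf] at hg ⊢
      exact h.conj_mem hx hg)
    (fun g hg => by
      rw [iter_conj, hxr.comm g, mul_assoc, mul_inv_cancel, mul_one])
  rw [h.card_Rf] at h1
  have e : (Rf R).filter (fun g => x * g * x⁻¹ = g) = CR R x := by
    unfold CR
    apply Finset.filter_congr
    intro g _
    rw [mul_inv_eq_iff_eq_mul]
    exact eq_comm
  rw [← e]
  exact h1

end Sy

end Cfsg.Agent.Lib.H2.Sy4
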