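import Mathlib
import Cfsg.Agent.Lib.H2.Sy4C
import Cfsg.Agent.Lib.H25.Ex4E

/-!
# Numerical constraints on elements normalizing `4 ∘ 2^{1+4}` (helper2)
-/

set_option autoImplicit false
set_option linter.unusedSectionVars false
open scoped MatrixGroups
open Matrix

namespace Cfsg.Agent.Lib.H2.Sy4

open Cfsg.Agent.Lib.H25.Ex4 (card_fixed_modEq iter_conj tv_core)

variable {F : Type*} [Field F] [Fintype F]

theorem trace_conj (g x : GL (Fin 4) F) :
    Matrix.trace ((g⁻¹ * x * g : GL (Fin 4) F) : M4 F) = Matrix.trace (x : M4 F) := by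
  rw [Units.val_mul, Units.val_mul, Matrix.trace_mul_comm, ← Matrix.mul_assoc, ← Units.val_mul,
    mul_inv_cancel, Units.val_one, Matrix.one_mul]

theorem isSc_conj_iff (g x : GL (Fin 4) F) : IsSc (g⁻¹ * x * g) ↔ IsSc x := by
  constructor
  · intro hs
    have e : x = g * (g⁻¹ * x * g) * g⁻¹ := by group
    rw [e, isSc_conj hs]
    exact hs
  · intro hs
    have e : g⁻¹ * x * g = g⁻¹ * x * g⁻¹⁻¹ := by rw [inv_inv]
    rw [e, isSc_conj hs]
    exact hs

theorem conj_pow' (g x : GL (Fin 4) F) (r : ℕ) : (g⁻¹ * x * g) ^ r = g⁻¹ * x ^ r * g := by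
  have := conj_pow (a := g⁻¹) (b := x) (i := r)
  rwa [inv_inv] at this

namespace Sy

variable {R : Subgroup (GL (Fin 4) F)} {i : Fˣ}

open Classical in
/-- the numerical constraints on a non-scalar element of odd prime order `r` modulo scalars
in the normalizer of `R` -/
theorem derange_core (h : Sy R i) {y : GL (Fin 4) F} (r : ℕ) [Fact r.Prime] (hr2 : r ≠ 2)
    (hy : y ∈ Subgroup.normalizer (R : Set (GL (Fin 4) F))) (hyr : IsSc (y ^ r))
    (hns : ¬ IsSc y) :
    ∃ n : ℕ, (n = 4 ∨ n = 8 ∨ n = 16 ∨ n = 32) ∧ n ≡ 64 [MOD r] ∧ (CR R y).card = n ∧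
      4 * (Matrix.trace (y : M4 F) * Matrix.trace ((y⁻¹ : GL (Fin 4) F) : M4 F)) = (n : F) := by
  have hr : r.Prime := Fact.out
  have hodd : Odd r := hr.odd_of_ne_two hr2
  refine ⟨(CR R y).card, ?_, h.card_CR_modEq hy r hyr, rfl, ?_⟩
  · rcases h.card_CR_cases y with h1 | h1 | h1 | h1 | h1
    · exact Or.inl h1
    · exact Or.inr (Or.inl h1)
    · exact Or.inr (Or.inr (Or.inl h1))
    · exact Or.inr (Or.inr (Or.inr h1))
    · exact absurd (h.isSc_of_CR_eq h1) hns
  · rw [h.trace_formula hy, h.AR_eq_empty hodd hyr, Finset.card_empty, Nat.cast_zero, sub_zero]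

/-- `r = 3`: the centralizer has order `4` or `16` -/
theorem derange_three (h : Sy R i) {y : GL (Fin 4) F}
    (hy : y ∈ Subgroup.normalizer (R : Set (GL (Fin 4) F))) (hyr : IsSc (y ^ 3))
    (hns : ¬ IsSc y) :
    Matrix.trace (y : M4 F) * Matrix.trace ((y⁻¹ : GL (Fin 4) F) : M4 F) = 1 ∨
      Matrix.trace (y : M4 F) * Matrix.trace ((y⁻¹ : GL (Fin 4) F) : M4 F) = 4 := by
  have : Fact (Nat.Prime 3) := ⟨Nat.prime_three⟩
  obtain ⟨n, hn, hmod, _, htr⟩ := h.derange_core 3 (by norm_num) hy hyr hns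
  rcases hn with rfl | rfl | rfl | rfl
  · left
    apply mul_left_cancel₀ h.four_ne
    rw [htr]; norm_num
  · exact absurd hmod (by decide)
  · right
    apply mul_left_cancel₀ h.four_ne
    rw [htr]; norm_num
  · exact absurd hmod (by decide)

/-- `r = 5`: the centralizer has order `4` -/
theorem derange_five (h : Sy R i) {y : GL (Fin 4) F}
    (hy : y ∈ Subgroup.normalizer (R : Set (GL (Fin 4) F))) (hyr : IsSc (y ^ 5))
    (hns : ¬ IsSc y) :
    Matrix.trace (y : M4 F) * Matrix.trace ((y⁻¹ : GL (Fin 4) F) : M4 F) = 1 := by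
  have : Fact (Nat.Prime 5) := ⟨Nat.prime_five⟩
  obtain ⟨n, hn, hmod, _, htr⟩ := h.derange_core 5 (by norm_num) hy hyr hns
  rcases hn with rfl | rfl | rfl | rfl
  · apply mul_left_cancel₀ h.four_ne
    rw [htr]; norm_num
  · exact absurd hmod (by decide)
  · exact absurd hmod (by decide)
  · exact absurd hmod (by decide)

open Classical in
/-- no non-scalar element of prime order `r ≥ 7` modulo scalars normalizes `R` -/
theorem derange_large (h : Sy R i) {y : GL (Fin 4) F} (r : ℕ) [Fact r.Prime] (hr7 : 7 ≤ r)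
    (hy : y ∈ Subgroup.normalizer (R : Set (GL (Fin 4) F))) (hyr : IsSc (y ^ r))
    (hns : ¬ IsSc y) : False := by
  have hr : r.Prime := Fact.out
  obtain ⟨n, hn, hmod, hcard, _⟩ := h.derange_core r (by omega) hy hyr hns
  have hdvd : r ∣ 64 - n := by
    have h1 : n ≤ 64 := by rcases hn with rfl | rfl | rfl | rfl <;> norm_num
    exact (Nat.modEq_iff_dvd' h1).1 hmod
  have h7 : r = 7 ∧ n = 8 := by
    rcases hn with rfl | rfl | rfl | rfl
    · exfalso
      have h2 : r ∣ 60 := hdvd
      have h3 : (60 : ℕ) = 2 ^ 2 * 3 * 5 := by norm_num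
      rw [h3] at h2
      rcases (Nat.Prime.dvd_mul hr).1 h2 with h4 | h4
      · rcases (Nat.Prime.dvd_mul hr).1 h4 with h5 | h5
        · have := (Nat.prime_dvd_prime_iff_eq hr Nat.prime_two).1 (hr.dvd_of_dvd_pow h5)
          omega
        · have := (Nat.prime_dvd_prime_iff_eq hr Nat.prime_three).1 h5
          omega
      · have := (Nat.prime_dvd_prime_iff_eq hr Nat.prime_five).1 h4
        omega
    · have h2 : r ∣ 56 := hdvd
      have h3 : (56 : ℕ) = 2 ^ 3 * 7 := by norm_num
      rw [h3] at h2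
      rcases (Nat.Prime.dvd_mul hr).1 h2 with h4 | h4
      · have := (Nat.prime_dvd_prime_iff_eq hr Nat.prime_two).1 (hr.dvd_of_dvd_pow h4)
        omega
      · have := (Nat.prime_dvd_prime_iff_eq hr (by norm_num : Nat.Prime 7)).1 h4
        exact ⟨this, rfl⟩
    · exfalso
      have h2 : r ∣ 48 := hdvd
      have h3 : (48 : ℕ) = 2 ^ 4 * 3 := by norm_num
      rw [h3] at h2
      rcases (Nat.Prime.dvd_mul hr).1 h2 with h4 | h4
      · have := (Nat.prime_dvd_prime_iff_eq hr Nat.prime_two).1 (hr.dvd_of_dvd_pow h4)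
        omega
      · have := (Nat.prime_dvd_prime_iff_eq hr Nat.prime_three).1 h4
        omega
    · exfalso
      have h2 : r ∣ 32 := hdvd
      have h3 : (32 : ℕ) = 2 ^ 5 := by norm_num
      rw [h3] at h2
      have := (Nat.prime_dvd_prime_iff_eq hr Nat.prime_two).1 (hr.dvd_of_dvd_pow h2)
      omega
  obtain ⟨rfl, rfl⟩ := h7
  -- a non-scalar element `g` of `R` commuting with `y`
  have hlt : (Zs (F := F) i).card < (CR R y).card := by
    rw [hcard, h.card_Zs]; norm_num
  obtain ⟨g, hg, hgZ⟩ := Finset.exists_mem_notMem_of_card_lt_card hlt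
  rw [mem_CR] at hg
  have hgs : ¬ IsSc g := by
    intro hs
    apply hgZ
    rw [mem_Zs]
    exact h.sc_cases hg.1 hs
  have hgy' : y⁻¹ * g = g * y⁻¹ := by
    calc y⁻¹ * g = y⁻¹ * (g * y) * y⁻¹ := by group
      _ = g * y⁻¹ := by rw [hg.2]; group
  have hS : (CR R g).card = 32 := h.card_comm hg.1 hgs
  have h1 := card_fixed_modEq (CR R g) (fun k => y * k * y⁻¹) 7
    (fun k hk => by
      rw [mem_CR] at hk ⊢
      refine ⟨h.conj_mem hy hk.1, ?_⟩
      calc y * k * y⁻¹ * g = y * k * (y⁻¹ * g) := by group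
        _ = y * (k * g) * y⁻¹ := by rw [hgy']; group
        _ = (y * g) * k * y⁻¹ := by rw [hk.2]; group
        _ = g * (y * k * y⁻¹) := by rw [← hg.2]; group)
    (fun k _ => by
      rw [iter_conj, hyr.comm k, mul_assoc, mul_inv_cancel, mul_one])
  rw [hS] at h1
  set D := (CR R g).filter (fun k => y * k * y⁻¹ = k) with hD
  have hD8 : D.card ≤ 8 := by
    rw [← hcard]
    apply Finset.card_le_card
    intro k hk
    rw [hD, Finset.mem_filter, mem_CR] at hk
    rw [mem_CR]
    refine ⟨hk.1.1, ?_⟩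
    have := hk.2
    rw [mul_inv_eq_iff_eq_mul] at this
    exact this.symm
  have hD5 : 5 ≤ D.card := by
    have h2 : insert g (Zs i) ⊆ D := by
      intro k hk
      rw [Finset.mem_insert] at hk
      rw [hD, Finset.mem_filter, mem_CR]
      rcases hk with rfl | hk
      · refine ⟨⟨hg.1, rfl⟩, ?_⟩
        rw [← hg.2, mul_assoc, mul_inv_cancel, mul_one]
      · have hk1 := h.Zs_subset_CR g hk
        have hk2 := h.Zs_subset_CR y hk
        rw [mem_CR] at hk1 hk2
        refine ⟨hk1, ?_⟩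
        rw [← hk2.2, mul_assoc, mul_inv_cancel, mul_one]
    have h3 := Finset.card_le_card h2
    rw [Finset.card_insert_of_notMem hgZ, h.card_Zs] at h3
    exact h3
  have h4 : D.card % 7 = 32 % 7 := h1
  omega

end Sy

/-- two linear functionals on a four-dimensional space have a common nonzero kernel vector -/
theorem exists_common_ker (φ ψ : Fin 4 → F) :
    ∃ w : Fin 4 → F, w ≠ 0 ∧ φ ⬝ᵥ w = 0 ∧ ψ ⬝ᵥ w = 0 := by
  let L : (Fin 4 → F) →ₗ[F] (Fin 2 → F) := Matrix.mulVecLin (Matrix.of ![φ, ψ])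
  have hlt : Module.finrank F (Fin 2 → F) < Module.finrank F (Fin 4 → F) := by
    rw [Module.finrank_fintype_fun_eq_card, Module.finrank_fintype_fun_eq_card]
    simp
  have hker := LinearMap.ker_ne_bot_of_finrank_lt (f := L) hlt
  obtain ⟨w, hw, hw0⟩ := Submodule.exists_mem_ne_zero_of_ne_bot hker
  rw [LinearMap.mem_ker] at hw
  refine ⟨w, hw0, ?_, ?_⟩
  · have := congrFun hw 0
    simpa [L, Matrix.mulVec] using this
  · have := congrFun hw 1
    simpa [L, Matrix.mulVec] using this

/-- an element `1 + A` with `A` of rank one does not normalize `R` -/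
theorem Sy.not_tv {R : Subgroup (GL (Fin 4) F)} {i : Fˣ} (h : Sy R i) (T : GL (Fin 4) F)
    (a φ : Fin 4 → F)
    (hT : (T : M4 F) = 1 + vecMulVec a φ)
    (hTi : ((T⁻¹ : GL (Fin 4) F) : M4 F) = 1 - vecMulVec a φ)
    (hA : vecMulVec a φ ≠ 0) : T ∉ Subgroup.normalizer (R : Set (GL (Fin 4) F)) := by
  intro hmem
  set A := vecMulVec a φ with hAdef
  have hAA : A * A = 0 := by
    have h1 : (T : M4 F) * ((T⁻¹ : GL (Fin 4) F) : M4 F) = 1 := by
      rw [← Units.val_mul, mul_inv_cancel, Units.val_one]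
    rw [hT, hTi] at h1
    have h2 : (1 + A) * (1 - A) = 1 - A * A := by noncomm_ring
    rw [h2] at h1
    have h3 : A * A = 1 - (1 - A * A) := by noncomm_ring
    rw [h3, h1, sub_self]
  have key : ∀ k ∈ R, k⁻¹ * T * k = T := by
    intro k hk
    set u := T⁻¹ * (k⁻¹ * T * k) with hu
    have hu_mem : u ∈ R := by
      have h1 : T⁻¹ * k⁻¹ * T ∈ R := h.conj_mem' hmem (R.inv_mem hk)
      have h2 : u = T⁻¹ * k⁻¹ * T * k := by rw [hu]; group
      rw [h2]
      exact R.mul_mem h1 hk
    set K := (k : M4 F) with hK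
    set Ki := ((k⁻¹ : GL (Fin 4) F) : M4 F) with hKi
    have hKiK : Ki * K = 1 := by rw [hKi, hK, ← Units.val_mul, inv_mul_cancel, Units.val_one]
    set B := Ki * A * K with hB
    have hBv : B = vecMulVec (Ki *ᵥ a) (φ ᵥ* K) := by
      rw [hB, hAdef, mul_vecMulVec, vecMulVec_mul]
    have hT2 : ((k⁻¹ * T * k : GL (Fin 4) F) : M4 F) = 1 + B := by
      rw [Units.val_mul, Units.val_mul, hT, hB, Matrix.mul_add, Matrix.add_mul, Matrix.mul_one,
        hKiK]
    have hT2i : ((k⁻¹ * T⁻¹ * k : GL (Fin 4) F) : M4 F) = 1 - B := by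
      rw [Units.val_mul, Units.val_mul, hTi, hB, Matrix.mul_sub, Matrix.sub_mul, Matrix.mul_one,
        hKiK]
    have hU : (u : M4 F) = (1 - A) * (1 + B) := by
      rw [hu, Units.val_mul, hTi, hT2]
    rcases h.sq u hu_mem with huu | huu
    · -- `u * u = 1`
      have hTu : T * u = k⁻¹ * T * k := by rw [hu]; group
      have huT : u * T⁻¹ = k⁻¹ * T⁻¹ * k := by
        have h1 : u⁻¹ = u := inv_eq_of_mul_eq_one_right huu
        calc u * T⁻¹ = u⁻¹ * T⁻¹ := by rw [h1]
          _ = (T * u)⁻¹ := by group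
          _ = k⁻¹ * T⁻¹ * k := by rw [hTu]; group
      have m1 : (1 + A) * (u : M4 F) = 1 + B := by
        rw [← hT, ← Units.val_mul, hTu, hT2]
      have m2 : (u : M4 F) * (1 - A) = 1 - B := by
        rw [← hTi, ← Units.val_mul, huT, hT2i]
      have hstar : (2 : F) • (u : M4 F) + A * (u : M4 F) -
          (u : M4 F) * A = (2 : F) • (1 : M4 F) := by
        have h1 : (2 : F) • (u : M4 F) + A * (u : M4 F) -
            (u : M4 F) * A = (1 + A) * (u : M4 F) +
              (u : M4 F) * (1 - A) := by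
          rw [two_smul]
          noncomm_ring
        rw [h1, m1, m2, two_smul]
        abel
      have hUU : (u : M4 F) * (u : M4 F) = 1 := by
        rw [← Units.val_mul, huu, Units.val_one]
      have hU1 := tv_core h.two_ne a φ (u : M4 F) hA hAA hUU hstar
      have hu1 : u = 1 := Units.ext hU1
      rw [hu] at hu1
      calc k⁻¹ * T * k = T * (T⁻¹ * (k⁻¹ * T * k)) := by group
        _ = T := by rw [hu1, mul_one]
    · -- `u * u = -1`
      exfalso
      obtain ⟨w, hw0, hw1, hw2⟩ := exists_common_ker φ (φ ᵥ* K)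
      have hAw : A *ᵥ w = 0 := by
        rw [hAdef, vecMulVec_mulVec, hw1]
        simp
      have hBw : B *ᵥ w = 0 := by
        rw [hBv, vecMulVec_mulVec, hw2]
        simp
      have hUw : (u : M4 F) *ᵥ w = w := by
        rw [hU, ← Matrix.mulVec_mulVec, Matrix.add_mulVec, Matrix.one_mulVec, hBw, add_zero,
          Matrix.sub_mulVec, Matrix.one_mulVec, hAw, sub_zero]
      have hUU : (u : M4 F) * (u : M4 F) = -1 := by
        rw [← Units.val_mul, huu, Units.val_neg, Units.val_one]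
      have h1 := congrArg (fun M : M4 F => M *ᵥ w) hUU
      simp only [← Matrix.mulVec_mulVec, hUw, Matrix.neg_mulVec, Matrix.one_mulVec] at h1
      have h2 : (2 : F) • w = 0 := by
        rw [two_smul]
        nth_rewrite 1 [h1]
        exact neg_add_cancel w
      rcases smul_eq_zero.1 h2 with h3 | h3
      · exact h.two_ne h3
      · exact hw0 h3
  obtain ⟨c, hc⟩ := h.scal (T : M4 F) (by
    intro k hk
    have h1 := key k hk
    have h2 : T * k = k * T := by
      calc T * k = k * (k⁻¹ * T * k) := by group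
        _ = k * T := by rw [h1]
    have := congrArg (fun u : GL (Fin 4) F => (u : M4 F)) h2
    simpa using this)
  have hAc : A = (c - 1) • (1 : M4 F) := by
    rw [sub_smul, one_smul, ← hc, hT, add_sub_cancel_left]
  have h1 : ((c - 1) * (c - 1)) • (1 : M4 F) = 0 := by
    rw [← hAA, hAc, Matrix.smul_mul, Matrix.mul_smul, Matrix.one_mul, smul_smul]
  have h2 : (c - 1) * (c - 1) = 0 := by
    rcases smul_eq_zero.1 h1 with h3 | h3
    · exact h3
    · exact absurd h3 one_ne_zero
  have h3 : c - 1 = 0 := by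
    rcases mul_eq_zero.1 h2 with h4 | h4 <;> exact h4
  apply hA
  rw [hAc, h3, zero_smul]

end Cfsg.Agent.Lib.H2.Sy4
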