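import Mathlib
import Cfsg.Agent.Lib.H2.Sy4D

/-!
# Explicit derangements for the normalizer of `4 ∘ 2^{1+4}` in `SL_4` (helper2)
-/

set_option autoImplicit false
set_option linter.unusedSectionVars false
open scoped MatrixGroups
open Matrix

namespace Cfsg.Agent.Lib.H2.Sy4

variable {F : Type*} [Field F]

/-! ### order three -/

/-- `diag(ω, ω, ω, 1)` -/
def X3 (ω : F) : M4 F := Matrix.diagonal ![ω, ω, ω, 1]

theorem X3_mul (ω ω' : F) : X3 ω * X3 ω' = X3 (ω * ω') := by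
  unfold X3
  rw [Matrix.diagonal_mul_diagonal]
  congr 1
  funext j
  fin_cases j <;> simp

theorem X3_one : X3 (1 : F) = 1 := by
  unfold X3
  rw [← Matrix.diagonal_one]
  congr 1
  funext j
  fin_cases j <;> simp

theorem cube_of_root {ω : F} (hω : ω ^ 2 + ω + 1 = 0) : ω * (ω * ω) = 1 := by
  linear_combination (ω - 1) * hω

/-- `diag(ω, ω, ω, 1)` as an element of `GL_4(F)` -/
def x3G (ω : F) (hω : ω ^ 2 + ω + 1 = 0) : GL (Fin 4) F :=
  ⟨X3 ω, X3 (ω * ω), by rw [X3_mul, cube_of_root hω, X3_one],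
    by rw [X3_mul, mul_comm, cube_of_root hω, X3_one]⟩

theorem x3G_val (ω : F) (hω : ω ^ 2 + ω + 1 = 0) : ((x3G ω hω : GL (Fin 4) F) : M4 F) = X3 ω := rfl

theorem x3G_inv_val (ω : F) (hω : ω ^ 2 + ω + 1 = 0) :
    (((x3G ω hω)⁻¹ : GL (Fin 4) F) : M4 F) = X3 (ω * ω) := rfl

theorem x3G_pow (ω : F) (hω : ω ^ 2 + ω + 1 = 0) : (x3G ω hω) ^ 3 = 1 := by
  apply Units.ext
  rw [Units.val_pow_eq_pow_val, x3G_val, pow_succ, pow_two, X3_mul, X3_mul, Units.val_one,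
    mul_comm (ω * ω), cube_of_root hω, X3_one]

theorem trace_X3 (ω : F) : Matrix.trace (X3 ω) = 3 * ω + 1 := by
  unfold X3
  rw [Matrix.trace_diagonal, Fin.sum_univ_four]
  simp
  ring

theorem det_X3 (ω : F) : (X3 ω).det = ω * ω * ω := by
  unfold X3
  rw [Matrix.det_diagonal, Fin.prod_univ_four]
  simp

theorem x3G_not_sc (h3 : (3 : F) ≠ 0) (ω : F) (hω : ω ^ 2 + ω + 1 = 0) : ¬ IsSc (x3G ω hω) := by
  rintro ⟨c, hc⟩
  rw [x3G_val] at hc
  have h1 := congrFun (congrFun hc 0) 0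
  have h2 := congrFun (congrFun hc 3) 3
  simp [X3] at h1 h2
  apply h3
  rw [h1, ← h2] at hω
  linear_combination hω

section

variable [Fintype F] {R : Subgroup (GL (Fin 4) F)} {i : Fˣ}

/-- `diag(ω, ω, ω, 1)` is a derangement -/
theorem Sy.derange3 (h : Sy R i) (h3 : (3 : F) ≠ 0) (ω : F) (hω : ω ^ 2 + ω + 1 = 0)
    (g : GL (Fin 4) F) :
    g⁻¹ * x3G ω hω * g ∉ Subgroup.normalizer (R : Set (GL (Fin 4) F)) := by
  intro hmem
  have hsc : IsSc ((g⁻¹ * x3G ω hω * g) ^ 3) := by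
    rw [conj_pow', x3G_pow, mul_one, inv_mul_cancel]
    exact isSc_one
  have hns : ¬ IsSc (g⁻¹ * x3G ω hω * g) := by
    rw [isSc_conj_iff]
    exact x3G_not_sc h3 ω hω
  have hc := h.derange_three hmem hsc hns
  have einv : (g⁻¹ * x3G ω hω * g)⁻¹ = g⁻¹ * (x3G ω hω)⁻¹ * g := by group
  rw [einv, trace_conj, trace_conj, x3G_val, x3G_inv_val, trace_X3, trace_X3] at hc
  have h6 : (2 : F) * 3 ≠ 0 := mul_ne_zero h.two_ne h3
  rcases hc with h1 | h1
  · apply h6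
    linear_combination h1 - (9 * ω - 6) * hω
  · apply h3
    linear_combination h1 - (9 * ω - 6) * hω

end

/-! ### order five -/

/-- the block matrix `diag(B, 1, 1)`, `B` the companion matrix of `X² - τ X + 1` -/
def X5 (τ : F) : M4 F := !![0, -1, 0, 0; 1, τ, 0, 0; 0, 0, 1, 0; 0, 0, 0, 1]

/-- its inverse -/
def X5i (τ : F) : M4 F := !![τ, 1, 0, 0; -1, 0, 0, 0; 0, 0, 1, 0; 0, 0, 0, 1]

def X5sq (τ : F) : M4 F := !![-1, -τ, 0, 0; τ, τ ^ 2 - 1, 0, 0; 0, 0, 1, 0; 0, 0, 0, 1]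

def X5qu (τ : F) : M4 F :=
  !![1 - τ ^ 2, 2 * τ - τ ^ 3, 0, 0; τ ^ 3 - 2 * τ, τ ^ 4 - 3 * τ ^ 2 + 1, 0, 0; 0, 0, 1, 0;
    0, 0, 0, 1]

theorem X5_mul_X5i (τ : F) : X5 τ * X5i τ = 1 := by
  ext a b
  fin_cases a <;> fin_cases b <;> simp [X5, X5i, Matrix.mul_apply, Fin.sum_univ_four]

theorem X5i_mul_X5 (τ : F) : X5i τ * X5 τ = 1 := by
  ext a b
  fin_cases a <;> fin_cases b <;> simp [X5, X5i, Matrix.mul_apply, Fin.sum_univ_four]

theorem X5_mul_X5 (τ : F) : X5 τ * X5 τ = X5sq τ := by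
  ext a b
  fin_cases a <;> fin_cases b <;> simp [X5, X5sq, Matrix.mul_apply, Fin.sum_univ_four] <;> ring

theorem X5sq_mul_X5sq (τ : F) : X5sq τ * X5sq τ = X5qu τ := by
  ext a b
  fin_cases a <;> fin_cases b <;> simp [X5sq, X5qu, Matrix.mul_apply, Fin.sum_univ_four] <;> ring

theorem X5qu_mul_X5 (τ : F) (hτ : τ ^ 2 + τ - 1 = 0) : X5qu τ * X5 τ = 1 := by
  ext a b
  fin_cases a <;> fin_cases b <;> simp [X5qu, X5, Matrix.mul_apply, Fin.sum_univ_four] <;>
    first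
    | linear_combination (1 - τ) * hτ
    | linear_combination (τ ^ 2 - τ - 1) * hτ
    | linear_combination (-(τ ^ 2 - τ - 1)) * hτ
    | linear_combination (τ ^ 3 - τ ^ 2 - 2 * τ + 1) * hτ

/-- `diag(B, 1, 1)` as an element of `GL_4(F)` -/
def x5G (τ : F) : GL (Fin 4) F := ⟨X5 τ, X5i τ, X5_mul_X5i τ, X5i_mul_X5 τ⟩

theorem x5G_val (τ : F) : ((x5G τ : GL (Fin 4) F) : M4 F) = X5 τ := rfl

theorem x5G_inv_val (τ : F) : (((x5G τ)⁻¹ : GL (Fin 4) F) : M4 F) = X5i τ := rfl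

theorem x5G_pow (τ : F) (hτ : τ ^ 2 + τ - 1 = 0) : (x5G τ) ^ 5 = 1 := by
  apply Units.ext
  rw [Units.val_pow_eq_pow_val, x5G_val, Units.val_one]
  calc X5 τ ^ 5 = (X5 τ * X5 τ) * (X5 τ * X5 τ) * X5 τ := by
        rw [show (5 : ℕ) = 2 + 2 + 1 from rfl, pow_add, pow_add, pow_two, pow_one]
    _ = 1 := by rw [X5_mul_X5, X5sq_mul_X5sq, X5qu_mul_X5 τ hτ]

theorem trace_X5 (τ : F) : Matrix.trace (X5 τ) = τ + 2 := by
  rw [Matrix.trace, Fin.sum_univ_four]
  simp [X5]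
  ring

theorem trace_X5i (τ : F) : Matrix.trace (X5i τ) = τ + 2 := by
  rw [Matrix.trace, Fin.sum_univ_four]
  simp [X5i]
  ring

theorem det_X5 (τ : F) : (X5 τ).det = 1 := by
  have h1 : X5 τ = Matrix.of ![![0, -1, 0, 0], ![1, τ, 0, 0], ![0, 0, 1, 0], ![0, 0, 0, 1]] := rfl
  rw [h1, Matrix.det_succ_row_zero, Fin.sum_univ_four]
  simp [Matrix.det_fin_three, Fin.succAbove, Matrix.submatrix]

theorem x5G_not_sc (τ : F) : ¬ IsSc (x5G τ) := by
  rintro ⟨c, hc⟩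
  rw [x5G_val] at hc
  have h1 := congrFun (congrFun hc 1) 0
  simp [X5] at h1

section

variable [Fintype F] {R : Subgroup (GL (Fin 4) F)} {i : Fˣ}

/-- `diag(B, 1, 1)` is a derangement -/
theorem Sy.derange5 (h : Sy R i) (h5 : (5 : F) ≠ 0) (τ : F) (hτ : τ ^ 2 + τ - 1 = 0)
    (g : GL (Fin 4) F) :
    g⁻¹ * x5G τ * g ∉ Subgroup.normalizer (R : Set (GL (Fin 4) F)) := by
  intro hmem
  have hsc : IsSc ((g⁻¹ * x5G τ * g) ^ 5) := by
    rw [conj_pow', x5G_pow τ hτ, mul_one, inv_mul_cancel]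
    exact isSc_one
  have hns : ¬ IsSc (g⁻¹ * x5G τ * g) := by
    rw [isSc_conj_iff]
    exact x5G_not_sc τ
  have hc := h.derange_five hmem hsc hns
  have einv : (g⁻¹ * x5G τ * g)⁻¹ = g⁻¹ * (x5G τ)⁻¹ * g := by group
  rw [einv, trace_conj, trace_conj, x5G_val, x5G_inv_val, trace_X5, trace_X5i] at hc
  apply h5
  linear_combination (-(3 * τ + 8)) * hτ + (3 * τ - 1) * hc

end

/-! ### transvections -/

/-- the elementary transvection `1 + E₀₁` -/
def tvG : GL (Fin 4) F :=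
  ⟨Matrix.transvection 0 1 1, Matrix.transvection 0 1 (-1),
    by rw [Matrix.transvection_mul_transvection_same (0 : Fin 4) 1 (by decide), add_neg_cancel,
      Matrix.transvection_zero],
    by rw [Matrix.transvection_mul_transvection_same (0 : Fin 4) 1 (by decide), neg_add_cancel,
      Matrix.transvection_zero]⟩

theorem tvG_val : ((tvG : GL (Fin 4) F) : M4 F) = Matrix.transvection 0 1 1 := rfl

theorem tvG_inv_val : (((tvG : GL (Fin 4) F)⁻¹ : GL (Fin 4) F) : M4 F) =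
    Matrix.transvection 0 1 (-1) := rfl

theorem tvG_pow_val (k : ℕ) : (((tvG : GL (Fin 4) F) ^ k : GL (Fin 4) F) : M4 F) =
    Matrix.transvection 0 1 (k : F) := by
  induction k with
  | zero => simp
  | succ k ih =>
    rw [pow_succ, Units.val_mul, ih, tvG_val,
      Matrix.transvection_mul_transvection_same (0 : Fin 4) 1 (by decide), Nat.cast_succ]

theorem tvG_pow_char (p : ℕ) [CharP F p] : (tvG : GL (Fin 4) F) ^ p = 1 := by
  apply Units.ext
  rw [tvG_pow_val, CharP.cast_eq_zero, Matrix.transvection_zero, Units.val_one]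

theorem tvG_det : ((tvG : GL (Fin 4) F) : M4 F).det = 1 := by
  rw [tvG_val, Matrix.det_transvection_of_ne _ _ (by decide)]

theorem tvG_not_sc : ¬ IsSc (tvG : GL (Fin 4) F) := by
  rintro ⟨c, hc⟩
  rw [tvG_val] at hc
  have h1 := congrFun (congrFun hc 0) 1
  simp [Matrix.transvection] at h1

theorem tv_eq (c : F) : Matrix.transvection (0 : Fin 4) 1 c =
    1 + vecMulVec (Pi.single 0 c) (Pi.single 1 1) := by
  unfold Matrix.transvection
  congr 1
  ext a b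
  simp [Matrix.single, vecMulVec, Pi.single_apply]
  by_cases ha : a = 0 <;> by_cases hb : b = 1 <;> simp [ha, hb, eq_comm]

section

variable [Fintype F] {R : Subgroup (GL (Fin 4) F)} {i : Fˣ}

/-- transvections are derangements -/
theorem Sy.derange_tv (h : Sy R i) (g : GL (Fin 4) F) :
    g⁻¹ * tvG * g ∉ Subgroup.normalizer (R : Set (GL (Fin 4) F)) := by
  set G := (g : M4 F) with hG
  set Gi := ((g⁻¹ : GL (Fin 4) F) : M4 F) with hGi
  have hGiG : Gi * G = 1 := by rw [hGi, hG, ← Units.val_mul, inv_mul_cancel, Units.val_one]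
  have hGGi : G * Gi = 1 := by rw [hGi, hG, ← Units.val_mul, mul_inv_cancel, Units.val_one]
  apply h.not_tv (g⁻¹ * tvG * g) (Gi *ᵥ (Pi.single 0 1)) ((Pi.single 1 1 : Fin 4 → F) ᵥ* G)
  · rw [Units.val_mul, Units.val_mul, tvG_val, tv_eq, Matrix.mul_add, Matrix.add_mul,
      Matrix.mul_one, hGiG, mul_vecMulVec, vecMulVec_mul]
  · have e : (g⁻¹ * tvG * g)⁻¹ = g⁻¹ * tvG⁻¹ * g := by group
    rw [e, Units.val_mul, Units.val_mul, tvG_inv_val, tv_eq]
    have e2 : vecMulVec (Pi.single (0 : Fin 4) (-1 : F)) (Pi.single (1 : Fin 4) (1 : F)) =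
        -vecMulVec (Pi.single (0 : Fin 4) (1 : F)) (Pi.single (1 : Fin 4) (1 : F)) := by
      rw [← Matrix.neg_vecMulVec]
      congr 1
      ext a
      simp only [Pi.single_apply, Pi.neg_apply]
      split_ifs <;> simp
    rw [e2, ← sub_eq_add_neg, Matrix.mul_sub, Matrix.sub_mul, Matrix.mul_one, hGiG,
      mul_vecMulVec, vecMulVec_mul]
  · rw [Ne, vecMulVec_eq_zero, not_or]
    constructor
    · intro h0
      have h1 : (Pi.single 0 1 : Fin 4 → F) = G *ᵥ (Gi *ᵥ (Pi.single 0 1)) := by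
        rw [Matrix.mulVec_mulVec, hGGi, Matrix.one_mulVec]
      rw [h0, Matrix.mulVec_zero] at h1
      have := congrFun h1 0
      simp at this
    · intro h0
      have h1 : (Pi.single 1 1 : Fin 4 → F) = ((Pi.single 1 1 : Fin 4 → F) ᵥ* G) ᵥ* Gi := by
        rw [Matrix.vecMul_vecMul, hGGi, Matrix.vecMul_one]
      rw [h0, Matrix.zero_vecMul] at h1
      have := congrFun h1 1
      simp at this

end

end Cfsg.Agent.Lib.H2.Sy4
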