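import Mathlib
import Cfsg.Agent.Lib.H2.Sy4C

/-!
# Elements normalizing `4 ∘ 2^{1+4}`: matrix identities (helper2)

* `QP A B`: quaternion pairs of matrices (`A² = B² = -1`, `BA = -AB`), `U A B = 1 + A + B + AB`.
* `MF A B C D`: symplectic frames of involutory matrices, `S2 A B C D = 1 + AC + BD - ABCD`
  (twice the "swap").
-/

set_option autoImplicit false
set_option linter.unusedSectionVars false
set_option linter.unusedSimpArgs false
open scoped MatrixGroups
open Matrix

namespace Cfsg.Agent.Lib.H2.Sy4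

variable {F : Type*} [Field F]

/-! ### quaternion pairs -/

/-- a quaternion pair of matrices -/
structure QP (A B : M4 F) : Prop where
  aa : A * A = -1
  bb : B * B = -1
  ba : B * A = -(A * B)

/-- `1 + A + B + AB` -/
def U (A B : M4 F) : M4 F := 1 + A + B + A * B

namespace QP

variable {A B : M4 F}

theorem aa' (h : QP A B) (X : M4 F) : A * (A * X) = -X := by
  rw [← mul_assoc, h.aa, neg_mul, one_mul]

theorem bb' (h : QP A B) (X : M4 F) : B * (B * X) = -X := by
  rw [← mul_assoc, h.bb, neg_mul, one_mul]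

theorem ba' (h : QP A B) (X : M4 F) : B * (A * X) = -(A * (B * X)) := by
  rw [← mul_assoc, h.ba, neg_mul, mul_assoc]

/-- the opposite pair, giving the inverse of `U` -/
theorem opp (h : QP A B) : QP (-B) (-A) := by
  refine ⟨?_, ?_, ?_⟩
  · rw [neg_mul_neg, h.bb]
  · rw [neg_mul_neg, h.aa]
  · rw [neg_mul_neg, neg_mul_neg, h.ba, neg_neg]

theorem U_opp (h : QP A B) : U (-B) (-A) = 1 - A - B - A * B := by
  unfold U
  rw [neg_mul_neg, h.ba]
  abel

theorem U_mul_A (h : QP A B) : U A B * A = B * U A B := by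
  unfold U
  simp only [add_mul, mul_add, one_mul, mul_one, mul_assoc, h.aa, h.bb, h.ba, h.aa', h.bb', h.ba',
    mul_neg, neg_mul, neg_neg]
  abel

theorem U_mul_B (h : QP A B) : U A B * B = (A * B) * U A B := by
  unfold U
  simp only [add_mul, mul_add, one_mul, mul_one, mul_assoc, h.aa, h.bb, h.ba, h.aa', h.bb', h.ba',
    mul_neg, neg_mul, neg_neg]
  abel

theorem U_mul_opp (h : QP A B) : U A B * U (-B) (-A) = 1 + 1 + 1 + 1 := by
  rw [h.U_opp]
  unfold U
  simp only [add_mul, mul_add, sub_mul, mul_sub, one_mul, mul_one, mul_assoc, h.aa, h.bb, h.ba,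
    h.aa', h.bb', h.ba', mul_neg, neg_mul, neg_neg]
  abel

theorem opp_mul_U (h : QP A B) : U (-B) (-A) * U A B = 1 + 1 + 1 + 1 := by
  rw [h.U_opp]
  unfold U
  simp only [add_mul, mul_add, sub_mul, mul_sub, one_mul, mul_one, mul_assoc, h.aa, h.bb, h.ba,
    h.aa', h.bb', h.ba', mul_neg, neg_mul, neg_neg]
  abel

/-- `U² - 2U + 4 = 0` -/
theorem U_sq (h : QP A B) : U A B * U A B + (1 + 1 + 1 + 1) = U A B + U A B := by
  unfold U
  simp only [add_mul, mul_add, one_mul, mul_one, mul_assoc, h.aa, h.bb, h.ba, h.aa', h.bb', h.ba',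
    mul_neg, neg_mul, neg_neg]
  abel

/-- anything commuting with `A` and `B` commutes with `U A B` -/
theorem comm_U (_h : QP A B) {X : M4 F} (hA : X * A = A * X) (hB : X * B = B * X) :
    X * U A B = U A B * X := by
  unfold U
  simp only [add_mul, mul_add, one_mul, mul_one]
  rw [hA, hB, ← mul_assoc, hA, mul_assoc, hB, mul_assoc]

/-- `tr (A X) = 0` if `X` commutes with an invertible `B` anticommuting with `A` -/
theorem trace_mul_eq_zero (h2 : (2 : F) ≠ 0) {A B X : M4 F} (hbb : B * B = -1)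
    (hba : B * A = -(A * B)) (hX : X * B = B * X) : Matrix.trace (A * X) = 0 := by
  have e1 : B * (A * X) * B = A * X := by
    rw [← mul_assoc, hba, neg_mul, neg_mul, mul_assoc, mul_assoc, hX, ← mul_assoc B B X, hbb,
      neg_mul, one_mul, mul_neg, neg_neg]
  have e2 : Matrix.trace (A * X) = -Matrix.trace (A * X) := by
    nth_rewrite 1 [← e1]
    rw [Matrix.trace_mul_comm, ← mul_assoc, hbb, neg_mul, one_mul, Matrix.trace_neg]
  have e3 : (2 : F) * Matrix.trace (A * X) = 0 := by
    rw [two_mul]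
    nth_rewrite 1 [e2]
    exact neg_add_cancel _
  rcases mul_eq_zero.1 e3 with h3 | h3
  · exact absurd h3 h2
  · exact h3

/-- `tr (U X) = tr X` for `X` commuting with `A` and `B` -/
theorem trace_U_mul (h : QP A B) (h2 : (2 : F) ≠ 0) {X : M4 F} (hA : X * A = A * X)
    (hB : X * B = B * X) : Matrix.trace (U A B * X) = Matrix.trace X := by
  unfold U
  rw [add_mul, add_mul, add_mul, one_mul, Matrix.trace_add, Matrix.trace_add, Matrix.trace_add,
    trace_mul_eq_zero h2 h.bb h.ba hB]
  have h1 : Matrix.trace (B * X) = 0 := by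
    apply trace_mul_eq_zero h2 h.aa _ hA
    rw [h.ba, neg_neg]
  have h3 : Matrix.trace (A * B * X) = 0 := by
    apply trace_mul_eq_zero h2 h.aa _ hA
    rw [← mul_assoc, h.aa, mul_assoc, h.ba, mul_neg, ← mul_assoc, h.aa]
    simp
  rw [h1, h3, add_zero, add_zero, add_zero]

end QP

/-! ### symplectic frames of matrices -/

/-- a symplectic frame of involutory matrices -/
structure MF (A B C D : M4 F) : Prop where
  aa : A * A = 1
  bb : B * B = 1
  cc : C * C = 1
  dd : D * D = 1
  ba : B * A = -(A * B)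
  dc : D * C = -(C * D)
  ca : C * A = A * C
  da : D * A = A * D
  cb : C * B = B * C
  db : D * B = B * D

/-- twice the swap of the two factors -/
def S2 (A B C D : M4 F) : M4 F := 1 + A * C + B * D - A * B * C * D

namespace MF

variable {A B C D : M4 F}

theorem aa' (h : MF A B C D) (X : M4 F) : A * (A * X) = X := by
  rw [← mul_assoc, h.aa, one_mul]

theorem bb' (h : MF A B C D) (X : M4 F) : B * (B * X) = X := by
  rw [← mul_assoc, h.bb, one_mul]

theorem cc' (h : MF A B C D) (X : M4 F) : C * (C * X) = X := by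
  rw [← mul_assoc, h.cc, one_mul]

theorem dd' (h : MF A B C D) (X : M4 F) : D * (D * X) = X := by
  rw [← mul_assoc, h.dd, one_mul]

theorem ba' (h : MF A B C D) (X : M4 F) : B * (A * X) = -(A * (B * X)) := by
  rw [← mul_assoc, h.ba, neg_mul, mul_assoc]

theorem dc' (h : MF A B C D) (X : M4 F) : D * (C * X) = -(C * (D * X)) := by
  rw [← mul_assoc, h.dc, neg_mul, mul_assoc]

theorem ca' (h : MF A B C D) (X : M4 F) : C * (A * X) = A * (C * X) := by
  rw [← mul_assoc, h.ca, mul_assoc]

theorem da' (h : MF A B C D) (X : M4 F) : D * (A * X) = A * (D * X) := by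
  rw [← mul_assoc, h.da, mul_assoc]

theorem cb' (h : MF A B C D) (X : M4 F) : C * (B * X) = B * (C * X) := by
  rw [← mul_assoc, h.cb, mul_assoc]

theorem db' (h : MF A B C D) (X : M4 F) : D * (B * X) = B * (D * X) := by
  rw [← mul_assoc, h.db, mul_assoc]

theorem S2_sq (h : MF A B C D) : S2 A B C D * S2 A B C D = 1 + 1 + 1 + 1 := by
  unfold S2
  simp only [add_mul, mul_add, sub_mul, mul_sub, one_mul, mul_one, mul_assoc, h.aa, h.bb, h.cc,
    h.dd, h.ba, h.dc, h.ca, h.da, h.cb, h.db, h.aa', h.bb', h.cc', h.dd', h.ba', h.dc', h.ca',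
    h.da', h.cb', h.db', mul_neg, neg_mul, neg_neg]
  abel

theorem S2_mul_A (h : MF A B C D) : S2 A B C D * A = C * S2 A B C D := by
  unfold S2
  simp only [add_mul, mul_add, sub_mul, mul_sub, one_mul, mul_one, mul_assoc, h.aa, h.bb, h.cc,
    h.dd, h.ba, h.dc, h.ca, h.da, h.cb, h.db, h.aa', h.bb', h.cc', h.dd', h.ba', h.dc', h.ca',
    h.da', h.cb', h.db', mul_neg, neg_mul, neg_neg]
  abel

theorem S2_mul_B (h : MF A B C D) : S2 A B C D * B = D * S2 A B C D := by
  unfold S2
  simp only [add_mul, mul_add, sub_mul, mul_sub, one_mul, mul_one, mul_assoc, h.aa, h.bb, h.cc,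
    h.dd, h.ba, h.dc, h.ca, h.da, h.cb, h.db, h.aa', h.bb', h.cc', h.dd', h.ba', h.dc', h.ca',
    h.da', h.cb', h.db', mul_neg, neg_mul, neg_neg]
  abel

theorem S2_mul_C (h : MF A B C D) : S2 A B C D * C = A * S2 A B C D := by
  unfold S2
  simp only [add_mul, mul_add, sub_mul, mul_sub, one_mul, mul_one, mul_assoc, h.aa, h.bb, h.cc,
    h.dd, h.ba, h.dc, h.ca, h.da, h.cb, h.db, h.aa', h.bb', h.cc', h.dd', h.ba', h.dc', h.ca',
    h.da', h.cb', h.db', mul_neg, neg_mul, neg_neg]
  abel

theorem S2_mul_D (h : MF A B C D) : S2 A B C D * D = B * S2 A B C D := by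
  unfold S2
  simp only [add_mul, mul_add, sub_mul, mul_sub, one_mul, mul_one, mul_assoc, h.aa, h.bb, h.cc,
    h.dd, h.ba, h.dc, h.ca, h.da, h.cb, h.db, h.aa', h.bb', h.cc', h.dd', h.ba', h.dc', h.ca',
    h.da', h.cb', h.db', mul_neg, neg_mul, neg_neg]
  abel

/-- anything commuting with `A, B, C, D` commutes with `S2` -/
theorem comm_S2 (_h : MF A B C D) {X : M4 F} (hA : X * A = A * X) (hB : X * B = B * X)
    (hC : X * C = C * X) (hD : X * D = D * X) : X * S2 A B C D = S2 A B C D * X := by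
  unfold S2
  have e1 : X * (A * C) = A * C * X := by rw [← mul_assoc, hA, mul_assoc, hC, mul_assoc]
  have e2 : X * (B * D) = B * D * X := by rw [← mul_assoc, hB, mul_assoc, hD, mul_assoc]
  have e3 : X * (A * B * C * D) = A * B * C * D * X := by
    simp only [mul_assoc]
    rw [← mul_assoc X A, hA, mul_assoc A X, ← mul_assoc X B, hB, mul_assoc B X, ← mul_assoc X C,
      hC, mul_assoc C X, hD]
  rw [mul_sub, mul_add, mul_add, mul_one, e1, e2, e3, sub_mul, add_mul, add_mul, one_mul]

end MF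

end Cfsg.Agent.Lib.H2.Sy4
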