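import Mathlib
import Cfsg.Agent.Lib.H2.Sy4D
import Cfsg.Agent.Lib.H2.Sy4F

/-!
# Elements of `GL_4(F)` normalizing `4 ∘ 2^{1+4}` (helper2)
-/

set_option autoImplicit false
set_option linter.unusedSectionVars false
set_option linter.unusedSimpArgs false
open scoped MatrixGroups
open Matrix

namespace Cfsg.Agent.Lib.H2.Sy4

/-- an element conjugating a finite subgroup into itself normalizes it -/
theorem mem_normalizer_of_forall_conj_mem {G : Type*} [Group G] (H : Subgroup G) [Finite H]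
    (t : G) (ht : ∀ g ∈ H, t * g * t⁻¹ ∈ H) : t ∈ Subgroup.normalizer (H : Set G) := by
  rw [Subgroup.mem_normalizer_iff]
  intro k
  refine ⟨ht k, fun hk => ?_⟩
  let φ : H → H := fun g => ⟨t * g.1 * t⁻¹, ht g.1 g.2⟩
  have hinj : Function.Injective φ := by
    intro g₁ g₂ h12
    have h1 : t * g₁.1 * t⁻¹ = t * g₂.1 * t⁻¹ := congrArg Subtype.val h12
    apply Subtype.ext
    exact mul_left_cancel (mul_right_cancel h1)
  have hsurj : Function.Surjective φ := Finite.injective_iff_surjective.1 hinj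
  obtain ⟨g, hg⟩ := hsurj ⟨t * k * t⁻¹, hk⟩
  have h1 : t * g.1 * t⁻¹ = t * k * t⁻¹ := congrArg Subtype.val hg
  have h2 : g.1 = k := mul_left_cancel (mul_right_cancel h1)
  rw [← h2]
  exact g.2

variable {F : Type*} [Field F]

theorem not_isSc_of_anti (h2 : (2 : F) ≠ 0) {g k : GL (Fin 4) F} (hgk : g * k = -(k * g)) :
    ¬ IsSc g := by
  intro hs
  rw [hs.comm k] at hgk
  exact neg_ne_self h2 _ hgk.symm

theorem val_neg_one : (((-1 : GL (Fin 4) F)) : M4 F) = -1 := by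
  rw [Units.val_neg, Units.val_one]

/-- the matrix frame of a frame -/
theorem Frame.mf {R : Subgroup (GL (Fin 4) F)} {a b c d : GL (Fin 4) F} (fr : Frame R a b c d) :
    MF (a : M4 F) (b : M4 F) (c : M4 F) (d : M4 F) := by
  have hba : b * a = -(a * b) := by rw [fr.ab, neg_neg]
  have hdc : d * c = -(c * d) := by rw [fr.cd, neg_neg]
  refine ⟨?_, ?_, ?_, ?_, ?_, ?_, ?_, ?_, ?_, ?_⟩
  · rw [← Units.val_mul, fr.aa, Units.val_one]
  · rw [← Units.val_mul, fr.bb, Units.val_one]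
  · rw [← Units.val_mul, fr.cc, Units.val_one]
  · rw [← Units.val_mul, fr.dd, Units.val_one]
  · rw [← Units.val_mul, hba, Units.val_neg, Units.val_mul]
  · rw [← Units.val_mul, hdc, Units.val_neg, Units.val_mul]
  · rw [← Units.val_mul, ← fr.ac, Units.val_mul]
  · rw [← Units.val_mul, ← fr.ad, Units.val_mul]
  · rw [← Units.val_mul, ← fr.bc, Units.val_mul]
  · rw [← Units.val_mul, ← fr.bd, Units.val_mul]

/-! ### the elements `1 + u` -/

/-- `1 + u` for `u² = -1` -/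
noncomputable def wG (h2 : (2 : F) ≠ 0) (u : GL (Fin 4) F) (huu : u * u = -1) : GL (Fin 4) F :=
  ⟨1 + (u : M4 F), (2⁻¹ : F) • (1 - (u : M4 F)), by
    have h1 : (u : M4 F) * (u : M4 F) = -1 := by rw [← Units.val_mul, huu, val_neg_one]
    rw [Matrix.mul_smul]
    have : (1 + (u : M4 F)) * (1 - (u : M4 F)) = (2 : F) • (1 : M4 F) := by
      rw [two_smul]
      calc (1 + (u : M4 F)) * (1 - (u : M4 F)) = 1 - (u : M4 F) * (u : M4 F) := by noncomm_ring
        _ = 1 + 1 := by rw [h1, sub_neg_eq_add]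
    rw [this, smul_smul, inv_mul_cancel₀ h2, one_smul], by
    have h1 : (u : M4 F) * (u : M4 F) = -1 := by rw [← Units.val_mul, huu, val_neg_one]
    rw [Matrix.smul_mul]
    have : (1 - (u : M4 F)) * (1 + (u : M4 F)) = (2 : F) • (1 : M4 F) := by
      rw [two_smul]
      calc (1 - (u : M4 F)) * (1 + (u : M4 F)) = 1 - (u : M4 F) * (u : M4 F) := by noncomm_ring
        _ = 1 + 1 := by rw [h1, sub_neg_eq_add]
    rw [this, smul_smul, inv_mul_cancel₀ h2, one_smul]⟩

theorem wG_val (h2 : (2 : F) ≠ 0) (u : GL (Fin 4) F) (huu : u * u = -1) :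
    ((wG h2 u huu : GL (Fin 4) F) : M4 F) = 1 + (u : M4 F) := rfl

theorem wG_conj_comm (h2 : (2 : F) ≠ 0) (u : GL (Fin 4) F) (huu : u * u = -1) (g : GL (Fin 4) F)
    (hg : g * u = u * g) : wG h2 u huu * g * (wG h2 u huu)⁻¹ = g := by
  have h1 : wG h2 u huu * g = g * wG h2 u huu := by
    apply Units.ext
    rw [Units.val_mul, Units.val_mul, wG_val, add_mul, mul_add, one_mul, mul_one,
      ← Units.val_mul, ← Units.val_mul, hg]
  rw [h1, mul_assoc, mul_inv_cancel, mul_one]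

theorem wG_conj_anti (h2 : (2 : F) ≠ 0) (u : GL (Fin 4) F) (huu : u * u = -1) (g : GL (Fin 4) F)
    (hg : g * u = -(u * g)) : wG h2 u huu * g * (wG h2 u huu)⁻¹ = u * g := by
  have h1 : wG h2 u huu * g = (u * g) * wG h2 u huu := by
    apply Units.ext
    have e1 : ((u * g * u : GL (Fin 4) F) : M4 F) = (g : M4 F) := by
      have : u * g * u = g := by
        rw [mul_assoc, hg, mul_neg, ← mul_assoc, huu, neg_mul, one_mul, neg_neg]
      rw [this]
    rw [Units.val_mul, Units.val_mul, wG_val, add_mul, mul_add, one_mul, mul_one,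
      ← Units.val_mul, ← Units.val_mul, e1, add_comm]
  rw [h1, mul_assoc, mul_inv_cancel, mul_one]

section

variable [Fintype F] {R : Subgroup (GL (Fin 4) F)} {i : Fˣ}

theorem Sy.wG_mem_normalizer (h : Sy R i) (u : GL (Fin 4) F) (hu : u ∈ R) (huu : u * u = -1) :
    wG h.two_ne u huu ∈ Subgroup.normalizer (R : Set (GL (Fin 4) F)) := by
  apply mem_normalizer_of_forall_conj_mem
  intro g hg
  rcases h.comm g hg u hu with h1 | h1
  · rw [wG_conj_comm h.two_ne u huu g h1]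
    exact hg
  · rw [wG_conj_anti h.two_ne u huu g h1]
    exact R.mul_mem hu hg

/-- the criterion for elements built from a frame -/
theorem Sy.mem_normalizer_of_frame (h : Sy R i) {a b c d : GL (Fin 4) F} (fr : Frame R a b c d)
    (t : GL (Fin 4) F)
    (hcomm : ∀ g ∈ R, g * a = a * g → g * b = b * g → g * c = c * g → g * d = d * g →
      t * g = g * t)
    (ha : t * a * t⁻¹ ∈ R) (hb : t * b * t⁻¹ ∈ R) (hc : t * c * t⁻¹ ∈ R)
    (hd : t * d * t⁻¹ ∈ R) : t ∈ Subgroup.normalizer (R : Set (GL (Fin 4) F)) := by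
  apply mem_normalizer_of_forall_conj_mem
  intro g hg
  have hconj_mul : ∀ x y : GL (Fin 4) F, t * (x * y) * t⁻¹ = (t * x * t⁻¹) * (t * y * t⁻¹) := by
    intro x y; group
  obtain ⟨q₁, hq₁, h1a, h1b⟩ := h.exists_adj_comm fr.ha fr.hb fr.ab hg
  have hq₁R : q₁ ∈ R := by
    rcases hq₁ with rfl | rfl | rfl | rfl
    · exact R.one_mem
    · exact fr.ha
    · exact fr.hb
    · exact R.mul_mem fr.ha fr.hb
  have hq₁t : t * q₁ * t⁻¹ ∈ R := by
    rcases hq₁ with rfl | rfl | rfl | rfl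
    · rw [mul_one, mul_inv_cancel]; exact R.one_mem
    · exact ha
    · exact hb
    · rw [hconj_mul]; exact R.mul_mem ha hb
  obtain ⟨q₂, hq₂, h2c, h2d⟩ := h.exists_adj_comm fr.hc fr.hd fr.cd (R.mul_mem hg hq₁R)
  have hq₂R : q₂ ∈ R := by
    rcases hq₂ with rfl | rfl | rfl | rfl
    · exact R.one_mem
    · exact fr.hc
    · exact fr.hd
    · exact R.mul_mem fr.hc fr.hd
  have hq₂t : t * q₂ * t⁻¹ ∈ R := by
    rcases hq₂ with rfl | rfl | rfl | rfl
    · rw [mul_one, mul_inv_cancel]; exact R.one_mem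
    · exact hc
    · exact hd
    · rw [hconj_mul]; exact R.mul_mem hc hd
  have hq₂a : q₂ * a = a * q₂ := by
    rcases hq₂ with rfl | rfl | rfl | rfl
    · rw [one_mul, mul_one]
    · exact fr.ac.symm
    · exact fr.ad.symm
    · rw [mul_assoc, ← fr.ad, ← mul_assoc, ← fr.ac, mul_assoc]
  have hq₂b : q₂ * b = b * q₂ := by
    rcases hq₂ with rfl | rfl | rfl | rfl
    · rw [one_mul, mul_one]
    · exact fr.bc.symm
    · exact fr.bd.symm
    · rw [mul_assoc, ← fr.bd, ← mul_assoc, ← fr.bc, mul_assoc]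
  set g₀ := g * q₁ * q₂ with hg₀
  have hg₀R : g₀ ∈ R := R.mul_mem (R.mul_mem hg hq₁R) hq₂R
  have hg₀a : g₀ * a = a * g₀ := by
    rw [hg₀, mul_assoc, hq₂a, ← mul_assoc, h1a, mul_assoc]
  have hg₀b : g₀ * b = b * g₀ := by
    rw [hg₀, mul_assoc, hq₂b, ← mul_assoc, h1b, mul_assoc]
  have ht0 : t * g₀ * t⁻¹ = g₀ := by
    rw [hcomm g₀ hg₀R hg₀a hg₀b h2c h2d, mul_assoc, mul_inv_cancel, mul_one]
  have hg : g = g₀ * q₂⁻¹ * q₁⁻¹ := by rw [hg₀]; group
  have e : t * g * t⁻¹ = (t * g₀ * t⁻¹) * (t * q₂ * t⁻¹)⁻¹ * (t * q₁ * t⁻¹)⁻¹ := by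
    rw [hg]; group
  rw [e, ht0]
  exact R.mul_mem (R.mul_mem hg₀R (R.inv_mem hq₂t)) (R.inv_mem hq₁t)

end

/-! ### the swap -/

/-- the swap of the two factors of a frame -/
noncomputable def sG (h2 : (2 : F) ≠ 0) {A B C D : M4 F} (mf : MF A B C D) : GL (Fin 4) F :=
  ⟨(2⁻¹ : F) • S2 A B C D, (2⁻¹ : F) • S2 A B C D, by
    rw [Matrix.smul_mul, Matrix.mul_smul, mf.S2_sq, smul_smul]
    have : (1 + 1 + 1 + 1 : M4 F) = ((2 : F) * 2) • (1 : M4 F) := by
      rw [mul_smul, two_smul, two_smul]; abel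
    rw [this, smul_smul]
    have : (2⁻¹ : F) * 2⁻¹ * (2 * 2) = 1 := by field_simp
    rw [this, one_smul], by
    rw [Matrix.smul_mul, Matrix.mul_smul, mf.S2_sq, smul_smul]
    have : (1 + 1 + 1 + 1 : M4 F) = ((2 : F) * 2) • (1 : M4 F) := by
      rw [mul_smul, two_smul, two_smul]; abel
    rw [this, smul_smul]
    have : (2⁻¹ : F) * 2⁻¹ * (2 * 2) = 1 := by field_simp
    rw [this, one_smul]⟩

theorem sG_val (h2 : (2 : F) ≠ 0) {A B C D : M4 F} (mf : MF A B C D) :
    ((sG h2 mf : GL (Fin 4) F) : M4 F) = (2⁻¹ : F) • S2 A B C D := rfl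

theorem sG_mul_self (h2 : (2 : F) ≠ 0) {A B C D : M4 F} (mf : MF A B C D) :
    sG h2 mf * sG h2 mf = 1 := by
  apply Units.ext
  exact (sG h2 mf).val_inv

theorem sG_inv (h2 : (2 : F) ≠ 0) {A B C D : M4 F} (mf : MF A B C D) :
    (sG h2 mf)⁻¹ = sG h2 mf := inv_eq_of_mul_eq_one_right (sG_mul_self h2 mf)

section

variable [Fintype F] {R : Subgroup (GL (Fin 4) F)} {i : Fˣ}

theorem sG_conj (h2 : (2 : F) ≠ 0) {a b c d : GL (Fin 4) F} {R : Subgroup (GL (Fin 4) F)}
    (fr : Frame R a b c d) :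
    sG h2 fr.mf * a * (sG h2 fr.mf)⁻¹ = c ∧ sG h2 fr.mf * b * (sG h2 fr.mf)⁻¹ = d ∧
    sG h2 fr.mf * c * (sG h2 fr.mf)⁻¹ = a ∧ sG h2 fr.mf * d * (sG h2 fr.mf)⁻¹ = b := by
  have key : ∀ x y : GL (Fin 4) F,
      S2 (a : M4 F) (b : M4 F) (c : M4 F) (d : M4 F) * (x : M4 F) =
        (y : M4 F) * S2 (a : M4 F) (b : M4 F) (c : M4 F) (d : M4 F) →
      sG h2 fr.mf * x * (sG h2 fr.mf)⁻¹ = y := by
    intro x y hxy
    have h1 : sG h2 fr.mf * x = y * sG h2 fr.mf := by
      apply Units.ext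
      rw [Units.val_mul, Units.val_mul, sG_val, Matrix.smul_mul, Matrix.mul_smul, hxy]
    rw [h1, mul_assoc, mul_inv_cancel, mul_one]
  exact ⟨key a c fr.mf.S2_mul_A, key b d fr.mf.S2_mul_B, key c a fr.mf.S2_mul_C,
    key d b fr.mf.S2_mul_D⟩

theorem Sy.sG_mem_normalizer (h : Sy R i) {a b c d : GL (Fin 4) F} (fr : Frame R a b c d) :
    sG h.two_ne fr.mf ∈ Subgroup.normalizer (R : Set (GL (Fin 4) F)) := by
  obtain ⟨e1, e2, e3, e4⟩ := sG_conj h.two_ne fr
  apply h.mem_normalizer_of_frame fr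
  · intro g _ hga hgb hgc hgd
    have m : ∀ {x y : GL (Fin 4) F}, x * y = y * x → (x : M4 F) * (y : M4 F) = (y : M4 F) * (x : M4 F) := by
      intro x y hxy
      rw [← Units.val_mul, ← Units.val_mul, hxy]
    have := fr.mf.comm_S2 (m hga) (m hgb) (m hgc) (m hgd)
    apply Units.ext
    rw [Units.val_mul, Units.val_mul, sG_val, Matrix.smul_mul, Matrix.mul_smul, this]
  · rw [e1]; exact fr.hc
  · rw [e2]; exact fr.hd
  · rw [e3]; exact fr.ha
  · rw [e4]; exact fr.hb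

/-- the swap has trace two -/
theorem Sy.trace_sG (h : Sy R i) {a b c d : GL (Fin 4) F} (fr : Frame R a b c d) :
    Matrix.trace ((sG h.two_ne fr.mf : GL (Fin 4) F) : M4 F) = 2 := by
  have hba : b * a = -(a * b) := by rw [fr.ab, neg_neg]
  have t1 : Matrix.trace ((a : M4 F) * (c : M4 F)) = 0 := by
    rw [← Units.val_mul]
    apply h.trace_eq_zero (R.mul_mem fr.ha fr.hc)
    apply not_isSc_of_anti h.two_ne (k := b)
    rw [mul_assoc, ← fr.bc, ← mul_assoc, fr.ab, neg_mul, mul_assoc]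
  have t2 : Matrix.trace ((b : M4 F) * (d : M4 F)) = 0 := by
    rw [← Units.val_mul]
    apply h.trace_eq_zero (R.mul_mem fr.hb fr.hd)
    apply not_isSc_of_anti h.two_ne (k := a)
    rw [mul_assoc, ← fr.ad, ← mul_assoc, hba, neg_mul, mul_assoc]
  have t3 : Matrix.trace ((a : M4 F) * (b : M4 F) * (c : M4 F) * (d : M4 F)) = 0 := by
    rw [← Units.val_mul, ← Units.val_mul, ← Units.val_mul]
    apply h.trace_eq_zero (R.mul_mem (R.mul_mem (R.mul_mem fr.ha fr.hb) fr.hc) fr.hd)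
    apply not_isSc_of_anti h.two_ne (k := a)
    calc a * b * c * d * a = a * b * (c * (d * a)) := by group
      _ = a * b * (c * (a * d)) := by rw [fr.ad]
      _ = a * b * ((c * a) * d) := by group
      _ = a * b * ((a * c) * d) := by rw [fr.ac]
      _ = a * (b * a) * c * d := by group
      _ = -(a * (a * b * c * d)) := by rw [hba, mul_neg, neg_mul, neg_mul]; group
  rw [sG_val, Matrix.trace_smul, S2, Matrix.trace_sub, Matrix.trace_add, Matrix.trace_add,
    Matrix.trace_one, t1, t2, t3, card_fin4, add_zero, add_zero, sub_zero, smul_eq_mul]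
  have h2 := h.two_ne
  field_simp
  norm_num

end

end Cfsg.Agent.Lib.H2.Sy4
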