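import Mathlib
import Cfsg.Agent.Lib.H2.Sy4G

/-!
# Elements of order three normalizing `4 ∘ 2^{1+4}` (helper2)
-/

set_option autoImplicit false
set_option linter.unusedSectionVars false
set_option linter.unusedSimpArgs false
open scoped MatrixGroups
open Matrix

namespace Cfsg.Agent.Lib.H2.Sy4

variable {F : Type*} [Field F]

theorem four_smul_one : (1 + 1 + 1 + 1 : M4 F) = ((2 : F) * 2) • (1 : M4 F) := by
  rw [mul_smul, two_smul, two_smul]; abel

/-- `-(1 + A + B + AB) / 2` for a quaternion pair: an element of order three -/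
noncomputable def yG (h2 : (2 : F) ≠ 0) {A B : M4 F} (qp : QP A B) : GL (Fin 4) F :=
  ⟨(-(2⁻¹ : F)) • U A B, (-(2⁻¹ : F)) • U (-B) (-A), by
    rw [Matrix.smul_mul, Matrix.mul_smul, qp.U_mul_opp, smul_smul, four_smul_one, smul_smul]
    have : -(2⁻¹ : F) * -2⁻¹ * (2 * 2) = 1 := by field_simp
    rw [this, one_smul], by
    rw [Matrix.smul_mul, Matrix.mul_smul, qp.opp_mul_U, smul_smul, four_smul_one, smul_smul]
    have : -(2⁻¹ : F) * -2⁻¹ * (2 * 2) = 1 := by field_simp
    rw [this, one_smul]⟩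

theorem yG_val (h2 : (2 : F) ≠ 0) {A B : M4 F} (qp : QP A B) :
    ((yG h2 qp : GL (Fin 4) F) : M4 F) = (-(2⁻¹ : F)) • U A B := rfl

theorem yG_inv_val (h2 : (2 : F) ≠ 0) {A B : M4 F} (qp : QP A B) :
    (((yG h2 qp)⁻¹ : GL (Fin 4) F) : M4 F) = (-(2⁻¹ : F)) • U (-B) (-A) := rfl

/-- `Y² + Y + 1 = 0` -/
theorem yG_quad (h2 : (2 : F) ≠ 0) {A B : M4 F} (qp : QP A B) :
    ((yG h2 qp : GL (Fin 4) F) : M4 F) * ((yG h2 qp : GL (Fin 4) F) : M4 F) +
      ((yG h2 qp : GL (Fin 4) F) : M4 F) + 1 = 0 := by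
  rw [yG_val, Matrix.smul_mul, Matrix.mul_smul, smul_smul]
  have h1 : U A B * U A B = U A B + U A B - (1 + 1 + 1 + 1) := by
    rw [← qp.U_sq]; abel
  rw [h1, four_smul_one, smul_sub, smul_add, smul_smul]
  have e1 : -(2⁻¹ : F) * -2⁻¹ * (2 * 2) = 1 := by field_simp
  have e2 : (-(2⁻¹ : F) * -2⁻¹) • U A B + (-(2⁻¹ : F) * -2⁻¹) • U A B = (2⁻¹ : F) • U A B := by
    rw [← add_smul]
    congr 1
    field_simp
    norm_num
  rw [e1, e2, one_smul, neg_smul]
  abel

theorem yG_pow (h2 : (2 : F) ≠ 0) {A B : M4 F} (qp : QP A B) : (yG h2 qp) ^ 3 = 1 := by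
  apply Units.ext
  rw [Units.val_pow_eq_pow_val, Units.val_one]
  set Y := ((yG h2 qp : GL (Fin 4) F) : M4 F) with hY
  have h1 : Y * Y = -Y - 1 := by
    have := yG_quad h2 qp
    rw [← hY] at this
    have e : Y * Y = (Y * Y + Y + 1) - Y - 1 := by abel
    rw [e, this]; abel
  calc Y ^ 3 = Y * (Y * Y) := by rw [pow_succ, pow_two, mul_assoc]
    _ = Y * (-Y - 1) := by rw [h1]
    _ = -(Y * Y) - Y := by rw [mul_sub, mul_neg, mul_one]
    _ = -(-Y - 1) - Y := by rw [h1]
    _ = 1 := by abel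

/-- conjugation by `yG` -/
theorem yG_mul_a (h2 : (2 : F) ≠ 0) {a b : GL (Fin 4) F} (qp : QP (a : M4 F) (b : M4 F)) :
    yG h2 qp * a = b * yG h2 qp := by
  apply Units.ext
  rw [Units.val_mul, Units.val_mul, yG_val, Matrix.smul_mul, Matrix.mul_smul, qp.U_mul_A]

theorem yG_mul_b (h2 : (2 : F) ≠ 0) {a b : GL (Fin 4) F} (qp : QP (a : M4 F) (b : M4 F)) :
    yG h2 qp * b = (a * b) * yG h2 qp := by
  apply Units.ext
  rw [Units.val_mul, Units.val_mul, yG_val, Matrix.smul_mul, Matrix.mul_smul, qp.U_mul_B,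
    Units.val_mul]

theorem yG_comm (h2 : (2 : F) ≠ 0) {A B : M4 F} (qp : QP A B) {g : GL (Fin 4) F}
    (hA : (g : M4 F) * A = A * (g : M4 F)) (hB : (g : M4 F) * B = B * (g : M4 F)) :
    g * yG h2 qp = yG h2 qp * g := by
  apply Units.ext
  rw [Units.val_mul, Units.val_mul, yG_val, Matrix.smul_mul, Matrix.mul_smul, qp.comm_U hA hB]

/-- a quaternion pair of group elements gives a quaternion pair of matrices -/
theorem qp_of_units {a b : GL (Fin 4) F} (haa : a * a = -1) (hbb : b * b = -1)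
    (hba : b * a = -(a * b)) : QP (a : M4 F) (b : M4 F) := by
  refine ⟨?_, ?_, ?_⟩
  · rw [← Units.val_mul, haa, val_neg_one]
  · rw [← Units.val_mul, hbb, val_neg_one]
  · rw [← Units.val_mul, hba, Units.val_neg, Units.val_mul]

section

variable [Fintype F] {R : Subgroup (GL (Fin 4) F)} {i : Fˣ}

theorem Sy.yG_mem_normalizer (h : Sy R i) {a b : GL (Fin 4) F} (ha : a ∈ R) (hb : b ∈ R)
    (haa : a * a = -1) (hbb : b * b = -1) (hba : b * a = -(a * b)) :
    yG h.two_ne (qp_of_units haa hbb hba) ∈ Subgroup.normalizer (R : Set (GL (Fin 4) F)) := by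
  set qp := qp_of_units haa hbb hba
  set t := yG h.two_ne qp with ht
  have hab : a * b = -(b * a) := by rw [hba, neg_neg]
  have e1 : t * a * t⁻¹ = b := by
    rw [ht, yG_mul_a, mul_assoc, mul_inv_cancel, mul_one]
  have e2 : t * b * t⁻¹ = a * b := by
    rw [ht, yG_mul_b, mul_assoc, mul_inv_cancel, mul_one]
  apply mem_normalizer_of_forall_conj_mem
  intro g hg
  obtain ⟨q, hq, h1a, h1b⟩ := h.exists_adj_comm ha hb hab hg
  have hqR : q ∈ R := by
    rcases hq with rfl | rfl | rfl | rfl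
    · exact R.one_mem
    · exact ha
    · exact hb
    · exact R.mul_mem ha hb
  have hqt : t * q * t⁻¹ ∈ R := by
    rcases hq with rfl | rfl | rfl | rfl
    · rw [mul_one, mul_inv_cancel]; exact R.one_mem
    · rw [e1]; exact hb
    · rw [e2]; exact R.mul_mem ha hb
    · have : t * (a * b) * t⁻¹ = (t * a * t⁻¹) * (t * b * t⁻¹) := by group
      rw [this, e1, e2]
      exact R.mul_mem hb (R.mul_mem ha hb)
  have hg0 : t * (g * q) * t⁻¹ = g * q := by
    have m : ∀ {x y : GL (Fin 4) F}, x * y = y * x →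
        (x : M4 F) * (y : M4 F) = (y : M4 F) * (x : M4 F) := by
      intro x y hxy
      rw [← Units.val_mul, ← Units.val_mul, hxy]
    have := yG_comm h.two_ne qp (m h1a) (m h1b)
    rw [ht, ← this, mul_assoc, mul_inv_cancel, mul_one]
  have e : t * g * t⁻¹ = (t * (g * q) * t⁻¹) * (t * q * t⁻¹)⁻¹ := by group
  rw [e, hg0]
  exact R.mul_mem (R.mul_mem hg hqR) (R.inv_mem hqt)

end

/-! ### the product of two commuting elements of order three -/

theorem trace_yG_mul_yG (h2 : (2 : F) ≠ 0) {A B C D : M4 F} (q1 : QP A B) (q2 : QP C D)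
    (hca : C * A = A * C) (hda : D * A = A * D) (hcb : C * B = B * C) (hdb : D * B = B * D) :
    Matrix.trace (((yG h2 q1 * yG h2 q2 : GL (Fin 4) F)) : M4 F) = 1 := by
  rw [Units.val_mul, yG_val, yG_val, Matrix.smul_mul, Matrix.mul_smul, smul_smul,
    Matrix.trace_smul]
  have hUA : U C D * A = A * U C D := (q2.comm_U hca.symm hda.symm).symm
  have hUB : U C D * B = B * U C D := (q2.comm_U hcb.symm hdb.symm).symm
  rw [q1.trace_U_mul h2 hUA hUB]
  have h1 : Matrix.trace (U C D) = 4 := by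
    have := q2.trace_U_mul h2 (X := 1) (by rw [one_mul, mul_one]) (by rw [one_mul, mul_one])
    rw [mul_one] at this
    rw [this, Matrix.trace_one, card_fin4]
  rw [h1, smul_eq_mul]
  field_simp
  norm_num

theorem yG_mul_comm (h2 : (2 : F) ≠ 0) {A B C D : M4 F} (q1 : QP A B) (q2 : QP C D)
    (hca : C * A = A * C) (hda : D * A = A * D) (hcb : C * B = B * C) (hdb : D * B = B * D) :
    yG h2 q1 * yG h2 q2 = yG h2 q2 * yG h2 q1 := by
  apply Units.ext
  rw [Units.val_mul, Units.val_mul, yG_val, yG_val, Matrix.smul_mul, Matrix.mul_smul,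
    Matrix.smul_mul, Matrix.mul_smul]
  have hUA : U C D * A = A * U C D := (q2.comm_U hca.symm hda.symm).symm
  have hUB : U C D * B = B * U C D := (q2.comm_U hcb.symm hdb.symm).symm
  rw [q1.comm_U hUA hUB]

end Cfsg.Agent.Lib.H2.Sy4
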