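import Mathlib
import Cfsg.Agent.Lib.H2.Sy4G

/-!
# An element of order five normalizing `4 ∘ 2^{1+4}` (helper2)
-/

set_option autoImplicit false
set_option linter.unusedSectionVars false
open scoped MatrixGroups
open Matrix

namespace Cfsg.Agent.Lib.H2.Sy4

variable {F : Type*} [Field F] [Fintype F]

open Classical in
/-- the non-scalar involutions of `R` -/
noncomputable def Sf (R : Subgroup (GL (Fin 4) F)) : Finset (GL (Fin 4) F) :=
  (Rf R).filter (fun g => g * g = 1 ∧ ¬ IsSc g)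

open Classical in
theorem mem_Sf {R : Subgroup (GL (Fin 4) F)} {g : GL (Fin 4) F} :
    g ∈ Sf R ↔ g ∈ R ∧ g * g = 1 ∧ ¬ IsSc g := by
  rw [Sf, Finset.mem_filter, mem_Rf]

namespace Sy

variable {R : Subgroup (GL (Fin 4) F)} {i : Fˣ}

theorem isSc_i_mul_iff {a : GL (Fin 4) F} : IsSc (scG i * a) ↔ IsSc a :=
  ⟨isSc_of_i_mul, fun hs => isSc_mul (isSc_scG i) hs⟩

open Classical in
theorem card_Sf (h : Sy R i) : (Sf R).card = 30 := by
  set Tf : Finset (GL (Fin 4) F) := (Rf R).filter (fun g => g * g = -1 ∧ ¬ IsSc g) with hTf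
  have hsq : ∀ g : GL (Fin 4) F, (scG i * g) * (scG i * g) = -(g * g) := by
    intro g
    calc scG i * g * (scG i * g) = scG i * (g * scG i) * g := by group
      _ = scG i * (scG i * g) * g := by rw [← scG_comm i g]
      _ = (scG i * scG i) * (g * g) := by group
      _ = -(g * g) := by rw [h.scG_sq, neg_mul, one_mul]
  have hinv : (scG i)⁻¹ = -scG i := by
    apply inv_eq_of_mul_eq_one_right
    rw [mul_neg, h.scG_sq, neg_neg]
  have e1 : (Sf R).card = Tf.card := by
    apply Finset.card_nbij' (fun g => scG i * g) (fun g => (scG i)⁻¹ * g)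
    · intro g hg
      rw [Finset.mem_coe, mem_Sf] at hg
      rw [Finset.mem_coe, hTf, Finset.mem_filter, mem_Rf]
      refine ⟨h.i_mul_mem hg.1, ?_, fun hs => hg.2.2 (isSc_i_mul_iff.1 hs)⟩
      rw [hsq, hg.2.1]
    · intro g hg
      rw [Finset.mem_coe, hTf, Finset.mem_filter, mem_Rf] at hg
      show (scG i)⁻¹ * g ∈ ((Sf R : Finset (GL (Fin 4) F)) : Set (GL (Fin 4) F))
      rw [Finset.mem_coe, mem_Sf, hinv, neg_mul]
      refine ⟨h.neg_mem' (h.i_mul_mem hg.1), ?_, ?_⟩
      · rw [neg_mul_neg, hsq, hg.2.1, neg_neg]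
      · intro hs
        apply hg.2.2
        have := isSc_neg hs
        rw [neg_neg] at this
        exact isSc_i_mul_iff.1 this
    · intro g _
      simp
    · intro g _
      simp
  have e2 : Sf R ∪ Tf = Rf R \ Zs i := by
    ext g
    rw [Finset.mem_union, mem_Sf, hTf, Finset.mem_filter, mem_Rf, Finset.mem_sdiff, mem_Rf, mem_Zs]
    constructor
    · rintro (⟨hg, _, hs⟩ | ⟨hg, _, hs⟩)
      · refine ⟨hg, fun hz => hs ?_⟩
        rcases hz with rfl | rfl | rfl | rfl
        · exact isSc_one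
        · exact isSc_neg isSc_one
        · exact isSc_scG i
        · exact isSc_neg (isSc_scG i)
      · refine ⟨hg, fun hz => hs ?_⟩
        rcases hz with rfl | rfl | rfl | rfl
        · exact isSc_one
        · exact isSc_neg isSc_one
        · exact isSc_scG i
        · exact isSc_neg (isSc_scG i)
    · rintro ⟨hg, hz⟩
      have hs : ¬ IsSc g := fun hs => hz (h.sc_cases hg hs)
      rcases h.sq g hg with h1 | h1
      · exact Or.inl ⟨hg, h1, hs⟩
      · exact Or.inr ⟨hg, h1, hs⟩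
  have e3 : Disjoint (Sf R) Tf := by
    rw [Finset.disjoint_left]
    intro g hg hg'
    rw [mem_Sf] at hg
    rw [hTf, Finset.mem_filter] at hg'
    rw [hg.2.1] at hg'
    exact h.neg_one_ne_one hg'.2.1.symm
  have e4 : (Rf R \ Zs i).card = 60 := by
    rw [Finset.card_sdiff_of_subset, h.card_Rf, h.card_Zs]
    intro g hg
    have := h.Zs_subset_CR 1 hg
    rw [mem_CR] at this
    rw [mem_Rf]
    exact this.1
  have e5 := Finset.card_union_of_disjoint e3
  rw [e2, e4, ← e1] at e5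
  omega

open Classical in
/-- an involution of `R` anticommuting with two given non-scalar elements -/
theorem exists_anti_both (h : Sy R i) {a b : GL (Fin 4) F} (ha : a ∈ R) (hb : b ∈ R)
    (has : ¬ IsSc a) (hbs : ¬ IsSc b) :
    ∃ c ∈ R, c * c = 1 ∧ c * a = -(a * c) ∧ c * b = -(b * c) := by
  have key : ∃ c ∈ R, c * a = -(a * c) ∧ c * b = -(b * c) := by
    by_contra hcon
    push Not at hcon
    have hsub : AR R a ⊆ CR R b := by
      intro g hg
      rw [mem_AR] at hg
      rw [mem_CR]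
      refine ⟨hg.1, ?_⟩
      rcases h.comm g hg.1 b hb with h1 | h1
      · exact h1
      · exact absurd h1 (hcon g hg.1 hg.2)
    have hcA : (AR R a).card = 32 := by
      have := h.card_comm_eq_card_anti ha has
      rw [h.card_comm ha has] at this
      exact this.symm
    have hcC : (CR R b).card = 32 := h.card_comm hb hbs
    have heq : AR R a = CR R b := Finset.eq_of_subset_of_card_le hsub (by rw [hcA, hcC])
    have h1 : (1 : GL (Fin 4) F) ∈ AR R a := by
      rw [heq, mem_CR]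
      exact ⟨R.one_mem, by rw [one_mul, mul_one]⟩
    rw [mem_AR, one_mul, mul_one] at h1
    exact neg_ne_self h.two_ne a h1.2.symm
  obtain ⟨c₀, hc₀, hca, hcb⟩ := key
  obtain ⟨c, hc, hcc, h1 | h1⟩ := h.exists_invol_adj hc₀
  · exact ⟨c, hc, hcc, by rw [h1]; exact hca, by rw [h1]; exact hcb⟩
  · refine ⟨c, hc, hcc, ?_, ?_⟩
    · rw [h1]
      calc scG i * c₀ * a = scG i * (c₀ * a) := by group
        _ = -(a * (scG i * c₀)) := by rw [hca, mul_neg, ← mul_assoc, scG_comm, mul_assoc]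
    · rw [h1]
      calc scG i * c₀ * b = scG i * (c₀ * b) := by group
        _ = -(b * (scG i * c₀)) := by rw [hcb, mul_neg, ← mul_assoc, scG_comm, mul_assoc]

/-- anticommuting non-scalar involutions of `R` are conjugate under the normalizer -/
theorem exists_conj_of_anti (h : Sy R i) {a c : GL (Fin 4) F} (ha : a ∈ R) (hc : c ∈ R)
    (haa : a * a = 1) (hcc : c * c = 1) (hca : c * a = -(a * c)) :
    ∃ t ∈ Subgroup.normalizer (R : Set (GL (Fin 4) F)), t * a * t⁻¹ = c := by
  have hac : a * c = -(c * a) := by rw [hca, neg_neg]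
  have hu : a * c ∈ R := R.mul_mem ha hc
  have huu : a * c * (a * c) = -1 := by
    calc a * c * (a * c) = a * (c * a) * c := by group
      _ = -(a * a * (c * c)) := by rw [hca, mul_neg, neg_mul]; group
      _ = -1 := by rw [haa, hcc, one_mul]
  have hau : a * (a * c) = -((a * c) * a) := by
    rw [mul_assoc a c a, hca, mul_neg, neg_neg]
  have e1 : wG h.two_ne (a * c) huu * a * (wG h.two_ne (a * c) huu)⁻¹ = -c := by
    rw [wG_conj_anti h.two_ne (a * c) huu a hau, mul_assoc, hca, mul_neg, ← mul_assoc, haa,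
      one_mul]
  have hcs : ¬ IsSc c := not_isSc_of_anti h.two_ne hca
  obtain ⟨k, hk, hkc⟩ := h.exists_anti hc hcs
  refine ⟨k * wG h.two_ne (a * c) huu, Subgroup.mul_mem _ (Subgroup.le_normalizer hk)
    (h.wG_mem_normalizer (a * c) hu huu), ?_⟩
  calc k * wG h.two_ne (a * c) huu * a * (k * wG h.two_ne (a * c) huu)⁻¹
      = k * (wG h.two_ne (a * c) huu * a * (wG h.two_ne (a * c) huu)⁻¹) * k⁻¹ := by group
    _ = k * (-c) * k⁻¹ := by rw [e1]
    _ = c := by rw [mul_neg, hkc, neg_neg, mul_assoc, mul_inv_cancel, mul_one]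

/-- the normalizer is transitive on the non-scalar involutions of `R` -/
theorem exists_conj (h : Sy R i) {a b : GL (Fin 4) F} (ha : a ∈ Sf R) (hb : b ∈ Sf R) :
    ∃ t ∈ Subgroup.normalizer (R : Set (GL (Fin 4) F)), t * a * t⁻¹ = b := by
  rw [mem_Sf] at ha hb
  obtain ⟨c, hc, hcc, hca, hcb⟩ := h.exists_anti_both ha.1 hb.1 ha.2.2 hb.2.2
  obtain ⟨t₁, ht₁, e1⟩ := h.exists_conj_of_anti ha.1 hc ha.2.1 hcc hca
  have hbc : b * c = -(c * b) := by rw [hcb, neg_neg]
  obtain ⟨t₂, ht₂, e2⟩ := h.exists_conj_of_anti hc hb.1 hcc hb.2.1 hbc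
  refine ⟨t₂ * t₁, Subgroup.mul_mem _ ht₂ ht₁, ?_⟩
  calc t₂ * t₁ * a * (t₂ * t₁)⁻¹ = t₂ * (t₁ * a * t₁⁻¹) * t₂⁻¹ := by group
    _ = b := by rw [e1, e2]

theorem conj_mem_Sf (h : Sy R i) {x : GL (Fin 4) F}
    (hx : x ∈ Subgroup.normalizer (R : Set (GL (Fin 4) F))) {g : GL (Fin 4) F} (hg : g ∈ Sf R) :
    x * g * x⁻¹ ∈ Sf R := by
  rw [mem_Sf] at hg ⊢
  obtain ⟨hg, hgg, g1⟩ := hg
  refine ⟨h.conj_mem hx hg, ?_, ?_⟩
  · calc x * g * x⁻¹ * (x * g * x⁻¹) = x * (g * g) * x⁻¹ := by group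
      _ = 1 := by rw [hgg]; group
  · intro hs
    apply g1
    have := (isSc_conj_iff x (x * g * x⁻¹)).2 hs
    have e : x⁻¹ * (x * g * x⁻¹) * x = g := by group
    rwa [e] at this

/-- the normalizer of `R` contains an element of order five -/
theorem exists_order_five (h : Sy R i) :
    ∃ t ∈ Subgroup.normalizer (R : Set (GL (Fin 4) F)), orderOf t = 5 := by
  classical
  obtain ⟨H, hH⟩ : ∃ H : Subgroup (GL (Fin 4) F),
      H = Subgroup.normalizer (R : Set (GL (Fin 4) F)) := ⟨_, rfl⟩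
  rw [← hH]
  have hHn : ∀ t : H, (t : GL (Fin 4) F) ∈ Subgroup.normalizer (R : Set (GL (Fin 4) F)) := by
    intro t
    rw [← hH]
    exact t.2
  let _ : MulAction H {g // g ∈ Sf R} :=
    { smul := fun t g => ⟨(t : GL (Fin 4) F) * g.1 * (t : GL (Fin 4) F)⁻¹,
        h.conj_mem_Sf (hHn t) g.2⟩
      one_smul := fun g => by
        apply Subtype.ext
        show ((1 : H) : GL (Fin 4) F) * g.1 * ((1 : H) : GL (Fin 4) F)⁻¹ = g.1
        rw [Subgroup.coe_one, one_mul, inv_one, mul_one]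
      mul_smul := fun s t g => by
        apply Subtype.ext
        show ((s * t : H) : GL (Fin 4) F) * g.1 * ((s * t : H) : GL (Fin 4) F)⁻¹ =
          (s : GL (Fin 4) F) * ((t : GL (Fin 4) F) * g.1 * (t : GL (Fin 4) F)⁻¹) *
            (s : GL (Fin 4) F)⁻¹
        rw [Subgroup.coe_mul]
        group }
  have : MulAction.IsPretransitive H {g // g ∈ Sf R} := by
    constructor
    intro a b
    obtain ⟨t, ht, e⟩ := h.exists_conj a.2 b.2
    rw [← hH] at ht
    exact ⟨⟨t, ht⟩, Subtype.ext e⟩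
  have hX : Nat.card {g // g ∈ Sf R} = 30 := by
    rw [Nat.card_eq_fintype_card, Fintype.card_coe, h.card_Sf]
  obtain ⟨a, ha, haa, has⟩ := h.exists_invol
  have haS : a ∈ Sf R := mem_Sf.2 ⟨ha, haa, has⟩
  have hidx := MulAction.index_stabilizer_of_transitive H (⟨a, haS⟩ : {g // g ∈ Sf R})
  rw [hX] at hidx
  have hdvd : 30 ∣ Nat.card H := by
    rw [← hidx]
    exact Subgroup.index_dvd_card _
  have h5 : 5 ∣ Nat.card H := Dvd.dvd.trans (by norm_num) hdvd
  have : Fact (Nat.Prime 5) := ⟨Nat.prime_five⟩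
  obtain ⟨t, ht⟩ := exists_prime_orderOf_dvd_card' 5 h5
  refine ⟨t.1, t.2, ?_⟩
  rw [Subgroup.orderOf_coe]
  exact ht

end Sy

end Cfsg.Agent.Lib.H2.Sy4
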