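import Mathlib
import Cfsg.Agent.Lib.H13.SSClass

/-!
# Conjugacy of semisimple matrices via kernels, centralizers with prescribed determinant (helper2)
-/

set_option autoImplicit false
set_option linter.unusedSectionVars false
open scoped MatrixGroups
open Matrix Polynomial Module

namespace Cfsg.Agent.Lib.H2.Sy4

variable {F : Type*} [Field F] {n : Type*} [Fintype n] [DecidableEq n]

/-- from an intertwining linear equivalence to an intertwining invertible matrix -/
theorem exists_matrix_of_equiv (X Y : Matrix n n F) (g : (n → F) ≃ₗ[F] (n → F))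
    (hg : ∀ v, g (Matrix.toLin' X v) = Matrix.toLin' Y (g v)) :
    ∃ A Ai : Matrix n n F, A * Ai = 1 ∧ A * X = Y * A := by
  refine ⟨LinearMap.toMatrix' (g : (n → F) →ₗ[F] (n → F)),
    LinearMap.toMatrix' (g.symm : (n → F) →ₗ[F] (n → F)), ?_, ?_⟩
  · rw [← LinearMap.toMatrix'_comp]; simp
  · have h1 : (g : (n → F) →ₗ[F] (n → F)) ∘ₗ Matrix.toLin' X =
        Matrix.toLin' Y ∘ₗ (g : (n → F) →ₗ[F] (n → F)) := LinearMap.ext hg
    have h2 := congrArg LinearMap.toMatrix' h1
    rw [LinearMap.toMatrix'_comp, LinearMap.toMatrix'_comp, LinearMap.toMatrix'_toLin',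
      LinearMap.toMatrix'_toLin'] at h2
    exact h2

/-- conjugacy of matrices killed by a product of coprime irreducible polynomials -/
theorem exists_matrix_conj {J : Type*} [DecidableEq J] [Fintype J] (f : J → F[X])
    (hirr : ∀ j, Irreducible (f j)) (hcop : ∀ i j, i ≠ j → IsCoprime (f i) (f j))
    (X Y : Matrix n n F)
    (hX : aeval (Matrix.toLin' X) (∏ j, f j) = 0) (hY : aeval (Matrix.toLin' Y) (∏ j, f j) = 0)
    (h : ∀ j, finrank F (LinearMap.ker (aeval (Matrix.toLin' X) (f j))) =
      finrank F (LinearMap.ker (aeval (Matrix.toLin' Y) (f j)))) :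
    ∃ A Ai : Matrix n n F, A * Ai = 1 ∧ A * X = Y * A := by
  obtain ⟨g, hg⟩ := Cfsg.Agent.Lib.H13.SSClass.exists_equiv f hirr hcop (Matrix.toLin' X)
    (Matrix.toLin' Y) hX hY h
  exact exists_matrix_of_equiv X Y g hg

/-- the kernels of a decomposition add up to the dimension -/
theorem sum_finrank_ker {J : Type*} [DecidableEq J] [Fintype J] (f : J → F[X])
    (hcop : ∀ i j, i ≠ j → IsCoprime (f i) (f j)) (X : Matrix n n F)
    (hX : aeval (Matrix.toLin' X) (∏ j, f j) = 0) :
    ∑ j, finrank F (LinearMap.ker (aeval (Matrix.toLin' X) (f j))) = Fintype.card n := by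
  have h1 := Cfsg.Agent.Lib.H13.SSClass.finrank_eq_sum
    (Cfsg.Agent.Lib.H13.SSClass.isInternal f hcop (Matrix.toLin' X) hX)
  rw [← h1, Module.finrank_fintype_fun_eq_card]

/-- the degree of an irreducible factor divides the dimension of its kernel -/
theorem natDegree_dvd_finrank_ker (p : F[X]) (hp : Irreducible p) (X : Matrix n n F) :
    p.natDegree ∣ finrank F (LinearMap.ker (aeval (Matrix.toLin' X) p)) :=
  Cfsg.Agent.Lib.H13.SSClass.natDegree_dvd_finrank p hp _
    (Cfsg.Agent.Lib.H13.SSClass.aeval_restrict_eq_zero (Matrix.toLin' X) p)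

theorem toLin'_eq_one_iff (X : Matrix n n F) : Matrix.toLin' X = 1 ↔ X = 1 := by
  constructor
  · intro h
    apply Matrix.toLin'.injective
    rw [h, Matrix.toLin'_one]
    rfl
  · rintro rfl
    rw [Matrix.toLin'_one]
    rfl

theorem toLin'_mul' (X Y : Matrix n n F) :
    (Matrix.toLin' (X * Y) : Module.End F (n → F)) = Matrix.toLin' X * Matrix.toLin' Y := by
  rw [Matrix.toLin'_mul]
  rfl

theorem toLin'_one' : (Matrix.toLin' (1 : Matrix n n F) : Module.End F (n → F)) = 1 := by
  rw [Matrix.toLin'_one]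
  rfl

end Cfsg.Agent.Lib.H2.Sy4
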