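import Mathlib
import Cfsg.Agent.Lib.H2.Sy4J

/-!
# Involutions of `GL_n(F)`: classification by the trace, centralizers (helper2)
-/

set_option autoImplicit false
set_option linter.unusedSectionVars false
open scoped MatrixGroups
open Matrix Polynomial Module

namespace Cfsg.Agent.Lib.H2.Sy4

variable {F : Type*} [Field F] {n : Type*} [Fintype n] [DecidableEq n]

/-- the rank of an idempotent matrix is its trace -/
theorem finrank_range_of_idem (P : Matrix n n F) (hP : P * P = P) :
    (finrank F (LinearMap.range (Matrix.toLin' P)) : F) = Matrix.trace P := by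
  have h1 : IsIdempotentElem (Matrix.toLin' P : Module.End F (n → F)) := by
    unfold IsIdempotentElem
    rw [← toLin'_mul', hP]
  have h2 := (LinearMap.IsIdempotentElem.isProj_range _ h1).trace
  rw [Matrix.trace_toLin'_eq] at h2
  exact h2.symm

/-- the pair of polynomials `X - 1`, `X + 1` -/
noncomputable def fInv (F : Type*) [Field F] : Fin 2 → F[X] := ![X - C (1 : F), X - C (-1 : F)]

theorem fInv_irr (j : Fin 2) : Irreducible (fInv F j) := by
  fin_cases j
  · exact irreducible_X_sub_C _
  · exact irreducible_X_sub_C _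

theorem fInv_cop (h2 : (2 : F) ≠ 0) : ∀ i j : Fin 2, i ≠ j → IsCoprime (fInv F i) (fInv F j) := by
  have hu : IsUnit ((1 : F) - -1) := by
    rw [sub_neg_eq_add, one_add_one_eq_two]
    exact IsUnit.mk0 _ h2
  have hc : IsCoprime (X - C (1 : F)) (X - C (-1 : F)) := isCoprime_X_sub_C_of_isUnit_sub hu
  intro i j hij
  fin_cases i <;> fin_cases j
  · exact absurd rfl hij
  · exact hc
  · exact hc.symm
  · exact absurd rfl hij

theorem aeval_X_sub_C {V : Type*} [AddCommGroup V] [Module F V] (φ : Module.End F V) (c : F) :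
    aeval φ (X - C c) = φ - algebraMap F (Module.End F V) c := by
  rw [map_sub, aeval_X, aeval_C]

theorem aeval_fInv_prod (E : Matrix n n F) (hE : E * E = 1) :
    aeval (Matrix.toLin' E) (∏ j, fInv F j) = 0 := by
  rw [Fin.prod_univ_two]
  show aeval (Matrix.toLin' E) ((X - C (1 : F)) * (X - C (-1 : F))) = 0
  rw [map_mul, aeval_X_sub_C, aeval_X_sub_C, map_neg, map_one, sub_neg_eq_add]
  have h1 : (Matrix.toLin' E : Module.End F (n → F)) * Matrix.toLin' E = 1 := by
    rw [← toLin'_mul', hE, toLin'_one']
  rw [sub_mul, mul_add, mul_one, one_mul, h1]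
  abel

/-- the dimension of the `c`-eigenspace of an involution, `c = ±1` -/
theorem finrank_ker_invol (h2 : (2 : F) ≠ 0) (E : Matrix n n F) (hE : E * E = 1) (c : F)
    (hc : c * c = 1) :
    (finrank F (LinearMap.ker (aeval (Matrix.toLin' E) (X - C c))) : F) =
      2⁻¹ * ((Fintype.card n : F) + c * Matrix.trace E) := by
  set P : Matrix n n F := (2⁻¹ : F) • (1 + c • E) with hP
  have hPP : P * P = P := by
    rw [hP, Matrix.smul_mul, Matrix.mul_smul, smul_smul]
    have e1 : (1 + c • E) * (1 + c • E) = (2 : F) • (1 + c • E) := by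
      have e0 : (1 + c • E) * (1 + c • E) = 1 + c • E + c • E + (c * c) • (E * E) := by
        simp only [add_mul, mul_add, one_mul, mul_one, Matrix.smul_mul, Matrix.mul_smul, smul_smul]
        abel
      rw [e0, hc, hE, one_smul, two_smul]
      abel
    rw [e1, smul_smul]
    congr 1
    field_simp
  have hker : LinearMap.ker (aeval (Matrix.toLin' E) (X - C c)) =
      LinearMap.range (Matrix.toLin' P) := by
    rw [aeval_X_sub_C]
    ext v
    rw [LinearMap.mem_ker, LinearMap.mem_range, LinearMap.sub_apply, Module.algebraMap_end_apply,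
      Matrix.toLin'_apply, sub_eq_zero]
    constructor
    · intro hv
      refine ⟨v, ?_⟩
      rw [Matrix.toLin'_apply, hP, Matrix.smul_mulVec, Matrix.add_mulVec, Matrix.one_mulVec,
        Matrix.smul_mulVec, hv, smul_smul, hc, one_smul, ← two_smul F v, smul_smul,
        inv_mul_cancel₀ h2, one_smul]
    · rintro ⟨w, rfl⟩
      rw [Matrix.toLin'_apply, Matrix.mulVec_mulVec]
      have e2 : E * P = c • P := by
        have e3 : E * (1 + c • E) = E + c • (E * E) := by
          rw [mul_add, mul_one, Matrix.mul_smul]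
        have e4 : c • (1 + c • E) = c • (1 : Matrix n n F) + (c * c) • E := by
          rw [smul_add, smul_smul]
        rw [hP, Matrix.mul_smul, e3, hE, smul_comm c, e4, hc, one_smul, add_comm]
      rw [e2, Matrix.smul_mulVec]
  rw [hker, finrank_range_of_idem P hPP, hP, Matrix.trace_smul, Matrix.trace_add,
    Matrix.trace_one, Matrix.trace_smul, smul_eq_mul, smul_eq_mul]

/-- involutions with the same trace are conjugate -/
theorem invol_conj (hchar : ∀ a b : ℕ, a ≤ Fintype.card n → b ≤ Fintype.card n →
      (a : F) = (b : F) → a = b) (h2 : (2 : F) ≠ 0)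
    (E E' : Matrix n n F) (hE : E * E = 1) (hE' : E' * E' = 1)
    (htr : Matrix.trace E = Matrix.trace E') :
    ∃ A Ai : Matrix n n F, A * Ai = 1 ∧ A * E = E' * A := by
  apply exists_matrix_conj (fInv F) fInv_irr (fInv_cop h2) E E' (aeval_fInv_prod E hE)
    (aeval_fInv_prod E' hE')
  have hle : ∀ (M : Matrix n n F) (p : F[X]),
      finrank F (LinearMap.ker (aeval (Matrix.toLin' M) p)) ≤ Fintype.card n := by
    intro M p
    have := Submodule.finrank_le (LinearMap.ker (aeval (Matrix.toLin' M) p))
    rwa [Module.finrank_fintype_fun_eq_card] at this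
  intro j
  fin_cases j
  · apply hchar _ _ (hle _ _) (hle _ _)
    show (finrank F (LinearMap.ker (aeval (Matrix.toLin' E) (X - C (1 : F)))) : F) =
      (finrank F (LinearMap.ker (aeval (Matrix.toLin' E') (X - C (1 : F)))) : F)
    rw [finrank_ker_invol h2 E hE 1 (one_mul (1 : F)), finrank_ker_invol h2 E' hE' 1 (one_mul (1 : F)), htr]
  · apply hchar _ _ (hle _ _) (hle _ _)
    show (finrank F (LinearMap.ker (aeval (Matrix.toLin' E) (X - C (-1 : F)))) : F) =
      (finrank F (LinearMap.ker (aeval (Matrix.toLin' E') (X - C (-1 : F)))) : F)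
    rw [finrank_ker_invol h2 E hE (-1) (by ring), finrank_ker_invol h2 E' hE' (-1) (by ring), htr]

/-- the trace of an involution is `2k - n` where `k` is the dimension of the fixed space -/
theorem invol_trace (h2 : (2 : F) ≠ 0) (E : Matrix n n F) (hE : E * E = 1) :
    ∃ k : ℕ, k ≤ Fintype.card n ∧ Matrix.trace E = 2 * (k : F) - (Fintype.card n : F) ∧
      (k = Fintype.card n → E = 1) ∧ (k = 0 → E = -1) := by
  set k := finrank F (LinearMap.ker (aeval (Matrix.toLin' E) (X - C (1 : F)))) with hk
  set k' := finrank F (LinearMap.ker (aeval (Matrix.toLin' E) (X - C (-1 : F)))) with hk'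
  have hsum : k + k' = Fintype.card n := by
    have := sum_finrank_ker (fInv F) (fInv_cop h2) E (aeval_fInv_prod E hE)
    rw [Fin.sum_univ_two] at this
    exact this
  have h1 := finrank_ker_invol h2 E hE 1 (one_mul (1 : F))
  rw [← hk, one_mul] at h1
  refine ⟨k, by omega, ?_, ?_, ?_⟩
  · have : (2 : F) * (k : F) = (Fintype.card n : F) + Matrix.trace E := by
      rw [h1, ← mul_assoc, mul_inv_cancel₀ h2, one_mul]
    rw [this]; ring
  · intro hkn
    have htop : LinearMap.ker (aeval (Matrix.toLin' E) (X - C (1 : F))) = ⊤ := by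
      apply Submodule.eq_top_of_finrank_eq
      rw [← hk, hkn, Module.finrank_fintype_fun_eq_card]
    rw [LinearMap.ker_eq_top, aeval_X_sub_C, map_one, sub_eq_zero, toLin'_eq_one_iff] at htop
    exact htop
  · intro hk0
    have hk'n : k' = Fintype.card n := by omega
    have htop : LinearMap.ker (aeval (Matrix.toLin' E) (X - C (-1 : F))) = ⊤ := by
      apply Submodule.eq_top_of_finrank_eq
      rw [← hk', hk'n, Module.finrank_fintype_fun_eq_card]
    rw [LinearMap.ker_eq_top, aeval_X_sub_C, map_neg, map_one, sub_neg_eq_add] at htop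
    have h3 : Matrix.toLin' E = -1 := eq_neg_of_add_eq_zero_left htop
    apply Matrix.toLin'.injective
    rw [h3, map_neg, Matrix.toLin'_one]
    rfl

/-- a matrix fixed by an idempotent `P ≠ 0` on both sides has centralizing elements of every
determinant -/
theorem cent_det_of_idem (M P : Matrix n n F) (hMP : M * P = P) (hPM : P * M = P)
    (hPP : P * P = P) (hP0 : P ≠ 0) (δ : F) :
    ∃ C : Matrix n n F, C * M = M * C ∧ C.det = δ := by
  obtain ⟨a, b, hab⟩ : ∃ a b, P a b ≠ 0 := by
    by_contra hcon
    push Not at hcon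
    apply hP0
    ext a b
    exact hcon a b
  set v : n → F := fun k => P k b with hv
  set φ : n → F := fun l => P a l with hφ
  have hMv : M *ᵥ v = v := by
    ext k
    have := congrFun (congrFun hMP k) b
    rw [Matrix.mul_apply] at this
    rw [Matrix.mulVec, dotProduct]
    exact this
  have hφM : φ ᵥ* M = φ := by
    ext l
    have := congrFun (congrFun hPM a) l
    rw [Matrix.mul_apply] at this
    rw [Matrix.vecMul, dotProduct]
    exact this
  have hφv : φ ⬝ᵥ v = P a b := by
    have := congrFun (congrFun hPP a) b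
    rw [Matrix.mul_apply] at this
    rw [dotProduct]
    exact this
  set t : F := (δ - 1) / P a b with ht
  refine ⟨1 + t • vecMulVec v φ, ?_, ?_⟩
  · rw [add_mul, mul_add, one_mul, mul_one, Matrix.smul_mul, Matrix.mul_smul, vecMulVec_mul,
      mul_vecMulVec, hMv, hφM]
  · have e : t • vecMulVec v φ = vecMulVec (t • v) φ := by
      rw [Matrix.smul_vecMulVec]
    rw [e, Matrix.vecMulVec_eq (ι := Unit), Matrix.det_one_add_replicateCol_mul_replicateRow,
      dotProduct_smul, hφv, ht, smul_eq_mul, div_mul_cancel₀ _ hab]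
    ring

/-- involutions other than `-1` have centralizing elements of every determinant -/
theorem invol_cent_det (h2 : (2 : F) ≠ 0) (E : Matrix n n F) (hE : E * E = 1) (hn : E ≠ -1)
    (δ : F) : ∃ C : Matrix n n F, C * E = E * C ∧ C.det = δ := by
  set P : Matrix n n F := (2⁻¹ : F) • (1 + E) with hP
  have e1 : (1 + E) * (1 + E) = (2 : F) • (1 + E) := by
    have e0 : (1 + E) * (1 + E) = 1 + E + E + E * E := by noncomm_ring
    rw [e0, hE, two_smul]
    abel
  apply cent_det_of_idem E P
  · rw [hP, Matrix.mul_smul, mul_add, mul_one, hE, add_comm]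
  · rw [hP, Matrix.smul_mul, add_mul, one_mul, hE, add_comm]
  · rw [hP, Matrix.smul_mul, Matrix.mul_smul, smul_smul, e1, smul_smul]
    congr 1
    field_simp
  · intro h0
    apply hn
    rw [hP] at h0
    rcases smul_eq_zero.1 h0 with h3 | h3
    · exact absurd h3 (inv_ne_zero h2)
    · exact eq_neg_of_add_eq_zero_right h3

end Cfsg.Agent.Lib.H2.Sy4
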