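import Mathlib
import Cfsg.Agent.Lib.H2.Sy4K

/-!
# Matrices of order three when `X² + X + 1` is irreducible (helper2)
-/

set_option autoImplicit false
set_option linter.unusedSectionVars false
open scoped MatrixGroups
open Matrix Polynomial Module

namespace Cfsg.Agent.Lib.H2.Sy4

variable {F : Type*} [Field F] {n : Type*} [Fintype n] [DecidableEq n]

/-- the pair of polynomials `X - 1`, `X² + X + 1` -/
noncomputable def f3 (F : Type*) [Field F] : Fin 2 → F[X] := ![X - C (1 : F), X ^ 2 + X + 1]

theorem f3_irr (hirr : Irreducible (X ^ 2 + X + 1 : F[X])) (j : Fin 2) : Irreducible (f3 F j) := by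
  fin_cases j
  · exact irreducible_X_sub_C _
  · exact hirr

theorem f3_cop (h3 : (3 : F) ≠ 0) : ∀ i j : Fin 2, i ≠ j → IsCoprime (f3 F i) (f3 F j) := by
  have hc : IsCoprime (X - C (1 : F)) (X ^ 2 + X + 1 : F[X]) := by
    rw [(irreducible_X_sub_C (1 : F)).coprime_iff_not_dvd, dvd_iff_isRoot]
    intro h
    apply h3
    have : (1 : F) ^ 2 + 1 + 1 = 0 := by simpa [IsRoot] using h
    rw [← this]; norm_num
  intro i j hij
  fin_cases i <;> fin_cases j
  · exact absurd rfl hij
  · exact hc
  · exact hc.symm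
  · exact absurd rfl hij

theorem aeval_quad {V : Type*} [AddCommGroup V] [Module F V] (φ : Module.End F V) :
    aeval φ (X ^ 2 + X + 1 : F[X]) = φ * φ + φ + 1 := by
  rw [map_add, map_add, map_pow, aeval_X, map_one, pow_two]

theorem aeval_f3_prod (M : Matrix n n F) (hM : M * M * M = 1) :
    aeval (Matrix.toLin' M) (∏ j, f3 F j) = 0 := by
  rw [Fin.prod_univ_two]
  show aeval (Matrix.toLin' M) ((X - C (1 : F)) * (X ^ 2 + X + 1)) = 0
  rw [map_mul, aeval_X_sub_C, aeval_quad, map_one]
  have h1 : (Matrix.toLin' M : Module.End F (n → F)) * Matrix.toLin' M * Matrix.toLin' M = 1 := by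
    rw [← toLin'_mul', ← toLin'_mul', hM, toLin'_one']
  rw [sub_mul, mul_add, mul_add, mul_one, one_mul, ← mul_assoc, h1]
  abel

/-- the dimension of the fixed space -/
noncomputable def kfix (M : Matrix n n F) : ℕ :=
  finrank F (LinearMap.ker (aeval (Matrix.toLin' M) (X - C (1 : F))))

theorem kfix_add (h3 : (3 : F) ≠ 0) (M : Matrix n n F) (hM : M * M * M = 1) :
    kfix M + finrank F (LinearMap.ker (aeval (Matrix.toLin' M) (X ^ 2 + X + 1 : F[X]))) =
      Fintype.card n := by
  have := sum_finrank_ker (f3 F) (f3_cop h3) M (aeval_f3_prod M hM)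
  rw [Fin.sum_univ_two] at this
  exact this

theorem even_finrank_quad (hirr : Irreducible (X ^ 2 + X + 1 : F[X])) (M : Matrix n n F) :
    2 ∣ finrank F (LinearMap.ker (aeval (Matrix.toLin' M) (X ^ 2 + X + 1 : F[X]))) := by
  have h1 := natDegree_dvd_finrank_ker (X ^ 2 + X + 1 : F[X]) hirr M
  have h2 : (X ^ 2 + X + 1 : F[X]).natDegree = 2 := by
    compute_degree!
  rwa [h2] at h1

/-- elements of order three with the same fixed space dimension are conjugate -/
theorem ord3_conj (hirr : Irreducible (X ^ 2 + X + 1 : F[X])) (h3 : (3 : F) ≠ 0)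
    (M M' : Matrix n n F) (hM : M * M * M = 1) (hM' : M' * M' * M' = 1) (hk : kfix M = kfix M') :
    ∃ A Ai : Matrix n n F, A * Ai = 1 ∧ A * M = M' * A := by
  apply exists_matrix_conj (f3 F) (f3_irr hirr) (f3_cop h3) M M' (aeval_f3_prod M hM)
    (aeval_f3_prod M' hM')
  intro j
  fin_cases j
  · exact hk
  · have h1 := kfix_add h3 M hM
    have h2 := kfix_add h3 M' hM'
    show finrank F (LinearMap.ker (aeval (Matrix.toLin' M) (X ^ 2 + X + 1 : F[X]))) =
      finrank F (LinearMap.ker (aeval (Matrix.toLin' M') (X ^ 2 + X + 1 : F[X])))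
    omega

theorem eq_one_of_kfix (M : Matrix n n F) (hk : kfix M = Fintype.card n) : M = 1 := by
  have htop : LinearMap.ker (aeval (Matrix.toLin' M) (X - C (1 : F))) = ⊤ := by
    apply Submodule.eq_top_of_finrank_eq
    rw [Module.finrank_fintype_fun_eq_card]
    exact hk
  rw [LinearMap.ker_eq_top, aeval_X_sub_C, map_one, sub_eq_zero, toLin'_eq_one_iff] at htop
  exact htop

theorem quad_of_kfix_zero (h3 : (3 : F) ≠ 0) (M : Matrix n n F) (hM : M * M * M = 1)
    (hk : kfix M = 0) : M * M + M + 1 = 0 := by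
  have h1 := kfix_add h3 M hM
  rw [hk, zero_add] at h1
  have htop : LinearMap.ker (aeval (Matrix.toLin' M) (X ^ 2 + X + 1 : F[X])) = ⊤ := by
    apply Submodule.eq_top_of_finrank_eq
    rw [Module.finrank_fintype_fun_eq_card]
    exact h1
  rw [LinearMap.ker_eq_top, aeval_quad] at htop
  apply Matrix.toLin'.injective
  rw [map_add, map_add, map_zero, Matrix.toLin'_one]
  have : (Matrix.toLin' (M * M) : Module.End F (n → F)) = Matrix.toLin' M * Matrix.toLin' M :=
    toLin'_mul' M M
  rw [this]
  exact htop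

theorem kfix_zero_of_quad (h3 : (3 : F) ≠ 0) (M : Matrix n n F) (hq : M * M + M + 1 = 0) :
    kfix M = 0 := by
  unfold kfix
  rw [finrank_eq_zero_iff_of_free, Submodule.subsingleton_iff_eq_bot, LinearMap.ker_eq_bot',
    aeval_X_sub_C, map_one]
  intro v hv
  rw [LinearMap.sub_apply, Module.End.one_apply, sub_eq_zero, Matrix.toLin'_apply] at hv
  have h1 := congrArg (fun N : Matrix n n F => N *ᵥ v) hq
  simp only [Matrix.add_mulVec, Matrix.one_mulVec, Matrix.zero_mulVec,
    ← Matrix.mulVec_mulVec, hv] at h1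
  have h2 : (3 : F) • v = 0 := by
    rw [← h1, show (3 : F) = 1 + 1 + 1 by norm_num, add_smul, add_smul, one_smul]
  rcases smul_eq_zero.1 h2 with h4 | h4
  · exact absurd h4 h3
  · exact h4

/-- elements of order three with a fixed vector have centralizing elements of every determinant -/
theorem ord3_cent_det_fix (h3 : (3 : F) ≠ 0) (M : Matrix n n F) (hM : M * M * M = 1)
    (hk : kfix M ≠ 0) (δ : F) : ∃ C : Matrix n n F, C * M = M * C ∧ C.det = δ := by
  set P : Matrix n n F := (3⁻¹ : F) • (1 + M + M * M) with hP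
  have hMMM : M * (M * M) = 1 := by rw [← mul_assoc, hM]
  have e1 : M * (1 + M + M * M) = 1 + M + M * M := by
    rw [mul_add, mul_add, mul_one, hMMM]; abel
  have e2 : (1 + M + M * M) * M = 1 + M + M * M := by
    rw [add_mul, add_mul, one_mul, hM]; abel
  have e3 : (1 + M + M * M) * (1 + M + M * M) = (3 : F) • (1 + M + M * M) := by
    rw [mul_add, mul_add, mul_one, ← mul_assoc, e2, e2,
      show (3 : F) = 1 + 1 + 1 by norm_num, add_smul, add_smul, one_smul]
  apply cent_det_of_idem M P
  · rw [hP, Matrix.mul_smul, e1]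
  · rw [hP, Matrix.smul_mul, e2]
  · rw [hP, Matrix.smul_mul, Matrix.mul_smul, smul_smul, e3, smul_smul]
    congr 1
    field_simp
  · intro h0
    apply hk
    unfold kfix
    rw [finrank_eq_zero_iff_of_free, Submodule.subsingleton_iff_eq_bot, LinearMap.ker_eq_bot',
      aeval_X_sub_C, map_one]
    intro v hv
    rw [LinearMap.sub_apply, Module.End.one_apply, sub_eq_zero, Matrix.toLin'_apply] at hv
    have h1 : P *ᵥ v = v := by
      rw [hP, Matrix.smul_mulVec, Matrix.add_mulVec, Matrix.add_mulVec, Matrix.one_mulVec,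
        ← Matrix.mulVec_mulVec, hv, hv, ← one_smul F v, ← add_smul, ← add_smul, smul_smul]
      have : (3⁻¹ : F) * (1 + 1 + 1) = 1 := by
        rw [show (1 + 1 + 1 : F) = 3 by norm_num, inv_mul_cancel₀ h3]
      rw [this]
    rw [h0, Matrix.zero_mulVec] at h1
    exact h1.symm

end Cfsg.Agent.Lib.H2.Sy4
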