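import Mathlib
import Cfsg.Agent.Lib.H2.Sy4J

/-!
# Centralizers of matrices with irreducible minimal polynomial over finite fields contain
elements of every determinant (helper2)
-/

set_option autoImplicit false
set_option linter.unusedSectionVars false
set_option linter.style.haveILetI false
open scoped MatrixGroups
open Matrix Polynomial Module

namespace Cfsg.Agent.Lib.H2.Sy4

open Cfsg.Agent.Lib.H13.SSClass (liftEnd liftEnd_root)

variable {F : Type*} [Field F] {n : Type*} [Fintype n] [DecidableEq n]

/-- if `f(M) = 0` with `f` irreducible over a finite field, the centralizer of `M` contains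
matrices of every determinant (surjectivity of the norm) -/
theorem cent_det_of_irreducible [Finite F] [Nonempty n] (f : F[X]) (hf : Irreducible f)
    (M : Matrix n n F) (hM : aeval (Matrix.toLin' M) f = 0) (δ : F) :
    ∃ C : Matrix n n F, C * M = M * C ∧ C.det = δ := by
  classical
  haveI : Fact (Irreducible f) := ⟨hf⟩
  set φ : Module.End F (n → F) := Matrix.toLin' M with hφ
  letI mV : Module (AdjoinRoot f) (n → F) := Module.compHom (n → F) (liftEnd f φ hM).toRingHom
  have smulV : ∀ (k : AdjoinRoot f) (v : n → F), k • v = liftEnd f φ hM k v := fun _ _ => rfl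
  haveI : IsScalarTower F (AdjoinRoot f) (n → F) :=
    ⟨fun c k v => by rw [smulV, smulV, map_smul, LinearMap.smul_apply]⟩
  haveI : Module.Finite (AdjoinRoot f) (n → F) := Module.Finite.of_restrictScalars_finite F _ _
  haveI : Module.Finite F (AdjoinRoot f) := (AdjoinRoot.powerBasis hf.ne_zero).finite
  haveI : Finite (AdjoinRoot f) := Module.finite_of_finite F
  obtain ⟨lam, hlam⟩ := FiniteField.norm_surjective F (AdjoinRoot f) δ
  let b := Module.Free.chooseBasis (AdjoinRoot f) (n → F)
  haveI : Nontrivial (n → F) := inferInstance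
  obtain ⟨i0⟩ : Nonempty (Module.Free.ChooseBasisIndex (AdjoinRoot f) (n → F)) := b.index_nonempty
  let d : Module.Free.ChooseBasisIndex (AdjoinRoot f) (n → F) → AdjoinRoot f :=
    Function.update (fun _ => (1 : AdjoinRoot f)) i0 lam
  let T : (n → F) →ₗ[AdjoinRoot f] (n → F) := Matrix.toLin b b (Matrix.diagonal d)
  have hdetT : LinearMap.det T = lam := by
    rw [LinearMap.det_toLin, Matrix.det_diagonal, Finset.prod_update_of_mem (Finset.mem_univ i0)]
    simp
  have hdet : LinearMap.det (T.restrictScalars F) = δ := by
    rw [LinearMap.det_restrictScalars, hdetT, hlam]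
  have hcomm : ∀ v, T (φ v) = φ (T v) := by
    intro v
    have h1 : ∀ w : n → F, φ w = (AdjoinRoot.root f) • w := by
      intro w
      rw [smulV, liftEnd_root]
    rw [h1 v, h1 (T v), map_smul]
  refine ⟨LinearMap.toMatrix' (T.restrictScalars F), ?_, ?_⟩
  · have h1 : (T.restrictScalars F) ∘ₗ φ = φ ∘ₗ (T.restrictScalars F) := LinearMap.ext hcomm
    have h2 := congrArg LinearMap.toMatrix' h1
    rw [LinearMap.toMatrix'_comp, LinearMap.toMatrix'_comp, hφ, LinearMap.toMatrix'_toLin'] at h2
    exact h2
  · rw [LinearMap.det_toMatrix']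
    exact hdet

end Cfsg.Agent.Lib.H2.Sy4
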