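import Mathlib
import Cfsg.Agent.Lib.H2.Sy4G
import Cfsg.Agent.Lib.H2.Sy4K
import Cfsg.Agent.Lib.H28.GLBasic

/-!
# Elements of `SL_4(F)` with scalar square are conjugate into the normalizer of `4 ∘ 2^{1+4}`
(helper2)
-/

set_option autoImplicit false
set_option linter.unusedSectionVars false
open scoped MatrixGroups
open Matrix Polynomial Module

namespace Cfsg.Agent.Lib.H2.Sy4

variable {F : Type*} [Field F]

/-- the transfer from `GL`-conjugacy to `SL`-conjugacy -/
theorem exists_sl_conj (H : Subgroup (GL (Fin 4) F)) (x : GL (Fin 4) F)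
    (y : GL (Fin 4) F) (hy : y ∈ H) (A Ai : M4 F) (hA : A * Ai = 1)
    (hconj : A * (x : M4 F) = (y : M4 F) * A)
    (hcent : ∃ C : M4 F, C * (x : M4 F) = (x : M4 F) * C ∧ C.det = A.det) :
    ∃ g ∈ Cfsg.Geo.specialLinear (Fin 4) F, g⁻¹ * x * g ∈ H := by
  obtain ⟨C, hC, hdet⟩ := hcent
  have hAiA : Ai * A = 1 := mul_eq_one_comm.mp hA
  have hdA : A.det * Ai.det = 1 := by rw [← Matrix.det_mul, hA, Matrix.det_one]
  have hdA0 : A.det ≠ 0 := left_ne_zero_of_mul_eq_one hdA
  have hCu : IsUnit C.det := by rw [hdet]; exact IsUnit.mk0 _ hdA0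
  have hCC : C * C⁻¹ = 1 := Matrix.mul_nonsing_inv C hCu
  have hCC' : C⁻¹ * C = 1 := Matrix.nonsing_inv_mul C hCu
  have hCi : C⁻¹ * (x : M4 F) = (x : M4 F) * C⁻¹ := by
    calc C⁻¹ * (x : M4 F) = C⁻¹ * ((x : M4 F) * C) * C⁻¹ := by
          rw [mul_assoc, mul_assoc, hCC, mul_one]
      _ = (x : M4 F) * C⁻¹ := by rw [← hC, ← mul_assoc, hCC', one_mul]
  let g : GL (Fin 4) F := ⟨C * Ai, A * C⁻¹, by
    rw [mul_assoc, ← mul_assoc Ai, hAiA, one_mul, hCC], by
    rw [mul_assoc, ← mul_assoc C⁻¹, hCC', one_mul, hA]⟩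
  refine ⟨g, ?_, ?_⟩
  · rw [Cfsg.Agent.Lib.H28.mem_specialLinear_iff]
    show (C * Ai).det = 1
    rw [Matrix.det_mul, hdet, hdA]
  · have e : g⁻¹ * x * g = y := by
      apply Units.ext
      show A * C⁻¹ * (x : M4 F) * (C * Ai) = (y : M4 F)
      calc A * C⁻¹ * (x : M4 F) * (C * Ai) = A * (C⁻¹ * (x : M4 F)) * C * Ai := by
            simp only [mul_assoc]
        _ = A * (x : M4 F) * (C⁻¹ * C) * Ai := by rw [hCi]; simp only [mul_assoc]
        _ = (y : M4 F) * (A * Ai) := by rw [hCC', mul_one, hconj, mul_assoc]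
        _ = (y : M4 F) := by rw [hA, mul_one]
    rw [e]
    exact hy

/-- a model of a matrix with square the non-square scalar `z` -/
def Msq (z : F) : M4 F := !![0, z, 0, 0; 1, 0, 0, 0; 0, 0, 0, z; 0, 0, 1, 0]

theorem Msq_mul (z : F) : Msq z * Msq z = z • (1 : M4 F) := by
  ext a b
  fin_cases a <;> fin_cases b <;> simp [Msq, Matrix.mul_apply, Fin.sum_univ_four]

theorem det_Msq (z : F) : (Msq z).det = z * z := by
  have h1 : Msq z = Matrix.of ![![0, z, 0, 0], ![1, 0, 0, 0], ![0, 0, 0, z], ![0, 0, 1, 0]] := rfl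
  rw [h1, Matrix.det_succ_row_zero, Fin.sum_univ_four]
  simp [Matrix.det_fin_three, Fin.succAbove, Matrix.submatrix]

/-- a matrix of determinant one with square a scalar `z` has `z` a square or `z² = 1` -/
theorem sq_of_det_one (M : M4 F) (z : F) (hz : ¬ IsSquare z) (hM : M * M = z • (1 : M4 F)) :
    M.det = z * z := by
  have hmonic : (X ^ 2 - C z : F[X]).Monic := monic_X_pow_sub_C z (by norm_num)
  have hdeg : (X ^ 2 - C z : F[X]).natDegree = 2 := natDegree_X_pow_sub_C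
  have hirr : Irreducible (X ^ 2 - C z : F[X]) := by
    rw [hmonic.irreducible_iff_roots_eq_zero_of_degree_le_three (by rw [hdeg]) (by rw [hdeg]; norm_num)]
    rw [Multiset.eq_zero_iff_forall_notMem]
    intro a ha
    rw [mem_roots hmonic.ne_zero, IsRoot, eval_sub, eval_pow, eval_X, eval_C, sub_eq_zero] at ha
    exact hz ⟨a, by rw [← ha, pow_two]⟩
  have haev : ∀ N : M4 F, N * N = z • (1 : M4 F) →
      aeval (Matrix.toLin' N) (X ^ 2 - C z : F[X]) = 0 := by
    intro N hN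
    rw [map_sub, map_pow, aeval_X, aeval_C, pow_two, ← toLin'_mul', hN, map_smul, toLin'_one',
      Algebra.algebraMap_eq_smul_one, sub_self]
  obtain ⟨g, hg⟩ := Cfsg.Agent.Lib.H13.SSClass.exists_equiv_of_irreducible _ hirr
    (Matrix.toLin' M) (Matrix.toLin' (Msq z)) (haev M hM) (haev _ (Msq_mul z)) rfl
  obtain ⟨A, Ai, hA, hconj⟩ := exists_matrix_of_equiv M (Msq z) g hg
  have hdA : A.det * Ai.det = 1 := by rw [← Matrix.det_mul, hA, Matrix.det_one]
  have hdA0 : A.det ≠ 0 := left_ne_zero_of_mul_eq_one hdA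
  have h1 := congrArg Matrix.det hconj
  rw [Matrix.det_mul, Matrix.det_mul, det_Msq, mul_comm] at h1
  exact mul_right_cancel₀ hdA0 h1

section

variable [Fintype F] {R : Subgroup (GL (Fin 4) F)} {i : Fˣ}

/-- every non-scalar element of `SL_4(F)` with scalar square has an `SL_4`-conjugate
normalizing `R` -/
theorem Sy.two_suff (h : Sy R i)
    (hchar : ∀ a b : ℕ, a ≤ 4 → b ≤ 4 → (a : F) = (b : F) → a = b)
    (x : GL (Fin 4) F) (hx : x ∈ Cfsg.Geo.specialLinear (Fin 4) F)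
    (hxr : ∃ z : F, ((x ^ 2 : GL (Fin 4) F) : M4 F) = z • (1 : M4 F)) (hns : ¬ IsSc x) :
    ∃ g ∈ Cfsg.Geo.specialLinear (Fin 4) F,
      g⁻¹ * x * g ∈ Subgroup.normalizer (R : Set (GL (Fin 4) F)) := by
  obtain ⟨z, hz⟩ := hxr
  have hdet : (x : M4 F).det = 1 := (Cfsg.Agent.Lib.H28.mem_specialLinear_iff x).1 hx
  have hxx : (x : M4 F) * (x : M4 F) = z • (1 : M4 F) := by
    rw [← hz, pow_two, Units.val_mul]
  have hsq : IsSquare z := by
    by_contra hnsq
    have h1 := sq_of_det_one (x : M4 F) z hnsq hxx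
    rw [hdet] at h1
    have h2 : (z - 1) * (z + 1) = 0 := by linear_combination -h1
    rcases mul_eq_zero.1 h2 with h3 | h3
    · apply hnsq
      rw [sub_eq_zero.1 h3]
      exact ⟨1, (one_mul 1).symm⟩
    · apply hnsq
      rw [eq_neg_of_add_eq_zero_left h3]
      exact ⟨(i : F), h.isq.symm⟩
  obtain ⟨l, hl⟩ := hsq
  have hz0 : z ≠ 0 := by
    rintro rfl
    rw [zero_smul] at hxx
    have := congrArg Matrix.det hxx
    rw [Matrix.det_mul, hdet, Matrix.det_zero, mul_one] at this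
    exact one_ne_zero this
  have hl0 : l ≠ 0 := by
    rintro rfl
    rw [mul_zero] at hl
    exact hz0 hl
  set lu : Fˣ := Units.mk0 l hl0 with hlu
  set E : M4 F := l⁻¹ • (x : M4 F) with hE
  have hxE : (x : M4 F) = l • E := by rw [hE, smul_smul, mul_inv_cancel₀ hl0, one_smul]
  have hEE : E * E = 1 := by
    rw [hE, Matrix.smul_mul, Matrix.mul_smul, smul_smul, hxx, smul_smul, hl]
    have : l⁻¹ * l⁻¹ * (l * l) = 1 := by field_simp
    rw [this, one_smul]
  have hE1 : E ≠ 1 := by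
    intro h1
    apply hns
    exact ⟨l, by rw [hxE, h1]⟩
  have hEn : E ≠ -1 := by
    intro h1
    apply hns
    exact ⟨-l, by rw [hxE, h1, smul_neg, neg_smul]⟩
  -- the trace of `E`
  obtain ⟨k, hk4, htr, hk1, hk0⟩ := invol_trace h.two_ne E hEE
  rw [Fintype.card_fin] at hk4 hk1
  have hk : k = 1 ∨ k = 2 ∨ k = 3 := by
    have h4 : k ≠ 4 := fun h4 => hE1 (hk1 h4)
    have h0 : k ≠ 0 := fun h0 => hEn (hk0 h0)
    omega
  -- the general step
  have key : ∀ (y₀ : GL (Fin 4) F), y₀ ∈ Subgroup.normalizer (R : Set (GL (Fin 4) F)) →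
      (y₀ : M4 F) * (y₀ : M4 F) = 1 → Matrix.trace (y₀ : M4 F) = Matrix.trace E →
      ∃ g ∈ Cfsg.Geo.specialLinear (Fin 4) F,
        g⁻¹ * x * g ∈ Subgroup.normalizer (R : Set (GL (Fin 4) F)) := by
    intro y₀ hy₀ hyy htry
    obtain ⟨A, Ai, hA, hconj⟩ := invol_conj (n := Fin 4)
      (by rw [Fintype.card_fin]; exact hchar) h.two_ne E (y₀ : M4 F) hEE hyy htry.symm
    have hdA : A.det * Ai.det = 1 := by rw [← Matrix.det_mul, hA, Matrix.det_one]
    obtain ⟨C, hC, hCd⟩ := invol_cent_det h.two_ne E hEE hEn A.det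
    apply exists_sl_conj _ x (scG lu * y₀)
      (Subgroup.mul_mem _ (h.sc_mem_normalizer (isSc_scG lu)) hy₀) A Ai hA
    · rw [Units.val_mul, scG_val, hxE, Matrix.mul_smul, hconj, Matrix.smul_mul, Matrix.one_mul,
        Matrix.smul_mul]
      rfl
    · refine ⟨C, ?_, hCd⟩
      rw [hxE, Matrix.mul_smul, Matrix.smul_mul, hC]
  rw [Fintype.card_fin] at htr
  rcases hk with rfl | rfl | rfl
  · -- trace `-2`: minus the swap
    obtain ⟨a, b, c, d, fr⟩ := h.exists_frame
    apply key (-(sG h.two_ne fr.mf))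
    · have : -(sG h.two_ne fr.mf) = (-1 : GL (Fin 4) F) * sG h.two_ne fr.mf := by
        rw [neg_mul, one_mul]
      rw [this]
      exact Subgroup.mul_mem _ (Subgroup.le_normalizer h.neg_mem) (h.sG_mem_normalizer fr)
    · rw [Units.val_neg, neg_mul_neg, ← Units.val_mul, sG_mul_self, Units.val_one]
    · rw [Units.val_neg, Matrix.trace_neg, h.trace_sG fr, htr]
      push_cast
      ring
  · -- trace `0`: a non-scalar involution of `R`
    obtain ⟨a, ha, haa, has⟩ := h.exists_invol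
    apply key a (Subgroup.le_normalizer ha)
    · rw [← Units.val_mul, haa, Units.val_one]
    · rw [h.trace_eq_zero ha has, htr]
      push_cast
      ring
  · -- trace `2`: the swap
    obtain ⟨a, b, c, d, fr⟩ := h.exists_frame
    apply key (sG h.two_ne fr.mf) (h.sG_mem_normalizer fr)
    · rw [← Units.val_mul, sG_mul_self, Units.val_one]
    · rw [h.trace_sG fr, htr]
      push_cast
      ring

end

end Cfsg.Agent.Lib.H2.Sy4
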