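import Mathlib
import Cfsg.Agent.Lib.H2.Sy4H
import Cfsg.Agent.Lib.H2.Sy4L
import Cfsg.Agent.Lib.H2.Sy4M
import Cfsg.Agent.Lib.H2.Sy4N

/-!
# Elements of order three of `PSL_4(p)`, `p ≡ 2 (mod 3)`, fix a point (helper2)
-/

set_option autoImplicit false
set_option linter.unusedSectionVars false
open scoped MatrixGroups
open Matrix Polynomial Module

namespace Cfsg.Agent.Lib.H2.Sy4

variable {F : Type*} [Field F]

theorem kfix_cases (hirr : Irreducible (X ^ 2 + X + 1 : F[X])) (h3 : (3 : F) ≠ 0) (M : M4 F)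
    (hM : M * M * M = 1) : kfix M = 0 ∨ kfix M = 2 ∨ kfix M = 4 := by
  have h1 := kfix_add h3 M hM
  have h2 := even_finrank_quad hirr M
  rw [Fintype.card_fin] at h1
  omega

theorem val_pow_three {y : GL (Fin 4) F} (hy : y ^ 3 = 1) :
    (y : M4 F) * (y : M4 F) * (y : M4 F) = 1 := by
  rw [← Units.val_mul, ← Units.val_mul, ← pow_two, ← pow_succ, hy, Units.val_one]

theorem yG_inv (h2 : (2 : F) ≠ 0) {A B : M4 F} (qp : QP A B) :
    (yG h2 qp)⁻¹ = yG h2 qp.opp := Units.ext rfl

/-- the quaternion pair attached to an anticommuting pair of involutions -/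
theorem qp_of_invol {R : Subgroup (GL (Fin 4) F)} {i : Fˣ} (h : Sy R i) {a b : GL (Fin 4) F}
    (haa : a * a = 1) (hbb : b * b = 1) (hab : a * b = -(b * a)) :
    (scG i * a) * (scG i * a) = -1 ∧ (scG i * b) * (scG i * b) = -1 ∧
      (scG i * b) * (scG i * a) = -((scG i * a) * (scG i * b)) := by
  have hsq : ∀ g : GL (Fin 4) F, (scG i * g) * (scG i * g) = -(g * g) := by
    intro g
    calc scG i * g * (scG i * g) = scG i * (g * scG i) * g := by group
      _ = scG i * (scG i * g) * g := by rw [← scG_comm i g]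
      _ = (scG i * scG i) * (g * g) := by group
      _ = -(g * g) := by rw [h.scG_sq, neg_mul, one_mul]
  refine ⟨by rw [hsq, haa], by rw [hsq, hbb], ?_⟩
  have hba : b * a = -(a * b) := by rw [hab, neg_neg]
  calc scG i * b * (scG i * a) = scG i * (b * scG i) * a := by group
    _ = scG i * (scG i * b) * a := by rw [← scG_comm i b]
    _ = scG i * scG i * (b * a) := by group
    _ = -(scG i * scG i * (a * b)) := by rw [hba, mul_neg]
    _ = -(scG i * (scG i * a) * b) := by group
    _ = -(scG i * (a * scG i) * b) := by rw [← scG_comm i a]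
    _ = -(scG i * a * (scG i * b)) := by group

theorem comm_of_i_mul {i : Fˣ} {a c : GL (Fin 4) F} (hac : a * c = c * a) :
    ((scG i * c : GL (Fin 4) F) : M4 F) * ((scG i * a : GL (Fin 4) F) : M4 F) =
      ((scG i * a : GL (Fin 4) F) : M4 F) * ((scG i * c : GL (Fin 4) F) : M4 F) := by
  rw [← Units.val_mul, ← Units.val_mul]
  congr 1
  calc scG i * c * (scG i * a) = scG i * (c * scG i) * a := by group
    _ = scG i * (scG i * c) * a := by rw [← scG_comm i c]
    _ = scG i * scG i * (c * a) := by group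
    _ = scG i * scG i * (a * c) := by rw [hac]
    _ = scG i * (scG i * a) * c := by group
    _ = scG i * (a * scG i) * c := by rw [← scG_comm i a]
    _ = scG i * a * (scG i * c) := by group

section

variable [Fintype F] {R : Subgroup (GL (Fin 4) F)} {i : Fˣ}

/-- every non-scalar element of `SL_4(F)` with scalar cube has an `SL_4`-conjugate
normalizing `R`, when `X² + X + 1` is irreducible and cube roots exist -/
theorem Sy.three_suff (h : Sy R i) (hirr : Irreducible (X ^ 2 + X + 1 : F[X])) (h3 : (3 : F) ≠ 0)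
    (hcube : ∀ z : F, z ≠ 0 → ∃ w : F, w * w * w = z)
    (x : GL (Fin 4) F) (hx : x ∈ Cfsg.Geo.specialLinear (Fin 4) F)
    (hxr : ∃ z : F, ((x ^ 3 : GL (Fin 4) F) : M4 F) = z • (1 : M4 F)) (hns : ¬ IsSc x) :
    ∃ g ∈ Cfsg.Geo.specialLinear (Fin 4) F,
      g⁻¹ * x * g ∈ Subgroup.normalizer (R : Set (GL (Fin 4) F)) := by
  obtain ⟨z, hz⟩ := hxr
  have hdet : (x : M4 F).det = 1 := (Cfsg.Agent.Lib.H28.mem_specialLinear_iff x).1 hx
  have hxxx : (x : M4 F) * (x : M4 F) * (x : M4 F) = z • (1 : M4 F) := by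
    rw [← hz, pow_succ, pow_two, Units.val_mul, Units.val_mul]
  have hz0 : z ≠ 0 := by
    rintro rfl
    rw [zero_smul] at hxxx
    have := congrArg Matrix.det hxxx
    rw [Matrix.det_mul, Matrix.det_mul, hdet, Matrix.det_zero, mul_one, mul_one] at this
    exact one_ne_zero this
  obtain ⟨w, hw⟩ := hcube z hz0
  have hw0 : w ≠ 0 := by
    rintro rfl
    rw [mul_zero] at hw
    exact hz0 hw.symm
  set wu : Fˣ := Units.mk0 w hw0 with hwu
  set M : M4 F := w⁻¹ • (x : M4 F) with hM
  have hxM : (x : M4 F) = w • M := by rw [hM, smul_smul, mul_inv_cancel₀ hw0, one_smul]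
  have hMMM : M * M * M = 1 := by
    have e1 : M * M * M = (w⁻¹ * w⁻¹ * w⁻¹) • ((x : M4 F) * (x : M4 F) * (x : M4 F)) := by
      rw [hM]
      simp only [Matrix.smul_mul, Matrix.mul_smul, smul_smul]
      congr 1
      ring
    rw [e1, hxxx, smul_smul, ← hw]
    have : w⁻¹ * w⁻¹ * w⁻¹ * (w * w * w) = 1 := by field_simp
    rw [this, one_smul]
  have hM1 : M ≠ 1 := by
    intro h1
    apply hns
    exact ⟨w, by rw [hxM, h1]⟩
  -- the frame and the two commuting elements of order three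
  obtain ⟨a, b, c, d, fr⟩ := h.exists_frame
  obtain ⟨haa', hbb', hba'⟩ := qp_of_invol h fr.aa fr.bb fr.ab
  obtain ⟨hcc', hdd', hdc'⟩ := qp_of_invol h fr.cc fr.dd fr.cd
  set q1 := qp_of_units haa' hbb' hba' with hq1
  set q2 := qp_of_units hcc' hdd' hdc' with hq2
  have hy1 : yG h.two_ne q1 ∈ Subgroup.normalizer (R : Set (GL (Fin 4) F)) :=
    h.yG_mem_normalizer (h.i_mul_mem fr.ha) (h.i_mul_mem fr.hb) haa' hbb' hba'
  have hy2 : yG h.two_ne q2 ∈ Subgroup.normalizer (R : Set (GL (Fin 4) F)) :=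
    h.yG_mem_normalizer (h.i_mul_mem fr.hc) (h.i_mul_mem fr.hd) hcc' hdd' hdc'
  -- the general step
  have key : ∀ (y₀ : GL (Fin 4) F), y₀ ∈ Subgroup.normalizer (R : Set (GL (Fin 4) F)) →
      y₀ ^ 3 = 1 → kfix (y₀ : M4 F) = kfix M →
      (∀ δ : F, ∃ C : M4 F, C * M = M * C ∧ C.det = δ) →
      ∃ g ∈ Cfsg.Geo.specialLinear (Fin 4) F,
        g⁻¹ * x * g ∈ Subgroup.normalizer (R : Set (GL (Fin 4) F)) := by
    intro y₀ hy₀ hy3 hk hcent
    obtain ⟨A, Ai, hA, hconj⟩ := ord3_conj hirr h3 M (y₀ : M4 F) hMMM (val_pow_three hy3) hk.symm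
    obtain ⟨C, hC, hCd⟩ := hcent A.det
    apply exists_sl_conj _ x (scG wu * y₀)
      (Subgroup.mul_mem _ (h.sc_mem_normalizer (isSc_scG wu)) hy₀) A Ai hA
    · rw [Units.val_mul, scG_val, hxM, Matrix.mul_smul, hconj, Matrix.smul_mul, Matrix.one_mul,
        Matrix.smul_mul]
      rfl
    · refine ⟨C, ?_, hCd⟩
      rw [hxM, Matrix.mul_smul, Matrix.smul_mul, hC]
  rcases kfix_cases hirr h3 M hMMM with hk | hk | hk
  · -- no fixed vectors
    apply key (yG h.two_ne q1) hy1 (yG_pow h.two_ne q1)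
    · rw [hk]
      exact kfix_zero_of_quad h3 _ (yG_quad h.two_ne q1)
    · intro δ
      apply cent_det_of_irreducible (X ^ 2 + X + 1 : F[X]) hirr M _ δ
      rw [aeval_quad, ← toLin'_mul', ← toLin'_one', ← map_add, ← map_add,
        quad_of_kfix_zero h3 M hMMM hk, map_zero]
  · -- a two-dimensional fixed space
    have hcomm := yG_mul_comm h.two_ne q1 q2 (comm_of_i_mul fr.ac) (comm_of_i_mul fr.ad)
      (comm_of_i_mul fr.bc) (comm_of_i_mul fr.bd)
    set Y := yG h.two_ne q1 * yG h.two_ne q2 with hY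
    have hY3 : Y ^ 3 = 1 := by
      rw [hY, (Commute.mul_pow hcomm), yG_pow, yG_pow, one_mul]
    have htr : Matrix.trace (Y : M4 F) = 1 :=
      trace_yG_mul_yG h.two_ne q1 q2 (comm_of_i_mul fr.ac) (comm_of_i_mul fr.ad)
        (comm_of_i_mul fr.bc) (comm_of_i_mul fr.bd)
    have htri : Matrix.trace ((Y⁻¹ : GL (Fin 4) F) : M4 F) = 1 := by
      have e : Y⁻¹ = yG h.two_ne q2.opp * yG h.two_ne q1.opp := by
        rw [hY, _root_.mul_inv_rev, yG_inv, yG_inv]
      rw [e]
      apply trace_yG_mul_yG h.two_ne q2.opp q1.opp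
      · rw [neg_mul_neg, neg_mul_neg, comm_of_i_mul fr.bd]
      · rw [neg_mul_neg, neg_mul_neg, comm_of_i_mul fr.ad]
      · rw [neg_mul_neg, neg_mul_neg, comm_of_i_mul fr.bc]
      · rw [neg_mul_neg, neg_mul_neg, comm_of_i_mul fr.ac]
    have hYk : kfix (Y : M4 F) = 2 := by
      rcases kfix_cases hirr h3 (Y : M4 F) (val_pow_three hY3) with h0 | h2 | h4
      · exfalso
        have hq := quad_of_kfix_zero h3 (Y : M4 F) (val_pow_three hY3) h0
        have hYi : ((Y⁻¹ : GL (Fin 4) F) : M4 F) = (Y : M4 F) * (Y : M4 F) := by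
          have : Y⁻¹ = Y * Y := by
            apply inv_eq_of_mul_eq_one_right
            rw [← mul_assoc, ← pow_two, ← pow_succ, hY3]
          rw [this, Units.val_mul]
        have := congrArg Matrix.trace hq
        rw [Matrix.trace_add, Matrix.trace_add, ← hYi, htri, htr, Matrix.trace_one,
          Matrix.trace_zero, card_fin4] at this
        have h6 : (2 : F) * 3 = 0 := by linear_combination this
        exact mul_ne_zero h.two_ne h3 h6
      · exact h2
      · exfalso
        have := eq_one_of_kfix (Y : M4 F) (by rw [Fintype.card_fin]; exact h4)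
        rw [this, Matrix.trace_one, card_fin4] at htr
        apply h3
        linear_combination htr
    apply key Y (Subgroup.mul_mem _ hy1 hy2) hY3 (by rw [hYk, hk])
    · intro δ
      exact ord3_cent_det_fix h3 M hMMM (by rw [hk]; norm_num) δ
  · exact absurd (eq_one_of_kfix M (by rw [Fintype.card_fin]; exact hk)) hM1

end

end Cfsg.Agent.Lib.H2.Sy4
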