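import Mathlib
import Cfsg.Agent.Lib.H2.Sy4I
import Cfsg.Agent.Lib.H2.Sy4N
import Cfsg.Agent.Lib.H13.SpDerange

/-!
# Elements of order five of `PSL_4(q)`, `q` of order four modulo five, fix a point (helper2)

The cyclicity of the Sylow `5`-subgroups follows helper25's `Lib/H25/Ex4J`.
-/

set_option autoImplicit false
set_option linter.unusedSectionVars false
set_option linter.style.haveILetI false
open scoped MatrixGroups
open Matrix Module

namespace Cfsg.Agent.Lib.H2.Sy4

theorem mem_zpowers_of_cyclic {P : Type*} [Group P] [Finite P] [IsCyclic P] {t c : P} {n : ℕ}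
    (hn : 0 < n) (ht : orderOf t = n) (hc : c ^ n = 1) : c ∈ Subgroup.zpowers t := by
  classical
  haveI : Fintype P := Fintype.ofFinite P
  have h1 := IsCyclic.card_pow_eq_one_le (α := P) hn
  have h2 : ((Subgroup.zpowers t : Set P).toFinset).card = n := by
    rw [Set.toFinset_card, ← Nat.card_eq_fintype_card]
    show Nat.card (Subgroup.zpowers t) = n
    rw [Nat.card_zpowers, ht]
  have h3 : (Subgroup.zpowers t : Set P).toFinset ⊆ Finset.univ.filter (fun a : P => a ^ n = 1) := by
    intro a ha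
    rw [Set.mem_toFinset, SetLike.mem_coe, Subgroup.mem_zpowers_iff] at ha
    obtain ⟨k, rfl⟩ := ha
    rw [Finset.mem_filter]
    refine ⟨Finset.mem_univ _, ?_⟩
    rw [← zpow_natCast, ← _root_.zpow_mul, mul_comm, _root_.zpow_mul, zpow_natCast, ← ht,
      pow_orderOf_eq_one, _root_.one_zpow]
  have h4 := Finset.eq_of_subset_of_card_le h3 (by rw [h2]; exact h1)
  have h5 : c ∈ Finset.univ.filter (fun a : P => a ^ n = 1) := by
    rw [Finset.mem_filter]
    exact ⟨Finset.mem_univ _, hc⟩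
  rw [← h4, Set.mem_toFinset] at h5
  exact h5

/-- if the Sylow `p`-subgroups are cyclic, any two elements of order `p` generate conjugate
subgroups -/
theorem conj_mem_zpowers {G : Type*} [Group G] [Finite G] (p : ℕ) [Fact p.Prime]
    (hcyc : ∀ P : Sylow p G, IsCyclic P) (t x : G) (ht : orderOf t = p) (hx : orderOf x = p) :
    ∃ g : G, g⁻¹ * x * g ∈ Subgroup.zpowers t := by
  have hp : p.Prime := Fact.out
  have hpg : ∀ y : G, orderOf y = p → IsPGroup p (Subgroup.zpowers y) := by
    intro y hy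
    apply IsPGroup.of_card (n := 1)
    rw [Nat.card_zpowers, hy, pow_one]
  obtain ⟨P, hP⟩ := (hpg t ht).exists_le_sylow
  obtain ⟨Q, hQ⟩ := (hpg x hx).exists_le_sylow
  obtain ⟨g, hg⟩ := MulAction.exists_smul_eq G P Q
  have hxQ : x ∈ (Q : Subgroup G) := hQ (Subgroup.mem_zpowers x)
  have htP : t ∈ (P : Subgroup G) := hP (Subgroup.mem_zpowers t)
  have hc : g⁻¹ * x * g ∈ (P : Subgroup G) := by
    rw [← hg, Sylow.coe_subgroup_smul, Subgroup.mem_pointwise_smul_iff_inv_smul_mem] at hxQ
    have e : (MulAut.conj g)⁻¹ • x = g⁻¹ * x * g := by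
      rw [MulAut.smul_def, MulAut.conj_inv_apply]
    rwa [e] at hxQ
  haveI := hcyc P
  have h1 : orderOf (⟨t, htP⟩ : (P : Subgroup G)) = p := by
    rw [Subgroup.orderOf_mk t htP]
    exact ht
  have h2 : (⟨g⁻¹ * x * g, hc⟩ : (P : Subgroup G)) ^ p = 1 := by
    apply Subtype.ext
    rw [Subgroup.coe_pow, Subgroup.coe_one]
    show (g⁻¹ * x * g) ^ p = 1
    have e : (g⁻¹ * x * g) ^ p = g⁻¹ * x ^ p * g := by
      have := conj_pow (a := g⁻¹) (b := x) (i := p)
      rwa [inv_inv] at this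
    rw [e, ← hx, pow_orderOf_eq_one]
    group
  have h3 := mem_zpowers_of_cyclic hp.pos h1 h2
  rw [Subgroup.mem_zpowers_iff] at h3
  obtain ⟨k, hk⟩ := h3
  refine ⟨g, ?_⟩
  rw [Subgroup.mem_zpowers_iff]
  refine ⟨k, ?_⟩
  have := congrArg (fun z : (P : Subgroup G) => (z : G)) hk
  simpa using this

variable {F : Type*} [Field F] [Fintype F]

/-- a finite group of matrices centralizing an irreducible matrix is cyclic -/
theorem cyclic_of_irred {P : Type*} [Group P] [Finite P] (ψ : P →* GL (Fin 4) F)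
    (hψ : Function.Injective ψ) (y : GL (Fin 4) F) (hy : ∀ g : P, ψ g * y = y * ψ g)
    (hirr : ∀ S : Submodule F (Fin 4 → F), (∀ v ∈ S, (y : M4 F) *ᵥ v ∈ S) →
      S = ⊥ ∨ S = ⊤) : IsCyclic P := by
  classical
  let D : Subring (M4 F) := Subring.centralizer {(y : M4 F)}
  have hD : ∀ d : D, (y : M4 F) * (d : M4 F) =
      (d : M4 F) * (y : M4 F) := by
    intro d
    have := d.2
    rw [Subring.mem_centralizer_iff] at this
    exact this _ rfl
  haveI : NoZeroDivisors D := by
    constructor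
    intro d₁ d₂ h12
    by_cases h1 : d₁ = 0
    · left; exact h1
    right
    have hker : LinearMap.ker (Matrix.toLin' (d₁ : M4 F)) = ⊥ := by
      rcases hirr (LinearMap.ker (Matrix.toLin' (d₁ : M4 F))) (by
        intro v hv
        rw [LinearMap.mem_ker, Matrix.toLin'_apply] at hv ⊢
        rw [Matrix.mulVec_mulVec, ← hD d₁, ← Matrix.mulVec_mulVec, hv, Matrix.mulVec_zero]) with
        h3 | h3
      · exact h3
      · exfalso
        apply h1
        apply Subtype.ext
        apply Matrix.toLin'.injective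
        rw [LinearMap.ker_eq_top] at h3
        rw [h3]
        simp
    apply Subtype.ext
    apply Matrix.toLin'.injective
    apply LinearMap.ext
    intro v
    have h4 : Matrix.toLin' (d₁ : M4 F) (Matrix.toLin' (d₂ : M4 F) v) = 0 := by
      rw [Matrix.toLin'_apply, Matrix.toLin'_apply, Matrix.mulVec_mulVec]
      have := congrArg (fun d : D => (d : M4 F)) h12
      simp only [Subring.coe_mul, Subring.coe_zero] at this
      rw [this, Matrix.zero_mulVec]
    have h5 := LinearMap.ker_eq_bot.1 hker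
    have h6 : Matrix.toLin' (d₂ : M4 F) v = 0 := by
      apply h5
      rw [h4, map_zero]
    rw [h6]
    simp
  haveI : IsDomain D := NoZeroDivisors.to_isDomain D
  have hfield : IsField D := Finite.isDomain_to_isField D
  letI : CommRing D := { (inferInstance : Ring D) with mul_comm := hfield.mul_comm }
  haveI : IsDomain D := NoZeroDivisors.to_isDomain D
  let f : P →* D :=
    { toFun := fun g => ⟨((ψ g : GL (Fin 4) F) : M4 F), by
        rw [Subring.mem_centralizer_iff]
        intro z hz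
        rw [Set.mem_singleton_iff] at hz
        rw [hz, ← Units.val_mul, ← Units.val_mul, hy g]⟩
      map_one' := by
        apply Subtype.ext
        simp
      map_mul' := fun a b => by
        apply Subtype.ext
        simp }
  have hf : Function.Injective f := by
    intro a b hab
    apply hψ
    apply Units.ext
    exact congrArg (fun d : D => (d : M4 F)) hab
  exact isCyclic_of_injective_ringHom f hf

/-- finite `5`-groups of `4 × 4` matrices over a field whose order has order four modulo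
five are cyclic -/
theorem cyclic_of_ppd (q : ℕ) (hq : Fintype.card F = q) (h5q : ¬ 5 ∣ q)
    (hmin : ∀ k, 0 < k → k < 4 → ¬ 5 ∣ q ^ k - 1) {P : Type*} [Group P] [Finite P]
    (hP : IsPGroup 5 P) (ψ : P →* GL (Fin 4) F) (hψ : Function.Injective ψ) : IsCyclic P := by
  classical
  haveI : Fact (Nat.Prime 5) := ⟨Nat.prime_five⟩
  rcases subsingleton_or_nontrivial P with hs | hn
  · exact isCyclic_of_subsingleton
  · haveI := hP.center_nontrivial
    have hdvd : 5 ∣ Nat.card (Subgroup.center P) := by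
      rcases (hP.to_subgroup (Subgroup.center P)).card_eq_or_dvd with h1 | h1
      · exfalso
        have := Finite.one_lt_card_iff_nontrivial.2 (inferInstance : Nontrivial (Subgroup.center P))
        omega
      · exact h1
    obtain ⟨y₀, hy₀⟩ := exists_prime_orderOf_dvd_card' 5 hdvd
    have hy₀c : ∀ g : P, g * (y₀ : P) = (y₀ : P) * g := by
      intro g
      exact (Subgroup.mem_center_iff.1 y₀.2 g)
    have hord : orderOf (ψ (y₀ : P)) = 5 := by
      rw [orderOf_injective ψ hψ, Subgroup.orderOf_coe]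
      exact hy₀
    set y := ψ (y₀ : P) with hy
    have hy5 : y ^ 5 = 1 := by rw [← hord]; exact pow_orderOf_eq_one y
    have hy1 : y ≠ 1 := by
      intro h1
      rw [h1, orderOf_one] at hord
      omega
    apply cyclic_of_irred ψ hψ y
    · intro g
      rw [hy, ← map_mul, ← map_mul, hy₀c g]
    · intro S hS
      apply Cfsg.Agent.Lib.H13.SpDerange.irreducible_of_ppd q hq 4 (by
          rw [Module.finrank_fintype_fun_eq_card]; simp) 5 h5q hmin
        (Matrix.toLin' (y : M4 F))
      · rw [← Cfsg.Agent.Lib.H13.SpDerange.toLin'_pow', ← Units.val_pow_eq_pow_val, hy5,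
          Units.val_one, Matrix.toLin'_one]
        rfl
      · intro h1
        apply hy1
        apply Units.ext
        apply Matrix.toLin'.injective
        rw [h1, Units.val_one, Matrix.toLin'_one]
        rfl
      · intro v hv
        rw [Matrix.toLin'_apply]
        exact hS v hv

/-- fifth powers are injective on `Fˣ` when `5 ∤ q - 1` -/
theorem eq_one_of_pow_five (q : ℕ) (hq : Fintype.card F = q) (h5 : ¬ 5 ∣ q - 1) (u : Fˣ)
    (hu : u ^ 5 = 1) : u = 1 := by
  classical
  have h1 : orderOf u ∣ 5 := orderOf_dvd_of_pow_eq_one hu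
  have h2 : orderOf u ∣ q - 1 := by
    have := orderOf_dvd_card (x := u)
    rwa [Fintype.card_units, hq] at this
  have h3 : Nat.Coprime 5 (q - 1) := (Nat.Prime.coprime_iff_not_dvd Nat.prime_five).2 h5
  have h4 : orderOf u ∣ Nat.gcd 5 (q - 1) := Nat.dvd_gcd h1 h2
  rw [h3] at h4
  exact orderOf_eq_one_iff.1 (Nat.dvd_one.1 h4)

theorem exists_fifth_root (q : ℕ) (hq : Fintype.card F = q) (h5 : ¬ 5 ∣ q - 1) (z : Fˣ) :
    ∃ w : Fˣ, w ^ 5 = z := by
  classical
  have hinj : Function.Injective (fun w : Fˣ => w ^ 5) := by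
    intro a b hab
    have h1 : (a * b⁻¹) ^ 5 = 1 := by
      rw [mul_pow, inv_pow]
      exact mul_inv_eq_one.2 hab
    have := eq_one_of_pow_five q hq h5 _ h1
    exact mul_inv_eq_one.1 this
  exact (Finite.injective_iff_surjective.1 hinj) z

theorem mem_sl_of_pow_five (q : ℕ) (hq : Fintype.card F = q) (h5 : ¬ 5 ∣ q - 1)
    (y : GL (Fin 4) F) (hy : y ^ 5 = 1) : y ∈ Cfsg.Geo.specialLinear (Fin 4) F := by
  rw [Cfsg.Agent.Lib.H28.mem_specialLinear_iff]
  have h1 : (Matrix.GeneralLinearGroup.det y) ^ 5 = 1 := by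
    rw [← map_pow, hy, map_one]
  have h2 := eq_one_of_pow_five q hq h5 _ h1
  have := congrArg Units.val h2
  rwa [Matrix.GeneralLinearGroup.val_det_apply, Units.val_one] at this

variable {R : Subgroup (GL (Fin 4) F)} {i : Fˣ}

/-- every non-scalar element of `SL_4(q)` with scalar fifth power has an `SL_4`-conjugate
normalizing `R`, when `q` has order four modulo five -/
theorem Sy.five_suff (h : Sy R i) (q : ℕ)
    (hq : Fintype.card F = q) (h5q : ¬ 5 ∣ q) (hmin : ∀ k, 0 < k → k < 4 → ¬ 5 ∣ q ^ k - 1)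
    (x : GL (Fin 4) F) (hx : x ∈ Cfsg.Geo.specialLinear (Fin 4) F)
    (hxr : ∃ z : F, ((x ^ 5 : GL (Fin 4) F) : M4 F) = z • (1 : M4 F)) (hns : ¬ IsSc x) :
    ∃ g ∈ Cfsg.Geo.specialLinear (Fin 4) F,
      g⁻¹ * x * g ∈ Subgroup.normalizer (R : Set (GL (Fin 4) F)) := by
  classical
  haveI : Fact (Nat.Prime 5) := ⟨Nat.prime_five⟩
  have h5 : ¬ 5 ∣ q - 1 := by
    have := hmin 1 (by norm_num) (by norm_num)
    rwa [pow_one] at this
  obtain ⟨z, hz⟩ := hxr
  have hz0 : z ≠ 0 := by
    rintro rfl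
    rw [zero_smul] at hz
    have h1 := (x ^ 5).isUnit
    have : IsUnit ((x ^ 5 : GL (Fin 4) F) : M4 F) := ⟨x ^ 5, rfl⟩
    rw [hz] at this
    exact not_isUnit_zero this
  obtain ⟨w, hw⟩ := exists_fifth_root q hq h5 (Units.mk0 z hz0)
  have hx5 : x ^ 5 = scG (Units.mk0 z hz0) := by
    apply Units.ext
    rw [hz, scG_val, Units.val_mk0]
  set x₁ : GL (Fin 4) F := (scG w)⁻¹ * x with hx₁
  have hcomm : Commute (scG w)⁻¹ x := by
    have := scG_comm w x
    show (scG w)⁻¹ * x = x * (scG w)⁻¹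
    rw [eq_mul_inv_iff_mul_eq, mul_assoc, ← this, ← mul_assoc, inv_mul_cancel, one_mul]
  have hx₁5 : x₁ ^ 5 = 1 := by
    rw [hx₁, hcomm.mul_pow, hx5, inv_pow, ← map_pow, hw, inv_mul_cancel]
  have hxx₁ : x = scG w * x₁ := by rw [hx₁, ← mul_assoc, mul_inv_cancel, one_mul]
  have hx₁1 : x₁ ≠ 1 := by
    intro h1
    apply hns
    rw [hxx₁, h1, mul_one]
    exact isSc_scG w
  have hx₁sl := mem_sl_of_pow_five q hq h5 x₁ hx₁5
  clear_value x₁
  obtain ⟨t, ht, ht5⟩ := h.exists_order_five
  have htsl := mem_sl_of_pow_five q hq h5 t (by rw [← ht5]; exact pow_orderOf_eq_one t)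
  have hcyc : ∀ P : Sylow 5 (Cfsg.Geo.specialLinear (Fin 4) F), IsCyclic P := by
    intro P
    apply cyclic_of_ppd q hq h5q hmin P.isPGroup'
      ((Cfsg.Geo.specialLinear (Fin 4) F).subtype.comp
        (P : Subgroup (Cfsg.Geo.specialLinear (Fin 4) F)).subtype)
    intro a b hab
    apply Subtype.ext
    apply Subtype.ext
    exact hab
  have hto : orderOf (⟨t, htsl⟩ : Cfsg.Geo.specialLinear (Fin 4) F) = 5 := by
    rw [Subgroup.orderOf_mk]
    exact ht5
  have hxo : orderOf (⟨x₁, hx₁sl⟩ : Cfsg.Geo.specialLinear (Fin 4) F) = 5 := by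
    rw [Subgroup.orderOf_mk]
    exact orderOf_eq_prime hx₁5 hx₁1
  obtain ⟨g, hg⟩ := conj_mem_zpowers 5 hcyc _ _ hto hxo
  rw [Subgroup.mem_zpowers_iff] at hg
  obtain ⟨k, hk⟩ := hg
  have hk' : t ^ k = (g : GL (Fin 4) F)⁻¹ * x₁ * (g : GL (Fin 4) F) := by
    have := congrArg (fun y : Cfsg.Geo.specialLinear (Fin 4) F => (y : GL (Fin 4) F)) hk
    simpa using this
  have hmem : (g : GL (Fin 4) F)⁻¹ * x₁ * (g : GL (Fin 4) F) ∈
      Subgroup.normalizer (R : Set (GL (Fin 4) F)) := by
    rw [← hk']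
    exact Subgroup.zpow_mem _ ht k
  refine ⟨g, g.2, ?_⟩
  have e : scG w * ((g : GL (Fin 4) F)⁻¹ * x₁ * (g : GL (Fin 4) F)) =
      (g : GL (Fin 4) F)⁻¹ * x * (g : GL (Fin 4) F) := by
    calc scG w * ((g : GL (Fin 4) F)⁻¹ * x₁ * (g : GL (Fin 4) F))
        = (scG w * (g : GL (Fin 4) F)⁻¹) * x₁ * (g : GL (Fin 4) F) := by
          simp only [mul_assoc]
      _ = (g : GL (Fin 4) F)⁻¹ * scG w * x₁ * (g : GL (Fin 4) F) := by
          rw [scG_comm w (g : GL (Fin 4) F)⁻¹]
      _ = (g : GL (Fin 4) F)⁻¹ * (scG w * x₁) * (g : GL (Fin 4) F) := by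
          rw [mul_assoc (g : GL (Fin 4) F)⁻¹ (scG w) x₁]
      _ = (g : GL (Fin 4) F)⁻¹ * x * (g : GL (Fin 4) F) := by rw [← hxx₁]
  rw [← e]
  exact Subgroup.mul_mem _ (h.sc_mem_normalizer (isSc_scG w)) hmem

end Cfsg.Agent.Lib.H2.Sy4
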