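import Mathlib
import Cfsg.Agent.Lib.H2.Sy4A
import Cfsg.Agent.Lib.H22.SympExtra3

/-!
# From the symplectic-type hypotheses to the elementwise data `Sy R i` (helper2)
-/

set_option autoImplicit false
set_option linter.unusedSectionVars false
set_option linter.style.haveILetI false
open scoped MatrixGroups
open Matrix

namespace Cfsg.Agent.Lib.H2.Sy4

variable {F : Type*} [Field F]

/-- a `2`-group `R ≤ GL_4(F)` of symplectic type, of exponent `4` and order `2^6`, with centre of
order `4`, acting absolutely irreducibly, satisfies `Sy R i` for a suitable `i` -/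
theorem sy_of_data (h2 : (2 : F) ≠ 0) (R : Subgroup (GL (Fin 4) F))
    (hRs : Cfsg.Geo.IsSymplecticTypeGroup 2 R)
    (hRi : Cfsg.Geo.ActsAbsolutelyIrreducibly (Cfsg.Geo.matrixSet R))
    (hR6 : Nat.card R = 2 ^ 6) (hRZ : Nat.card (Subgroup.center R) = 4) :
    ∃ i : Fˣ, Sy R i := by
  classical
  have hcard : Nat.card R = 64 := by rw [hR6]; norm_num
  haveI : Finite R := Nat.finite_of_card_ne_zero (by rw [hcard]; norm_num)
  have hscal : ∀ M : M4 F,
      (∀ a ∈ R, M * (a : M4 F) = (a : M4 F) * M) → ∃ c : F, M = c • (1 : M4 F) := by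
    intro M hM
    apply hRi.2 M
    rintro s ⟨g, hg, rfl⟩
    exact hM g hg
  have h4 : ∀ q : R, q ^ 4 = 1 := by
    intro q
    have h5 : Monoid.exponent R = 4 := by
      rw [hRs.exponent_eq]
      rfl
    have h6 := Monoid.pow_exponent_eq_one q
    rwa [h5] at h6
  -- the centre consists of scalars
  have hsc : ∀ c : Subgroup.center R, ∃ l : F, (((c : R) : GL (Fin 4) F) : M4 F) = l • (1 : M4 F) := by
    intro c
    have hcc : ∀ a : R, a * (c : R) = (c : R) * a := fun a => Subgroup.mem_center_iff.1 c.2 a
    apply hscal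
    intro a ha
    have := hcc ⟨a, ha⟩
    have := congrArg (fun u : R => ((u : GL (Fin 4) F) : M4 F)) this
    simp only [Subgroup.coe_mul, Units.val_mul] at this
    exact this.symm
  choose l hl using hsc
  have hl4 : ∀ c, l c ^ 4 = 1 := by
    intro c
    have h5 := h4 (c : R)
    have h6 := congrArg (fun u : R => ((u : GL (Fin 4) F) : M4 F)) h5
    simp only [Subgroup.coe_pow, Units.val_pow_eq_pow_val, Subgroup.coe_one, Units.val_one] at h6
    rw [hl c, smul_pow, one_pow] at h6
    have h7 := congrFun (congrFun h6 0) 0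
    simpa using h7
  obtain ⟨c, hc1, hcn⟩ : ∃ c : Subgroup.center R, l c ≠ 1 ∧ l c ≠ -1 := by
    by_contra hcon
    push Not at hcon
    have hinj : Function.Injective (fun c : Subgroup.center R => decide (l c = 1)) := by
      intro a b hab
      have hab' : l a = 1 ↔ l b = 1 := by
        have := congrArg (fun t : Bool => t = true) hab
        simpa using this
      have hlab : l a = l b := by
        by_cases ha : l a = 1
        · rw [ha, hab'.1 ha]
        · have hb : ¬ l b = 1 := fun hb => ha (hab'.2 hb)
          rw [hcon a ha, hcon b hb]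
      apply Subtype.ext
      apply Subtype.ext
      apply Units.ext
      rw [hl a, hl b, hlab]
    have := Nat.card_le_card_of_injective _ hinj
    rw [hRZ, Nat.card_eq_fintype_card, Fintype.card_bool] at this
    omega
  have hll : l c * l c = -1 := by
    have h5 : (l c * l c - 1) * (l c * l c + 1) = 0 := by linear_combination hl4 c
    rcases mul_eq_zero.1 h5 with h6 | h6
    · exfalso
      have h7 : (l c - 1) * (l c + 1) = 0 := by linear_combination h6
      rcases mul_eq_zero.1 h7 with h8 | h8
      · exact hc1 (sub_eq_zero.1 h8)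
      · exact hcn (eq_neg_of_add_eq_zero_left h8)
    · exact eq_neg_of_add_eq_zero_left h6
  have hl0 : l c ≠ 0 := by
    intro h0
    rw [h0, mul_zero] at hll
    have : (1 : F) = 0 := by linear_combination hll
    exact one_ne_zero this
  set i : Fˣ := Units.mk0 (l c) hl0 with hi
  have himem : scG i ∈ R := by
    have : scG i = ((c : R) : GL (Fin 4) F) := by
      apply Units.ext
      rw [scG_val, hl c, hi, Units.val_mk0]
    rw [this]
    exact (c : R).2
  have hisq : (i : F) * (i : F) = -1 := by rw [hi, Units.val_mk0]; exact hll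
  have hneg : (-1 : GL (Fin 4) F) ∈ R := by
    have : scG i * scG i = (-1 : GL (Fin 4) F) := by
      apply Units.ext
      rw [Units.val_mul, scG_val, Matrix.smul_mul, Matrix.one_mul, smul_smul, hisq, Units.val_neg,
        Units.val_one, neg_smul, one_smul]
    rw [← this]
    exact R.mul_mem himem himem
  set z' : R := ⟨-1, hneg⟩ with hz'
  have hz1 : z' ≠ 1 := by
    intro h
    have := congrArg (fun u : R => (u : GL (Fin 4) F)) h
    exact neg_ne_self h2 1 this
  have hzz : z' * z' = 1 := by
    apply Subtype.ext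
    show (-1 : GL (Fin 4) F) * (-1) = 1
    rw [neg_mul_neg, one_mul]
  have hzc : ∀ a : R, a * z' = z' * a := by
    intro x
    apply Subtype.ext
    show (x : GL (Fin 4) F) * (-1) = (-1) * (x : GL (Fin 4) F)
    rw [mul_neg, neg_mul, mul_one, one_mul]
  obtain ⟨d1, d2, _⟩ := Cfsg.Agent.Lib.H22.LargeExtra.symp_data hRs.pGroup
    hRs.cyclic_of_characteristic h4 z' hz1 hzz hzc
  refine ⟨i, h2, hisq, himem, hcard, ?_, ?_, hscal⟩
  · intro a ha
    rcases d2 ⟨a, ha⟩ with h5 | h5
    · left
      exact congrArg (fun u : R => (u : GL (Fin 4) F)) h5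
    · right
      exact congrArg (fun u : R => (u : GL (Fin 4) F)) h5
  · intro a ha b hb
    rcases d1 ⟨a, ha⟩ ⟨b, hb⟩ with h5 | h5
    · left
      have h6 := congrArg (fun u : R => (u : GL (Fin 4) F)) h5
      simp only [Subgroup.coe_mul, Subgroup.coe_inv, Subgroup.coe_one] at h6
      calc a * b = a * b * a⁻¹ * b⁻¹ * (b * a) := by group
        _ = b * a := by rw [h6, one_mul]
    · right
      have h6 := congrArg (fun u : R => (u : GL (Fin 4) F)) h5
      simp only [Subgroup.coe_mul, Subgroup.coe_inv] at h6
      calc a * b = a * b * a⁻¹ * b⁻¹ * (b * a) := by group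
        _ = -(b * a) := by
          rw [h6]
          show (-1 : GL (Fin 4) F) * (b * a) = -(b * a)
          rw [neg_mul, one_mul]

/-- the hypotheses of S6000 (class-6 data in dimension four with `|R| = 2^6`) give `Sy R i` -/
theorem sy_of_hyp [Fintype F] (h2 : (2 : F) ≠ 0) (R : Subgroup (GL (Fin 4) F))
    (hR : Cfsg.Geo.IsLinearSymplecticTypeData 2 R) (hR6 : Nat.card R = 2 ^ 6) :
    ∃ i : Fˣ, Sy R i := by
  obtain ⟨p', e, _, _, hbr⟩ := hR.field
  have hRZ : Nat.card (Subgroup.center R) = 4 := by
    rcases hbr with ⟨h, _⟩ | ⟨_, _, h, _⟩ | ⟨_, _, h, _⟩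
    · exact absurd h (by decide)
    · exact h
    · rw [Fintype.card_fin] at h
      omega
  exact sy_of_data h2 R hR.symplecticType hR.absIrred hR6 hRZ

end Cfsg.Agent.Lib.H2.Sy4
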