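import Mathlib
import Cfsg.Agent.Lib.H2.Sy4E
import Cfsg.Agent.Lib.H2.Sy4O
import Cfsg.Agent.Lib.H2.Sy4P
import Cfsg.Agent.Lib.H2.Sy4Q
import Cfsg.Agent.Lib.H25.Ex4M

/-!
# S6000: prime order elements of `PSL_4(p)`, `p ≡ 1 (mod 4)`, and the normalizer of `4 ∘ 2^{1+4}`
(helper2)
-/

set_option autoImplicit false
set_option linter.unusedSectionVars false
set_option linter.style.haveILetI false
open scoped MatrixGroups
open Matrix Polynomial

namespace Cfsg.Agent.Lib.H2.Sy4

theorem prime_ge_seven {r : ℕ} (hr : r.Prime) (h2 : r ≠ 2) (h3 : r ≠ 3) (h5 : r ≠ 5) : 7 ≤ r := by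
  by_contra hlt
  push Not at hlt
  have := hr.two_le
  interval_cases r
  · exact h2 rfl
  · exact h3 rfl
  · exact absurd hr (by norm_num)
  · exact h5 rfl
  · exact absurd hr (by norm_num)

variable {F : Type*} [Field F]

theorem natCast_ne_zero_of_prime_ne {p : ℕ} [CharP F p] (hp : p.Prime)
    {n : ℕ} (hn : n.Prime) (hne : n ≠ p) : ((n : ℕ) : F) ≠ 0 := by
  intro h
  rw [CharP.cast_eq_zero_iff F p] at h
  exact hne ((Nat.prime_dvd_prime_iff_eq hp hn).1 h).symm

theorem natCast_inj_of_lt_char {p : ℕ} [CharP F p] (hp5 : 5 ≤ p) (a b : ℕ) (ha : a ≤ 4)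
    (hb : b ≤ 4) (hab : (a : F) = (b : F)) : a = b := by
  rw [CharP.natCast_eq_natCast F p] at hab
  have h1 : a % p = a := Nat.mod_eq_of_lt (by omega)
  have h2 : b % p = b := Nat.mod_eq_of_lt (by omega)
  unfold Nat.ModEq at hab
  rw [h1, h2] at hab
  exact hab

variable [Fintype F]

/-- a primitive cube root of unity when `3 ∣ q - 1` -/
theorem exists_omega (q : ℕ) (hq : Fintype.card F = q) (h3 : 3 ∣ q - 1) :
    ∃ ω : F, ω ^ 2 + ω + 1 = 0 := by
  classical
  haveI : Fact (Nat.Prime 3) := ⟨Nat.prime_three⟩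
  have hdvd : 3 ∣ Fintype.card Fˣ := by rwa [Fintype.card_units, hq]
  obtain ⟨u, hu⟩ := exists_prime_orderOf_dvd_card 3 hdvd
  have hu3 : u ^ 3 = 1 := by rw [← hu]; exact pow_orderOf_eq_one u
  have hu1 : u ≠ 1 := by
    intro h1
    rw [h1, orderOf_one] at hu
    omega
  refine ⟨(u : F), ?_⟩
  have h1 : ((u : F) - 1) * ((u : F) ^ 2 + (u : F) + 1) = 0 := by
    have := congrArg Units.val hu3
    rw [Units.val_pow_eq_pow_val, Units.val_one] at this
    linear_combination this
  rcases mul_eq_zero.1 h1 with h | h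
  · exfalso
    apply hu1
    apply Units.ext
    rw [Units.val_one]
    exact sub_eq_zero.1 h
  · exact h

/-- `X² + X + 1` is irreducible when `3 ∤ q - 1` (and `3 ≠ 0`) -/
theorem irr_quad (q : ℕ) (hq : Fintype.card F = q) (h3 : ¬ 3 ∣ q - 1) (h3F : (3 : F) ≠ 0) :
    Irreducible (X ^ 2 + X + 1 : F[X]) := by
  classical
  have hdeg : (X ^ 2 + X + 1 : F[X]).natDegree = 2 := by compute_degree!
  have hmonic : (X ^ 2 + X + 1 : F[X]).Monic := by monicity!
  rw [hmonic.irreducible_iff_roots_eq_zero_of_degree_le_three (by rw [hdeg]) (by rw [hdeg]; norm_num)]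
  rw [Multiset.eq_zero_iff_forall_notMem]
  intro ω hω
  rw [Polynomial.mem_roots hmonic.ne_zero, Polynomial.IsRoot.def] at hω
  simp only [eval_add, eval_pow, eval_X, eval_one] at hω
  have hω3 : ω ^ 3 = 1 := by linear_combination (ω - 1) * hω
  have hω0 : ω ≠ 0 := by
    rintro rfl
    simp at hω3
  have hω1 : ω ≠ 1 := by
    rintro rfl
    apply h3F
    linear_combination hω
  set u : Fˣ := Units.mk0 ω hω0 with hu
  have hu3 : u ^ 3 = 1 := by
    apply Units.ext
    rw [Units.val_pow_eq_pow_val, hu, Units.val_mk0, hω3, Units.val_one]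
  have hu1 : u ≠ 1 := by
    intro h1
    apply hω1
    have := congrArg Units.val h1
    rwa [hu, Units.val_mk0, Units.val_one] at this
  have ho : orderOf u = 3 := orderOf_eq_prime hu3 hu1
  apply h3
  have := orderOf_dvd_card (x := u)
  rwa [ho, Fintype.card_units, hq] at this

/-- cube roots exist when `3 ∤ q - 1` -/
theorem exists_cube_root (q : ℕ) (hq : Fintype.card F = q) (h3 : ¬ 3 ∣ q - 1) (z : F)
    (hz : z ≠ 0) : ∃ w : F, w * w * w = z := by
  classical
  have hone : ∀ u : Fˣ, u ^ 3 = 1 → u = 1 := by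
    intro u hu
    have h1 : orderOf u ∣ 3 := orderOf_dvd_of_pow_eq_one hu
    have h2 : orderOf u ∣ q - 1 := by
      have := orderOf_dvd_card (x := u)
      rwa [Fintype.card_units, hq] at this
    have h4 : Nat.Coprime 3 (q - 1) := (Nat.Prime.coprime_iff_not_dvd Nat.prime_three).2 h3
    have h5 : orderOf u ∣ Nat.gcd 3 (q - 1) := Nat.dvd_gcd h1 h2
    rw [h4] at h5
    exact orderOf_eq_one_iff.1 (Nat.dvd_one.1 h5)
  have hinj : Function.Injective (fun w : Fˣ => w ^ 3) := by
    intro a b hab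
    have h1 : (a * b⁻¹) ^ 3 = 1 := by
      rw [mul_pow, inv_pow]
      exact mul_inv_eq_one.2 hab
    exact mul_inv_eq_one.1 (hone _ h1)
  obtain ⟨w, hw⟩ := (Finite.injective_iff_surjective.1 hinj) (Units.mk0 z hz)
  refine ⟨(w : F), ?_⟩
  have := congrArg Units.val hw
  simp only [Units.val_pow_eq_pow_val, Units.val_mk0] at this
  rw [← this]
  ring

/-- a scalar matrix of determinant one in dimension four has fourth power one -/
theorem pow_four_of_sc {x : GL (Fin 4) F} (hx : x ∈ Cfsg.Geo.specialLinear (Fin 4) F)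
    (hsc : IsSc x) : x ^ 4 = 1 := by
  obtain ⟨c, hc⟩ := hsc
  have hdet : (x : M4 F).det = 1 := (Cfsg.Agent.Lib.H28.mem_specialLinear_iff x).1 hx
  rw [hc, Matrix.det_smul, Matrix.det_one, mul_one, Fintype.card_fin] at hdet
  apply Units.ext
  rw [Units.val_pow_eq_pow_val, hc, _root_.smul_pow, one_pow, hdet, one_smul, Units.val_one]

theorem main {p : ℕ} [Fact p.Prime] [CharP F p] (hF : Fintype.card F = p) (hp4 : p % 4 = 1)
    (R : Subgroup (GL (Fin 4) F)) (hR : Cfsg.Geo.IsLinearSymplecticTypeData 2 R)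
    (hR6 : Nat.card R = 2 ^ 6) (r : ℕ) [Fact r.Prime]
    (hΩ : r ∣ (Cfsg.Geo.subgroupNormalizer R).relIndex (Cfsg.Geo.specialLinear (Fin 4) F)) :
    (∀ x ∈ Cfsg.Geo.specialLinear (Fin 4) F,
      (∃ z : F, ((x ^ r : GL (Fin 4) F) : Matrix (Fin 4) (Fin 4) F) =
        z • (1 : Matrix (Fin 4) (Fin 4) F)) →
      (∀ z : F, (x : Matrix (Fin 4) (Fin 4) F) ≠ z • (1 : Matrix (Fin 4) (Fin 4) F)) →
      ∃ g ∈ Cfsg.Geo.specialLinear (Fin 4) F, g⁻¹ * x * g ∈ Cfsg.Geo.subgroupNormalizer R) ↔
      (r = 2 ∨ (r = 3 ∧ p % 3 = 2) ∨ (r = 5 ∧ orderOf (p : ZMod 5) = 4)) := by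
  classical
  have hp : p.Prime := Fact.out
  have hr : r.Prime := Fact.out
  have hp2 : p ≠ 2 := by
    intro h2
    rw [h2] at hp4
    omega
  have hp3 : p ≠ 3 := by
    intro h3
    rw [h3] at hp4
    omega
  have hp5 : 5 ≤ p := by
    have := hp.two_le
    by_contra hlt
    push Not at hlt
    interval_cases p <;> omega
  have h2F : (2 : F) ≠ 0 := by
    have := natCast_ne_zero_of_prime_ne (F := F) hp Nat.prime_two (Ne.symm hp2)
    exact_mod_cast this
  have h3F : (3 : F) ≠ 0 := by
    have := natCast_ne_zero_of_prime_ne (F := F) hp Nat.prime_three (Ne.symm hp3)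
    exact_mod_cast this
  obtain ⟨i, h⟩ := sy_of_hyp h2F R hR hR6
  have hns_iff : ∀ x : GL (Fin 4) F,
      (∀ z : F, (x : Matrix (Fin 4) (Fin 4) F) ≠ z • (1 : Matrix (Fin 4) (Fin 4) F)) ↔ ¬ IsSc x := by
    intro x
    unfold IsSc
    push Not
    rfl
  unfold Cfsg.Geo.subgroupNormalizer at hΩ ⊢
  constructor
  · intro hall
    by_contra hcon
    rw [not_or, not_or, not_and, not_and] at hcon
    obtain ⟨hr2, hr3, hr5⟩ := hcon
    by_cases hrp : r = p
    · -- a transvection
      haveI : CharP F r := by rw [hrp]; infer_instance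
      obtain ⟨g, _, hmem⟩ := hall tvG ((Cfsg.Agent.Lib.H28.mem_specialLinear_iff _).2 tvG_det)
        ⟨1, by rw [tvG_pow_char r, one_smul, Units.val_one]⟩ ((hns_iff _).2 tvG_not_sc)
      exact h.derange_tv g hmem
    · by_cases hr3' : r = 3
      · have hmod : p % 3 = 1 := by
          have h1 := hr3 hr3'
          have h2 : p % 3 ≠ 0 := by
            intro h0
            have h5 : 3 ∣ p := Nat.dvd_of_mod_eq_zero h0
            exact hp3 ((Nat.prime_dvd_prime_iff_eq Nat.prime_three hp).1 h5).symm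
          omega
        obtain ⟨ω, hω⟩ := exists_omega (F := F) p hF (by omega)
        obtain ⟨g, _, hmem⟩ := hall (x3G ω hω)
          ((Cfsg.Agent.Lib.H28.mem_specialLinear_iff _).2 (by
            rw [x3G_val, det_X3, mul_assoc]
            exact cube_of_root hω))
          ⟨1, by rw [hr3', x3G_pow, one_smul, Units.val_one]⟩ ((hns_iff _).2 (x3G_not_sc h3F ω hω))
        exact h.derange3 h3F ω hω g hmem
      · by_cases hr5' : r = 5
        · have h5F : (5 : F) ≠ 0 := by
            have := natCast_ne_zero_of_prime_ne (F := F) hp Nat.prime_five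
              (by rw [← hr5']; exact hrp)
            exact_mod_cast this
          have hp5' : p ≠ 5 := by
            intro h6
            apply hrp
            rw [hr5', h6]
          obtain ⟨τ, hτ⟩ := Cfsg.Agent.Lib.H25.Ex4.exists_tau (F := F) (p := p) hp2
            (Cfsg.Agent.Lib.H25.Ex4.mod_of_order_ne hp hp5' (hr5 hr5'))
          obtain ⟨g, _, hmem⟩ := hall (x5G τ)
            ((Cfsg.Agent.Lib.H28.mem_specialLinear_iff _).2 (by rw [x5G_val, det_X5]))
            ⟨1, by rw [hr5', x5G_pow τ hτ, one_smul, Units.val_one]⟩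
            ((hns_iff _).2 (x5G_not_sc τ))
          exact h.derange5 h5F τ hτ g hmem
        · have hr7 := prime_ge_seven hr hr2 hr3' hr5'
          have hdvd : r ∣ Nat.card (Cfsg.Geo.specialLinear (Fin 4) F) :=
            dvd_trans hΩ (Subgroup.relIndex_dvd_card _ _)
          obtain ⟨x₀, hx₀⟩ := exists_prime_orderOf_dvd_card' r hdvd
          have hxo : orderOf (x₀ : GL (Fin 4) F) = r := by
            rw [Subgroup.orderOf_coe]
            exact hx₀
          have hxr : ∃ z : F, (((x₀ : GL (Fin 4) F) ^ r : GL (Fin 4) F) : M4 F) =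
              z • (1 : M4 F) := by
            refine ⟨1, ?_⟩
            rw [← hxo, pow_orderOf_eq_one, Units.val_one, one_smul]
          have hns : ¬ IsSc (x₀ : GL (Fin 4) F) := by
            intro hsc
            have h4 := pow_four_of_sc x₀.2 hsc
            have := orderOf_dvd_of_pow_eq_one h4
            rw [hxo] at this
            have := Nat.le_of_dvd (by norm_num) this
            omega
          obtain ⟨g, _, hmem⟩ := hall x₀ x₀.2 hxr ((hns_iff _).2 hns)
          have hsc : IsSc ((g⁻¹ * (x₀ : GL (Fin 4) F) * g) ^ r) := by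
            rw [conj_pow', ← hxo, pow_orderOf_eq_one, mul_one, inv_mul_cancel]
            exact isSc_one
          have hns' : ¬ IsSc (g⁻¹ * (x₀ : GL (Fin 4) F) * g) := by
            intro hc
            apply hns
            exact (isSc_conj_iff g (x₀ : GL (Fin 4) F)).1 hc
          exact h.derange_large r hr7 hmem hsc hns'
  · rintro (rfl | ⟨rfl, h3⟩ | ⟨rfl, h4⟩)
    · intro x hx hxr hns
      exact h.two_suff (natCast_inj_of_lt_char hp5) x hx hxr ((hns_iff x).1 hns)
    · intro x hx hxr hns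
      have h3' : ¬ 3 ∣ p - 1 := by omega
      exact h.three_suff (irr_quad p hF h3' h3F) h3F (exists_cube_root p hF h3') x hx hxr
        ((hns_iff x).1 hns)
    · intro x hx hxr hns
      obtain ⟨h5p, hmin⟩ := Cfsg.Agent.Lib.H25.Ex4.hmin_of_order hp h4
      exact h.five_suff p hF h5p hmin x hx hxr ((hns_iff x).1 hns)

end Cfsg.Agent.Lib.H2.Sy4
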