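import Mathlib

set_option autoImplicit false

/-!
# Additive maps compatible with inversion (Hua's identity), and duality for an index-2 subgroup
-/

namespace Cfsg.Agent.Lib.H2.SzAutS

variable {F : Type*} [Field F]

/-- Hua-type identity: if `g`, `h` are additive, `g` injective and `g x * h x⁻¹ = 1` for `x ≠ 0`,
then `g (a^2 b) = g(a)^2 h(b)`. -/
theorem hua (g h : F →+ F) (hg : Function.Injective g)
    (hgh : ∀ x : F, x ≠ 0 → g x * h x⁻¹ = 1) (a b : F) :
    g (a ^ 2 * b) = g a ^ 2 * h b := by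
  by_cases ha : a = 0
  · subst ha; simp
  by_cases hb : b = 0
  · subst hb; simp
  have hg0 : ∀ x : F, x ≠ 0 → g x ≠ 0 := fun x hx h0 => hx (hg (by rw [h0, map_zero]))
  have hh : ∀ x : F, x ≠ 0 → h x = (g x⁻¹)⁻¹ := by
    intro x hx
    have := hgh x⁻¹ (inv_ne_zero hx)
    rw [inv_inv] at this
    exact eq_inv_of_mul_eq_one_right this
  by_cases hab : a * b = 1
  · -- then a^2 b = a
    have e1 : a ^ 2 * b = a := by rw [pow_two, mul_assoc, hab, mul_one]
    have e2 : b = a⁻¹ := eq_inv_of_mul_eq_one_right hab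
    rw [e1, e2, pow_two, mul_assoc, hgh a ha, mul_one]
  -- general case
  have h1 : b⁻¹ - a ≠ 0 := by
    intro h0
    apply hab
    have : b⁻¹ = a := by linear_combination h0
    rw [← this, inv_mul_cancel₀ hb]
  have hab' : 1 - a * b ≠ 0 := fun h0 => hab (by linear_combination -h0)
  -- the element c = a - a^2 b = (a⁻¹ + (b⁻¹ - a)⁻¹)⁻¹
  have hc : a - a ^ 2 * b = (a⁻¹ + (b⁻¹ - a)⁻¹)⁻¹ := by
    field_simp
    ring
  have hc0 : a⁻¹ + (b⁻¹ - a)⁻¹ ≠ 0 := by
    intro h0
    have : a - a ^ 2 * b = 0 := by rw [hc, h0, inv_zero]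
    apply hab'
    have h2 : a * (1 - a * b) = 0 := by linear_combination this
    rcases mul_eq_zero.1 h2 with h3 | h3
    · exact absurd h3 ha
    · exact h3
  have e1 : g (a - a ^ 2 * b) = (h (a⁻¹ + (b⁻¹ - a)⁻¹))⁻¹ := by
    rw [hc]
    have := hgh _ (inv_ne_zero hc0)
    rw [inv_inv] at this
    exact eq_inv_of_mul_eq_one_left this
  have e2 : h (a⁻¹ + (b⁻¹ - a)⁻¹) = (g a)⁻¹ + (g b⁻¹ - g a)⁻¹ := by
    rw [map_add, hh _ (inv_ne_zero ha), inv_inv, hh _ (inv_ne_zero h1), inv_inv, map_sub]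
  have e3 : g b⁻¹ = (h b)⁻¹ := by rw [hh b hb, inv_inv]
  have hA : g a ≠ 0 := hg0 a ha
  have hB : h b ≠ 0 := by rw [hh b hb]; exact inv_ne_zero (hg0 _ (inv_ne_zero hb))
  have hAB : g b⁻¹ - g a ≠ 0 := by rw [← map_sub]; exact hg0 _ h1
  rw [e2, e3] at e1
  rw [e3] at hAB
  have e4 : ((g a)⁻¹ + ((h b)⁻¹ - g a)⁻¹)⁻¹ = g a - g a ^ 2 * h b := by
    have hne : 1 - g a * h b ≠ 0 := by
      intro h0
      apply hAB
      field_simp
      linear_combination h0
    field_simp
    ring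
  rw [e4, map_sub] at e1
  linear_combination -e1

/-- in a finite field of characteristic 2, such a `g` is a scalar multiple of a field automorphism -/
theorem exists_ringEquiv [Finite F] [CharP F 2] (g h : F →+ F) (hg : Function.Injective g)
    (hgh : ∀ x : F, x ≠ 0 → g x * h x⁻¹ = 1) :
    ∃ (κ : F) (σ : F ≃+* F), κ ≠ 0 ∧ ∀ x, g x = κ * σ x := by
  have key := hua g h hg hgh
  set κ := g 1 with hκ
  have hκ0 : κ ≠ 0 := fun h0 => one_ne_zero (hg (by rw [← hκ, h0, map_zero]))
  have hh : ∀ b, g b = κ ^ 2 * h b := by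
    intro b
    have := key 1 b
    rwa [one_pow, one_mul] at this
  have hsq : ∀ x : F, ∃ y, y ^ 2 = x := by
    intro x
    have hinj : Function.Injective (fun y : F => y ^ 2) := by
      intro y y' hyy
      rcases sq_eq_sq_iff_eq_or_eq_neg.1 hyy with h1 | h1
      · exact h1
      · rw [h1, CharTwo.neg_eq]
    exact Finite.injective_iff_surjective.1 hinj x
  -- σ = g / κ
  have hmul : ∀ x y, g (x * y) * κ = g x * g y := by
    intro x y
    obtain ⟨a, rfl⟩ := hsq x
    have e1 := key a y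
    have e2 := key a 1
    rw [mul_one] at e2
    have e3 := hh y
    have e4 := hh 1
    rw [← hκ] at e4
    have h1 : h 1 = κ⁻¹ :=
      eq_inv_of_mul_eq_one_left (mul_left_cancel₀ hκ0 (by linear_combination -e4))
    rw [e1, e2, h1, e3]
    field_simp
  let σ₀ : F →+* F :=
    { toFun := fun x => κ⁻¹ * g x
      map_one' := by rw [← hκ]; exact inv_mul_cancel₀ hκ0
      map_mul' := by
        intro x y
        have := hmul x y
        show κ⁻¹ * g (x * y) = κ⁻¹ * g x * (κ⁻¹ * g y)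
        rw [show κ⁻¹ * g x * (κ⁻¹ * g y) = κ⁻¹ * κ⁻¹ * (g x * g y) by ring, ← this]
        field_simp
      map_zero' := by simp
      map_add' := by intro x y; rw [map_add, mul_add] }
  have hbij : Function.Bijective σ₀ := by
    have hinj : Function.Injective σ₀ := σ₀.injective
    exact ⟨hinj, Finite.injective_iff_surjective.1 hinj⟩
  refine ⟨κ, RingEquiv.ofBijective σ₀ hbij, hκ0, fun x => ?_⟩
  show g x = κ * (κ⁻¹ * g x)
  rw [← mul_assoc, mul_inv_cancel₀ hκ0, one_mul]

/-- duality for an additive subgroup of index 2: if an additive bijection `g` maps each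
`λ H` onto `g(λ) H`, then `μ ↦ 1 / g (1 / μ)` is additive -/
theorem exists_dual (H : AddSubgroup F) (hH : H.index = 2) (g : F ≃+ F)
    (hg : ∀ l x : F, l ≠ 0 → (x * l⁻¹ ∈ H ↔ g x * (g l)⁻¹ ∈ H)) :
    ∃ h : F →+ F, ∀ x : F, x ≠ 0 → g x * h x⁻¹ = 1 := by
  classical
  have hg0 : ∀ x : F, x ≠ 0 → g x ≠ 0 := fun x hx h0 => hx (g.injective (by rw [h0, map_zero]))
  let hf : F → F := fun u => (g u⁻¹)⁻¹
  have hf0 : hf 0 = 0 := by simp [hf]
  have hkey : ∀ x u : F, (g x * hf u ∈ H ↔ x * u ∈ H) := by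
    intro x u
    by_cases hu : u = 0
    · subst hu; rw [hf0, mul_zero, mul_zero]
    · have := hg u⁻¹ x (inv_ne_zero hu)
      rw [inv_inv] at this
      exact this.symm
  have hiff : ∀ a b : F, (a + b ∈ H ↔ (a ∈ H ↔ b ∈ H)) := fun a b =>
    AddSubgroup.add_mem_iff_of_index_two hH
  have hne : ∃ y : F, y ∉ H := by
    by_contra hcon
    push Not at hcon
    have : H = ⊤ := (AddSubgroup.eq_top_iff' H).2 hcon
    rw [this, AddSubgroup.index_top] at hH
    omega
  obtain ⟨y0, hy0⟩ := hne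
  have hadd : ∀ u v : F, hf (u + v) = hf u + hf v := by
    intro u v
    by_contra hcon
    have hd : hf (u + v) - hf u - hf v ≠ 0 := by
      intro h0
      apply hcon
      linear_combination h0
    set δ := hf (u + v) - hf u - hf v with hδ
    -- choose x with g x * δ = y0
    obtain ⟨x, hx⟩ := g.surjective (y0 / δ)
    have e1 : g x * δ = y0 := by rw [hx]; field_simp
    have hA := hkey x (u + v)
    have hB := hkey x u
    have hC := hkey x v
    rw [mul_add, hiff] at hA
    have e2 : g x * δ = g x * hf (u + v) + (-(g x * hf u) + -(g x * hf v)) := by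
      rw [hδ]; ring
    have : g x * δ ∈ H := by
      rw [e2, hiff, hiff, neg_mem_iff, neg_mem_iff]
      tauto
    rw [e1] at this
    exact hy0 this
  refine ⟨AddMonoidHom.mk' hf hadd, fun x hx => ?_⟩
  show g x * (g x⁻¹⁻¹)⁻¹ = 1
  rw [inv_inv, mul_inv_cancel₀ (hg0 x hx)]

end Cfsg.Agent.Lib.H2.SzAutS
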