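import Mathlib
import Cfsg.Agent.Lib.H2.Sz9
import Cfsg.Agent.Lib.H2.SzAutS1

set_option autoImplicit false
set_option linter.unusedSimpArgs false
set_option linter.unusedSectionVars false
set_option linter.unusedVariables false

/-!
# Automorphisms of the Sylow 2-subgroup of a Suzuki group, part 2: the homomorphism `rho`
-/

namespace Cfsg.Agent.Lib.H2.SzAutS

open Cfsg.Agent.Lib.H2.Sz

variable {F : Type*} [Field F] {m : ℕ} [Fintype F] (h : Fld F m)

include h

/-- first coordinate -/
noncomputable def ca (x : TS h) : F := (exists_tS h x).choose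

/-- second coordinate -/
noncomputable def cb (x : TS h) : F := (exists_tS h x).choose_spec.choose

theorem eq_tS (x : TS h) : x = tS h (ca h x) (cb h x) :=
  (exists_tS h x).choose_spec.choose_spec

theorem ca_tS (a b : F) : ca h (tS h a b) = a :=
  ((tS_injective h (eq_tS h (tS h a b))).1).symm

theorem cb_tS (a b : F) : cb h (tS h a b) = b :=
  ((tS_injective h (eq_tS h (tS h a b))).2).symm

theorem ca_mul (x y : TS h) : ca h (x * y) = ca h x + ca h y := by
  conv_lhs => rw [eq_tS h x, eq_tS h y, tS_mul, ca_tS]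

theorem ca_one : ca h (1 : TS h) = 0 := by
  rw [← tS_zero h, ca_tS]

theorem tS_split (a b : F) : tS h a b = tS h a 0 * tS h 0 b := by
  rw [tS_mul]; simp

theorem tS_central_mul (b b' : F) : tS h 0 b * tS h 0 b' = tS h 0 (b + b') := by
  rw [tS_mul]; simp [θ]

theorem tS_mul_central (a b c : F) : tS h a b * tS h 0 c = tS h a (b + c) := by
  rw [tS_mul]; simp

theorem tS_central_comm (b : F) (x : TS h) : tS h 0 b * x = x * tS h 0 b := by
  rw [eq_tS h x, tS_mul, tS_mul]
  congr 1
  · ring
  · simp [θ]; ring

/-- the map `π(a) = θ(a) a` -/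
def pi (m : ℕ) (a : F) : F := θ m a * a

theorem pi_mul (a b : F) : pi m (a * b) = pi m a * pi m b := by
  unfold pi; rw [θ_mul]; ring

theorem pi_zero : pi m (0 : F) = 0 := by unfold pi; simp

theorem pi_surjective : Function.Surjective (pi m : F → F) := by
  intro y
  obtain ⟨c, hc⟩ := mul_θ_surjective h y
  exact ⟨c, by unfold pi; rw [← hc]; ring⟩

theorem pi_injective : Function.Injective (pi m : F → F) :=
  Finite.injective_iff_surjective.2 (pi_surjective h)

theorem pi_add (a c : F) : pi m (a + c) = pi m a + pi m c + (θ m a * c + θ m c * a) := by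
  unfold pi; rw [θ_add h]; ring

theorem tS_sq' (a b : F) : tS h a b * tS h a b = tS h 0 (pi m a) := by
  rw [tS_sq]; rfl

variable (hm : 1 ≤ m) (hF : Fintype.card F = 2 ^ (2 * m + 1))

include hm hF

theorem ca_aut_central (α : MulAut (TS h)) (b : F) : ca h (α (tS h 0 b)) = 0 := by
  have hc : α (tS h 0 b) ∈ Subgroup.center (TS h) := by
    rw [Subgroup.mem_center_iff]
    intro y
    have e1 : y = α (α.symm y) := (α.apply_symm_apply y).symm
    rw [e1, ← map_mul, ← map_mul, tS_central_comm]
  rw [eq_tS h (α (tS h 0 b)), mem_center_TS_iff h hm hF] at hc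
  exact hc

theorem ca_aut (α : MulAut (TS h)) (a b : F) :
    ca h (α (tS h a b)) = ca h (α (tS h a 0)) := by
  rw [tS_split h a b, map_mul, ca_mul, ca_aut_central h hm hF, add_zero]

/-- the action of an automorphism on `S/Z(S) = F` -/
noncomputable def rhoFun (α : MulAut (TS h)) (a : F) : F := ca h (α (tS h a 0))

theorem rhoFun_add (α : MulAut (TS h)) (a a' : F) :
    rhoFun h α (a + a') = rhoFun h α a + rhoFun h α a' := by
  unfold rhoFun
  rw [← ca_mul, ← map_mul, tS_mul]
  exact (ca_aut h hm hF α _ _).symm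

theorem rhoFun_one (a : F) : rhoFun h 1 a = a := by
  unfold rhoFun
  rw [MulAut.one_apply, ca_tS]

theorem rhoFun_mul (α β : MulAut (TS h)) (a : F) :
    rhoFun h (α * β) a = rhoFun h α (rhoFun h β a) := by
  unfold rhoFun
  rw [MulAut.mul_apply]
  conv_lhs => rw [eq_tS h (β (tS h a 0)), ca_aut h hm hF]

/-- the homomorphism `Aut(S) → Aut(S/Z(S))` -/
noncomputable def rho : MulAut (TS h) →* Equiv.Perm F where
  toFun α :=
    { toFun := rhoFun h α
      invFun := rhoFun h α⁻¹
      left_inv := fun a => by rw [← rhoFun_mul h hm hF, inv_mul_cancel, rhoFun_one h hm hF]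
      right_inv := fun a => by rw [← rhoFun_mul h hm hF, mul_inv_cancel, rhoFun_one h hm hF] }
  map_one' := by
    ext a
    exact rhoFun_one h hm hF a
  map_mul' := by
    intro α β
    ext a
    exact rhoFun_mul h hm hF α β a

theorem rho_apply (α : MulAut (TS h)) (a : F) : rho h hm hF α a = ca h (α (tS h a 0)) := rfl

theorem rho_add (α : MulAut (TS h)) (a a' : F) :
    rho h hm hF α (a + a') = rho h hm hF α a + rho h hm hF α a' := rhoFun_add h hm hF α a a'

/-- the action of an automorphism on the centre -/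
noncomputable def gam (α : MulAut (TS h)) (b : F) : F := cb h (α (tS h 0 b))

theorem aut_central (α : MulAut (TS h)) (b : F) : α (tS h 0 b) = tS h 0 (gam h α b) := by
  conv_lhs => rw [eq_tS h (α (tS h 0 b)), ca_aut_central h hm hF]
  rfl

theorem gam_add (α : MulAut (TS h)) (b b' : F) :
    gam h α (b + b') = gam h α b + gam h α b' := by
  have e1 := aut_central h hm hF α (b + b')
  rw [← tS_central_mul, map_mul, aut_central h hm hF, aut_central h hm hF, tS_central_mul] at e1
  exact ((tS_injective h e1).2).symm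

theorem gam_one (b : F) : gam h 1 b = b := by
  unfold gam
  rw [MulAut.one_apply, cb_tS]

theorem gam_mul (α β : MulAut (TS h)) (b : F) :
    gam h (α * β) b = gam h α (gam h β b) := by
  have e1 := aut_central h hm hF (α * β) b
  rw [MulAut.mul_apply, aut_central h hm hF β, aut_central h hm hF α] at e1
  exact ((tS_injective h e1).2).symm

theorem gam_inv (α : MulAut (TS h)) (b : F) : gam h α⁻¹ (gam h α b) = b := by
  rw [← gam_mul h hm hF, inv_mul_cancel, gam_one h hm hF]

theorem gam_inv' (α : MulAut (TS h)) (b : F) : gam h α (gam h α⁻¹ b) = b := by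
  rw [← gam_mul h hm hF, mul_inv_cancel, gam_one h hm hF]

/-- squares: `γ(π a) = π(ρ a)` -/
theorem gam_pi (α : MulAut (TS h)) (a : F) :
    gam h α (pi m a) = pi m (rho h hm hF α a) := by
  have e1 := aut_central h hm hF α (pi m a)
  rw [← tS_sq' h a 0, map_mul, eq_tS h (α (tS h a 0)), tS_sq'] at e1
  exact ((tS_injective h e1).2).symm

/-- the bilinear commutator form is preserved -/
theorem gam_bil (α : MulAut (TS h)) (a c : F) :
    gam h α (θ m a * c + θ m c * a) =
      θ m (rho h hm hF α a) * rho h hm hF α c + θ m (rho h hm hF α c) * rho h hm hF α a := by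
  have e1 := gam_pi h hm hF α (a + c)
  rw [pi_add h, gam_add h hm hF, gam_add h hm hF, gam_pi h hm hF, gam_pi h hm hF,
    rho_add h hm hF, pi_add h] at e1
  exact add_left_cancel e1

end Cfsg.Agent.Lib.H2.SzAutS
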