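import Mathlib
import Cfsg.Agent.Lib.H2.SzAutS2

set_option autoImplicit false
set_option linter.unusedSimpArgs false
set_option linter.unusedSectionVars false
set_option linter.unusedVariables false

/-!
# Automorphisms of the Sylow 2-subgroup of a Suzuki group, part 3: the image of `rho`
-/

namespace Cfsg.Agent.Lib.H2.SzAutS

open Cfsg.Agent.Lib.H2.Sz

variable {F : Type*} [Field F] {m : ℕ} [Fintype F] (h : Fld F m)

include h

/-- the additive map `t ↦ t + θ t` -/
def psi : F →+ F := AddMonoidHom.mk' (fun t : F => t + θ m t) (by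
  intro a b; rw [θ_add h]; ring)

theorem psi_apply (t : F) : psi h t = t + θ m t := rfl

/-- the hyperplane `{t + θ t}` -/
def hyp : AddSubgroup F := (psi h).range

theorem mem_hyp {x : F} : x ∈ hyp h ↔ ∃ t : F, t + θ m t = x := Iff.rfl

theorem index_hyp : (hyp h).index = 2 := by
  have hker : ((psi h).ker : Set F) = {0, 1} := by
    ext t
    simp only [SetLike.mem_coe, AddMonoidHom.mem_ker, psi_apply, Set.mem_insert_iff,
      Set.mem_singleton_iff]
    constructor
    · intro ht
      exact θ_fixed h (h.eq_of_add_eq_zero ht).symm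
    · rintro (rfl | rfl)
      · simp [θ]
      · simp [θ]; exact h.add_self 1
  have hcard : Nat.card (psi h).ker = 2 := by
    rw [← SetLike.coe_sort_coe, Nat.card_coe_set_eq, hker, Set.ncard_pair zero_ne_one]
  have e1 := AddSubgroup.card_mul_index (psi h).ker
  rw [AddSubgroup.index_ker, hcard] at e1
  have e2 := AddSubgroup.card_mul_index (hyp h)
  have hpos : 0 < Nat.card (hyp h) := Nat.card_pos
  unfold hyp at e2 hpos ⊢
  rw [← e1, mul_comm] at e2
  exact Nat.eq_of_mul_eq_mul_right hpos e2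

variable (hm : 1 ≤ m) (hF : Fintype.card F = 2 ^ (2 * m + 1))

include hm hF

theorem rho_zero (α : MulAut (TS h)) : rho h hm hF α 0 = 0 := by
  have := rho_add h hm hF α 0 0
  rw [add_zero] at this
  exact left_eq_add.1 this

theorem rho_ne_zero (α : MulAut (TS h)) {a : F} (ha : a ≠ 0) : rho h hm hF α a ≠ 0 := by
  intro h0
  apply ha
  apply (rho h hm hF α).injective
  rw [h0, rho_zero]

theorem gam_zero (α : MulAut (TS h)) : gam h α 0 = 0 := by
  have := gam_add h hm hF α 0 0
  rw [add_zero] at this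
  exact left_eq_add.1 this

theorem gam_injective (α : MulAut (TS h)) : Function.Injective (gam h α) := by
  intro b b' hbb
  rw [← gam_inv h hm hF α b, hbb, gam_inv h hm hF]

theorem hyp_fwd (α : MulAut (TS h)) (l x : F) (hl : l ≠ 0) (hx : x * l⁻¹ ∈ hyp h) :
    gam h α x * (gam h α l)⁻¹ ∈ hyp h := by
  obtain ⟨a, rfl⟩ := pi_surjective h l
  have ha : a ≠ 0 := by
    rintro rfl
    exact hl (pi_zero h)
  obtain ⟨t, ht⟩ := (mem_hyp h).1 hx
  have hx' : x = θ m a * (a * t) + θ m (a * t) * a := by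
    have : x = pi m a * (t + θ m t) := by
      rw [ht]; field_simp
    rw [this, θ_mul]; unfold pi; ring
  have hr := rho_ne_zero h hm hF α ha
  have hθr : θ m (rho h hm hF α a) ≠ 0 := fun h0 => hr (θ_eq_zero.1 h0)
  rw [hx', gam_bil h hm hF, gam_pi h hm hF]
  refine (mem_hyp h).2 ⟨rho h hm hF α (a * t) / rho h hm hF α a, ?_⟩
  rw [θ_div]
  unfold pi
  field_simp

theorem hyp_iff (α : MulAut (TS h)) (l x : F) (hl : l ≠ 0) :
    x * l⁻¹ ∈ hyp h ↔ gam h α x * (gam h α l)⁻¹ ∈ hyp h := by
  refine ⟨hyp_fwd h hm hF α l x hl, fun hx => ?_⟩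
  have hl' : gam h α l ≠ 0 := by
    intro h0
    apply hl
    apply gam_injective h hm hF α
    rw [h0, gam_zero h hm hF]
  have := hyp_fwd h hm hF α⁻¹ _ _ hl' hx
  rwa [gam_inv h hm hF, gam_inv h hm hF] at this

/-- the action on the centre as an additive equivalence -/
noncomputable def gamEquiv (α : MulAut (TS h)) : F ≃+ F where
  toFun := gam h α
  invFun := gam h α⁻¹
  left_inv := gam_inv h hm hF α
  right_inv := gam_inv' h hm hF α
  map_add' := gam_add h hm hF α

theorem exists_gam_eq (α : MulAut (TS h)) :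
    ∃ (κ : F) (σ : F ≃+* F), κ ≠ 0 ∧ ∀ x, gam h α x = κ * σ x := by
  have := h.charP
  obtain ⟨h', hh'⟩ := exists_dual (hyp h) (index_hyp h) (gamEquiv h hm hF α)
    (fun l x hl => hyp_iff h hm hF α l x hl)
  exact exists_ringEquiv (gamEquiv h hm hF α).toAddMonoidHom h'
    (gamEquiv h hm hF α).injective hh'

theorem θ_ringEquiv (σ : F ≃+* F) (a : F) : σ (θ m a) = θ m (σ a) := by
  unfold θ; rw [map_pow]

theorem pi_ringEquiv (σ : F ≃+* F) (a : F) : σ (pi m a) = pi m (σ a) := by
  unfold pi; rw [map_mul, θ_ringEquiv h hm hF]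

/-- every automorphism acts on `S/Z(S) = F` as `a ↦ l σ(a)` -/
theorem exists_rho_eq (α : MulAut (TS h)) :
    ∃ (l : Fˣ) (σ : F ≃+* F), ∀ a, rho h hm hF α a = (l : F) * σ a := by
  obtain ⟨κ, σ, hκ, hg⟩ := exists_gam_eq h hm hF α
  obtain ⟨l, rfl⟩ := pi_surjective h κ
  have hl : l ≠ 0 := by
    rintro rfl
    exact hκ (pi_zero h)
  refine ⟨Units.mk0 l hl, σ, fun a => ?_⟩
  apply pi_injective h
  rw [← gam_pi h hm hF, hg, Units.val_mk0, pi_mul h, pi_ringEquiv h hm hF]

end Cfsg.Agent.Lib.H2.SzAutS
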