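import Mathlib
import Cfsg.Agent.Lib.H2.SzAutS3
import Cfsg.Agent.Lib.H2.SzAutCard

set_option autoImplicit false
set_option linter.unusedSimpArgs false
set_option linter.unusedSectionVars false
set_option linter.unusedVariables false

/-!
# Automorphisms of the Sylow 2-subgroup of a Suzuki group, part 4: explicit automorphisms, kernel
-/

namespace Cfsg.Agent.Lib.H2.SzAutS

open Cfsg.Agent.Lib.H2.Sz

variable {F : Type*} [Field F] {m : ℕ} [Fintype F] (h : Fld F m)

include h

theorem θ_ringEquiv' (σ : F ≃+* F) (a : F) : σ (θ m a) = θ m (σ a) := by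
  unfold θ; rw [map_pow]

theorem pi_ne_zero {l : F} (hl : l ≠ 0) : pi m l ≠ 0 := by
  unfold pi
  exact mul_ne_zero (fun h0 => hl (θ_eq_zero.1 h0)) hl

/-- the automorphism attached to `(l, σ)` as a homomorphism -/
noncomputable def autHom (l : Fˣ) (σ : F ≃+* F) : TS h →* TS h :=
  MonoidHom.mk' (fun x => tS h ((l : F) * σ (ca h x)) (pi m (l : F) * σ (cb h x))) (by
    intro x y
    obtain ⟨a, b, rfl⟩ := exists_tS h x
    obtain ⟨c, d, rfl⟩ := exists_tS h y
    rw [tS_mul, ca_tS, cb_tS, ca_tS, cb_tS, ca_tS, cb_tS, tS_mul]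
    congr 1
    · rw [map_add]; ring
    · rw [map_add, map_add, map_mul, θ_ringEquiv' h, θ_mul]; unfold pi; ring)

theorem autHom_tS (l : Fˣ) (σ : F ≃+* F) (a b : F) :
    autHom h l σ (tS h a b) = tS h ((l : F) * σ a) (pi m (l : F) * σ b) := by
  show tS h _ _ = _
  rw [ca_tS, cb_tS]

theorem autHom_bijective (l : Fˣ) (σ : F ≃+* F) : Function.Bijective (autHom h l σ) := by
  have hinj : Function.Injective (autHom h l σ) := by
    intro x y hxy
    obtain ⟨a, b, rfl⟩ := exists_tS h x
    obtain ⟨c, d, rfl⟩ := exists_tS h y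
    rw [autHom_tS, autHom_tS] at hxy
    obtain ⟨e1, e2⟩ := tS_injective h hxy
    have h1 : a = c := σ.injective (mul_left_cancel₀ l.ne_zero e1)
    have h2 : b = d := σ.injective (mul_left_cancel₀ (pi_ne_zero h l.ne_zero) e2)
    rw [h1, h2]
  exact ⟨hinj, Finite.injective_iff_surjective.1 hinj⟩

/-- the automorphism attached to `(l, σ)` -/
noncomputable def autOf (l : Fˣ) (σ : F ≃+* F) : MulAut (TS h) :=
  MulEquiv.ofBijective (autHom h l σ) (autHom_bijective h l σ)

theorem autOf_tS (l : Fˣ) (σ : F ≃+* F) (a b : F) :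
    autOf h l σ (tS h a b) = tS h ((l : F) * σ a) (pi m (l : F) * σ b) :=
  autHom_tS h l σ a b

/-- the central automorphism attached to an additive map -/
noncomputable def cenAut (c : F →+ F) : MulAut (TS h) where
  toFun x := x * tS h 0 (c (ca h x))
  invFun x := x * tS h 0 (c (ca h x))
  left_inv x := by
    show x * tS h 0 (c (ca h x)) * tS h 0 (c (ca h (x * tS h 0 (c (ca h x))))) = x
    rw [ca_mul, ca_tS, add_zero, mul_assoc, tS_central_mul, h.add_self, tS_zero, mul_one]
  right_inv x := by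
    show x * tS h 0 (c (ca h x)) * tS h 0 (c (ca h (x * tS h 0 (c (ca h x))))) = x
    rw [ca_mul, ca_tS, add_zero, mul_assoc, tS_central_mul, h.add_self, tS_zero, mul_one]
  map_mul' x y := by
    show x * y * tS h 0 (c (ca h (x * y))) = x * tS h 0 (c (ca h x)) * (y * tS h 0 (c (ca h y)))
    rw [ca_mul, map_add, ← tS_central_mul, mul_assoc x (tS h 0 _), ← mul_assoc (tS h 0 _) y,
      tS_central_comm h _ y]
    group

theorem cenAut_apply (c : F →+ F) (x : TS h) : cenAut h c x = x * tS h 0 (c (ca h x)) := rfl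

theorem cenAut_tS (c : F →+ F) (a b : F) : cenAut h c (tS h a b) = tS h a (b + c a) := by
  rw [cenAut_apply, ca_tS, tS_mul_central]

theorem cenAut_mul (c c' : F →+ F) : cenAut h c * cenAut h c' = cenAut h (c + c') := by
  refine MulEquiv.ext fun x => ?_
  obtain ⟨a, b, rfl⟩ := exists_tS h x
  rw [MulAut.mul_apply, cenAut_tS, cenAut_tS, cenAut_tS, AddMonoidHom.add_apply]
  congr 1
  ring

theorem cenAut_zero : cenAut h (0 : F →+ F) = 1 := by
  refine MulEquiv.ext fun x => ?_
  obtain ⟨a, b, rfl⟩ := exists_tS h x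
  rw [cenAut_tS, MulAut.one_apply, AddMonoidHom.zero_apply, add_zero]

theorem cenAut_injective : Function.Injective (cenAut h : (F →+ F) → MulAut (TS h)) := by
  intro c c' hcc
  ext a
  have := congrArg (fun α : MulAut (TS h) => α (tS h a 0)) hcc
  simp only [cenAut_tS] at this
  have := (tS_injective h this).2
  simpa using this

variable (hm : 1 ≤ m) (hF : Fintype.card F = 2 ^ (2 * m + 1))

include hm hF

theorem rho_autOf (l : Fˣ) (σ : F ≃+* F) (a : F) :
    rho h hm hF (autOf h l σ) a = (l : F) * σ a := by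
  rw [rho_apply, autOf_tS, ca_tS]

theorem rho_cenAut (c : F →+ F) : rho h hm hF (cenAut h c) = 1 := by
  ext a
  rw [rho_apply, cenAut_tS, ca_tS]
  rfl

/-- the kernel of `rho` consists of the central automorphisms -/
theorem exists_cenAut_of_mem_ker {α : MulAut (TS h)} (hα : α ∈ (rho h hm hF).ker) :
    ∃ c : F →+ F, α = cenAut h c := by
  rw [MonoidHom.mem_ker] at hα
  have hr : ∀ a, rho h hm hF α a = a := fun a => by rw [hα]; rfl
  have hg : ∀ b, gam h α b = b := by
    intro b
    obtain ⟨a, rfl⟩ := pi_surjective h b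
    rw [gam_pi h hm hF, hr]
  have hα0 : ∀ a, α (tS h a 0) = tS h a (cb h (α (tS h a 0))) := by
    intro a
    conv_lhs => rw [eq_tS h (α (tS h a 0)), ← rho_apply h hm hF, hr]
  have hαc : ∀ b, α (tS h 0 b) = tS h 0 b := by
    intro b
    rw [aut_central h hm hF, hg]
  have hadd : ∀ a a', cb h (α (tS h (a + a') 0)) = cb h (α (tS h a 0)) + cb h (α (tS h a' 0)) := by
    intro a a'
    have e1 : tS h a 0 * tS h a' 0 = tS h (a + a') 0 * tS h 0 (θ m a * a') := by
      rw [tS_mul, tS_mul_central]; simp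
    have e2 := congrArg α e1
    rw [map_mul, map_mul, hα0 a, hα0 a', hα0 (a + a'), hαc, tS_mul, tS_mul_central] at e2
    have e3 := (tS_injective h e2).2
    exact (add_right_cancel e3).symm
  refine ⟨AddMonoidHom.mk' (fun a => cb h (α (tS h a 0))) hadd, ?_⟩
  refine MulEquiv.ext fun x => ?_
  obtain ⟨a, b, rfl⟩ := exists_tS h x
  rw [cenAut_tS, tS_split h a b, map_mul, hα0, hαc, tS_mul_central, add_comm]
  rfl

theorem ker_rho_eq : ((rho h hm hF).ker : Set (MulAut (TS h))) = Set.range (cenAut h) := by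
  ext α
  constructor
  · intro hα
    obtain ⟨c, rfl⟩ := exists_cenAut_of_mem_ker h hm hF hα
    exact ⟨c, rfl⟩
  · rintro ⟨c, rfl⟩
    exact rho_cenAut h hm hF c

theorem card_addMonoidHom : Nat.card (F →+ F) = 2 ^ ((2 * m + 1) ^ 2) := by
  have hch := h.charP
  have hp : Fact (Nat.Prime 2) := ⟨Nat.prime_two⟩
  let _ : Algebra (ZMod 2) F := ZMod.algebra F 2
  have hfr : Module.finrank (ZMod 2) F = 2 * m + 1 := by
    have h1 : Nat.card F = 2 ^ Module.finrank (ZMod 2) F := by
      rw [Module.natCard_eq_pow_finrank (K := ZMod 2), Nat.card_zmod]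
    rw [Nat.card_eq_fintype_card, hF] at h1
    exact (Nat.pow_right_injective (le_refl 2) h1).symm
  have e : (F →+ F) ≃ (F →ₗ[ZMod 2] F) :=
    { toFun := AddMonoidHom.toZModLinearMap 2
      invFun := fun f => f.toAddMonoidHom
      left_inv := fun f => by ext; rfl
      right_inv := fun f => by ext; rfl }
  rw [Nat.card_congr e, Module.natCard_eq_pow_finrank (K := ZMod 2), Nat.card_zmod,
    Module.finrank_linearMap, hfr, pow_two]

theorem card_ker_rho : Nat.card (rho h hm hF).ker = 2 ^ ((2 * m + 1) ^ 2) := by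
  rw [← SetLike.coe_sort_coe, ker_rho_eq h hm hF, Nat.card_range_of_injective (cenAut_injective h),
    card_addMonoidHom h hm hF]

theorem card_range_rho :
    Nat.card (rho h hm hF).range = (2 * m + 1) * (2 ^ (2 * m + 1) - 1) := by
  classical
  have hp : Fact (Nat.Prime 2) := ⟨Nat.prime_two⟩
  let ψ : Fˣ × (F ≃+* F) → Equiv.Perm F := fun p => rho h hm hF (autOf h p.1 p.2)
  have hψ : Function.Injective ψ := by
    rintro ⟨l, σ⟩ ⟨l', σ'⟩ hll
    have key : ∀ a, (l : F) * σ a = (l' : F) * σ' a := by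
      intro a
      have := congrArg (fun e : Equiv.Perm F => e a) hll
      simp only [ψ, rho_autOf] at this
      exact this
    have h1 : l = l' := by
      have := key 1
      rw [map_one, map_one, mul_one, mul_one] at this
      exact Units.ext this
    subst h1
    have h2 : σ = σ' := by
      ext a
      exact mul_left_cancel₀ l.ne_zero (key a)
    rw [h2]
  have hrange : ((rho h hm hF).range : Set (Equiv.Perm F)) = Set.range ψ := by
    ext e
    constructor
    · rintro ⟨α, rfl⟩
      obtain ⟨l, σ, hl⟩ := exists_rho_eq h hm hF α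
      refine ⟨⟨l, σ⟩, ?_⟩
      ext a
      show rho h hm hF (autOf h l σ) a = _
      rw [rho_autOf, hl]
    · rintro ⟨p, rfl⟩
      exact ⟨_, rfl⟩
  rw [← SetLike.coe_sort_coe, hrange, Nat.card_range_of_injective hψ, Nat.card_prod,
    Cfsg.Agent.Lib.H2.SzAut.card_ringAut (p := 2) hF, Nat.card_eq_fintype_card, Fintype.card_units,
    hF, mul_comm]

theorem card_mulAut_TS :
    Nat.card (MulAut (TS h)) = 2 ^ ((2 * m + 1) ^ 2) * ((2 * m + 1) * (2 ^ (2 * m + 1) - 1)) := by
  rw [← Subgroup.card_mul_index (rho h hm hF).ker, Subgroup.index_ker, card_ker_rho,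
    card_range_rho]

end Cfsg.Agent.Lib.H2.SzAutS
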