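import Mathlib
import Cfsg.Prelude.Def_Transfer
import Cfsg.Prelude.Def_Solvable
import Cfsg.Prelude.Def_Sz
import Cfsg.Agent.Lib.H2.SzAutS4
import Cfsg.Agent.Lib.H2.SzB3
import Cfsg.Agent.Lib.H2.Sz10

set_option autoImplicit false
set_option linter.unusedSimpArgs false
set_option linter.unusedSectionVars false
set_option linter.unusedVariables false

/-!
# Automorphisms of the Sylow 2-subgroup of a Suzuki group, part 5: `O_2(Aut S)` and transport
-/

namespace Cfsg.Agent.Lib.H2.SzAutS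

open Cfsg.Agent.Lib.H2.Sz

/-- the `p`-core is preserved by isomorphisms -/
theorem pCore_map_le {A B : Type*} [Group A] [Group B] (p : ℕ) (φ : A ≃* B) :
    (Cfsg.pCore p A).map φ.toMonoidHom ≤ Cfsg.pCore p B := by
  rw [Subgroup.map_le_iff_le_comap]
  apply sSup_le
  rintro N ⟨hN, hp⟩
  rw [← Subgroup.map_le_iff_le_comap]
  apply le_sSup
  exact ⟨hN.map _ φ.surjective, hp.map _⟩

theorem pCore_map_eq {A B : Type*} [Group A] [Group B] (p : ℕ) (φ : A ≃* B) :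
    (Cfsg.pCore p A).map φ.toMonoidHom = Cfsg.pCore p B := by
  apply le_antisymm (pCore_map_le p φ)
  intro b hb
  have h1 := pCore_map_le p φ.symm ⟨b, hb, rfl⟩
  exact ⟨φ.symm b, h1, φ.apply_symm_apply b⟩

/-- transport of the three assertions along an isomorphism of automorphism groups -/
theorem transport {A B : Type*} [Group A] [Group B] (φ : A ≃* B) {k n : ℕ}
    (hB : Cfsg.IsElementaryAbelian 2 (Cfsg.pCore 2 B) ∧ Nat.card ↥(Cfsg.pCore 2 B) = k ∧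
      Nat.card B = n) :
    Cfsg.IsElementaryAbelian 2 (Cfsg.pCore 2 A) ∧ Nat.card ↥(Cfsg.pCore 2 A) = k ∧
      Nat.card A = n := by
  obtain ⟨⟨hc, hsq⟩, hk, hn⟩ := hB
  have hmap := pCore_map_eq 2 φ
  have hmem : ∀ a ∈ Cfsg.pCore 2 A, φ a ∈ Cfsg.pCore 2 B := by
    intro a ha
    rw [← hmap]
    exact ⟨a, ha, rfl⟩
  refine ⟨⟨⟨⟨?_⟩⟩, ?_⟩, ?_, ?_⟩
  · rintro ⟨a, ha⟩ ⟨b, hb⟩
    apply Subtype.ext
    apply φ.injective
    have := hc.is_comm.comm ⟨φ a, hmem a ha⟩ ⟨φ b, hmem b hb⟩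
    have := congrArg Subtype.val this
    simpa using this
  · intro a ha
    apply φ.injective
    rw [map_pow, map_one]
    exact hsq _ (hmem a ha)
  · rw [← hk, ← hmap]
    exact (Subgroup.card_map_of_injective φ.injective).symm
  · rw [← hn]
    exact Nat.card_congr φ.toEquiv

variable {F : Type*} [Field F] {m : ℕ} [Fintype F] (h : Fld F m)
variable (hm : 1 ≤ m) (hF : Fintype.card F = 2 ^ (2 * m + 1))

include h hm hF

theorem odd_card_range : Odd ((2 * m + 1) * (2 ^ (2 * m + 1) - 1)) := by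
  apply Odd.mul
  · exact ⟨m, rfl⟩
  · apply Nat.Even.sub_odd (Nat.one_le_two_pow)
    · exact (Nat.even_pow.2 ⟨even_two, by omega⟩)
    · exact odd_one

theorem pCore_mulAut_TS : Cfsg.pCore 2 (MulAut (TS h)) = (rho h hm hF).ker := by
  apply le_antisymm
  · apply sSup_le
    rintro N ⟨hN, hp⟩ x hx
    rw [MonoidHom.mem_ker]
    obtain ⟨k, hk⟩ := hp ⟨x, hx⟩
    have hk' : x ^ 2 ^ k = 1 := by
      have := congrArg Subtype.val hk
      simpa using this
    have h1 : orderOf (rho h hm hF x) ∣ 2 ^ k := by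
      apply orderOf_dvd_of_pow_eq_one
      rw [← map_pow, hk', map_one]
    have h2 : orderOf (rho h hm hF x) ∣ (2 * m + 1) * (2 ^ (2 * m + 1) - 1) := by
      rw [← card_range_rho h hm hF]
      exact Subgroup.orderOf_dvd_natCard _ ⟨x, rfl⟩
    have hco : Nat.Coprime (2 ^ k) ((2 * m + 1) * (2 ^ (2 * m + 1) - 1)) :=
      Nat.Coprime.pow_left k (Nat.coprime_two_left.2 (odd_card_range h hm hF))
    have h3 : orderOf (rho h hm hF x) = 1 := Nat.eq_one_of_dvd_coprimes hco h1 h2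
    exact orderOf_eq_one_iff.1 h3
  · apply le_sSup
    exact ⟨inferInstance, IsPGroup.of_card (card_ker_rho h hm hF)⟩

theorem main_TS :
    Cfsg.IsElementaryAbelian 2 (Cfsg.pCore 2 (MulAut (TS h))) ∧
      Nat.card ↥(Cfsg.pCore 2 (MulAut (TS h))) = 2 ^ ((2 * m + 1) ^ 2) ∧
      Nat.card (MulAut (TS h)) =
        2 ^ ((2 * m + 1) ^ 2) * ((2 * m + 1) * (2 ^ (2 * m + 1) - 1)) := by
  rw [pCore_mulAut_TS h hm hF]
  refine ⟨⟨⟨⟨?_⟩⟩, ?_⟩, card_ker_rho h hm hF, card_mulAut_TS h hm hF⟩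
  · rintro ⟨x, hx⟩ ⟨y, hy⟩
    obtain ⟨c, rfl⟩ := exists_cenAut_of_mem_ker h hm hF hx
    obtain ⟨c', rfl⟩ := exists_cenAut_of_mem_ker h hm hF hy
    apply Subtype.ext
    show cenAut h c * cenAut h c' = cenAut h c' * cenAut h c
    rw [cenAut_mul, cenAut_mul, add_comm]
  · intro x hx
    obtain ⟨c, rfl⟩ := exists_cenAut_of_mem_ker h hm hF hx
    rw [pow_two, cenAut_mul]
    have : c + c = 0 := by
      ext a
      exact h.add_self (c a)
    rw [this, cenAut_zero]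

/-- every Sylow 2-subgroup of `Lie.Sz` is isomorphic to `TS` -/
theorem nonempty_equiv_TS (P : Sylow 2 ↥(Cfsg.Lie.Sz F (2 ^ (m + 1)))) :
    Nonempty (↥(P : Subgroup ↥(Cfsg.Lie.Sz F (2 ^ (m + 1)))) ≃* TS h) := by
  have : Fact (Nat.Prime 2) := ⟨Nat.prime_two⟩
  have e := Cfsg.Agent.Lib.H2.SzB.bridge h hm hF
  have hcardL : Nat.card (Cfsg.Lie.Sz F (2 ^ (m + 1))) = Nat.card (Cfsg.Sz F m) :=
    Nat.card_congr e.symm.toEquiv
  have hcardS : Nat.card ((TS h).map e.toMonoidHom) = Nat.card (TS h) :=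
    Subgroup.card_map_of_injective e.injective
  let P₀ : Sylow 2 ↥(Cfsg.Lie.Sz F (2 ^ (m + 1))) :=
    Sylow.ofCard ((TS h).map e.toMonoidHom) (by
      rw [hcardS, card_TS_eq_pow_factorization h hm hF, hcardL])
  have : Finite ↥(Cfsg.Lie.Sz F (2 ^ (m + 1))) := Finite.of_equiv _ e.toEquiv
  obtain ⟨g, hg⟩ := MulAction.exists_smul_eq (↥(Cfsg.Lie.Sz F (2 ^ (m + 1)))) P₀ P
  have e1 : ↥(P₀ : Subgroup ↥(Cfsg.Lie.Sz F (2 ^ (m + 1)))) ≃*
      ↥(P : Subgroup ↥(Cfsg.Lie.Sz F (2 ^ (m + 1)))) := by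
    rw [← hg]
    exact Sylow.equivSMul P₀ g
  have e2 : TS h ≃* ↥(P₀ : Subgroup ↥(Cfsg.Lie.Sz F (2 ^ (m + 1)))) :=
    (TS h).equivMapOfInjective e.toMonoidHom e.injective
  exact ⟨(e2.trans e1).symm⟩

end Cfsg.Agent.Lib.H2.SzAutS
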