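import Mathlib
import Cfsg.Prelude.Def_LieExceptional
import Cfsg.Prelude.Def_Sz
import Cfsg.Agent.Lib.H2.Sz24
import Cfsg.Agent.Lib.H2.Sz12
import Cfsg.Agent.Lib.H2.SzB3
import Cfsg.Agent.Lib.H2.NilCover

set_option autoImplicit false
set_option linter.unusedSimpArgs false
set_option linter.unusedSectionVars false

/-!
# Suzuki groups: no nilpotent minimal cover
-/

namespace Cfsg.Agent.Lib.H2.Sz

open Matrix Cfsg Projectivization MulAction Cfsg.Agent.Lib.H2.NilCover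

variable {F : Type*} [Field F] [Fintype F] {m : ℕ} (h : Fld F m)

include h

theorem cc_ddRange (hm : 1 ≤ m) (hF : Fintype.card F = 2 ^ (2 * m + 1)) :
    CC (ddHom h).range := by
  rintro z ⟨k, rfl⟩ hz1 a ha
  have hk : k ≠ 1 := by
    rintro rfl
    exact hz1 (map_one _)
  have hcomm : (a : SpecialLinearGroup (Fin 4) F) * D m k = D m k * a := by
    exact congrArg Subtype.val ha.eq
  obtain ⟨l, hl⟩ := eq_D_of_commute_D h hm hF hk a.2 hcomm
  exact ⟨l, Subtype.ext hl.symm⟩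

theorem exists_unit_ne_one (hm : 1 ≤ m) (hF : Fintype.card F = 2 ^ (2 * m + 1)) :
    ∃ k : Fˣ, k ≠ 1 := by
  classical
  by_contra hcon
  push Not at hcon
  have h1 : Nat.card Fˣ = 1 := by
    rw [Nat.card_eq_one_iff_unique]
    exact ⟨⟨fun a b => (hcon a).trans (hcon b).symm⟩, ⟨1⟩⟩
  rw [Nat.card_units, Nat.card_eq_fintype_card, hF] at h1
  have : 2 ^ (2 * 1 + 1) ≤ 2 ^ (2 * m + 1) := Nat.pow_le_pow_right (by norm_num) (by omega)
  omega

theorem hasTwoTori_Sz (hm : 1 ≤ m) (hF : Fintype.card F = 2 ^ (2 * m + 1)) :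
    HasTwoTori (Cfsg.Sz F m) := by
  obtain ⟨k, hk⟩ := exists_unit_ne_one h hm hF
  have hcc := cc_ddRange h hm hF
  have ht : tt h 1 0 • (pinf : Projectivization F (Fin 4 → F)) = pinf := tt_smul_pinf h 1 0
  have hd1 : dd h k ≠ 1 := by
    intro h0
    rw [← dd_one h] at h0
    exact hk (dd_injective h h0)
  refine ⟨(ddHom h).range, ((ddHom h).range).map (MulAut.conj (tt h 1 0)).toMonoidHom,
    stabilizer (Cfsg.Sz F m) (pinf : Projectivization F (Fin 4 → F)),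
    dd h k, tt h 1 0 * dd h k * (tt h 1 0)⁻¹, hcc, hcc.map _, stabilizer_pinf_ne_top h, ?_, ?_,
    ⟨k, rfl⟩, ⟨dd h k, ⟨k, rfl⟩, rfl⟩, hd1, ?_, ?_⟩
  · rintro _ ⟨l, rfl⟩
    rw [mem_stabilizer_iff]
    exact dd_smul_pinf h l
  · rintro _ ⟨_, ⟨l, rfl⟩, rfl⟩
    rw [mem_stabilizer_iff]
    show (tt h 1 0 * dd h l * (tt h 1 0)⁻¹) • (pinf : Projectivization F (Fin 4 → F)) = pinf
    rw [mul_smul, mul_smul, inv_smul_eq_iff.2 ht.symm, dd_smul_pinf h l, ht]
  · intro h0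
    apply hd1
    have : dd h k = (tt h 1 0)⁻¹ * (tt h 1 0 * dd h k * (tt h 1 0)⁻¹) * tt h 1 0 := by group
    rw [this, h0]
    group
  · rintro ⟨l, hl⟩
    have hl1 : l ≠ 1 := by
      rintro rfl
      have h0 : tt h 1 0 * dd h k * (tt h 1 0)⁻¹ = 1 := by
        rw [← hl]
        exact map_one _
      apply hd1
      have : dd h k = (tt h 1 0)⁻¹ * (tt h 1 0 * dd h k * (tt h 1 0)⁻¹) * tt h 1 0 := by group
      rw [this, h0]
      group
    have hfix : dd h l • pt m (1 : F) 0 = pt m 1 0 := by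
      have e1 : ddHom h l = dd h l := rfl
      rw [← e1, hl, mul_smul, mul_smul, ← tt_smul_zero h 1 0, inv_smul_smul, dd_smul_zero h k]
    have := D_fix h hl1 (pt_mem 1 0) hfix
    rcases this with h1 | h1
    · exact pt_ne_pinf _ _ h1
    · exact one_ne_zero (pt_injective h1).1

theorem hasTwoTori_lie (hm : 1 ≤ m) (hF : Fintype.card F = 2 ^ (2 * m + 1)) :
    HasTwoTori (Cfsg.Lie.Sz F (2 ^ (m + 1))) :=
  (hasTwoTori_Sz h hm hF).of_equiv (Cfsg.Agent.Lib.H2.SzB.bridge h hm hF)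

end Cfsg.Agent.Lib.H2.Sz
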