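import Mathlib
import Cfsg.Prelude.Def_LieExceptional
import Cfsg.Agent.Lib.H2.SzFix2

set_option autoImplicit false
set_option linter.unusedSimpArgs false
set_option linter.unusedSectionVars false

/-!
# Suzuki groups: actions of fixity 2, III: the classification
-/

namespace Cfsg.Agent.Lib.H2.Sz

open Matrix Cfsg Projectivization MulAction

variable {F : Type*} [Field F] {m : ℕ} [Fintype F] (h : Fld F m)
  {Ω : Type*} [MulAction (Sz F m) Ω]

include h

theorem fixity_two (hm : 1 ≤ m) (hF : Fintype.card F = 2 ^ (2 * m + 1)) [Finite Ω]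
    (htr : ∀ a b : Ω, ∃ g : Sz F m, g • a = b) (h3 : Fix3 (Sz F m) Ω)
    (hex : ∃ g : Sz F m, g ≠ 1 ∧ ∃ a b : Ω, a ≠ b ∧ g • a = a ∧ g • b = b) :
    (Nat.card Ω = (2 ^ (2 * m + 1)) ^ 2 + 1 ∧
      ∀ a b c d : Ω, a ≠ b → c ≠ d → ∃ g : Sz F m, g • a = c ∧ g • b = d) ∨
    (Nat.card Ω = (2 ^ (2 * m + 1)) ^ 2 * ((2 ^ (2 * m + 1)) ^ 2 + 1) ∧
      ∀ β : Ω, Nat.card (stabilizer (Sz F m) β) = 2 ^ (2 * m + 1) - 1) := by
  classical
  have : IsPretransitive (Sz F m) Ω := ⟨htr⟩
  obtain ⟨g, hg1, a, b, hab, hga, hgb⟩ := hex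
  have hne : ∀ α : Ω, ∃ g' : Sz F m, g' • α ≠ α := by
    intro α
    by_cases hα : α = a
    · obtain ⟨g', hg'⟩ := htr α b
      exact ⟨g', by rw [hg', hα]; exact hab.symm⟩
    · obtain ⟨g', hg'⟩ := htr α a
      exact ⟨g', by rw [hg']; exact fun h0 => hα h0.symm⟩
  have hbot : ∀ α : Ω, stabilizer (Sz F m) α ≠ ⊥ := by
    intro α h0
    obtain ⟨x, hx⟩ := htr α a
    have h1 : x⁻¹ * g * x ∈ stabilizer (Sz F m) α := by
      rw [mem_stabilizer_iff, mul_smul, mul_smul, hx, hga, ← hx, inv_smul_smul]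
    rw [h0, Subgroup.mem_bot] at h1
    apply hg1
    have : g = x * (x⁻¹ * g * x) * x⁻¹ := by group
    rw [this, h1]
    group
  by_cases hinv : ∃ (α : Ω) (t : Sz F m), t • α = α ∧ t ≠ 1 ∧ t * t = 1
  · left
    obtain ⟨α, t, htα, ht1, ht2⟩ := hinv
    obtain ⟨p, hp, htp⟩ := invol_exists_fix h hF ht2
    obtain ⟨s, hs⟩ := exists_smul_eq_pinf h hp
    have ht'2 : s * t * s⁻¹ * (s * t * s⁻¹) = 1 := by
      calc s * t * s⁻¹ * (s * t * s⁻¹) = s * (t * t) * s⁻¹ := by group
        _ = 1 := by rw [ht2]; group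
    have ht'p : (s * t * s⁻¹) • (pinf : Projectivization F (Fin 4 → F)) = pinf := by
      rw [mul_smul, mul_smul, ← hs, inv_smul_smul, htp]
    obtain ⟨b', hb'⟩ := invol_of_fix_pinf h hm hF ht'2 ht'p
    have hb'0 : b' ≠ 0 := by
      rintro rfl
      rw [t0_zero] at hb'
      apply ht1
      have : t = s⁻¹ * (s * t * s⁻¹) * s := by group
      rw [this, hb']
      group
    have hb'α : t0 h b' • (s • α) = s • α := by
      rw [← hb', mul_smul, mul_smul, inv_smul_smul, htα]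
    have hstab := stab_eq_of_t0_mem h hm hF h3 hb'0 hb'α (hne _)
    set α' := s • α with hα'
    refine ⟨?_, ?_⟩
    · rw [← index_stabilizer_of_transitive (Sz F m) α', hstab, index_stabilizer, orbit_pinf h,
        ← Nat.card_coe_set_eq, Cfsg.Agent.S0326.result, hF]
    · intro a₁ b₁ c₁ d₁ hab₁ hcd₁
      obtain ⟨x, rfl⟩ := htr α' a₁
      obtain ⟨y, rfl⟩ := htr α' b₁
      obtain ⟨z, rfl⟩ := htr α' c₁
      obtain ⟨w, rfl⟩ := htr α' d₁
      have hinj : ∀ x y : Sz F m, x • (pinf : Projectivization F (Fin 4 → F)) = y • pinf →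
          x • α' = y • α' := by
        intro x y hxy
        have h1 : y⁻¹ * x ∈ stabilizer (Sz F m) (pinf : Projectivization F (Fin 4 → F)) := by
          rw [mem_stabilizer_iff, mul_smul, hxy, inv_smul_smul]
        rw [← hstab, mem_stabilizer_iff, mul_smul, inv_smul_eq_iff] at h1
        exact h1
      have h1 : x • (pinf : Projectivization F (Fin 4 → F)) ≠ y • pinf :=
        fun h0 => hab₁ (hinj x y h0)
      have h2 : z • (pinf : Projectivization F (Fin 4 → F)) ≠ w • pinf :=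
        fun h0 => hcd₁ (hinj z w h0)
      obtain ⟨g₀, hg₀, e1, e2⟩ := two_transitive h (smul_mem_ovoid h x pinf_mem)
        (smul_mem_ovoid h y pinf_mem) (smul_mem_ovoid h z pinf_mem)
        (smul_mem_ovoid h w pinf_mem) h1 h2
      refine ⟨⟨g₀, hg₀⟩, ?_, ?_⟩
      · rw [← mul_smul]
        apply hinj
        rw [mul_smul]
        exact e1
      · rw [← mul_smul]
        apply hinj
        rw [mul_smul]
        exact e2
  · right
    push Not at hinv
    have hcard : ∀ β : Ω, Nat.card (stabilizer (Sz F m) β) = 2 ^ (2 * m + 1) - 1 := by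
      intro β
      apply card_stab_of_no_invol h hm hF h3 (hbot β)
      intro x hx hx2
      by_contra hx1
      exact hinv β x hx hx1 hx2
    refine ⟨?_, hcard⟩
    have h1 := (stabilizer (Sz F m) a).card_mul_index
    rw [index_stabilizer_of_transitive, hcard a, card_Sz h hm hF] at h1
    have hpos : 0 < 2 ^ (2 * m + 1) - 1 := by
      have : 2 ^ 1 ≤ 2 ^ (2 * m + 1) := Nat.pow_le_pow_right (by norm_num) (by omega)
      omega
    apply Nat.eq_of_mul_eq_mul_left hpos
    rw [h1]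
    ring

end Cfsg.Agent.Lib.H2.Sz
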