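import Mathlib
import Cfsg.Prelude.Def_LieExceptional
import Cfsg.Agent.Lib.H2.Sz21
import Cfsg.Agent.Lib.H2.LinIrr

set_option autoImplicit false
set_option linter.unusedSimpArgs false
set_option linter.unusedSectionVars false

/-!
# Suzuki groups: elements of odd prime order fix no nonzero vector of the natural module
-/

namespace Cfsg.Agent.Lib.H2.Sz

open Matrix Cfsg Projectivization MulAction

variable {F : Type*} [Field F] {m : ℕ} [Fintype F] (h : Fld F m)

include h

theorem sq_eq_one {x : F} (hx : x ^ 2 = 1) : x = 1 := by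
  have h2 : (x - 1) * (x - 1) = 0 := by
    linear_combination hx - x * h.two + h.two
  rcases mul_eq_zero.1 h2 with h3 | h3 <;> exact sub_eq_zero.1 h3

theorem ρ_eq_one {k : F} (hk : ρ m k = 1) : k = 1 := by
  apply θ_injective h
  rw [← ρ_sq, hk, one_pow, θ_one]

theorem mul_ρ_eq_one {k : F} (hk : k * ρ m k = 1) : k = 1 := by
  have h1 : k ^ 2 * θ m k = 1 := by
    rw [← ρ_sq]
    calc k ^ 2 * ρ m k ^ 2 = (k * ρ m k) ^ 2 := by ring
      _ = 1 := by rw [hk, one_pow]
  have h2 : (k * θ m k) ^ 2 = 1 := by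
    have := congrArg (θ m) h1
    rw [θ_mul, θ_pow, θ_θ h, θ_one] at this
    rw [mul_pow, mul_comm]
    exact this
  exact eq_one_of_mul_θ h (sq_eq_one h h2)

/-- nontrivial torus elements fix no nonzero vector -/
theorem Dm_fixed {k : Fˣ} (hk : k ≠ 1) {w : Fin 4 → F} (hw : Dm m (k : F) *ᵥ w = w) : w = 0 := by
  have hk' : (k : F) ≠ 1 := fun h0 => hk (Units.ext h0)
  have hρ0 : ρ m (k : F) ≠ 0 := ρ_ne_zero k.ne_zero
  have hρ1 : ρ m (k : F) ≠ 1 := fun h0 => hk' (ρ_eq_one h h0)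
  have hkρ1 : (k : F) * ρ m (k : F) ≠ 1 := fun h0 => hk' (mul_ρ_eq_one h h0)
  have hkρ0 : (k : F) * ρ m (k : F) ≠ 0 := mul_ne_zero k.ne_zero hρ0
  have key : ∀ (c x : F), c ≠ 1 → c * x = x → x = 0 := by
    intro c x hc hx
    have : (c - 1) * x = 0 := by linear_combination hx
    rcases mul_eq_zero.1 this with h3 | h3
    · exact absurd (sub_eq_zero.1 h3) hc
    · exact h3
  have e0 := congrFun hw 0
  have e1 := congrFun hw 1
  have e2 := congrFun hw 2
  have e3 := congrFun hw 3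
  simp [Dm, Matrix.mulVec_diagonal] at e0 e1 e2 e3
  ext i
  fin_cases i
  · exact key _ _ hkρ1 e0
  · exact key _ _ hρ1 e1
  · refine key (ρ m (k : F))⁻¹ _ (fun h0 => hρ1 (inv_eq_one.1 h0)) e2
  · refine key ((ρ m (k : F))⁻¹ * (k : F)⁻¹) _ (fun h0 => hkρ1 ?_) e3
    have : ((k : F) * ρ m (k : F))⁻¹ = 1 := by rw [_root_.mul_inv_rev]; exact h0
    exact inv_eq_one.1 this

/-- an element of odd prime order fixes no nonzero vector -/
theorem eq_zero_of_fixed (hm : 1 ≤ m) (hF : Fintype.card F = 2 ^ (2 * m + 1))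
    {g : SpecialLinearGroup (Fin 4) F} (hg : g ∈ Sz F m) {p : ℕ} [Fact p.Prime] (hp2 : p ≠ 2)
    (hgp : g ^ p = 1) (hg1 : g ≠ 1) {v : Fin 4 → F}
    (hv : (g : Matrix (Fin 4) (Fin 4) F) *ᵥ v = v) : v = 0 := by
  have hp : p.Prime := Fact.out
  by_cases hpd : p ∣ Fintype.card F ^ 2 + 1
  · obtain ⟨hA, hne, hpF, hnd⟩ := mat_hyp h hp2 hpd hgp hg1
    have H := Cfsg.Agent.Lib.H2.LinIrr.hyp_of_matrix _ hA hne hpF hnd
    have hinv : ∀ w ∈ Submodule.span F {v},
        (Matrix.toLinAlgEquiv' (g : Matrix (Fin 4) (Fin 4) F)) w ∈ Submodule.span F {v} := by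
      intro w hw
      obtain ⟨c, rfl⟩ := Submodule.mem_span_singleton.1 hw
      rw [map_smul, Matrix.toLinAlgEquiv'_apply, hv]
      exact Submodule.smul_mem _ _ (Submodule.mem_span_singleton_self v)
    rcases Cfsg.Agent.Lib.H2.LinIrr.eq_bot_or_eq_top H _ hinv with h1 | h1
    · exact Submodule.span_singleton_eq_bot.1 h1
    · by_contra hv0
      have h2 : Module.finrank F (Submodule.span F {v}) = 1 := finrank_span_singleton hv0
      rw [h1, finrank_top, Module.finrank_fintype_fun_eq_card, Fintype.card_fin] at h2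
      omega
  · obtain ⟨x, hx, hfix⟩ := exists_fix_of_prime_order hg hgp hpd
    have h4 : g ^ 4 ≠ 1 := by
      intro h4
      apply hg1
      have h5 : orderOf g ∣ Nat.gcd 4 p := Nat.dvd_gcd (orderOf_dvd_of_pow_eq_one h4)
        (orderOf_dvd_of_pow_eq_one hgp)
      have h6 : Nat.gcd 4 p = 1 := by
        have : Nat.Coprime (2 ^ 2) p := Nat.Coprime.pow_left 2
          ((Nat.coprime_primes Nat.prime_two hp).2 (Ne.symm hp2))
        simpa using this
      rw [h6, Nat.dvd_one] at h5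
      exact orderOf_eq_one_iff.1 h5
    obtain ⟨u, hu, k, hk, huk⟩ := exists_conj_D h hm hF hg h4 hx hfix
    have hw : Dm m (k : F) *ᵥ ((u : Matrix (Fin 4) (Fin 4) F) *ᵥ v) =
        (u : Matrix (Fin 4) (Fin 4) F) *ᵥ v := by
      have e1 : (u : Matrix (Fin 4) (Fin 4) F) * (g : Matrix (Fin 4) (Fin 4) F) =
          Dm m (k : F) * (u : Matrix (Fin 4) (Fin 4) F) := by
        have : u * g = D m k * u := by
          rw [← huk]
          group
        exact congrArg Subtype.val this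
      rw [Matrix.mulVec_mulVec, ← e1, ← Matrix.mulVec_mulVec, hv]
    have hz := Dm_fixed h hk hw
    have : ((u⁻¹ : SpecialLinearGroup (Fin 4) F) : Matrix (Fin 4) (Fin 4) F) *ᵥ
        ((u : Matrix (Fin 4) (Fin 4) F) *ᵥ v) = v := by
      have h8 : ((u⁻¹ : SpecialLinearGroup (Fin 4) F) : Matrix (Fin 4) (Fin 4) F) *
          (u : Matrix (Fin 4) (Fin 4) F) = 1 := by
        exact congrArg Subtype.val (inv_mul_cancel u)
      rw [Matrix.mulVec_mulVec, h8, Matrix.one_mulVec]
    rw [← this, hz, Matrix.mulVec_zero]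

end Cfsg.Agent.Lib.H2.Sz
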