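import Mathlib
import Cfsg.Prelude.Def_LieExceptional
import Cfsg.Agent.Lib.H2.Sz29

set_option autoImplicit false
set_option linter.unusedSimpArgs false
set_option linter.unusedSectionVars false

/-!
# Suzuki groups over fields of the same cardinality are isomorphic (across universes)
-/

namespace Cfsg.Agent.Lib.H2.Sz

open Matrix Cfsg

theorem nonempty_iso_of_card {F : Type*} [Field F] [Fintype F] {K : Type*} [Field K] [Fintype K]
    {m : ℕ} (hm : 1 ≤ m) (hK : Fintype.card K = 2 ^ (2 * m + 1))
    (hF : Fintype.card F = 2 ^ (2 * m + 1)) : Nonempty (Cfsg.Sz K m ≃* Cfsg.Sz F m) := by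
  classical
  have h := fld_of_card hF
  obtain ⟨ι⟩ := exists_ringHom hF hK (dvd_refl _)
  have hmk : ∃ i, m = m + i * (2 * m + 1) := ⟨0, by simp⟩
  have hbij : Function.Bijective ι := by
    rw [Fintype.bijective_iff_injective_and_card]
    exact ⟨ι.injective, by rw [hK, hF]⟩
  have hr := range_embSz ι hK hmk hm hF
  rw [hbij.surjective.range_eq, stdSz_univ h hm hF] at hr
  refine ⟨MulEquiv.ofBijective (embSz ι hK hmk hm hF) ⟨embSz_injective ι hK hmk hm hF, ?_⟩⟩
  exact MonoidHom.range_eq_top.1 hr

/-- a model of the field in `Type` -/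
theorem exists_model (m : ℕ) :
    ∃ (K : Type) (_ : Field K) (_ : Fintype K), Fintype.card K = 2 ^ (2 * m + 1) := by
  classical
  have : Fact (Nat.Prime 2) := ⟨Nat.prime_two⟩
  let _ : Fintype (GaloisField 2 (2 * m + 1)) := Fintype.ofFinite _
  have hK : Fintype.card (GaloisField 2 (2 * m + 1)) = 2 ^ (2 * m + 1) := by
    rw [← Nat.card_eq_fintype_card]
    exact GaloisField.card 2 (2 * m + 1) (by omega)
  exact ⟨GaloisField 2 (2 * m + 1), inferInstance, inferInstance, hK⟩

end Cfsg.Agent.Lib.H2.Sz
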