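import Mathlib
import Cfsg.Prelude.Def_LieExceptional
import Cfsg.Prelude.Def_Sz
import Cfsg.Agent.Lib.H2.SzFvf
import Cfsg.Agent.Lib.H2.SzIso
import Cfsg.Agent.Lib.H2.SzB3
import Cfsg.Agent.Lib.H2.PGExt

set_option autoImplicit false
set_option linter.unusedSimpArgs false
set_option linter.unusedSectionVars false

/-!
# Groups of arbitrarily large order with the prime graph of a Suzuki group
-/

namespace Cfsg.Agent.Lib.H2.Sz

open Matrix Cfsg

section Model

variable {K : Type} [Field K] [Fintype K] {m : ℕ}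

/-- the action on `N` copies of the natural module -/
noncomputable def actHom (K : Type) [Field K] [Fintype K] (m n : ℕ) :
    Cfsg.Sz K m →* MulAut (Multiplicative (Fin n → Fin 4 → K)) :=
  (MulAutMultiplicative (Fin n → Fin 4 → K)).symm.toMonoidHom.comp
    (DistribMulAction.toAddAut (Cfsg.Sz K m) (Fin n → Fin 4 → K))

theorem actHom_apply (n : ℕ) (g : Cfsg.Sz K m) (w : Multiplicative (Fin n → Fin 4 → K)) :
    actHom K m n g w = Multiplicative.ofAdd (g • Multiplicative.toAdd w) := rfl

theorem exists_big (hm : 1 ≤ m) (hK : Fintype.card K = 2 ^ (2 * m + 1)) (N : ℕ) :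
    ∃ (H : Type) (_ : Group H) (_ : Fintype H), N < Fintype.card H ∧
      (∀ r : ℕ, r.Prime → (r ∣ Nat.card (Cfsg.Sz K m) ↔ r ∣ Nat.card H)) ∧
      (∀ r s : ℕ, r.Prime → s.Prime → r ≠ s →
        ((∃ x : Cfsg.Sz K m, orderOf x = r * s) ↔ (∃ y : H, orderOf y = r * s))) := by
  classical
  have h := fld_of_card hK
  have hchar : CharP K 2 := h.charP
  let V := Fin N → Fin 4 → K
  let _ : Fintype (Cfsg.Sz K m) := Fintype.ofFinite _
  let fH : Fintype (Multiplicative V ⋊[actHom K m N] Cfsg.Sz K m) :=
    Fintype.ofEquiv _ SemidirectProduct.equivProd.symm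
  have hcardH : Fintype.card (Multiplicative V ⋊[actHom K m N] Cfsg.Sz K m) =
      Fintype.card V * Fintype.card (Cfsg.Sz K m) := by
    rw [Fintype.ofEquiv_card, Fintype.card_prod, Fintype.card_multiplicative]
  have hcardV : Fintype.card V = 2 ^ ((2 * m + 1) * 4 * N) := by
    show Fintype.card (Fin N → Fin 4 → K) = _
    rw [Fintype.card_fun, Fintype.card_fun, Fintype.card_fin, Fintype.card_fin, hK, ← pow_mul,
      ← pow_mul, mul_assoc]
  have hcardG : Fintype.card (Cfsg.Sz K m) =
      (2 ^ (2 * m + 1)) ^ 2 * ((2 ^ (2 * m + 1)) ^ 2 + 1) * (2 ^ (2 * m + 1) - 1) := by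
    rw [← Nat.card_eq_fintype_card, card_Sz h hm hK]
  have hGpos : 0 < Fintype.card (Cfsg.Sz K m) := Fintype.card_pos
  have h2G : 2 ∣ Fintype.card (Cfsg.Sz K m) := by
    rw [hcardG, mul_assoc]
    apply Dvd.dvd.mul_right
    exact dvd_pow (dvd_pow_self 2 (by omega)) (by norm_num)
  refine ⟨Multiplicative V ⋊[actHom K m N] Cfsg.Sz K m, inferInstance, fH, ?_, ?_, ?_⟩
  · rw [hcardH, hcardV]
    calc N < 2 ^ N := Nat.lt_two_pow_self
      _ ≤ 2 ^ ((2 * m + 1) * 4 * N) := Nat.pow_le_pow_right (by norm_num) (by nlinarith)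
      _ ≤ 2 ^ ((2 * m + 1) * 4 * N) * Fintype.card (Cfsg.Sz K m) := Nat.le_mul_of_pos_right _ hGpos
  · intro r hr
    rw [Nat.card_eq_fintype_card, Nat.card_eq_fintype_card, hcardH]
    constructor
    · intro h1
      exact Dvd.dvd.mul_left h1 _
    · intro h1
      rcases (Nat.Prime.dvd_mul hr).1 h1 with h2 | h2
      · rw [hcardV] at h2
        have := (Nat.prime_dvd_prime_iff_eq hr Nat.prime_two).1 (hr.dvd_of_dvd_pow h2)
        rw [this]
        exact h2G
      · exact h2
  · intro r s hr hs hrs
    have hfin : Finite (Multiplicative V ⋊[actHom K m N] Cfsg.Sz K m) := Finite.of_fintype _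
    refine (Cfsg.Agent.Lib.H2.PGExt.exists_order_iff
      (SemidirectProduct.rightHom (φ := actHom K m N)) SemidirectProduct.inr
      (fun g => SemidirectProduct.rightHom_inr g) ?_ ?_ hr hs hrs).symm
    · intro z hz
      rw [MonoidHom.mem_ker, SemidirectProduct.rightHom_eq_right] at hz
      apply SemidirectProduct.ext
      · rw [SemidirectProduct.mul_left, hz, map_one, MulAut.one_apply, SemidirectProduct.one_left]
        show Multiplicative.ofAdd (Multiplicative.toAdd z.left + Multiplicative.toAdd z.left) = 1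
        have h0 : Multiplicative.toAdd z.left + Multiplicative.toAdd z.left = 0 := by
          funext i j
          exact CharTwo.add_self_eq_zero _
        rw [h0]
        rfl
      · rw [SemidirectProduct.mul_right, hz, mul_one, SemidirectProduct.one_right]
    · intro y z hz hcomm hprime hne2
      rw [MonoidHom.mem_ker, SemidirectProduct.rightHom_eq_right] at hz
      rw [SemidirectProduct.rightHom_eq_right] at hprime hne2
      have h1 := congrArg SemidirectProduct.left hcomm.eq
      rw [SemidirectProduct.mul_left, SemidirectProduct.mul_left, hz, map_one, MulAut.one_apply,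
        mul_comm, mul_right_inj, actHom_apply] at h1
      have h2 : y.right • Multiplicative.toAdd z.left = Multiplicative.toAdd z.left := by
        have := congrArg Multiplicative.toAdd h1
        exact this.symm
      have : Fact (orderOf y.right).Prime := ⟨hprime⟩
      have hg1 : (y.right : SpecialLinearGroup (Fin 4) K) ≠ 1 := by
        intro h0
        have : y.right = 1 := Subtype.ext h0
        rw [this, orderOf_one] at hprime
        exact Nat.not_prime_one hprime
      have hgp : (y.right : SpecialLinearGroup (Fin 4) K) ^ orderOf y.right = 1 := by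
        rw [← Subgroup.coe_pow, pow_orderOf_eq_one]
        rfl
      have h3 : Multiplicative.toAdd z.left = 0 := by
        funext i
        have h4 := congrFun h2 i
        exact eq_zero_of_fixed h hm hK y.right.2 hne2 hgp hg1 h4
      apply SemidirectProduct.ext
      · rw [SemidirectProduct.one_left]
        exact h3
      · rw [SemidirectProduct.one_right]
        exact hz

end Model

/-- groups of arbitrarily large order with the same prime graph as the matrix Suzuki group -/
theorem exists_big_lie {F : Type*} [Field F] [Fintype F] {m : ℕ} (hm : 1 ≤ m)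
    (hF : Fintype.card F = 2 ^ (2 * m + 1)) (N : ℕ) :
    ∃ (H : Type) (_ : Group H) (_ : Fintype H), N < Fintype.card H ∧
      ((∀ r : ℕ, r.Prime → (r ∣ Nat.card ↥(Cfsg.Lie.Sz F (2 ^ (m + 1))) ↔ r ∣ Nat.card H)) ∧
      (∀ r s : ℕ, r.Prime → s.Prime → r ≠ s →
        ((∃ x : ↥(Cfsg.Lie.Sz F (2 ^ (m + 1))), orderOf x = r * s) ↔
          (∃ y : H, orderOf y = r * s)))) := by
  obtain ⟨K, _, _, hK⟩ := exists_model m
  obtain ⟨e₁⟩ := nonempty_iso_of_card hm hK hF
  have e := e₁.trans (Cfsg.Agent.Lib.H2.SzB.bridge (fld_of_card hF) hm hF)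
  obtain ⟨H, iG, iF, h1, h2, h3⟩ := exists_big hm hK N
  refine ⟨H, iG, iF, h1, ?_, ?_⟩
  · intro r hr
    rw [← h2 r hr, Nat.card_congr e.toEquiv]
  · intro r s hr hs hrs
    rw [← h3 r s hr hs hrs]
    constructor
    · rintro ⟨x, hx⟩
      exact ⟨e.symm x, by rw [MulEquiv.orderOf_eq, hx]⟩
    · rintro ⟨x, hx⟩
      exact ⟨e x, by rw [MulEquiv.orderOf_eq, hx]⟩

end Cfsg.Agent.Lib.H2.Sz
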