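import Mathlib
import Cfsg.Prelude.Def_LieExceptional
import Cfsg.Agent.Lib.H2.SzSol6

set_option autoImplicit false
set_option linter.unusedSimpArgs false
set_option linter.unusedSectionVars false
set_option linter.unusedVariables false

/-!
# Suzuki groups, solubilizers VII: counting the tori normalised by a `2`-element
-/

namespace Cfsg.Agent.Lib.H2.Sz

open Matrix Cfsg Projectivization MulAction

variable {F : Type*} [Field F] {m : ℕ} [Fintype F] (h : Fld F m)

include h

/-- the involutions of a torus normaliser -/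
theorem ncard_invol_NT (hm : 1 ≤ m) (hF : Fintype.card F = 2 ^ (2 * m + 1)) {u : Sz F m}
    (hu : FP u) : {i : Sz F m | i ∈ (Invol : Set (Sz F m)) ∧ i ∈ NT u}.ncard = cT u := by
  have := (hyp_of_fp h hm hF hu).ncard_invol
  rw [show cT u = Nat.card (Subgroup.centralizer ({u} : Set (Sz F m))) from rfl, ← this]
  congr 1
  ext i
  constructor
  · rintro ⟨⟨h1, h2⟩, h3⟩
    exact ⟨h3, h1, h2⟩
  · rintro ⟨h3, h1, h2⟩
    exact ⟨⟨h1, h2⟩, h3⟩

/-- the sum of the torus orders over all fixed-point-free elements -/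
theorem four_mul_sum_cT (hm : 1 ≤ m) (hF : Fintype.card F = 2 ^ (2 * m + 1))
    [Fintype (Sz F m)] [DecidableEq (Sz F m)] [DecidablePred fun g : Sz F m => FP g] :
    4 * ∑ u ∈ Finset.univ.filter (fun g : Sz F m => FP g), cT u =
      Fintype.card (Sz F m) * (2 * 2 ^ (2 * m + 1)) := by
  classical
  obtain ⟨hall, ⟨g₁, hg₁, hc₁⟩, ⟨g₂, hg₂, hc₂⟩⟩ := tori_main h hm hF
  have hle : 2 * 2 ^ m ≤ 2 ^ (2 * m + 1) := by
    have := SolArith.r_le m
    rw [pow_succ (n := m)] at this
    omega
  have hpos : 0 < 2 ^ m := by positivity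
  have hne : cT g₁ ≠ cT g₂ := by rw [hc₁, hc₂]; omega
  have hsplit : Finset.univ.filter (fun g : Sz F m => FP g) =
      Finset.univ.filter (fun g : Sz F m => FP g ∧ cT g = cT g₁) ∪
      Finset.univ.filter (fun g : Sz F m => FP g ∧ cT g = cT g₂) := by
    ext g
    simp only [Finset.mem_filter, Finset.mem_univ, true_and, Finset.mem_union]
    constructor
    · intro hg
      rcases (hall g hg).1 with e | e
      · exact Or.inl ⟨hg, by rw [e, hc₁]⟩
      · exact Or.inr ⟨hg, by rw [e, hc₂]⟩
    · rintro (⟨hg, _⟩ | ⟨hg, _⟩) <;> exact hg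
  have hdisj : Disjoint (Finset.univ.filter (fun g : Sz F m => FP g ∧ cT g = cT g₁))
      (Finset.univ.filter (fun g : Sz F m => FP g ∧ cT g = cT g₂)) := by
    rw [Finset.disjoint_left]
    intro g h1 h2
    simp only [Finset.mem_filter, Finset.mem_univ, true_and] at h1 h2
    exact hne (h1.2.symm.trans h2.2)
  rw [hsplit, Finset.sum_union hdisj]
  have s1 : ∑ u ∈ Finset.univ.filter (fun g : Sz F m => FP g ∧ cT g = cT g₁), cT u =
      (Finset.univ.filter (fun g : Sz F m => FP g ∧ cT g = cT g₁)).card * cT g₁ := by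
    rw [Finset.card_eq_sum_ones, Finset.sum_mul]
    apply Finset.sum_congr rfl
    intro u hu
    simp only [Finset.mem_filter, Finset.mem_univ, true_and] at hu
    rw [hu.2, one_mul]
  have s2 : ∑ u ∈ Finset.univ.filter (fun g : Sz F m => FP g ∧ cT g = cT g₂), cT u =
      (Finset.univ.filter (fun g : Sz F m => FP g ∧ cT g = cT g₂)).card * cT g₂ := by
    rw [Finset.card_eq_sum_ones, Finset.sum_mul]
    apply Finset.sum_congr rfl
    intro u hu
    simp only [Finset.mem_filter, Finset.mem_univ, true_and] at hu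
    rw [hu.2, one_mul]
  rw [s1, s2]
  have f1 := fiber_card h hm hF hg₁
  have f2 := fiber_card h hm hF hg₂
  rw [(hall g₁ hg₁).2] at f1
  rw [(hall g₂ hg₂).2] at f2
  have f1' : (Finset.univ.filter (fun g : Sz F m => FP g ∧ cT g = cT g₁)).card * (4 * cT g₁) =
      Fintype.card (Sz F m) * (cT g₁ - 1) := by
    convert f1
    exact Iff.rfl
  have f2' : (Finset.univ.filter (fun g : Sz F m => FP g ∧ cT g = cT g₂)).card * (4 * cT g₂) =
      Fintype.card (Sz F m) * (cT g₂ - 1) := by
    convert f2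
    exact Iff.rfl
  have e : 2 * 2 ^ (2 * m + 1) = (cT g₁ - 1) + (cT g₂ - 1) := by rw [hc₁, hc₂]; omega
  calc 4 * ((Finset.univ.filter (fun g : Sz F m => FP g ∧ cT g = cT g₁)).card * cT g₁ +
        (Finset.univ.filter (fun g : Sz F m => FP g ∧ cT g = cT g₂)).card * cT g₂)
      = (Finset.univ.filter (fun g : Sz F m => FP g ∧ cT g = cT g₁)).card * (4 * cT g₁) +
        (Finset.univ.filter (fun g : Sz F m => FP g ∧ cT g = cT g₂)).card * (4 * cT g₂) := by
        ring
    _ = Fintype.card (Sz F m) * (cT g₁ - 1) + Fintype.card (Sz F m) * (cT g₂ - 1) := by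
        rw [f1', f2']
    _ = Fintype.card (Sz F m) * (2 * 2 ^ (2 * m + 1)) := by rw [← mul_add, ← e]

/-- the number of tori normalised by an involution -/
theorem two_mul_ncard_UU_invol (hm : 1 ≤ m) (hF : Fintype.card F = 2 ^ (2 * m + 1)) {x : Sz F m}
    (hx : x ∈ (Invol : Set (Sz F m))) : 2 * (UU x).ncard = (2 ^ (2 * m + 1)) ^ 3 := by
  classical
  have : Fintype (Sz F m) := Fintype.ofFinite _
  set IS : Finset (Sz F m) := Finset.univ.filter (fun i => i ∈ (Invol : Set (Sz F m))) with hIS
  set FS : Finset (Sz F m) := Finset.univ.filter (fun g : Sz F m => FP g) with hFS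
  have key := Finset.sum_card_bipartiteAbove_eq_sum_card_bipartiteBelow
    (fun (i u : Sz F m) => i ∈ NT u) (s := IS) (t := FS)
  -- left side
  have hl : ∀ i ∈ IS, (Finset.bipartiteAbove (fun (i u : Sz F m) => i ∈ NT u) FS i).card =
      (UU x).ncard := by
    intro i hi
    simp only [hIS, Finset.mem_filter, Finset.mem_univ, true_and] at hi
    obtain ⟨g, hg⟩ := invol_conj h hm hF hx hi
    rw [← ncard_UU_conj h hm hF g x, hg, ← Set.ncard_coe_finset]
    congr 1
    ext u
    simp only [Finset.bipartiteAbove, hFS, Finset.coe_filter, Finset.mem_filter, Finset.mem_univ,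
      true_and, Set.mem_ofPred_eq]
    rfl
  have hr : ∀ u ∈ FS, (Finset.bipartiteBelow (fun (i u : Sz F m) => i ∈ NT u) IS u).card =
      cT u := by
    intro u hu
    simp only [hFS, Finset.mem_filter, Finset.mem_univ, true_and] at hu
    rw [← ncard_invol_NT h hm hF hu, ← Set.ncard_coe_finset]
    congr 1
    ext i
    simp only [Finset.bipartiteBelow, hIS, Finset.coe_filter, Finset.mem_filter, Finset.mem_univ,
      true_and, Set.mem_ofPred_eq]
  rw [Finset.sum_congr rfl hl, Finset.sum_congr rfl hr, Finset.sum_const, smul_eq_mul] at key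
  have h4 := four_mul_sum_cT h hm hF
  rw [← hFS, ← key, ← Nat.card_eq_fintype_card, card_Sz h hm hF] at h4
  have hI := ncard_Invol h hm hF
  have hIc : IS.card = (Invol : Set (Sz F m)).ncard := by
    rw [← Set.ncard_coe_finset]
    congr 1
    ext i
    simp [hIS]
  rw [hIc] at h4
  -- 4 * (|Invol| * c) = |G| * 2q and |Invol| * q^2 = |G|
  rw [← hI] at h4
  have hIpos : 0 < (Invol : Set (Sz F m)).ncard := by
    rw [Set.ncard_pos (Set.toFinite _)]
    exact ⟨x, hx⟩
  have : (Invol : Set (Sz F m)).ncard * (4 * (UU x).ncard) =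
      (Invol : Set (Sz F m)).ncard * (2 * (2 ^ (2 * m + 1)) ^ 3) := by
    rw [← mul_assoc, mul_comm _ 4, mul_assoc, h4]
    ring
  have := Nat.eq_of_mul_eq_mul_left hIpos this
  omega

end Cfsg.Agent.Lib.H2.Sz
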