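import Mathlib
import Cfsg.Prelude.Def_LieExceptional
import Cfsg.Agent.Lib.H2.SzSol7

set_option autoImplicit false
set_option linter.unusedSimpArgs false
set_option linter.unusedSectionVars false
set_option linter.unusedVariables false

/-!
# Suzuki groups, solubilizers VIII: the tori normalised by an element of order four
-/

namespace Cfsg.Agent.Lib.H2.Sz

open Matrix Cfsg Projectivization MulAction

variable {F : Type*} [Field F] {m : ℕ} [Fintype F] (h : Fld F m)

include h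

/-- square roots of a central involution -/
theorem sqrt_t0 (hm : 1 ≤ m) (hF : Fintype.card F = 2 ^ (2 * m + 1)) {a₀ b : F} (hb : b ≠ 0)
    (ha : θ m a₀ * a₀ = b) {z : Sz F m} (hz : z * z = t0 h b) : ∃ c : F, z = tt h a₀ c := by
  have hzc : z ∈ Subgroup.centralizer ({t0 h b} : Set (Sz F m)) := by
    rw [Subgroup.mem_centralizer_singleton_iff, ← hz, mul_assoc]
  rw [centralizer_t0 h hm hF hb, mem_TS_iff'] at hzc
  obtain ⟨a, c, rfl⟩ := hzc
  rw [tt_sq] at hz
  have e := t0_injective h hz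
  have : a = a₀ := by
    apply mulθ_injective h
    rw [mul_comm, e, ← ha, mul_comm]
  exact ⟨c, by rw [this]⟩

theorem θ_add_self_ne_one (y : F) : y + θ m y ≠ 1 := by
  intro e
  have e1 : θ m y = y + 1 := by
    have : θ m y = y + (y + θ m y) := by rw [← add_assoc, h.add_self, zero_add]
    rw [this, e]
  have e2 : θ m (θ m y) = y := by
    rw [e1, θ_add h, θ_one, e1, add_assoc, h.add_self, add_zero]
  rw [θ_θ h] at e2
  have e3 : y * (y + 1) = 0 := by
    rw [mul_add, mul_one, ← pow_two, e2, h.add_self]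
  rcases mul_eq_zero.1 e3 with h0 | h0
  · rw [h0, θ_zero, add_zero] at e
    exact zero_ne_one e
  · have hy : y = 1 := h.eq_of_add_eq_zero h0
    rw [hy, θ_one, h.add_self] at e
    exact zero_ne_one e

theorem not_mem_range_Lmap {a₀ : F} (ha₀ : a₀ ≠ 0) (x : F) : Lmap h a₀ x ≠ θ m a₀ * a₀ := by
  intro e
  rw [Lmap_apply] at e
  apply θ_add_self_ne_one h (x / a₀)
  have hθ : θ m a₀ ≠ 0 := fun h0 => ha₀ (θ_eq_zero.1 h0)
  have hne : θ m a₀ * a₀ ≠ 0 := mul_ne_zero hθ ha₀
  rw [θ_div, div_add_div _ _ ha₀ hθ]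
  have : x * θ m a₀ + a₀ * θ m x = a₀ * θ m a₀ := by
    rw [mul_comm x, mul_comm a₀ (θ m x), e, mul_comm]
  rw [this, div_self (mul_ne_zero ha₀ hθ)]

/-- the range of `Lmap h a₀` and its translate by `θ a₀ * a₀` cover the field -/
theorem range_Lmap_cover {a₀ : F} (ha₀ : a₀ ≠ 0) (d : F) :
    (∃ x, Lmap h a₀ x = d) ∨ ∃ x, Lmap h a₀ x = d + θ m a₀ * a₀ := by
  set R := (Lmap h a₀).range with hR
  have hidx : R.index = 2 := by
    have h1 := AddSubgroup.card_mul_index (Lmap h a₀).ker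
    rw [AddSubgroup.index_ker, card_ker_Lmap h ha₀] at h1
    have h2 := AddSubgroup.card_mul_index R
    rw [← h1] at h2
    have hpos : 0 < Nat.card R := Nat.card_pos
    have : Nat.card R * R.index = Nat.card R * 2 := by rw [h2, mul_comm]
    exact Nat.eq_of_mul_eq_mul_left hpos this
  obtain ⟨a, hxor⟩ := AddSubgroup.index_eq_two_iff.1 hidx
  have ha : a ∉ R := by
    rcases hxor 0 with ⟨h1, h2⟩ | ⟨h1, h2⟩
    · exact absurd R.zero_mem h2
    · rwa [zero_add] at h2
  have hb : θ m a₀ * a₀ ∉ R := by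
    rintro ⟨x, hx⟩
    exact not_mem_range_Lmap h ha₀ x hx
  have hba : θ m a₀ * a₀ + a ∈ R := by
    rcases hxor (θ m a₀ * a₀) with ⟨h1, h2⟩ | ⟨h1, h2⟩
    · exact h1
    · exact absurd h1 hb
  by_cases hd : d ∈ R
  · left
    obtain ⟨x, hx⟩ := hd
    exact ⟨x, hx⟩
  · right
    have hda : d + a ∈ R := by
      rcases hxor d with ⟨h1, h2⟩ | ⟨h1, h2⟩
      · exact h1
      · exact absurd h1 hd
    have : d + θ m a₀ * a₀ = (d + a) + (θ m a₀ * a₀ + a) := by
      have : a + a = 0 := h.add_self a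
      calc d + θ m a₀ * a₀ = d + θ m a₀ * a₀ + (a + a) := by rw [this, add_zero]
        _ = (d + a) + (θ m a₀ * a₀ + a) := by ring
    obtain ⟨x, hx⟩ : d + θ m a₀ * a₀ ∈ R := by
      rw [this]
      exact R.add_mem hda hba
    exact ⟨x, hx⟩

theorem conj_tt_tt (x' a c : F) :
    tt h x' 0 * tt h a c * (tt h x' 0)⁻¹ = tt h a (c + Lmap h a x') := by
  rw [conj_tt_eq, t0_eq_tt, tt_mul, add_zero, mul_zero, add_zero]

theorem ncard_UU_tt_eq (hm : 1 ≤ m) (hF : Fintype.card F = 2 ^ (2 * m + 1)) {a₀ : F}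
    (ha₀ : a₀ ≠ 0) (c c₀ : F) : (UU (tt h a₀ c)).ncard = (UU (tt h a₀ c₀)).ncard := by
  rcases range_Lmap_cover h ha₀ (c + c₀) with ⟨x', hx'⟩ | ⟨x', hx'⟩
  · have e : tt h x' 0 * tt h a₀ c₀ * (tt h x' 0)⁻¹ = tt h a₀ c := by
      rw [conj_tt_tt, hx']
      congr 1
      rw [add_comm c c₀, ← add_assoc, h.add_self, zero_add]
    rw [← e, ncard_UU_conj h hm hF]
  · have e : tt h x' 0 * (tt h a₀ c₀)⁻¹ * (tt h x' 0)⁻¹ = tt h a₀ c := by
      rw [tt_inv, conj_tt_tt, hx']
      congr 1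
      have h1 : c₀ + c₀ = 0 := h.add_self c₀
      have h2 : θ m a₀ * a₀ + θ m a₀ * a₀ = 0 := h.add_self _
      calc c₀ + θ m a₀ * a₀ + (c + c₀ + θ m a₀ * a₀)
          = c + (c₀ + c₀) + (θ m a₀ * a₀ + θ m a₀ * a₀) := by ring
        _ = c := by rw [h1, h2, add_zero, add_zero]
    rw [← e, ncard_UU_conj h hm hF, UU_inv]

/-- the number of tori normalised by an element of order four fixing `pinf` -/
theorem ncard_UU_tt (hm : 1 ≤ m) (hF : Fintype.card F = 2 ^ (2 * m + 1)) {a₀ : F}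
    (ha₀ : a₀ ≠ 0) (c₀ : F) : (UU (tt h a₀ c₀)).ncard = (2 ^ (2 * m + 1)) ^ 2 := by
  classical
  have : Fintype (Sz F m) := Fintype.ofFinite _
  set b : F := θ m a₀ * a₀ with hb
  have hθ : θ m a₀ ≠ 0 := fun h0 => ha₀ (θ_eq_zero.1 h0)
  have hb0 : b ≠ 0 := mul_ne_zero hθ ha₀
  set i : Sz F m := t0 h b with hi
  have hiI : i ∈ (Invol : Set (Sz F m)) := t0_mem_Invol h hb0
  set ZS : Finset (Sz F m) := Finset.univ.filter (fun z => z * z = i) with hZS
  set FS : Finset (Sz F m) := Finset.univ.filter (fun g : Sz F m => FP g) with hFS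
  have key := Finset.sum_card_bipartiteAbove_eq_sum_card_bipartiteBelow
    (fun (z u : Sz F m) => z ∈ NT u) (s := ZS) (t := FS)
  have hl : ∀ z ∈ ZS, (Finset.bipartiteAbove (fun (z u : Sz F m) => z ∈ NT u) FS z).card =
      (UU (tt h a₀ c₀)).ncard := by
    intro z hz
    simp only [hZS, Finset.mem_filter, Finset.mem_univ, true_and] at hz
    obtain ⟨c, rfl⟩ := sqrt_t0 h hm hF hb0 rfl hz
    rw [← ncard_UU_tt_eq h hm hF ha₀ c c₀, ← Set.ncard_coe_finset]
    congr 1
    ext u
    simp only [Finset.bipartiteAbove, hFS, Finset.coe_filter, Finset.mem_filter, Finset.mem_univ,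
      true_and, Set.mem_ofPred_eq]
    rfl
  have hr : ∀ u ∈ FS, (Finset.bipartiteBelow (fun (z u : Sz F m) => z ∈ NT u) ZS u).card =
      if i ∈ NT u then 2 else 0 := by
    intro u hu
    simp only [hFS, Finset.mem_filter, Finset.mem_univ, true_and] at hu
    by_cases hiu : i ∈ NT u
    · rw [if_pos hiu, ← (hyp_of_fp h hm hF hu).ncard_sqrt hiu hiI.1 hiI.2, ← Set.ncard_coe_finset]
      congr 1
      ext z
      simp only [Finset.bipartiteBelow, hZS, Finset.coe_filter, Finset.mem_filter,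
        Finset.mem_univ, true_and, Set.mem_ofPred_eq]
      exact and_comm
    · rw [if_neg hiu, Finset.card_eq_zero]
      unfold Finset.bipartiteBelow
      rw [Finset.filter_eq_empty_iff]
      intro z hz hzu
      simp only [hZS, Finset.mem_filter, Finset.mem_univ, true_and] at hz
      apply hiu
      rw [← hz]
      exact (NT u).mul_mem hzu hzu
  rw [Finset.sum_congr rfl hl, Finset.sum_congr rfl hr, Finset.sum_const, smul_eq_mul,
    ← Finset.sum_filter, Finset.sum_const, smul_eq_mul] at key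
  -- the number of square roots of `i`
  have hZc : ZS.card = 2 ^ (2 * m + 1) := by
    rw [← hF, ← Finset.card_univ (α := F)]
    symm
    apply Finset.card_bij (fun c _ => tt h a₀ c)
    · intro c _
      simp only [hZS, Finset.mem_filter, Finset.mem_univ, true_and]
      rw [tt_sq]
    · intro c _ c' _ e
      exact (tt_injective h e).2
    · intro z hz
      simp only [hZS, Finset.mem_filter, Finset.mem_univ, true_and] at hz
      obtain ⟨c, rfl⟩ := sqrt_t0 h hm hF hb0 rfl hz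
      exact ⟨c, Finset.mem_univ _, rfl⟩
  have hUi : (FS.filter (fun u => i ∈ NT u)).card = (UU i).ncard := by
    rw [← Set.ncard_coe_finset]
    congr 1
    ext u
    simp only [hFS, Finset.coe_filter, Finset.mem_filter, Finset.mem_univ, true_and,
      Set.mem_ofPred_eq]
    rfl
  rw [hZc, hUi] at key
  have h2 := two_mul_ncard_UU_invol h hm hF hiI
  have hq : 0 < 2 ^ (2 * m + 1) := by positivity
  have : 2 ^ (2 * m + 1) * (UU (tt h a₀ c₀)).ncard = 2 ^ (2 * m + 1) * (2 ^ (2 * m + 1)) ^ 2 := by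
    rw [key, mul_comm, h2]
    ring
  exact Nat.eq_of_mul_eq_mul_left hq this

end Cfsg.Agent.Lib.H2.Sz
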