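import Mathlib
import Cfsg.Prelude.Def_LieExceptional
import Cfsg.Agent.Lib.H2.SzSol8

set_option autoImplicit false
set_option linter.unusedSimpArgs false
set_option linter.unusedSectionVars false
set_option linter.unusedVariables false

/-!
# Suzuki groups, solubilizers IX: the part of a solubilizer coming from torus normalisers
-/

namespace Cfsg.Agent.Lib.H2.Sz

open Matrix Cfsg Projectivization MulAction

variable {F : Type*} [Field F] {m : ℕ} [Fintype F]

/-- elements moving `pinf` that normalise a torus also normalised by `x` -/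
def RR (x : Sz F m) : Set (Sz F m) :=
  {y | y • (pinf : Projectivization F (Fin 4 → F)) ≠ pinf ∧ ∃ u, FP u ∧ x ∈ NT u ∧ y ∈ NT u}

variable (h : Fld F m)

include h

theorem t0_smul_pinf (b : F) : t0 h b • (pinf : Projectivization F (Fin 4 → F)) = pinf := by
  rw [t0_eq_tt, tt_smul_pinf]

theorem t0_ne_one {b : F} (hb : b ≠ 0) : t0 h b ≠ 1 := fun h0 => hb ((t0_eq_one_iff h).1 h0)

/-- an element commuting with a central involution fixes `pinf` -/
theorem fix_of_commute_t0 {b : F} (hb : b ≠ 0) {g : Sz F m} (hg : g * t0 h b = t0 h b * g) :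
    g • (pinf : Projectivization F (Fin 4 → F)) = pinf := by
  apply eq_pinf_of_t0_smul h hb (smul_mem_ovoid h g pinf_mem)
  rw [← mul_smul, ← hg, mul_smul, t0_smul_pinf]

theorem fix_of_sq_eq_t0 {b : F} (hb : b ≠ 0) {g : Sz F m} (hg : g * g = t0 h b) :
    g • (pinf : Projectivization F (Fin 4 → F)) = pinf := by
  apply fix_of_commute_t0 h hb
  rw [← hg, mul_assoc]

theorem pow_four_of_not_fp (hm : 1 ≤ m) (hF : Fintype.card F = 2 ^ (2 * m + 1)) {u y : Sz F m}
    (hu : FP u) (hy : y ∈ NT u) (hnf : ¬ FP y) : y ^ 4 = 1 := by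
  rcases mem_NT_cases h hm hF hu hy with h1 | h1
  · by_cases hy1 : y = 1
    · rw [hy1, one_pow]
    · exact absurd (fp_of_mem_cent h hm hF hu h1 hy1) hnf
  · exact h1

theorem RR_fp (hm : 1 ≤ m) (hF : Fintype.card F = 2 ^ (2 * m + 1)) (x : Sz F m) :
    {y | y ∈ RR x ∧ FP y} = UU x := by
  ext y
  constructor
  · rintro ⟨⟨_, u, hu, hxu, hyu⟩, hyf⟩
    exact ⟨hyf, (mem_NT_of_fp h hm hF hu hyu hyf).2 hxu⟩
  · rintro ⟨hyf, hxy⟩
    exact ⟨⟨hyf pinf pinf_mem, y, hyf, hxy, cent_le_NT h y (self_mem_cent h y)⟩, hyf⟩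

theorem RR_invol (hm : 1 ≤ m) (hF : Fintype.card F = 2 ^ (2 * m + 1)) {x : Sz F m} {b : F}
    (hb : b ≠ 0) (hxi : ∀ u, x ∈ NT u → t0 h b ∈ NT u) :
    {y | y ∈ RR x ∧ y * y = 1} = (fun u => u * t0 h b) '' UU x := by
  ext y
  constructor
  · rintro ⟨⟨hyp, u, hu, hxu, hyu⟩, hy2⟩
    have hy1 : y ≠ 1 := by
      intro h0
      apply hyp
      rw [h0, one_smul]
    have hH := hyp_of_fp h hm hF hu
    have hmem := hH.invol_mul_mem hyu hy2 hy1 (hxi u hxu) (t0_mul_self h b) (t0_ne_one h hb)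
    have hne : y * t0 h b ≠ 1 := by
      intro h0
      apply hyp
      have : y = t0 h b := by
        rw [← t0_inv h b]
        exact eq_inv_of_mul_eq_one_left h0
      rw [this, t0_smul_pinf]
    refine ⟨y * t0 h b, ⟨fp_of_mem_cent h hm hF hu hmem hne, ?_⟩, ?_⟩
    · rw [NT_eq_of_mem h hm hF hu hmem hne]
      exact hxu
    · show y * t0 h b * t0 h b = y
      rw [mul_assoc, t0_mul_self, mul_one]
  · rintro ⟨u, ⟨hu, hxu⟩, rfl⟩
    have hH := hyp_of_fp h hm hF hu
    obtain ⟨e1, e2, e3⟩ := hH.mul_invol (hxi u hxu) (t0_mul_self h b) (t0_ne_one h hb)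
      (self_mem_cent h u)
    refine ⟨⟨?_, u, hu, hxu, e3⟩, e1⟩
    rw [mul_smul, t0_smul_pinf]
    exact hu pinf pinf_mem

theorem ncard_RR_invol (hm : 1 ≤ m) (hF : Fintype.card F = 2 ^ (2 * m + 1)) {x : Sz F m} {b : F}
    (hb : b ≠ 0) (hxi : ∀ u, x ∈ NT u → t0 h b ∈ NT u) :
    {y | y ∈ RR x ∧ y * y = 1}.ncard = (UU x).ncard := by
  rw [RR_invol h hm hF hb hxi]
  exact Set.ncard_image_of_injective _ (mul_left_injective _)

theorem RR_four (hm : 1 ≤ m) (hF : Fintype.card F = 2 ^ (2 * m + 1)) {x : Sz F m} {b : F}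
    (hb : b ≠ 0) (hxi : ∀ u, x ∈ NT u → t0 h b ∈ NT u) :
    {y | y ∈ RR x ∧ ¬ FP y ∧ y * y ≠ 1}.ncard = 2 * (UU x).ncard := by
  classical
  have : Fintype (Sz F m) := Fintype.ofFinite _
  set i : Sz F m := t0 h b with hi
  have hi2 : i * i = 1 := t0_mul_self h b
  have hi1 : i ≠ 1 := t0_ne_one h hb
  set S4 : Finset (Sz F m) := Finset.univ.filter (fun y => y ∈ RR x ∧ ¬ FP y ∧ y * y ≠ 1) with hS4
  set US : Finset (Sz F m) := Finset.univ.filter (fun u => u ∈ UU x) with hUS
  -- the map `y ↦ y² i`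
  have hΨ : ∀ y ∈ S4, (y * y) * i ∈ US ∧ ∀ u, FP u → x ∈ NT u → y ∈ NT u →
      (y * y) * i ∈ Subgroup.centralizer ({u} : Set (Sz F m)) := by
    intro y hy
    simp only [hS4, Finset.mem_filter, Finset.mem_univ, true_and] at hy
    obtain ⟨⟨hyp, u, hu, hxu, hyu⟩, hnf, hy2⟩ := hy
    have key : ∀ u, FP u → x ∈ NT u → y ∈ NT u →
        (y * y) * i ∈ Subgroup.centralizer ({u} : Set (Sz F m)) := by
      intro u hu hxu hyu
      have hH := hyp_of_fp h hm hF hu
      have h4 := pow_four_of_not_fp h hm hF hu hyu hnf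
      have hyy2 : (y * y) * (y * y) = 1 := by rw [← h4, pow_four']
      exact hH.invol_mul_mem ((NT u).mul_mem hyu hyu) hyy2 hy2 (hxi u hxu) hi2 hi1
    refine ⟨?_, key⟩
    have hmem := key u hu hxu hyu
    have hne : (y * y) * i ≠ 1 := by
      intro h0
      apply hyp
      have : y * y = i := by
        rw [hi, ← t0_inv h b]
        exact eq_inv_of_mul_eq_one_left h0
      exact fix_of_sq_eq_t0 h hb this
    simp only [hUS, Finset.mem_filter, Finset.mem_univ, true_and]
    refine ⟨fp_of_mem_cent h hm hF hu hmem hne, ?_⟩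
    rw [NT_eq_of_mem h hm hF hu hmem hne]
    exact hxu
  have hcard := Finset.card_eq_sum_card_fiberwise (f := fun y => (y * y) * i) (s := S4) (t := US)
    (fun y hy => (hΨ y hy).1)
  have hfib : ∀ u ∈ US, (S4.filter (fun y => (y * y) * i = u)).card = 2 := by
    intro u hu
    simp only [hUS, Finset.mem_filter, Finset.mem_univ, true_and] at hu
    obtain ⟨huf, hxu⟩ := hu
    have hH := hyp_of_fp h hm hF huf
    obtain ⟨e1, e2, e3⟩ := hH.mul_invol (hxi u hxu) hi2 hi1 (self_mem_cent h u)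
    rw [← hH.ncard_sqrt e3 e1 e2, ← Set.ncard_coe_finset]
    congr 1
    ext y
    simp only [Finset.coe_filter, Set.mem_ofPred_eq]
    constructor
    · rintro ⟨hy, hyu⟩
      have hyS := hy
      simp only [hS4, Finset.mem_filter, Finset.mem_univ, true_and] at hy
      obtain ⟨⟨hyp, u', hu', hxu', hyu'⟩, hnf, hy2⟩ := hy
      have hmem := (hΨ y hyS).2 u' hu' hxu' hyu'
      rw [hyu] at hmem
      have hNT : NT u = NT u' := NT_eq_of_mem h hm hF hu' hmem (fp_ne_one h huf)
      refine ⟨?_, ?_⟩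
      · show y ∈ NT u
        rw [hNT]
        exact hyu'
      · rw [← hyu, mul_assoc, hi2, mul_one]
    · rintro ⟨hyN, hyy⟩
      have hyN : y ∈ NT u := hyN
      have hyp : y • (pinf : Projectivization F (Fin 4 → F)) ≠ pinf := by
        intro h0
        apply huf pinf pinf_mem
        have h1 : (y * y) • (pinf : Projectivization F (Fin 4 → F)) = pinf := by
          rw [mul_smul, h0, h0]
        rw [hyy, mul_smul, hi, t0_smul_pinf] at h1
        exact h1
      have h4 : y ^ 4 = 1 := by rw [pow_four', hyy, e1]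
      refine ⟨?_, ?_⟩
      · simp only [hS4, Finset.mem_filter, Finset.mem_univ, true_and]
        refine ⟨⟨hyp, u, huf, hxu, hyN⟩, not_fp_of_pow_four h hm hF h4, ?_⟩
        rw [hyy]
        exact e2
      · rw [hyy, mul_assoc, hi2, mul_one]
  rw [Finset.sum_congr rfl hfib, Finset.sum_const, smul_eq_mul] at hcard
  have hS : {y | y ∈ RR x ∧ ¬ FP y ∧ y * y ≠ 1} = (S4 : Set (Sz F m)) := by
    ext y
    simp [hS4]
  have hU : UU x = (US : Set (Sz F m)) := by
    ext u
    simp [hUS]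
  rw [hS, hU, Set.ncard_coe_finset, Set.ncard_coe_finset, hcard, mul_comm]

end Cfsg.Agent.Lib.H2.Sz
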