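import Mathlib
import Cfsg.Prelude.Def_LieExceptional
import Cfsg.Agent.Lib.H2.SzSol9

set_option autoImplicit false
set_option linter.unusedSimpArgs false
set_option linter.unusedSectionVars false
set_option linter.unusedVariables false

/-!
# Suzuki groups, solubilizers X: elements of order four
-/

namespace Cfsg.Agent.Lib.H2.Sz

open Matrix Cfsg Projectivization MulAction

variable {F : Type*} [Field F] {m : ℕ} [Fintype F] (h : Fld F m)

include h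

theorem tt_fix {a c : F} (hac : ¬ (a = 0 ∧ c = 0)) {p : Projectivization F (Fin 4 → F)}
    (hp : p ∈ suzukiOvoid F m) (hfix : tt h a c • p = p) : p = pinf := by
  apply eq_pinf_of_T_smul h hac hp
  rw [← coe_tt h a c]
  exact hfix

/-- the torus part of a solubilizer has four times as many elements as there are tori -/
theorem ncard_RR (hm : 1 ≤ m) (hF : Fintype.card F = 2 ^ (2 * m + 1)) {x : Sz F m} {b : F}
    (hb : b ≠ 0) (hxi : ∀ u, x ∈ NT u → t0 h b ∈ NT u) :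
    (RR x).ncard = 4 * (UU x).ncard := by
  have e : RR x = {y | y ∈ RR x ∧ FP y} ∪
      ({y | y ∈ RR x ∧ y * y = 1} ∪ {y | y ∈ RR x ∧ ¬ FP y ∧ y * y ≠ 1}) := by
    ext y
    constructor
    · intro hy
      by_cases hf : FP y
      · exact Or.inl ⟨hy, hf⟩
      · by_cases h2 : y * y = 1
        · exact Or.inr (Or.inl ⟨hy, h2⟩)
        · exact Or.inr (Or.inr ⟨hy, hf, h2⟩)
    · rintro (⟨hy, _⟩ | ⟨hy, _⟩ | ⟨hy, _⟩) <;> exact hy
  have d1 : Disjoint {y | y ∈ RR x ∧ y * y = 1} {y | y ∈ RR x ∧ ¬ FP y ∧ y * y ≠ 1} := by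
    rw [Set.disjoint_left]
    rintro y ⟨_, h2⟩ ⟨_, _, h3⟩
    exact h3 h2
  have d2 : Disjoint {y | y ∈ RR x ∧ FP y}
      ({y | y ∈ RR x ∧ y * y = 1} ∪ {y | y ∈ RR x ∧ ¬ FP y ∧ y * y ≠ 1}) := by
    rw [Set.disjoint_left]
    rintro y ⟨_, hf⟩ (⟨_, h2⟩ | ⟨_, hnf, _⟩)
    · exact not_fp_of_sq h hF h2 hf
    · exact hnf hf
  rw [e, Set.ncard_union_eq d2 (Set.toFinite _) (Set.toFinite _),
    Set.ncard_union_eq d1 (Set.toFinite _) (Set.toFinite _), RR_fp h hm hF,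
    ncard_RR_invol h hm hF hb hxi, RR_four h hm hF hb hxi]
  ring

theorem Sol_tt (hm : 1 ≤ m) (hF : Fintype.card F = 2 ^ (2 * m + 1)) (hp : (2 * m + 1).Prime)
    {a₀ : F} (ha₀ : a₀ ≠ 0) (c₀ : F) :
    Sol (tt h a₀ c₀) = {y : Sz F m | y • (pinf : Projectivization F (Fin 4 → F)) = pinf} ∪
      RR (tt h a₀ c₀) := by
  have hac : ¬ (a₀ = 0 ∧ c₀ = 0) := fun h0 => ha₀ h0.1
  have hθ : θ m a₀ ≠ 0 := fun h0 => ha₀ (θ_eq_zero.1 h0)
  ext y
  rw [mem_Sol_iff h hm hF hp]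
  constructor
  · rintro (⟨p, hpΩ, hxp, hyp⟩ | ⟨a, ha, b, hb, hab, hxs, _⟩ | ⟨u, hu, hxu, hyu⟩)
    · rw [tt_fix h hac hpΩ hxp] at hyp
      exact Or.inl hyp
    · exfalso
      rcases hxs with ⟨h1, h2⟩ | ⟨h1, h2⟩
      · exact hab ((tt_fix h hac ha h1).trans (tt_fix h hac hb h2).symm)
      · have := sq_eq_one_of_swap' h hm hF ha hb hab h1 h2
        rw [tt_sq, t0_eq_one_iff] at this
        exact mul_ne_zero hθ ha₀ this
    · by_cases hy : y • (pinf : Projectivization F (Fin 4 → F)) = pinf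
      · exact Or.inl hy
      · exact Or.inr ⟨hy, u, hu, hxu, hyu⟩
  · rintro (hy | ⟨_, u, hu, hxu, hyu⟩)
    · exact Or.inl ⟨pinf, pinf_mem, tt_smul_pinf h a₀ c₀, hy⟩
    · exact Or.inr (Or.inr ⟨u, hu, hxu, hyu⟩)

theorem ncard_Sol_tt (hm : 1 ≤ m) (hF : Fintype.card F = 2 ^ (2 * m + 1))
    (hp : (2 * m + 1).Prime) {a₀ : F} (ha₀ : a₀ ≠ 0) (c₀ : F) :
    (Sol (tt h a₀ c₀)).ncard = (2 ^ (2 * m + 1)) ^ 2 * (2 ^ (2 * m + 1) + 3) := by
  have hθ : θ m a₀ ≠ 0 := fun h0 => ha₀ (θ_eq_zero.1 h0)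
  have hb : θ m a₀ * a₀ ≠ 0 := mul_ne_zero hθ ha₀
  have hxi : ∀ u, tt h a₀ c₀ ∈ NT u → t0 h (θ m a₀ * a₀) ∈ NT u := by
    intro u hu
    rw [← tt_sq h a₀ c₀]
    exact (NT u).mul_mem hu hu
  rw [Sol_tt h hm hF hp ha₀]
  have hd : Disjoint {y : Sz F m | y • (pinf : Projectivization F (Fin 4 → F)) = pinf}
      (RR (tt h a₀ c₀)) := by
    rw [Set.disjoint_left]
    rintro y hy ⟨hy', _⟩
    exact hy' hy
  rw [Set.ncard_union_eq hd (Set.toFinite _) (Set.toFinite _), ncard_fix h hm hF pinf_mem,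
    ncard_RR h hm hF hb hxi, ncard_UU_tt h hm hF ha₀]
  have h8 : 1 ≤ 2 ^ (2 * m + 1) := Nat.one_le_two_pow
  obtain ⟨t, ht⟩ : ∃ t, 2 ^ (2 * m + 1) = t + 1 := ⟨2 ^ (2 * m + 1) - 1, by omega⟩
  rw [ht]
  simp only [Nat.add_sub_cancel]
  ring

/-- a `2`-element fixing `pinf` is unipotent -/
theorem eq_tt_of_pow_four (hm : 1 ≤ m) (hF : Fintype.card F = 2 ^ (2 * m + 1)) {x : Sz F m}
    (hx : x • (pinf : Projectivization F (Fin 4 → F)) = pinf) (h4 : x ^ 4 = 1) :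
    ∃ a c : F, x = tt h a c := by
  obtain ⟨a, c, k, e⟩ := exists_tt_dd h hm hF hx
  have hk : dhom h hm hF ⟨x, hx⟩ = k := dpart_eq h hm hF e
  have h4' : (⟨x, hx⟩ : stabilizer (Sz F m) (pinf : Projectivization F (Fin 4 → F))) ^ 4 = 1 :=
    Subtype.ext (by rw [Subgroup.coe_pow]; exact h4)
  have hk4 : k ^ 4 = 1 := by rw [← hk, ← map_pow, h4', map_one]
  have hk1 : k = 1 := by
    apply Units.ext
    apply eq_one_of_pow_four h
    have := congrArg Units.val hk4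
    simpa using this
  rw [hk1, dd_one, mul_one] at e
  exact ⟨a, c, e⟩

/-- the solubilizer of an element of order four -/
theorem ncard_Sol_four (hm : 1 ≤ m) (hF : Fintype.card F = 2 ^ (2 * m + 1))
    (hp : (2 * m + 1).Prime) {x : Sz F m} (h4 : x ^ 4 = 1) (h2 : x * x ≠ 1) :
    (Sol x).ncard = (2 ^ (2 * m + 1)) ^ 2 * (2 ^ (2 * m + 1) + 3) := by
  obtain ⟨p, hpΩ, hxp⟩ := (not_fp_iff h).1 (not_fp_of_pow_four h hm hF h4)
  obtain ⟨s, hs⟩ := exists_smul_eq_pinf h hpΩ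
  have hs' : s⁻¹ • (pinf : Projectivization F (Fin 4 → F)) = p := by rw [inv_smul_eq_iff, hs]
  have hfix : (s * x * s⁻¹) • (pinf : Projectivization F (Fin 4 → F)) = pinf := by
    rw [mul_smul, mul_smul, hs', hxp, hs]
  have h4' : (s * x * s⁻¹) ^ 4 = 1 := by
    rw [conj_pow, h4]; group
  obtain ⟨a, c, e⟩ := eq_tt_of_pow_four h hm hF hfix h4'
  have ha : a ≠ 0 := by
    intro h0
    apply h2
    have e2 : (s * x * s⁻¹) * (s * x * s⁻¹) = 1 := by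
      rw [e, tt_sq, h0, mul_zero, t0_zero]
    have : x * x = s⁻¹ * ((s * x * s⁻¹) * (s * x * s⁻¹)) * s := by group
    rw [this, e2]; group
  rw [← ncard_Sol_conj s x, e]
  exact ncard_Sol_tt h hm hF hp ha c

end Cfsg.Agent.Lib.H2.Sz
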