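import Mathlib
import Cfsg.Prelude.Def_LieExceptional
import Cfsg.Agent.Lib.H2.SzSol10

set_option autoImplicit false
set_option linter.unusedSimpArgs false
set_option linter.unusedSectionVars false
set_option linter.unusedVariables false

/-!
# Suzuki groups, solubilizers XI: involutions
-/

namespace Cfsg.Agent.Lib.H2.Sz

open Matrix Cfsg Projectivization MulAction

variable {F : Type*} [Field F] {m : ℕ} [Fintype F]

/-- the non-identity elements fixing a pair of points swapped by `t0 b` -/
def Dp (m : ℕ) (b : F) : Set (Sz F m) :=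
  {y | y ≠ 1 ∧ ∃ u v : F, y • pt m u v = pt m u v ∧ y • pt m u (v + b) = pt m u (v + b)}

variable (h : Fld F m)

include h

theorem t0_smul_pt (b u v : F) : t0 h b • pt m u v = pt m u (v + b) := by
  rw [t0_eq_tt]
  have : tt h 0 b • pt m u v = T m 0 b • pt m u v := by rw [← coe_tt h 0 b]; rfl
  rw [this, T_smul_pt h, add_zero, θ_zero, zero_mul, add_zero]

theorem t0_fix {b : F} (hb : b ≠ 0) {p : Projectivization F (Fin 4 → F)}
    (hp : p ∈ suzukiOvoid F m) (hfix : t0 h b • p = p) : p = pinf :=
  eq_pinf_of_t0_smul h hb hp hfix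

theorem fix_three' (hm : 1 ≤ m) (hF : Fintype.card F = 2 ^ (2 * m + 1)) {y : Sz F m} (hy : y ≠ 1)
    {a b c : Projectivization F (Fin 4 → F)} (ha : a ∈ suzukiOvoid F m)
    (hb : b ∈ suzukiOvoid F m) (hc : c ∈ suzukiOvoid F m) (hab : a ≠ b) (hya : y • a = a)
    (hyb : y • b = b) (hyc : y • c = c) : c = a ∨ c = b := by
  by_contra hcon
  push Not at hcon
  apply hy
  apply Subtype.ext
  exact eq_one_of_fix_three h hm hF y.2 ha hb hc hab (Ne.symm hcon.2) (Ne.symm hcon.1) hya hyb hyc

theorem add_add_cancel' (v b : F) : v + b + b = v := by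
  rw [add_assoc, h.add_self, add_zero]

theorem pt_add_ne {b : F} (hb : b ≠ 0) (u v : F) : pt m u v ≠ pt m u (v + b) := by
  intro e
  have := (pt_injective e).2
  apply hb
  have h1 : v + b = v + 0 := by rw [add_zero]; exact this.symm
  exact add_left_cancel h1

/-- the decomposition of the solubilizer of a central involution -/
theorem Sol_t0 (hm : 1 ≤ m) (hF : Fintype.card F = 2 ^ (2 * m + 1)) (hp : (2 * m + 1).Prime)
    {b : F} (hb : b ≠ 0) :
    Sol (t0 h b) = ({y : Sz F m | y • (pinf : Projectivization F (Fin 4 → F)) = pinf} ∪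
      {y : Sz F m | y • (pinf : Projectivization F (Fin 4 → F)) ≠ pinf ∧ y * y = 1}) ∪
      (Dp m b ∪ {y | y ∈ RR (t0 h b) ∧ y * y ≠ 1}) := by
  set x := t0 h b with hx
  have hx2 : x * x = 1 := t0_mul_self h b
  have hxinv : x⁻¹ = x := t0_inv h b
  have hxp : x • (pinf : Projectivization F (Fin 4 → F)) = pinf := t0_smul_pinf h b
  ext y
  rw [mem_Sol_iff h hm hF hp]
  constructor
  · rintro (⟨p, hpΩ, hxp', hyp⟩ | ⟨a, ha, b', hb', hab, hxs, hys⟩ | ⟨u, hu, hxu, hyu⟩)
    · rw [t0_fix h hb hpΩ hxp'] at hyp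
      exact Or.inl (Or.inl hyp)
    · rcases hxs with ⟨h1, h2⟩ | ⟨h1, h2⟩
      · exact absurd ((t0_fix h hb ha h1).trans (t0_fix h hb hb' h2).symm) hab
      · -- `a` is a finite point
        have ha' : a ≠ pinf := by
          intro h0
          rw [h0, hxp] at h1
          exact hab (h0.trans h1)
        rcases (mem_ovoid_iff a).1 ha with h0 | ⟨u, v, rfl⟩
        · exact absurd h0 ha'
        · rw [hx, t0_smul_pt] at h1
          subst h1
          rcases hys with ⟨h3, h4⟩ | ⟨h3, h4⟩
          · by_cases hy1 : y = 1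
            · left; left
              show y • (pinf : Projectivization F (Fin 4 → F)) = pinf
              rw [hy1, one_smul]
            · right; left
              exact ⟨hy1, u, v, h3, h4⟩
          · have hy2 := sq_eq_one_of_swap' h hm hF ha hb' hab h3 h4
            by_cases hyp : y • (pinf : Projectivization F (Fin 4 → F)) = pinf
            · exact Or.inl (Or.inl hyp)
            · exact Or.inl (Or.inr ⟨hyp, hy2⟩)
    · by_cases hyp : y • (pinf : Projectivization F (Fin 4 → F)) = pinf
      · exact Or.inl (Or.inl hyp)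
      · by_cases hy2 : y * y = 1
        · exact Or.inl (Or.inr ⟨hyp, hy2⟩)
        · exact Or.inr (Or.inr ⟨⟨hyp, u, hu, hxu, hyu⟩, hy2⟩)
  · rintro ((hy | ⟨hyp, hy2⟩) | (⟨hy1, u, v, h3, h4⟩ | ⟨⟨_, u, hu, hxu, hyu⟩, _⟩))
    · exact Or.inl ⟨pinf, pinf_mem, hxp, hy⟩
    · -- two involutions
      have hyinv : y⁻¹ = y := inv_eq_of_mul_eq_one_right hy2
      by_cases hw : FP (x * y)
      · right; right
        have hwinv : (x * y)⁻¹ = y * x := by rw [_root_.mul_inv_rev, hyinv, hxinv]
        refine ⟨x * y, hw, ?_, ?_⟩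
        · rw [mem_NT_iff h hm hF hw]
          have : x * (x * y) * x⁻¹ = (x * y)⁻¹ := by
            rw [hwinv, hxinv, ← mul_assoc, hx2, one_mul]
          rw [this]
          exact Subgroup.inv_mem _ (self_mem_cent h _)
        · rw [mem_NT_iff h hm hF hw]
          have : y * (x * y) * y⁻¹ = (x * y)⁻¹ := by
            rw [hwinv, hyinv, mul_assoc, mul_assoc, hy2, mul_one]
          rw [this]
          exact Subgroup.inv_mem _ (self_mem_cent h _)
      · right; left
        obtain ⟨a, ha, hwa⟩ := (not_fp_iff h).1 hw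
        rw [mul_smul] at hwa
        have hya : y • a = x • a := by
          have : y • a = x⁻¹ • a := by rw [eq_inv_smul_iff]; exact hwa
          rw [this, hxinv]
        have ha' : a ≠ pinf := by
          intro h0
          rw [h0, hxp] at hya
          exact hyp hya
        have hxa : x • a ≠ a := fun h0 => ha' (t0_fix h hb ha h0)
        refine ⟨a, ha, x • a, smul_mem_ovoid h x ha, Ne.symm hxa, Or.inr ⟨rfl, ?_⟩,
          Or.inr ⟨hya, ?_⟩⟩
        · rw [← mul_smul, hx2, one_smul]
        · rw [← hya, ← mul_smul, hy2, one_smul]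
    · right; left
      refine ⟨pt m u v, pt_mem _ _, pt m u (v + b), pt_mem _ _, pt_add_ne h hb u v,
        Or.inr ⟨?_, ?_⟩, Or.inl ⟨h3, h4⟩⟩
      · rw [hx, t0_smul_pt]
      · rw [hx, t0_smul_pt, add_add_cancel' h]
    · exact Or.inr (Or.inr ⟨u, hu, hxu, hyu⟩)

end Cfsg.Agent.Lib.H2.Sz
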