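import Mathlib
import Cfsg.Prelude.Def_LieExceptional
import Cfsg.Agent.Lib.H2.SzSol11

set_option autoImplicit false
set_option linter.unusedSimpArgs false
set_option linter.unusedSectionVars false
set_option linter.unusedVariables false

/-!
# Suzuki groups, solubilizers XII: counting the solubilizer of an involution
-/

namespace Cfsg.Agent.Lib.H2.Sz

open Matrix Cfsg Projectivization MulAction

variable {F : Type*} [Field F] {m : ℕ} [Fintype F] (h : Fld F m)

include h

/-- the elements fixing a pair swapped by `t0 b` -/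
theorem two_mul_ncard_Dp (hm : 1 ≤ m) (hF : Fintype.card F = 2 ^ (2 * m + 1)) {b : F}
    (hb : b ≠ 0) :
    2 * (Dp m b : Set (Sz F m)).ncard = (2 ^ (2 * m + 1)) ^ 2 * (2 ^ (2 * m + 1) - 2) := by
  classical
  have : Fintype (Sz F m) := Fintype.ofFinite _
  set DS : Finset (Sz F m) := Finset.univ.filter (fun y => y ∈ (Dp m b : Set (Sz F m))) with hDS
  let r : F × F → Sz F m → Prop := fun uv y =>
    y • pt m uv.1 uv.2 = pt m uv.1 uv.2 ∧ y • pt m uv.1 (uv.2 + b) = pt m uv.1 (uv.2 + b)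
  have key := Finset.sum_card_bipartiteAbove_eq_sum_card_bipartiteBelow r
    (s := (Finset.univ : Finset (F × F))) (t := DS)
  have hl : ∀ uv ∈ (Finset.univ : Finset (F × F)), (Finset.bipartiteAbove r DS uv).card =
      2 ^ (2 * m + 1) - 2 := by
    rintro ⟨u, v⟩ _
    have h1 := ncard_fix₂ h hm hF (pt_mem u v) (pt_mem u (v + b)) (pt_add_ne h hb u v)
    have h2 : (Finset.bipartiteAbove r DS (u, v) : Set (Sz F m)) =
        {y : Sz F m | y • pt m u v = pt m u v ∧ y • pt m u (v + b) = pt m u (v + b)} \ {1} := by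
      ext y
      constructor
      · intro hy
        rw [Finset.mem_coe, Finset.bipartiteAbove, Finset.mem_filter] at hy
        obtain ⟨hyD, h3, h4⟩ := hy
        rw [hDS, Finset.mem_filter] at hyD
        exact ⟨⟨h3, h4⟩, hyD.2.1⟩
      · rintro ⟨⟨h3, h4⟩, hy1⟩
        rw [Finset.mem_coe, Finset.bipartiteAbove, Finset.mem_filter, hDS, Finset.mem_filter]
        exact ⟨⟨Finset.mem_univ _, hy1, u, v, h3, h4⟩, h3, h4⟩
    rw [← Set.ncard_coe_finset, h2, Set.ncard_sdiff_singleton_of_mem, h1]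
    · rfl
    · exact ⟨one_smul _ _, one_smul _ _⟩
  have hr : ∀ y ∈ DS, (Finset.bipartiteBelow r Finset.univ y).card = 2 := by
    intro y hy
    simp only [hDS, Finset.mem_filter, Finset.mem_univ, true_and] at hy
    obtain ⟨hy1, u₀, v₀, h3, h4⟩ := hy
    have : Finset.bipartiteBelow r Finset.univ y = {(u₀, v₀), (u₀, v₀ + b)} := by
      ext ⟨u, v⟩
      simp only [Finset.bipartiteBelow, Finset.mem_filter, Finset.mem_univ, true_and,
        Finset.mem_insert, Finset.mem_singleton, r, Prod.mk.injEq]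
      constructor
      · rintro ⟨h5, _⟩
        rcases fix_three' h hm hF hy1 (pt_mem u₀ v₀) (pt_mem u₀ (v₀ + b)) (pt_mem u v)
          (pt_add_ne h hb u₀ v₀) h3 h4 h5 with e | e
        · exact Or.inl (pt_injective e)
        · exact Or.inr (pt_injective e)
      · rintro (⟨rfl, rfl⟩ | ⟨rfl, rfl⟩)
        · exact ⟨h3, h4⟩
        · refine ⟨h4, ?_⟩
          rw [add_add_cancel' h]
          exact h3
    rw [this, Finset.card_pair]
    intro e
    have := (Prod.mk.injEq _ _ _ _ ▸ e : u₀ = u₀ ∧ v₀ = v₀ + b).2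
    apply hb
    have h1 : v₀ + b = v₀ + 0 := by rw [add_zero]; exact this.symm
    exact add_left_cancel h1
  rw [Finset.sum_congr rfl hl, Finset.sum_congr rfl hr, Finset.sum_const, Finset.sum_const,
    smul_eq_mul, smul_eq_mul, Finset.card_univ, Fintype.card_prod, hF] at key
  have hD : (Dp m b : Set (Sz F m)) = (DS : Set (Sz F m)) := by
    ext y
    simp [hDS]
  rw [hD, Set.ncard_coe_finset, mul_comm, ← key]
  ring

/-- the involutions fixing `pinf` -/
theorem ncard_invol_fix (hF : Fintype.card F = 2 ^ (2 * m + 1)) (hm : 1 ≤ m) :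
    {y : Sz F m | y • (pinf : Projectivization F (Fin 4 → F)) = pinf ∧ y * y = 1 ∧ y ≠ 1}.ncard =
      2 ^ (2 * m + 1) - 1 := by
  have e : {y : Sz F m | y • (pinf : Projectivization F (Fin 4 → F)) = pinf ∧ y * y = 1 ∧ y ≠ 1} =
      (fun b' => t0 h b') '' ({0}ᶜ : Set F) := by
    ext y
    constructor
    · rintro ⟨hyp, hy2, hy1⟩
      obtain ⟨b', rfl⟩ := invol_of_fix_pinf h hm hF hy2 hyp
      refine ⟨b', ?_, rfl⟩
      intro h0
      apply hy1
      rw [h0, t0_zero]
    · rintro ⟨b', hb', rfl⟩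
      exact ⟨t0_smul_pinf h b', t0_mul_self h b', t0_ne_one h hb'⟩
  rw [e, Set.ncard_image_of_injective _ (t0_injective h), Set.ncard_compl, Set.ncard_singleton,
    Nat.card_eq_fintype_card, hF]

/-- the involutions moving `pinf` -/
theorem ncard_invol_move (hm : 1 ≤ m) (hF : Fintype.card F = 2 ^ (2 * m + 1)) :
    {y : Sz F m | y • (pinf : Projectivization F (Fin 4 → F)) ≠ pinf ∧ y * y = 1}.ncard =
      (2 ^ (2 * m + 1)) ^ 2 * (2 ^ (2 * m + 1) - 1) := by
  have hI := ncard_Invol h hm hF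
  have hf := ncard_invol_fix h hF hm
  have e : (Invol : Set (Sz F m)) =
      {y : Sz F m | y • (pinf : Projectivization F (Fin 4 → F)) ≠ pinf ∧ y * y = 1} ∪
      {y : Sz F m | y • (pinf : Projectivization F (Fin 4 → F)) = pinf ∧ y * y = 1 ∧ y ≠ 1} := by
    ext y
    constructor
    · rintro ⟨hy2, hy1⟩
      by_cases hyp : y • (pinf : Projectivization F (Fin 4 → F)) = pinf
      · exact Or.inr ⟨hyp, hy2, hy1⟩
      · exact Or.inl ⟨hyp, hy2⟩
    · rintro (⟨hyp, hy2⟩ | ⟨_, hy2, hy1⟩)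
      · refine ⟨hy2, ?_⟩
        intro h0
        apply hyp
        rw [h0, one_smul]
      · exact ⟨hy2, hy1⟩
  have hd : Disjoint
      {y : Sz F m | y • (pinf : Projectivization F (Fin 4 → F)) ≠ pinf ∧ y * y = 1}
      {y : Sz F m | y • (pinf : Projectivization F (Fin 4 → F)) = pinf ∧ y * y = 1 ∧ y ≠ 1} := by
    rw [Set.disjoint_left]
    rintro y ⟨h1, _⟩ ⟨h2, _⟩
    exact h1 h2
  rw [e, Set.ncard_union_eq hd (Set.toFinite _) (Set.toFinite _), hf] at hI
  have h8 : 1 ≤ 2 ^ (2 * m + 1) := Nat.one_le_two_pow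
  obtain ⟨t, ht⟩ : ∃ t, 2 ^ (2 * m + 1) = t + 1 := ⟨2 ^ (2 * m + 1) - 1, by omega⟩
  rw [ht] at hI ⊢
  simp only [Nat.add_sub_cancel] at hI ⊢
  have hpos : 0 < (t + 1) ^ 2 := by positivity
  apply Nat.eq_of_mul_eq_mul_right hpos
  nlinarith [hI]

end Cfsg.Agent.Lib.H2.Sz
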