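import Mathlib
import Cfsg.Prelude.Def_LieExceptional
import Cfsg.Agent.Lib.H2.SzSol12

set_option autoImplicit false
set_option linter.unusedSimpArgs false
set_option linter.unusedSectionVars false
set_option linter.unusedVariables false

/-!
# Suzuki groups, solubilizers XIII: the solubilizer of an involution
-/

namespace Cfsg.Agent.Lib.H2.Sz

open Matrix Cfsg Projectivization MulAction

variable {F : Type*} [Field F] {m : ℕ} [Fintype F] (h : Fld F m)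

include h

theorem ncard_RR_ne (hm : 1 ≤ m) (hF : Fintype.card F = 2 ^ (2 * m + 1)) {b : F} (hb : b ≠ 0) :
    {y | y ∈ RR (t0 h b) ∧ y * y ≠ 1}.ncard = 3 * (UU (t0 h b)).ncard := by
  have hxi : ∀ u, t0 h b ∈ NT u → t0 h b ∈ NT u := fun _ hu => hu
  have e : {y | y ∈ RR (t0 h b) ∧ y * y ≠ 1} = {y | y ∈ RR (t0 h b) ∧ FP y} ∪
      {y | y ∈ RR (t0 h b) ∧ ¬ FP y ∧ y * y ≠ 1} := by
    ext y
    constructor
    · rintro ⟨hy, h2⟩
      by_cases hf : FP y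
      · exact Or.inl ⟨hy, hf⟩
      · exact Or.inr ⟨hy, hf, h2⟩
    · rintro (⟨hy, hf⟩ | ⟨hy, _, h2⟩)
      · exact ⟨hy, fun h2 => not_fp_of_sq h hF h2 hf⟩
      · exact ⟨hy, h2⟩
  have d : Disjoint {y | y ∈ RR (t0 h b) ∧ FP y}
      {y | y ∈ RR (t0 h b) ∧ ¬ FP y ∧ y * y ≠ 1} := by
    rw [Set.disjoint_left]
    rintro y ⟨_, hf⟩ ⟨_, hnf, _⟩
    exact hnf hf
  rw [e, Set.ncard_union_eq d (Set.toFinite _) (Set.toFinite _), RR_fp h hm hF,
    RR_four h hm hF hb hxi]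
  ring

theorem ncard_Sol_t0 (hm : 1 ≤ m) (hF : Fintype.card F = 2 ^ (2 * m + 1))
    (hp : (2 * m + 1).Prime) {b : F} (hb : b ≠ 0) :
    (Sol (t0 h b)).ncard = (2 ^ (2 * m + 1)) ^ 2 * (4 * 2 ^ (2 * m + 1) - 3) := by
  rw [Sol_t0 h hm hF hp hb]
  set S1 : Set (Sz F m) := {y | y • (pinf : Projectivization F (Fin 4 → F)) = pinf} with hS1
  set S2 : Set (Sz F m) :=
    {y | y • (pinf : Projectivization F (Fin 4 → F)) ≠ pinf ∧ y * y = 1} with hS2
  set S4 : Set (Sz F m) := {y | y ∈ RR (t0 h b) ∧ y * y ≠ 1} with hS4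
  have d1 : Disjoint S1 S2 := by
    rw [Set.disjoint_left]
    rintro y hy ⟨hy', _⟩
    exact hy' hy
  have d2 : Disjoint (Dp m b : Set (Sz F m)) S4 := by
    rw [Set.disjoint_left]
    rintro y ⟨hy1, u, v, h3, h4⟩ ⟨⟨_, u', hu', _, hyu'⟩, hy2⟩
    have hnf : ¬ FP y := fun hf => hf _ (pt_mem u v) h3
    have hy4 := pow_four_of_not_fp h hm hF hu' hyu' hnf
    have hyy2 : (y * y) * (y * y) = 1 := by rw [← hy4, pow_four']
    have := invol_fix_unique h hm hF hyy2 hy2 (pt_mem u v) (pt_mem u (v + b))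
      (by rw [mul_smul, h3, h3]) (by rw [mul_smul, h4, h4])
    exact pt_add_ne h hb u v this
  have d3 : Disjoint (S1 ∪ S2) ((Dp m b : Set (Sz F m)) ∪ S4) := by
    rw [Set.disjoint_left]
    rintro y (hy | ⟨hyp, hy2⟩) (⟨hy1, u, v, h3, h4⟩ | ⟨⟨hyp', _⟩, hy2'⟩)
    · have hy : y • (pinf : Projectivization F (Fin 4 → F)) = pinf := hy
      rcases fix_three' h hm hF hy1 (pt_mem u v) (pt_mem u (v + b)) pinf_mem
        (pt_add_ne h hb u v) h3 h4 hy with e | e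
      · exact pt_ne_pinf _ _ e.symm
      · exact pt_ne_pinf _ _ e.symm
    · exact hyp' hy
    · have := invol_fix_unique h hm hF hy2 hy1 (pt_mem u v) (pt_mem u (v + b)) h3 h4
      exact pt_add_ne h hb u v this
    · exact hy2' hy2
  rw [Set.ncard_union_eq d3 (Set.toFinite _) (Set.toFinite _),
    Set.ncard_union_eq d1 (Set.toFinite _) (Set.toFinite _),
    Set.ncard_union_eq d2 (Set.toFinite _) (Set.toFinite _), ncard_fix h hm hF pinf_mem,
    ncard_invol_move h hm hF, ncard_RR_ne h hm hF hb]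
  have hD := two_mul_ncard_Dp h hm hF hb
  have hU := two_mul_ncard_UU_invol h hm hF (t0_mem_Invol h hb)
  have h8 : 8 ≤ 2 ^ (2 * m + 1) := by
    calc 8 = 2 ^ 3 := by norm_num
      _ ≤ 2 ^ (2 * m + 1) := Nat.pow_le_pow_right (by norm_num) (by omega)
  obtain ⟨t, ht⟩ : ∃ t, 2 ^ (2 * m + 1) = t + 2 := ⟨2 ^ (2 * m + 1) - 2, by omega⟩
  rw [ht] at hD hU ⊢
  have e1 : t + 2 - 1 = t + 1 := by omega
  have e2 : t + 2 - 2 = t := by omega
  have e3 : 4 * (t + 2) - 3 = 4 * t + 5 := by omega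
  rw [e2] at hD
  rw [e1, e3]
  nlinarith [hD, hU]

/-- the solubilizer of an involution -/
theorem ncard_Sol_invol (hm : 1 ≤ m) (hF : Fintype.card F = 2 ^ (2 * m + 1))
    (hp : (2 * m + 1).Prime) {x : Sz F m} (h2 : x * x = 1) (h1 : x ≠ 1) :
    (Sol x).ncard = (2 ^ (2 * m + 1)) ^ 2 * (4 * 2 ^ (2 * m + 1) - 3) := by
  obtain ⟨g, hg⟩ := invol_conj h hm hF (x := x) (y := t0 h 1) ⟨h2, h1⟩
    (t0_mem_Invol h one_ne_zero)
  rw [← ncard_Sol_conj g x, hg]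
  exact ncard_Sol_t0 h hm hF hp one_ne_zero

end Cfsg.Agent.Lib.H2.Sz
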