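import Mathlib
import Cfsg.Prelude.Def_LieExceptional
import Cfsg.Prelude.Def_Sz
import Cfsg.Agent.Lib.H2.SzSol13
import Cfsg.Agent.Lib.H2.SzB3

set_option autoImplicit false
set_option linter.unusedSimpArgs false
set_option linter.unusedSectionVars false
set_option linter.unusedVariables false

/-!
# Suzuki groups, solubilizers XIV: transport to the Lie-type model
-/

namespace Cfsg.Agent.Lib.H2.Sz

open Matrix Cfsg

theorem isSolvable_closure_congr {G H : Type*} [Group G] [Group H] (e : G ≃* H) (x y : G) :
    Group.IsSolvable (Subgroup.closure ({e x, e y} : Set H)) ↔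
      Group.IsSolvable (Subgroup.closure ({x, y} : Set G)) := by
  have hmap : (Subgroup.closure ({x, y} : Set G)).map e.toMonoidHom =
      Subgroup.closure ({e x, e y} : Set H) := by
    rw [MonoidHom.map_closure, Set.image_pair]
    rfl
  rw [← hmap]
  let φ := (Subgroup.closure ({x, y} : Set G)).equivMapOfInjective e.toMonoidHom e.injective
  constructor
  · intro hs
    exact Group.isSolvable_of_isSolvable_injective (f := φ.toMonoidHom) φ.injective
  · intro hs
    exact Group.isSolvable_of_surjective (f := φ.toMonoidHom) φ.surjective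

variable {F : Type*} [Field F] {m : ℕ} [Fintype F] (h : Fld F m)

include h

theorem card_solubilizer_lie (hm : 1 ≤ m) (hF : Fintype.card F = 2 ^ (2 * m + 1))
    (hp : (2 * m + 1).Prime) (x : ↥(Cfsg.Lie.Sz F (2 ^ (m + 1)))) :
    Nat.card {y : ↥(Cfsg.Lie.Sz F (2 ^ (m + 1))) // Group.IsSolvable ↥(Subgroup.closure
      ({x, y} : Set (↥(Cfsg.Lie.Sz F (2 ^ (m + 1))))))} =
      (Sol ((SzB.bridge h hm hF).symm x)).ncard := by
  set e := SzB.bridge h hm hF with he
  rw [← Nat.card_coe_set_eq]
  apply Nat.card_congr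
  refine Equiv.subtypeEquiv e.symm.toEquiv ?_
  intro y
  show _ ↔ e.symm y ∈ Sol (e.symm x)
  rw [mem_Sol, ← isSolvable_closure_iff h hm hF hp, ← isSolvable_closure_congr e,
    e.apply_symm_apply, e.apply_symm_apply]

end Cfsg.Agent.Lib.H2.Sz
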