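import Mathlib
import Cfsg.Agent.Lib.H7.T648Defs
import Cfsg.Agent.Lib.H7.T648Model

/-!
# S3702, piece GRP0: the group of the statement is the model `M648`
-/

set_option autoImplicit false

namespace Cfsg.Agent.Lib.H2.T648

open Cfsg Cfsg.Agent.Lib.H7.T648

/-- the generating set of the statement S3702 -/
def gens9 : Set (Equiv.Perm (Fin 9)) :=
  {Equiv.swap (0 : Fin 9) 1 * Equiv.swap 1 2,
    Equiv.swap (0 : Fin 9) 3 * Equiv.swap 3 6 * (Equiv.swap (1 : Fin 9) 4 * Equiv.swap 4 7) *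
      (Equiv.swap (2 : Fin 9) 5 * Equiv.swap 5 8),
    Equiv.swap (0 : Fin 9) 1 * Equiv.swap 3 4,
    Equiv.swap (0 : Fin 9) 3 * Equiv.swap 1 4 * Equiv.swap 2 5 * Equiv.swap 6 7}

theorem toPerm9_gen1 : toPerm9 gen1 = Equiv.swap (0 : Fin 9) 1 * Equiv.swap 1 2 := by decide
theorem toPerm9_gen2 : toPerm9 gen2 =
    Equiv.swap (0 : Fin 9) 3 * Equiv.swap 3 6 * (Equiv.swap (1 : Fin 9) 4 * Equiv.swap 4 7) *
      (Equiv.swap (2 : Fin 9) 5 * Equiv.swap 5 8) := by decide
theorem toPerm9_gen3 : toPerm9 gen3 = Equiv.swap (0 : Fin 9) 1 * Equiv.swap 3 4 := by decide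
theorem toPerm9_gen4 : toPerm9 gen4 =
    Equiv.swap (0 : Fin 9) 3 * Equiv.swap 1 4 * Equiv.swap 2 5 * Equiv.swap 6 7 := by decide

/-! ## injectivity -/

theorem sz_eq_one_iff (u : ℤˣ) : (((u : ℤ) : ZMod 3) = 1) ↔ u = 1 := by
  rcases Int.units_eq_one_or u with rfl | rfl
  · simp
  · constructor
    · intro h
      exfalso
      revert h
      decide
    · intro h
      exfalso
      revert h
      decide

theorem eq_one_of_app (x : M648) (h : ∀ q, x.app q = q) : x = 1 := by
  have hp : x.p = 1 := by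
    ext i : 1
    have := congrArg Prod.fst (h (i, 0))
    simpa [M648.app] using this
  have hv : x.v = 0 := by
    funext i
    have := congrArg Prod.snd (h (i, 0))
    simpa [M648.app] using this
  have hs : ∀ i, x.sz i = 1 := by
    intro i
    have := congrArg Prod.snd (h (i, 1))
    simp only [M648.app, mul_one] at this
    rw [hv] at this
    simpa using this
  have ha : x.a = 1 := by
    have := hs 0
    unfold M648.sz at this
    rw [M648.sg_zero] at this
    exact (sz_eq_one_iff _).1 this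
  have hb : x.b = 1 := by
    have := hs 1
    unfold M648.sz at this
    rw [M648.sg_one'] at this
    exact (sz_eq_one_iff _).1 this
  apply M648.ext
  · rw [hv]; rfl
  · rw [ha]; rfl
  · rw [hb]; rfl
  · rw [hp]; rfl

theorem toPermProd_injective : Function.Injective toPermProd := by
  rw [injective_iff_map_eq_one]
  intro x hx
  apply eq_one_of_app
  intro q
  rw [← toPermProd_apply, hx]
  rfl

theorem toPerm9_injective : Function.Injective toPerm9 := by
  unfold toPerm9
  intro x y hxy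
  apply toPermProd_injective
  have h := hxy
  simp only [MonoidHom.coe_comp, Function.comp_apply] at h
  exact pt9.permCongrHom.injective h

/-! ## generation -/

/-- the subgroup of the model generated by the four generators -/
def K648 : Subgroup M648 := Subgroup.closure {gen1, gen2, gen3, gen4}

theorem gen1_mem : gen1 ∈ K648 := Subgroup.subset_closure (by simp)
theorem gen2_mem : gen2 ∈ K648 := Subgroup.subset_closure (by simp)
theorem gen3_mem : gen3 ∈ K648 := Subgroup.subset_closure (by simp)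
theorem gen4_mem : gen4 ∈ K648 := Subgroup.subset_closure (by simp)

set_option maxRecDepth 100000 in
theorem tr_word : ∀ w : Fin 3 → ZMod 3,
    tr w = gen1 ^ (w 0).val * (gen2 * gen1 * gen2⁻¹) ^ (w 1).val *
      (gen2⁻¹ * gen1 * gen2) ^ (w 2).val := by
  simp only [M648.ext_iff]
  decide

theorem tr_mem_K (w : Fin 3 → ZMod 3) : tr w ∈ K648 := by
  rw [tr_word w]
  have h1 := gen1_mem
  have h2 := gen2_mem
  exact mul_mem (mul_mem (pow_mem h1 _) (pow_mem (mul_mem (mul_mem h2 h1) (inv_mem h2)) _))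
    (pow_mem (mul_mem (mul_mem (inv_mem h2) h1) h2) _)

/-- the three generators of the linear parts -/
def cL : M648 := gen2
def dL : M648 := (tr ![1, 1, 0])⁻¹ * gen3
def sL : M648 := (tr ![0, 0, 1])⁻¹ * gen4

theorem cL_mem : cL ∈ K648 := gen2_mem
theorem dL_mem : dL ∈ K648 := mul_mem (inv_mem (tr_mem_K _)) gen3_mem
theorem sL_mem : sL ∈ K648 := mul_mem (inv_mem (tr_mem_K _)) gen4_mem

set_option maxRecDepth 100000 in
theorem lin_word : ∀ (a b : ℤˣ) (p : Equiv.Perm (Fin 3)), ∃ i : Fin 3, ∃ j k l : Fin 2,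
    lin a b p = cL ^ (i : ℕ) * sL ^ (j : ℕ) * dL ^ (k : ℕ) * (cL * dL * cL⁻¹) ^ (l : ℕ) := by
  simp only [M648.ext_iff]
  decide

theorem lin_mem_K (a b : ℤˣ) (p : Equiv.Perm (Fin 3)) : lin a b p ∈ K648 := by
  obtain ⟨i, j, k, l, h⟩ := lin_word a b p
  rw [h]
  exact mul_mem (mul_mem (mul_mem (pow_mem cL_mem _) (pow_mem sL_mem _)) (pow_mem dL_mem _))
    (pow_mem (mul_mem (mul_mem cL_mem dL_mem) (inv_mem cL_mem)) _)

theorem eq_tr_mul_lin (x : M648) : x = tr (fun i => x.v (x.p⁻¹ i)) * lin x.a x.b x.p := by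
  apply M648.ext
  · funext i
    simp only [M648.mul_v, lin, tr]
    have h1 : (⟨fun i => x.v (x.p⁻¹ i), 1, 1, 1⟩ : M648).sz (x.p i) = 1 := by
      have := M648.sz_one (x.p i)
      exact this
    rw [h1]
    simp [M648.pinv_apply]
  · simp only [M648.mul_a, lin, tr]
    have h1 : (⟨fun i => x.v (x.p⁻¹ i), 1, 1, 1⟩ : M648).sg (x.p 0) = 1 := M648.sg_one (x.p 0)
    rw [h1, one_mul]
  · simp only [M648.mul_b, lin, tr]
    have h1 : (⟨fun i => x.v (x.p⁻¹ i), 1, 1, 1⟩ : M648).sg (x.p 1) = 1 := M648.sg_one (x.p 1)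
    rw [h1, one_mul]
  · simp only [M648.mul_p, lin, tr, one_mul]

theorem K648_eq_top : K648 = ⊤ := by
  rw [eq_top_iff]
  intro x _
  rw [eq_tr_mul_lin x]
  exact mul_mem (tr_mem_K _) (lin_mem_K _ _ _)

/-! ## the isomorphism -/

theorem closure_gens9 : Subgroup.closure gens9 = toPerm9.range := by
  have h : toPerm9.range = K648.map toPerm9 := by
    rw [K648_eq_top, MonoidHom.range_eq_map]
  rw [h]
  unfold K648
  rw [MonoidHom.map_closure]
  congr 1
  ext y
  simp only [gens9, Set.mem_insert_iff, Set.mem_singleton_iff, Set.mem_image]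
  constructor
  · rintro (rfl | rfl | rfl | rfl)
    · exact ⟨gen1, Or.inl rfl, toPerm9_gen1⟩
    · exact ⟨gen2, Or.inr (Or.inl rfl), toPerm9_gen2⟩
    · exact ⟨gen3, Or.inr (Or.inr (Or.inl rfl)), toPerm9_gen3⟩
    · exact ⟨gen4, Or.inr (Or.inr (Or.inr rfl)), toPerm9_gen4⟩
  · rintro ⟨x, (rfl | rfl | rfl | rfl), rfl⟩
    · exact Or.inl toPerm9_gen1
    · exact Or.inr (Or.inl toPerm9_gen2)
    · exact Or.inr (Or.inr (Or.inl toPerm9_gen3))
    · exact Or.inr (Or.inr (Or.inr toPerm9_gen4))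

/-- the group of the statement S3702 is the model `M648` -/
noncomputable def isoM648 : ↥(Subgroup.closure gens9) ≃* M648 :=
  ((MonoidHom.ofInjective toPerm9_injective).trans
    (MulEquiv.subgroupCongr closure_gens9.symm)).symm

theorem isoM648_symm_apply (m : M648) :
    ((isoM648.symm m : ↥(Subgroup.closure gens9)) : Equiv.Perm (Fin 9)) = toPerm9 m := rfl

/-- GRP0.  The group of the statement is `M648`. -/
theorem nonempty_iso_M648 :
    Nonempty (↥(Subgroup.closure ({Equiv.swap (0 : Fin 9) 1 * Equiv.swap 1 2,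
        Equiv.swap (0 : Fin 9) 3 * Equiv.swap 3 6 * (Equiv.swap (1 : Fin 9) 4 * Equiv.swap 4 7) *
          (Equiv.swap (2 : Fin 9) 5 * Equiv.swap 5 8),
        Equiv.swap (0 : Fin 9) 1 * Equiv.swap 3 4,
        Equiv.swap (0 : Fin 9) 3 * Equiv.swap 1 4 * Equiv.swap 2 5 * Equiv.swap 6 7} :
          Set (Equiv.Perm (Fin 9)))) ≃* M648) :=
  ⟨isoM648⟩

end Cfsg.Agent.Lib.H2.T648
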