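import Mathlib
import Cfsg.Agent.Lib.H7.T648Defs
import Cfsg.Agent.Lib.H7.T648Model
import Cfsg.Agent.Lib.H27.Basic
import Cfsg.Agent.Lib.H2.T648GRP0
import Cfsg.Prelude.Def_Solvable

/-!
# S3702, piece MODP: `O_3(M648) = J648`
-/

set_option autoImplicit false

namespace Cfsg.Agent.Lib.H2.T648

open Cfsg Cfsg.Agent.Lib.H7.T648

theorem sg_of_mem_J648 (x : M648) (hx : x ∈ J648) (i : Fin 3) : x.sg i = 1 := by
  obtain ⟨ha, hb, hp⟩ := hx
  unfold M648.sg
  rw [ha, hb, hp]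
  exact sgf_one i

theorem mem_J648_of_sg (x : M648) (hp : x.p = 1) (hs : ∀ i, x.sg i = 1) : x ∈ J648 := by
  refine ⟨?_, ?_, hp⟩
  · rw [← M648.sg_zero]; exact hs 0
  · rw [← M648.sg_one']; exact hs 1

theorem conj_mem_J648 (g x : M648) (hx : x ∈ J648) : g * x * g⁻¹ ∈ J648 := by
  have hxp : x.p = 1 := hx.2.2
  apply mem_J648_of_sg
  · simp only [M648.mul_p, M648.inv_p, hxp, mul_one, mul_inv_cancel]
  · intro i
    rw [M648.sg_mul, M648.sg_mul, sg_of_mem_J648 x hx, mul_one, M648.sg_inv]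
    simp only [M648.inv_p, hxp, Equiv.Perm.coe_one, id_eq]
    exact M648.sg_sq g _

theorem J648_normal' : (J648).Normal := ⟨fun x hx g => conj_mem_J648 g x hx⟩

theorem eq_tr_of_mem (x : M648) (hx : x ∈ J648) : x = tr x.v := by
  obtain ⟨ha, hb, hp⟩ := hx
  apply M648.ext
  · rfl
  · rw [ha]; rfl
  · rw [hb]; rfl
  · rw [hp]; rfl

theorem tr_sz (w : Fin 3 → ZMod 3) (i : Fin 3) : (tr w).sz i = 1 := by
  unfold M648.sz
  rw [sg_of_mem_J648 _ (tr_mem w)]
  simp

theorem tr_mul' (w w' : Fin 3 → ZMod 3) : tr w * tr w' = tr (w + w') := by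
  apply M648.ext
  · funext i
    rw [M648.mul_v, tr_sz]
    simp only [tr, Equiv.Perm.coe_one, id_eq, one_mul, Pi.add_apply]
    ring
  · rw [M648.mul_a, sg_of_mem_J648 _ (tr_mem w)]; rfl
  · rw [M648.mul_b, sg_of_mem_J648 _ (tr_mem w)]; rfl
  · rfl

theorem tr_zero' : tr 0 = 1 := rfl

theorem pow_three_of_mem (x : M648) (hx : x ∈ J648) : x ^ 3 = 1 := by
  rw [eq_tr_of_mem x hx, pow_succ, pow_succ, pow_one, tr_mul', tr_mul', ← tr_zero']
  congr 1
  funext i
  simp only [Pi.add_apply, Pi.zero_apply]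
  have : (3 : ZMod 3) = 0 := by decide
  calc x.v i + x.v i + x.v i = 3 * x.v i := by ring
    _ = 0 := by rw [this, zero_mul]

theorem J648_isPGroup : IsPGroup 3 ↥J648 := by
  intro g
  refine ⟨1, ?_⟩
  apply Subtype.ext
  rw [pow_one]
  simpa using pow_three_of_mem g.1 g.2

/-- the `81`st power, computed by four cubings -/
def p81 (y : M648) : M648 := (((y ^ 3) ^ 3) ^ 3) ^ 3

theorem p81_eq (y : M648) : p81 y = y ^ 81 := by
  unfold p81
  rw [← pow_mul, ← pow_mul, ← pow_mul]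

set_option maxRecDepth 100000 in
theorem key81 : ∀ (a b : ℤˣ) (p : Equiv.Perm (Fin 3)), lin a b p ∉ J648 →
    (p81 (lin a b p) ∉ J648 ∨
      p81 ((lin a b p)⁻¹ * (lin (-1) (-1) 1 * lin a b p * (lin (-1) (-1) 1)⁻¹)) ∉ J648) := by
  decide

theorem pow81_of_three (z : M648) (k : ℕ) (hz : z ^ 3 ^ k = 1) : z ^ 81 = 1 := by
  have h1 : orderOf z ∣ 3 ^ k := orderOf_dvd_of_pow_eq_one hz
  have h2 : orderOf z ∣ 648 := by
    have := orderOf_dvd_natCard z
    rwa [M648.card_eq] at this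
  obtain ⟨j, _, hj⟩ := (Nat.dvd_prime_pow Nat.prime_three).1 h1
  have hj4 : j ≤ 4 := by
    by_contra hcon
    push Not at hcon
    have : 3 ^ 5 ∣ 648 := dvd_trans (pow_dvd_pow 3 hcon) (hj ▸ h2)
    revert this
    decide
  rw [← orderOf_dvd_iff_pow_eq_one, hj]
  exact pow_dvd_pow 3 hj4

/-- MODP.  `O_3(M648) = J648`. -/
theorem pCore_M648 : Cfsg.pCore 3 M648 = J648 := by
  have hge : J648 ≤ Cfsg.pCore 3 M648 :=
    Cfsg.Agent.Lib.H27.le_pCore J648 J648_normal' J648_isPGroup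
  apply le_antisymm
  · intro x hx
    by_contra hxJ
    have hP : IsPGroup 3 ↥(Cfsg.pCore 3 M648) := Cfsg.Agent.Lib.H27.pCore_isPGroup
    have hN : (Cfsg.pCore 3 M648).Normal := Cfsg.Agent.Lib.H27.pCore_normal'
    have h81 : ∀ z ∈ Cfsg.pCore 3 M648, z ^ 81 = 1 := by
      intro z hz
      obtain ⟨k, hk⟩ := hP ⟨z, hz⟩
      apply pow81_of_three z k
      have := congrArg Subtype.val hk
      simpa using this
    -- the linear part of `x` lies in the core as well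
    have hl : lin x.a x.b x.p ∈ Cfsg.pCore 3 M648 := by
      have h1 := eq_tr_mul_lin x
      have h2 : lin x.a x.b x.p = (tr (fun i => x.v (x.p⁻¹ i)))⁻¹ * x := by
        rw [eq_inv_mul_iff_mul_eq]
        exact h1.symm
      rw [h2]
      exact mul_mem (inv_mem (hge (tr_mem _))) hx
    have hlJ : lin x.a x.b x.p ∉ J648 := by
      intro h
      exact hxJ ⟨h.1, h.2.1, h.2.2⟩
    rcases key81 x.a x.b x.p hlJ with h | h
    · apply h
      rw [p81_eq, h81 _ hl]
      exact one_mem _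
    · apply h
      rw [p81_eq, h81 _ (mul_mem (inv_mem hl) (hN.conj_mem _ hl _))]
      exact one_mem _
  · exact hge

end Cfsg.Agent.Lib.H2.T648
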