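import Mathlib
import Cfsg.Agent.Lib.H7.T648Defs
import Cfsg.Agent.Lib.H7.T648Model
import Cfsg.Agent.Lib.H2.T648GRP0
import Cfsg.Agent.Lib.H2.T648MODP

/-!
# S3702, piece GRP1: coordinates on `H` in which `J = O_3(H)` is `J648`
-/

set_option autoImplicit false

namespace Cfsg.Agent.Lib.H2.T648

open Cfsg Cfsg.Agent.Lib.H7.T648

/-- the `p`-core is preserved by isomorphisms -/
theorem pCore_map_le' {A B : Type*} [Group A] [Group B] (p : ℕ) (φ : A ≃* B) :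
    (Cfsg.pCore p A).map φ.toMonoidHom ≤ Cfsg.pCore p B := by
  rw [Subgroup.map_le_iff_le_comap]
  apply sSup_le
  rintro N ⟨hN, hp⟩
  rw [← Subgroup.map_le_iff_le_comap]
  apply le_sSup
  exact ⟨hN.map _ φ.surjective, hp.map _⟩

theorem pCore_map_eq' {A B : Type*} [Group A] [Group B] (p : ℕ) (φ : A ≃* B) :
    (Cfsg.pCore p A).map φ.toMonoidHom = Cfsg.pCore p B := by
  apply le_antisymm (pCore_map_le' p φ)
  intro b hb
  have h1 := pCore_map_le' p φ.symm ⟨b, hb, rfl⟩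
  exact ⟨φ.symm b, h1, φ.apply_symm_apply b⟩

theorem mem_pCore_iff_of_iso {A B : Type*} [Group A] [Group B] (p : ℕ) (φ : A ≃* B) (a : A) :
    φ a ∈ Cfsg.pCore p B ↔ a ∈ Cfsg.pCore p A := by
  rw [← pCore_map_eq' p φ]
  constructor
  · rintro ⟨a', ha', h⟩
    have : a' = a := φ.injective h
    rw [← this]; exact ha'
  · intro h
    exact ⟨a, h, rfl⟩

/-- GRP1.  Coordinates on `H` in which `J` is `J648`. -/
theorem exists_iso_J {G : Type*} [Group G] (H : Subgroup G)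
    (hH : Nonempty (↥H ≃* ↥(Subgroup.closure ({Equiv.swap (0 : Fin 9) 1 * Equiv.swap 1 2,
        Equiv.swap (0 : Fin 9) 3 * Equiv.swap 3 6 * (Equiv.swap (1 : Fin 9) 4 * Equiv.swap 4 7) *
          (Equiv.swap (2 : Fin 9) 5 * Equiv.swap 5 8),
        Equiv.swap (0 : Fin 9) 1 * Equiv.swap 3 4,
        Equiv.swap (0 : Fin 9) 3 * Equiv.swap 1 4 * Equiv.swap 2 5 * Equiv.swap 6 7} :
          Set (Equiv.Perm (Fin 9))))))
    (J : Subgroup G) (hJ : J = (Cfsg.pCore 3 ↥H).map H.subtype) :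
    ∃ e : ↥H ≃* M648, ∀ (d : G) (hd : d ∈ H), e ⟨d, hd⟩ ∈ J648 ↔ d ∈ J := by
  obtain ⟨f⟩ := hH
  refine ⟨f.trans isoM648, ?_⟩
  intro d hd
  rw [← pCore_M648, mem_pCore_iff_of_iso 3 (f.trans isoM648) ⟨d, hd⟩, hJ]
  constructor
  · intro h
    exact ⟨⟨d, hd⟩, h, rfl⟩
  · rintro ⟨⟨d', hd'⟩, h, h2⟩
    have : d' = d := h2
    subst this
    exact h

end Cfsg.Agent.Lib.H2.T648
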