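import Mathlib
import Cfsg.Agent.Lib.H7.T648Defs
import Cfsg.Agent.Lib.H7.T648Model

/-!
# S3702, piece MODA: every element of `A648` has a power in `J648 \ {1}`
-/

set_option autoImplicit false

namespace Cfsg.Agent.Lib.H2.T648

open Cfsg Cfsg.Agent.Lib.H7.T648

set_option maxRecDepth 100000 in
/-- the image of `x` in `M648 / J648 ≅ S4` has order `1, 2, 3` or `4` -/
theorem pow_mem_J648 : ∀ x : M648, x ^ 2 ∈ J648 ∨ x ^ 3 ∈ J648 ∨ x ^ 4 ∈ J648 := by
  decide

/-- MODA.  Every element of `A648` has a power in `J648 \ {1}`. -/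
theorem exists_pow_mem_J648 (x : M648) (hx : A648 x) : ∃ k : ℕ, x ^ k ∈ J648 ∧ x ^ k ≠ 1 := by
  obtain ⟨hx1, hx2⟩ := hx
  by_cases hJ : x ∈ J648
  · exact ⟨1, by simpa using hJ, by simpa using hx1⟩
  · have h34 : x ^ 3 ≠ 1 ∧ x ^ 4 ≠ 1 := by
      rcases hx2 with h | h
      · exact absurd h hJ
      · exact h
    rcases pow_mem_J648 x with h | h | h
    · refine ⟨2, h, ?_⟩
      intro h2
      apply h34.2
      have : x ^ 4 = (x ^ 2) ^ 2 := by rw [← pow_mul]
      rw [this, h2, one_pow]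
    · exact ⟨3, h, h34.1⟩
    · exact ⟨4, h, h34.2⟩

end Cfsg.Agent.Lib.H2.T648
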