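import Mathlib
import Cfsg.Agent.Lib.H26.TMXDefs

/-!
# S4383 (helper26's blueprint), pieces PQ and PP
-/

set_option autoImplicit false
open Pointwise

namespace Cfsg.Agent.Lib.H2.TMX

open Cfsg.Agent.Lib.H26.TMX

universe u
variable {G : Type u} [Group G] [Finite G]

/-- PP: `N` a normal `p`-subgroup with `G ⧸ N` a `p`-group: `G` is a `p`-group. -/
theorem isPGroup_of_quot (N : Subgroup G) [N.Normal] (p : ℕ) [Fact p.Prime] (hN : IsPGroup p N)
    (hQ : IsPGroup p (G ⧸ N)) : IsPGroup p G := by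
  obtain ⟨a, ha⟩ := IsPGroup.iff_card.mp hN
  obtain ⟨b, hb⟩ := IsPGroup.iff_card.mp hQ
  apply IsPGroup.of_card (n := b + a)
  rw [Subgroup.card_eq_card_quotient_mul_card_subgroup N, ha, hb, pow_add]

/-- PQ: `N` a nontrivial normal `p`-subgroup, `G ⧸ N` a nontrivial `r`-group, `p ≠ r`. -/
theorem solvable_two_primes_of_pq (N : Subgroup G) [N.Normal] (hNbot : N ≠ ⊥) (hNtop : N ≠ ⊤)
    (p r : ℕ) [Fact p.Prime] [Fact r.Prime] (hpr : p ≠ r) (hN : IsPGroup p N)
    (hQ : IsPGroup r (G ⧸ N)) :
    Group.IsSolvable G ∧ (Nat.card G).primeFactors.card = 2 := by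
  have hp : p.Prime := Fact.out
  have hr : r.Prime := Fact.out
  constructor
  · have h1 : Group.IsNilpotent N := hN.isNilpotent
    have h2 : Group.IsNilpotent (G ⧸ N) := hQ.isNilpotent
    have h3 : Group.IsSolvable N := inferInstance
    have h4 : Group.IsSolvable (G ⧸ N) := inferInstance
    refine Group.isSolvable_of_ker_le_range N.subtype (QuotientGroup.mk' N) ?_
    rw [QuotientGroup.ker_mk', Subgroup.range_subtype]
  · obtain ⟨a, ha⟩ := IsPGroup.iff_card.mp hN
    obtain ⟨b, hb⟩ := IsPGroup.iff_card.mp hQ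
    have ha0 : a ≠ 0 := by
      intro h
      rw [h, pow_zero] at ha
      exact hNbot (Subgroup.card_eq_one.mp ha)
    have hb0 : b ≠ 0 := by
      intro h
      rw [h, pow_zero] at hb
      apply hNtop
      have : N.index = 1 := by rw [Subgroup.index_eq_card]; exact hb
      exact Subgroup.index_eq_one.mp this
    have hcard : Nat.card G = r ^ b * p ^ a := by
      rw [Subgroup.card_eq_card_quotient_mul_card_subgroup N, ha, hb]
    rw [hcard, Nat.primeFactors_mul (pow_ne_zero _ hr.ne_zero) (pow_ne_zero _ hp.ne_zero),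
      Nat.primeFactors_prime_pow hb0 hr, Nat.primeFactors_prime_pow ha0 hp]
    rw [Finset.card_union_of_disjoint (by simpa using hpr.symm)]
    simp

end Cfsg.Agent.Lib.H2.TMX
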