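import Mathlib
import Cfsg.Agent.Lib.H26.TMXDefs
import Cfsg.Agent.Lib.H26.TMXUNIQ
import Cfsg.Agent.Lib.H27.TMXMODa

/-!
# S4383 (helper26's blueprint), piece SIMPLE (twin): a nonabelian simple group is not covered by the
conjugates of two maximal subgroups
-/

set_option autoImplicit false
open Pointwise

namespace Cfsg.Agent.Lib.H2.TMX

open Cfsg.Agent.Lib.H26.TMX

universe u
variable {G : Type u} [Group G] [Finite G]

/-- MOD (assembled from helper27's `index_modEq_one_aux` and helper26's `unique_conj`) -/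
theorem index_modEq_one' (p : ℕ) [Fact p.Prime] (M₁ M₂ : Subgroup G) (hcov : Cover M₁ M₂)
    (hloc : ∀ A : Subgroup G, IsPGroup p A → A ≠ ⊥ → Subgroup.normalizer (A : Set G) ≠ ⊤)
    (hself : Subgroup.normalizer (M₂ : Set G) = M₂)
    (hnp : ¬ IsPGroup p G) (hp1 : p ∣ M₁.index) :
    p ^ (M₁.index.factorization p) ∣ M₂.index - 1 :=
  Cfsg.Agent.Lib.H27.TMX.index_modEq_one_aux p M₁ M₂ hcov hself hnp hp1
    (fun hp2 A hA hcard x y hx hy =>
      Cfsg.Agent.Lib.H26.TMX.unique_conj p M₁ M₂ hcov hloc hp2 A hA hcard x y hx hy)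

/-- a nonabelian finite simple group is not a `p`-group -/
theorem not_isPGroup_of_simple [IsSimpleGroup G] (hna : ∃ a b : G, a * b ≠ b * a) (p : ℕ)
    [Fact p.Prime] : ¬ IsPGroup p G := by
  intro hG
  obtain ⟨a, b, hab⟩ := hna
  have hc : Nontrivial (Subgroup.center G) := hG.center_nontrivial
  have hZ : Subgroup.center G = ⊤ := by
    rcases (inferInstance : (Subgroup.center G).Normal).eq_bot_or_eq_top with h | h
    · exfalso
      rw [Subgroup.nontrivial_iff_ne_bot] at hc
      exact hc h
    · exact h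
  have ha : a ∈ Subgroup.center G := hZ ▸ Subgroup.mem_top a
  exact hab ((Subgroup.mem_center_iff.mp ha) b).symm

/-- in a nonabelian finite simple group a maximal subgroup is self-normalizing -/
theorem normalizer_coatom_of_simple [IsSimpleGroup G] (hna : ∃ a b : G, a * b ≠ b * a)
    (M : Subgroup G) (hM : IsCoatom M) : Subgroup.normalizer (M : Set G) = M := by
  rcases eq_or_lt_of_le (Subgroup.le_normalizer (H := M)) with h | h
  · exact h.symm
  · exfalso
    replace h := hM.2 _ h
    have hn : M.Normal := Subgroup.normalizer_eq_top_iff.mp h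
    rcases hn.eq_bot_or_eq_top with hb | ht
    · -- `⊥` is a coatom: `G` is cyclic
      obtain ⟨a, b, hab⟩ := hna
      have hcyc : ∀ x : G, x ≠ 1 → Subgroup.zpowers x = ⊤ := by
        intro x hx
        by_contra hne
        have hlt : (⊥ : Subgroup G) < Subgroup.zpowers x := by
          rw [bot_lt_iff_ne_bot]
          intro h0
          exact hx (Subgroup.zpowers_eq_bot.mp h0)
        rw [hb] at hM
        exact hne (hM.2 _ hlt)
      have ha1 : a ≠ 1 := by
        intro h
        apply hab
        rw [h, one_mul, mul_one]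
      have hbz : b ∈ Subgroup.zpowers a := hcyc a ha1 ▸ Subgroup.mem_top b
      obtain ⟨k, rfl⟩ := Subgroup.mem_zpowers_iff.mp hbz
      apply hab
      exact ((Commute.refl a).zpow_right k).eq
    · exact hM.1 ht

/-- the arithmetic half: `n₁ ∣ n₂ - 1` -/
theorem index_dvd_index_sub_one [IsSimpleGroup G] (hna : ∃ a b : G, a * b ≠ b * a)
    (M₁ M₂ : Subgroup G) (h2 : IsCoatom M₂) (hcov : Cover M₁ M₂) (hn2 : 2 ≤ M₂.index) :
    M₁.index ∣ M₂.index - 1 := by
  have hn1 : M₁.index ≠ 0 := Subgroup.index_ne_zero_of_finite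
  have hm : M₂.index - 1 ≠ 0 := by omega
  rw [← Nat.factorization_prime_le_iff_dvd hn1 hm]
  intro p hp
  have : Fact p.Prime := ⟨hp⟩
  by_cases hp1 : p ∣ M₁.index
  · rw [← hp.pow_dvd_iff_le_factorization hm]
    apply index_modEq_one' p M₁ M₂ hcov ?_
      (normalizer_coatom_of_simple hna M₂ h2) (not_isPGroup_of_simple hna p) hp1
    intro A hA hAbot hnorm
    have hn : A.Normal := Subgroup.normalizer_eq_top_iff.mp hnorm
    rcases hn.eq_bot_or_eq_top with h | h
    · exact hAbot h
    · apply not_isPGroup_of_simple hna p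
      have : IsPGroup p (⊤ : Subgroup G) := h ▸ hA
      exact IsPGroup.of_equiv this Subgroup.topEquiv
  · rw [Nat.factorization_eq_zero_of_not_dvd hp1]
    exact Nat.zero_le _

/-- SIMPLE: a nonabelian simple group is not covered by the conjugates of two maximal subgroups. -/
theorem simple_false [IsSimpleGroup G] (hna : ∃ a b : G, a * b ≠ b * a) (M₁ M₂ : Subgroup G)
    (h1 : IsCoatom M₁) (h2 : IsCoatom M₂) (hcov : Cover M₁ M₂) : False := by
  have hidx : ∀ M : Subgroup G, IsCoatom M → 2 ≤ M.index := by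
    intro M hM
    have h0 : M.index ≠ 0 := Subgroup.index_ne_zero_of_finite
    have h1 : M.index ≠ 1 := fun h => hM.1 (Subgroup.index_eq_one.mp h)
    omega
  have hn1 := hidx M₁ h1
  have hn2 := hidx M₂ h2
  have hd1 := index_dvd_index_sub_one hna M₁ M₂ h2 hcov hn2
  have hd2 := index_dvd_index_sub_one hna M₂ M₁ h1 hcov.symm hn1
  have hl1 := Nat.le_of_dvd (by omega) hd1
  have hl2 := Nat.le_of_dvd (by omega) hd2
  omega

end Cfsg.Agent.Lib.H2.TMX
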