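import Mathlib
import Cfsg.Prelude.Def_Solvable

set_option autoImplicit false

/-!
# S4004, TV3 piece FROB (core): a self-normalising Sylow subgroup of prime order is a Frobenius complement

Core statement with the two sister pieces (SYL: the Sylow `r'`-subgroup has order `r'`; AVG: no element of order `r`
normalises a subgroup of order `r'`) taken as hypotheses.
-/

namespace Cfsg.Agent.Lib.H2.TV3

open scoped Pointwise

universe u

variable {G : Type u} [Group G]

/-- A subgroup `C` of prime order `r'` that is a maximal `r'`-subgroup, in a group whose element orders are `1`, `r`,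
`r'`, such that no element of order `r` normalises a subgroup of order `r'`: `C` meets its conjugates by elements
outside `C` trivially. -/
theorem inf_conj_eq_bot_of_prime_card {r r' : ℕ} (hr' : r'.Prime)
    (hord : ∀ g : G, orderOf g = 1 ∨ orderOf g = r ∨ orderOf g = r')
    (havg : ∀ y c : G, orderOf y = r' → orderOf c = r → c * y * c⁻¹ ∈ Subgroup.zpowers y → False)
    (C : Subgroup G) (hcard : Nat.card C = r')
    (hmax : ∀ Q : Subgroup G, IsPGroup r' Q → C ≤ Q → Q = C) (g : G) (hg : g ∉ C) :
    C ⊓ (MulAut.conj g • C) = ⊥ := by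
  have hr'F : Fact r'.Prime := ⟨hr'⟩
  have hfin : Finite C := Nat.finite_of_card_ne_zero (by rw [hcard]; exact hr'.ne_zero)
  have hCp : IsPGroup r' C := IsPGroup.of_card (n := 1) (by rw [hcard, pow_one])
  by_contra hinf
  -- the intersection has order `r'`, so `C = g C g⁻¹`
  have hdvd : Nat.card ↥(C ⊓ (MulAut.conj g • C)) ∣ r' := by
    rw [← hcard]; exact Subgroup.card_dvd_of_le inf_le_left
  have hc1 : Nat.card ↥(C ⊓ (MulAut.conj g • C)) ≠ 1 := by
    intro h1
    exact hinf (Subgroup.card_eq_one.mp h1)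
  have hc2 : Nat.card ↥(C ⊓ (MulAut.conj g • C)) = r' := by
    rcases (Nat.dvd_prime hr').mp hdvd with h | h
    · exact absurd h hc1
    · exact h
  have hcc : Nat.card ↥(MulAut.conj g • C) = r' := by
    rw [← hcard]
    exact (Nat.card_congr (Subgroup.equivSMul (MulAut.conj g) C).toEquiv).symm
  have hfin2 : Finite ↥(MulAut.conj g • C) :=
    Nat.finite_of_card_ne_zero (by rw [hcc]; exact hr'.ne_zero)
  have hi1 : C ⊓ (MulAut.conj g • C) = C :=
    Subgroup.eq_of_le_of_card_ge inf_le_left (by rw [hc2, hcard])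
  have hi2 : C ⊓ (MulAut.conj g • C) = MulAut.conj g • C :=
    Subgroup.eq_of_le_of_card_ge inf_le_right (by rw [hc2, hcc])
  have heq : MulAut.conj g • C = C := by rw [← hi2]; exact hi1
  -- `g` normalises `C`
  have hgn : g ∈ Subgroup.normalizer (C : Set G) := by
    rw [Subgroup.mem_normalizer_iff_map_conj_eq]
    exact heq
  have hnorm : ∀ x ∈ C, g * x * g⁻¹ ∈ C := fun x hx =>
    (Subgroup.mem_normalizer_iff.mp hgn x).mp hx
  -- a generator `y` of `C`
  obtain ⟨y, hy⟩ := exists_prime_orderOf_dvd_card' r' (G := C) (by rw [hcard])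
  have hyG : orderOf (y : G) = r' := by rw [Subgroup.orderOf_coe]; exact hy
  have hzp : Subgroup.zpowers (y : G) = C := by
    apply Subgroup.eq_of_le_of_card_ge
    · rw [Subgroup.zpowers_le]; exact y.2
    · rw [Nat.card_zpowers, hyG, hcard]
  rcases hord g with h1 | h1 | h1
  · rw [orderOf_eq_one_iff] at h1
    exact hg (h1 ▸ C.one_mem)
  · refine havg (y : G) g hyG h1 ?_
    rw [hzp]; exact hnorm _ y.2
  · -- `⟨g⟩ C` is an `r'`-group containing the maximal `r'`-subgroup `C`
    have hpz : IsPGroup r' (Subgroup.zpowers g) := by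
      apply IsPGroup.of_card (n := 1)
      rw [Nat.card_zpowers, h1, pow_one]
    have hsup : IsPGroup r' (Subgroup.zpowers g ⊔ C : Subgroup G) :=
      IsPGroup.to_sup_of_normal_right' hpz hCp (by rw [Subgroup.zpowers_le]; exact hgn)
    have := hmax _ hsup le_sup_right
    apply hg
    rw [← this]
    exact Subgroup.mem_sup_left (Subgroup.mem_zpowers g)

/-- **FROB core**: with `|R| = r'` for the Sylow `r'`-subgroups `R` and no element of order `r` normalising a
subgroup `⟨y⟩` of order `r'`, the subgroup `R` is a Frobenius complement of prime order. -/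
theorem exists_frobenius_complement_core {r r' : ℕ} (hr : r.Prime) (hr' : r'.Prime) (hne : r ≠ r')
    (hrG : r ∣ Nat.card G)
    (hord : ∀ g : G, orderOf g = 1 ∨ orderOf g = r ∨ orderOf g = r')
    (hsyl : ∀ [Fact r'.Prime] (R : Sylow r' G), Nat.card R = r')
    (havg : ∀ y c : G, orderOf y = r' → orderOf c = r → c * y * c⁻¹ ∈ Subgroup.zpowers y → False) :
    ∃ C : Subgroup G, Cfsg.IsFrobeniusComplement C ∧ (Nat.card ↥C).Prime := by
  have hr'F : Fact r'.Prime := ⟨hr'⟩
  obtain ⟨R⟩ : Nonempty (Sylow r' G) := inferInstance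
  obtain ⟨C, hC⟩ : ∃ C : Subgroup G, C = (R : Subgroup G) := ⟨_, rfl⟩
  have hcard : Nat.card C = r' := by rw [hC]; exact hsyl R
  have hmax : ∀ Q : Subgroup G, IsPGroup r' Q → C ≤ Q → Q = C := by
    intro Q hQ hle
    rw [hC] at hle ⊢
    exact R.is_maximal' hQ hle
  refine ⟨C, ⟨?_, ?_, ?_⟩, by rw [hcard]; exact hr'⟩
  · intro hbot
    rw [hbot, Subgroup.card_bot] at hcard
    exact hr'.one_lt.ne hcard
  · intro htop
    rw [htop, Subgroup.card_top] at hcard
    rw [hcard] at hrG
    exact hne ((Nat.prime_dvd_prime_iff_eq hr hr').mp hrG)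
  · exact inf_conj_eq_bot_of_prime_card hr' hord havg C hcard hmax

end Cfsg.Agent.Lib.H2.TV3
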