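import Cfsg.Agent.Lib.H25.TpDefs

/-!
# S5637 piece T1b (helper2): `tv_of_nonscalar`

`𝔓 = {P | 1 + P ⊗ zχᵀ ∈ X}` is an additive group containing the scalars and stable under conjugation by
the transvections of `SL_a`; if it contains a non-scalar matrix it contains a rank one matrix `u ψᵀ`
(`u ≠ 0`, `ψ ≠ 0`), and `1 + (uψᵀ) ⊗ (zχᵀ)` is a transvection (as `χ(z) = 0`).
-/

set_option autoImplicit false
set_option linter.unusedSectionVars false
set_option linter.unusedVariables false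

namespace Cfsg.Agent.Lib.H2.Tp

open Matrix Kronecker Module
open Cfsg.Geo
open Cfsg.Agent.Lib.H29.Tensor (pt kron_pt)
open Cfsg.Agent.Lib.H28 (tvGL tvGL_mulVec)
open Cfsg.Agent.Lib.H25.Tp

variable {F : Type*} [Field F] {a b : ℕ}

theorem t1b_vmv_mulVec {ι κ : Type} [Fintype κ] (u : ι → F) (v w : κ → F) :
    vecMulVec u v *ᵥ w = (v ⬝ᵥ w) • u := by
  ext i
  simp only [Matrix.mulVec, dotProduct, vecMulVec_apply, Pi.smul_apply, smul_eq_mul, Finset.sum_mul]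
  refine Finset.sum_congr rfl fun j _ => ?_
  ring

theorem t1b_NN0 (z χ : Fin b → F) (h : χ ⬝ᵥ z = 0) : vecMulVec z χ * vecMulVec z χ = 0 := by
  rw [vecMulVec_mul_vecMulVec, h, zero_smul, vecMulVec_zero]

theorem t1b_sq (z χ : Fin b → F) (h : χ ⬝ᵥ z = 0) (P P' : Matrix (Fin a) (Fin a) F) :
    (P ⊗ₖ vecMulVec z χ) * (P' ⊗ₖ vecMulVec z χ) = 0 := by
  rw [← Matrix.mul_kronecker_mul, t1b_NN0 z χ h, Matrix.kronecker_zero]

theorem t1b_neg_kron (P : Matrix (Fin a) (Fin a) F) (N : Matrix (Fin b) (Fin b) F) :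
    (-P) ⊗ₖ N = -(P ⊗ₖ N) := by
  ext ⟨i, j⟩ ⟨k, l⟩
  simp [kroneckerMap_apply]

/-- the element `1 + P ⊗ zχᵀ` -/
def kP (z χ : Fin b → F) (h : χ ⬝ᵥ z = 0) (P : Matrix (Fin a) (Fin a) F) : GL (Fin a × Fin b) F where
  val := 1 + P ⊗ₖ vecMulVec z χ
  inv := 1 - P ⊗ₖ vecMulVec z χ
  val_inv := by
    have h2 := t1b_sq z χ h P P
    calc (1 + P ⊗ₖ vecMulVec z χ) * (1 - P ⊗ₖ vecMulVec z χ)
        = 1 - (P ⊗ₖ vecMulVec z χ) * (P ⊗ₖ vecMulVec z χ) := by noncomm_ring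
      _ = 1 := by rw [h2, sub_zero]
  inv_val := by
    have h2 := t1b_sq z χ h P P
    calc (1 - P ⊗ₖ vecMulVec z χ) * (1 + P ⊗ₖ vecMulVec z χ)
        = 1 - (P ⊗ₖ vecMulVec z χ) * (P ⊗ₖ vecMulVec z χ) := by noncomm_ring
      _ = 1 := by rw [h2, sub_zero]

theorem kP_val (z χ : Fin b → F) (h : χ ⬝ᵥ z = 0) (P : Matrix (Fin a) (Fin a) F) :
    ((kP z χ h P : GL (Fin a × Fin b) F) : Matrix (Fin a × Fin b) (Fin a × Fin b) F) =
      1 + P ⊗ₖ vecMulVec z χ := rfl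

theorem kP_inv_val (z χ : Fin b → F) (h : χ ⬝ᵥ z = 0) (P : Matrix (Fin a) (Fin a) F) :
    (((kP z χ h P)⁻¹ : GL (Fin a × Fin b) F) : Matrix (Fin a × Fin b) (Fin a × Fin b) F) =
      1 - P ⊗ₖ vecMulVec z χ := rfl

theorem kP_add (z χ : Fin b → F) (h : χ ⬝ᵥ z = 0) (P P' : Matrix (Fin a) (Fin a) F) :
    kP z χ h (P + P') = kP z χ h P * kP z χ h P' := by
  apply Units.ext
  rw [Units.val_mul, kP_val, kP_val, kP_val, Matrix.add_kronecker]
  have h2 := t1b_sq z χ h P P'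
  calc 1 + (P ⊗ₖ vecMulVec z χ + P' ⊗ₖ vecMulVec z χ)
      = 1 + P ⊗ₖ vecMulVec z χ + P' ⊗ₖ vecMulVec z χ +
          (P ⊗ₖ vecMulVec z χ) * (P' ⊗ₖ vecMulVec z χ) := by rw [h2]; abel
    _ = (1 + P ⊗ₖ vecMulVec z χ) * (1 + P' ⊗ₖ vecMulVec z χ) := by noncomm_ring

theorem kP_neg (z χ : Fin b → F) (h : χ ⬝ᵥ z = 0) (P : Matrix (Fin a) (Fin a) F) :
    kP z χ h (-P) = (kP z χ h P)⁻¹ := by
  apply Units.ext
  rw [kP_val, kP_inv_val, t1b_neg_kron]
  abel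

/-- membership predicate of the additive group `𝔓` -/
def InP (X : Subgroup (GL (Fin a × Fin b) F)) (z χ : Fin b → F) (h : χ ⬝ᵥ z = 0)
    (P : Matrix (Fin a) (Fin a) F) : Prop := kP z χ h P ∈ X

variable {X : Subgroup (GL (Fin a × Fin b) F)} {z χ : Fin b → F} {h : χ ⬝ᵥ z = 0}

theorem inP_add {P P' : Matrix (Fin a) (Fin a) F} (hP : InP X z χ h P) (hP' : InP X z χ h P') :
    InP X z χ h (P + P') := by
  unfold InP; rw [kP_add]; exact X.mul_mem hP hP'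

theorem inP_neg {P : Matrix (Fin a) (Fin a) F} (hP : InP X z χ h P) : InP X z χ h (-P) := by
  unfold InP; rw [kP_neg]; exact X.inv_mem hP

theorem inP_sub {P P' : Matrix (Fin a) (Fin a) F} (hP : InP X z χ h P) (hP' : InP X z χ h P') :
    InP X z χ h (P - P') := by
  rw [sub_eq_add_neg]; exact inP_add hP (inP_neg hP')

theorem inP_scalar (hX : H0 a b F ≤ X) (c : F) :
    InP X z χ h (c • (1 : Matrix (Fin a) (Fin a) F)) := by
  have h' : (c • χ) ⬝ᵥ z = 0 := by rw [smul_dotProduct, h, smul_zero]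
  have : kP z χ h (c • (1 : Matrix (Fin a) (Fin a) F)) = rr (a := a) z (c • χ) h' := by
    apply Units.ext
    rw [kP_val, rr_val]
    unfold NN
    rw [Matrix.smul_kronecker, ← Matrix.kronecker_smul, vecMulVec_smul]
  unfold InP
  rw [this]
  exact hX (rr_mem_H0 z (c • χ) h')

/-- the transvection `1 + uψᵀ` of `GL_a` -/
def tA (u ψ : Fin a → F) (h : ψ ⬝ᵥ u = 0) : GL (Fin a) F where
  val := 1 + vecMulVec u ψ
  inv := 1 - vecMulVec u ψ
  val_inv := by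
    have h2 : vecMulVec u ψ * vecMulVec u ψ = 0 := by
      rw [vecMulVec_mul_vecMulVec, h, zero_smul, vecMulVec_zero]
    calc (1 + vecMulVec u ψ) * (1 - vecMulVec u ψ) = 1 - vecMulVec u ψ * vecMulVec u ψ := by
          noncomm_ring
      _ = 1 := by rw [h2, sub_zero]
  inv_val := by
    have h2 : vecMulVec u ψ * vecMulVec u ψ = 0 := by
      rw [vecMulVec_mul_vecMulVec, h, zero_smul, vecMulVec_zero]
    calc (1 - vecMulVec u ψ) * (1 + vecMulVec u ψ) = 1 - vecMulVec u ψ * vecMulVec u ψ := by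
          noncomm_ring
      _ = 1 := by rw [h2, sub_zero]

theorem tA_val (u ψ : Fin a → F) (h : ψ ⬝ᵥ u = 0) :
    ((tA u ψ h : GL (Fin a) F) : Matrix (Fin a) (Fin a) F) = 1 + vecMulVec u ψ := rfl

theorem tA_inv_val (u ψ : Fin a → F) (h : ψ ⬝ᵥ u = 0) :
    (((tA u ψ h)⁻¹ : GL (Fin a) F) : Matrix (Fin a) (Fin a) F) = 1 - vecMulVec u ψ := rfl

theorem tA_det (u ψ : Fin a → F) (h : ψ ⬝ᵥ u = 0) :
    ((tA u ψ h : GL (Fin a) F) : Matrix (Fin a) (Fin a) F).det = 1 := by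
  rw [tA_val, Matrix.vecMulVec_eq Unit, Matrix.det_one_add_replicateCol_mul_replicateRow, h, add_zero]

theorem krGL_tA_mem (u ψ : Fin a → F) (h : ψ ⬝ᵥ u = 0) :
    krGL (tA u ψ h) (1 : GL (Fin b) F) ∈ H0 a b F := by
  apply krGL_mem_H0
  rw [tA_det]; simp

theorem kP_conj (c : GL (Fin a) F) (P : Matrix (Fin a) (Fin a) F) :
    kP z χ h ((c : Matrix (Fin a) (Fin a) F) * P * ((c⁻¹ : GL (Fin a) F) : Matrix (Fin a) (Fin a) F)) =
      krGL c (1 : GL (Fin b) F) * kP z χ h P * (krGL c (1 : GL (Fin b) F))⁻¹ := by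
  apply Units.ext
  have hinv : (((krGL c (1 : GL (Fin b) F))⁻¹ : GL (Fin a × Fin b) F) :
      Matrix (Fin a × Fin b) (Fin a × Fin b) F) =
      ((c⁻¹ : GL (Fin a) F) : Matrix (Fin a) (Fin a) F) ⊗ₖ (1 : Matrix (Fin b) (Fin b) F) := by
    show ((c⁻¹ : GL (Fin a) F) : Matrix (Fin a) (Fin a) F) ⊗ₖ
      (((1 : GL (Fin b) F)⁻¹ : GL (Fin b) F) : Matrix (Fin b) (Fin b) F) = _
    rw [inv_one, Units.val_one]
  rw [Units.val_mul, Units.val_mul, hinv, krGL_val, kP_val, kP_val, Units.val_one]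
  rw [Matrix.mul_add, Matrix.add_mul, Matrix.mul_one, ← Matrix.mul_kronecker_mul,
    ← Matrix.mul_kronecker_mul, ← Matrix.mul_kronecker_mul, Matrix.mul_one, Matrix.one_mul,
    Matrix.mul_one, ← Units.val_mul, mul_inv_cancel, Units.val_one, Matrix.one_kronecker_one]

theorem inP_D (hX : H0 a b F ≤ X) {P : Matrix (Fin a) (Fin a) F} (hP : InP X z χ h P)
    (u ψ : Fin a → F) (hu : ψ ⬝ᵥ u = 0) :
    InP X z χ h (vecMulVec u (ψ ᵥ* P) - vecMulVec (P *ᵥ u) ψ -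
      ((ψ ᵥ* P) ⬝ᵥ u) • vecMulVec u ψ) := by
  have h1 : InP X z χ h (((tA u ψ hu : GL (Fin a) F) : Matrix (Fin a) (Fin a) F) * P *
      (((tA u ψ hu)⁻¹ : GL (Fin a) F) : Matrix (Fin a) (Fin a) F)) := by
    unfold InP
    rw [kP_conj]
    have hc : krGL (tA u ψ hu) (1 : GL (Fin b) F) ∈ X := hX (krGL_tA_mem u ψ hu)
    exact X.mul_mem (X.mul_mem hc hP) (X.inv_mem hc)
  have h2 := inP_sub h1 hP
  have h3 : ((tA u ψ hu : GL (Fin a) F) : Matrix (Fin a) (Fin a) F) * P *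
      (((tA u ψ hu)⁻¹ : GL (Fin a) F) : Matrix (Fin a) (Fin a) F) - P =
      vecMulVec u (ψ ᵥ* P) - vecMulVec (P *ᵥ u) ψ - ((ψ ᵥ* P) ⬝ᵥ u) • vecMulVec u ψ := by
    rw [tA_val, tA_inv_val]
    have e1 : vecMulVec u ψ * P = vecMulVec u (ψ ᵥ* P) := vecMulVec_mul u ψ P
    have e2 : P * vecMulVec u ψ = vecMulVec (P *ᵥ u) ψ := mul_vecMulVec P u ψ
    have e3 : vecMulVec u ψ * P * vecMulVec u ψ = ((ψ ᵥ* P) ⬝ᵥ u) • vecMulVec u ψ := by
      rw [e1, vecMulVec_mul_vecMulVec, vecMulVec_smul]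
    rw [← e1, ← e2, ← e3]
    noncomm_ring
  rw [h3] at h2
  exact h2

/-- the functional `x ↦ w ⬝ᵥ x` -/
def dotL {ι : Type} [Fintype ι] (w : ι → F) : Dual F (ι → F) where
  toFun x := w ⬝ᵥ x
  map_add' x y := dotProduct_add w x y
  map_smul' c x := by simp [dotProduct_smul]

theorem dotL_apply {ι : Type} [Fintype ι] (w x : ι → F) : dotL w x = w ⬝ᵥ x := rfl

theorem t1b_kron_vmv (u ψ : Fin a → F) (z χ : Fin b → F) :
    vecMulVec u ψ ⊗ₖ vecMulVec z χ = vecMulVec (pt u z) (pt ψ χ) := by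
  ext ⟨i, j⟩ ⟨k, l⟩
  simp only [kroneckerMap_apply, vecMulVec_apply, pt]
  ring

theorem t1b_pt_dot (u ψ : Fin a → F) (z χ : Fin b → F) :
    pt ψ χ ⬝ᵥ pt u z = (ψ ⬝ᵥ u) * (χ ⬝ᵥ z) := by
  simp only [dotProduct, pt, Fintype.sum_prod_type, Finset.sum_mul_sum]
  refine Finset.sum_congr rfl fun i _ => Finset.sum_congr rfl fun j _ => ?_
  ring

theorem isTv_kP (hz : z ≠ 0) (hχ : χ ≠ 0) (u ψ : Fin a → F) (hu : u ≠ 0) (hψ : ψ ≠ 0) :
    IsTv (kP z χ h (vecMulVec u ψ)) := by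
  have hfv : dotL (pt ψ χ) (pt u z) = 0 := by
    rw [dotL_apply, t1b_pt_dot, h, mul_zero]
  refine ⟨dotL (pt ψ χ), pt u z, hfv, ?_, ?_, ?_⟩
  · intro h0
    have hne : pt ψ χ ≠ 0 := fun h1 => hψ (pt_eq_zero hχ h1)
    apply hne
    funext p
    have := LinearMap.congr_fun h0 (Pi.single p 1)
    rw [dotL_apply, dotProduct_single_one] at this
    simpa using this
  · exact fun h1 => hu (pt_eq_zero hz h1)
  · apply Units.ext
    rw [Matrix.ext_iff_mulVec]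
    intro x
    rw [tvGL_mulVec, kP_val, t1b_kron_vmv, Matrix.add_mulVec, Matrix.one_mulVec, t1b_vmv_mulVec,
      dotL_apply]

/-! ### linear algebra in `F^a` -/

theorem t1b_single_vecMul (P : Matrix (Fin a) (Fin a) F) (i j : Fin a) :
    (Pi.single i 1 ᵥ* P) j = P i j := by
  rw [Matrix.single_one_vecMul]; rfl

theorem exists_row_not_span (ha : 2 ≤ a) (P : Matrix (Fin a) (Fin a) F)
    (hP : ¬ ∃ c : F, P = c • (1 : Matrix (Fin a) (Fin a) F)) :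
    ∃ ψ : Fin a → F, ¬ ∃ c : F, ψ ᵥ* P = c • ψ := by
  by_contra hcon
  push Not at hcon
  choose lam hlam using hcon
  -- rows
  have hrow : ∀ i j, P i j = lam (Pi.single i 1) * (if j = i then 1 else 0) := by
    intro i j
    have := congrFun (hlam (Pi.single i 1)) j
    rw [t1b_single_vecMul] at this
    rw [this]
    simp [Pi.single_apply]
  have heq : ∀ i j, i ≠ j → lam (Pi.single i 1) = lam (Pi.single j 1) := by
    intro i j hij
    have h1 := hlam (Pi.single i 1 + Pi.single j 1)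
    rw [Matrix.add_vecMul] at h1
    have hi := congrFun h1 i
    have hj := congrFun h1 j
    simp only [Pi.add_apply, Pi.smul_apply, smul_eq_mul, Pi.single_apply, t1b_single_vecMul] at hi hj
    rw [hrow i i, hrow j i] at hi
    rw [hrow i j, hrow j j] at hj
    simp [hij, Ne.symm hij] at hi hj
    rw [hi, hj]
  apply hP
  refine ⟨lam (Pi.single ⟨0, by omega⟩ 1), ?_⟩
  ext i j
  rw [hrow i j, Matrix.smul_apply, Matrix.one_apply, smul_eq_mul]
  by_cases hi : i = ⟨0, by omega⟩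
  · subst hi
    by_cases hji : j = ⟨0, by omega⟩
    · simp [hji]
    · have : (⟨0, by omega⟩ : Fin a) ≠ j := fun h => hji h.symm
      simp [hji, this]
  · rw [heq i _ hi]
    by_cases hji : j = i
    · simp [hji]
    · have : i ≠ j := fun h => hji h.symm
      simp [hji, this]

theorem exists_perp_two (ha : 3 ≤ a) (ψ ψ₂ : Fin a → F) :
    ∃ u : Fin a → F, u ≠ 0 ∧ ψ ⬝ᵥ u = 0 ∧ ψ₂ ⬝ᵥ u = 0 := by
  set f : (Fin a → F) →ₗ[F] (F × F) := (dotL ψ).prod (dotL ψ₂) with hf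
  have hlt : finrank F (F × F) < finrank F (Fin a → F) := by
    simp only [Module.finrank_prod, Module.finrank_self, Module.finrank_fin_fun]
    omega
  have hker : LinearMap.ker f ≠ ⊥ := LinearMap.ker_ne_bot_of_finrank_lt hlt
  obtain ⟨u, hu, hu0⟩ := (Submodule.ne_bot_iff _).1 hker
  refine ⟨u, hu0, ?_, ?_⟩
  · have := congrArg Prod.fst (LinearMap.mem_ker.1 hu)
    simpa [hf, dotL_apply] using this
  · have := congrArg Prod.snd (LinearMap.mem_ker.1 hu)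
    simpa [hf, dotL_apply] using this

theorem exists_perp_not (ψ ψ₂ : Fin a → F) (hne : ¬ ∃ c : F, ψ₂ = c • ψ) :
    ∃ u : Fin a → F, ψ ⬝ᵥ u = 0 ∧ ψ₂ ⬝ᵥ u ≠ 0 := by
  by_contra hcon
  push Not at hcon
  by_cases hψ : ψ = 0
  · apply hne
    refine ⟨0, ?_⟩
    rw [zero_smul]
    funext k
    have := hcon (Pi.single k 1) (by rw [hψ, zero_dotProduct])
    rw [dotProduct_single_one] at this
    exact this
  · obtain ⟨i, hi⟩ : ∃ i, ψ i ≠ 0 := by
      by_contra hc; push Not at hc; exact hψ (funext hc)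
    apply hne
    refine ⟨ψ₂ i / ψ i, ?_⟩
    funext k
    have h1 : ψ ⬝ᵥ (ψ i • Pi.single k 1 - ψ k • Pi.single i 1) = 0 := by
      rw [dotProduct_sub, dotProduct_smul, dotProduct_smul, dotProduct_single_one,
        dotProduct_single_one, smul_eq_mul, smul_eq_mul]
      ring
    have h2 := hcon _ h1
    rw [dotProduct_sub, dotProduct_smul, dotProduct_smul, dotProduct_single_one,
      dotProduct_single_one, smul_eq_mul, smul_eq_mul] at h2
    rw [Pi.smul_apply, smul_eq_mul]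
    field_simp
    linear_combination h2

/-! ### the two cases -/

theorem t1b_main_ge3 (ha : 3 ≤ a) (hX : H0 a b F ≤ X)
    (P : Matrix (Fin a) (Fin a) F) (hP : ¬ ∃ c : F, P = c • (1 : Matrix (Fin a) (Fin a) F))
    (hk : InP X z χ h P) :
    ∃ u ψ : Fin a → F, u ≠ 0 ∧ ψ ≠ 0 ∧ InP X z χ h (vecMulVec u ψ) := by
  obtain ⟨ψ, hψ₂⟩ := exists_row_not_span (by omega) P hP
  have hψ0 : ψ ≠ 0 := by
    intro h0
    apply hψ₂
    refine ⟨0, ?_⟩
    rw [h0, Matrix.zero_vecMul, smul_zero]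
  obtain ⟨u, hu0, hu1, hu2⟩ := exists_perp_two ha ψ (ψ ᵥ* P)
  obtain ⟨u', hu'1, hu'2⟩ := exists_perp_not ψ (ψ ᵥ* P) hψ₂
  have hP1 := inP_D hX hk u ψ hu1
  rw [hu2, zero_smul, sub_zero] at hP1
  have hP2 := inP_D hX hP1 u' ψ hu'1
  have e1 : ψ ᵥ* (vecMulVec u (ψ ᵥ* P) - vecMulVec (P *ᵥ u) ψ) = 0 := by
    rw [Matrix.vecMul_sub, vecMul_vecMulVec, vecMul_vecMulVec, hu1, zero_smul,
      Matrix.dotProduct_mulVec, hu2, zero_smul, sub_zero]
  have e2 : (vecMulVec u (ψ ᵥ* P) - vecMulVec (P *ᵥ u) ψ) *ᵥ u' = ((ψ ᵥ* P) ⬝ᵥ u') • u := by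
    rw [Matrix.sub_mulVec, t1b_vmv_mulVec, t1b_vmv_mulVec, hu'1, zero_smul, sub_zero]
  rw [e1, e2, vecMulVec_zero, zero_dotProduct, zero_smul, sub_zero, zero_sub] at hP2
  have hP3 := inP_neg hP2
  rw [neg_neg] at hP3
  refine ⟨((ψ ᵥ* P) ⬝ᵥ u') • u, ψ, ?_, hψ0, hP3⟩
  exact smul_ne_zero hu'2 hu0

theorem t1b_exists_s [Fintype F] (hq : Fintype.card F ≠ 2) (r : F) : ∃ s : F, s ≠ 0 ∧ s ≠ r := by
  classical
  by_contra hcon
  push Not at hcon
  have hsub : (Finset.univ : Finset F) ⊆ {0, r} := by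
    intro s _
    by_cases hs : s = 0
    · simp [hs]
    · simp [hcon s hs]
  have h1 := Finset.card_le_card hsub
  have h2 : ({0, r} : Finset F).card ≤ 2 := Finset.card_le_two
  rw [Finset.card_univ] at h1
  have h3 : 1 < Fintype.card F := Fintype.one_lt_card
  omega

theorem t1b_main_eq2 [Fintype F] (hq : Fintype.card F ≠ 2)
    {X : Subgroup (GL (Fin 2 × Fin b) F)} {z χ : Fin b → F} {h : χ ⬝ᵥ z = 0}
    (hX : H0 2 b F ≤ X)
    (P : Matrix (Fin 2) (Fin 2) F) (hP : ¬ ∃ c : F, P = c • (1 : Matrix (Fin 2) (Fin 2) F))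
    (hk : InP X z χ h P) :
    ∃ u ψ : Fin 2 → F, u ≠ 0 ∧ ψ ≠ 0 ∧ InP X z χ h (vecMulVec u ψ) := by
  have hψ : (![0, 1] : Fin 2 → F) ≠ 0 := by
    intro h0
    have := congrFun h0 1
    simp at this
  by_cases h21 : P 1 0 = 0
  · -- `P - p11 = (p12, p22 - p11) e₂ᵀ`
    have h1 := inP_sub hk (inP_scalar (h := h) hX (P 0 0))
    have e : P - P 0 0 • (1 : Matrix (Fin 2) (Fin 2) F) =
        vecMulVec ![P 0 1, P 1 1 - P 0 0] ![0, 1] := by
      ext i j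
      fin_cases i <;> fin_cases j <;> simp [vecMulVec_apply, h21]
    rw [e] at h1
    refine ⟨_, _, ?_, hψ, h1⟩
    intro h0
    apply hP
    refine ⟨P 0 0, ?_⟩
    have a1 := congrFun h0 0
    have a2 := congrFun h0 1
    simp at a1 a2
    ext i j
    fin_cases i <;> fin_cases j <;> simp [h21, a1]
    exact (sub_eq_zero.1 a2)
  · obtain ⟨s, hs0, hsr⟩ := t1b_exists_s hq ((P 1 1 - P 0 0) / P 1 0)
    have hu : (![0, 1] : Fin 2 → F) ⬝ᵥ ![s, 0] = 0 := by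
      simp [dotProduct, Fin.sum_univ_two]
    have h1 := inP_D hX hk ![s, 0] ![0, 1] hu
    have h2 := inP_sub h1 (inP_scalar (h := h) hX (s * P 1 0))
    have e : vecMulVec ![s, 0] (![0, 1] ᵥ* P) - vecMulVec (P *ᵥ ![s, 0]) ![0, 1] -
        ((![0, 1] ᵥ* P) ⬝ᵥ ![s, 0]) • vecMulVec ![s, 0] ![0, 1] -
        (s * P 1 0) • (1 : Matrix (Fin 2) (Fin 2) F) =
        vecMulVec ![s * (P 1 1 - P 0 0 - s * P 1 0), -(2 * s * P 1 0)] ![0, 1] := by
      ext i j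
      simp only [Matrix.sub_apply, Matrix.smul_apply, vecMulVec_apply, Matrix.one_apply,
        Matrix.vecMul, Matrix.mulVec, dotProduct, Fin.sum_univ_two, smul_eq_mul]
      fin_cases i <;> fin_cases j <;> simp <;> ring
    rw [e] at h2
    refine ⟨_, _, ?_, hψ, h2⟩
    intro h0
    have a1 := congrFun h0 0
    simp at a1
    rcases a1 with a1 | a1
    · exact hs0 a1
    · apply hsr
      field_simp
      linear_combination -a1

/-- **T1b.** -/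
theorem tv_of_nonscalar [Fintype F] (ha : 2 ≤ a) (hb : 3 ≤ b) (hq : ¬ (a = 2 ∧ Fintype.card F = 2))
    (X : Subgroup (GL (Fin a × Fin b) F)) (hX : H0 a b F ≤ X)
    (z χ : Fin b → F) (hz : z ≠ 0) (hχ : χ ≠ 0) (hχz : χ ⬝ᵥ z = 0)
    (P : Matrix (Fin a) (Fin a) F) (hP : ¬ ∃ c : F, P = c • (1 : Matrix (Fin a) (Fin a) F))
    (k : GL (Fin a × Fin b) F) (hk : k ∈ X) (hkv : k.val = 1 + P ⊗ₖ vecMulVec z χ) :
    ∃ t ∈ X, IsTv t := by
  have hkP : InP X z χ hχz P := by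
    have : k = kP z χ hχz P := Units.ext (by rw [hkv, kP_val])
    unfold InP
    rw [← this]; exact hk
  have key : ∃ u ψ : Fin a → F, u ≠ 0 ∧ ψ ≠ 0 ∧ InP X z χ hχz (vecMulVec u ψ) := by
    by_cases h3 : 3 ≤ a
    · exact t1b_main_ge3 h3 hX P hP hkP
    · obtain rfl : a = 2 := by omega
      have hq' : Fintype.card F ≠ 2 := fun h2 => hq ⟨rfl, h2⟩
      exact t1b_main_eq2 hq' hX P hP hkP
  obtain ⟨u, ψ, hu, hψ, hin⟩ := key
  exact ⟨kP z χ hχz (vecMulVec u ψ), hin, isTv_kP hz hχ u ψ hu hψ⟩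

end Cfsg.Agent.Lib.H2.Tp
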