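/-
UP3-E6c-A2 (helper2, for helper15's unitary phase 3): an orthonormal frame adapted to a unitary cube root `t` of `ω`
in `M_6(F_4)`: `X ∈ GU_6(2)` with `X * tstd ω = t * X`.
Route (no use of `K`): for `x` with `f(x,x) = 1` and `β = f(t x, x)` the vector `y = x + ω β² • t x` satisfies
`f(y,y) = 1`, `f(t y, y) = 0`, so `y, t y, t² y` are orthonormal; second vector in the orthogonal complement.
-/
import Mathlib
import Cfsg.Agent.Lib.H15.UP2Base
import Cfsg.Agent.Lib.H15.UP3Defs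

set_option autoImplicit false
set_option linter.unusedSectionVars false
set_option linter.unusedSimpArgs false
set_option linter.unusedVariables false

namespace Cfsg.Agent.Lib.H2.UP3

open Cfsg Cfsg.Geo Cfsg.Agent.Lib.H15.SUGen Cfsg.Agent.Lib.H15.UP2 Cfsg.Agent.Lib.H15.UP3
open scoped MatrixGroups Matrix

variable {F : Type*} [Field F] [Fintype F] {n : ℕ}

theorem two_eq_zero (hF : Fintype.card F = 2 ^ 2) : (2 : F) = 0 := by
  have := fr_cast_q hF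
  exact_mod_cast this

theorem pow_four_eq (hF : Fintype.card F = 2 ^ 2) (x : F) : x ^ 4 = x := by
  have := FiniteField.pow_card x
  rw [hF] at this
  norm_num at this
  exact this

/-- the adjoint matrix for the hermitian form with `q = 2` -/
def adjM2 (M : Matrix (Fin n) (Fin n) F) : Matrix (Fin n) (Fin n) F := (M.map (fun a => a ^ 2))ᵀ

theorem herm_mulVec_left (hF : Fintype.card F = 2 ^ 2) (M : Matrix (Fin n) (Fin n) F) (u v : Fin n → F) :
    hermForm n F 2 (M *ᵥ u) v = hermForm n F 2 u (adjM2 M *ᵥ v) := by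
  obtain ⟨φ, hφ, hφ2⟩ := Cfsg.Agent.Lib.H4.exists_frob hF
  simp only [hermForm, adjM2, Matrix.mulVec, dotProduct, Matrix.transpose_apply, Matrix.map_apply,
    ← hφ, map_sum, map_mul, hφ2]
  simp only [Finset.sum_mul, Finset.mul_sum]
  rw [Finset.sum_comm]
  refine Finset.sum_congr rfl fun i _ => Finset.sum_congr rfl fun j _ => by ring

/-- the data: a unitary matrix whose cube is `ω` -/
structure TU (ω : F) (t : Matrix (Fin n) (Fin n) F) : Prop where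
  hω : ω ^ 2 + ω + 1 = 0
  cube : ∀ v : Fin n → F, t *ᵥ (t *ᵥ (t *ᵥ v)) = ω • v
  unit : ∀ u v : Fin n → F, hermForm n F 2 (t *ᵥ u) (t *ᵥ v) = hermForm n F 2 u v

theorem omega_ne_zero {ω : F} (hω : ω ^ 2 + ω + 1 = 0) : ω ≠ 0 := by
  rintro rfl
  simp at hω

/-- the key computation: rescaling a vector of norm `1` by `1 + ω β² t` -/
theorem good_of_norm_one (hF : Fintype.card F = 2 ^ 2) {ω : F} {t : Matrix (Fin n) (Fin n) F} (S : TU ω t)
    (x : Fin n → F) (hx : hermForm n F 2 x x = 1) :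
    hermForm n F 2 (x + (ω * hermForm n F 2 (t *ᵥ x) x ^ 2) • (t *ᵥ x))
        (x + (ω * hermForm n F 2 (t *ᵥ x) x ^ 2) • (t *ᵥ x)) = 1 ∧
    hermForm n F 2 (t *ᵥ (x + (ω * hermForm n F 2 (t *ᵥ x) x ^ 2) • (t *ᵥ x)))
        (x + (ω * hermForm n F 2 (t *ᵥ x) x ^ 2) • (t *ᵥ x)) = 0 := by
  have h2 := two_eq_zero hF
  set β := hermForm n F 2 (t *ᵥ x) x with hβ
  have hβ4 := pow_four_eq hF β
  have hω := S.hω
  have h1 : hermForm n F 2 x (t *ᵥ x) = β ^ 2 := by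
    rw [hβ]; exact (hf_conj hF _ _).symm
  have h2' : hermForm n F 2 (t *ᵥ x) (t *ᵥ x) = 1 := by rw [S.unit, hx]
  have h3 : hermForm n F 2 (t *ᵥ (t *ᵥ x)) (t *ᵥ x) = β := by rw [S.unit]
  have h4 : hermForm n F 2 (t *ᵥ (t *ᵥ x)) x = ω * β ^ 2 := by
    have : hermForm n F 2 (t *ᵥ (t *ᵥ (t *ᵥ x))) (t *ᵥ x) = hermForm n F 2 (t *ᵥ (t *ᵥ x)) x := S.unit _ _
    rw [← this, S.cube]
    show hf 2 (ω • x) (t *ᵥ x) = _
    rw [hf_smul_left]
    show ω * hermForm n F 2 x (t *ᵥ x) = _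
    rw [h1]
  set c := ω * β ^ 2 with hc
  constructor
  · show hf 2 (x + c • (t *ᵥ x)) (x + c • (t *ᵥ x)) = 1
    rw [hf_add_left, hf_add_right hF, hf_add_right hF, hf_smul_left, hf_smul_left, hf_smul_right,
      hf_smul_right]
    show hermForm n F 2 x x + c ^ 2 * hermForm n F 2 x (t *ᵥ x) +
      (c * hermForm n F 2 (t *ᵥ x) x + c * (c ^ 2 * hermForm n F 2 (t *ᵥ x) (t *ᵥ x))) = 1
    rw [hx, h1, h2', ← hβ, hc]
    linear_combination (ω ^ 2 * β ^ 2 + ω ^ 3 * β ^ 2) * hβ4 + ω * β ^ 3 * hω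
  · rw [Matrix.mulVec_add, Matrix.mulVec_smul]
    show hf 2 (t *ᵥ x + c • (t *ᵥ (t *ᵥ x))) (x + c • (t *ᵥ x)) = 0
    rw [hf_add_left, hf_add_right hF, hf_add_right hF, hf_smul_left, hf_smul_left, hf_smul_right,
      hf_smul_right]
    show hermForm n F 2 (t *ᵥ x) x + c ^ 2 * hermForm n F 2 (t *ᵥ x) (t *ᵥ x) +
      (c * hermForm n F 2 (t *ᵥ (t *ᵥ x)) x + c * (c ^ 2 * hermForm n F 2 (t *ᵥ (t *ᵥ x)) (t *ᵥ x))) = 0
    rw [h2', h3, h4, ← hβ, hc]
    linear_combination (β + ω ^ 2 * β ^ 4) * h2 + (ω - 1) * β ^ 7 * hω + (β ^ 3 + 1) * hβ4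

/-- an orthonormal `t`-cycle -/
structure Cyc (ω : F) (t : Matrix (Fin n) (Fin n) F) (u0 u1 u2 : Fin n → F) : Prop where
  t0 : t *ᵥ u0 = u1
  t1 : t *ᵥ u1 = u2
  t2 : t *ᵥ u2 = ω • u0
  f00 : hermForm n F 2 u0 u0 = 1
  f11 : hermForm n F 2 u1 u1 = 1
  f22 : hermForm n F 2 u2 u2 = 1
  f01 : hermForm n F 2 u0 u1 = 0
  f10 : hermForm n F 2 u1 u0 = 0
  f02 : hermForm n F 2 u0 u2 = 0
  f20 : hermForm n F 2 u2 u0 = 0
  f12 : hermForm n F 2 u1 u2 = 0
  f21 : hermForm n F 2 u2 u1 = 0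

theorem conj_zero (hF : Fintype.card F = 2 ^ 2) {u v : Fin n → F} (h : hermForm n F 2 u v = 0) :
    hermForm n F 2 v u = 0 := by
  have := hf_conj hF u v
  have h' : hermForm n F 2 v u = (hermForm n F 2 u v) ^ 2 := this.symm
  rw [h', h]; simp

theorem cyc_of_good (hF : Fintype.card F = 2 ^ 2) {ω : F} {t : Matrix (Fin n) (Fin n) F} (S : TU ω t)
    (v : Fin n → F) (h1 : hermForm n F 2 v v = 1) (h0 : hermForm n F 2 (t *ᵥ v) v = 0) :
    Cyc ω t v (t *ᵥ v) (t *ᵥ (t *ᵥ v)) := by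
  have h20 : hermForm n F 2 (t *ᵥ (t *ᵥ v)) v = 0 := by
    have : hermForm n F 2 (t *ᵥ (t *ᵥ (t *ᵥ v))) (t *ᵥ v) = hermForm n F 2 (t *ᵥ (t *ᵥ v)) v := S.unit _ _
    rw [← this, S.cube]
    show hf 2 (ω • v) (t *ᵥ v) = _
    rw [hf_smul_left]
    show ω * hermForm n F 2 v (t *ᵥ v) = 0
    rw [conj_zero hF h0, mul_zero]
  refine ⟨rfl, rfl, S.cube v, h1, by rw [S.unit, h1], by rw [S.unit, S.unit, h1], conj_zero hF h0, h0,
    conj_zero hF h20, h20, ?_, by rw [S.unit, h0]⟩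
  exact conj_zero hF (by rw [S.unit, h0])

/-- the orthogonal complement of a cycle -/
def InW (u0 u1 u2 x : Fin n → F) : Prop :=
  hermForm n F 2 x u0 = 0 ∧ hermForm n F 2 x u1 = 0 ∧ hermForm n F 2 x u2 = 0

theorem InW.add {u0 u1 u2 x y : Fin n → F} (hx : InW u0 u1 u2 x) (hy : InW u0 u1 u2 y) :
    InW u0 u1 u2 (x + y) := by
  refine ⟨?_, ?_, ?_⟩
  · show hf 2 (x + y) u0 = 0
    rw [hf_add_left]; show hermForm n F 2 x u0 + hermForm n F 2 y u0 = 0; rw [hx.1, hy.1, add_zero]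
  · show hf 2 (x + y) u1 = 0
    rw [hf_add_left]; show hermForm n F 2 x u1 + hermForm n F 2 y u1 = 0; rw [hx.2.1, hy.2.1, add_zero]
  · show hf 2 (x + y) u2 = 0
    rw [hf_add_left]; show hermForm n F 2 x u2 + hermForm n F 2 y u2 = 0; rw [hx.2.2, hy.2.2, add_zero]

theorem InW.smul {u0 u1 u2 x : Fin n → F} (c : F) (hx : InW u0 u1 u2 x) : InW u0 u1 u2 (c • x) := by
  refine ⟨?_, ?_, ?_⟩
  · show hf 2 (c • x) u0 = 0
    rw [hf_smul_left]; show c * hermForm n F 2 x u0 = 0; rw [hx.1, mul_zero]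
  · show hf 2 (c • x) u1 = 0
    rw [hf_smul_left]; show c * hermForm n F 2 x u1 = 0; rw [hx.2.1, mul_zero]
  · show hf 2 (c • x) u2 = 0
    rw [hf_smul_left]; show c * hermForm n F 2 x u2 = 0; rw [hx.2.2, mul_zero]

theorem InW.tmul (hF : Fintype.card F = 2 ^ 2) {ω : F} {t : Matrix (Fin n) (Fin n) F} (S : TU ω t)
    {u0 u1 u2 x : Fin n → F} (C : Cyc ω t u0 u1 u2) (hx : InW u0 u1 u2 x) : InW u0 u1 u2 (t *ᵥ x) := by
  refine ⟨?_, ?_, ?_⟩
  · have h1 : hermForm n F 2 (t *ᵥ x) (ω • u0) = 0 := by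
      rw [← C.t2, S.unit, hx.2.2]
    have h2 : hermForm n F 2 (t *ᵥ x) (ω • u0) = ω ^ 2 * hermForm n F 2 (t *ᵥ x) u0 :=
      hf_smul_right ω (t *ᵥ x) u0
    rw [h2] at h1
    rcases mul_eq_zero.mp h1 with h | h
    · exact absurd ((pow_eq_zero_iff (two_ne_zero)).mp h) (omega_ne_zero S.hω)
    · exact h
  · rw [← C.t0, S.unit, hx.1]
  · rw [← C.t1, S.unit, hx.2.1]


theorem norm_eq_one_of_ne (hF : Fintype.card F = 2 ^ 2) (w : Fin n → F) (hw : hermForm n F 2 w w ≠ 0) :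
    hermForm n F 2 w w = 1 := by
  have h := hf_conj hF w w
  have h' : hermForm n F 2 w w * (hermForm n F 2 w w - 1) = 0 := by
    have : (hermForm n F 2 w w) ^ 2 = hermForm n F 2 w w := h
    linear_combination this
  rcases mul_eq_zero.mp h' with h1 | h1
  · exact absurd h1 hw
  · exact sub_eq_zero.mp h1

/-- a vector of norm one in the orthogonal complement of an orthonormal cycle, in dimension 6 -/
theorem exists_norm_one_inW (hF : Fintype.card F = 2 ^ 2) {ω : F} {t : Matrix (Fin 6) (Fin 6) F}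
    (hω : ω ^ 2 + ω + 1 = 0) {u0 u1 u2 : Fin 6 → F} (C : Cyc ω t u0 u1 u2) :
    ∃ w : Fin 6 → F, InW u0 u1 u2 w ∧ hermForm 6 F 2 w w = 1 := by
  -- a non-zero vector of the complement
  let L : (Fin 6 → F) →ₗ[F] (Fin 3 → F) :=
    { toFun := fun x => ![hermForm 6 F 2 x u0, hermForm 6 F 2 x u1, hermForm 6 F 2 x u2]
      map_add' := fun x y => by
        ext i
        fin_cases i <;> simp [Cfsg.Agent.Lib.H4.hermForm_add_left]
      map_smul' := fun a x => by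
        ext i
        fin_cases i <;> simp [Cfsg.Agent.Lib.H4.hermForm_smul_left] }
  have hker : LinearMap.ker L ≠ ⊥ := LinearMap.ker_ne_bot_of_finrank_lt (by simp)
  obtain ⟨x, hxL, hx0⟩ := (Submodule.ne_bot_iff _).mp hker
  have hxL' : L x = 0 := LinearMap.mem_ker.mp hxL
  have hxW : InW u0 u1 u2 x := by
    refine ⟨?_, ?_, ?_⟩
    · have := congrFun hxL' 0; simpa [L] using this
    · have := congrFun hxL' 1; simpa [L] using this
    · have := congrFun hxL' 2; simpa [L] using this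
  -- a partner in the complement
  obtain ⟨z, hz⟩ := herm_nondeg hF hx0
  set y : Fin 6 → F := z - (hermForm 6 F 2 z u0 • u0 + hermForm 6 F 2 z u1 • u1 + hermForm 6 F 2 z u2 • u2)
    with hy
  have hyW : InW u0 u1 u2 y := by
    refine ⟨?_, ?_, ?_⟩
    · show hf 2 (z - (hermForm 6 F 2 z u0 • u0 + hermForm 6 F 2 z u1 • u1 + hermForm 6 F 2 z u2 • u2)) u0 = 0
      rw [hf_sub_left, hf_add_left, hf_add_left, hf_smul_left, hf_smul_left, hf_smul_left]
      show hermForm 6 F 2 z u0 - (hermForm 6 F 2 z u0 * hermForm 6 F 2 u0 u0 +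
        hermForm 6 F 2 z u1 * hermForm 6 F 2 u1 u0 + hermForm 6 F 2 z u2 * hermForm 6 F 2 u2 u0) = 0
      rw [C.f00, C.f10, C.f20]; ring
    · show hf 2 (z - (hermForm 6 F 2 z u0 • u0 + hermForm 6 F 2 z u1 • u1 + hermForm 6 F 2 z u2 • u2)) u1 = 0
      rw [hf_sub_left, hf_add_left, hf_add_left, hf_smul_left, hf_smul_left, hf_smul_left]
      show hermForm 6 F 2 z u1 - (hermForm 6 F 2 z u0 * hermForm 6 F 2 u0 u1 +
        hermForm 6 F 2 z u1 * hermForm 6 F 2 u1 u1 + hermForm 6 F 2 z u2 * hermForm 6 F 2 u2 u1) = 0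
      rw [C.f01, C.f11, C.f21]; ring
    · show hf 2 (z - (hermForm 6 F 2 z u0 • u0 + hermForm 6 F 2 z u1 • u1 + hermForm 6 F 2 z u2 • u2)) u2 = 0
      rw [hf_sub_left, hf_add_left, hf_add_left, hf_smul_left, hf_smul_left, hf_smul_left]
      show hermForm 6 F 2 z u2 - (hermForm 6 F 2 z u0 * hermForm 6 F 2 u0 u2 +
        hermForm 6 F 2 z u1 * hermForm 6 F 2 u1 u2 + hermForm 6 F 2 z u2 * hermForm 6 F 2 u2 u2) = 0
      rw [C.f02, C.f12, C.f22]; ring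
  have hyx : hermForm 6 F 2 y x = hermForm 6 F 2 z x := by
    show hf 2 (z - (hermForm 6 F 2 z u0 • u0 + hermForm 6 F 2 z u1 • u1 + hermForm 6 F 2 z u2 • u2)) x = _
    rw [hf_sub_left, hf_add_left, hf_add_left, hf_smul_left, hf_smul_left, hf_smul_left]
    show hermForm 6 F 2 z x - (hermForm 6 F 2 z u0 * hermForm 6 F 2 u0 x +
      hermForm 6 F 2 z u1 * hermForm 6 F 2 u1 x + hermForm 6 F 2 z u2 * hermForm 6 F 2 u2 x) = _
    rw [conj_zero hF hxW.1, conj_zero hF hxW.2.1, conj_zero hF hxW.2.2]; ring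
  have ha : hermForm 6 F 2 y x ≠ 0 := by rw [hyx]; exact hz
  -- a vector of non-zero norm
  obtain ⟨w, hwW, hw⟩ : ∃ w : Fin 6 → F, InW u0 u1 u2 w ∧ hermForm 6 F 2 w w ≠ 0 := by
    by_cases hxx : hermForm 6 F 2 x x = 0
    · by_cases hyy : hermForm 6 F 2 y y = 0
      · set a := hermForm 6 F 2 y x with hadef
        have hxy : hermForm 6 F 2 x y = a ^ 2 := (hf_conj hF y x).symm
        refine ⟨y + (ω * a) • x, hyW.add (hxW.smul _), ?_⟩
        have : hermForm 6 F 2 (y + (ω * a) • x) (y + (ω * a) • x) = -a ^ 3 := by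
          show hf 2 (y + (ω * a) • x) (y + (ω * a) • x) = _
          rw [hf_add_left, hf_add_right hF, hf_add_right hF, hf_smul_left, hf_smul_left, hf_smul_right,
            hf_smul_right]
          show hermForm 6 F 2 y y + (ω * a) ^ 2 * hermForm 6 F 2 y x +
            ((ω * a) * hermForm 6 F 2 x y + (ω * a) * ((ω * a) ^ 2 * hermForm 6 F 2 x x)) = _
          rw [hyy, hxx, hxy, ← hadef]
          linear_combination a ^ 3 * hω
        rw [this]
        exact neg_ne_zero.mpr (pow_ne_zero 3 ha)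
      · exact ⟨y, hyW, hyy⟩
    · exact ⟨x, hxW, hxx⟩
  exact ⟨w, hwW, norm_eq_one_of_ne hF w hw⟩

/-- the frame -/
theorem exists_frame (hF : Fintype.card F = 2 ^ 2) {ω : F} {t : Matrix (Fin 6) (Fin 6) F} (S : TU ω t) :
    ∃ X : GL (Fin 6) F, X ∈ GU 6 F 2 ∧ (X : Matrix (Fin 6) (Fin 6) F) * tstd ω = t * (X : Matrix (Fin 6) (Fin 6) F) := by
  have hx₀ : hermForm 6 F 2 (Pi.single 0 1) (Pi.single 0 1) = 1 := by
    have := hf_single_left (q := 2) hF (Pi.single (0 : Fin 6) (1 : F)) 0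
    show hf 2 (Pi.single 0 1) (Pi.single 0 1) = 1
    rw [this]; simp
  have g1 := good_of_norm_one hF S _ hx₀
  obtain ⟨v₁, hv₁⟩ : ∃ v : Fin 6 → F, v = Pi.single 0 1 +
    (ω * hermForm 6 F 2 (t *ᵥ Pi.single 0 1) (Pi.single 0 1) ^ 2) • (t *ᵥ Pi.single 0 1) := ⟨_, rfl⟩
  rw [← hv₁] at g1
  have C1 := cyc_of_good hF S v₁ g1.1 g1.2
  obtain ⟨w, hwW, hw1⟩ := exists_norm_one_inW hF S.hω C1
  have g2 := good_of_norm_one hF S w hw1
  have hW0 : InW v₁ (t *ᵥ v₁) (t *ᵥ (t *ᵥ v₁))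
      (w + (ω * hermForm 6 F 2 (t *ᵥ w) w ^ 2) • (t *ᵥ w)) :=
    hwW.add ((hwW.tmul hF S C1).smul _)
  obtain ⟨v₂, hv₂⟩ : ∃ v : Fin 6 → F, v = w + (ω * hermForm 6 F 2 (t *ᵥ w) w ^ 2) • (t *ᵥ w) := ⟨_, rfl⟩
  rw [← hv₂] at g2 hW0
  have C2 := cyc_of_good hF S v₂ g2.1 g2.2
  have hW1 := hW0.tmul hF S C1
  have hW2 := hW1.tmul hF S C1
  set c : Fin 6 → (Fin 6 → F) := ![v₁, t *ᵥ v₁, t *ᵥ (t *ᵥ v₁), v₂, t *ᵥ v₂, t *ᵥ (t *ᵥ v₂)] with hc
  have gram : ∀ i j, hermForm 6 F 2 (c i) (c j) = if i = j then 1 else 0 := by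
    intro i j
    fin_cases i <;> fin_cases j <;>
      simp [-Matrix.mulVec_mulVec, hc, C1.f00, C1.f11, C1.f22, C1.f01, C1.f10, C1.f02, C1.f20, C1.f12, C1.f21,
        C2.f00, C2.f11, C2.f22, C2.f01, C2.f10, C2.f02, C2.f20, C2.f12, C2.f21,
        hW0.1, hW0.2.1, hW0.2.2, hW1.1, hW1.2.1, hW1.2.2, hW2.1, hW2.2.1, hW2.2.2,
        conj_zero hF hW0.1, conj_zero hF hW0.2.1, conj_zero hF hW0.2.2,
        conj_zero hF hW1.1, conj_zero hF hW1.2.1, conj_zero hF hW1.2.2,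
        conj_zero hF hW2.1, conj_zero hF hW2.2.1, conj_zero hF hW2.2.2]
  set X : Matrix (Fin 6) (Fin 6) F := Matrix.of fun i j => c j i with hX
  have hleft : adjM2 X * X = 1 := by
    ext i j
    have h1 : (adjM2 X * X) i j = hermForm 6 F 2 (c j) (c i) := by
      simp only [Matrix.mul_apply, adjM2, Matrix.transpose_apply, Matrix.map_apply, hX, Matrix.of_apply,
        hermForm]
      exact Finset.sum_congr rfl fun k _ => mul_comm _ _
    rw [h1, gram j i, Matrix.one_apply]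
    by_cases hij : i = j
    · rw [if_pos hij, if_pos hij.symm]
    · rw [if_neg hij, if_neg (fun h => hij h.symm)]
  refine ⟨⟨X, adjM2 X, mul_eq_one_comm.mp hleft, hleft⟩, ?_, ?_⟩
  · rw [mem_GU_iff]
    intro u v
    show hermForm 6 F 2 (X *ᵥ u) (X *ᵥ v) = hermForm 6 F 2 u v
    rw [herm_mulVec_left hF, Matrix.mulVec_mulVec, hleft, Matrix.one_mulVec]
  · show X * tstd ω = t * X
    ext i j
    have hR : (t * X) i j = (t *ᵥ c j) i := rfl
    have hL : (X * tstd ω) i j = ∑ k, c k i * tstd ω k j := rfl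
    rw [hR, hL]
    have e0 := congrFun C1.t2 i
    have e1 := congrFun C2.t2 i
    fin_cases j <;> simp [-Matrix.mulVec_mulVec, Fin.sum_univ_succ, tstd, hc] <;> first | rw [e0] | rw [e1]
    all_goals simp [mul_comm]

/-- **UP3-E6c-A2** -/
theorem exists_frame_of_cube_root {q : ℕ} (hF : Fintype.card F = q ^ 2) (hq : q = 2)
    (K : Subalgebra F (Matrix (Fin 6) (Fin 6) F)) (hK : IsFieldSubalgebra 3 K)
    (hadj : IsAdjointClosedFor (hermForm 6 F q) K) (ω : F) (t : Matrix (Fin 6) (Fin 6) F) (hω : ω ^ 2 + ω + 1 = 0)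
    (htK : t ∈ K) (ht3 : t ^ 3 = ω • (1 : Matrix (Fin 6) (Fin 6) F))
    (htU : ∀ u v : Fin 6 → F, hermForm 6 F q (t *ᵥ u) (t *ᵥ v) = hermForm 6 F q u v) :
    ∃ X : GL (Fin 6) F, X ∈ GU 6 F q ∧ (X : Matrix (Fin 6) (Fin 6) F) * tstd ω = t * (X : Matrix (Fin 6) (Fin 6) F) := by
  subst hq
  apply exists_frame hF
  refine ⟨hω, ?_, htU⟩
  intro v
  rw [Matrix.mulVec_mulVec, Matrix.mulVec_mulVec, ← pow_two, ← pow_succ, ht3, Matrix.smul_mulVec, Matrix.one_mulVec]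

end Cfsg.Agent.Lib.H2.UP3
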