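import Cfsg.Agent.S0734
import Cfsg.Agent.S0707

set_option autoImplicit false
set_option linter.unusedSectionVars false

/-!
# S0720 (Wielandt, degree `2p`), piece SCHUR: a primitive group of degree `2p` containing a `2p`-cycle is
doubly transitive (helper2)

`A` is the adjacency matrix over `ZMod p` of an orbital; `A = ∑_{k ∈ T} Π ^ k` (`Π` the matrix of the cycle `g`),
so `A ^ p = ∑_{k ∈ T} Π ^ (k p)`, and `A ^ p` is `G`-invariant.
-/

namespace Cfsg.Agent.Lib.H2.W2P

open Equiv

section frob

/-- Frobenius for pairwise commuting elements -/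
theorem sum_pow_char_comm {R : Type*} [Ring R] (p : ℕ) [Fact p.Prime] [CharP R p] {ι : Type*}
    (s : Finset ι) (f : ι → R) (hc : ∀ i ∈ s, ∀ j ∈ s, Commute (f i) (f j)) :
    (∑ i ∈ s, f i) ^ p = ∑ i ∈ s, f i ^ p := by
  classical
  induction s using Finset.induction_on with
  | empty => simp [zero_pow (Fact.out : p.Prime).ne_zero]
  | insert i s hi ih =>
    rw [Finset.sum_insert hi, Finset.sum_insert hi, add_pow_char_of_commute, ih]
    · intro j hj k hk
      exact hc j (Finset.mem_insert_of_mem hj) k (Finset.mem_insert_of_mem hk)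
    · apply Commute.sum_right
      intro j hj
      exact hc i (Finset.mem_insert_self _ _) j (Finset.mem_insert_of_mem hj)

theorem card_odd_range (m : ℕ) : ((Finset.range (2 * m)).filter Odd).card = m := by
  induction m with
  | zero => simp
  | succ m ih =>
    have h1 : Odd (2 * m + 1) := ⟨m, rfl⟩
    have h2 : ¬ Odd (2 * m) := by
      rw [Nat.not_odd_iff_even]
      exact ⟨m, by ring⟩
    rw [show 2 * (m + 1) = 2 * m + 1 + 1 by ring, Finset.range_add_one, Finset.filter_insert,
      if_pos h1, Finset.range_add_one, Finset.filter_insert, if_neg h2,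
      Finset.card_insert_of_notMem, ih]
    simp

end frob

section cyc

variable {α : Type*} [Fintype α] {g : Perm α} {n : ℕ}

theorem perm_inv_apply_self (f : Perm α) (x : α) : f⁻¹ (f x) = x := by simp

theorem perm_apply_inv_self (f : Perm α) (x : α) : f (f⁻¹ x) = x := by simp

/-- the powers `< n` of a full cycle of order `n` act differently on every point -/
theorem pow_inj_of_cycle (hcyc : g.IsCycle) (hmv : ∀ u : α, g u ≠ u) (hord : orderOf g = n)
    {k k' : ℕ} (hk : k < n) (hk' : k' < n) (u : α) (h : (g ^ k) u = (g ^ k') u) : k = k' := by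
  have key : ∀ {k k' : ℕ}, k ≤ k' → k' < n → (g ^ k) u = (g ^ k') u → k = k' := by
    intro k k' hle hk' h
    have h1 : (g ^ (k' - k)) ((g ^ k) u) = (g ^ k) u := by
      rw [← Perm.mul_apply, ← pow_add, Nat.sub_add_cancel hle, ← h]
    have h2 : g ^ (k' - k) = 1 := (hcyc.pow_eq_one_iff' (hmv _)).2 h1
    have h3 := orderOf_dvd_of_pow_eq_one h2
    rw [hord] at h3
    have h4 := Nat.eq_zero_of_dvd_of_lt h3 (by omega)
    omega
  rcases le_total k k' with hle | hle
  · exact key hle hk' h
  · exact (key hle hk h.symm).symm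

theorem exists_pow_lt_of_cycle (hcyc : g.IsCycle) (hmv : ∀ u : α, g u ≠ u) (hord : orderOf g = n)
    (hn : 0 < n) (u v : α) : ∃ k < n, (g ^ k) u = v := by
  obtain ⟨i, hi⟩ := hcyc.exists_pow_eq (hmv u) (hmv v)
  refine ⟨i % n, Nat.mod_lt _ hn, ?_⟩
  rw [← hord, pow_mod_orderOf]
  exact hi

end cyc

section orbital

variable {α : Type*} [Fintype α] [DecidableEq α] (G : Subgroup (Perm α)) (g : Perm α) (a b : α)
  (n : ℕ)

/-- the orbital of `(a, b)` -/
def Orb (u v : α) : Prop := ∃ h ∈ G, h a = u ∧ h b = v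

theorem Orb.smul_iff {h : Perm α} (hh : h ∈ G) (u v : α) :
    Orb G a b (h u) (h v) ↔ Orb G a b u v := by
  constructor
  · rintro ⟨x, hx, e1, e2⟩
    refine ⟨h⁻¹ * x, G.mul_mem (G.inv_mem hh) hx, ?_, ?_⟩
    · rw [Perm.mul_apply, e1, perm_inv_apply_self]
    · rw [Perm.mul_apply, e2, perm_inv_apply_self]
  · rintro ⟨x, hx, rfl, rfl⟩
    exact ⟨h * x, G.mul_mem hh hx, rfl, rfl⟩

/-- the exponents `k < n` with `g ^ k a` in the suborbit of `b` -/
noncomputable def Tset : Finset ℕ := by
  classical exact (Finset.range n).filter fun k => Orb G a b a ((g ^ k) a)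

theorem mem_Tset {k : ℕ} : k ∈ Tset G g a b n ↔ k < n ∧ Orb G a b a ((g ^ k) a) := by
  classical
  unfold Tset
  rw [Finset.mem_filter, Finset.mem_range]

variable {G g a b n}

theorem orb_iff (hg : g ∈ G) (hcyc : g.IsCycle) (hmv : ∀ u : α, g u ≠ u) (hord : orderOf g = n)
    (hn : 0 < n) (u v : α) : Orb G a b u v ↔ ∃ k ∈ Tset G g a b n, (g ^ k) u = v := by
  constructor
  · rintro ⟨h, hh, rfl, rfl⟩
    obtain ⟨i, hi, hiu⟩ := exists_pow_lt_of_cycle hcyc hmv hord hn a (h a)
    obtain ⟨k, hk, hkv⟩ := exists_pow_lt_of_cycle hcyc hmv hord hn a ((g ^ i)⁻¹ (h b))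
    have hkT : k ∈ Tset G g a b n := by
      refine (mem_Tset G g a b n).2 ⟨hk, (g ^ i)⁻¹ * h,
        G.mul_mem (G.inv_mem (G.pow_mem hg i)) hh, ?_, ?_⟩
      · rw [Perm.mul_apply, ← hiu, perm_inv_apply_self]
      · rw [Perm.mul_apply, hkv]
    refine ⟨k, hkT, ?_⟩
    rw [← hiu, ← Perm.mul_apply, pow_mul_comm, Perm.mul_apply, hkv, perm_apply_inv_self]
  · rintro ⟨k, hk, rfl⟩
    obtain ⟨-, h, hh, ha, hb⟩ := (mem_Tset G g a b n).1 hk
    obtain ⟨i, hi, hiu⟩ := exists_pow_lt_of_cycle hcyc hmv hord hn a u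
    refine ⟨g ^ i * h, G.mul_mem (G.pow_mem hg i) hh, ?_, ?_⟩
    · rw [Perm.mul_apply, ha, hiu]
    · rw [Perm.mul_apply, hb, ← hiu, ← Perm.mul_apply, ← Perm.mul_apply, pow_mul_comm]

end orbital

section matrix

variable {α : Type*} [Fintype α] [DecidableEq α] (p : ℕ)

theorem permMatrix_apply' (σ : Perm α) (u v : α) :
    σ.permMatrix (ZMod p) u v = if σ u = v then 1 else 0 := by
  simp [Equiv.Perm.permMatrix, PEquiv.toMatrix_apply, Equiv.toPEquiv_apply, eq_comm]

theorem permMatrix_pow' (σ : Perm α) (k : ℕ) :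
    (σ ^ k).permMatrix (ZMod p) = (σ.permMatrix (ZMod p)) ^ k := by
  induction k with
  | zero => simp
  | succ k ih => rw [pow_succ, Matrix.permMatrix_mul, ih, pow_succ']

variable (G : Subgroup (Perm α)) (g : Perm α) (a b : α) (n : ℕ)

/-- the adjacency matrix of the orbital of `(a, b)`, as a polynomial in the matrix of `g` -/
noncomputable def AM : Matrix α α (ZMod p) := ∑ k ∈ Tset G g a b n, (g.permMatrix (ZMod p)) ^ k

variable {G g a b n}

open Classical in
theorem AM_apply (hg : g ∈ G) (hcyc : g.IsCycle) (hmv : ∀ u : α, g u ≠ u) (hord : orderOf g = n)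
    (hn : 0 < n) (u v : α) : AM p G g a b n u v = if Orb G a b u v then 1 else 0 := by
  unfold AM
  rw [Matrix.sum_apply]
  simp only [← permMatrix_pow', permMatrix_apply']
  by_cases hO : Orb G a b u v
  · rw [if_pos hO]
    obtain ⟨k0, hk0, hk0v⟩ := (orb_iff hg hcyc hmv hord hn u v).1 hO
    rw [Finset.sum_eq_single_of_mem k0 hk0, if_pos hk0v]
    intro k hk hne
    rw [if_neg]
    intro hkv
    exact hne (pow_inj_of_cycle hcyc hmv hord ((mem_Tset G g a b n).1 hk).1
      ((mem_Tset G g a b n).1 hk0).1 u (hkv.trans hk0v.symm))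
  · rw [if_neg hO]
    apply Finset.sum_eq_zero
    intro k hk
    rw [if_neg]
    intro hkv
    exact hO ((orb_iff hg hcyc hmv hord hn u v).2 ⟨k, hk, hkv⟩)

/-- the powers of the adjacency matrix are `G`-invariant -/
theorem AM_pow_smul (hg : g ∈ G) (hcyc : g.IsCycle) (hmv : ∀ u : α, g u ≠ u) (hord : orderOf g = n)
    (hn : 0 < n) {h : Perm α} (hh : h ∈ G) (m : ℕ) (u v : α) :
    (AM p G g a b n ^ m) (h u) (h v) = (AM p G g a b n ^ m) u v := by
  classical
  induction m generalizing u v with
  | zero =>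
    rw [pow_zero, Matrix.one_apply, Matrix.one_apply]
    simp only [h.injective.eq_iff]
  | succ m ih =>
    rw [pow_succ, Matrix.mul_apply, Matrix.mul_apply, ← Equiv.sum_comp h]
    apply Finset.sum_congr rfl
    intro w _
    rw [ih, AM_apply p hg hcyc hmv hord hn, AM_apply p hg hcyc hmv hord hn]
    simp only [Orb.smul_iff G a b hh]

/-- Frobenius -/
theorem AM_pow_p [Fact p.Prime] [Nonempty α] (u v : α) :
    (AM p G g a b n ^ p) u v = ∑ k ∈ Tset G g a b n, if (g ^ (k * p)) u = v then 1 else 0 := by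
  unfold AM
  rw [sum_pow_char_comm p _ _ (fun i _ j _ => Commute.pow_pow_self _ i j), Matrix.sum_apply]
  apply Finset.sum_congr rfl
  intro k _
  rw [← pow_mul, ← permMatrix_pow', permMatrix_apply']

end matrix

section main

variable {α : Type*} [Fintype α] [DecidableEq α]

/-- the dichotomy: the odd exponents of a suborbit are none or all -/
theorem odd_dichotomy {p : ℕ} [Fact p.Prime] (G : Subgroup (Perm α)) {g : Perm α} (hg : g ∈ G)
    (hcyc : g.IsCycle) (hmv : ∀ u : α, g u ≠ u) (hord : orderOf g = 2 * p) (a b : α)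
    {h : Perm α} (hh : h ∈ G) (hha : h a = a) (hhz : h ((g ^ p) a) ≠ (g ^ p) a) :
    (∀ k ∈ Tset G g a b (2 * p), ¬ Odd k) ∨
      ∀ k < 2 * p, Odd k → k ∈ Tset G g a b (2 * p) := by
  have hp := (Fact.out : p.Prime)
  have hn : 0 < 2 * p := by have := hp.pos; omega
  have : Nonempty α := ⟨a⟩
  have h2p : g ^ (2 * p) = 1 := by rw [← hord]; exact pow_orderOf_eq_one g
  have hza : (g ^ p) a ≠ a := by
    intro h0
    have := pow_inj_of_cycle hcyc hmv hord (k := p) (k' := 0) (by omega) hn a (by simpa using h0)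
    exact hp.ne_zero this
  have hodd : ∀ k, Odd k → g ^ (k * p) = g ^ p := by
    rintro k ⟨j, rfl⟩
    rw [show (2 * j + 1) * p = 2 * p * j + p by ring, pow_add, pow_mul, h2p, one_pow, one_mul]
  have heven : ∀ k, ¬ Odd k → g ^ (k * p) = 1 := by
    intro k hk
    rw [Nat.not_odd_iff_even] at hk
    obtain ⟨j, rfl⟩ := hk
    rw [show (j + j) * p = 2 * p * j by ring, pow_mul, h2p, one_pow]
  set T := Tset G g a b (2 * p) with hT
  have e1 : (AM p G g a b (2 * p) ^ p) a ((g ^ p) a) = ((T.filter Odd).card : ZMod p) := by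
    rw [AM_pow_p, Finset.card_filter, Nat.cast_sum]
    apply Finset.sum_congr rfl
    intro k _
    by_cases hk : Odd k
    · rw [hodd k hk, if_pos rfl, if_pos hk, Nat.cast_one]
    · rw [heven k hk, if_neg hk, if_neg, Nat.cast_zero]
      rw [Perm.one_apply]
      exact hza.symm
  have e2 : (AM p G g a b (2 * p) ^ p) a (h ((g ^ p) a)) = 0 := by
    rw [AM_pow_p]
    apply Finset.sum_eq_zero
    intro k _
    rw [if_neg]
    by_cases hk : Odd k
    · rw [hodd k hk]
      exact fun e => hhz e.symm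
    · rw [heven k hk, Perm.one_apply]
      intro e
      have h1 : h a = h ((g ^ p) a) := by rw [hha]; exact e
      exact hza (h.injective h1).symm
  have e3 := AM_pow_smul (a := a) (b := b) p hg hcyc hmv hord hn hh p a ((g ^ p) a)
  rw [hha, e2, e1] at e3
  have hdvd : p ∣ (T.filter Odd).card := (ZMod.natCast_eq_zero_iff _ _).1 e3.symm
  have hsub : T.filter Odd ⊆ (Finset.range (2 * p)).filter Odd := by
    intro k hk
    rw [Finset.mem_filter] at hk ⊢
    exact ⟨Finset.mem_range.2 ((mem_Tset G g a b _).1 hk.1).1, hk.2⟩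
  have hle := Finset.card_le_card hsub
  rw [card_odd_range] at hle
  obtain ⟨c, hc⟩ := hdvd
  have hc01 : c = 0 ∨ c = 1 := by
    rcases c with _ | _ | c
    · left; rfl
    · right; rfl
    · exfalso
      rw [hc] at hle
      nlinarith [hp.pos]
  rcases hc01 with rfl | rfl
  · left
    intro k hk hodd'
    have hmem : k ∈ T.filter Odd := Finset.mem_filter.2 ⟨hk, hodd'⟩
    have hempty : T.filter Odd = ∅ := Finset.card_eq_zero.1 (by rw [hc, mul_zero])
    rw [hempty] at hmem
    exact absurd hmem (Finset.notMem_empty _)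
  · right
    intro k hk hodd'
    have heq : T.filter Odd = (Finset.range (2 * p)).filter Odd :=
      Finset.eq_of_subset_of_card_le hsub (by rw [card_odd_range, hc, mul_one])
    have hmem : k ∈ (Finset.range (2 * p)).filter Odd :=
      Finset.mem_filter.2 ⟨Finset.mem_range.2 hk, hodd'⟩
    rw [← heq] at hmem
    exact (Finset.mem_filter.1 hmem).1

/-- **SCHUR** -/
theorem schur_two_p {α : Type*} [Fintype α] [DecidableEq α] {p : ℕ} (hp : p.Prime) (hp2 : p ≠ 2)
    (hα : Fintype.card α = 2 * p) (G : Subgroup (Equiv.Perm α)) (hG : MulAction.IsPreprimitive G α)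
    (g : Equiv.Perm α) (hg : g ∈ G) (hcyc : g.IsCycle) (hsupp : g.support.card = 2 * p) :
    MulAction.IsMultiplyPretransitive G α 2 := by
  have : Fact p.Prime := ⟨hp⟩
  have hp1 := hp.one_lt
  have hn : 0 < 2 * p := by omega
  have hmv : ∀ u : α, g u ≠ u := by
    intro u
    rw [← Perm.mem_support, Finset.eq_univ_of_card g.support (by rw [hsupp, hα])]
    exact Finset.mem_univ u
  have hord : orderOf g = 2 * p := by rw [hcyc.orderOf, hsupp]
  have h2p : g ^ (2 * p) = 1 := by rw [← hord]; exact pow_orderOf_eq_one g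
  obtain ⟨a⟩ : Nonempty α := by
    rw [← Fintype.card_pos_iff, hα]
    exact hn
  have hza : (g ^ p) a ≠ a := by
    intro h0
    have := pow_inj_of_cycle hcyc hmv hord (k := p) (k' := 0) (by omega) hn a (by simpa using h0)
    omega
  have hzz : ∀ u, (g ^ p) ((g ^ p) u) = u := by
    intro u
    rw [← Perm.mul_apply, ← pow_add, ← two_mul, h2p, Perm.one_apply]
  by_cases hfix : ∀ h ∈ G, h a = a → h ((g ^ p) a) = (g ^ p) a
  · -- equal stabilisers: impossible
    exfalso
    have := hG
    have hnp : ¬ (Nat.card α).Prime := by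
      rw [Nat.card_eq_fintype_card, hα]
      intro h2
      rcases Nat.prime_mul_iff.1 h2 with ⟨_, h1⟩ | ⟨_, h1⟩
      · omega
      · omega
    apply Cfsg.Agent.S0707.result G (Or.inl hnp) (a := a) (b := (g ^ p) a) hza.symm
    ext ⟨h, hh⟩
    simp only [MulAction.mem_stabilizer_iff, Subgroup.mk_smul, Perm.smul_def]
    constructor
    · exact hfix h hh
    · intro hz
      have hzG : g ^ p ∈ G := G.pow_mem hg p
      have h1 := hfix ((g ^ p)⁻¹ * h * g ^ p) (G.mul_mem (G.mul_mem (G.inv_mem hzG) hh) hzG)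
        (by rw [Perm.mul_apply, Perm.mul_apply, hz, perm_inv_apply_self])
      rw [Perm.mul_apply, Perm.mul_apply, hzz] at h1
      have h2 : h a = (g ^ p) ((g ^ p) a) := by rw [← h1, perm_apply_inv_self]
      rw [h2, hzz]
  · simp only [not_forall, exists_prop] at hfix
    obtain ⟨h, hh, hha, hhz⟩ := hfix
    have hdich := fun b => odd_dichotomy G hg hcyc hmv hord a b hh hha hhz
    set b₀ := g a with hb₀
    have h1T : 1 ∈ Tset G g a b₀ (2 * p) :=
      (mem_Tset G g a b₀ _).2 ⟨by omega, 1, G.one_mem, rfl, by rw [pow_one, Perm.one_apply]⟩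
    have hoddT : ∀ k < 2 * p, Odd k → k ∈ Tset G g a b₀ (2 * p) := by
      rcases hdich b₀ with h0 | h0
      · exact absurd odd_one (h0 1 h1T)
      · exact h0
    have claim : ∀ k, 0 < k → k < 2 * p → Orb G a b₀ a ((g ^ k) a) := by
      intro k hk0 hk
      by_cases hko : Odd k
      · exact ((mem_Tset G g a b₀ _).1 (hoddT k hk hko)).2
      · by_contra hcon
        set b' := (g ^ k) a with hb'
        have hab' : a ≠ b' := by
          intro e
          have := pow_inj_of_cycle hcyc hmv hord (k := 0) (k' := k) hn hk a (by simpa using e)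
          omega
        have hevenT : ∀ k' ∈ Tset G g a b' (2 * p), ¬ Odd k' := by
          rcases hdich b' with h0 | h0
          · exact h0
          · exfalso
            have h1 := h0 1 (by omega) odd_one
            obtain ⟨-, x, hx, hxa, hxb⟩ := (mem_Tset G g a b' _).1 h1
            apply hcon
            refine ⟨x⁻¹, G.inv_mem hx, ?_, ?_⟩
            · rw [Perm.inv_eq_iff_eq]
              exact hxa.symm
            · rw [Perm.inv_eq_iff_eq, hxb, pow_one]
        have := hG
        have : Nontrivial α := ⟨⟨a, b', hab'⟩⟩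
        have hconn := (Cfsg.Agent.S0734.result (G := ↥G) (Ω := α)).1 hG a b' hab'
        let E : α → Prop := fun x => ∃ i : ℕ, (g ^ (2 * i)) a = x
        have hstep : ∀ x y,
            (SimpleGraph.fromRel fun x y : α => ∃ s : ↥G, s • a = x ∧ s • b' = y).Adj x y →
              E x → E y := by
          intro x y hadj hx
          rw [SimpleGraph.fromRel_adj] at hadj
          obtain ⟨i, rfl⟩ := hx
          rcases hadj.2 with ⟨s, hs1, hs2⟩ | ⟨s, hs1, hs2⟩
          · have hO : Orb G a b' ((g ^ (2 * i)) a) y := ⟨s.1, s.2, hs1, hs2⟩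
            obtain ⟨k', hk', hk'y⟩ := (orb_iff hg hcyc hmv hord hn _ _).1 hO
            have hev := hevenT k' hk'
            rw [Nat.not_odd_iff_even] at hev
            obtain ⟨j, rfl⟩ := hev
            refine ⟨j + i, ?_⟩
            rw [← hk'y, ← Perm.mul_apply, ← pow_add]
            congr 2
            ring
          · have hO : Orb G a b' y ((g ^ (2 * i)) a) := ⟨s.1, s.2, hs1, hs2⟩
            obtain ⟨k', hk', hk'y⟩ := (orb_iff hg hcyc hmv hord hn _ _).1 hO
            have hk'lt := ((mem_Tset G g a b' _).1 hk').1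
            have hev := hevenT k' hk'
            rw [Nat.not_odd_iff_even] at hev
            obtain ⟨j, rfl⟩ := hev
            refine ⟨(p - j) + i, ?_⟩
            have hback : (g ^ (2 * (p - j))) ((g ^ (j + j)) y) = y := by
              rw [← Perm.mul_apply, ← pow_add, show 2 * (p - j) + (j + j) = 2 * p by omega, h2p,
                Perm.one_apply]
            rw [← hback, hk'y, ← Perm.mul_apply, ← pow_add]
            congr 2
            ring
        have hreach : ∀ y,
            (SimpleGraph.fromRel fun x y : α => ∃ s : ↥G, s • a = x ∧ s • b' = y).Reachable a y →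
              E y := by
          intro y hy
          rw [SimpleGraph.reachable_iff_reflTransGen] at hy
          induction hy with
          | refl => exact ⟨0, by simp⟩
          | tail _ hadj ih => exact hstep _ _ hadj ih
        obtain ⟨i, hi⟩ := hreach (g a) (hconn.preconnected a (g a))
        have h3 : (g ^ ((2 * i) % (2 * p))) a = (g ^ 1) a := by
          rw [← hord, pow_mod_orderOf, pow_one]
          exact hi
        have h4 := pow_inj_of_cycle hcyc hmv hord (Nat.mod_lt _ hn) (by omega : 1 < 2 * p) a h3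
        rw [Nat.mul_mod_mul_left] at h4
        omega
    have hM : ∀ a1 b1 : α, a1 ≠ b1 → ∃ x ∈ G, x a = a1 ∧ x b₀ = b1 := by
      intro a1 b1 hne
      obtain ⟨i, hi, hia⟩ := exists_pow_lt_of_cycle hcyc hmv hord hn a a1
      obtain ⟨k, hk, hkv⟩ := exists_pow_lt_of_cycle hcyc hmv hord hn a ((g ^ i)⁻¹ b1)
      have hk0 : 0 < k := by
        rcases Nat.eq_zero_or_pos k with rfl | h0
        · exfalso
          apply hne
          rw [pow_zero, Perm.one_apply] at hkv
          rw [← hia, hkv, perm_apply_inv_self]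
        · exact h0
      obtain ⟨x, hx, hxa, hxb⟩ := claim k hk0 hk
      refine ⟨g ^ i * x, G.mul_mem (G.pow_mem hg i) hx, ?_, ?_⟩
      · rw [Perm.mul_apply, hxa, hia]
      · rw [Perm.mul_apply, hxb, hkv, perm_apply_inv_self]
    rw [MulAction.is_two_pretransitive_iff]
    intro a1 b1 c1 d1 h1 h2
    obtain ⟨x1, hx1, hx1a, hx1b⟩ := hM a1 b1 h1
    obtain ⟨x2, hx2, hx2a, hx2b⟩ := hM c1 d1 h2
    refine ⟨⟨x2 * x1⁻¹, G.mul_mem hx2 (G.inv_mem hx1)⟩, ?_, ?_⟩
    · show (x2 * x1⁻¹) a1 = c1
      rw [Perm.mul_apply, ← hx1a, perm_inv_apply_self, hx2a]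
    · show (x2 * x1⁻¹) b1 = d1
      rw [Perm.mul_apply, ← hx1b, perm_inv_apply_self, hx2b]

end main

end Cfsg.Agent.Lib.H2.W2P
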