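import Mathlib

/-!
# S2244 piece BAD21 (helper2 for helper29), with the machinery shared with BAD31

Everything is computed in the quotient `N_G(N') / N'`, where the one-parameter subgroups become honest commuting
additive maps; the product of two (resp. three) of the given elements, with suitable parameters, is `xb z`.
-/

set_option autoImplicit false

namespace Cfsg.Agent.Lib.H2.Wc

/-! ### Products of commuting additive maps -/

theorem wc_map_zero {A Q : Type*} [AddMonoid A] [Group Q] (f : A → Q)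
    (hf : ∀ s t, f (s + t) = f s * f t) : f 0 = 1 := by
  have h := hf 0 0
  rw [add_zero] at h
  have h2 := congrArg (fun x => (f 0)⁻¹ * x) h
  simpa using h2.symm

theorem wc_pair_mul {A B Q : Type*} [Add A] [Add B] [Monoid Q] (f : A → Q) (g : B → Q)
    (hf : ∀ s t, f (s + t) = f s * f t) (hg : ∀ s t, g (s + t) = g s * g t)
    (hc : ∀ v w, Commute (f v) (g w)) (a a' : A) (b b' : B) :
    (f a * g b) * (f a' * g b') = f (a + a') * g (b + b') := by
  rw [hf, hg]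
  exact ((hc a' b).symm).mul_mul_mul_comm (f a) (g b')

theorem wc_exists_notMem {F : Type*} [Fintype F] [DecidableEq F] (S : Finset F)
    (h : S.card < Fintype.card F) : ∃ x, x ∉ S := by
  by_contra hcon
  have hcon' : ∀ x, x ∈ S := by
    intro x
    by_contra hx
    exact hcon ⟨x, hx⟩
  have h2 : Fintype.card F ≤ S.card := by
    rw [← Finset.card_univ]
    exact Finset.card_le_card (fun x _ => hcon' x)
  omega

/-- the abstract core of BAD21, in a group where the two one-parameter subgroups commute -/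
theorem wc_core2 {F : Type*} [Field F] [Fintype F] (hq : 3 ≤ Fintype.card F) {Q : Type*} [Group Q]
    (Y : Subgroup Q) (Xm Xb : F → Q)
    (hXm : ∀ s t, Xm (s + t) = Xm s * Xm t) (hXb : ∀ s t, Xb (s + t) = Xb s * Xb t)
    (hc : ∀ v w, Commute (Xm v) (Xb w)) (a b : F) (hb : b ≠ 0)
    (H : ∀ t u : F, Xm (a * (t * u)) * Xb (b * (t ^ 2 * u)) ∈ Y) (z : F) : Xb z ∈ Y := by
  classical
  obtain ⟨ζ, hζ⟩ := wc_exists_notMem ({0, 1} : Finset F) (lt_of_le_of_lt Finset.card_le_two hq)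
  have hζ0 : ζ ≠ 0 := fun h => hζ (by simp [h])
  have hζ1 : ζ ≠ 1 := fun h => hζ (by simp [h])
  have h1ζ : 1 - ζ ≠ 0 := sub_ne_zero.mpr (Ne.symm hζ1)
  have hT := Y.mul_mem (H 1 (z / (b * (1 - ζ)))) (H ζ (-(z / (b * (1 - ζ))) / ζ))
  rw [wc_pair_mul Xm Xb hXm hXb hc] at hT
  have e1 : a * (1 * (z / (b * (1 - ζ)))) + a * (ζ * (-(z / (b * (1 - ζ))) / ζ)) = 0 := by
    field_simp
    ring
  have e2 : b * (1 ^ 2 * (z / (b * (1 - ζ)))) + b * (ζ ^ 2 * (-(z / (b * (1 - ζ))) / ζ)) = z := by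
    field_simp
    ring
  rw [e1, e2, wc_map_zero Xm hXm, one_mul] at hT
  exact hT

/-! ### The quotient `N_G(N') / N'` -/

section Quot

variable {G : Type*} [Group G] (N' : Subgroup G)

/-- the quotient of the normalizer of `N'` by `N'` -/
abbrev NQ : Type _ :=
  ↥(Subgroup.normalizer (N' : Set G)) ⧸ (N'.subgroupOf (Subgroup.normalizer (N' : Set G)))

/-- the projection, on elements of `G` known to normalize `N'` -/
def qmk (g : G) (hg : g ∈ Subgroup.normalizer (N' : Set G)) : NQ N' :=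
  QuotientGroup.mk' (N'.subgroupOf (Subgroup.normalizer (N' : Set G))) ⟨g, hg⟩

/-- the image of a subgroup in the quotient -/
def qimg (Y : Subgroup G) : Subgroup (NQ N') :=
  (Y.subgroupOf (Subgroup.normalizer (N' : Set G))).map
    (QuotientGroup.mk' (N'.subgroupOf (Subgroup.normalizer (N' : Set G))))

theorem qmk_mul {g h : G} (hg : g ∈ Subgroup.normalizer (N' : Set G))
    (hh : h ∈ Subgroup.normalizer (N' : Set G)) :
    qmk N' (g * h) (mul_mem hg hh) = qmk N' g hg * qmk N' h hh := by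
  unfold qmk
  rw [← map_mul]
  rfl

theorem qmk_congr {g h : G} (e : g = h) (hg : g ∈ Subgroup.normalizer (N' : Set G))
    (hh : h ∈ Subgroup.normalizer (N' : Set G)) : qmk N' g hg = qmk N' h hh := by
  subst e
  rfl

theorem qmk_eq_one {g : G} (hg : g ∈ Subgroup.normalizer (N' : Set G)) (hgN : g ∈ N') :
    qmk N' g hg = 1 := by
  unfold qmk
  rw [QuotientGroup.mk'_apply, QuotientGroup.eq_one_iff, Subgroup.mem_subgroupOf]
  exact hgN

theorem qmk_mem (Y : Subgroup G) {g : G} (hg : g ∈ Subgroup.normalizer (N' : Set G)) (hgY : g ∈ Y) :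
    qmk N' g hg ∈ qimg N' Y :=
  ⟨⟨g, hg⟩, by rw [SetLike.mem_coe, Subgroup.mem_subgroupOf]; exact hgY, rfl⟩

theorem mem_of_qmk_mem (Y : Subgroup G) (hN'Y : N' ≤ Y) {g : G}
    (hg : g ∈ Subgroup.normalizer (N' : Set G)) (h : qmk N' g hg ∈ qimg N' Y) : g ∈ Y := by
  obtain ⟨y, hy, hyg⟩ := h
  rw [SetLike.mem_coe, Subgroup.mem_subgroupOf] at hy
  unfold qmk at hyg
  rw [QuotientGroup.mk'_apply, QuotientGroup.mk'_apply, QuotientGroup.eq, Subgroup.mem_subgroupOf] at hyg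
  have h1 : (y : G)⁻¹ * g ∈ Y := hN'Y hyg
  have h2 : g = (y : G) * ((y : G)⁻¹ * g) := by group
  rw [h2]
  exact Y.mul_mem hy h1

theorem qmk_commute {g h : G} (hg : g ∈ Subgroup.normalizer (N' : Set G))
    (hh : h ∈ Subgroup.normalizer (N' : Set G)) (hc : g * h * g⁻¹ * h⁻¹ ∈ N') :
    Commute (qmk N' g hg) (qmk N' h hh) := by
  have h1 : qmk N' (g * h * g⁻¹ * h⁻¹)
      (mul_mem (mul_mem (mul_mem hg hh) (inv_mem hg)) (inv_mem hh)) = 1 := qmk_eq_one N' _ hc
  have h2 : qmk N' (g * h * g⁻¹ * h⁻¹)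
      (mul_mem (mul_mem (mul_mem hg hh) (inv_mem hg)) (inv_mem hh)) =
      qmk N' g hg * qmk N' h hh * (qmk N' g hg)⁻¹ * (qmk N' h hh)⁻¹ := by
    unfold qmk
    rw [← map_inv, ← map_inv, ← map_mul, ← map_mul, ← map_mul]
    rfl
  rw [h2] at h1
  show qmk N' g hg * qmk N' h hh = qmk N' h hh * qmk N' g hg
  calc qmk N' g hg * qmk N' h hh
      = (qmk N' g hg * qmk N' h hh * (qmk N' g hg)⁻¹ * (qmk N' h hh)⁻¹) *
          (qmk N' h hh * qmk N' g hg) := by group
    _ = qmk N' h hh * qmk N' g hg := by rw [h1, one_mul]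

end Quot

/-- **BAD21**. -/
theorem bad21 {F : Type*} [Field F] [Fintype F] (hq : 3 ≤ Fintype.card F) {G : Type*} [Group G]
    (U Y N' : Subgroup G) (hN'Y : N' ≤ Y)
    (hN' : ∀ g ∈ U, ∀ x ∈ N', g * x * g⁻¹ ∈ N')
    (xm xb : F → G) (hxmU : ∀ t, xm t ∈ U) (hxbU : ∀ t, xb t ∈ U)
    (hxm : ∀ s t, xm (s + t) = xm s * xm t) (hxb : ∀ s t, xb (s + t) = xb s * xb t)
    (hcen : ∀ g ∈ U, ∀ w, g * xb w * g⁻¹ * (xb w)⁻¹ ∈ N')
    (a b : F) (hb : b ≠ 0)
    (H : ∀ t u : F, ∃ m ∈ N', xm (a * (t * u)) * xb (b * (t ^ 2 * u)) * m ∈ Y)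
    (z : F) : xb z ∈ Y := by
  have hUV : U ≤ Subgroup.normalizer (N' : Set G) := Subgroup.le_normalizer_iff.mpr hN'
  have hNV : N' ≤ Subgroup.normalizer (N' : Set G) := Subgroup.le_normalizer
  refine mem_of_qmk_mem N' Y hN'Y (hUV (hxbU z)) ?_
  refine wc_core2 hq (qimg N' Y) (fun t => qmk N' (xm t) (hUV (hxmU t)))
    (fun t => qmk N' (xb t) (hUV (hxbU t))) ?_ ?_ ?_ a b hb ?_ z
  · intro s t
    show qmk N' (xm (s + t)) _ = qmk N' (xm s) _ * qmk N' (xm t) _
    rw [← qmk_mul]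
    exact qmk_congr N' (hxm s t) _ _
  · intro s t
    show qmk N' (xb (s + t)) _ = qmk N' (xb s) _ * qmk N' (xb t) _
    rw [← qmk_mul]
    exact qmk_congr N' (hxb s t) _ _
  · intro v w
    exact qmk_commute N' _ _ (hcen _ (hxmU v) w)
  · intro t u
    obtain ⟨m, hm, hY⟩ := H t u
    have h1 := qmk_mem N' Y (mul_mem (mul_mem (hUV (hxmU _)) (hUV (hxbU _))) (hNV hm)) hY
    rw [qmk_mul N' (mul_mem (hUV (hxmU _)) (hUV (hxbU _))) (hNV hm), qmk_eq_one N' (hNV hm) hm,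
      mul_one, qmk_mul N' (hUV (hxmU _)) (hUV (hxbU _))] at h1
    exact h1

end Cfsg.Agent.Lib.H2.Wc
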