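import Mathlib
import Cfsg.Agent.Lib.H2.WcBAD21

/-!
# S2244 piece BAD31 (helper2 for helper29)

As BAD21 (machinery in `Lib/H2/WcBAD21.lean`), with three one-parameter subgroups and Lagrange-interpolation weights at
three distinct non-zero points `1, s, r` of `F` (`|F| ≥ 4`).
-/

set_option autoImplicit false

namespace Cfsg.Agent.Lib.H2.Wc

/-- the abstract core of BAD31, in a group where the three one-parameter subgroups commute -/
theorem wc_core3 {F : Type*} [Field F] [Fintype F] (hq : 4 ≤ Fintype.card F) {Q : Type*} [Group Q]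
    (Y : Subgroup Q) (X1 X2 Xb : F → Q)
    (hX1 : ∀ s t, X1 (s + t) = X1 s * X1 t) (hX2 : ∀ s t, X2 (s + t) = X2 s * X2 t)
    (hXb : ∀ s t, Xb (s + t) = Xb s * Xb t)
    (h12 : ∀ v w, Commute (X1 v) (X2 w)) (h1b : ∀ v w, Commute (X1 v) (Xb w))
    (h2b : ∀ v w, Commute (X2 v) (Xb w)) (a1 a2 b : F) (hb : b ≠ 0)
    (H : ∀ t u : F, X1 (a1 * (t * u)) * X2 (a2 * (t ^ 2 * u)) * Xb (b * (t ^ 3 * u)) ∈ Y) (z : F) :
    Xb z ∈ Y := by
  classical
  obtain ⟨s, hs⟩ := wc_exists_notMem ({0, 1} : Finset F)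
    (lt_of_le_of_lt Finset.card_le_two (by omega))
  obtain ⟨r, hr⟩ := wc_exists_notMem ({0, 1, s} : Finset F)
    (lt_of_le_of_lt Finset.card_le_three (by omega))
  have hs0 : s ≠ 0 := fun h => hs (by simp [h])
  have hs1 : s ≠ 1 := fun h => hs (by simp [h])
  have hr0 : r ≠ 0 := fun h => hr (by simp [h])
  have hr1 : r ≠ 1 := fun h => hr (by simp [h])
  have hrs : r ≠ s := fun h => hr (by simp [h])
  have d1 : 1 - s ≠ 0 := sub_ne_zero.mpr (Ne.symm hs1)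
  have d2 : 1 - r ≠ 0 := sub_ne_zero.mpr (Ne.symm hr1)
  have d3 : s - 1 ≠ 0 := sub_ne_zero.mpr hs1
  have d4 : s - r ≠ 0 := sub_ne_zero.mpr (Ne.symm hrs)
  have d5 : r - 1 ≠ 0 := sub_ne_zero.mpr hr1
  have d6 : r - s ≠ 0 := sub_ne_zero.mpr hrs
  -- the pair `(X1, X2)` as one additive map on `F × F`
  have hf : ∀ x y : F × F, X1 (x + y).1 * X2 (x + y).2 = (X1 x.1 * X2 x.2) * (X1 y.1 * X2 y.2) := by
    intro x y
    rw [wc_pair_mul X1 X2 hX1 hX2 h12]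
    rfl
  have hfb : ∀ (x : F × F) (w : F), Commute (X1 x.1 * X2 x.2) (Xb w) :=
    fun x w => (h1b x.1 w).mul_left (h2b x.2 w)
  have hT := Y.mul_mem (Y.mul_mem (H 1 (z / b / (1 * ((1 - s) * (1 - r)))))
    (H s (z / b / (s * ((s - 1) * (s - r)))))) (H r (z / b / (r * ((r - 1) * (r - s)))))
  have key := wc_pair_mul (fun x : F × F => X1 x.1 * X2 x.2) Xb hf hXb hfb
  have k1 := key (a1 * (1 * (z / b / (1 * ((1 - s) * (1 - r))))),
      a2 * (1 ^ 2 * (z / b / (1 * ((1 - s) * (1 - r))))))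
    (a1 * (s * (z / b / (s * ((s - 1) * (s - r))))), a2 * (s ^ 2 * (z / b / (s * ((s - 1) * (s - r))))))
    (b * (1 ^ 3 * (z / b / (1 * ((1 - s) * (1 - r)))))) (b * (s ^ 3 * (z / b / (s * ((s - 1) * (s - r))))))
  simp only [Prod.mk_add_mk] at k1
  rw [k1] at hT
  have k2 := key (a1 * (1 * (z / b / (1 * ((1 - s) * (1 - r))))) +
        a1 * (s * (z / b / (s * ((s - 1) * (s - r))))),
      a2 * (1 ^ 2 * (z / b / (1 * ((1 - s) * (1 - r))))) +
        a2 * (s ^ 2 * (z / b / (s * ((s - 1) * (s - r))))))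
    (a1 * (r * (z / b / (r * ((r - 1) * (r - s))))), a2 * (r ^ 2 * (z / b / (r * ((r - 1) * (r - s))))))
    (b * (1 ^ 3 * (z / b / (1 * ((1 - s) * (1 - r))))) + b * (s ^ 3 * (z / b / (s * ((s - 1) * (s - r))))))
    (b * (r ^ 3 * (z / b / (r * ((r - 1) * (r - s))))))
  simp only [Prod.mk_add_mk] at k2
  rw [k2] at hT
  have e1 : a1 * (1 * (z / b / (1 * ((1 - s) * (1 - r))))) +
      a1 * (s * (z / b / (s * ((s - 1) * (s - r))))) +
      a1 * (r * (z / b / (r * ((r - 1) * (r - s))))) = 0 := by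
    field_simp
    ring
  have e2 : a2 * (1 ^ 2 * (z / b / (1 * ((1 - s) * (1 - r))))) +
      a2 * (s ^ 2 * (z / b / (s * ((s - 1) * (s - r))))) +
      a2 * (r ^ 2 * (z / b / (r * ((r - 1) * (r - s))))) = 0 := by
    field_simp
    ring
  have e3 : b * (1 ^ 3 * (z / b / (1 * ((1 - s) * (1 - r))))) +
      b * (s ^ 3 * (z / b / (s * ((s - 1) * (s - r))))) +
      b * (r ^ 3 * (z / b / (r * ((r - 1) * (r - s))))) = z := by
    field_simp
    ring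
  rw [e1, e2, e3, wc_map_zero X1 hX1, wc_map_zero X2 hX2, one_mul, one_mul] at hT
  exact hT

/-- **BAD31**. -/
theorem bad31 {F : Type*} [Field F] [Fintype F] (hq : 4 ≤ Fintype.card F) {G : Type*} [Group G]
    (U Y N' : Subgroup G) (hN'Y : N' ≤ Y)
    (hN' : ∀ g ∈ U, ∀ x ∈ N', g * x * g⁻¹ ∈ N')
    (x1 x2 xb : F → G) (hx1U : ∀ t, x1 t ∈ U) (hx2U : ∀ t, x2 t ∈ U) (hxbU : ∀ t, xb t ∈ U)
    (hx1 : ∀ s t, x1 (s + t) = x1 s * x1 t) (hx2 : ∀ s t, x2 (s + t) = x2 s * x2 t)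
    (hxb : ∀ s t, xb (s + t) = xb s * xb t)
    (hcen : ∀ g ∈ U, ∀ w, g * xb w * g⁻¹ * (xb w)⁻¹ ∈ N')
    (hcomm : ∀ v w, x1 v * x2 w * (x1 v)⁻¹ * (x2 w)⁻¹ ∈ N')
    (a1 a2 b : F) (hb : b ≠ 0)
    (H : ∀ t u : F, ∃ m ∈ N', x1 (a1 * (t * u)) * x2 (a2 * (t ^ 2 * u)) * xb (b * (t ^ 3 * u)) * m ∈ Y)
    (z : F) : xb z ∈ Y := by
  have hUV : U ≤ Subgroup.normalizer (N' : Set G) := Subgroup.le_normalizer_iff.mpr hN'
  have hNV : N' ≤ Subgroup.normalizer (N' : Set G) := Subgroup.le_normalizer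
  refine mem_of_qmk_mem N' Y hN'Y (hUV (hxbU z)) ?_
  refine wc_core3 hq (qimg N' Y) (fun t => qmk N' (x1 t) (hUV (hx1U t)))
    (fun t => qmk N' (x2 t) (hUV (hx2U t))) (fun t => qmk N' (xb t) (hUV (hxbU t)))
    ?_ ?_ ?_ ?_ ?_ ?_ a1 a2 b hb ?_ z
  · intro s t
    show qmk N' (x1 (s + t)) _ = qmk N' (x1 s) _ * qmk N' (x1 t) _
    rw [← qmk_mul]
    exact qmk_congr N' (hx1 s t) _ _
  · intro s t
    show qmk N' (x2 (s + t)) _ = qmk N' (x2 s) _ * qmk N' (x2 t) _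
    rw [← qmk_mul]
    exact qmk_congr N' (hx2 s t) _ _
  · intro s t
    show qmk N' (xb (s + t)) _ = qmk N' (xb s) _ * qmk N' (xb t) _
    rw [← qmk_mul]
    exact qmk_congr N' (hxb s t) _ _
  · intro v w
    exact qmk_commute N' _ _ (hcomm v w)
  · intro v w
    exact qmk_commute N' _ _ (hcen _ (hx1U v) w)
  · intro v w
    exact qmk_commute N' _ _ (hcen _ (hx2U v) w)
  · intro t u
    obtain ⟨m, hm, hY⟩ := H t u
    have h1 := qmk_mem N' Y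
      (mul_mem (mul_mem (mul_mem (hUV (hx1U _)) (hUV (hx2U _))) (hUV (hxbU _))) (hNV hm)) hY
    rw [qmk_mul N' (mul_mem (mul_mem (hUV (hx1U _)) (hUV (hx2U _))) (hUV (hxbU _))) (hNV hm),
      qmk_eq_one N' (hNV hm) hm, mul_one,
      qmk_mul N' (mul_mem (hUV (hx1U _)) (hUV (hx2U _))) (hUV (hxbU _)),
      qmk_mul N' (hUV (hx1U _)) (hUV (hx2U _))] at h1
    exact h1

end Cfsg.Agent.Lib.H2.Wc
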