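/-
S2524 piece (E+) core (helper2; architecture independent, on top of helper20's S2347 Weil library):
the Schroedinger operators `hop ψ u` are linearly independent and span `End(S)`, `∑ u, hop ψ u = q^n • par`,
and an operator commuting with every intertwiner `Yop ψ g` (g ∈ Sp_2n(F), 2 ≠ 0, ψ ≠ 1) lies in `span(1, par)`.
-/
import Cfsg.Agent.Lib.H2.WeilW5
import Cfsg.Agent.Lib.H2.SpTrans

set_option autoImplicit false

namespace Cfsg.Agent.Lib.H2.Weil

open Matrix Cfsg.Agent.Lib.H12.LS2 Cfsg.Agent.Lib.H20.Weil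
open Cfsg.Agent.Lib.H5.Weil Cfsg.Agent.Lib.H1.Weil

variable {F : Type*} [Field F] [Fintype F] {n : ℕ}

/-- trace orthogonality of the Schroedinger operators -/
theorem trace_hop_mul_hop_neg (h2 : (2 : F) ≠ 0) (ψ : AddChar F ℂ) (hψ : ψ ≠ 1)
    (u v : Fin n ⊕ Fin n → F) [Decidable (u = v)] :
    LinearMap.trace ℂ ((Fin n → F) → ℂ) (hop ψ u * hop ψ (-v)) =
      if u = v then (Fintype.card F : ℂ) ^ n else 0 := by
  split_ifs with h
  · rw [h, hop_mul_neg h2, ← hop_zero ψ, trace_hop_zero]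
  · rw [hop_mul h2, map_smul, trace_hop_ne ψ hψ, smul_zero]
    intro h0
    apply h
    have : u = u + -v + v := by abel
    rw [this, h0, zero_add]

theorem card_ne_zero_C : ((Fintype.card F : ℂ) ^ n) ≠ 0 := by
  apply pow_ne_zero
  rw [Nat.cast_ne_zero]
  exact Fintype.card_ne_zero

/-- the coefficients of a linear combination of Schroedinger operators are determined by traces -/
theorem coeff_eq_trace (h2 : (2 : F) ≠ 0) (ψ : AddChar F ℂ) (hψ : ψ ≠ 1)
    (c : (Fin n ⊕ Fin n → F) → ℂ) (v : Fin n ⊕ Fin n → F) :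
    LinearMap.trace ℂ ((Fin n → F) → ℂ) ((∑ u, c u • hop ψ u) * hop ψ (-v)) =
      c v * (Fintype.card F : ℂ) ^ n := by
  classical
  rw [Finset.sum_mul, map_sum]
  simp_rw [smul_mul_assoc, map_smul, trace_hop_mul_hop_neg h2 ψ hψ, smul_eq_mul, mul_ite, mul_zero]
  rw [Finset.sum_ite_eq' Finset.univ v]
  simp

theorem hop_linearIndependent (h2 : (2 : F) ≠ 0) (ψ : AddChar F ℂ) (hψ : ψ ≠ 1) :
    LinearIndependent ℂ (fun u : Fin n ⊕ Fin n → F => hop ψ u) := by
  classical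
  rw [Fintype.linearIndependent_iff]
  intro c hc v
  have h := coeff_eq_trace h2 ψ hψ c v
  rw [hc, zero_mul, map_zero] at h
  rcases mul_eq_zero.1 h.symm with h | h
  · exact h
  · exact absurd h card_ne_zero_C

theorem hop_span (h2 : (2 : F) ≠ 0) (ψ : AddChar F ℂ) (hψ : ψ ≠ 1) :
    Submodule.span ℂ (Set.range (fun u : Fin n ⊕ Fin n → F => hop ψ u)) = ⊤ := by
  classical
  apply (hop_linearIndependent h2 ψ hψ).span_eq_top_of_card_eq_finrank'
  rw [Module.finrank_linearMap, Module.finrank_fintype_fun_eq_card]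
  simp only [Fintype.card_fun, Fintype.card_sum, Fintype.card_fin]
  rw [← pow_add]

/-- every operator is a linear combination of Schroedinger operators -/
theorem exists_hop_coeff (h2 : (2 : F) ≠ 0) (ψ : AddChar F ℂ) (hψ : ψ ≠ 1)
    (T : Module.End ℂ ((Fin n → F) → ℂ)) :
    ∃ c : (Fin n ⊕ Fin n → F) → ℂ, T = ∑ u, c u • hop ψ u := by
  classical
  have h : T ∈ Submodule.span ℂ (Set.range (fun u : Fin n ⊕ Fin n → F => hop ψ u)) := by
    rw [hop_span h2 ψ hψ]; trivial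
  obtain ⟨c, hc⟩ := (Submodule.mem_span_range_iff_exists_fun ℂ).1 h
  exact ⟨c, hc.symm⟩

/-- `∑ u, hop ψ u = q^n • par` -/
theorem sum_hop (h2 : (2 : F) ≠ 0) (ψ : AddChar F ℂ) (hψ : ψ ≠ 1) :
    ∑ u : Fin n ⊕ Fin n → F, hop ψ u = ((Fintype.card F : ℂ) ^ n) • (par : Module.End ℂ ((Fin n → F) → ℂ)) := by
  classical
  apply LinearMap.ext
  intro f
  funext x
  rw [LinearMap.sum_apply, Finset.sum_apply, LinearMap.smul_apply, Pi.smul_apply, par_apply, smul_eq_mul]
  simp_rw [hop_apply]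
  -- reindex by (a, b)
  let e : (Fin n ⊕ Fin n → F) ≃ (Fin n → F) × (Fin n → F) :=
    { toFun := fun u => (pA u, pB u)
      invFun := fun p => Sum.elim p.1 p.2
      left_inv := fun u => by
        funext i
        rcases i with i | i <;> rfl
      right_inv := fun p => rfl }
  rw [← Equiv.sum_comp e.symm, Fintype.sum_prod_type]
  have hA : ∀ a b : Fin n → F, pA (e.symm (a, b)) = a := fun a b => rfl
  have hB : ∀ a b : Fin n → F, pB (e.symm (a, b)) = b := fun a b => rfl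
  simp_rw [hA, hB]
  -- inner sum over b
  have hinner : ∀ a : Fin n → F,
      ∑ b : Fin n → F, ψ (b ⬝ᵥ x + 2⁻¹ * (a ⬝ᵥ b)) * f (x + a) =
        if x + (2 : F)⁻¹ • a = 0 then ((Fintype.card F : ℂ) ^ n) * f (x + a) else 0 := by
    intro a
    rw [← Finset.sum_mul]
    let φ : AddChar (Fin n → F) ℂ :=
      { toFun := fun b => ψ (b ⬝ᵥ (x + (2 : F)⁻¹ • a))
        map_zero_eq_one' := by simp
        map_add_eq_mul' := by
          intro b b'
          rw [add_dotProduct, AddChar.map_add_eq_mul] }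
    have hφ : ∀ b, ψ (b ⬝ᵥ x + 2⁻¹ * (a ⬝ᵥ b)) = φ b := by
      intro b
      show _ = ψ (b ⬝ᵥ (x + (2 : F)⁻¹ • a))
      rw [dotProduct_add, dotProduct_smul, smul_eq_mul, dotProduct_comm a b]
    simp_rw [hφ]
    split_ifs with h0
    · have : ∀ b, φ b = 1 := by
        intro b
        show ψ (b ⬝ᵥ (x + (2 : F)⁻¹ • a)) = 1
        rw [h0, dotProduct_zero, AddChar.map_zero_eq_one]
      simp_rw [this]
      simp
    · have hne : φ ≠ 1 := by
        intro h1
        obtain ⟨i, hi⟩ : ∃ i, (x + (2 : F)⁻¹ • a) i ≠ 0 := by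
          by_contra hcon
          push Not at hcon
          exact h0 (funext hcon)
        obtain ⟨t, ht⟩ : ∃ t : F, ψ t ≠ 1 := by
          by_contra hcon
          push Not at hcon
          exact hψ (DFunLike.ext _ _ (fun t => by rw [hcon t]; rfl))
        apply ht
        have h3 := DFunLike.congr_fun h1 (Pi.single i (t / (x + (2 : F)⁻¹ • a) i))
        have h4 : (Pi.single i (t / (x + (2 : F)⁻¹ • a) i) : Fin n → F) ⬝ᵥ (x + (2 : F)⁻¹ • a) = t := by
          rw [single_dotProduct, div_mul_cancel₀ _ hi]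
        have h5 : φ (Pi.single i (t / (x + (2 : F)⁻¹ • a) i)) = ψ t := by
          show ψ _ = ψ t
          rw [h4]
        rw [← h5, h3]; rfl
      rw [AddChar.sum_eq_zero_of_ne_one hne, zero_mul]
  simp_rw [hinner]
  -- only a = -2 x contributes
  have hiff : ∀ a : Fin n → F, x + (2 : F)⁻¹ • a = 0 ↔ a = -((2 : F) • x) := by
    intro a
    constructor
    · intro h
      have h1 : (2 : F)⁻¹ • a = -x := by
        rw [eq_neg_iff_add_eq_zero, add_comm]; exact h
      have h3 : a = (2 : F) • ((2 : F)⁻¹ • a) := by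
        rw [smul_smul, mul_inv_cancel₀ h2, one_smul]
      rw [h3, h1, smul_neg]
    · intro h
      rw [h, smul_neg, smul_smul, inv_mul_cancel₀ h2, one_smul, add_neg_cancel]
  simp_rw [hiff]
  rw [Finset.sum_ite_eq' Finset.univ (-((2 : F) • x))]
  simp only [Finset.mem_univ, if_true]
  congr 2
  rw [two_smul]; abel

/-- conjugation of a Schroedinger operator by the intertwiner -/
theorem Yop_mul_sum_hop (h2 : (2 : F) ≠ 0) (ψ : AddChar F ℂ) (g : Matrix.symplecticGroup (Fin n) F)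
    (c : (Fin n ⊕ Fin n → F) → ℂ) :
    Yop ψ g.1 * (∑ u, c u • hop ψ u) = (∑ u, c u • hop ψ (g.1 *ᵥ u)) * Yop ψ g.1 := by
  rw [Finset.mul_sum, Finset.sum_mul]
  refine Finset.sum_congr rfl fun u _ => ?_
  rw [mul_smul_comm, smul_mul_assoc, hop_mul_Yop h2]

/-- `u ↦ g u` as a permutation of the phase space -/
noncomputable def mulVecEquiv (g : Matrix.symplecticGroup (Fin n) F) :
    (Fin n ⊕ Fin n → F) ≃ (Fin n ⊕ Fin n → F) where
  toFun u := g.1 *ᵥ u
  invFun u := (g⁻¹).1 *ᵥ u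
  left_inv u := by
    show (g⁻¹).1 *ᵥ (g.1 *ᵥ u) = u
    rw [mulVec_mulVec]
    have : (g⁻¹).1 * g.1 = (g⁻¹ * g).1 := rfl
    rw [this, inv_mul_cancel]
    simp
  right_inv u := by
    show g.1 *ᵥ ((g⁻¹).1 *ᵥ u) = u
    rw [mulVec_mulVec]
    have : g.1 * (g⁻¹).1 = (g * g⁻¹).1 := rfl
    rw [this, mul_inv_cancel]
    simp

/-- **the commutant of the intertwiners** is spanned by `1` and `par` -/
theorem commutant_Yop (h2 : (2 : F) ≠ 0) (ψ : AddChar F ℂ) (hψ : ψ ≠ 1)
    (T : Module.End ℂ ((Fin n → F) → ℂ))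
    (hT : ∀ g : Matrix.symplecticGroup (Fin n) F, T * Yop ψ g.1 = Yop ψ g.1 * T) :
    ∃ α β : ℂ, T = α • 1 + β • par := by
  classical
  obtain ⟨c, hc⟩ := exists_hop_coeff h2 ψ hψ T
  -- invariance of the coefficients
  have hinv : ∀ (g : Matrix.symplecticGroup (Fin n) F) (u : Fin n ⊕ Fin n → F),
      c (g.1 *ᵥ u) = c u := by
    intro g u
    have h1 := hT g
    rw [hc, Yop_mul_sum_hop h2] at h1
    have h3 : (∑ u, c u • hop ψ u) = ∑ u, c u • hop ψ (g.1 *ᵥ u) :=
      (isUnit_Yop h2 ψ hψ g).mul_left_injective h1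
    have h5 : (∑ u, c u • hop ψ (g.1 *ᵥ u)) = ∑ u, c ((g⁻¹).1 *ᵥ u) • hop ψ u := by
      rw [← Equiv.sum_comp (mulVecEquiv g) (fun u => c ((g⁻¹).1 *ᵥ u) • hop ψ u)]
      refine Finset.sum_congr rfl fun u _ => ?_
      show _ = c ((g⁻¹).1 *ᵥ (g.1 *ᵥ u)) • hop ψ (g.1 *ᵥ u)
      have : (g⁻¹).1 *ᵥ (g.1 *ᵥ u) = u := (mulVecEquiv g).left_inv u
      rw [this]
    rw [h5] at h3
    have h6 : ∑ u, (c u - c ((g⁻¹).1 *ᵥ u)) • hop ψ u = 0 := by
      have hsub : ∀ u, (c u - c ((g⁻¹).1 *ᵥ u)) • hop ψ u =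
          c u • hop ψ u - c ((g⁻¹).1 *ᵥ u) • hop ψ u := fun u => by module
      simp_rw [hsub]
      rw [Finset.sum_sub_distrib, ← h3, sub_self]
    have h7 := (Fintype.linearIndependent_iff.1 (hop_linearIndependent h2 ψ hψ)) _ h6 (g.1 *ᵥ u)
    have h8 : (g⁻¹).1 *ᵥ (g.1 *ᵥ u) = u := (mulVecEquiv g).left_inv u
    rw [h8, sub_eq_zero] at h7
    exact h7
  -- constant on non-zero vectors
  have hconst : ∀ u v : Fin n ⊕ Fin n → F, u ≠ 0 → v ≠ 0 → c u = c v := by
    intro u v hu hv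
    obtain ⟨g, hg⟩ := Cfsg.Agent.Lib.H2.Sp.transitive n u v hu hv
    rw [← hg, hinv]
  by_cases hex : ∃ u0 : Fin n ⊕ Fin n → F, u0 ≠ 0
  · obtain ⟨u0, hu0⟩ := hex
    refine ⟨c 0 - c u0, c u0 * ((Fintype.card F : ℂ) ^ n), ?_⟩
    have hsum := sum_hop (n := n) h2 ψ hψ
    have h9 : T = (c 0 - c u0) • hop ψ 0 + c u0 • ∑ u, hop ψ u := by
      have e1 : ∑ u, c u • hop ψ u = c 0 • hop ψ 0 +
          ∑ u ∈ Finset.univ.erase (0 : Fin n ⊕ Fin n → F), c u • hop ψ u :=
        (Finset.add_sum_erase Finset.univ (fun u => c u • hop ψ u)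
          (Finset.mem_univ (0 : Fin n ⊕ Fin n → F))).symm
      have e2 : c u0 • ∑ u, hop ψ u = c u0 • hop ψ 0 +
          ∑ u ∈ Finset.univ.erase (0 : Fin n ⊕ Fin n → F), c u0 • hop ψ u := by
        rw [Finset.smul_sum]
        exact (Finset.add_sum_erase Finset.univ (fun u => c u0 • hop ψ u)
          (Finset.mem_univ (0 : Fin n ⊕ Fin n → F))).symm
      have h10 : ∑ u ∈ Finset.univ.erase (0 : Fin n ⊕ Fin n → F), c u • hop ψ u =
          ∑ u ∈ Finset.univ.erase (0 : Fin n ⊕ Fin n → F), c u0 • hop ψ u := by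
        refine Finset.sum_congr rfl fun u hu => ?_
        rw [hconst u u0 (Finset.ne_of_mem_erase hu) hu0]
      rw [hc, e1, e2, h10]
      module
    rw [h9, hsum, hop_zero, smul_smul]
  · push Not at hex
    refine ⟨c 0, 0, ?_⟩
    rw [hc, zero_smul, add_zero]
    have : ∀ u : Fin n ⊕ Fin n → F, u = 0 := hex
    rw [Finset.sum_eq_single (0 : Fin n ⊕ Fin n → F)]
    · rw [hop_zero]
    · intro u _ hu
      exact absurd (this u) hu
    · intro h
      exact absurd (Finset.mem_univ _) h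

/-- an operator commuting with all intertwiners and with `par` acts as a scalar on the even functions -/
theorem scalar_on_Splus (h2 : (2 : F) ≠ 0) (ψ : AddChar F ℂ) (hψ : ψ ≠ 1)
    (T : Module.End ℂ ((Fin n → F) → ℂ))
    (hT : ∀ g : Matrix.symplecticGroup (Fin n) F, T * Yop ψ g.1 = Yop ψ g.1 * T) :
    ∃ γ : ℂ, ∀ f ∈ Splus n F, T f = γ • f := by
  obtain ⟨α, β, hab⟩ := commutant_Yop h2 ψ hψ T hT
  refine ⟨α + β, fun f hf => ?_⟩
  rw [hab, LinearMap.add_apply, LinearMap.smul_apply, LinearMap.smul_apply, Module.End.one_apply, add_smul]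
  congr 2
  funext x
  rw [par_apply]
  exact hf x

/-- an operator commuting with all intertwiners acts as a scalar on the odd functions -/
theorem scalar_on_Sminus (h2 : (2 : F) ≠ 0) (ψ : AddChar F ℂ) (hψ : ψ ≠ 1)
    (T : Module.End ℂ ((Fin n → F) → ℂ))
    (hT : ∀ g : Matrix.symplecticGroup (Fin n) F, T * Yop ψ g.1 = Yop ψ g.1 * T) :
    ∃ γ : ℂ, ∀ f ∈ Sminus n F, T f = γ • f := by
  obtain ⟨α, β, hab⟩ := commutant_Yop h2 ψ hψ T hT
  refine ⟨α - β, fun f hf => ?_⟩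
  rw [hab, LinearMap.add_apply, LinearMap.smul_apply, LinearMap.smul_apply, Module.End.one_apply, sub_smul,
    sub_eq_add_neg]
  congr 1
  rw [← smul_neg]
  congr 1
  funext x
  rw [par_apply, Pi.neg_apply]
  exact hf x

end Cfsg.Agent.Lib.H2.Weil
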