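/-
helper2 library (Witt designs, part 5): uniqueness of the binary Golay code.
-/
import Mathlib
import Cfsg.Prelude.Def_Sporadic_a
import Cfsg.Agent.Lib.H2.Witt4

set_option autoImplicit false

namespace Cfsg.Agent.Lib.H2.Witt

open Cfsg Cfsg.Agent.Lib.H28

theorem supp_comp_symm {ι κ : Type*} [Fintype ι] [DecidableEq ι] [Fintype κ] [DecidableEq κ] (e : ι ≃ κ)
    (c : ι → ZMod 2) : supp (c ∘ e.symm) = (supp c).image e := by
  ext k
  rw [mem_supp, Finset.mem_image]
  constructor
  · intro h
    exact ⟨e.symm k, mem_supp.2 h, e.apply_symm_apply k⟩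
  · rintro ⟨i, hi, rfl⟩
    rw [Function.comp_apply, e.symm_apply_apply]
    exact mem_supp.1 hi

/-- If a bijection carries the octads of one abstract Golay code onto those of another, it carries the
first code into the second. -/
theorem comp_mem_of_octads {ι κ : Type*} [Fintype ι] [DecidableEq ι] [Fintype κ] [DecidableEq κ]
    {C : Submodule (ZMod 2) (ι → ZMod 2)} {C' : Submodule (ZMod 2) (κ → ZMod 2)}
    (hC : IsAbsGolay C) (e : ι ≃ κ)
    (he : ∀ b ∈ wordsOfWeight (C : Set (ι → ZMod 2)) 8, b.image e ∈ wordsOfWeight (C' : Set (κ → ZMod 2)) 8) :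
    ∀ c ∈ C, c ∘ e.symm ∈ C' := by
  have key : C ≤ Submodule.comap (LinearMap.funLeft (ZMod 2) (ZMod 2) e.symm) C' := by
    conv_lhs => rw [← span_octads hC]
    rw [Submodule.span_le]
    rintro c ⟨hc, hc8⟩
    have h1 : support₂ c ∈ wordsOfWeight (C : Set (ι → ZMod 2)) 8 := by
      refine ⟨⟨c, hc, rfl⟩, ?_⟩
      rw [← supp_eq_support₂, ← hammingNorm_eq_card_supp]
      exact hc8
    obtain ⟨⟨w, hw, hw'⟩, -⟩ := he _ h1
    have h2 : supp w = supp (c ∘ e.symm) := by
      rw [supp_comp_symm, supp_eq_support₂, supp_eq_support₂]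
      exact hw'
    have h3 : w = c ∘ e.symm := supp_injective h2
    show (LinearMap.funLeft (ZMod 2) (ZMod 2) e.symm) c ∈ C'
    have : (LinearMap.funLeft (ZMod 2) (ZMod 2) e.symm) c = c ∘ e.symm := rfl
    rw [this, ← h3]
    exact hw
  intro c hc
  exact key hc

/-- Uniqueness of the binary Golay code (statement S0375). -/
theorem golay_unique (C : Submodule (ZMod 2) (Fin 24 → ZMod 2))
    (hdim : Module.finrank (ZMod 2) C = 12) (horth : ∀ v ∈ C, ∀ w ∈ C, ∑ i, v i * w i = 0)
    (h4 : ∀ w ∈ C, 4 ∣ hammingNorm w) (hno4 : ∀ w ∈ C, hammingNorm w ≠ 4) :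
    ∃ e : Fin 24 ≃ GolayPt, ∀ w : GolayPt → ZMod 2, w ∈ golayCode ↔ (fun i => w (e i)) ∈ C := by
  have hC : IsAbsGolay C := by
    refine ⟨by simp, hdim, horth, fun w hw h0 => ?_⟩
    have h1 := h4 w hw
    have h2 := hno4 w hw
    have h3 : hammingNorm w ≠ 0 := by rwa [Ne, hammingNorm_eq_zero]
    omega
  have hS := steiner_wordsOfWeight hC
  obtain ⟨e, he⟩ := iso_octads (by simp) hS
  refine ⟨e, fun w => ⟨fun hw => ?_, fun hw => ?_⟩⟩
  · -- apply `comp_mem_of_octads` to `golayCode` and `e.symm`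
    have := comp_mem_of_octads golayCode_isAbsGolay e.symm (C' := C) (by
      intro b hb
      have hb' : b ∈ octads := hb
      rw [← he] at hb'
      obtain ⟨b0, hb0, rfl⟩ := hb'
      have : (b0.image e).image e.symm = b0 := by
        rw [Finset.image_image]; simp
      rw [this]; exact hb0) w hw
    exact this
  · have := comp_mem_of_octads hC e (C' := golayCode) (by
      intro b hb
      show b.image e ∈ octads
      rw [← he]
      exact ⟨b, hb, rfl⟩) _ hw
    have h2 : (fun i => w (e i)) ∘ e.symm = w := by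
      funext p
      simp
    rw [h2] at this
    exact this

end Cfsg.Agent.Lib.H2.Witt
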