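import Mathlib
import Cfsg.Agent.Lib.H2.Zass1

set_option autoImplicit false
set_option linter.unusedSectionVars false

/-!
# Zassenhaus groups: normal subgroups are 2-transitive; uniqueness of regular normal subgroups
-/

namespace Cfsg.Agent.Lib.H2.Zass

open MulAction Cfsg Cfsg.Agent.Lib.H2.FrobAct

variable {G Ω : Type*} [Group G] [MulAction G Ω]

section

variable (hP : Pre G Ω) [Finite Ω]

include hP in
theorem normal_two_transitive (hR : NoReg G Ω) (N : Subgroup G) [hN : N.Normal] (hne : N ≠ ⊥)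
    (a b c d : Ω) (hab : a ≠ b) (hcd : c ≠ d) : ∃ u ∈ N, u • a = c ∧ u • b = d := by
  obtain ⟨u₁, hu₁, hu₁a⟩ := normal_transitive hP N hne a c
  have hbc : u₁ • b ≠ c := by
    rw [← hu₁a]
    intro h
    exact hab (smul_left_cancel _ h).symm
  obtain ⟨k, hk, hkb⟩ := K_transitive hP c hbc (Ne.symm hcd)
  have hkN : k ∈ N := K_le_normal hP N hR hne c hk
  have hkc : k • c = c := K_le_stabilizer hP c hk
  refine ⟨k * u₁, N.mul_mem hkN hu₁, ?_, ?_⟩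
  · rw [mul_smul, hu₁a, hkc]
  · rw [mul_smul, hkb]

end

/-- `M` is a regular subgroup of `N` normalised by `N` -/
structure RegNormalIn (N M : Subgroup G) (Ω : Type*) [MulAction G Ω] : Prop where
  le : M ≤ N
  norm : ∀ n ∈ N, ∀ m ∈ M, n * m * n⁻¹ ∈ M
  trans : ∀ x y : Ω, ∃ m ∈ M, m • x = y
  reg : ∀ m ∈ M, ∀ x : Ω, m • x = x → m = 1

theorem RegNormalIn.conj {N M : Subgroup G} [hN : N.Normal] (h : RegNormalIn N M Ω) (g : G) :
    RegNormalIn N (M.map (MulAut.conj g).toMonoidHom) Ω where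
  le := by
    rintro _ ⟨m, hm, rfl⟩
    exact hN.conj_mem _ (h.le hm) g
  norm := by
    rintro n hn _ ⟨m, hm, rfl⟩
    refine ⟨(g⁻¹ * n * g) * m * (g⁻¹ * n * g)⁻¹, h.norm _ ?_ m hm, ?_⟩
    · have := hN.conj_mem _ hn g⁻¹
      simpa using this
    · simp only [MulEquiv.coe_toMonoidHom, MulAut.conj_apply]
      group
  trans := by
    intro x y
    obtain ⟨m, hm, hmx⟩ := h.trans (g⁻¹ • x) (g⁻¹ • y)
    refine ⟨g * m * g⁻¹, ⟨m, hm, rfl⟩, ?_⟩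
    rw [mul_smul, mul_smul, hmx, smul_inv_smul]
  reg := by
    rintro _ ⟨m, hm, rfl⟩ x hx
    simp only [MulEquiv.coe_toMonoidHom, MulAut.conj_apply] at hx ⊢
    have : m • (g⁻¹ • x) = g⁻¹ • x := by
      rw [mul_smul, mul_smul] at hx
      exact (smul_eq_iff_eq_inv_smul g).1 hx
    rw [h.reg m hm _ this]
    group

/-- a subgroup containing a transitive subgroup of a regular group -/
theorem RegNormalIn.le_of_transitive {N M : Subgroup G} (h : RegNormalIn N M Ω) {D : Subgroup G}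
    (hD : D ≤ M) (hDt : ∀ x y : Ω, ∃ d ∈ D, d • x = y) [Nonempty Ω] : M ≤ D := by
  intro m hm
  obtain ⟨x⟩ := ‹Nonempty Ω›
  obtain ⟨d, hd, hdx⟩ := hDt x (m • x)
  have h1 : (d⁻¹ * m) • x = x := by
    rw [mul_smul, ← hdx, inv_smul_smul]
  have h2 := h.reg _ (M.mul_mem (M.inv_mem (hD hd)) hm) x h1
  rw [inv_mul_eq_one] at h2
  rw [← h2]
  exact hd

/-- **Uniqueness of the regular normal subgroup** of a 2-transitive group in which only the
identity fixes three points. -/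
theorem regNormalIn_unique (hP : Pre G Ω) {N M₁ M₂ : Subgroup G}
    (hN2 : ∀ a b c d : Ω, a ≠ b → c ≠ d → ∃ u ∈ N, u • a = c ∧ u • b = d)
    (h1 : RegNormalIn N M₁ Ω) (h2 : RegNormalIn N M₂ Ω) : M₁ = M₂ := by
  by_contra hne
  obtain ⟨a, b, -, hab, -, -⟩ := exists_three hP
  have : Nonempty Ω := ⟨a⟩
  -- the intersection is trivial
  have hD : ∀ u ∈ M₁, u ∈ M₂ → u = 1 := by
    intro u hu1 hu2
    by_contra hu
    have : ∃ c : Ω, u • c ≠ c := by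
      by_contra hcon
      push Not at hcon
      exact hu (hP.faithful _ hcon)
    obtain ⟨c, hc⟩ := this
    have hDt : ∀ x y : Ω, ∃ d ∈ M₁ ⊓ M₂, d • x = y := by
      intro x y
      by_cases hxy : x = y
      · exact ⟨1, Subgroup.one_mem _, by rw [one_smul, hxy]⟩
      obtain ⟨g, hg, hgc, hguc⟩ := hN2 c (u • c) x y (Ne.symm hc) hxy
      refine ⟨g * u * g⁻¹, ⟨h1.norm g hg u hu1, h2.norm g hg u hu2⟩, ?_⟩
      rw [mul_smul, mul_smul, ← hgc, inv_smul_smul, hguc]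
    have e1 : M₁ ≤ M₁ ⊓ M₂ := h1.le_of_transitive inf_le_left hDt
    have e2 : M₂ ≤ M₁ ⊓ M₂ := h2.le_of_transitive inf_le_right hDt
    exact hne (le_antisymm (e1.trans inf_le_right) (e2.trans inf_le_left))
  -- the two subgroups commute
  have hcomm : ∀ m₁ ∈ M₁, ∀ m₂ ∈ M₂, m₁ * m₂ = m₂ * m₁ := by
    intro m₁ hm₁ m₂ hm₂
    have e1 : m₁ * m₂ * m₁⁻¹ * m₂⁻¹ ∈ M₂ :=
      M₂.mul_mem (h2.norm m₁ (h1.le hm₁) m₂ hm₂) (M₂.inv_mem hm₂)
    have e2 : m₁ * m₂ * m₁⁻¹ * m₂⁻¹ ∈ M₁ := by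
      have : m₁ * m₂ * m₁⁻¹ * m₂⁻¹ = m₁ * (m₂ * m₁⁻¹ * m₂⁻¹) := by group
      rw [this]
      exact M₁.mul_mem hm₁ (h1.norm m₂ (h2.le hm₂) _ (M₁.inv_mem hm₁))
    have e3 := hD _ e2 e1
    calc m₁ * m₂ = (m₁ * m₂ * m₁⁻¹ * m₂⁻¹) * (m₂ * m₁) := by group
      _ = m₂ * m₁ := by rw [e3, one_mul]
  -- every element of `M₁` is an involution
  have hsq : ∀ m₁ ∈ M₁, m₁ * m₁ = 1 := by
    intro m₁ hm₁
    by_contra hm
    have hm1 : m₁ ≠ 1 := by
      rintro rfl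
      exact hm (one_mul 1)
    obtain ⟨m₂, hm₂, hm₂a⟩ := h2.trans a (m₁ • a)
    have c := hcomm m₁ hm₁ m₂ hm₂
    have f1 : (m₁⁻¹ * m₂) • a = a := by rw [mul_smul, hm₂a, inv_smul_smul]
    have f2 : (m₁⁻¹ * m₂) • (m₁ • a) = m₁ • a := by
      rw [mul_smul, ← mul_smul m₂, ← c, mul_smul, hm₂a, inv_smul_smul]
    have f3 : (m₁⁻¹ * m₂) • (m₁ • m₁ • a) = m₁ • m₁ • a := by
      rw [mul_smul, ← mul_smul m₂, ← c, mul_smul m₁ m₂, ← mul_smul m₂, ← c, mul_smul m₁ m₂, hm₂a,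
        inv_smul_smul]
    have d1 : a ≠ m₁ • a := fun h => hm1 (h1.reg m₁ hm₁ a h.symm)
    have d2 : m₁ • a ≠ m₁ • m₁ • a := fun h => d1 (smul_left_cancel _ h)
    have d3 : a ≠ m₁ • m₁ • a := by
      intro h
      apply hm
      apply h1.reg _ (M₁.mul_mem hm₁ hm₁) a
      rw [mul_smul]
      exact h.symm
    have e := hP.three _ _ _ _ d1 d2 d3 f1 f2 f3
    rw [inv_mul_eq_one] at e
    exact hm1 (hD m₁ hm₁ (e ▸ hm₂))
  -- `M₁` is abelian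
  have hab1 : ∀ x ∈ M₁, ∀ y ∈ M₁, x * y = y * x := by
    intro x hx y hy
    have e1 := hsq x hx
    have e2 := hsq y hy
    have e3 := hsq (x * y) (M₁.mul_mem hx hy)
    calc x * y = (x * y)⁻¹ := (inv_eq_of_mul_eq_one_left e3).symm
      _ = y⁻¹ * x⁻¹ := mul_inv_rev _ _
      _ = y * x := by rw [inv_eq_of_mul_eq_one_left e1, inv_eq_of_mul_eq_one_left e2]
  -- a non-identity element of `M₂`
  obtain ⟨m₂, hm₂, hm₂ab⟩ := h2.trans a b
  obtain ⟨m₁, hm₁, hm₁a⟩ := h1.trans a (m₂ • a)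
  have hfix : ∀ z : Ω, (m₁⁻¹ * m₂) • z = z := by
    intro z
    obtain ⟨x, hx, hxz⟩ := h1.trans a z
    have c1 : (m₁⁻¹ * m₂) * x = x * (m₁⁻¹ * m₂) := by
      have e1 := hcomm x hx m₂ hm₂
      have e2 := hab1 x hx m₁⁻¹ (M₁.inv_mem hm₁)
      calc (m₁⁻¹ * m₂) * x = m₁⁻¹ * (m₂ * x) := by group
        _ = m₁⁻¹ * (x * m₂) := by rw [e1]
        _ = (m₁⁻¹ * x) * m₂ := by group
        _ = (x * m₁⁻¹) * m₂ := by rw [e2]
        _ = x * (m₁⁻¹ * m₂) := by group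
    rw [← hxz, ← mul_smul, c1, mul_smul, mul_smul m₁⁻¹, ← hm₁a, inv_smul_smul]
  have e := hP.faithful _ hfix
  rw [inv_mul_eq_one] at e
  have hm₂1 : m₂ = 1 := hD m₂ (e ▸ hm₁) hm₂
  rw [hm₂1, one_smul] at hm₂ab
  exact hab hm₂ab

end Cfsg.Agent.Lib.H2.Zass
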